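import Cfsg.Agent.Lib.Helper3.ChevData.G2Rel
import Cfsg.Agent.Lib.Helper3.ChevData.G2Tri
import Cfsg.Agent.Lib.Helper3.ChevData.G2ReflInv
import Cfsg.Agent.Lib.Helper3.ChevData.G2NegRefl
import Cfsg.Agent.Lib.Helper3.ChevData.G2Wp
import Cfsg.Agent.Lib.Helper3.ChevData.G2Ns
import Cfsg.Agent.Lib.Helper3.ChevData.G2Rwc
set_option autoImplicit false

namespace Cfsg.Agent.Lib.Helper3.ChevM

/-- The table checks for the monomial subgroup of type G2. -/
def monoG2 : MonoHyp cdG2 relG2 where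
  tri := g2Tri
  inv := of_pairRange (m := 2) (n := 12) g2ReflInv
  nr := of_pairRange (m := 2) (n := 12) g2NegRefl
  wp := of_pairRange (m := 2) (n := 12) g2Wp
  ns := g2Ns
  rw := rwG2
  rwc := g2Rwc

end Cfsg.Agent.Lib.Helper3.ChevM
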