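import Cfsg.Agent.Lib.Helper3.ChevData.G2NegConjA
set_option autoImplicit false

namespace Cfsg.Agent.Lib.Helper3.ChevM

/-- Conjugation of `x_r(t)` by `n_r` of type G2. -/
theorem g2NegConj : ∀ r < 12, ((fun r => cdG2.checkNegConj r)) r = true := by
  intro r hr
  exact g2NegConj_0 r (by omega) hr

end Cfsg.Agent.Lib.Helper3.ChevM
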