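import Cfsg.Agent.Lib.Helper3.ChevData.G2UpA
set_option autoImplicit false

namespace Cfsg.Agent.Lib.Helper3.ChevM

/-- Roots in the commutators of `x_{±p}` with the positive root elements of type G2. -/
theorem g2Up : ∀ r < 24, ((fun k => upCheck Cfsg.Lie.chevG2 (k / 12) (k % 12))) r = true := by
  intro r hr
  exact g2Up_0 r (by omega) hr

end Cfsg.Agent.Lib.Helper3.ChevM
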