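import Cfsg.Agent.Lib.Helper3.ChevData.G2CommData
import Cfsg.Agent.Lib.Helper3.ChevData.G2Mono
import Cfsg.Agent.Lib.Helper3.ChevData.G2Up
import Cfsg.Agent.Lib.Helper3.ChevData.G2Hdec
import Cfsg.Agent.Lib.Helper3.ChevData.G2Root
import Cfsg.Agent.Lib.Helper3.ChevData.G2NegConj
import Cfsg.Agent.Lib.Helper3.ChevData.G2Low
set_option autoImplicit false

namespace Cfsg.Agent.Lib.Helper3.ChevM

/-- The table checks for the (B,N)-pair of type G2. -/
def bnG2 : BNHyp cdG2 relG2 where
  mono := monoG2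
  up := of_pairRange (m := 2) (n := 12) g2Up
  dec := of_pairRange (m := 12) (n := 12) g2Hdec
  root := g2Root
  nc := g2NegConj
  low := g2Low

end Cfsg.Agent.Lib.Helper3.ChevM
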