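import Cfsg.Agent.Lib.Helper3.ChevData.G2Mono
import Cfsg.Agent.Lib.Helper3.ChevData.G2Hdec
import Cfsg.Agent.Lib.Helper3.ChevData.G2Sign
import Cfsg.Agent.Lib.Helper3.ChevData.G2Os1
import Cfsg.Agent.Lib.Helper3.ChevData.G2Or1
import Cfsg.Agent.Lib.Helper3.ChevData.G2Ot1
set_option autoImplicit false
set_option maxRecDepth 1000000

namespace Cfsg.Agent.Lib.Helper3.ChevM

theorem g2Od1 : distinctCheck Cfsg.Lie.chevG2 reflG2 dlG21 = true := by decide +kernel

theorem g2On1 : dlG21.map (Nw Cfsg.Lie.chevG2 reflG2) = [0, 1, 2, 3, 4, 5] := by decide +kernel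

/-- Step 1 of the factorisation of the Poincaré sum of type G2. -/
theorem g2Poin1 (q : ℕ) : poin cdG2.D relG2.refl (Set.Iio 2) q =
    ([0, 1, 2, 3, 4, 5].map fun e => q ^ e).sum * poin cdG2.D relG2.refl (Set.Iio 1) q := by
  have h := monoG2.poin_step (of_pairRange (m := 12) (n := 12) g2Hdec) g2Sign 1 g2Os1 dlG21 g2Or1 nxtG21
    (by decide +kernel) (of_pairRange (m := 6) (n := 2) g2Ot1) g2Od1 (by decide +kernel) q
  show poin cdG2.D relG2.refl (Set.Iio (1 + 1)) q = _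
  have e : (dlG21.map fun d => q ^ Nw cdG2.D relG2.refl d) = (dlG21.map (Nw Cfsg.Lie.chevG2 reflG2)).map fun e => q ^ e := by
    rw [List.map_map]; rfl
  rw [h, e, g2On1]

end Cfsg.Agent.Lib.Helper3.ChevM
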