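import Cfsg.Agent.Lib.Helper3.ChevData.G2Ord0
import Cfsg.Agent.Lib.Helper3.ChevData.G2Ord1
import Cfsg.Agent.Lib.Helper3.ChevO3
set_option autoImplicit false
set_option maxRecDepth 1000000

namespace Cfsg.Agent.Lib.Helper3.ChevM

/-- The Poincaré sum of the Weyl group of type G2. -/
theorem g2Poin (q : ℕ) : poin cdG2.D relG2.refl Set.univ q =
    ([0, 1, 2, 3, 4, 5].map fun e => q ^ e).sum *
    ([0, 1].map fun e => q ^ e).sum := by
  rw [poin_univ]
  show poin cdG2.D relG2.refl (Set.Iio 2) q = _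
  rw [g2Poin1, g2Poin0, poin_zero g2Sign]
  ring

end Cfsg.Agent.Lib.Helper3.ChevM
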