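import Cfsg.Agent.Lib.Helper3.ChevData.G2CommData
import Cfsg.Agent.Lib.Helper3.ChevData.G2Ucol
import Cfsg.Agent.Lib.Helper3.ChevData.G2Uinj
import Cfsg.Agent.Lib.Helper3.ChevData.G2Ufrm
import Cfsg.Agent.Lib.Helper3.ChevData.G2Ulev
import Cfsg.Agent.Lib.Helper3.ChevData.G2Uwit
set_option autoImplicit false

namespace Cfsg.Agent.Lib.Helper3.ChevM

/-- The structure data for the subgroup `U` of type G2. -/
def uhypG2 : UHyp cdG2 relG2 where
  K := commG2
  hpos := hposG2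
  hf := hfG2
  fr := frG2
  wj := wjG2
  wi := wiG2
  col := of_pairRange (m := 12) (n := 12) g2Ucol
  inj := g2Uinj
  lev := g2Ulev
  frm := g2Ufrm
  wit := g2Uwit

end Cfsg.Agent.Lib.Helper3.ChevM
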