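import Cfsg.Agent.Lib.Helper3.ChevData.G2VecA
set_option autoImplicit false

namespace Cfsg.Agent.Lib.Helper3.ChevM

/-- The Cartan integers of type G2 are linear in the roots. -/
theorem g2Vec : ∀ r < 24, ((fun k => vecCheck Cfsg.Lie.chevG2 vecG2 (k / 12) (k % 12))) r = true := by
  intro r hr
  exact g2Vec_0 r (by omega) hr

end Cfsg.Agent.Lib.Helper3.ChevM
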