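import Cfsg.Agent.Lib.Helper3.ChevData.G2IrrA
set_option autoImplicit false

namespace Cfsg.Agent.Lib.Helper3.ChevM

/-- The Dynkin diagram of type G2 is connected. -/
theorem g2Irr : ∀ r < 2, ((fun i => irrCheck Cfsg.Lie.chevG2 reflG2 parG2 depG2 0 i)) r = true := by
  intro r hr
  exact g2Irr_0 r (by omega) hr

end Cfsg.Agent.Lib.Helper3.ChevM
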