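import Cfsg.Agent.Lib.Helper3.ChevData.G2OppA
set_option autoImplicit false

namespace Cfsg.Agent.Lib.Helper3.ChevM

/-- The longest element maps the positive roots of type G2 onto the negative roots. -/
theorem g2Opp : ∀ r < 12, ((fun s => oppCheck Cfsg.Lie.chevG2 reflG2 w0G2 w0rG2 s)) r = true := by
  intro r hr
  exact g2Opp_0 r (by omega) hr

end Cfsg.Agent.Lib.Helper3.ChevM
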