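import Cfsg.Agent.Lib.Helper3.ChevData.G2Bn
import Cfsg.Agent.Lib.Helper3.ChevData.G2NegTri
import Cfsg.Agent.Lib.Helper3.ChevData.G2Opp
import Cfsg.Agent.Lib.Helper3.ChevData.G2Inj
import Cfsg.Agent.Lib.Helper3.ChevData.G2Irr
import Cfsg.Agent.Lib.Helper3.ChevData.G2Perfc
set_option autoImplicit false

namespace Cfsg.Agent.Lib.Helper3.ChevM

/-- The table checks for the simplicity of the Chevalley groups of type G2. -/
def simpleG2 : SimpleHyp cdG2 relG2 where
  bn := bnG2
  ntri := g2NegTri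
  l := w0G2
  l' := w0rG2
  hl := w0G2_lt
  opp := g2Opp
  inj := g2Inj
  par := parG2
  dep := depG2
  root := 0
  hroot := by decide +kernel
  irr := g2Irr
  ptag := ptagG2
  ps := psG2
  ps' := psqG2
  pm := pmG2
  perf := g2Perfc

end Cfsg.Agent.Lib.Helper3.ChevM
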