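import Cfsg.Agent.Lib.Helper3.ChevData.F4Rel
import Cfsg.Agent.Lib.Helper3.ChevData.F4Tri
import Cfsg.Agent.Lib.Helper3.ChevData.F4ReflInv
import Cfsg.Agent.Lib.Helper3.ChevData.F4NegRefl
import Cfsg.Agent.Lib.Helper3.ChevData.F4Wp
import Cfsg.Agent.Lib.Helper3.ChevData.F4Ns
import Cfsg.Agent.Lib.Helper3.ChevData.F4Rwc
set_option autoImplicit false

namespace Cfsg.Agent.Lib.Helper3.ChevM

/-- The table checks for the monomial subgroup of type F4. -/
def monoF4 : MonoHyp cdF4 relF4 where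
  tri := f4Tri
  inv := of_pairRange (m := 4) (n := 48) f4ReflInv
  nr := of_pairRange (m := 4) (n := 48) f4NegRefl
  wp := of_pairRange (m := 4) (n := 48) f4Wp
  ns := f4Ns
  rw := rwF4
  rwc := f4Rwc

end Cfsg.Agent.Lib.Helper3.ChevM
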