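import Cfsg.Agent.Lib.Helper3.ChevData.F4CommData
import Cfsg.Agent.Lib.Helper3.ChevData.F4Mono
import Cfsg.Agent.Lib.Helper3.ChevData.F4Up
import Cfsg.Agent.Lib.Helper3.ChevData.F4Hdec
import Cfsg.Agent.Lib.Helper3.ChevData.F4Root
import Cfsg.Agent.Lib.Helper3.ChevData.F4NegConj
import Cfsg.Agent.Lib.Helper3.ChevData.F4Low
set_option autoImplicit false

namespace Cfsg.Agent.Lib.Helper3.ChevM

/-- The table checks for the (B,N)-pair of type F4. -/
def bnF4 : BNHyp cdF4 relF4 where
  mono := monoF4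
  up := of_pairRange (m := 4) (n := 48) f4Up
  dec := of_pairRange (m := 48) (n := 48) f4Hdec
  root := f4Root
  nc := f4NegConj
  low := f4Low

end Cfsg.Agent.Lib.Helper3.ChevM
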