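import Cfsg.Agent.Lib.Helper3.ChevData.F4UlevA
set_option autoImplicit false

namespace Cfsg.Agent.Lib.Helper3.ChevM

/-- The root elements of the positive roots of type F4 raise the level. -/
theorem f4Ulev : ∀ r < 48, ((fun r => levelCheck cdF4 hfF4 frF4 r)) r = true := by
  intro r hr
  exact f4Ulev_0 r (by omega) hr

end Cfsg.Agent.Lib.Helper3.ChevM
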