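import Cfsg.Agent.Lib.Helper3.ChevData.F4UwitA
set_option autoImplicit false

namespace Cfsg.Agent.Lib.Helper3.ChevM

/-- Witness entries for the root elements of type F4. -/
theorem f4Uwit : ∀ r < 48, ((fun r => witCheck cdF4 hfF4 frF4 wjF4 wiF4 r)) r = true := by
  intro r hr
  exact f4Uwit_0 r (by omega) hr

end Cfsg.Agent.Lib.Helper3.ChevM
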