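import Cfsg.Agent.Lib.Helper3.ChevData.F4CommData
import Cfsg.Agent.Lib.Helper3.ChevData.F4Ucol
import Cfsg.Agent.Lib.Helper3.ChevData.F4Uinj
import Cfsg.Agent.Lib.Helper3.ChevData.F4Ufrm
import Cfsg.Agent.Lib.Helper3.ChevData.F4Ulev
import Cfsg.Agent.Lib.Helper3.ChevData.F4Uwit
set_option autoImplicit false

namespace Cfsg.Agent.Lib.Helper3.ChevM

/-- The structure data for the subgroup `U` of type F4. -/
def uhypF4 : UHyp cdF4 relF4 where
  K := commF4
  hpos := hposF4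
  hf := hfF4
  fr := frF4
  wj := wjF4
  wi := wiF4
  col := of_pairRange (m := 48) (n := 48) f4Ucol
  inj := f4Uinj
  lev := f4Ulev
  frm := f4Ufrm
  wit := f4Uwit

end Cfsg.Agent.Lib.Helper3.ChevM
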