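import Cfsg.Agent.Lib.Helper3.ChevData.F4InjA
set_option autoImplicit false

namespace Cfsg.Agent.Lib.Helper3.ChevM

/-- An entry `-u²` of `x_r(u)` of type F4. -/
theorem f4Inj : ∀ r < 48, ((fun r => injCheck cdF4 r)) r = true := by
  intro r hr
  exact f4Inj_0 r (by omega) hr

end Cfsg.Agent.Lib.Helper3.ChevM
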