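import Cfsg.Agent.Lib.Helper3.ChevData.F4Bn
import Cfsg.Agent.Lib.Helper3.ChevData.F4NegTri
import Cfsg.Agent.Lib.Helper3.ChevData.F4Opp
import Cfsg.Agent.Lib.Helper3.ChevData.F4Inj
import Cfsg.Agent.Lib.Helper3.ChevData.F4Irr
import Cfsg.Agent.Lib.Helper3.ChevData.F4Perfc
set_option autoImplicit false

namespace Cfsg.Agent.Lib.Helper3.ChevM

/-- The table checks for the simplicity of the Chevalley groups of type F4. -/
def simpleF4 : SimpleHyp cdF4 relF4 where
  bn := bnF4
  ntri := f4NegTri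
  l := w0F4
  l' := w0rF4
  hl := w0F4_lt
  opp := f4Opp
  inj := f4Inj
  par := parF4
  dep := depF4
  root := 0
  hroot := by decide +kernel
  irr := f4Irr
  ptag := ptagF4
  ps := psF4
  ps' := psqF4
  pm := pmF4
  perf := f4Perfc

end Cfsg.Agent.Lib.Helper3.ChevM
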