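import Cfsg.Agent.Lib.Helper3.ChevData.F4Ot1A
set_option autoImplicit false

namespace Cfsg.Agent.Lib.Helper3.ChevM

/-- Left multiplication of the representatives of step 1 of type F4. -/
theorem f4Ot1 : ∀ r < 6, ((fun p => stepCheck Cfsg.Lie.chevF4 reflF4 1 dlF41 nxtF41 (p / 2) (p % 2))) r = true := by
  intro r hr
  exact f4Ot1_0 r (by omega) hr

end Cfsg.Agent.Lib.Helper3.ChevM
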