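import Cfsg.Agent.Lib.Helper3.ChevData.F4Mono
import Cfsg.Agent.Lib.Helper3.ChevData.F4Hdec
import Cfsg.Agent.Lib.Helper3.ChevData.F4Sign
import Cfsg.Agent.Lib.Helper3.ChevData.F4Os1
import Cfsg.Agent.Lib.Helper3.ChevData.F4Or1
import Cfsg.Agent.Lib.Helper3.ChevData.F4Ot1
set_option autoImplicit false
set_option maxRecDepth 1000000

namespace Cfsg.Agent.Lib.Helper3.ChevM

theorem f4Od1 : distinctCheck Cfsg.Lie.chevF4 reflF4 dlF41 = true := by decide +kernel

theorem f4On1 : dlF41.map (Nw Cfsg.Lie.chevF4 reflF4) = [0, 1, 2] := by decide +kernel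

/-- Step 1 of the factorisation of the Poincaré sum of type F4. -/
theorem f4Poin1 (q : ℕ) : poin cdF4.D relF4.refl (Set.Iio 2) q =
    ([0, 1, 2].map fun e => q ^ e).sum * poin cdF4.D relF4.refl (Set.Iio 1) q := by
  have h := monoF4.poin_step (of_pairRange (m := 48) (n := 48) f4Hdec) f4Sign 1 f4Os1 dlF41 f4Or1 nxtF41
    (by decide +kernel) (of_pairRange (m := 3) (n := 2) f4Ot1) f4Od1 (by decide +kernel) q
  show poin cdF4.D relF4.refl (Set.Iio (1 + 1)) q = _
  have e : (dlF41.map fun d => q ^ Nw cdF4.D relF4.refl d) = (dlF41.map (Nw Cfsg.Lie.chevF4 reflF4)).map fun e => q ^ e := by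
    rw [List.map_map]; rfl
  rw [h, e, f4On1]

end Cfsg.Agent.Lib.Helper3.ChevM
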