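import Cfsg.Agent.Lib.Helper3.ChevData.F4Mono
import Cfsg.Agent.Lib.Helper3.ChevData.F4Hdec
import Cfsg.Agent.Lib.Helper3.ChevData.F4Sign
import Cfsg.Agent.Lib.Helper3.ChevData.F4Os3
import Cfsg.Agent.Lib.Helper3.ChevData.F4Or3
import Cfsg.Agent.Lib.Helper3.ChevData.F4Ot3
set_option autoImplicit false
set_option maxRecDepth 1000000

namespace Cfsg.Agent.Lib.Helper3.ChevM

theorem f4Od3 : distinctCheck Cfsg.Lie.chevF4 reflF4 dlF43 = true := by decide +kernel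

theorem f4On3 : dlF43.map (Nw Cfsg.Lie.chevF4 reflF4) = [0, 1, 2, 3, 4, 4, 5, 5, 6, 6, 7, 7, 8, 8, 9, 9, 10, 10, 11, 11, 12, 13, 14, 15] := by decide +kernel

/-- Step 3 of the factorisation of the Poincaré sum of type F4. -/
theorem f4Poin3 (q : ℕ) : poin cdF4.D relF4.refl (Set.Iio 4) q =
    ([0, 1, 2, 3, 4, 4, 5, 5, 6, 6, 7, 7, 8, 8, 9, 9, 10, 10, 11, 11, 12, 13, 14, 15].map fun e => q ^ e).sum * poin cdF4.D relF4.refl (Set.Iio 3) q := by
  have h := monoF4.poin_step (of_pairRange (m := 48) (n := 48) f4Hdec) f4Sign 3 f4Os3 dlF43 f4Or3 nxtF43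
    (by decide +kernel) (of_pairRange (m := 24) (n := 4) f4Ot3) f4Od3 (by decide +kernel) q
  show poin cdF4.D relF4.refl (Set.Iio (3 + 1)) q = _
  have e : (dlF43.map fun d => q ^ Nw cdF4.D relF4.refl d) = (dlF43.map (Nw Cfsg.Lie.chevF4 reflF4)).map fun e => q ^ e := by
    rw [List.map_map]; rfl
  rw [h, e, f4On3]

end Cfsg.Agent.Lib.Helper3.ChevM
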