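import Cfsg.Agent.Lib.Helper3.ChevData.B2WpA
set_option autoImplicit false

namespace Cfsg.Agent.Lib.Helper3.ChevM

/-- The fundamental reflections of type B2 permute the other positive roots. -/
theorem b2Wp : ∀ r < 16, ((fun k => wpCheck Cfsg.Lie.chevB2 reflB2 (k / 8) (k % 8))) r = true := by
  intro r hr
  exact b2Wp_0 r (by omega) hr

end Cfsg.Agent.Lib.Helper3.ChevM
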