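import Cfsg.Agent.Lib.Helper3.ChevData.B2Rel
import Cfsg.Agent.Lib.Helper3.ChevData.B2Tri
import Cfsg.Agent.Lib.Helper3.ChevData.B2ReflInv
import Cfsg.Agent.Lib.Helper3.ChevData.B2NegRefl
import Cfsg.Agent.Lib.Helper3.ChevData.B2Wp
import Cfsg.Agent.Lib.Helper3.ChevData.B2Ns
import Cfsg.Agent.Lib.Helper3.ChevData.B2Rwc
set_option autoImplicit false

namespace Cfsg.Agent.Lib.Helper3.ChevM

/-- The table checks for the monomial subgroup of type B2. -/
def monoB2 : MonoHyp cdB2 relB2 where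
  tri := b2Tri
  inv := of_pairRange (m := 2) (n := 8) b2ReflInv
  nr := of_pairRange (m := 2) (n := 8) b2NegRefl
  wp := of_pairRange (m := 2) (n := 8) b2Wp
  ns := b2Ns
  rw := rwB2
  rwc := b2Rwc

end Cfsg.Agent.Lib.Helper3.ChevM
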