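import Cfsg.Agent.Lib.Helper3.ChevData.B2CommData
import Cfsg.Agent.Lib.Helper3.ChevData.B2Mono
import Cfsg.Agent.Lib.Helper3.ChevData.B2Up
import Cfsg.Agent.Lib.Helper3.ChevData.B2Hdec
import Cfsg.Agent.Lib.Helper3.ChevData.B2Root
import Cfsg.Agent.Lib.Helper3.ChevData.B2NegConj
import Cfsg.Agent.Lib.Helper3.ChevData.B2Low
set_option autoImplicit false

namespace Cfsg.Agent.Lib.Helper3.ChevM

/-- The table checks for the (B,N)-pair of type B2. -/
def bnB2 : BNHyp cdB2 relB2 where
  mono := monoB2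
  up := of_pairRange (m := 2) (n := 8) b2Up
  dec := of_pairRange (m := 8) (n := 8) b2Hdec
  root := b2Root
  nc := b2NegConj
  low := b2Low

end Cfsg.Agent.Lib.Helper3.ChevM
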