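import Cfsg.Agent.Lib.Helper3.ChevData.B2CnegA
set_option autoImplicit false

namespace Cfsg.Agent.Lib.Helper3.ChevM
open Cfsg.Agent.Lib.Helper3.StB

/-- The commutator formula of type B2 for opposite roots. -/
theorem b2Cneg : ∀ r < 64, ((fun k => commNegCheck Cfsg.Lie.chevB2 (k / 8) (k % 8))) r = true := by
  intro r hr
  exact b2Cneg_0 r (by omega) hr

end Cfsg.Agent.Lib.Helper3.ChevM
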