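import Cfsg.Agent.Lib.Helper3.ChevData.B2ThetaA
set_option autoImplicit false

namespace Cfsg.Agent.Lib.Helper3.ChevM
open Cfsg.Agent.Lib.Helper3.StB

/-- The permutation matrix exchanging opposite roots of type B2 conjugates root elements to root elements. -/
theorem b2Theta : ∀ r < 8, ((fun r => thetaCheck cdB2 r)) r = true := by
  intro r hr
  exact b2Theta_0 r (by omega) hr

end Cfsg.Agent.Lib.Helper3.ChevM
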