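import Cfsg.Agent.Lib.Helper3.ChevData.B2UHyp
import Cfsg.Agent.Lib.Helper3.ChevData.B2Bn
import Cfsg.Agent.Lib.Helper3.ChevData.B2Sign
import Cfsg.Agent.Lib.Helper3.ChevData.B2Theta
import Cfsg.Agent.Lib.Helper3.ChevData.B2Cneg
import Cfsg.Agent.Lib.Helper3.StB12
set_option autoImplicit false
set_option maxRecDepth 1000000

namespace Cfsg.Agent.Lib.Helper3.ChevM
open Cfsg.Agent.Lib.Helper3.StB

/-- Pairs of roots whose commutator formula contains the simple roots of type B2. -/
def abB2 (i : ℕ) : ℕ × ℕ := (#[(3, 6), (2, 7)] : Array (ℕ × ℕ)).getD i (0, 0)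

theorem b2Self : allRange 0 2 (fun i => selfCheck Cfsg.Lie.chevB2 relB2.refl abB2 i) = true := by decide +kernel

theorem b2Pneg : allRange 0 4 (fun k => pairNegCheck Cfsg.Lie.chevB2 relB2.pair (k / 2) (k % 2)) = true := by decide +kernel

/-- The table checks for the presentation of type B2. -/
def stHypB2 : StHyp cdB2 relB2 where
  U := uhypB2
  B := bnB2
  sign := b2Sign
  theta := b2Theta
  cneg := of_pairRange (m := 8) (n := 8) b2Cneg
  ab := abB2
  self := fun i hi => allRange_spec b2Self i (Nat.zero_le i) hi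
  pneg := of_pairRange (m := 2) (n := 2) (fun k hk => allRange_spec b2Pneg k (Nat.zero_le k) hk)

end Cfsg.Agent.Lib.Helper3.ChevM
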