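import Cfsg.Agent.Lib.Helper3.ChevData.B2UtexA
set_option autoImplicit false

namespace Cfsg.Agent.Lib.Helper3.ChevM
open Cfsg.Agent.Lib.Helper3.StB Cfsg.Agent.Lib.Helper3.StU

/-- Torus elements acting non-trivially on the root subgroups of type B2. -/
theorem b2Utex : ∀ r < 8, ((fun r => torExOK Cfsg.Lie.chevB2 r)) r = true := by
  intro r hr
  exact b2Utex_0 r (by omega) hr

end Cfsg.Agent.Lib.Helper3.ChevM
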