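import Cfsg.Agent.Lib.Helper3.ChevData.B2St
import Cfsg.Agent.Lib.Helper3.ChevData.B2Uself
import Cfsg.Agent.Lib.Helper3.ChevData.B2Utex
import Cfsg.Agent.Lib.Helper3.ChevData.B2Utor
import Cfsg.Agent.Lib.Helper3.ChevData.B2Ucolb
import Cfsg.Agent.Lib.Helper3.ChevData.B2Ubase
set_option autoImplicit false

namespace Cfsg.Agent.Lib.Helper3.ChevM
open Cfsg.Agent.Lib.Helper3.StB Cfsg.Agent.Lib.Helper3.StU

/-- The table checks for the splitting of the central extensions of the Steinberg group of type B2. -/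
def univHypB2 : UnivHyp cdB2 relB2 where
  Y := stHypB2
  self := b2Uself
  torEx := b2Utex
  tor := of_pairRange (m := 8) (n := 8) b2Utor
  col2 := of_pairRange (m := 8) (n := 8) b2Ucolb
  bw := bwB2
  base := of_pairRange (m := 8) (n := 8) b2Ubase

end Cfsg.Agent.Lib.Helper3.ChevM
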