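import Cfsg.Agent.Lib.Helper3.ChevData.B2Univ
import Cfsg.Agent.Lib.Helper3.ChevData.B2Vself
import Cfsg.Agent.Lib.Helper3.ChevData.B2Vtexc
import Cfsg.Agent.Lib.Helper3.ChevData.B2Vsepc
set_option autoImplicit false
set_option maxRecDepth 1000000

namespace Cfsg.Agent.Lib.Helper3.ChevM
open Cfsg.Agent.Lib.Helper3.StB Cfsg.Agent.Lib.Helper3.StU Cfsg.Agent.Lib.Helper3.StV

/-- The table checks for the splitting of the central extensions of the Steinberg group of type B2 over the field with four elements. -/
def sepHypCB2 : SepHyp 3 2 cdB2 relB2 where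
  H := univHypB2
  self := b2Vself
  torEx := b2Vtexc
  sep := of_pairRange (m := 8) (n := 8) b2Vsepc


end Cfsg.Agent.Lib.Helper3.ChevM
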