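import Cfsg.Agent.Lib.Helper3.ChevData.G2ConjA
set_option autoImplicit false

namespace Cfsg.Agent.Lib.Helper3.ChevM

/-- Conjugation of root elements by the `n_p` of type G2. -/
theorem g2Conj : ∀ r < 24, ((fun k => cdG2.checkConj (k / 12) (cdG2.cartI pairG2 (k / 12)) (reflG2 (k / 12)) (etaG2 (k / 12)) (k % 12))) r = true := by
  intro r hr
  exact g2Conj_0 r (by omega) hr

end Cfsg.Agent.Lib.Helper3.ChevM
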