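import Cfsg.Agent.Lib.Helper3.ChevData.G2NchkA
set_option autoImplicit false

namespace Cfsg.Agent.Lib.Helper3.ChevM

/-- Monomial form of the `n_p` of type G2. -/
theorem g2Nchk : ∀ r < 2, ((fun i => cdG2.checkN i (cdG2.cartI pairG2 i) (reflG2 i) (etaG2 i))) r = true := by
  intro r hr
  exact g2Nchk_0 r (by omega) hr

end Cfsg.Agent.Lib.Helper3.ChevM
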