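import Cfsg.Agent.Lib.Helper3.ChevData.G2NdA
set_option autoImplicit false

namespace Cfsg.Agent.Lib.Helper3.ChevM

/-- Conjugation of the `h_p(c)` by the `n_p` of type G2. -/
theorem g2Nd : ∀ r < 4, ((fun k => cdG2.checkND (k / 2) (cdG2.cartI pairG2 (k / 2)) (reflG2 (k / 2)) (etaG2 (k / 2)) (cdG2.expo pairG2 (Cfsg.Lie.chevG2.simple (k % 2))) (cdG2.expo pairG2 (reflG2 (k / 2) (Cfsg.Lie.chevG2.simple (k % 2)))))) r = true := by
  intro r hr
  exact g2Nd_0 r (by omega) hr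

end Cfsg.Agent.Lib.Helper3.ChevM
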