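import Cfsg.Agent.Lib.Helper3.ChevData.G2Add
import Cfsg.Agent.Lib.Helper3.ChevData.G2Hd
import Cfsg.Agent.Lib.Helper3.ChevData.G2Tab
import Cfsg.Agent.Lib.Helper3.ChevData.G2Eta
import Cfsg.Agent.Lib.Helper3.ChevData.G2Nchk
import Cfsg.Agent.Lib.Helper3.ChevData.G2Conj
import Cfsg.Agent.Lib.Helper3.ChevData.G2Dx
import Cfsg.Agent.Lib.Helper3.ChevData.G2Nd
set_option autoImplicit false
set_option maxRecDepth 1000000

namespace Cfsg.Agent.Lib.Helper3.ChevM

/-- The relation data of type G2. -/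
def relG2 : RelData cdG2 where
  pair := pairG2
  refl := reflG2
  eta := etaG2
  neg_lt := by decide +kernel
  simple_lt := by decide +kernel
  tab := of_pairRange (m := 2) (n := 12) g2Tab
  etaOk := of_pairRange (m := 2) (n := 12) g2Eta
  etaSimple := by decide +kernel
  add := g2Add
  hdiag := g2Hd
  nchk := g2Nchk
  conj := of_pairRange (m := 2) (n := 12) g2Conj
  dx := of_pairRange (m := 2) (n := 12) g2Dx
  nd := of_pairRange (m := 2) (n := 2) g2Nd

end Cfsg.Agent.Lib.Helper3.ChevM
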