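import Cfsg.Agent.Lib.Helper3.ChevData.B2DxA
set_option autoImplicit false

namespace Cfsg.Agent.Lib.Helper3.ChevM

/-- Conjugation of root elements by the `h_p(c)` of type B2. -/
theorem b2Dx : ∀ r < 16, ((fun k => cdB2.checkDX (cdB2.expo pairB2 (Cfsg.Lie.chevB2.simple (k / 8))) (pairB2 (Cfsg.Lie.chevB2.simple (k / 8)) (k % 8)) (k % 8))) r = true := by
  intro r hr
  exact b2Dx_0 r (by omega) hr

end Cfsg.Agent.Lib.Helper3.ChevM
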