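import Cfsg.Agent.Lib.Helper3.ChevData.B2HdA
set_option autoImplicit false

namespace Cfsg.Agent.Lib.Helper3.ChevM

/-- Diagonal form of the `h_r(c)` of type B2. -/
theorem b2Hd : ∀ r < 8, ((fun r => cdB2.checkHDiag r (cdB2.expo pairB2 r))) r = true := by
  intro r hr
  exact b2Hd_0 r (by omega) hr

end Cfsg.Agent.Lib.Helper3.ChevM
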