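import Cfsg.Agent.Lib.Helper3.ChevData.B2NchkA
set_option autoImplicit false

namespace Cfsg.Agent.Lib.Helper3.ChevM

/-- Monomial form of the `n_p` of type B2. -/
theorem b2Nchk : ∀ r < 2, ((fun i => cdB2.checkN i (cdB2.cartI pairB2 i) (reflB2 i) (etaB2 i))) r = true := by
  intro r hr
  exact b2Nchk_0 r (by omega) hr

end Cfsg.Agent.Lib.Helper3.ChevM
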