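import Cfsg.Agent.Lib.Helper3.ChevData.B2NdA
set_option autoImplicit false

namespace Cfsg.Agent.Lib.Helper3.ChevM

/-- Conjugation of the `h_p(c)` by the `n_p` of type B2. -/
theorem b2Nd : ∀ r < 4, ((fun k => cdB2.checkND (k / 2) (cdB2.cartI pairB2 (k / 2)) (reflB2 (k / 2)) (etaB2 (k / 2)) (cdB2.expo pairB2 (Cfsg.Lie.chevB2.simple (k % 2))) (cdB2.expo pairB2 (reflB2 (k / 2) (Cfsg.Lie.chevB2.simple (k % 2)))))) r = true := by
  intro r hr
  exact b2Nd_0 r (by omega) hr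

end Cfsg.Agent.Lib.Helper3.ChevM
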