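import Cfsg.Agent.Lib.Helper3.ChevData.B2PerfcA
set_option autoImplicit false

namespace Cfsg.Agent.Lib.Helper3.ChevM

/-- Every root element of type B2 is a commutator. -/
theorem b2Perfc : ∀ r < 8, ((fun r => perfCheck Cfsg.Lie.chevB2 ptagB2 psB2 psqB2 pmB2 r)) r = true := by
  intro r hr
  exact b2Perfc_0 r (by omega) hr

end Cfsg.Agent.Lib.Helper3.ChevM
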