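import Cfsg.Agent.Lib.Helper3.ChevData.B2Bn
import Cfsg.Agent.Lib.Helper3.ChevData.B2NegTri
import Cfsg.Agent.Lib.Helper3.ChevData.B2Opp
import Cfsg.Agent.Lib.Helper3.ChevData.B2Inj
import Cfsg.Agent.Lib.Helper3.ChevData.B2Irr
import Cfsg.Agent.Lib.Helper3.ChevData.B2Perfc
set_option autoImplicit false

namespace Cfsg.Agent.Lib.Helper3.ChevM

/-- The table checks for the simplicity of the Chevalley groups of type B2. -/
def simpleB2 : SimpleHyp cdB2 relB2 where
  bn := bnB2
  ntri := b2NegTri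
  l := w0B2
  l' := w0rB2
  hl := w0B2_lt
  opp := b2Opp
  inj := b2Inj
  par := parB2
  dep := depB2
  root := 0
  hroot := by decide +kernel
  irr := b2Irr
  ptag := ptagB2
  ps := psB2
  ps' := psqB2
  pm := pmB2
  perf := b2Perfc

end Cfsg.Agent.Lib.Helper3.ChevM
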