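import Cfsg.Agent.Lib.Helper3.ChevData.B2Mono
import Cfsg.Agent.Lib.Helper3.ChevData.B2Hdec
import Cfsg.Agent.Lib.Helper3.ChevData.B2Sign
import Cfsg.Agent.Lib.Helper3.ChevData.B2Os1
import Cfsg.Agent.Lib.Helper3.ChevData.B2Or1
import Cfsg.Agent.Lib.Helper3.ChevData.B2Ot1
set_option autoImplicit false
set_option maxRecDepth 1000000

namespace Cfsg.Agent.Lib.Helper3.ChevM

theorem b2Od1 : distinctCheck Cfsg.Lie.chevB2 reflB2 dlB21 = true := by decide +kernel

theorem b2On1 : dlB21.map (Nw Cfsg.Lie.chevB2 reflB2) = [0, 1, 2, 3] := by decide +kernel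

/-- Step 1 of the factorisation of the Poincaré sum of type B2. -/
theorem b2Poin1 (q : ℕ) : poin cdB2.D relB2.refl (Set.Iio 2) q =
    ([0, 1, 2, 3].map fun e => q ^ e).sum * poin cdB2.D relB2.refl (Set.Iio 1) q := by
  have h := monoB2.poin_step (of_pairRange (m := 8) (n := 8) b2Hdec) b2Sign 1 b2Os1 dlB21 b2Or1 nxtB21
    (by decide +kernel) (of_pairRange (m := 4) (n := 2) b2Ot1) b2Od1 (by decide +kernel) q
  show poin cdB2.D relB2.refl (Set.Iio (1 + 1)) q = _
  have e : (dlB21.map fun d => q ^ Nw cdB2.D relB2.refl d) = (dlB21.map (Nw Cfsg.Lie.chevB2 reflB2)).map fun e => q ^ e := by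
    rw [List.map_map]; rfl
  rw [h, e, b2On1]

end Cfsg.Agent.Lib.Helper3.ChevM
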