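import Cfsg.Agent.Lib.Helper3.ChevData.B2UinjA
set_option autoImplicit false

namespace Cfsg.Agent.Lib.Helper3.ChevM

/-- The positions of the positive roots of type B2 are distinct. -/
theorem b2Uinj : ∀ r < 8, ((fun r => hposCheck Cfsg.Lie.chevB2 hposB2 r)) r = true := by
  intro r hr
  exact b2Uinj_0 r (by omega) hr

end Cfsg.Agent.Lib.Helper3.ChevM
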