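import Cfsg.Agent.Lib.Helper3.ChevData.B2CommData
import Cfsg.Agent.Lib.Helper3.ChevData.B2Ucol
import Cfsg.Agent.Lib.Helper3.ChevData.B2Uinj
import Cfsg.Agent.Lib.Helper3.ChevData.B2Ufrm
import Cfsg.Agent.Lib.Helper3.ChevData.B2Ulev
import Cfsg.Agent.Lib.Helper3.ChevData.B2Uwit
set_option autoImplicit false

namespace Cfsg.Agent.Lib.Helper3.ChevM

/-- The structure data for the subgroup `U` of type B2. -/
def uhypB2 : UHyp cdB2 relB2 where
  K := commB2
  hpos := hposB2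
  hf := hfB2
  fr := frB2
  wj := wjB2
  wi := wiB2
  col := of_pairRange (m := 8) (n := 8) b2Ucol
  inj := b2Uinj
  lev := b2Ulev
  frm := b2Ufrm
  wit := b2Uwit

end Cfsg.Agent.Lib.Helper3.ChevM
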