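import Mathlib
import Cfsg.Prelude.Def_ChevB2
set_option autoImplicit false
set_option maxRecDepth 1000000

namespace Cfsg.Agent.Lib.Helper3.ChevM

/-- Coefficients of the roots of type B2 on the fundamental roots. -/
def vecB2 (r j : ℕ) : ℤ := ((#[#[-2, -1], #[-1, -1], #[-1, 0], #[0, -1], #[0, 1], #[1, 0], #[1, 1], #[2, 1]] : Array (Array ℤ)).getD r #[]).getD j 0

/-- Left factor of the diagonal form of the Cartan matrix, type B2. -/
def smPB2 : Matrix (Fin 2) (Fin 2) ℤ := Matrix.of fun i j => ((#[#[0, -1], #[1, 2]] : Array (Array ℤ)).getD i.val #[]).getD j.val 0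

/-- Right factor, type B2. -/
def smQB2 : Matrix (Fin 2) (Fin 2) ℤ := Matrix.of fun i j => ((#[#[1, 2], #[0, 1]] : Array (Array ℤ)).getD i.val #[]).getD j.val 0

/-- Inverse of the left factor, type B2. -/
def smPiB2 : Matrix (Fin 2) (Fin 2) ℤ := Matrix.of fun i j => ((#[#[2, 1], #[-1, 0]] : Array (Array ℤ)).getD i.val #[]).getD j.val 0

/-- Inverse of the right factor, type B2. -/
def smQiB2 : Matrix (Fin 2) (Fin 2) ℤ := Matrix.of fun i j => ((#[#[1, -2], #[0, 1]] : Array (Array ℤ)).getD i.val #[]).getD j.val 0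

/-- The diagonal form of the Cartan matrix of type B2. -/
def smDB2 (k : Fin 2) : ℕ := (#[1, 2] : Array ℕ).getD k.val 0

end Cfsg.Agent.Lib.Helper3.ChevM
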