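import Cfsg.Prelude.Def_ChevB2
import Cfsg.Agent.Lib.Helper3.ChevData.B2Hd2
import Cfsg.Agent.Lib.Helper3.ChevL2
set_option autoImplicit false
set_option maxRecDepth 1000000
set_option Elab.async false

namespace Cfsg.Agent.Lib.Helper3.ChevM

theorem b2Cv_1_32 : allRange 32 40 (fun k => commVecCheck Cfsg.Lie.chevB2 vecB2 (k / 8) (k % 8)) = true := by decide +kernel
theorem b2Cv_1_40 : allRange 40 48 (fun k => commVecCheck Cfsg.Lie.chevB2 vecB2 (k / 8) (k % 8)) = true := by decide +kernel
theorem b2Cv_1_48 : allRange 48 56 (fun k => commVecCheck Cfsg.Lie.chevB2 vecB2 (k / 8) (k % 8)) = true := by decide +kernel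
theorem b2Cv_1_56 : allRange 56 64 (fun k => commVecCheck Cfsg.Lie.chevB2 vecB2 (k / 8) (k % 8)) = true := by decide +kernel

/-- The roots of the commutator formula of type B2 are the expected combinations (roots 32 to 63). -/
theorem b2Cv_1 : ∀ r, 32 ≤ r → r < 64 → (fun k => commVecCheck Cfsg.Lie.chevB2 vecB2 (k / 8) (k % 8)) r = true := by
  intro r h1 h2
  by_cases c0 : r < 40
  · exact allRange_spec b2Cv_1_32 r (by omega) c0
  by_cases c1 : r < 48
  · exact allRange_spec b2Cv_1_40 r (by omega) c1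
  by_cases c2 : r < 56
  · exact allRange_spec b2Cv_1_48 r (by omega) c2
  exact allRange_spec b2Cv_1_56 r (by omega) h2

end Cfsg.Agent.Lib.Helper3.ChevM
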