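import Cfsg.Agent.Lib.Helper3.ChevData.B2CvA
import Cfsg.Agent.Lib.Helper3.ChevData.B2CvB
set_option autoImplicit false

namespace Cfsg.Agent.Lib.Helper3.ChevM

/-- The roots of the commutator formula of type B2 are the expected combinations. -/
theorem b2Cv : ∀ r < 64, (fun k => commVecCheck Cfsg.Lie.chevB2 vecB2 (k / 8) (k % 8)) r = true := by
  intro r hr
  by_cases h0 : r < 32
  · exact b2Cv_0 r (by omega) h0
  exact b2Cv_1 r (by omega) hr

end Cfsg.Agent.Lib.Helper3.ChevM
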