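import Cfsg.Agent.Lib.Helper3.ChevData.B2SrwcA
set_option autoImplicit false

namespace Cfsg.Agent.Lib.Helper3.ChevM

/-- Every root of type B2 is conjugate to a fundamental root inside its support. -/
theorem b2Srwc : ∀ r < 8, ((fun r => suppWordCheck Cfsg.Lie.chevB2 reflB2 srwB2 r)) r = true := by
  intro r hr
  exact b2Srwc_0 r (by omega) hr

end Cfsg.Agent.Lib.Helper3.ChevM
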