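import Cfsg.Agent.Lib.Helper3.ChevData.B2Wt
import Cfsg.Agent.Lib.Helper3.ChevData.B2Vs
import Cfsg.Agent.Lib.Helper3.ChevData.B2Cv
import Cfsg.Agent.Lib.Helper3.ChevData.B2Sc
import Cfsg.Agent.Lib.Helper3.ChevData.B2Srwc
import Cfsg.Agent.Lib.Helper3.ChevData.B2Sign
import Cfsg.Agent.Lib.Helper3.ChevData.B2Hdec
import Cfsg.Agent.Lib.Helper3.ChevData.B2Rel
set_option autoImplicit false

namespace Cfsg.Agent.Lib.Helper3.ChevM

/-- The table checks for the Levi decomposition, type B2. -/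
def leviB2 : LeviHyp cdB2 relB2 where
  vec := vecB2
  wt := b2Wt
  vs := b2Vs
  cv := of_pairRange (m := 8) (n := 8) b2Cv
  sc := b2Sc
  rw := srwB2
  hrw := b2Srwc
  sign := b2Sign
  dec := of_pairRange (m := 8) (n := 8) b2Hdec

end Cfsg.Agent.Lib.Helper3.ChevM
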