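import Cfsg.Agent.Lib.Helper3.ChevData.D4RwcA
set_option autoImplicit false

namespace Cfsg.Agent.Lib.Helper3.ChevM

/-- Every root of type D4 is the image of a fundamental root under fundamental reflections. -/
theorem d4Rwc : ∀ r < 24, ((fun r => rootWordCheck Cfsg.Lie.chevD4 reflD4 rwD4 r)) r = true := by
  intro r hr
  exact d4Rwc_0 r (by omega) hr

end Cfsg.Agent.Lib.Helper3.ChevM
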