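import Cfsg.Agent.Lib.Helper3.ChevData.D4WpA
set_option autoImplicit false

namespace Cfsg.Agent.Lib.Helper3.ChevM

/-- The fundamental reflections of type D4 permute the other positive roots. -/
theorem d4Wp : ∀ r < 96, ((fun k => wpCheck Cfsg.Lie.chevD4 reflD4 (k / 24) (k % 24))) r = true := by
  intro r hr
  exact d4Wp_0 r (by omega) hr

end Cfsg.Agent.Lib.Helper3.ChevM
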