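import Cfsg.Agent.Lib.Helper3.ChevData.D4Rel
import Cfsg.Agent.Lib.Helper3.ChevData.D4Tri
import Cfsg.Agent.Lib.Helper3.ChevData.D4ReflInv
import Cfsg.Agent.Lib.Helper3.ChevData.D4NegRefl
import Cfsg.Agent.Lib.Helper3.ChevData.D4Wp
import Cfsg.Agent.Lib.Helper3.ChevData.D4Ns
import Cfsg.Agent.Lib.Helper3.ChevData.D4Rwc
set_option autoImplicit false

namespace Cfsg.Agent.Lib.Helper3.ChevM

/-- The table checks for the monomial subgroup of type D4. -/
def monoD4 : MonoHyp cdD4 relD4 where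
  tri := d4Tri
  inv := of_pairRange (m := 4) (n := 24) d4ReflInv
  nr := of_pairRange (m := 4) (n := 24) d4NegRefl
  wp := of_pairRange (m := 4) (n := 24) d4Wp
  ns := d4Ns
  rw := rwD4
  rwc := d4Rwc

end Cfsg.Agent.Lib.Helper3.ChevM
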