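import Cfsg.Agent.Lib.Helper3.ChevData.D4CommData
import Cfsg.Agent.Lib.Helper3.ChevData.D4Mono
import Cfsg.Agent.Lib.Helper3.ChevData.D4Up
import Cfsg.Agent.Lib.Helper3.ChevData.D4Hdec
import Cfsg.Agent.Lib.Helper3.ChevData.D4Root
import Cfsg.Agent.Lib.Helper3.ChevData.D4NegConj
import Cfsg.Agent.Lib.Helper3.ChevData.D4Low
set_option autoImplicit false

namespace Cfsg.Agent.Lib.Helper3.ChevM

/-- The table checks for the (B,N)-pair of type D4. -/
def bnD4 : BNHyp cdD4 relD4 where
  mono := monoD4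
  up := of_pairRange (m := 4) (n := 24) d4Up
  dec := of_pairRange (m := 24) (n := 24) d4Hdec
  root := d4Root
  nc := d4NegConj
  low := d4Low

end Cfsg.Agent.Lib.Helper3.ChevM
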