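import Cfsg.Agent.Lib.Helper3.ChevData.D4Mono
import Cfsg.Agent.Lib.Helper3.ChevData.D4Hdec
import Cfsg.Agent.Lib.Helper3.ChevData.D4Sign
import Cfsg.Agent.Lib.Helper3.ChevData.D4Os2
import Cfsg.Agent.Lib.Helper3.ChevData.D4Or2
import Cfsg.Agent.Lib.Helper3.ChevData.D4Ot2
set_option autoImplicit false
set_option maxRecDepth 1000000

namespace Cfsg.Agent.Lib.Helper3.ChevM

theorem d4Od2 : distinctCheck Cfsg.Lie.chevD4 reflD4 dlD42 = true := by decide +kernel

theorem d4On2 : dlD42.map (Nw Cfsg.Lie.chevD4 reflD4) = [0, 1, 2, 3] := by decide +kernel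

/-- Step 2 of the factorisation of the Poincaré sum of type D4. -/
theorem d4Poin2 (q : ℕ) : poin cdD4.D relD4.refl (Set.Iio 3) q =
    ([0, 1, 2, 3].map fun e => q ^ e).sum * poin cdD4.D relD4.refl (Set.Iio 2) q := by
  have h := monoD4.poin_step (of_pairRange (m := 24) (n := 24) d4Hdec) d4Sign 2 d4Os2 dlD42 d4Or2 nxtD42
    (by decide +kernel) (of_pairRange (m := 4) (n := 3) d4Ot2) d4Od2 (by decide +kernel) q
  show poin cdD4.D relD4.refl (Set.Iio (2 + 1)) q = _
  have e : (dlD42.map fun d => q ^ Nw cdD4.D relD4.refl d) = (dlD42.map (Nw Cfsg.Lie.chevD4 reflD4)).map fun e => q ^ e := by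
    rw [List.map_map]; rfl
  rw [h, e, d4On2]

end Cfsg.Agent.Lib.Helper3.ChevM
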