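import Cfsg.Agent.Lib.Helper3.ChevData.D4Ot3A
set_option autoImplicit false

namespace Cfsg.Agent.Lib.Helper3.ChevM

/-- Left multiplication of the representatives of step 3 of type D4. -/
theorem d4Ot3 : ∀ r < 32, ((fun p => stepCheck Cfsg.Lie.chevD4 reflD4 3 dlD43 nxtD43 (p / 4) (p % 4))) r = true := by
  intro r hr
  exact d4Ot3_0 r (by omega) hr

end Cfsg.Agent.Lib.Helper3.ChevM
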