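import Cfsg.Agent.Lib.Helper3.ChevData.D4CommData
import Cfsg.Agent.Lib.Helper3.ChevData.D4Ucol
import Cfsg.Agent.Lib.Helper3.ChevData.D4Uinj
import Cfsg.Agent.Lib.Helper3.ChevData.D4Ufrm
import Cfsg.Agent.Lib.Helper3.ChevData.D4Ulev
import Cfsg.Agent.Lib.Helper3.ChevData.D4Uwit
set_option autoImplicit false

namespace Cfsg.Agent.Lib.Helper3.ChevM

/-- The structure data for the subgroup `U` of type D4. -/
def uhypD4 : UHyp cdD4 relD4 where
  K := commD4
  hpos := hposD4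
  hf := hfD4
  fr := frD4
  wj := wjD4
  wi := wiD4
  col := of_pairRange (m := 24) (n := 24) d4Ucol
  inj := d4Uinj
  lev := d4Ulev
  frm := d4Ufrm
  wit := d4Uwit

end Cfsg.Agent.Lib.Helper3.ChevM
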