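import Mathlib
import Cfsg.Prelude.Def_ChevD4
set_option autoImplicit false
set_option maxRecDepth 1000000

namespace Cfsg.Agent.Lib.Helper3.ChevM

/-- Coefficients of the roots of type D4 on the fundamental roots. -/
def vecD4 (r j : ℕ) : ℤ := ((#[#[-1, -2, -1, -1], #[-1, -1, -1, -1], #[-1, -1, -1, 0], #[-1, -1, 0, -1], #[-1, -1, 0, 0], #[-1, 0, 0, 0], #[0, -1, -1, -1], #[0, -1, -1, 0], #[0, -1, 0, -1], #[0, -1, 0, 0], #[0, 0, -1, 0], #[0, 0, 0, -1], #[0, 0, 0, 1], #[0, 0, 1, 0], #[0, 1, 0, 0], #[0, 1, 0, 1], #[0, 1, 1, 0], #[0, 1, 1, 1], #[1, 0, 0, 0], #[1, 1, 0, 0], #[1, 1, 0, 1], #[1, 1, 1, 0], #[1, 1, 1, 1], #[1, 2, 1, 1]] : Array (Array ℤ)).getD r #[]).getD j 0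

/-- Left factor of the diagonal form of the Cartan matrix, type D4. -/
def smPD4 : Matrix (Fin 4) (Fin 4) ℤ := Matrix.of fun i j => ((#[#[-1, 0, 0, 0], #[-2, -1, 0, 0], #[-3, -2, -1, 0], #[2, 2, 1, 1]] : Array (Array ℤ)).getD i.val #[]).getD j.val 0

/-- Right factor, type D4. -/
def smQD4 : Matrix (Fin 4) (Fin 4) ℤ := Matrix.of fun i j => ((#[#[0, 0, 0, 1], #[1, 0, 0, 2], #[0, 1, -1, 1], #[0, 0, 1, 2]] : Array (Array ℤ)).getD i.val #[]).getD j.val 0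

/-- Inverse of the left factor, type D4. -/
def smPiD4 : Matrix (Fin 4) (Fin 4) ℤ := Matrix.of fun i j => ((#[#[-1, 0, 0, 0], #[2, -1, 0, 0], #[-1, 2, -1, 0], #[-1, 0, 1, 1]] : Array (Array ℤ)).getD i.val #[]).getD j.val 0

/-- Inverse of the right factor, type D4. -/
def smQiD4 : Matrix (Fin 4) (Fin 4) ℤ := Matrix.of fun i j => ((#[#[-2, 1, 0, 0], #[-3, 0, 1, 1], #[-2, 0, 0, 1], #[1, 0, 0, 0]] : Array (Array ℤ)).getD i.val #[]).getD j.val 0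

/-- The diagonal form of the Cartan matrix of type D4. -/
def smDD4 (k : Fin 4) : ℕ := (#[1, 1, 2, 2] : Array ℕ).getD k.val 0

end Cfsg.Agent.Lib.Helper3.ChevM
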