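import Cfsg.Prelude.Def_ChevD4
import Cfsg.Agent.Lib.Helper3.ChevData.D4Hd2
import Cfsg.Agent.Lib.Helper3.ChevL2
set_option autoImplicit false
set_option maxRecDepth 1000000
set_option Elab.async false

namespace Cfsg.Agent.Lib.Helper3.ChevM

theorem d4Cv_1_288 : allRange 288 312 (fun k => commVecCheck Cfsg.Lie.chevD4 vecD4 (k / 24) (k % 24)) = true := by decide +kernel
theorem d4Cv_1_312 : allRange 312 336 (fun k => commVecCheck Cfsg.Lie.chevD4 vecD4 (k / 24) (k % 24)) = true := by decide +kernel
theorem d4Cv_1_336 : allRange 336 360 (fun k => commVecCheck Cfsg.Lie.chevD4 vecD4 (k / 24) (k % 24)) = true := by decide +kernel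
theorem d4Cv_1_360 : allRange 360 384 (fun k => commVecCheck Cfsg.Lie.chevD4 vecD4 (k / 24) (k % 24)) = true := by decide +kernel
theorem d4Cv_1_384 : allRange 384 408 (fun k => commVecCheck Cfsg.Lie.chevD4 vecD4 (k / 24) (k % 24)) = true := by decide +kernel
theorem d4Cv_1_408 : allRange 408 432 (fun k => commVecCheck Cfsg.Lie.chevD4 vecD4 (k / 24) (k % 24)) = true := by decide +kernel
theorem d4Cv_1_432 : allRange 432 456 (fun k => commVecCheck Cfsg.Lie.chevD4 vecD4 (k / 24) (k % 24)) = true := by decide +kernel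
theorem d4Cv_1_456 : allRange 456 480 (fun k => commVecCheck Cfsg.Lie.chevD4 vecD4 (k / 24) (k % 24)) = true := by decide +kernel
theorem d4Cv_1_480 : allRange 480 504 (fun k => commVecCheck Cfsg.Lie.chevD4 vecD4 (k / 24) (k % 24)) = true := by decide +kernel
theorem d4Cv_1_504 : allRange 504 528 (fun k => commVecCheck Cfsg.Lie.chevD4 vecD4 (k / 24) (k % 24)) = true := by decide +kernel
theorem d4Cv_1_528 : allRange 528 552 (fun k => commVecCheck Cfsg.Lie.chevD4 vecD4 (k / 24) (k % 24)) = true := by decide +kernel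
theorem d4Cv_1_552 : allRange 552 576 (fun k => commVecCheck Cfsg.Lie.chevD4 vecD4 (k / 24) (k % 24)) = true := by decide +kernel

/-- The roots of the commutator formula of type D4 are the expected combinations (roots 288 to 575). -/
theorem d4Cv_1 : ∀ r, 288 ≤ r → r < 576 → (fun k => commVecCheck Cfsg.Lie.chevD4 vecD4 (k / 24) (k % 24)) r = true := by
  intro r h1 h2
  by_cases c0 : r < 312
  · exact allRange_spec d4Cv_1_288 r (by omega) c0
  by_cases c1 : r < 336
  · exact allRange_spec d4Cv_1_312 r (by omega) c1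
  by_cases c2 : r < 360
  · exact allRange_spec d4Cv_1_336 r (by omega) c2
  by_cases c3 : r < 384
  · exact allRange_spec d4Cv_1_360 r (by omega) c3
  by_cases c4 : r < 408
  · exact allRange_spec d4Cv_1_384 r (by omega) c4
  by_cases c5 : r < 432
  · exact allRange_spec d4Cv_1_408 r (by omega) c5
  by_cases c6 : r < 456
  · exact allRange_spec d4Cv_1_432 r (by omega) c6
  by_cases c7 : r < 480
  · exact allRange_spec d4Cv_1_456 r (by omega) c7
  by_cases c8 : r < 504
  · exact allRange_spec d4Cv_1_480 r (by omega) c8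
  by_cases c9 : r < 528
  · exact allRange_spec d4Cv_1_504 r (by omega) c9
  by_cases c10 : r < 552
  · exact allRange_spec d4Cv_1_528 r (by omega) c10
  exact allRange_spec d4Cv_1_552 r (by omega) h2

end Cfsg.Agent.Lib.Helper3.ChevM
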