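import Cfsg.Agent.Lib.Helper3.ChevData.D4CvA
import Cfsg.Agent.Lib.Helper3.ChevData.D4CvB
set_option autoImplicit false

namespace Cfsg.Agent.Lib.Helper3.ChevM

/-- The roots of the commutator formula of type D4 are the expected combinations. -/
theorem d4Cv : ∀ r < 576, (fun k => commVecCheck Cfsg.Lie.chevD4 vecD4 (k / 24) (k % 24)) r = true := by
  intro r hr
  by_cases h0 : r < 288
  · exact d4Cv_0 r (by omega) h0
  exact d4Cv_1 r (by omega) hr

end Cfsg.Agent.Lib.Helper3.ChevM
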