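import Cfsg.Agent.Lib.Helper3.ChevData.D4ConjA
set_option autoImplicit false

namespace Cfsg.Agent.Lib.Helper3.ChevM

/-- Conjugation of root elements by the `n_p` of type D4. -/
theorem d4Conj : ∀ r < 96, ((fun k => cdD4.checkConj (k / 24) (cdD4.cartI pairD4 (k / 24)) (reflD4 (k / 24)) (etaD4 (k / 24)) (k % 24))) r = true := by
  intro r hr
  exact d4Conj_0 r (by omega) hr

end Cfsg.Agent.Lib.Helper3.ChevM
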