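import Cfsg.Agent.Lib.Helper3.ChevData.D4HdA
set_option autoImplicit false

namespace Cfsg.Agent.Lib.Helper3.ChevM

/-- Diagonal form of the `h_r(c)` of type D4. -/
theorem d4Hd : ∀ r < 24, ((fun r => cdD4.checkHDiag r (cdD4.expo pairD4 r))) r = true := by
  intro r hr
  exact d4Hd_0 r (by omega) hr

end Cfsg.Agent.Lib.Helper3.ChevM
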