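import Cfsg.Agent.Lib.Helper3.ChevData.D4NchkA
set_option autoImplicit false

namespace Cfsg.Agent.Lib.Helper3.ChevM

/-- Monomial form of the `n_p` of type D4. -/
theorem d4Nchk : ∀ r < 4, ((fun i => cdD4.checkN i (cdD4.cartI pairD4 i) (reflD4 i) (etaD4 i))) r = true := by
  intro r hr
  exact d4Nchk_0 r (by omega) hr

end Cfsg.Agent.Lib.Helper3.ChevM
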