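import Cfsg.Agent.Lib.Helper3.ChevData.D4NdA
set_option autoImplicit false

namespace Cfsg.Agent.Lib.Helper3.ChevM

/-- Conjugation of the `h_p(c)` by the `n_p` of type D4. -/
theorem d4Nd : ∀ r < 16, ((fun k => cdD4.checkND (k / 4) (cdD4.cartI pairD4 (k / 4)) (reflD4 (k / 4)) (etaD4 (k / 4)) (cdD4.expo pairD4 (Cfsg.Lie.chevD4.simple (k % 4))) (cdD4.expo pairD4 (reflD4 (k / 4) (Cfsg.Lie.chevD4.simple (k % 4)))))) r = true := by
  intro r hr
  exact d4Nd_0 r (by omega) hr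

end Cfsg.Agent.Lib.Helper3.ChevM
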