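import Cfsg.Agent.Lib.Helper3.ChevData.D4Add
import Cfsg.Agent.Lib.Helper3.ChevData.D4Hd
import Cfsg.Agent.Lib.Helper3.ChevData.D4Tab
import Cfsg.Agent.Lib.Helper3.ChevData.D4Eta
import Cfsg.Agent.Lib.Helper3.ChevData.D4Nchk
import Cfsg.Agent.Lib.Helper3.ChevData.D4Conj
import Cfsg.Agent.Lib.Helper3.ChevData.D4Dx
import Cfsg.Agent.Lib.Helper3.ChevData.D4Nd
set_option autoImplicit false
set_option maxRecDepth 1000000

namespace Cfsg.Agent.Lib.Helper3.ChevM

/-- The relation data of type D4. -/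
def relD4 : RelData cdD4 where
  pair := pairD4
  refl := reflD4
  eta := etaD4
  neg_lt := by decide +kernel
  simple_lt := by decide +kernel
  tab := of_pairRange (m := 4) (n := 24) d4Tab
  etaOk := of_pairRange (m := 4) (n := 24) d4Eta
  etaSimple := by decide +kernel
  add := d4Add
  hdiag := d4Hd
  nchk := d4Nchk
  conj := of_pairRange (m := 4) (n := 24) d4Conj
  dx := of_pairRange (m := 4) (n := 24) d4Dx
  nd := of_pairRange (m := 4) (n := 4) d4Nd

end Cfsg.Agent.Lib.Helper3.ChevM
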