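import Cfsg.Agent.Lib.Helper3.ChevData.D4VsA
set_option autoImplicit false

namespace Cfsg.Agent.Lib.Helper3.ChevM

/-- The coefficients of the roots and coroots of type D4 have the same signs. -/
theorem d4Vs : ∀ r < 24, (fun r => vecSignCheck Cfsg.Lie.chevD4 vecD4 r) r = true := by
  intro r hr
  exact d4Vs_0 r (by omega) hr

end Cfsg.Agent.Lib.Helper3.ChevM
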