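import Cfsg.Agent.Lib.Helper3.ChevData.D4Wt
import Cfsg.Agent.Lib.Helper3.ChevData.D4Vs
import Cfsg.Agent.Lib.Helper3.ChevData.D4Cv
import Cfsg.Agent.Lib.Helper3.ChevData.D4Sc
import Cfsg.Agent.Lib.Helper3.ChevData.D4Srwc
import Cfsg.Agent.Lib.Helper3.ChevData.D4Sign
import Cfsg.Agent.Lib.Helper3.ChevData.D4Hdec
import Cfsg.Agent.Lib.Helper3.ChevData.D4Rel
set_option autoImplicit false

namespace Cfsg.Agent.Lib.Helper3.ChevM

/-- The table checks for the Levi decomposition, type D4. -/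
def leviD4 : LeviHyp cdD4 relD4 where
  vec := vecD4
  wt := d4Wt
  vs := d4Vs
  cv := of_pairRange (m := 24) (n := 24) d4Cv
  sc := d4Sc
  rw := srwD4
  hrw := d4Srwc
  sign := d4Sign
  dec := of_pairRange (m := 24) (n := 24) d4Hdec

end Cfsg.Agent.Lib.Helper3.ChevM
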