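import Cfsg.Agent.Lib.Helper3.ChevData.E6WpA
set_option autoImplicit false

namespace Cfsg.Agent.Lib.Helper3.ChevM

/-- The fundamental reflections of type E6 permute the other positive roots. -/
theorem e6Wp : ∀ r < 432, ((fun k => wpCheck Cfsg.Lie.chevE6 reflE6 (k / 72) (k % 72))) r = true := by
  intro r hr
  exact e6Wp_0 r (by omega) hr

end Cfsg.Agent.Lib.Helper3.ChevM
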