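import Cfsg.Agent.Lib.Helper3.ChevData.E6Rel
import Cfsg.Agent.Lib.Helper3.ChevData.E6Tri
import Cfsg.Agent.Lib.Helper3.ChevData.E6ReflInv
import Cfsg.Agent.Lib.Helper3.ChevData.E6NegRefl
import Cfsg.Agent.Lib.Helper3.ChevData.E6Wp
import Cfsg.Agent.Lib.Helper3.ChevData.E6Ns
import Cfsg.Agent.Lib.Helper3.ChevData.E6Rwc
set_option autoImplicit false

namespace Cfsg.Agent.Lib.Helper3.ChevM

/-- The table checks for the monomial subgroup of type E6. -/
def monoE6 : MonoHyp cdE6 relE6 where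
  tri := e6Tri
  inv := of_pairRange (m := 6) (n := 72) e6ReflInv
  nr := of_pairRange (m := 6) (n := 72) e6NegRefl
  wp := of_pairRange (m := 6) (n := 72) e6Wp
  ns := e6Ns
  rw := rwE6
  rwc := e6Rwc

end Cfsg.Agent.Lib.Helper3.ChevM
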