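import Cfsg.Agent.Lib.Helper3.ChevData.E6CommData
import Cfsg.Agent.Lib.Helper3.ChevData.E6Mono
import Cfsg.Agent.Lib.Helper3.ChevData.E6Up
import Cfsg.Agent.Lib.Helper3.ChevData.E6Hdec
import Cfsg.Agent.Lib.Helper3.ChevData.E6Root
import Cfsg.Agent.Lib.Helper3.ChevData.E6NegConj
import Cfsg.Agent.Lib.Helper3.ChevData.E6Low
set_option autoImplicit false

namespace Cfsg.Agent.Lib.Helper3.ChevM

/-- The table checks for the (B,N)-pair of type E6. -/
def bnE6 : BNHyp cdE6 relE6 where
  mono := monoE6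
  up := of_pairRange (m := 6) (n := 72) e6Up
  dec := of_pairRange (m := 72) (n := 72) e6Hdec
  root := e6Root
  nc := e6NegConj
  low := e6Low

end Cfsg.Agent.Lib.Helper3.ChevM
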