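import Cfsg.Agent.Lib.Helper3.ChevData.E6IrrA
set_option autoImplicit false

namespace Cfsg.Agent.Lib.Helper3.ChevM

/-- The Dynkin diagram of type E6 is connected. -/
theorem e6Irr : ∀ r < 6, ((fun i => irrCheck Cfsg.Lie.chevE6 reflE6 parE6 depE6 0 i)) r = true := by
  intro r hr
  exact e6Irr_0 r (by omega) hr

end Cfsg.Agent.Lib.Helper3.ChevM
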