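import Cfsg.Agent.Lib.Helper3.ChevData.E6OppA
set_option autoImplicit false

namespace Cfsg.Agent.Lib.Helper3.ChevM

/-- The longest element maps the positive roots of type E6 onto the negative roots. -/
theorem e6Opp : ∀ r < 72, ((fun s => oppCheck Cfsg.Lie.chevE6 reflE6 w0E6 w0rE6 s)) r = true := by
  intro r hr
  exact e6Opp_0 r (by omega) hr

end Cfsg.Agent.Lib.Helper3.ChevM
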