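import Cfsg.Agent.Lib.Helper3.ChevData.E6Os1A
set_option autoImplicit false

namespace Cfsg.Agent.Lib.Helper3.ChevM

/-- The subsystem of the first 1 fundamental roots of type E6. -/
theorem e6Os1 : ∀ r < 72, ((fun r => suppCheck Cfsg.Lie.chevE6 reflE6 1 r)) r = true := by
  intro r hr
  exact e6Os1_0 r (by omega) hr

end Cfsg.Agent.Lib.Helper3.ChevM
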