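import Cfsg.Agent.Lib.Helper3.ChevData.E6Ot1A
set_option autoImplicit false

namespace Cfsg.Agent.Lib.Helper3.ChevM

/-- Left multiplication of the representatives of step 1 of type E6. -/
theorem e6Ot1 : ∀ r < 4, ((fun p => stepCheck Cfsg.Lie.chevE6 reflE6 1 dlE61 nxtE61 (p / 2) (p % 2))) r = true := by
  intro r hr
  exact e6Ot1_0 r (by omega) hr

end Cfsg.Agent.Lib.Helper3.ChevM
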