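import Cfsg.Agent.Lib.Helper3.ChevData.E6Mono
import Cfsg.Agent.Lib.Helper3.ChevData.E6Hdec
import Cfsg.Agent.Lib.Helper3.ChevData.E6Sign
import Cfsg.Agent.Lib.Helper3.ChevData.E6Os2
import Cfsg.Agent.Lib.Helper3.ChevData.E6Or2
import Cfsg.Agent.Lib.Helper3.ChevData.E6Ot2
set_option autoImplicit false
set_option maxRecDepth 1000000

namespace Cfsg.Agent.Lib.Helper3.ChevM

theorem e6Od2 : distinctCheck Cfsg.Lie.chevE6 reflE6 dlE62 = true := by decide +kernel

theorem e6On2 : dlE62.map (Nw Cfsg.Lie.chevE6 reflE6) = [0, 1, 2] := by decide +kernel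

/-- Step 2 of the factorisation of the Poincaré sum of type E6. -/
theorem e6Poin2 (q : ℕ) : poin cdE6.D relE6.refl (Set.Iio 3) q =
    ([0, 1, 2].map fun e => q ^ e).sum * poin cdE6.D relE6.refl (Set.Iio 2) q := by
  have h := monoE6.poin_step (of_pairRange (m := 72) (n := 72) e6Hdec) e6Sign 2 e6Os2 dlE62 e6Or2 nxtE62
    (by decide +kernel) (of_pairRange (m := 3) (n := 3) e6Ot2) e6Od2 (by decide +kernel) q
  show poin cdE6.D relE6.refl (Set.Iio (2 + 1)) q = _
  have e : (dlE62.map fun d => q ^ Nw cdE6.D relE6.refl d) = (dlE62.map (Nw Cfsg.Lie.chevE6 reflE6)).map fun e => q ^ e := by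
    rw [List.map_map]; rfl
  rw [h, e, e6On2]

end Cfsg.Agent.Lib.Helper3.ChevM
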