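import Cfsg.Agent.Lib.Helper3.ChevData.E6Mono
import Cfsg.Agent.Lib.Helper3.ChevData.E6Hdec
import Cfsg.Agent.Lib.Helper3.ChevData.E6Sign
import Cfsg.Agent.Lib.Helper3.ChevData.E6Os5
import Cfsg.Agent.Lib.Helper3.ChevData.E6Or5
import Cfsg.Agent.Lib.Helper3.ChevData.E6Ot5
set_option autoImplicit false
set_option maxRecDepth 1000000

namespace Cfsg.Agent.Lib.Helper3.ChevM

theorem e6Od5 : distinctCheck Cfsg.Lie.chevE6 reflE6 dlE65 = true := by decide +kernel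

theorem e6On5 : dlE65.map (Nw Cfsg.Lie.chevE6 reflE6) = [0, 1, 2, 3, 4, 4, 5, 5, 6, 6, 7, 7, 8, 8, 8, 9, 9, 10, 10, 11, 11, 12, 12, 13, 14, 15, 16] := by decide +kernel

/-- Step 5 of the factorisation of the Poincaré sum of type E6. -/
theorem e6Poin5 (q : ℕ) : poin cdE6.D relE6.refl (Set.Iio 6) q =
    ([0, 1, 2, 3, 4, 4, 5, 5, 6, 6, 7, 7, 8, 8, 8, 9, 9, 10, 10, 11, 11, 12, 12, 13, 14, 15, 16].map fun e => q ^ e).sum * poin cdE6.D relE6.refl (Set.Iio 5) q := by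
  have h := monoE6.poin_step (of_pairRange (m := 72) (n := 72) e6Hdec) e6Sign 5 e6Os5 dlE65 e6Or5 nxtE65
    (by decide +kernel) (of_pairRange (m := 27) (n := 6) e6Ot5) e6Od5 (by decide +kernel) q
  show poin cdE6.D relE6.refl (Set.Iio (5 + 1)) q = _
  have e : (dlE65.map fun d => q ^ Nw cdE6.D relE6.refl d) = (dlE65.map (Nw Cfsg.Lie.chevE6 reflE6)).map fun e => q ^ e := by
    rw [List.map_map]; rfl
  rw [h, e, e6On5]

end Cfsg.Agent.Lib.Helper3.ChevM
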