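import Cfsg.Agent.Lib.Helper3.ChevData.E6Ord0
import Cfsg.Agent.Lib.Helper3.ChevData.E6Ord1
import Cfsg.Agent.Lib.Helper3.ChevData.E6Ord2
import Cfsg.Agent.Lib.Helper3.ChevData.E6Ord3
import Cfsg.Agent.Lib.Helper3.ChevData.E6Ord4
import Cfsg.Agent.Lib.Helper3.ChevData.E6Ord5
import Cfsg.Agent.Lib.Helper3.ChevO3
set_option autoImplicit false
set_option maxRecDepth 1000000

namespace Cfsg.Agent.Lib.Helper3.ChevM

/-- The Poincaré sum of the Weyl group of type E6. -/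
theorem e6Poin (q : ℕ) : poin cdE6.D relE6.refl Set.univ q =
    ([0, 1, 2, 3, 4, 4, 5, 5, 6, 6, 7, 7, 8, 8, 8, 9, 9, 10, 10, 11, 11, 12, 12, 13, 14, 15, 16].map fun e => q ^ e).sum *
    ([0, 1, 2, 3, 3, 4, 4, 5, 5, 6, 6, 7, 7, 8, 9, 10].map fun e => q ^ e).sum *
    ([0, 1, 2, 2, 3, 3, 4, 4, 5, 6].map fun e => q ^ e).sum *
    ([0, 1, 2].map fun e => q ^ e).sum *
    ([0, 1].map fun e => q ^ e).sum *
    ([0, 1].map fun e => q ^ e).sum := by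
  rw [poin_univ]
  show poin cdE6.D relE6.refl (Set.Iio 6) q = _
  rw [e6Poin5, e6Poin4, e6Poin3, e6Poin2, e6Poin1, e6Poin0, poin_zero e6Sign]
  ring

end Cfsg.Agent.Lib.Helper3.ChevM
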