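import Cfsg.Agent.Lib.Helper3.ChevData.E6CommData
import Cfsg.Agent.Lib.Helper3.ChevData.E6Ucol
import Cfsg.Agent.Lib.Helper3.ChevData.E6Uinj
import Cfsg.Agent.Lib.Helper3.ChevData.E6Ufrm
import Cfsg.Agent.Lib.Helper3.ChevData.E6Ulev
import Cfsg.Agent.Lib.Helper3.ChevData.E6Uwit
set_option autoImplicit false

namespace Cfsg.Agent.Lib.Helper3.ChevM

/-- The structure data for the subgroup `U` of type E6. -/
def uhypE6 : UHyp cdE6 relE6 where
  K := commE6
  hpos := hposE6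
  hf := hfE6
  fr := frE6
  wj := wjE6
  wi := wiE6
  col := of_pairRange (m := 72) (n := 72) e6Ucol
  inj := e6Uinj
  lev := e6Ulev
  frm := e6Ufrm
  wit := e6Uwit

end Cfsg.Agent.Lib.Helper3.ChevM
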