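import Cfsg.Prelude.Def_ChevE6
import Cfsg.Agent.Lib.Helper3.ChevData.E6Hd2
import Cfsg.Agent.Lib.Helper3.ChevL2
set_option autoImplicit false
set_option maxRecDepth 1000000
set_option Elab.async false

namespace Cfsg.Agent.Lib.Helper3.ChevM

theorem e6Cv_1_864 : allRange 864 936 (fun k => commVecCheck Cfsg.Lie.chevE6 vecE6 (k / 72) (k % 72)) = true := by decide +kernel
theorem e6Cv_1_936 : allRange 936 1008 (fun k => commVecCheck Cfsg.Lie.chevE6 vecE6 (k / 72) (k % 72)) = true := by decide +kernel
theorem e6Cv_1_1008 : allRange 1008 1080 (fun k => commVecCheck Cfsg.Lie.chevE6 vecE6 (k / 72) (k % 72)) = true := by decide +kernel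
theorem e6Cv_1_1080 : allRange 1080 1152 (fun k => commVecCheck Cfsg.Lie.chevE6 vecE6 (k / 72) (k % 72)) = true := by decide +kernel
theorem e6Cv_1_1152 : allRange 1152 1224 (fun k => commVecCheck Cfsg.Lie.chevE6 vecE6 (k / 72) (k % 72)) = true := by decide +kernel
theorem e6Cv_1_1224 : allRange 1224 1296 (fun k => commVecCheck Cfsg.Lie.chevE6 vecE6 (k / 72) (k % 72)) = true := by decide +kernel
theorem e6Cv_1_1296 : allRange 1296 1368 (fun k => commVecCheck Cfsg.Lie.chevE6 vecE6 (k / 72) (k % 72)) = true := by decide +kernel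
theorem e6Cv_1_1368 : allRange 1368 1440 (fun k => commVecCheck Cfsg.Lie.chevE6 vecE6 (k / 72) (k % 72)) = true := by decide +kernel
theorem e6Cv_1_1440 : allRange 1440 1512 (fun k => commVecCheck Cfsg.Lie.chevE6 vecE6 (k / 72) (k % 72)) = true := by decide +kernel
theorem e6Cv_1_1512 : allRange 1512 1584 (fun k => commVecCheck Cfsg.Lie.chevE6 vecE6 (k / 72) (k % 72)) = true := by decide +kernel
theorem e6Cv_1_1584 : allRange 1584 1656 (fun k => commVecCheck Cfsg.Lie.chevE6 vecE6 (k / 72) (k % 72)) = true := by decide +kernel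
theorem e6Cv_1_1656 : allRange 1656 1728 (fun k => commVecCheck Cfsg.Lie.chevE6 vecE6 (k / 72) (k % 72)) = true := by decide +kernel

/-- The roots of the commutator formula of type E6 are the expected combinations (roots 864 to 1727). -/
theorem e6Cv_1 : ∀ r, 864 ≤ r → r < 1728 → (fun k => commVecCheck Cfsg.Lie.chevE6 vecE6 (k / 72) (k % 72)) r = true := by
  intro r h1 h2
  by_cases c0 : r < 936
  · exact allRange_spec e6Cv_1_864 r (by omega) c0
  by_cases c1 : r < 1008
  · exact allRange_spec e6Cv_1_936 r (by omega) c1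
  by_cases c2 : r < 1080
  · exact allRange_spec e6Cv_1_1008 r (by omega) c2
  by_cases c3 : r < 1152
  · exact allRange_spec e6Cv_1_1080 r (by omega) c3
  by_cases c4 : r < 1224
  · exact allRange_spec e6Cv_1_1152 r (by omega) c4
  by_cases c5 : r < 1296
  · exact allRange_spec e6Cv_1_1224 r (by omega) c5
  by_cases c6 : r < 1368
  · exact allRange_spec e6Cv_1_1296 r (by omega) c6
  by_cases c7 : r < 1440
  · exact allRange_spec e6Cv_1_1368 r (by omega) c7
  by_cases c8 : r < 1512
  · exact allRange_spec e6Cv_1_1440 r (by omega) c8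
  by_cases c9 : r < 1584
  · exact allRange_spec e6Cv_1_1512 r (by omega) c9
  by_cases c10 : r < 1656
  · exact allRange_spec e6Cv_1_1584 r (by omega) c10
  exact allRange_spec e6Cv_1_1656 r (by omega) h2

end Cfsg.Agent.Lib.Helper3.ChevM
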