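import Cfsg.Prelude.Def_ChevE6
import Cfsg.Agent.Lib.Helper3.ChevData.E6Hd2
import Cfsg.Agent.Lib.Helper3.ChevL2
set_option autoImplicit false
set_option maxRecDepth 1000000
set_option Elab.async false

namespace Cfsg.Agent.Lib.Helper3.ChevM

theorem e6Cv_2_1728 : allRange 1728 1800 (fun k => commVecCheck Cfsg.Lie.chevE6 vecE6 (k / 72) (k % 72)) = true := by decide +kernel
theorem e6Cv_2_1800 : allRange 1800 1872 (fun k => commVecCheck Cfsg.Lie.chevE6 vecE6 (k / 72) (k % 72)) = true := by decide +kernel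
theorem e6Cv_2_1872 : allRange 1872 1944 (fun k => commVecCheck Cfsg.Lie.chevE6 vecE6 (k / 72) (k % 72)) = true := by decide +kernel
theorem e6Cv_2_1944 : allRange 1944 2016 (fun k => commVecCheck Cfsg.Lie.chevE6 vecE6 (k / 72) (k % 72)) = true := by decide +kernel
theorem e6Cv_2_2016 : allRange 2016 2088 (fun k => commVecCheck Cfsg.Lie.chevE6 vecE6 (k / 72) (k % 72)) = true := by decide +kernel
theorem e6Cv_2_2088 : allRange 2088 2160 (fun k => commVecCheck Cfsg.Lie.chevE6 vecE6 (k / 72) (k % 72)) = true := by decide +kernel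
theorem e6Cv_2_2160 : allRange 2160 2232 (fun k => commVecCheck Cfsg.Lie.chevE6 vecE6 (k / 72) (k % 72)) = true := by decide +kernel
theorem e6Cv_2_2232 : allRange 2232 2304 (fun k => commVecCheck Cfsg.Lie.chevE6 vecE6 (k / 72) (k % 72)) = true := by decide +kernel
theorem e6Cv_2_2304 : allRange 2304 2376 (fun k => commVecCheck Cfsg.Lie.chevE6 vecE6 (k / 72) (k % 72)) = true := by decide +kernel
theorem e6Cv_2_2376 : allRange 2376 2448 (fun k => commVecCheck Cfsg.Lie.chevE6 vecE6 (k / 72) (k % 72)) = true := by decide +kernel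
theorem e6Cv_2_2448 : allRange 2448 2520 (fun k => commVecCheck Cfsg.Lie.chevE6 vecE6 (k / 72) (k % 72)) = true := by decide +kernel
theorem e6Cv_2_2520 : allRange 2520 2592 (fun k => commVecCheck Cfsg.Lie.chevE6 vecE6 (k / 72) (k % 72)) = true := by decide +kernel

/-- The roots of the commutator formula of type E6 are the expected combinations (roots 1728 to 2591). -/
theorem e6Cv_2 : ∀ r, 1728 ≤ r → r < 2592 → (fun k => commVecCheck Cfsg.Lie.chevE6 vecE6 (k / 72) (k % 72)) r = true := by
  intro r h1 h2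
  by_cases c0 : r < 1800
  · exact allRange_spec e6Cv_2_1728 r (by omega) c0
  by_cases c1 : r < 1872
  · exact allRange_spec e6Cv_2_1800 r (by omega) c1
  by_cases c2 : r < 1944
  · exact allRange_spec e6Cv_2_1872 r (by omega) c2
  by_cases c3 : r < 2016
  · exact allRange_spec e6Cv_2_1944 r (by omega) c3
  by_cases c4 : r < 2088
  · exact allRange_spec e6Cv_2_2016 r (by omega) c4
  by_cases c5 : r < 2160
  · exact allRange_spec e6Cv_2_2088 r (by omega) c5
  by_cases c6 : r < 2232
  · exact allRange_spec e6Cv_2_2160 r (by omega) c6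
  by_cases c7 : r < 2304
  · exact allRange_spec e6Cv_2_2232 r (by omega) c7
  by_cases c8 : r < 2376
  · exact allRange_spec e6Cv_2_2304 r (by omega) c8
  by_cases c9 : r < 2448
  · exact allRange_spec e6Cv_2_2376 r (by omega) c9
  by_cases c10 : r < 2520
  · exact allRange_spec e6Cv_2_2448 r (by omega) c10
  exact allRange_spec e6Cv_2_2520 r (by omega) h2

end Cfsg.Agent.Lib.Helper3.ChevM
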