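import Cfsg.Prelude.Def_ChevE6
import Cfsg.Agent.Lib.Helper3.ChevData.E6Hd2
import Cfsg.Agent.Lib.Helper3.ChevL2
set_option autoImplicit false
set_option maxRecDepth 1000000
set_option Elab.async false

namespace Cfsg.Agent.Lib.Helper3.ChevM

theorem e6Cv_3_2592 : allRange 2592 2664 (fun k => commVecCheck Cfsg.Lie.chevE6 vecE6 (k / 72) (k % 72)) = true := by decide +kernel
theorem e6Cv_3_2664 : allRange 2664 2736 (fun k => commVecCheck Cfsg.Lie.chevE6 vecE6 (k / 72) (k % 72)) = true := by decide +kernel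
theorem e6Cv_3_2736 : allRange 2736 2808 (fun k => commVecCheck Cfsg.Lie.chevE6 vecE6 (k / 72) (k % 72)) = true := by decide +kernel
theorem e6Cv_3_2808 : allRange 2808 2880 (fun k => commVecCheck Cfsg.Lie.chevE6 vecE6 (k / 72) (k % 72)) = true := by decide +kernel
theorem e6Cv_3_2880 : allRange 2880 2952 (fun k => commVecCheck Cfsg.Lie.chevE6 vecE6 (k / 72) (k % 72)) = true := by decide +kernel
theorem e6Cv_3_2952 : allRange 2952 3024 (fun k => commVecCheck Cfsg.Lie.chevE6 vecE6 (k / 72) (k % 72)) = true := by decide +kernel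
theorem e6Cv_3_3024 : allRange 3024 3096 (fun k => commVecCheck Cfsg.Lie.chevE6 vecE6 (k / 72) (k % 72)) = true := by decide +kernel
theorem e6Cv_3_3096 : allRange 3096 3168 (fun k => commVecCheck Cfsg.Lie.chevE6 vecE6 (k / 72) (k % 72)) = true := by decide +kernel
theorem e6Cv_3_3168 : allRange 3168 3240 (fun k => commVecCheck Cfsg.Lie.chevE6 vecE6 (k / 72) (k % 72)) = true := by decide +kernel
theorem e6Cv_3_3240 : allRange 3240 3312 (fun k => commVecCheck Cfsg.Lie.chevE6 vecE6 (k / 72) (k % 72)) = true := by decide +kernel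
theorem e6Cv_3_3312 : allRange 3312 3384 (fun k => commVecCheck Cfsg.Lie.chevE6 vecE6 (k / 72) (k % 72)) = true := by decide +kernel
theorem e6Cv_3_3384 : allRange 3384 3456 (fun k => commVecCheck Cfsg.Lie.chevE6 vecE6 (k / 72) (k % 72)) = true := by decide +kernel

/-- The roots of the commutator formula of type E6 are the expected combinations (roots 2592 to 3455). -/
theorem e6Cv_3 : ∀ r, 2592 ≤ r → r < 3456 → (fun k => commVecCheck Cfsg.Lie.chevE6 vecE6 (k / 72) (k % 72)) r = true := by
  intro r h1 h2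
  by_cases c0 : r < 2664
  · exact allRange_spec e6Cv_3_2592 r (by omega) c0
  by_cases c1 : r < 2736
  · exact allRange_spec e6Cv_3_2664 r (by omega) c1
  by_cases c2 : r < 2808
  · exact allRange_spec e6Cv_3_2736 r (by omega) c2
  by_cases c3 : r < 2880
  · exact allRange_spec e6Cv_3_2808 r (by omega) c3
  by_cases c4 : r < 2952
  · exact allRange_spec e6Cv_3_2880 r (by omega) c4
  by_cases c5 : r < 3024
  · exact allRange_spec e6Cv_3_2952 r (by omega) c5
  by_cases c6 : r < 3096
  · exact allRange_spec e6Cv_3_3024 r (by omega) c6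
  by_cases c7 : r < 3168
  · exact allRange_spec e6Cv_3_3096 r (by omega) c7
  by_cases c8 : r < 3240
  · exact allRange_spec e6Cv_3_3168 r (by omega) c8
  by_cases c9 : r < 3312
  · exact allRange_spec e6Cv_3_3240 r (by omega) c9
  by_cases c10 : r < 3384
  · exact allRange_spec e6Cv_3_3312 r (by omega) c10
  exact allRange_spec e6Cv_3_3384 r (by omega) h2

end Cfsg.Agent.Lib.Helper3.ChevM
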