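import Cfsg.Prelude.Def_ChevE6
import Cfsg.Agent.Lib.Helper3.ChevData.E6Hd2
import Cfsg.Agent.Lib.Helper3.ChevL2
set_option autoImplicit false
set_option maxRecDepth 1000000
set_option Elab.async false

namespace Cfsg.Agent.Lib.Helper3.ChevM

theorem e6Cv_4_3456 : allRange 3456 3528 (fun k => commVecCheck Cfsg.Lie.chevE6 vecE6 (k / 72) (k % 72)) = true := by decide +kernel
theorem e6Cv_4_3528 : allRange 3528 3600 (fun k => commVecCheck Cfsg.Lie.chevE6 vecE6 (k / 72) (k % 72)) = true := by decide +kernel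
theorem e6Cv_4_3600 : allRange 3600 3672 (fun k => commVecCheck Cfsg.Lie.chevE6 vecE6 (k / 72) (k % 72)) = true := by decide +kernel
theorem e6Cv_4_3672 : allRange 3672 3744 (fun k => commVecCheck Cfsg.Lie.chevE6 vecE6 (k / 72) (k % 72)) = true := by decide +kernel
theorem e6Cv_4_3744 : allRange 3744 3816 (fun k => commVecCheck Cfsg.Lie.chevE6 vecE6 (k / 72) (k % 72)) = true := by decide +kernel
theorem e6Cv_4_3816 : allRange 3816 3888 (fun k => commVecCheck Cfsg.Lie.chevE6 vecE6 (k / 72) (k % 72)) = true := by decide +kernel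
theorem e6Cv_4_3888 : allRange 3888 3960 (fun k => commVecCheck Cfsg.Lie.chevE6 vecE6 (k / 72) (k % 72)) = true := by decide +kernel
theorem e6Cv_4_3960 : allRange 3960 4032 (fun k => commVecCheck Cfsg.Lie.chevE6 vecE6 (k / 72) (k % 72)) = true := by decide +kernel
theorem e6Cv_4_4032 : allRange 4032 4104 (fun k => commVecCheck Cfsg.Lie.chevE6 vecE6 (k / 72) (k % 72)) = true := by decide +kernel
theorem e6Cv_4_4104 : allRange 4104 4176 (fun k => commVecCheck Cfsg.Lie.chevE6 vecE6 (k / 72) (k % 72)) = true := by decide +kernel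
theorem e6Cv_4_4176 : allRange 4176 4248 (fun k => commVecCheck Cfsg.Lie.chevE6 vecE6 (k / 72) (k % 72)) = true := by decide +kernel
theorem e6Cv_4_4248 : allRange 4248 4320 (fun k => commVecCheck Cfsg.Lie.chevE6 vecE6 (k / 72) (k % 72)) = true := by decide +kernel

/-- The roots of the commutator formula of type E6 are the expected combinations (roots 3456 to 4319). -/
theorem e6Cv_4 : ∀ r, 3456 ≤ r → r < 4320 → (fun k => commVecCheck Cfsg.Lie.chevE6 vecE6 (k / 72) (k % 72)) r = true := by
  intro r h1 h2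
  by_cases c0 : r < 3528
  · exact allRange_spec e6Cv_4_3456 r (by omega) c0
  by_cases c1 : r < 3600
  · exact allRange_spec e6Cv_4_3528 r (by omega) c1
  by_cases c2 : r < 3672
  · exact allRange_spec e6Cv_4_3600 r (by omega) c2
  by_cases c3 : r < 3744
  · exact allRange_spec e6Cv_4_3672 r (by omega) c3
  by_cases c4 : r < 3816
  · exact allRange_spec e6Cv_4_3744 r (by omega) c4
  by_cases c5 : r < 3888
  · exact allRange_spec e6Cv_4_3816 r (by omega) c5
  by_cases c6 : r < 3960
  · exact allRange_spec e6Cv_4_3888 r (by omega) c6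
  by_cases c7 : r < 4032
  · exact allRange_spec e6Cv_4_3960 r (by omega) c7
  by_cases c8 : r < 4104
  · exact allRange_spec e6Cv_4_4032 r (by omega) c8
  by_cases c9 : r < 4176
  · exact allRange_spec e6Cv_4_4104 r (by omega) c9
  by_cases c10 : r < 4248
  · exact allRange_spec e6Cv_4_4176 r (by omega) c10
  exact allRange_spec e6Cv_4_4248 r (by omega) h2

end Cfsg.Agent.Lib.Helper3.ChevM
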