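import Cfsg.Prelude.Def_ChevE6
import Cfsg.Agent.Lib.Helper3.ChevData.E6Hd2
import Cfsg.Agent.Lib.Helper3.ChevL2
set_option autoImplicit false
set_option maxRecDepth 1000000
set_option Elab.async false

namespace Cfsg.Agent.Lib.Helper3.ChevM

theorem e6Cv_5_4320 : allRange 4320 4392 (fun k => commVecCheck Cfsg.Lie.chevE6 vecE6 (k / 72) (k % 72)) = true := by decide +kernel
theorem e6Cv_5_4392 : allRange 4392 4464 (fun k => commVecCheck Cfsg.Lie.chevE6 vecE6 (k / 72) (k % 72)) = true := by decide +kernel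
theorem e6Cv_5_4464 : allRange 4464 4536 (fun k => commVecCheck Cfsg.Lie.chevE6 vecE6 (k / 72) (k % 72)) = true := by decide +kernel
theorem e6Cv_5_4536 : allRange 4536 4608 (fun k => commVecCheck Cfsg.Lie.chevE6 vecE6 (k / 72) (k % 72)) = true := by decide +kernel
theorem e6Cv_5_4608 : allRange 4608 4680 (fun k => commVecCheck Cfsg.Lie.chevE6 vecE6 (k / 72) (k % 72)) = true := by decide +kernel
theorem e6Cv_5_4680 : allRange 4680 4752 (fun k => commVecCheck Cfsg.Lie.chevE6 vecE6 (k / 72) (k % 72)) = true := by decide +kernel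
theorem e6Cv_5_4752 : allRange 4752 4824 (fun k => commVecCheck Cfsg.Lie.chevE6 vecE6 (k / 72) (k % 72)) = true := by decide +kernel
theorem e6Cv_5_4824 : allRange 4824 4896 (fun k => commVecCheck Cfsg.Lie.chevE6 vecE6 (k / 72) (k % 72)) = true := by decide +kernel
theorem e6Cv_5_4896 : allRange 4896 4968 (fun k => commVecCheck Cfsg.Lie.chevE6 vecE6 (k / 72) (k % 72)) = true := by decide +kernel
theorem e6Cv_5_4968 : allRange 4968 5040 (fun k => commVecCheck Cfsg.Lie.chevE6 vecE6 (k / 72) (k % 72)) = true := by decide +kernel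
theorem e6Cv_5_5040 : allRange 5040 5112 (fun k => commVecCheck Cfsg.Lie.chevE6 vecE6 (k / 72) (k % 72)) = true := by decide +kernel
theorem e6Cv_5_5112 : allRange 5112 5184 (fun k => commVecCheck Cfsg.Lie.chevE6 vecE6 (k / 72) (k % 72)) = true := by decide +kernel

/-- The roots of the commutator formula of type E6 are the expected combinations (roots 4320 to 5183). -/
theorem e6Cv_5 : ∀ r, 4320 ≤ r → r < 5184 → (fun k => commVecCheck Cfsg.Lie.chevE6 vecE6 (k / 72) (k % 72)) r = true := by
  intro r h1 h2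
  by_cases c0 : r < 4392
  · exact allRange_spec e6Cv_5_4320 r (by omega) c0
  by_cases c1 : r < 4464
  · exact allRange_spec e6Cv_5_4392 r (by omega) c1
  by_cases c2 : r < 4536
  · exact allRange_spec e6Cv_5_4464 r (by omega) c2
  by_cases c3 : r < 4608
  · exact allRange_spec e6Cv_5_4536 r (by omega) c3
  by_cases c4 : r < 4680
  · exact allRange_spec e6Cv_5_4608 r (by omega) c4
  by_cases c5 : r < 4752
  · exact allRange_spec e6Cv_5_4680 r (by omega) c5
  by_cases c6 : r < 4824
  · exact allRange_spec e6Cv_5_4752 r (by omega) c6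
  by_cases c7 : r < 4896
  · exact allRange_spec e6Cv_5_4824 r (by omega) c7
  by_cases c8 : r < 4968
  · exact allRange_spec e6Cv_5_4896 r (by omega) c8
  by_cases c9 : r < 5040
  · exact allRange_spec e6Cv_5_4968 r (by omega) c9
  by_cases c10 : r < 5112
  · exact allRange_spec e6Cv_5_5040 r (by omega) c10
  exact allRange_spec e6Cv_5_5112 r (by omega) h2

end Cfsg.Agent.Lib.Helper3.ChevM
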