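import Cfsg.Agent.Lib.Helper3.ChevData.E6CvA
import Cfsg.Agent.Lib.Helper3.ChevData.E6CvB
import Cfsg.Agent.Lib.Helper3.ChevData.E6CvC
import Cfsg.Agent.Lib.Helper3.ChevData.E6CvD
import Cfsg.Agent.Lib.Helper3.ChevData.E6CvE
import Cfsg.Agent.Lib.Helper3.ChevData.E6CvF
set_option autoImplicit false

namespace Cfsg.Agent.Lib.Helper3.ChevM

/-- The roots of the commutator formula of type E6 are the expected combinations. -/
theorem e6Cv : ∀ r < 5184, (fun k => commVecCheck Cfsg.Lie.chevE6 vecE6 (k / 72) (k % 72)) r = true := by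
  intro r hr
  by_cases h0 : r < 864
  · exact e6Cv_0 r (by omega) h0
  by_cases h1 : r < 1728
  · exact e6Cv_1 r (by omega) h1
  by_cases h2 : r < 2592
  · exact e6Cv_2 r (by omega) h2
  by_cases h3 : r < 3456
  · exact e6Cv_3 r (by omega) h3
  by_cases h4 : r < 4320
  · exact e6Cv_4 r (by omega) h4
  exact e6Cv_5 r (by omega) hr

end Cfsg.Agent.Lib.Helper3.ChevM
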