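import Cfsg.Agent.Lib.Helper3.ChevData.E6Datum
import Cfsg.Agent.Lib.Helper3.ChevData.E6Tabs
import Cfsg.Agent.Lib.Helper3.ChevM7
set_option autoImplicit false
set_option maxRecDepth 1000000
set_option Elab.async false

namespace Cfsg.Agent.Lib.Helper3.ChevM

theorem e6Conj_1_380 : allRange 380 390 ((fun k => cdE6.checkConj (k / 72) (cdE6.cartI pairE6 (k / 72)) (reflE6 (k / 72)) (etaE6 (k / 72)) (k % 72))) = true := by decide +kernel
theorem e6Conj_1_390 : allRange 390 400 ((fun k => cdE6.checkConj (k / 72) (cdE6.cartI pairE6 (k / 72)) (reflE6 (k / 72)) (etaE6 (k / 72)) (k % 72))) = true := by decide +kernel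
theorem e6Conj_1_400 : allRange 400 410 ((fun k => cdE6.checkConj (k / 72) (cdE6.cartI pairE6 (k / 72)) (reflE6 (k / 72)) (etaE6 (k / 72)) (k % 72))) = true := by decide +kernel
theorem e6Conj_1_410 : allRange 410 420 ((fun k => cdE6.checkConj (k / 72) (cdE6.cartI pairE6 (k / 72)) (reflE6 (k / 72)) (etaE6 (k / 72)) (k % 72))) = true := by decide +kernel
theorem e6Conj_1_420 : allRange 420 430 ((fun k => cdE6.checkConj (k / 72) (cdE6.cartI pairE6 (k / 72)) (reflE6 (k / 72)) (etaE6 (k / 72)) (k % 72))) = true := by decide +kernel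
theorem e6Conj_1_430 : allRange 430 432 ((fun k => cdE6.checkConj (k / 72) (cdE6.cartI pairE6 (k / 72)) (reflE6 (k / 72)) (etaE6 (k / 72)) (k % 72))) = true := by decide +kernel

/-- Conjugation of root elements by the `n_p` of type E6 (roots 380 to 431). -/
theorem e6Conj_1 : ∀ r, 380 ≤ r → r < 432 → ((fun k => cdE6.checkConj (k / 72) (cdE6.cartI pairE6 (k / 72)) (reflE6 (k / 72)) (etaE6 (k / 72)) (k % 72))) r = true := by
  intro r h1 h2
  by_cases c0 : r < 390
  · exact allRange_spec e6Conj_1_380 r (by omega) c0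
  by_cases c1 : r < 400
  · exact allRange_spec e6Conj_1_390 r (by omega) c1
  by_cases c2 : r < 410
  · exact allRange_spec e6Conj_1_400 r (by omega) c2
  by_cases c3 : r < 420
  · exact allRange_spec e6Conj_1_410 r (by omega) c3
  by_cases c4 : r < 430
  · exact allRange_spec e6Conj_1_420 r (by omega) c4
  exact allRange_spec e6Conj_1_430 r (by omega) h2

end Cfsg.Agent.Lib.Helper3.ChevM
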