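import Cfsg.Agent.Lib.Helper3.ChevData.E6ConjA
import Cfsg.Agent.Lib.Helper3.ChevData.E6ConjB
set_option autoImplicit false

namespace Cfsg.Agent.Lib.Helper3.ChevM

/-- Conjugation of root elements by the `n_p` of type E6. -/
theorem e6Conj : ∀ r < 432, ((fun k => cdE6.checkConj (k / 72) (cdE6.cartI pairE6 (k / 72)) (reflE6 (k / 72)) (etaE6 (k / 72)) (k % 72))) r = true := by
  intro r hr
  by_cases h0 : r < 380
  · exact e6Conj_0 r (by omega) h0
  exact e6Conj_1 r (by omega) hr

end Cfsg.Agent.Lib.Helper3.ChevM
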