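import Cfsg.Agent.Lib.Helper3.ChevData.E6DxA
set_option autoImplicit false

namespace Cfsg.Agent.Lib.Helper3.ChevM

/-- Conjugation of root elements by the `h_p(c)` of type E6. -/
theorem e6Dx : ∀ r < 432, ((fun k => cdE6.checkDX (cdE6.expo pairE6 (Cfsg.Lie.chevE6.simple (k / 72))) (pairE6 (Cfsg.Lie.chevE6.simple (k / 72)) (k % 72)) (k % 72))) r = true := by
  intro r hr
  exact e6Dx_0 r (by omega) hr

end Cfsg.Agent.Lib.Helper3.ChevM
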