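import Cfsg.Agent.Lib.Helper3.ChevData.E6HdA
set_option autoImplicit false

namespace Cfsg.Agent.Lib.Helper3.ChevM

/-- Diagonal form of the `h_r(c)` of type E6. -/
theorem e6Hd : ∀ r < 72, ((fun r => cdE6.checkHDiag r (cdE6.expo pairE6 r))) r = true := by
  intro r hr
  exact e6Hd_0 r (by omega) hr

end Cfsg.Agent.Lib.Helper3.ChevM
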