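import Cfsg.Agent.Lib.Helper3.ChevData.E6NdA
set_option autoImplicit false

namespace Cfsg.Agent.Lib.Helper3.ChevM

/-- Conjugation of the `h_p(c)` by the `n_p` of type E6. -/
theorem e6Nd : ∀ r < 36, ((fun k => cdE6.checkND (k / 6) (cdE6.cartI pairE6 (k / 6)) (reflE6 (k / 6)) (etaE6 (k / 6)) (cdE6.expo pairE6 (Cfsg.Lie.chevE6.simple (k % 6))) (cdE6.expo pairE6 (reflE6 (k / 6) (Cfsg.Lie.chevE6.simple (k % 6)))))) r = true := by
  intro r hr
  exact e6Nd_0 r (by omega) hr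

end Cfsg.Agent.Lib.Helper3.ChevM
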