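import Cfsg.Agent.Lib.Helper3.ChevData.E6Add
import Cfsg.Agent.Lib.Helper3.ChevData.E6Hd
import Cfsg.Agent.Lib.Helper3.ChevData.E6Tab
import Cfsg.Agent.Lib.Helper3.ChevData.E6Eta
import Cfsg.Agent.Lib.Helper3.ChevData.E6Nchk
import Cfsg.Agent.Lib.Helper3.ChevData.E6Conj
import Cfsg.Agent.Lib.Helper3.ChevData.E6Dx
import Cfsg.Agent.Lib.Helper3.ChevData.E6Nd
set_option autoImplicit false
set_option maxRecDepth 1000000

namespace Cfsg.Agent.Lib.Helper3.ChevM

/-- The relation data of type E6. -/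
def relE6 : RelData cdE6 where
  pair := pairE6
  refl := reflE6
  eta := etaE6
  neg_lt := by decide +kernel
  simple_lt := by decide +kernel
  tab := of_pairRange (m := 6) (n := 72) e6Tab
  etaOk := of_pairRange (m := 6) (n := 72) e6Eta
  etaSimple := by decide +kernel
  add := e6Add
  hdiag := e6Hd
  nchk := e6Nchk
  conj := of_pairRange (m := 6) (n := 72) e6Conj
  dx := of_pairRange (m := 6) (n := 72) e6Dx
  nd := of_pairRange (m := 6) (n := 6) e6Nd

end Cfsg.Agent.Lib.Helper3.ChevM
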