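import Cfsg.Agent.Lib.Helper3.ChevData.E6Wt
import Cfsg.Agent.Lib.Helper3.ChevData.E6Vs
import Cfsg.Agent.Lib.Helper3.ChevData.E6Cv
import Cfsg.Agent.Lib.Helper3.ChevData.E6Sc
import Cfsg.Agent.Lib.Helper3.ChevData.E6Srwc
import Cfsg.Agent.Lib.Helper3.ChevData.E6Sign
import Cfsg.Agent.Lib.Helper3.ChevData.E6Hdec
import Cfsg.Agent.Lib.Helper3.ChevData.E6Rel
set_option autoImplicit false

namespace Cfsg.Agent.Lib.Helper3.ChevM

/-- The table checks for the Levi decomposition, type E6. -/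
def leviE6 : LeviHyp cdE6 relE6 where
  vec := vecE6
  wt := e6Wt
  vs := e6Vs
  cv := of_pairRange (m := 72) (n := 72) e6Cv
  sc := e6Sc
  rw := srwE6
  hrw := e6Srwc
  sign := e6Sign
  dec := of_pairRange (m := 72) (n := 72) e6Hdec

end Cfsg.Agent.Lib.Helper3.ChevM
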