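import Cfsg.Agent.Lib.Helper3.ChevData.E7LowA
set_option autoImplicit false

namespace Cfsg.Agent.Lib.Helper3.ChevM

/-- An entry below the diagonal of `x_{-p}(u)`, `p` fundamental, of type E7. -/
theorem e7Low : ∀ r < 7, ((fun i => lowCheck cdE7 i)) r = true := by
  intro r hr
  exact e7Low_0 r (by omega) hr

end Cfsg.Agent.Lib.Helper3.ChevM
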