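import Cfsg.Agent.Lib.Helper3.ChevData.E7Rel
import Cfsg.Agent.Lib.Helper3.ChevData.E7Tri
import Cfsg.Agent.Lib.Helper3.ChevData.E7ReflInv
import Cfsg.Agent.Lib.Helper3.ChevData.E7NegRefl
import Cfsg.Agent.Lib.Helper3.ChevData.E7Wp
import Cfsg.Agent.Lib.Helper3.ChevData.E7Ns
import Cfsg.Agent.Lib.Helper3.ChevData.E7Rwc
set_option autoImplicit false

namespace Cfsg.Agent.Lib.Helper3.ChevM

/-- The table checks for the monomial subgroup of type E7. -/
def monoE7 : MonoHyp cdE7 relE7 where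
  tri := e7Tri
  inv := of_pairRange (m := 7) (n := 126) e7ReflInv
  nr := of_pairRange (m := 7) (n := 126) e7NegRefl
  wp := of_pairRange (m := 7) (n := 126) e7Wp
  ns := e7Ns
  rw := rwE7
  rwc := e7Rwc

end Cfsg.Agent.Lib.Helper3.ChevM
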