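import Cfsg.Agent.Lib.Helper3.ChevData.E7Datum
import Cfsg.Agent.Lib.Helper3.ChevG1
set_option autoImplicit false
set_option maxRecDepth 1000000
set_option Elab.async false

namespace Cfsg.Agent.Lib.Helper3.ChevM

theorem e7NegConj_1_111 : allRange 111 114 ((fun r => cdE7.checkNegConj r)) = true := by decide +kernel
theorem e7NegConj_1_114 : allRange 114 117 ((fun r => cdE7.checkNegConj r)) = true := by decide +kernel
theorem e7NegConj_1_117 : allRange 117 120 ((fun r => cdE7.checkNegConj r)) = true := by decide +kernel
theorem e7NegConj_1_120 : allRange 120 123 ((fun r => cdE7.checkNegConj r)) = true := by decide +kernel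
theorem e7NegConj_1_123 : allRange 123 126 ((fun r => cdE7.checkNegConj r)) = true := by decide +kernel

/-- Conjugation of `x_r(t)` by `n_r` of type E7 (roots 111 to 125). -/
theorem e7NegConj_1 : ∀ r, 111 ≤ r → r < 126 → ((fun r => cdE7.checkNegConj r)) r = true := by
  intro r h1 h2
  by_cases c0 : r < 114
  · exact allRange_spec e7NegConj_1_111 r (by omega) c0
  by_cases c1 : r < 117
  · exact allRange_spec e7NegConj_1_114 r (by omega) c1
  by_cases c2 : r < 120
  · exact allRange_spec e7NegConj_1_117 r (by omega) c2
  by_cases c3 : r < 123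
  · exact allRange_spec e7NegConj_1_120 r (by omega) c3
  exact allRange_spec e7NegConj_1_123 r (by omega) h2

end Cfsg.Agent.Lib.Helper3.ChevM
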