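import Cfsg.Agent.Lib.Helper3.ChevData.E7NegConjA
import Cfsg.Agent.Lib.Helper3.ChevData.E7NegConjB
set_option autoImplicit false

namespace Cfsg.Agent.Lib.Helper3.ChevM

/-- Conjugation of `x_r(t)` by `n_r` of type E7. -/
theorem e7NegConj : ∀ r < 126, ((fun r => cdE7.checkNegConj r)) r = true := by
  intro r hr
  by_cases h0 : r < 111
  · exact e7NegConj_0 r (by omega) h0
  exact e7NegConj_1 r (by omega) hr

end Cfsg.Agent.Lib.Helper3.ChevM
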