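import Cfsg.Agent.Lib.Helper3.ChevData.E7CommData
import Cfsg.Agent.Lib.Helper3.ChevData.E7Mono
import Cfsg.Agent.Lib.Helper3.ChevData.E7Up
import Cfsg.Agent.Lib.Helper3.ChevData.E7Hdec
import Cfsg.Agent.Lib.Helper3.ChevData.E7Root
import Cfsg.Agent.Lib.Helper3.ChevData.E7NegConj
import Cfsg.Agent.Lib.Helper3.ChevData.E7Low
set_option autoImplicit false

namespace Cfsg.Agent.Lib.Helper3.ChevM

/-- The table checks for the (B,N)-pair of type E7. -/
def bnE7 : BNHyp cdE7 relE7 where
  mono := monoE7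
  up := of_pairRange (m := 7) (n := 126) e7Up
  dec := of_pairRange (m := 126) (n := 126) e7Hdec
  root := e7Root
  nc := e7NegConj
  low := e7Low

end Cfsg.Agent.Lib.Helper3.ChevM
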