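import Cfsg.Agent.Lib.Helper3.ChevData.E7IrrA
set_option autoImplicit false

namespace Cfsg.Agent.Lib.Helper3.ChevM

/-- The Dynkin diagram of type E7 is connected. -/
theorem e7Irr : ∀ r < 7, ((fun i => irrCheck Cfsg.Lie.chevE7 reflE7 parE7 depE7 0 i)) r = true := by
  intro r hr
  exact e7Irr_0 r (by omega) hr

end Cfsg.Agent.Lib.Helper3.ChevM
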