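import Cfsg.Agent.Lib.Helper3.ChevData.E7Mono
import Cfsg.Agent.Lib.Helper3.ChevData.E7Hdec
import Cfsg.Agent.Lib.Helper3.ChevData.E7Sign
import Cfsg.Agent.Lib.Helper3.ChevData.E7Os1
import Cfsg.Agent.Lib.Helper3.ChevData.E7Or1
import Cfsg.Agent.Lib.Helper3.ChevData.E7Ot1
set_option autoImplicit false
set_option maxRecDepth 1000000

namespace Cfsg.Agent.Lib.Helper3.ChevM

theorem e7Od1 : distinctCheck Cfsg.Lie.chevE7 reflE7 dlE71 = true := by decide +kernel

theorem e7On1 : dlE71.map (Nw Cfsg.Lie.chevE7 reflE7) = [0, 1] := by decide +kernel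

/-- Step 1 of the factorisation of the Poincaré sum of type E7. -/
theorem e7Poin1 (q : ℕ) : poin cdE7.D relE7.refl (Set.Iio 2) q =
    ([0, 1].map fun e => q ^ e).sum * poin cdE7.D relE7.refl (Set.Iio 1) q := by
  have h := monoE7.poin_step (of_pairRange (m := 126) (n := 126) e7Hdec) e7Sign 1 e7Os1 dlE71 e7Or1 nxtE71
    (by decide +kernel) (of_pairRange (m := 2) (n := 2) e7Ot1) e7Od1 (by decide +kernel) q
  show poin cdE7.D relE7.refl (Set.Iio (1 + 1)) q = _
  have e : (dlE71.map fun d => q ^ Nw cdE7.D relE7.refl d) = (dlE71.map (Nw Cfsg.Lie.chevE7 reflE7)).map fun e => q ^ e := by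
    rw [List.map_map]; rfl
  rw [h, e, e7On1]

end Cfsg.Agent.Lib.Helper3.ChevM
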