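import Cfsg.Agent.Lib.Helper3.ChevData.E7Mono
import Cfsg.Agent.Lib.Helper3.ChevData.E7Hdec
import Cfsg.Agent.Lib.Helper3.ChevData.E7Sign
import Cfsg.Agent.Lib.Helper3.ChevData.E7Os2
import Cfsg.Agent.Lib.Helper3.ChevData.E7Or2
import Cfsg.Agent.Lib.Helper3.ChevData.E7Ot2
set_option autoImplicit false
set_option maxRecDepth 1000000

namespace Cfsg.Agent.Lib.Helper3.ChevM

theorem e7Od2 : distinctCheck Cfsg.Lie.chevE7 reflE7 dlE72 = true := by decide +kernel

theorem e7On2 : dlE72.map (Nw Cfsg.Lie.chevE7 reflE7) = [0, 1, 2] := by decide +kernel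

/-- Step 2 of the factorisation of the Poincaré sum of type E7. -/
theorem e7Poin2 (q : ℕ) : poin cdE7.D relE7.refl (Set.Iio 3) q =
    ([0, 1, 2].map fun e => q ^ e).sum * poin cdE7.D relE7.refl (Set.Iio 2) q := by
  have h := monoE7.poin_step (of_pairRange (m := 126) (n := 126) e7Hdec) e7Sign 2 e7Os2 dlE72 e7Or2 nxtE72
    (by decide +kernel) (of_pairRange (m := 3) (n := 3) e7Ot2) e7Od2 (by decide +kernel) q
  show poin cdE7.D relE7.refl (Set.Iio (2 + 1)) q = _
  have e : (dlE72.map fun d => q ^ Nw cdE7.D relE7.refl d) = (dlE72.map (Nw Cfsg.Lie.chevE7 reflE7)).map fun e => q ^ e := by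
    rw [List.map_map]; rfl
  rw [h, e, e7On2]

end Cfsg.Agent.Lib.Helper3.ChevM
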