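import Cfsg.Agent.Lib.Helper3.ChevData.E7Or3A
set_option autoImplicit false

namespace Cfsg.Agent.Lib.Helper3.ChevM

/-- The representatives of step 3 of type E7 keep the subsystem positive. -/
theorem e7Or3 : ∀ r < 10, ((fun a => repCheck Cfsg.Lie.chevE7 reflE7 3 dlE73 a)) r = true := by
  intro r hr
  exact e7Or3_0 r (by omega) hr

end Cfsg.Agent.Lib.Helper3.ChevM
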