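import Cfsg.Agent.Lib.Helper3.ChevData.E7Mono
import Cfsg.Agent.Lib.Helper3.ChevData.E7Hdec
import Cfsg.Agent.Lib.Helper3.ChevData.E7Sign
import Cfsg.Agent.Lib.Helper3.ChevData.E7Os3
import Cfsg.Agent.Lib.Helper3.ChevData.E7Or3
import Cfsg.Agent.Lib.Helper3.ChevData.E7Ot3
set_option autoImplicit false
set_option maxRecDepth 1000000

namespace Cfsg.Agent.Lib.Helper3.ChevM

theorem e7Od3 : distinctCheck Cfsg.Lie.chevE7 reflE7 dlE73 = true := by decide +kernel

theorem e7On3 : dlE73.map (Nw Cfsg.Lie.chevE7 reflE7) = [0, 1, 2, 2, 3, 3, 4, 4, 5, 6] := by decide +kernel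

/-- Step 3 of the factorisation of the Poincaré sum of type E7. -/
theorem e7Poin3 (q : ℕ) : poin cdE7.D relE7.refl (Set.Iio 4) q =
    ([0, 1, 2, 2, 3, 3, 4, 4, 5, 6].map fun e => q ^ e).sum * poin cdE7.D relE7.refl (Set.Iio 3) q := by
  have h := monoE7.poin_step (of_pairRange (m := 126) (n := 126) e7Hdec) e7Sign 3 e7Os3 dlE73 e7Or3 nxtE73
    (by decide +kernel) (of_pairRange (m := 10) (n := 4) e7Ot3) e7Od3 (by decide +kernel) q
  show poin cdE7.D relE7.refl (Set.Iio (3 + 1)) q = _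
  have e : (dlE73.map fun d => q ^ Nw cdE7.D relE7.refl d) = (dlE73.map (Nw Cfsg.Lie.chevE7 reflE7)).map fun e => q ^ e := by
    rw [List.map_map]; rfl
  rw [h, e, e7On3]

end Cfsg.Agent.Lib.Helper3.ChevM
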