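import Cfsg.Agent.Lib.Helper3.ChevData.E7Mono
import Cfsg.Agent.Lib.Helper3.ChevData.E7Hdec
import Cfsg.Agent.Lib.Helper3.ChevData.E7Sign
import Cfsg.Agent.Lib.Helper3.ChevData.E7Os4
import Cfsg.Agent.Lib.Helper3.ChevData.E7Or4
import Cfsg.Agent.Lib.Helper3.ChevData.E7Ot4
set_option autoImplicit false
set_option maxRecDepth 1000000

namespace Cfsg.Agent.Lib.Helper3.ChevM

theorem e7Od4 : distinctCheck Cfsg.Lie.chevE7 reflE7 dlE74 = true := by decide +kernel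

theorem e7On4 : dlE74.map (Nw Cfsg.Lie.chevE7 reflE7) = [0, 1, 2, 3, 3, 4, 4, 5, 5, 6, 6, 7, 7, 8, 9, 10] := by decide +kernel

/-- Step 4 of the factorisation of the Poincaré sum of type E7. -/
theorem e7Poin4 (q : ℕ) : poin cdE7.D relE7.refl (Set.Iio 5) q =
    ([0, 1, 2, 3, 3, 4, 4, 5, 5, 6, 6, 7, 7, 8, 9, 10].map fun e => q ^ e).sum * poin cdE7.D relE7.refl (Set.Iio 4) q := by
  have h := monoE7.poin_step (of_pairRange (m := 126) (n := 126) e7Hdec) e7Sign 4 e7Os4 dlE74 e7Or4 nxtE74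
    (by decide +kernel) (of_pairRange (m := 16) (n := 5) e7Ot4) e7Od4 (by decide +kernel) q
  show poin cdE7.D relE7.refl (Set.Iio (4 + 1)) q = _
  have e : (dlE74.map fun d => q ^ Nw cdE7.D relE7.refl d) = (dlE74.map (Nw Cfsg.Lie.chevE7 reflE7)).map fun e => q ^ e := by
    rw [List.map_map]; rfl
  rw [h, e, e7On4]

end Cfsg.Agent.Lib.Helper3.ChevM
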