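import Cfsg.Agent.Lib.Helper3.ChevData.E7Ot5A
set_option autoImplicit false

namespace Cfsg.Agent.Lib.Helper3.ChevM

/-- Left multiplication of the representatives of step 5 of type E7. -/
theorem e7Ot5 : ∀ r < 162, ((fun p => stepCheck Cfsg.Lie.chevE7 reflE7 5 dlE75 nxtE75 (p / 6) (p % 6))) r = true := by
  intro r hr
  exact e7Ot5_0 r (by omega) hr

end Cfsg.Agent.Lib.Helper3.ChevM
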