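import Cfsg.Agent.Lib.Helper3.ChevData.E7Ord0
import Cfsg.Agent.Lib.Helper3.ChevData.E7Ord1
import Cfsg.Agent.Lib.Helper3.ChevData.E7Ord2
import Cfsg.Agent.Lib.Helper3.ChevData.E7Ord3
import Cfsg.Agent.Lib.Helper3.ChevData.E7Ord4
import Cfsg.Agent.Lib.Helper3.ChevData.E7Ord5
import Cfsg.Agent.Lib.Helper3.ChevData.E7Ord6
import Cfsg.Agent.Lib.Helper3.ChevO3
set_option autoImplicit false
set_option maxRecDepth 1000000

namespace Cfsg.Agent.Lib.Helper3.ChevM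

/-- The Poincaré sum of the Weyl group of type E7. -/
theorem e7Poin (q : ℕ) : poin cdE7.D relE7.refl Set.univ q =
    ([0, 1, 2, 3, 4, 5, 5, 6, 6, 7, 7, 8, 8, 9, 9, 9, 10, 10, 10, 11, 11, 11, 12, 12, 12, 13, 13, 13, 14, 14, 14, 15, 15, 15, 16, 16, 16, 17, 17, 17, 18, 18, 18, 19, 19, 20, 20, 21, 21, 22, 22, 23, 24, 25, 26, 27].map fun e => q ^ e).sum *
    ([0, 1, 2, 3, 4, 4, 5, 5, 6, 6, 7, 7, 8, 8, 8, 9, 9, 10, 10, 11, 11, 12, 12, 13, 14, 15, 16].map fun e => q ^ e).sum *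
    ([0, 1, 2, 3, 3, 4, 4, 5, 5, 6, 6, 7, 7, 8, 9, 10].map fun e => q ^ e).sum *
    ([0, 1, 2, 2, 3, 3, 4, 4, 5, 6].map fun e => q ^ e).sum *
    ([0, 1, 2].map fun e => q ^ e).sum *
    ([0, 1].map fun e => q ^ e).sum *
    ([0, 1].map fun e => q ^ e).sum := by
  rw [poin_univ]
  show poin cdE7.D relE7.refl (Set.Iio 7) q = _
  rw [e7Poin6, e7Poin5, e7Poin4, e7Poin3, e7Poin2, e7Poin1, e7Poin0, poin_zero e7Sign]
  ring

end Cfsg.Agent.Lib.Helper3.ChevM
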