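import Cfsg.Prelude.Def_ChevE7
set_option autoImplicit false
set_option maxRecDepth 1000000

namespace Cfsg.Agent.Lib.Helper3.ChevM

/-- Position of the positive roots of type E7 in an order compatible with heights. -/
def hposE7 (r : ℕ) : ℕ := (#[0, 0, 0, 0, 0, 0, 0, 0, 0, 0, 0, 0, 0, 0, 0, 0, 0, 0, 0, 0, 0, 0, 0, 0, 0, 0, 0, 0, 0, 0, 0, 0, 0, 0, 0, 0, 0, 0, 0, 0, 0, 0, 0, 0, 0, 0, 0, 0, 0, 0, 0, 0, 0, 0, 0, 0, 0, 0, 0, 0, 0, 0, 0, 0, 1, 7, 2, 8, 13, 3, 9, 14, 19, 4, 10, 15, 20, 25, 5, 11, 16, 21, 26, 17, 22, 27, 31, 28, 32, 36, 37, 41, 45, 6, 12, 18, 23, 29, 33, 24, 30, 34, 38, 35, 39, 42, 43, 46, 49, 40, 44, 47, 48, 50, 52, 51, 53, 55, 57, 54, 56, 58, 59, 60, 61, 62] : Array ℕ).getD r 0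

/-- Level of the coordinates of type E7. -/
def hfE7 (c : ℕ) : ℕ := (#[604369, 604369, 604369, 604369, 604369, 604369, 604369, 0, 262144, 266240, 266752, 266816, 266824, 266825, 299520, 299584, 299592, 299593, 300096, 300104, 300105, 300168, 300169, 300177, 304192, 304200, 304201, 304264, 304265, 304273, 304776, 304777, 304785, 304849, 337544, 337545, 337553, 337617, 338129, 342225, 566336, 566344, 566345, 566408, 566409, 566417, 566920, 566921, 566929, 566993, 571016, 571017, 571025, 571089, 571601, 599688, 599689, 599697, 599761, 600273, 603784, 603785, 603793, 603857, 604296, 604297, 604305, 604360, 604361, 604368, 604370, 604377, 604378, 604433, 604441, 604442, 604881, 604945, 604953, 604954, 608465, 608977, 609041, 609049, 609050, 637137, 637649, 637713, 637721, 637722, 641745, 641809, 641817, 641818, 642321, 642329, 642330, 642393, 642394, 642402, 866513, 870609,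 871121, 871185, 871193, 871194, 903889, 903953, 903961, 903962, 904465, 904473, 904474, 904537, 904538, 904546, 908561, 908569, 908570, 908633, 908634, 908642, 909145, 909146, 909154, 909218, 941913, 941914, 941922, 941986, 942498, 946594, 1208738] : Array ℕ).getD c 0

/-- Level of the positive roots of type E7. -/
def frE7 (r : ℕ) : ℕ := (#[0, 0, 0, 0, 0, 0, 0, 0, 0, 0, 0, 0, 0, 0, 0, 0, 0, 0, 0, 0, 0, 0, 0, 0, 0, 0, 0, 0, 0, 0, 0, 0, 0, 0, 0, 0, 0, 0, 0, 0, 0, 0, 0, 0, 0, 0, 0, 0, 0, 0, 0, 0, 0, 0, 0, 0, 0, 0, 0, 0, 0, 0, 0, 1, 8, 9, 64, 72, 73, 512, 576, 584, 585, 4096, 4608, 4672, 4680, 4681, 32768, 33280, 33344, 33352, 33353, 37376, 37440, 37448, 37449, 37952, 37960, 37961, 38024, 38025, 38033, 262144, 266240, 266752, 266816, 266824, 266825, 299520, 299584, 299592, 299593, 300096, 300104, 300105, 300168, 300169, 300177, 304192, 304200, 304201, 304264, 304265, 304273,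 304776, 304777, 304785, 304849, 337544, 337545, 337553, 337617, 338129, 342225, 604369] : Array ℕ).getD r 0

/-- Column of the witness entry. -/
def wjE7 (r : ℕ) : ℕ := (#[0, 0, 0, 0, 0, 0, 0, 0, 0, 0, 0, 0, 0, 0, 0, 0, 0, 0, 0, 0, 0, 0, 0, 0, 0, 0, 0, 0, 0, 0, 0, 0, 0, 0, 0, 0, 0, 0, 0, 0, 0, 0, 0, 0, 0, 0, 0, 0, 0, 0, 0, 0, 0, 0, 0, 0, 0, 0, 0, 0, 0, 0, 0, 5, 4, 4, 3, 3, 3, 1, 1, 1, 1, 0, 0, 0, 0, 0, 3, 1, 1, 1, 1, 0, 0, 0, 0, 0, 0, 0, 0, 0, 0, 2, 0, 0, 0, 0, 0, 0, 0, 0, 0, 0, 0, 0, 0, 0, 0, 2, 2, 2, 2, 2, 2, 1, 1, 1, 1, 1, 1, 1, 1, 2, 0, 0] : Array ℕ).getD r 0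

/-- Row of the witness entry. -/
def wiE7 (r : ℕ) : ℕ := (#[0, 0, 0, 0, 0, 0, 0, 0, 0, 0, 0, 0, 0, 0, 0, 0, 0, 0, 0, 0, 0, 0, 0, 0, 0, 0, 0, 0, 0, 0, 0, 0, 0, 0, 0, 0, 0, 0, 0, 0, 0, 0, 0, 0, 0, 0, 0, 0, 0, 0, 0, 0, 0, 0, 0, 0, 0, 0, 0, 0, 0, 0, 0, 70, 71, 72, 73, 74, 75, 76, 77, 78, 79, 80, 81, 82, 83, 84, 85, 86, 87, 88, 89, 90, 91, 92, 93, 94, 95, 96, 97, 98, 99, 100, 101, 102, 103, 104, 105, 106, 107, 108, 109, 110, 111, 112, 113, 114, 115, 116, 117, 118, 119, 120, 121, 122, 123, 124, 125, 126, 127, 128, 129, 130, 131, 132] : Array ℕ).getD r 0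

end Cfsg.Agent.Lib.Helper3.ChevM
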