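import Cfsg.Prelude.Def_ChevE7
import Cfsg.Agent.Lib.Helper3.ChevData.E7Uni
import Cfsg.Agent.Lib.Helper3.ChevU3
set_option autoImplicit false
set_option maxRecDepth 1000000
set_option Elab.async false

namespace Cfsg.Agent.Lib.Helper3.ChevM

theorem e7Ucol_1_3885 : allRange 3885 3990 ((fun k => collectCheck Cfsg.Lie.chevE7 hposE7 (k / 126) (k % 126))) = true := by decide +kernel
theorem e7Ucol_1_3990 : allRange 3990 4095 ((fun k => collectCheck Cfsg.Lie.chevE7 hposE7 (k / 126) (k % 126))) = true := by decide +kernel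
theorem e7Ucol_1_4095 : allRange 4095 4200 ((fun k => collectCheck Cfsg.Lie.chevE7 hposE7 (k / 126) (k % 126))) = true := by decide +kernel
theorem e7Ucol_1_4200 : allRange 4200 4305 ((fun k => collectCheck Cfsg.Lie.chevE7 hposE7 (k / 126) (k % 126))) = true := by decide +kernel
theorem e7Ucol_1_4305 : allRange 4305 4410 ((fun k => collectCheck Cfsg.Lie.chevE7 hposE7 (k / 126) (k % 126))) = true := by decide +kernel
theorem e7Ucol_1_4410 : allRange 4410 4515 ((fun k => collectCheck Cfsg.Lie.chevE7 hposE7 (k / 126) (k % 126))) = true := by decide +kernel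
theorem e7Ucol_1_4515 : allRange 4515 4620 ((fun k => collectCheck Cfsg.Lie.chevE7 hposE7 (k / 126) (k % 126))) = true := by decide +kernel
theorem e7Ucol_1_4620 : allRange 4620 4725 ((fun k => collectCheck Cfsg.Lie.chevE7 hposE7 (k / 126) (k % 126))) = true := by decide +kernel
theorem e7Ucol_1_4725 : allRange 4725 4830 ((fun k => collectCheck Cfsg.Lie.chevE7 hposE7 (k / 126) (k % 126))) = true := by decide +kernel
theorem e7Ucol_1_4830 : allRange 4830 4935 ((fun k => collectCheck Cfsg.Lie.chevE7 hposE7 (k / 126) (k % 126))) = true := by decide +kernel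
theorem e7Ucol_1_4935 : allRange 4935 5040 ((fun k => collectCheck Cfsg.Lie.chevE7 hposE7 (k / 126) (k % 126))) = true := by decide +kernel
theorem e7Ucol_1_5040 : allRange 5040 5145 ((fun k => collectCheck Cfsg.Lie.chevE7 hposE7 (k / 126) (k % 126))) = true := by decide +kernel
theorem e7Ucol_1_5145 : allRange 5145 5250 ((fun k => collectCheck Cfsg.Lie.chevE7 hposE7 (k / 126) (k % 126))) = true := by decide +kernel
theorem e7Ucol_1_5250 : allRange 5250 5355 ((fun k => collectCheck Cfsg.Lie.chevE7 hposE7 (k / 126) (k % 126))) = true := by decide +kernel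
theorem e7Ucol_1_5355 : allRange 5355 5460 ((fun k => collectCheck Cfsg.Lie.chevE7 hposE7 (k / 126) (k % 126))) = true := by decide +kernel
theorem e7Ucol_1_5460 : allRange 5460 5565 ((fun k => collectCheck Cfsg.Lie.chevE7 hposE7 (k / 126) (k % 126))) = true := by decide +kernel
theorem e7Ucol_1_5565 : allRange 5565 5670 ((fun k => collectCheck Cfsg.Lie.chevE7 hposE7 (k / 126) (k % 126))) = true := by decide +kernel
theorem e7Ucol_1_5670 : allRange 5670 5775 ((fun k => collectCheck Cfsg.Lie.chevE7 hposE7 (k / 126) (k % 126))) = true := by decide +kernel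
theorem e7Ucol_1_5775 : allRange 5775 5880 ((fun k => collectCheck Cfsg.Lie.chevE7 hposE7 (k / 126) (k % 126))) = true := by decide +kernel
theorem e7Ucol_1_5880 : allRange 5880 5985 ((fun k => collectCheck Cfsg.Lie.chevE7 hposE7 (k / 126) (k % 126))) = true := by decide +kernel
theorem e7Ucol_1_5985 : allRange 5985 6090 ((fun k => collectCheck Cfsg.Lie.chevE7 hposE7 (k / 126) (k % 126))) = true := by decide +kernel
theorem e7Ucol_1_6090 : allRange 6090 6195 ((fun k => collectCheck Cfsg.Lie.chevE7 hposE7 (k / 126) (k % 126))) = true := by decide +kernel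
theorem e7Ucol_1_6195 : allRange 6195 6300 ((fun k => collectCheck Cfsg.Lie.chevE7 hposE7 (k / 126) (k % 126))) = true := by decide +kernel
theorem e7Ucol_1_6300 : allRange 6300 6405 ((fun k => collectCheck Cfsg.Lie.chevE7 hposE7 (k / 126) (k % 126))) = true := by decide +kernel
theorem e7Ucol_1_6405 : allRange 6405 6510 ((fun k => collectCheck Cfsg.Lie.chevE7 hposE7 (k / 126) (k % 126))) = true := by decide +kernel
theorem e7Ucol_1_6510 : allRange 6510 6615 ((fun k => collectCheck Cfsg.Lie.chevE7 hposE7 (k / 126) (k % 126))) = true := by decide +kernel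
theorem e7Ucol_1_6615 : allRange 6615 6720 ((fun k => collectCheck Cfsg.Lie.chevE7 hposE7 (k / 126) (k % 126))) = true := by decide +kernel
theorem e7Ucol_1_6720 : allRange 6720 6825 ((fun k => collectCheck Cfsg.Lie.chevE7 hposE7 (k / 126) (k % 126))) = true := by decide +kernel
theorem e7Ucol_1_6825 : allRange 6825 6930 ((fun k => collectCheck Cfsg.Lie.chevE7 hposE7 (k / 126) (k % 126))) = true := by decide +kernel
theorem e7Ucol_1_6930 : allRange 6930 7035 ((fun k => collectCheck Cfsg.Lie.chevE7 hposE7 (k / 126) (k % 126))) = true := by decide +kernel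
theorem e7Ucol_1_7035 : allRange 7035 7140 ((fun k => collectCheck Cfsg.Lie.chevE7 hposE7 (k / 126) (k % 126))) = true := by decide +kernel
theorem e7Ucol_1_7140 : allRange 7140 7245 ((fun k => collectCheck Cfsg.Lie.chevE7 hposE7 (k / 126) (k % 126))) = true := by decide +kernel
theorem e7Ucol_1_7245 : allRange 7245 7350 ((fun k => collectCheck Cfsg.Lie.chevE7 hposE7 (k / 126) (k % 126))) = true := by decide +kernel
theorem e7Ucol_1_7350 : allRange 7350 7455 ((fun k => collectCheck Cfsg.Lie.chevE7 hposE7 (k / 126) (k % 126))) = true := by decide +kernel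
theorem e7Ucol_1_7455 : allRange 7455 7560 ((fun k => collectCheck Cfsg.Lie.chevE7 hposE7 (k / 126) (k % 126))) = true := by decide +kernel
theorem e7Ucol_1_7560 : allRange 7560 7665 ((fun k => collectCheck Cfsg.Lie.chevE7 hposE7 (k / 126) (k % 126))) = true := by decide +kernel
theorem e7Ucol_1_7665 : allRange 7665 7770 ((fun k => collectCheck Cfsg.Lie.chevE7 hposE7 (k / 126) (k % 126))) = true := by decide +kernel

/-- The terms of the commutator formula of type E7 lie higher (roots 3885 to 7769). -/
theorem e7Ucol_1 : ∀ r, 3885 ≤ r → r < 7770 → ((fun k => collectCheck Cfsg.Lie.chevE7 hposE7 (k / 126) (k % 126))) r = true := by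
  intro r h1 h2
  by_cases c0 : r < 3990
  · exact allRange_spec e7Ucol_1_3885 r (by omega) c0
  by_cases c1 : r < 4095
  · exact allRange_spec e7Ucol_1_3990 r (by omega) c1
  by_cases c2 : r < 4200
  · exact allRange_spec e7Ucol_1_4095 r (by omega) c2
  by_cases c3 : r < 4305
  · exact allRange_spec e7Ucol_1_4200 r (by omega) c3
  by_cases c4 : r < 4410
  · exact allRange_spec e7Ucol_1_4305 r (by omega) c4
  by_cases c5 : r < 4515
  · exact allRange_spec e7Ucol_1_4410 r (by omega) c5
  by_cases c6 : r < 4620
  · exact allRange_spec e7Ucol_1_4515 r (by omega) c6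
  by_cases c7 : r < 4725
  · exact allRange_spec e7Ucol_1_4620 r (by omega) c7
  by_cases c8 : r < 4830
  · exact allRange_spec e7Ucol_1_4725 r (by omega) c8
  by_cases c9 : r < 4935
  · exact allRange_spec e7Ucol_1_4830 r (by omega) c9
  by_cases c10 : r < 5040
  · exact allRange_spec e7Ucol_1_4935 r (by omega) c10
  by_cases c11 : r < 5145
  · exact allRange_spec e7Ucol_1_5040 r (by omega) c11
  by_cases c12 : r < 5250
  · exact allRange_spec e7Ucol_1_5145 r (by omega) c12
  by_cases c13 : r < 5355
  · exact allRange_spec e7Ucol_1_5250 r (by omega) c13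
  by_cases c14 : r < 5460
  · exact allRange_spec e7Ucol_1_5355 r (by omega) c14
  by_cases c15 : r < 5565
  · exact allRange_spec e7Ucol_1_5460 r (by omega) c15
  by_cases c16 : r < 5670
  · exact allRange_spec e7Ucol_1_5565 r (by omega) c16
  by_cases c17 : r < 5775
  · exact allRange_spec e7Ucol_1_5670 r (by omega) c17
  by_cases c18 : r < 5880
  · exact allRange_spec e7Ucol_1_5775 r (by omega) c18
  by_cases c19 : r < 5985
  · exact allRange_spec e7Ucol_1_5880 r (by omega) c19
  by_cases c20 : r < 6090
  · exact allRange_spec e7Ucol_1_5985 r (by omega) c20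
  by_cases c21 : r < 6195
  · exact allRange_spec e7Ucol_1_6090 r (by omega) c21
  by_cases c22 : r < 6300
  · exact allRange_spec e7Ucol_1_6195 r (by omega) c22
  by_cases c23 : r < 6405
  · exact allRange_spec e7Ucol_1_6300 r (by omega) c23
  by_cases c24 : r < 6510
  · exact allRange_spec e7Ucol_1_6405 r (by omega) c24
  by_cases c25 : r < 6615
  · exact allRange_spec e7Ucol_1_6510 r (by omega) c25
  by_cases c26 : r < 6720
  · exact allRange_spec e7Ucol_1_6615 r (by omega) c26
  by_cases c27 : r < 6825
  · exact allRange_spec e7Ucol_1_6720 r (by omega) c27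
  by_cases c28 : r < 6930
  · exact allRange_spec e7Ucol_1_6825 r (by omega) c28
  by_cases c29 : r < 7035
  · exact allRange_spec e7Ucol_1_6930 r (by omega) c29
  by_cases c30 : r < 7140
  · exact allRange_spec e7Ucol_1_7035 r (by omega) c30
  by_cases c31 : r < 7245
  · exact allRange_spec e7Ucol_1_7140 r (by omega) c31
  by_cases c32 : r < 7350
  · exact allRange_spec e7Ucol_1_7245 r (by omega) c32
  by_cases c33 : r < 7455
  · exact allRange_spec e7Ucol_1_7350 r (by omega) c33
  by_cases c34 : r < 7560
  · exact allRange_spec e7Ucol_1_7455 r (by omega) c34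
  by_cases c35 : r < 7665
  · exact allRange_spec e7Ucol_1_7560 r (by omega) c35
  exact allRange_spec e7Ucol_1_7665 r (by omega) h2

end Cfsg.Agent.Lib.Helper3.ChevM
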