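import Cfsg.Prelude.Def_ChevE7
import Cfsg.Agent.Lib.Helper3.ChevData.E7Uni
import Cfsg.Agent.Lib.Helper3.ChevU3
set_option autoImplicit false
set_option maxRecDepth 1000000
set_option Elab.async false

namespace Cfsg.Agent.Lib.Helper3.ChevM

theorem e7Ucol_2_7770 : allRange 7770 7875 ((fun k => collectCheck Cfsg.Lie.chevE7 hposE7 (k / 126) (k % 126))) = true := by decide +kernel
theorem e7Ucol_2_7875 : allRange 7875 7980 ((fun k => collectCheck Cfsg.Lie.chevE7 hposE7 (k / 126) (k % 126))) = true := by decide +kernel
theorem e7Ucol_2_7980 : allRange 7980 8085 ((fun k => collectCheck Cfsg.Lie.chevE7 hposE7 (k / 126) (k % 126))) = true := by decide +kernel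
theorem e7Ucol_2_8085 : allRange 8085 8190 ((fun k => collectCheck Cfsg.Lie.chevE7 hposE7 (k / 126) (k % 126))) = true := by decide +kernel
theorem e7Ucol_2_8190 : allRange 8190 8295 ((fun k => collectCheck Cfsg.Lie.chevE7 hposE7 (k / 126) (k % 126))) = true := by decide +kernel
theorem e7Ucol_2_8295 : allRange 8295 8400 ((fun k => collectCheck Cfsg.Lie.chevE7 hposE7 (k / 126) (k % 126))) = true := by decide +kernel
theorem e7Ucol_2_8400 : allRange 8400 8505 ((fun k => collectCheck Cfsg.Lie.chevE7 hposE7 (k / 126) (k % 126))) = true := by decide +kernel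
theorem e7Ucol_2_8505 : allRange 8505 8610 ((fun k => collectCheck Cfsg.Lie.chevE7 hposE7 (k / 126) (k % 126))) = true := by decide +kernel
theorem e7Ucol_2_8610 : allRange 8610 8715 ((fun k => collectCheck Cfsg.Lie.chevE7 hposE7 (k / 126) (k % 126))) = true := by decide +kernel
theorem e7Ucol_2_8715 : allRange 8715 8820 ((fun k => collectCheck Cfsg.Lie.chevE7 hposE7 (k / 126) (k % 126))) = true := by decide +kernel
theorem e7Ucol_2_8820 : allRange 8820 8925 ((fun k => collectCheck Cfsg.Lie.chevE7 hposE7 (k / 126) (k % 126))) = true := by decide +kernel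
theorem e7Ucol_2_8925 : allRange 8925 9030 ((fun k => collectCheck Cfsg.Lie.chevE7 hposE7 (k / 126) (k % 126))) = true := by decide +kernel
theorem e7Ucol_2_9030 : allRange 9030 9135 ((fun k => collectCheck Cfsg.Lie.chevE7 hposE7 (k / 126) (k % 126))) = true := by decide +kernel
theorem e7Ucol_2_9135 : allRange 9135 9240 ((fun k => collectCheck Cfsg.Lie.chevE7 hposE7 (k / 126) (k % 126))) = true := by decide +kernel
theorem e7Ucol_2_9240 : allRange 9240 9345 ((fun k => collectCheck Cfsg.Lie.chevE7 hposE7 (k / 126) (k % 126))) = true := by decide +kernel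
theorem e7Ucol_2_9345 : allRange 9345 9450 ((fun k => collectCheck Cfsg.Lie.chevE7 hposE7 (k / 126) (k % 126))) = true := by decide +kernel
theorem e7Ucol_2_9450 : allRange 9450 9555 ((fun k => collectCheck Cfsg.Lie.chevE7 hposE7 (k / 126) (k % 126))) = true := by decide +kernel
theorem e7Ucol_2_9555 : allRange 9555 9660 ((fun k => collectCheck Cfsg.Lie.chevE7 hposE7 (k / 126) (k % 126))) = true := by decide +kernel
theorem e7Ucol_2_9660 : allRange 9660 9765 ((fun k => collectCheck Cfsg.Lie.chevE7 hposE7 (k / 126) (k % 126))) = true := by decide +kernel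
theorem e7Ucol_2_9765 : allRange 9765 9870 ((fun k => collectCheck Cfsg.Lie.chevE7 hposE7 (k / 126) (k % 126))) = true := by decide +kernel
theorem e7Ucol_2_9870 : allRange 9870 9975 ((fun k => collectCheck Cfsg.Lie.chevE7 hposE7 (k / 126) (k % 126))) = true := by decide +kernel
theorem e7Ucol_2_9975 : allRange 9975 10080 ((fun k => collectCheck Cfsg.Lie.chevE7 hposE7 (k / 126) (k % 126))) = true := by decide +kernel
theorem e7Ucol_2_10080 : allRange 10080 10185 ((fun k => collectCheck Cfsg.Lie.chevE7 hposE7 (k / 126) (k % 126))) = true := by decide +kernel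
theorem e7Ucol_2_10185 : allRange 10185 10290 ((fun k => collectCheck Cfsg.Lie.chevE7 hposE7 (k / 126) (k % 126))) = true := by decide +kernel
theorem e7Ucol_2_10290 : allRange 10290 10395 ((fun k => collectCheck Cfsg.Lie.chevE7 hposE7 (k / 126) (k % 126))) = true := by decide +kernel
theorem e7Ucol_2_10395 : allRange 10395 10500 ((fun k => collectCheck Cfsg.Lie.chevE7 hposE7 (k / 126) (k % 126))) = true := by decide +kernel
theorem e7Ucol_2_10500 : allRange 10500 10605 ((fun k => collectCheck Cfsg.Lie.chevE7 hposE7 (k / 126) (k % 126))) = true := by decide +kernel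
theorem e7Ucol_2_10605 : allRange 10605 10710 ((fun k => collectCheck Cfsg.Lie.chevE7 hposE7 (k / 126) (k % 126))) = true := by decide +kernel
theorem e7Ucol_2_10710 : allRange 10710 10815 ((fun k => collectCheck Cfsg.Lie.chevE7 hposE7 (k / 126) (k % 126))) = true := by decide +kernel
theorem e7Ucol_2_10815 : allRange 10815 10920 ((fun k => collectCheck Cfsg.Lie.chevE7 hposE7 (k / 126) (k % 126))) = true := by decide +kernel
theorem e7Ucol_2_10920 : allRange 10920 11025 ((fun k => collectCheck Cfsg.Lie.chevE7 hposE7 (k / 126) (k % 126))) = true := by decide +kernel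
theorem e7Ucol_2_11025 : allRange 11025 11130 ((fun k => collectCheck Cfsg.Lie.chevE7 hposE7 (k / 126) (k % 126))) = true := by decide +kernel
theorem e7Ucol_2_11130 : allRange 11130 11235 ((fun k => collectCheck Cfsg.Lie.chevE7 hposE7 (k / 126) (k % 126))) = true := by decide +kernel
theorem e7Ucol_2_11235 : allRange 11235 11340 ((fun k => collectCheck Cfsg.Lie.chevE7 hposE7 (k / 126) (k % 126))) = true := by decide +kernel
theorem e7Ucol_2_11340 : allRange 11340 11445 ((fun k => collectCheck Cfsg.Lie.chevE7 hposE7 (k / 126) (k % 126))) = true := by decide +kernel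
theorem e7Ucol_2_11445 : allRange 11445 11550 ((fun k => collectCheck Cfsg.Lie.chevE7 hposE7 (k / 126) (k % 126))) = true := by decide +kernel
theorem e7Ucol_2_11550 : allRange 11550 11655 ((fun k => collectCheck Cfsg.Lie.chevE7 hposE7 (k / 126) (k % 126))) = true := by decide +kernel

/-- The terms of the commutator formula of type E7 lie higher (roots 7770 to 11654). -/
theorem e7Ucol_2 : ∀ r, 7770 ≤ r → r < 11655 → ((fun k => collectCheck Cfsg.Lie.chevE7 hposE7 (k / 126) (k % 126))) r = true := by
  intro r h1 h2
  by_cases c0 : r < 7875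
  · exact allRange_spec e7Ucol_2_7770 r (by omega) c0
  by_cases c1 : r < 7980
  · exact allRange_spec e7Ucol_2_7875 r (by omega) c1
  by_cases c2 : r < 8085
  · exact allRange_spec e7Ucol_2_7980 r (by omega) c2
  by_cases c3 : r < 8190
  · exact allRange_spec e7Ucol_2_8085 r (by omega) c3
  by_cases c4 : r < 8295
  · exact allRange_spec e7Ucol_2_8190 r (by omega) c4
  by_cases c5 : r < 8400
  · exact allRange_spec e7Ucol_2_8295 r (by omega) c5
  by_cases c6 : r < 8505
  · exact allRange_spec e7Ucol_2_8400 r (by omega) c6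
  by_cases c7 : r < 8610
  · exact allRange_spec e7Ucol_2_8505 r (by omega) c7
  by_cases c8 : r < 8715
  · exact allRange_spec e7Ucol_2_8610 r (by omega) c8
  by_cases c9 : r < 8820
  · exact allRange_spec e7Ucol_2_8715 r (by omega) c9
  by_cases c10 : r < 8925
  · exact allRange_spec e7Ucol_2_8820 r (by omega) c10
  by_cases c11 : r < 9030
  · exact allRange_spec e7Ucol_2_8925 r (by omega) c11
  by_cases c12 : r < 9135
  · exact allRange_spec e7Ucol_2_9030 r (by omega) c12
  by_cases c13 : r < 9240
  · exact allRange_spec e7Ucol_2_9135 r (by omega) c13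
  by_cases c14 : r < 9345
  · exact allRange_spec e7Ucol_2_9240 r (by omega) c14
  by_cases c15 : r < 9450
  · exact allRange_spec e7Ucol_2_9345 r (by omega) c15
  by_cases c16 : r < 9555
  · exact allRange_spec e7Ucol_2_9450 r (by omega) c16
  by_cases c17 : r < 9660
  · exact allRange_spec e7Ucol_2_9555 r (by omega) c17
  by_cases c18 : r < 9765
  · exact allRange_spec e7Ucol_2_9660 r (by omega) c18
  by_cases c19 : r < 9870
  · exact allRange_spec e7Ucol_2_9765 r (by omega) c19
  by_cases c20 : r < 9975
  · exact allRange_spec e7Ucol_2_9870 r (by omega) c20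
  by_cases c21 : r < 10080
  · exact allRange_spec e7Ucol_2_9975 r (by omega) c21
  by_cases c22 : r < 10185
  · exact allRange_spec e7Ucol_2_10080 r (by omega) c22
  by_cases c23 : r < 10290
  · exact allRange_spec e7Ucol_2_10185 r (by omega) c23
  by_cases c24 : r < 10395
  · exact allRange_spec e7Ucol_2_10290 r (by omega) c24
  by_cases c25 : r < 10500
  · exact allRange_spec e7Ucol_2_10395 r (by omega) c25
  by_cases c26 : r < 10605
  · exact allRange_spec e7Ucol_2_10500 r (by omega) c26
  by_cases c27 : r < 10710
  · exact allRange_spec e7Ucol_2_10605 r (by omega) c27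
  by_cases c28 : r < 10815
  · exact allRange_spec e7Ucol_2_10710 r (by omega) c28
  by_cases c29 : r < 10920
  · exact allRange_spec e7Ucol_2_10815 r (by omega) c29
  by_cases c30 : r < 11025
  · exact allRange_spec e7Ucol_2_10920 r (by omega) c30
  by_cases c31 : r < 11130
  · exact allRange_spec e7Ucol_2_11025 r (by omega) c31
  by_cases c32 : r < 11235
  · exact allRange_spec e7Ucol_2_11130 r (by omega) c32
  by_cases c33 : r < 11340
  · exact allRange_spec e7Ucol_2_11235 r (by omega) c33
  by_cases c34 : r < 11445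
  · exact allRange_spec e7Ucol_2_11340 r (by omega) c34
  by_cases c35 : r < 11550
  · exact allRange_spec e7Ucol_2_11445 r (by omega) c35
  exact allRange_spec e7Ucol_2_11550 r (by omega) h2

end Cfsg.Agent.Lib.Helper3.ChevM
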