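import Cfsg.Agent.Lib.Helper3.ChevData.E7UcolA
import Cfsg.Agent.Lib.Helper3.ChevData.E7UcolB
import Cfsg.Agent.Lib.Helper3.ChevData.E7UcolC
import Cfsg.Agent.Lib.Helper3.ChevData.E7UcolD
import Cfsg.Agent.Lib.Helper3.ChevData.E7UcolE
set_option autoImplicit false

namespace Cfsg.Agent.Lib.Helper3.ChevM

/-- The terms of the commutator formula of type E7 lie higher. -/
theorem e7Ucol : ∀ r < 15876, ((fun k => collectCheck Cfsg.Lie.chevE7 hposE7 (k / 126) (k % 126))) r = true := by
  intro r hr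
  by_cases h0 : r < 3885
  · exact e7Ucol_0 r (by omega) h0
  by_cases h1 : r < 7770
  · exact e7Ucol_1 r (by omega) h1
  by_cases h2 : r < 11655
  · exact e7Ucol_2 r (by omega) h2
  by_cases h3 : r < 15540
  · exact e7Ucol_3 r (by omega) h3
  exact e7Ucol_4 r (by omega) hr

end Cfsg.Agent.Lib.Helper3.ChevM
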