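import Cfsg.Agent.Lib.Helper3.ChevData.E7UinjA
set_option autoImplicit false

namespace Cfsg.Agent.Lib.Helper3.ChevM

/-- The positions of the positive roots of type E7 are distinct. -/
theorem e7Uinj : ∀ r < 126, ((fun r => hposCheck Cfsg.Lie.chevE7 hposE7 r)) r = true := by
  intro r hr
  exact e7Uinj_0 r (by omega) hr

end Cfsg.Agent.Lib.Helper3.ChevM
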