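import Cfsg.Agent.Lib.Helper3.ChevData.E7UwitA
set_option autoImplicit false

namespace Cfsg.Agent.Lib.Helper3.ChevM

/-- Witness entries for the root elements of type E7. -/
theorem e7Uwit : ∀ r < 126, ((fun r => witCheck cdE7 hfE7 frE7 wjE7 wiE7 r)) r = true := by
  intro r hr
  exact e7Uwit_0 r (by omega) hr

end Cfsg.Agent.Lib.Helper3.ChevM
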