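import Cfsg.Agent.Lib.Helper3.ChevData.E7CommData
import Cfsg.Agent.Lib.Helper3.ChevData.E7Ucol
import Cfsg.Agent.Lib.Helper3.ChevData.E7Uinj
import Cfsg.Agent.Lib.Helper3.ChevData.E7Ufrm
import Cfsg.Agent.Lib.Helper3.ChevData.E7Ulev
import Cfsg.Agent.Lib.Helper3.ChevData.E7Uwit
set_option autoImplicit false

namespace Cfsg.Agent.Lib.Helper3.ChevM

/-- The structure data for the subgroup `U` of type E7. -/
def uhypE7 : UHyp cdE7 relE7 where
  K := commE7
  hpos := hposE7
  hf := hfE7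
  fr := frE7
  wj := wjE7
  wi := wiE7
  col := of_pairRange (m := 126) (n := 126) e7Ucol
  inj := e7Uinj
  lev := e7Ulev
  frm := e7Ufrm
  wit := e7Uwit

end Cfsg.Agent.Lib.Helper3.ChevM
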