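import Mathlib
import Cfsg.Prelude.Def_ChevE7
set_option autoImplicit false
set_option maxRecDepth 1000000

namespace Cfsg.Agent.Lib.Helper3.ChevM

/-- Coefficients of the roots of type E7 on the fundamental roots. -/
def vecE7 (r j : ℕ) : ℤ := ((#[#[-2, -2, -3, -4, -3, -2, -1], #[-1, -2, -3, -4, -3, -2, -1], #[-1, -2, -2, -4, -3, -2, -1], #[-1, -2, -2, -3, -3, -2, -1], #[-1, -2, -2, -3, -2, -2, -1], #[-1, -2, -2, -3, -2, -1, -1], #[-1, -2, -2, -3, -2, -1, 0], #[-1, -1, -2, -3, -3, -2, -1], #[-1, -1, -2, -3, -2, -2, -1], #[-1, -1, -2, -3, -2, -1, -1], #[-1, -1, -2, -3, -2, -1, 0], #[-1, -1, -2, -2, -2, -2, -1], #[-1, -1, -2, -2, -2, -1, -1], #[-1, -1, -2, -2, -2, -1, 0], #[-1, -1, -2, -2, -1, -1, -1], #[-1, -1, -2, -2, -1, -1, 0], #[-1, -1, -2, -2,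 -1, 0, 0], #[-1, -1, -1, -2, -2, -2, -1], #[-1, -1, -1, -2, -2, -1, -1], #[-1, -1, -1, -2, -2, -1, 0], #[-1, -1, -1, -2, -1, -1, -1], #[-1, -1, -1, -2, -1, -1, 0], #[-1, -1, -1, -2, -1, 0, 0], #[-1, -1, -1, -1, -1, -1, -1], #[-1, -1, -1, -1, -1, -1, 0], #[-1, -1, -1, -1, -1, 0, 0], #[-1, -1, -1, -1, 0, 0, 0], #[-1, 0, -1, -1, -1, -1, -1], #[-1, 0, -1, -1, -1, -1, 0], #[-1, 0, -1, -1, -1, 0, 0], #[-1, 0, -1, -1, 0, 0, 0], #[-1, 0, -1, 0, 0, 0, 0], #[-1, 0, 0, 0, 0, 0, 0], #[0, -1, -1, -2, -2, -2, -1], #[0, -1, -1, -2, -2, -1, -1], #[0, -1, -1, -2, -2, -1, 0], #[0, -1, -1, -2, -1, -1, -1], #[0, -1, -1, -2, -1, -1, 0], #[0, -1, -1, -2, -1, 0, 0], #[0, -1, -1, -1, -1, -1, -1], #[0, -1, -1, -1, -1, -1, 0], #[0, -1, -1, -1, -1, 0, 0], #[0, -1, -1, -1,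 0, 0, 0], #[0, -1, 0, -1, -1, -1, -1], #[0, -1, 0, -1, -1, -1, 0], #[0, -1, 0, -1, -1, 0, 0], #[0, -1, 0, -1, 0, 0, 0], #[0, -1, 0, 0, 0, 0, 0], #[0, 0, -1, -1, -1, -1, -1], #[0, 0, -1, -1, -1, -1, 0], #[0, 0, -1, -1, -1, 0, 0], #[0, 0, -1, -1, 0, 0, 0], #[0, 0, -1, 0, 0, 0, 0], #[0, 0, 0, -1, -1, -1, -1], #[0, 0, 0, -1, -1, -1, 0], #[0, 0, 0, -1, -1, 0, 0], #[0, 0, 0, -1, 0, 0, 0], #[0, 0, 0, 0, -1, -1, -1], #[0, 0, 0, 0, -1, -1, 0], #[0, 0, 0, 0, -1, 0, 0], #[0, 0, 0, 0, 0, -1, -1], #[0, 0, 0, 0, 0, -1, 0], #[0, 0, 0, 0, 0, 0, -1], #[0, 0, 0, 0, 0, 0, 1], #[0, 0, 0, 0, 0, 1, 0], #[0, 0, 0, 0, 0, 1, 1], #[0, 0, 0, 0, 1, 0, 0], #[0, 0, 0, 0, 1, 1, 0], #[0, 0, 0, 0, 1, 1, 1], #[0, 0, 0, 1, 0, 0, 0], #[0, 0, 0, 1, 1, 0, 0], #[0, 0, 0, 1, 1, 1, 0],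 #[0, 0, 0, 1, 1, 1, 1], #[0, 0, 1, 0, 0, 0, 0], #[0, 0, 1, 1, 0, 0, 0], #[0, 0, 1, 1, 1, 0, 0], #[0, 0, 1, 1, 1, 1, 0], #[0, 0, 1, 1, 1, 1, 1], #[0, 1, 0, 0, 0, 0, 0], #[0, 1, 0, 1, 0, 0, 0], #[0, 1, 0, 1, 1, 0, 0], #[0, 1, 0, 1, 1, 1, 0], #[0, 1, 0, 1, 1, 1, 1], #[0, 1, 1, 1, 0, 0, 0], #[0, 1, 1, 1, 1, 0, 0], #[0, 1, 1, 1, 1, 1, 0], #[0, 1, 1, 1, 1, 1, 1], #[0, 1, 1, 2, 1, 0, 0], #[0, 1, 1, 2, 1, 1, 0], #[0, 1, 1, 2, 1, 1, 1], #[0, 1, 1, 2, 2, 1, 0], #[0, 1, 1, 2, 2, 1, 1], #[0, 1, 1, 2, 2, 2, 1], #[1, 0, 0, 0, 0, 0, 0], #[1, 0, 1, 0, 0, 0, 0], #[1, 0, 1, 1, 0, 0, 0], #[1, 0, 1, 1, 1, 0, 0], #[1, 0, 1, 1, 1, 1, 0], #[1, 0, 1, 1, 1, 1, 1], #[1, 1, 1, 1, 0, 0, 0], #[1, 1, 1, 1, 1, 0, 0], #[1, 1, 1, 1, 1, 1, 0], #[1, 1, 1, 1, 1, 1, 1], #[1, 1, 1,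 2, 1, 0, 0], #[1, 1, 1, 2, 1, 1, 0], #[1, 1, 1, 2, 1, 1, 1], #[1, 1, 1, 2, 2, 1, 0], #[1, 1, 1, 2, 2, 1, 1], #[1, 1, 1, 2, 2, 2, 1], #[1, 1, 2, 2, 1, 0, 0], #[1, 1, 2, 2, 1, 1, 0], #[1, 1, 2, 2, 1, 1, 1], #[1, 1, 2, 2, 2, 1, 0], #[1, 1, 2, 2, 2, 1, 1], #[1, 1, 2, 2, 2, 2, 1], #[1, 1, 2, 3, 2, 1, 0], #[1, 1, 2, 3, 2, 1, 1], #[1, 1, 2, 3, 2, 2, 1], #[1, 1, 2, 3, 3, 2, 1], #[1, 2, 2, 3, 2, 1, 0], #[1, 2, 2, 3, 2, 1, 1], #[1, 2, 2, 3, 2, 2, 1], #[1, 2, 2, 3, 3, 2, 1], #[1, 2, 2, 4, 3, 2, 1], #[1, 2, 3, 4, 3, 2, 1], #[2, 2, 3, 4, 3, 2, 1]] : Array (Array ℤ)).getD r #[]).getD j 0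

/-- Left factor of the diagonal form of the Cartan matrix, type E7. -/
def smPE7 : Matrix (Fin 7) (Fin 7) ℤ := Matrix.of fun i j => ((#[#[-1, 0, 0, 0, 0, 0, 0], #[0, -1, 0, 0, 0, 0, 0], #[1, -2, 0, -1, 0, 0, 0], #[2, -3, 0, -2, -1, 0, 0], #[3, -4, 0, -3, -2, -1, 0], #[-2, 1, -1, 0, 0, 0, 0], #[-4, -1, -4, -4, -3, -2, -1]] : Array (Array ℤ)).getD i.val #[]).getD j.val 0

/-- Right factor, type E7. -/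
def smQE7 : Matrix (Fin 7) (Fin 7) ℤ := Matrix.of fun i j => ((#[#[0, 0, 0, 0, 0, 1, -2], #[0, 0, 0, 0, 0, 2, -3], #[1, 0, 0, 0, 0, 2, -4], #[0, 1, 0, 0, 0, 4, -6], #[0, 0, 1, 0, 0, 4, -5], #[0, 0, 0, 1, 0, 4, -4], #[0, 0, 0, 0, 1, 4, -3]] : Array (Array ℤ)).getD i.val #[]).getD j.val 0

/-- Inverse of the left factor, type E7. -/
def smPiE7 : Matrix (Fin 7) (Fin 7) ℤ := Matrix.of fun i j => ((#[#[-1, 0, 0, 0, 0, 0, 0], #[0, -1, 0, 0, 0, 0, 0], #[2, -1, 0, 0, 0, -1, 0], #[-1, 2, -1, 0, 0, 0, 0], #[0, -1, 2, -1, 0, 0, 0], #[0, 0, -1, 2, -1, 0, 0], #[0, 0, 0, -1, 2, 4, -1]] : Array (Array ℤ)).getD i.val #[]).getD j.val 0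

/-- Inverse of the right factor, type E7. -/
def smQiE7 : Matrix (Fin 7) (Fin 7) ℤ := Matrix.of fun i j => ((#[#[-2, 0, 1, 0, 0, 0, 0], #[0, -2, 0, 1, 0, 0, 0], #[2, -3, 0, 0, 1, 0, 0], #[4, -4, 0, 0, 0, 1, 0], #[6, -5, 0, 0, 0, 0, 1], #[-3, 2, 0, 0, 0, 0, 0], #[-2, 1, 0, 0, 0, 0, 0]] : Array (Array ℤ)).getD i.val #[]).getD j.val 0

/-- The diagonal form of the Cartan matrix of type E7. -/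
def smDE7 (k : Fin 7) : ℕ := (#[1, 1, 1, 1, 1, 1, 2] : Array ℕ).getD k.val 0

end Cfsg.Agent.Lib.Helper3.ChevM
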