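import Cfsg.Prelude.Def_ChevE7
import Cfsg.Agent.Lib.Helper3.ChevData.E7Hd2
import Cfsg.Agent.Lib.Helper3.ChevL2
set_option autoImplicit false
set_option maxRecDepth 1000000
set_option Elab.async false

namespace Cfsg.Agent.Lib.Helper3.ChevM

theorem e7Cv_1_1260 : allRange 1260 1386 (fun k => commVecCheck Cfsg.Lie.chevE7 vecE7 (k / 126) (k % 126)) = true := by decide +kernel
theorem e7Cv_1_1386 : allRange 1386 1512 (fun k => commVecCheck Cfsg.Lie.chevE7 vecE7 (k / 126) (k % 126)) = true := by decide +kernel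
theorem e7Cv_1_1512 : allRange 1512 1638 (fun k => commVecCheck Cfsg.Lie.chevE7 vecE7 (k / 126) (k % 126)) = true := by decide +kernel
theorem e7Cv_1_1638 : allRange 1638 1764 (fun k => commVecCheck Cfsg.Lie.chevE7 vecE7 (k / 126) (k % 126)) = true := by decide +kernel
theorem e7Cv_1_1764 : allRange 1764 1890 (fun k => commVecCheck Cfsg.Lie.chevE7 vecE7 (k / 126) (k % 126)) = true := by decide +kernel
theorem e7Cv_1_1890 : allRange 1890 2016 (fun k => commVecCheck Cfsg.Lie.chevE7 vecE7 (k / 126) (k % 126)) = true := by decide +kernel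
theorem e7Cv_1_2016 : allRange 2016 2142 (fun k => commVecCheck Cfsg.Lie.chevE7 vecE7 (k / 126) (k % 126)) = true := by decide +kernel
theorem e7Cv_1_2142 : allRange 2142 2268 (fun k => commVecCheck Cfsg.Lie.chevE7 vecE7 (k / 126) (k % 126)) = true := by decide +kernel
theorem e7Cv_1_2268 : allRange 2268 2394 (fun k => commVecCheck Cfsg.Lie.chevE7 vecE7 (k / 126) (k % 126)) = true := by decide +kernel
theorem e7Cv_1_2394 : allRange 2394 2520 (fun k => commVecCheck Cfsg.Lie.chevE7 vecE7 (k / 126) (k % 126)) = true := by decide +kernel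

/-- The roots of the commutator formula of type E7 are the expected combinations (roots 1260 to 2519). -/
theorem e7Cv_1 : ∀ r, 1260 ≤ r → r < 2520 → (fun k => commVecCheck Cfsg.Lie.chevE7 vecE7 (k / 126) (k % 126)) r = true := by
  intro r h1 h2
  by_cases c0 : r < 1386
  · exact allRange_spec e7Cv_1_1260 r (by omega) c0
  by_cases c1 : r < 1512
  · exact allRange_spec e7Cv_1_1386 r (by omega) c1
  by_cases c2 : r < 1638
  · exact allRange_spec e7Cv_1_1512 r (by omega) c2
  by_cases c3 : r < 1764
  · exact allRange_spec e7Cv_1_1638 r (by omega) c3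
  by_cases c4 : r < 1890
  · exact allRange_spec e7Cv_1_1764 r (by omega) c4
  by_cases c5 : r < 2016
  · exact allRange_spec e7Cv_1_1890 r (by omega) c5
  by_cases c6 : r < 2142
  · exact allRange_spec e7Cv_1_2016 r (by omega) c6
  by_cases c7 : r < 2268
  · exact allRange_spec e7Cv_1_2142 r (by omega) c7
  by_cases c8 : r < 2394
  · exact allRange_spec e7Cv_1_2268 r (by omega) c8
  exact allRange_spec e7Cv_1_2394 r (by omega) h2

end Cfsg.Agent.Lib.Helper3.ChevM
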