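import Cfsg.Prelude.Def_ChevE7
import Cfsg.Agent.Lib.Helper3.ChevData.E7Hd2
import Cfsg.Agent.Lib.Helper3.ChevL2
set_option autoImplicit false
set_option maxRecDepth 1000000
set_option Elab.async false

namespace Cfsg.Agent.Lib.Helper3.ChevM

theorem e7Cv_2_2520 : allRange 2520 2646 (fun k => commVecCheck Cfsg.Lie.chevE7 vecE7 (k / 126) (k % 126)) = true := by decide +kernel
theorem e7Cv_2_2646 : allRange 2646 2772 (fun k => commVecCheck Cfsg.Lie.chevE7 vecE7 (k / 126) (k % 126)) = true := by decide +kernel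
theorem e7Cv_2_2772 : allRange 2772 2898 (fun k => commVecCheck Cfsg.Lie.chevE7 vecE7 (k / 126) (k % 126)) = true := by decide +kernel
theorem e7Cv_2_2898 : allRange 2898 3024 (fun k => commVecCheck Cfsg.Lie.chevE7 vecE7 (k / 126) (k % 126)) = true := by decide +kernel
theorem e7Cv_2_3024 : allRange 3024 3150 (fun k => commVecCheck Cfsg.Lie.chevE7 vecE7 (k / 126) (k % 126)) = true := by decide +kernel
theorem e7Cv_2_3150 : allRange 3150 3276 (fun k => commVecCheck Cfsg.Lie.chevE7 vecE7 (k / 126) (k % 126)) = true := by decide +kernel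
theorem e7Cv_2_3276 : allRange 3276 3402 (fun k => commVecCheck Cfsg.Lie.chevE7 vecE7 (k / 126) (k % 126)) = true := by decide +kernel
theorem e7Cv_2_3402 : allRange 3402 3528 (fun k => commVecCheck Cfsg.Lie.chevE7 vecE7 (k / 126) (k % 126)) = true := by decide +kernel
theorem e7Cv_2_3528 : allRange 3528 3654 (fun k => commVecCheck Cfsg.Lie.chevE7 vecE7 (k / 126) (k % 126)) = true := by decide +kernel
theorem e7Cv_2_3654 : allRange 3654 3780 (fun k => commVecCheck Cfsg.Lie.chevE7 vecE7 (k / 126) (k % 126)) = true := by decide +kernel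

/-- The roots of the commutator formula of type E7 are the expected combinations (roots 2520 to 3779). -/
theorem e7Cv_2 : ∀ r, 2520 ≤ r → r < 3780 → (fun k => commVecCheck Cfsg.Lie.chevE7 vecE7 (k / 126) (k % 126)) r = true := by
  intro r h1 h2
  by_cases c0 : r < 2646
  · exact allRange_spec e7Cv_2_2520 r (by omega) c0
  by_cases c1 : r < 2772
  · exact allRange_spec e7Cv_2_2646 r (by omega) c1
  by_cases c2 : r < 2898
  · exact allRange_spec e7Cv_2_2772 r (by omega) c2
  by_cases c3 : r < 3024
  · exact allRange_spec e7Cv_2_2898 r (by omega) c3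
  by_cases c4 : r < 3150
  · exact allRange_spec e7Cv_2_3024 r (by omega) c4
  by_cases c5 : r < 3276
  · exact allRange_spec e7Cv_2_3150 r (by omega) c5
  by_cases c6 : r < 3402
  · exact allRange_spec e7Cv_2_3276 r (by omega) c6
  by_cases c7 : r < 3528
  · exact allRange_spec e7Cv_2_3402 r (by omega) c7
  by_cases c8 : r < 3654
  · exact allRange_spec e7Cv_2_3528 r (by omega) c8
  exact allRange_spec e7Cv_2_3654 r (by omega) h2

end Cfsg.Agent.Lib.Helper3.ChevM
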