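import Cfsg.Prelude.Def_ChevE7
import Cfsg.Agent.Lib.Helper3.ChevData.E7Hd2
import Cfsg.Agent.Lib.Helper3.ChevL2
set_option autoImplicit false
set_option maxRecDepth 1000000
set_option Elab.async false

namespace Cfsg.Agent.Lib.Helper3.ChevM

theorem e7Cv_3_3780 : allRange 3780 3906 (fun k => commVecCheck Cfsg.Lie.chevE7 vecE7 (k / 126) (k % 126)) = true := by decide +kernel
theorem e7Cv_3_3906 : allRange 3906 4032 (fun k => commVecCheck Cfsg.Lie.chevE7 vecE7 (k / 126) (k % 126)) = true := by decide +kernel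
theorem e7Cv_3_4032 : allRange 4032 4158 (fun k => commVecCheck Cfsg.Lie.chevE7 vecE7 (k / 126) (k % 126)) = true := by decide +kernel
theorem e7Cv_3_4158 : allRange 4158 4284 (fun k => commVecCheck Cfsg.Lie.chevE7 vecE7 (k / 126) (k % 126)) = true := by decide +kernel
theorem e7Cv_3_4284 : allRange 4284 4410 (fun k => commVecCheck Cfsg.Lie.chevE7 vecE7 (k / 126) (k % 126)) = true := by decide +kernel
theorem e7Cv_3_4410 : allRange 4410 4536 (fun k => commVecCheck Cfsg.Lie.chevE7 vecE7 (k / 126) (k % 126)) = true := by decide +kernel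
theorem e7Cv_3_4536 : allRange 4536 4662 (fun k => commVecCheck Cfsg.Lie.chevE7 vecE7 (k / 126) (k % 126)) = true := by decide +kernel
theorem e7Cv_3_4662 : allRange 4662 4788 (fun k => commVecCheck Cfsg.Lie.chevE7 vecE7 (k / 126) (k % 126)) = true := by decide +kernel
theorem e7Cv_3_4788 : allRange 4788 4914 (fun k => commVecCheck Cfsg.Lie.chevE7 vecE7 (k / 126) (k % 126)) = true := by decide +kernel
theorem e7Cv_3_4914 : allRange 4914 5040 (fun k => commVecCheck Cfsg.Lie.chevE7 vecE7 (k / 126) (k % 126)) = true := by decide +kernel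

/-- The roots of the commutator formula of type E7 are the expected combinations (roots 3780 to 5039). -/
theorem e7Cv_3 : ∀ r, 3780 ≤ r → r < 5040 → (fun k => commVecCheck Cfsg.Lie.chevE7 vecE7 (k / 126) (k % 126)) r = true := by
  intro r h1 h2
  by_cases c0 : r < 3906
  · exact allRange_spec e7Cv_3_3780 r (by omega) c0
  by_cases c1 : r < 4032
  · exact allRange_spec e7Cv_3_3906 r (by omega) c1
  by_cases c2 : r < 4158
  · exact allRange_spec e7Cv_3_4032 r (by omega) c2
  by_cases c3 : r < 4284
  · exact allRange_spec e7Cv_3_4158 r (by omega) c3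
  by_cases c4 : r < 4410
  · exact allRange_spec e7Cv_3_4284 r (by omega) c4
  by_cases c5 : r < 4536
  · exact allRange_spec e7Cv_3_4410 r (by omega) c5
  by_cases c6 : r < 4662
  · exact allRange_spec e7Cv_3_4536 r (by omega) c6
  by_cases c7 : r < 4788
  · exact allRange_spec e7Cv_3_4662 r (by omega) c7
  by_cases c8 : r < 4914
  · exact allRange_spec e7Cv_3_4788 r (by omega) c8
  exact allRange_spec e7Cv_3_4914 r (by omega) h2

end Cfsg.Agent.Lib.Helper3.ChevM
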