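import Cfsg.Prelude.Def_ChevE7
import Cfsg.Agent.Lib.Helper3.ChevData.E7Hd2
import Cfsg.Agent.Lib.Helper3.ChevL2
set_option autoImplicit false
set_option maxRecDepth 1000000
set_option Elab.async false

namespace Cfsg.Agent.Lib.Helper3.ChevM

theorem e7Cv_4_5040 : allRange 5040 5166 (fun k => commVecCheck Cfsg.Lie.chevE7 vecE7 (k / 126) (k % 126)) = true := by decide +kernel
theorem e7Cv_4_5166 : allRange 5166 5292 (fun k => commVecCheck Cfsg.Lie.chevE7 vecE7 (k / 126) (k % 126)) = true := by decide +kernel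
theorem e7Cv_4_5292 : allRange 5292 5418 (fun k => commVecCheck Cfsg.Lie.chevE7 vecE7 (k / 126) (k % 126)) = true := by decide +kernel
theorem e7Cv_4_5418 : allRange 5418 5544 (fun k => commVecCheck Cfsg.Lie.chevE7 vecE7 (k / 126) (k % 126)) = true := by decide +kernel
theorem e7Cv_4_5544 : allRange 5544 5670 (fun k => commVecCheck Cfsg.Lie.chevE7 vecE7 (k / 126) (k % 126)) = true := by decide +kernel
theorem e7Cv_4_5670 : allRange 5670 5796 (fun k => commVecCheck Cfsg.Lie.chevE7 vecE7 (k / 126) (k % 126)) = true := by decide +kernel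
theorem e7Cv_4_5796 : allRange 5796 5922 (fun k => commVecCheck Cfsg.Lie.chevE7 vecE7 (k / 126) (k % 126)) = true := by decide +kernel
theorem e7Cv_4_5922 : allRange 5922 6048 (fun k => commVecCheck Cfsg.Lie.chevE7 vecE7 (k / 126) (k % 126)) = true := by decide +kernel
theorem e7Cv_4_6048 : allRange 6048 6174 (fun k => commVecCheck Cfsg.Lie.chevE7 vecE7 (k / 126) (k % 126)) = true := by decide +kernel
theorem e7Cv_4_6174 : allRange 6174 6300 (fun k => commVecCheck Cfsg.Lie.chevE7 vecE7 (k / 126) (k % 126)) = true := by decide +kernel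

/-- The roots of the commutator formula of type E7 are the expected combinations (roots 5040 to 6299). -/
theorem e7Cv_4 : ∀ r, 5040 ≤ r → r < 6300 → (fun k => commVecCheck Cfsg.Lie.chevE7 vecE7 (k / 126) (k % 126)) r = true := by
  intro r h1 h2
  by_cases c0 : r < 5166
  · exact allRange_spec e7Cv_4_5040 r (by omega) c0
  by_cases c1 : r < 5292
  · exact allRange_spec e7Cv_4_5166 r (by omega) c1
  by_cases c2 : r < 5418
  · exact allRange_spec e7Cv_4_5292 r (by omega) c2
  by_cases c3 : r < 5544
  · exact allRange_spec e7Cv_4_5418 r (by omega) c3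
  by_cases c4 : r < 5670
  · exact allRange_spec e7Cv_4_5544 r (by omega) c4
  by_cases c5 : r < 5796
  · exact allRange_spec e7Cv_4_5670 r (by omega) c5
  by_cases c6 : r < 5922
  · exact allRange_spec e7Cv_4_5796 r (by omega) c6
  by_cases c7 : r < 6048
  · exact allRange_spec e7Cv_4_5922 r (by omega) c7
  by_cases c8 : r < 6174
  · exact allRange_spec e7Cv_4_6048 r (by omega) c8
  exact allRange_spec e7Cv_4_6174 r (by omega) h2

end Cfsg.Agent.Lib.Helper3.ChevM
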