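import Cfsg.Prelude.Def_ChevE7
import Cfsg.Agent.Lib.Helper3.ChevData.E7Hd2
import Cfsg.Agent.Lib.Helper3.ChevL2
set_option autoImplicit false
set_option maxRecDepth 1000000
set_option Elab.async false

namespace Cfsg.Agent.Lib.Helper3.ChevM

theorem e7Cv_5_6300 : allRange 6300 6426 (fun k => commVecCheck Cfsg.Lie.chevE7 vecE7 (k / 126) (k % 126)) = true := by decide +kernel
theorem e7Cv_5_6426 : allRange 6426 6552 (fun k => commVecCheck Cfsg.Lie.chevE7 vecE7 (k / 126) (k % 126)) = true := by decide +kernel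
theorem e7Cv_5_6552 : allRange 6552 6678 (fun k => commVecCheck Cfsg.Lie.chevE7 vecE7 (k / 126) (k % 126)) = true := by decide +kernel
theorem e7Cv_5_6678 : allRange 6678 6804 (fun k => commVecCheck Cfsg.Lie.chevE7 vecE7 (k / 126) (k % 126)) = true := by decide +kernel
theorem e7Cv_5_6804 : allRange 6804 6930 (fun k => commVecCheck Cfsg.Lie.chevE7 vecE7 (k / 126) (k % 126)) = true := by decide +kernel
theorem e7Cv_5_6930 : allRange 6930 7056 (fun k => commVecCheck Cfsg.Lie.chevE7 vecE7 (k / 126) (k % 126)) = true := by decide +kernel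
theorem e7Cv_5_7056 : allRange 7056 7182 (fun k => commVecCheck Cfsg.Lie.chevE7 vecE7 (k / 126) (k % 126)) = true := by decide +kernel
theorem e7Cv_5_7182 : allRange 7182 7308 (fun k => commVecCheck Cfsg.Lie.chevE7 vecE7 (k / 126) (k % 126)) = true := by decide +kernel
theorem e7Cv_5_7308 : allRange 7308 7434 (fun k => commVecCheck Cfsg.Lie.chevE7 vecE7 (k / 126) (k % 126)) = true := by decide +kernel
theorem e7Cv_5_7434 : allRange 7434 7560 (fun k => commVecCheck Cfsg.Lie.chevE7 vecE7 (k / 126) (k % 126)) = true := by decide +kernel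

/-- The roots of the commutator formula of type E7 are the expected combinations (roots 6300 to 7559). -/
theorem e7Cv_5 : ∀ r, 6300 ≤ r → r < 7560 → (fun k => commVecCheck Cfsg.Lie.chevE7 vecE7 (k / 126) (k % 126)) r = true := by
  intro r h1 h2
  by_cases c0 : r < 6426
  · exact allRange_spec e7Cv_5_6300 r (by omega) c0
  by_cases c1 : r < 6552
  · exact allRange_spec e7Cv_5_6426 r (by omega) c1
  by_cases c2 : r < 6678
  · exact allRange_spec e7Cv_5_6552 r (by omega) c2
  by_cases c3 : r < 6804
  · exact allRange_spec e7Cv_5_6678 r (by omega) c3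
  by_cases c4 : r < 6930
  · exact allRange_spec e7Cv_5_6804 r (by omega) c4
  by_cases c5 : r < 7056
  · exact allRange_spec e7Cv_5_6930 r (by omega) c5
  by_cases c6 : r < 7182
  · exact allRange_spec e7Cv_5_7056 r (by omega) c6
  by_cases c7 : r < 7308
  · exact allRange_spec e7Cv_5_7182 r (by omega) c7
  by_cases c8 : r < 7434
  · exact allRange_spec e7Cv_5_7308 r (by omega) c8
  exact allRange_spec e7Cv_5_7434 r (by omega) h2

end Cfsg.Agent.Lib.Helper3.ChevM
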