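import Cfsg.Prelude.Def_ChevE7
import Cfsg.Agent.Lib.Helper3.ChevData.E7Hd2
import Cfsg.Agent.Lib.Helper3.ChevL2
set_option autoImplicit false
set_option maxRecDepth 1000000
set_option Elab.async false

namespace Cfsg.Agent.Lib.Helper3.ChevM

theorem e7Cv_6_7560 : allRange 7560 7686 (fun k => commVecCheck Cfsg.Lie.chevE7 vecE7 (k / 126) (k % 126)) = true := by decide +kernel
theorem e7Cv_6_7686 : allRange 7686 7812 (fun k => commVecCheck Cfsg.Lie.chevE7 vecE7 (k / 126) (k % 126)) = true := by decide +kernel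
theorem e7Cv_6_7812 : allRange 7812 7938 (fun k => commVecCheck Cfsg.Lie.chevE7 vecE7 (k / 126) (k % 126)) = true := by decide +kernel
theorem e7Cv_6_7938 : allRange 7938 8064 (fun k => commVecCheck Cfsg.Lie.chevE7 vecE7 (k / 126) (k % 126)) = true := by decide +kernel
theorem e7Cv_6_8064 : allRange 8064 8190 (fun k => commVecCheck Cfsg.Lie.chevE7 vecE7 (k / 126) (k % 126)) = true := by decide +kernel
theorem e7Cv_6_8190 : allRange 8190 8316 (fun k => commVecCheck Cfsg.Lie.chevE7 vecE7 (k / 126) (k % 126)) = true := by decide +kernel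
theorem e7Cv_6_8316 : allRange 8316 8442 (fun k => commVecCheck Cfsg.Lie.chevE7 vecE7 (k / 126) (k % 126)) = true := by decide +kernel
theorem e7Cv_6_8442 : allRange 8442 8568 (fun k => commVecCheck Cfsg.Lie.chevE7 vecE7 (k / 126) (k % 126)) = true := by decide +kernel
theorem e7Cv_6_8568 : allRange 8568 8694 (fun k => commVecCheck Cfsg.Lie.chevE7 vecE7 (k / 126) (k % 126)) = true := by decide +kernel
theorem e7Cv_6_8694 : allRange 8694 8820 (fun k => commVecCheck Cfsg.Lie.chevE7 vecE7 (k / 126) (k % 126)) = true := by decide +kernel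

/-- The roots of the commutator formula of type E7 are the expected combinations (roots 7560 to 8819). -/
theorem e7Cv_6 : ∀ r, 7560 ≤ r → r < 8820 → (fun k => commVecCheck Cfsg.Lie.chevE7 vecE7 (k / 126) (k % 126)) r = true := by
  intro r h1 h2
  by_cases c0 : r < 7686
  · exact allRange_spec e7Cv_6_7560 r (by omega) c0
  by_cases c1 : r < 7812
  · exact allRange_spec e7Cv_6_7686 r (by omega) c1
  by_cases c2 : r < 7938
  · exact allRange_spec e7Cv_6_7812 r (by omega) c2
  by_cases c3 : r < 8064
  · exact allRange_spec e7Cv_6_7938 r (by omega) c3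
  by_cases c4 : r < 8190
  · exact allRange_spec e7Cv_6_8064 r (by omega) c4
  by_cases c5 : r < 8316
  · exact allRange_spec e7Cv_6_8190 r (by omega) c5
  by_cases c6 : r < 8442
  · exact allRange_spec e7Cv_6_8316 r (by omega) c6
  by_cases c7 : r < 8568
  · exact allRange_spec e7Cv_6_8442 r (by omega) c7
  by_cases c8 : r < 8694
  · exact allRange_spec e7Cv_6_8568 r (by omega) c8
  exact allRange_spec e7Cv_6_8694 r (by omega) h2

end Cfsg.Agent.Lib.Helper3.ChevM
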