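import Cfsg.Prelude.Def_ChevE7
import Cfsg.Agent.Lib.Helper3.ChevData.E7Hd2
import Cfsg.Agent.Lib.Helper3.ChevL2
set_option autoImplicit false
set_option maxRecDepth 1000000
set_option Elab.async false

namespace Cfsg.Agent.Lib.Helper3.ChevM

theorem e7Cv_7_8820 : allRange 8820 8946 (fun k => commVecCheck Cfsg.Lie.chevE7 vecE7 (k / 126) (k % 126)) = true := by decide +kernel
theorem e7Cv_7_8946 : allRange 8946 9072 (fun k => commVecCheck Cfsg.Lie.chevE7 vecE7 (k / 126) (k % 126)) = true := by decide +kernel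
theorem e7Cv_7_9072 : allRange 9072 9198 (fun k => commVecCheck Cfsg.Lie.chevE7 vecE7 (k / 126) (k % 126)) = true := by decide +kernel
theorem e7Cv_7_9198 : allRange 9198 9324 (fun k => commVecCheck Cfsg.Lie.chevE7 vecE7 (k / 126) (k % 126)) = true := by decide +kernel
theorem e7Cv_7_9324 : allRange 9324 9450 (fun k => commVecCheck Cfsg.Lie.chevE7 vecE7 (k / 126) (k % 126)) = true := by decide +kernel
theorem e7Cv_7_9450 : allRange 9450 9576 (fun k => commVecCheck Cfsg.Lie.chevE7 vecE7 (k / 126) (k % 126)) = true := by decide +kernel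
theorem e7Cv_7_9576 : allRange 9576 9702 (fun k => commVecCheck Cfsg.Lie.chevE7 vecE7 (k / 126) (k % 126)) = true := by decide +kernel
theorem e7Cv_7_9702 : allRange 9702 9828 (fun k => commVecCheck Cfsg.Lie.chevE7 vecE7 (k / 126) (k % 126)) = true := by decide +kernel
theorem e7Cv_7_9828 : allRange 9828 9954 (fun k => commVecCheck Cfsg.Lie.chevE7 vecE7 (k / 126) (k % 126)) = true := by decide +kernel
theorem e7Cv_7_9954 : allRange 9954 10080 (fun k => commVecCheck Cfsg.Lie.chevE7 vecE7 (k / 126) (k % 126)) = true := by decide +kernel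

/-- The roots of the commutator formula of type E7 are the expected combinations (roots 8820 to 10079). -/
theorem e7Cv_7 : ∀ r, 8820 ≤ r → r < 10080 → (fun k => commVecCheck Cfsg.Lie.chevE7 vecE7 (k / 126) (k % 126)) r = true := by
  intro r h1 h2
  by_cases c0 : r < 8946
  · exact allRange_spec e7Cv_7_8820 r (by omega) c0
  by_cases c1 : r < 9072
  · exact allRange_spec e7Cv_7_8946 r (by omega) c1
  by_cases c2 : r < 9198
  · exact allRange_spec e7Cv_7_9072 r (by omega) c2
  by_cases c3 : r < 9324
  · exact allRange_spec e7Cv_7_9198 r (by omega) c3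
  by_cases c4 : r < 9450
  · exact allRange_spec e7Cv_7_9324 r (by omega) c4
  by_cases c5 : r < 9576
  · exact allRange_spec e7Cv_7_9450 r (by omega) c5
  by_cases c6 : r < 9702
  · exact allRange_spec e7Cv_7_9576 r (by omega) c6
  by_cases c7 : r < 9828
  · exact allRange_spec e7Cv_7_9702 r (by omega) c7
  by_cases c8 : r < 9954
  · exact allRange_spec e7Cv_7_9828 r (by omega) c8
  exact allRange_spec e7Cv_7_9954 r (by omega) h2

end Cfsg.Agent.Lib.Helper3.ChevM
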