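import Cfsg.Prelude.Def_ChevE7
import Cfsg.Agent.Lib.Helper3.ChevData.E7Hd2
import Cfsg.Agent.Lib.Helper3.ChevL2
set_option autoImplicit false
set_option maxRecDepth 1000000
set_option Elab.async false

namespace Cfsg.Agent.Lib.Helper3.ChevM

theorem e7Cv_8_10080 : allRange 10080 10206 (fun k => commVecCheck Cfsg.Lie.chevE7 vecE7 (k / 126) (k % 126)) = true := by decide +kernel
theorem e7Cv_8_10206 : allRange 10206 10332 (fun k => commVecCheck Cfsg.Lie.chevE7 vecE7 (k / 126) (k % 126)) = true := by decide +kernel
theorem e7Cv_8_10332 : allRange 10332 10458 (fun k => commVecCheck Cfsg.Lie.chevE7 vecE7 (k / 126) (k % 126)) = true := by decide +kernel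
theorem e7Cv_8_10458 : allRange 10458 10584 (fun k => commVecCheck Cfsg.Lie.chevE7 vecE7 (k / 126) (k % 126)) = true := by decide +kernel
theorem e7Cv_8_10584 : allRange 10584 10710 (fun k => commVecCheck Cfsg.Lie.chevE7 vecE7 (k / 126) (k % 126)) = true := by decide +kernel
theorem e7Cv_8_10710 : allRange 10710 10836 (fun k => commVecCheck Cfsg.Lie.chevE7 vecE7 (k / 126) (k % 126)) = true := by decide +kernel
theorem e7Cv_8_10836 : allRange 10836 10962 (fun k => commVecCheck Cfsg.Lie.chevE7 vecE7 (k / 126) (k % 126)) = true := by decide +kernel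
theorem e7Cv_8_10962 : allRange 10962 11088 (fun k => commVecCheck Cfsg.Lie.chevE7 vecE7 (k / 126) (k % 126)) = true := by decide +kernel
theorem e7Cv_8_11088 : allRange 11088 11214 (fun k => commVecCheck Cfsg.Lie.chevE7 vecE7 (k / 126) (k % 126)) = true := by decide +kernel
theorem e7Cv_8_11214 : allRange 11214 11340 (fun k => commVecCheck Cfsg.Lie.chevE7 vecE7 (k / 126) (k % 126)) = true := by decide +kernel

/-- The roots of the commutator formula of type E7 are the expected combinations (roots 10080 to 11339). -/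
theorem e7Cv_8 : ∀ r, 10080 ≤ r → r < 11340 → (fun k => commVecCheck Cfsg.Lie.chevE7 vecE7 (k / 126) (k % 126)) r = true := by
  intro r h1 h2
  by_cases c0 : r < 10206
  · exact allRange_spec e7Cv_8_10080 r (by omega) c0
  by_cases c1 : r < 10332
  · exact allRange_spec e7Cv_8_10206 r (by omega) c1
  by_cases c2 : r < 10458
  · exact allRange_spec e7Cv_8_10332 r (by omega) c2
  by_cases c3 : r < 10584
  · exact allRange_spec e7Cv_8_10458 r (by omega) c3
  by_cases c4 : r < 10710
  · exact allRange_spec e7Cv_8_10584 r (by omega) c4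
  by_cases c5 : r < 10836
  · exact allRange_spec e7Cv_8_10710 r (by omega) c5
  by_cases c6 : r < 10962
  · exact allRange_spec e7Cv_8_10836 r (by omega) c6
  by_cases c7 : r < 11088
  · exact allRange_spec e7Cv_8_10962 r (by omega) c7
  by_cases c8 : r < 11214
  · exact allRange_spec e7Cv_8_11088 r (by omega) c8
  exact allRange_spec e7Cv_8_11214 r (by omega) h2

end Cfsg.Agent.Lib.Helper3.ChevM
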