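import Cfsg.Prelude.Def_ChevE7
import Cfsg.Agent.Lib.Helper3.ChevData.E7Hd2
import Cfsg.Agent.Lib.Helper3.ChevL2
set_option autoImplicit false
set_option maxRecDepth 1000000
set_option Elab.async false

namespace Cfsg.Agent.Lib.Helper3.ChevM

theorem e7Cv_9_11340 : allRange 11340 11466 (fun k => commVecCheck Cfsg.Lie.chevE7 vecE7 (k / 126) (k % 126)) = true := by decide +kernel
theorem e7Cv_9_11466 : allRange 11466 11592 (fun k => commVecCheck Cfsg.Lie.chevE7 vecE7 (k / 126) (k % 126)) = true := by decide +kernel
theorem e7Cv_9_11592 : allRange 11592 11718 (fun k => commVecCheck Cfsg.Lie.chevE7 vecE7 (k / 126) (k % 126)) = true := by decide +kernel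
theorem e7Cv_9_11718 : allRange 11718 11844 (fun k => commVecCheck Cfsg.Lie.chevE7 vecE7 (k / 126) (k % 126)) = true := by decide +kernel
theorem e7Cv_9_11844 : allRange 11844 11970 (fun k => commVecCheck Cfsg.Lie.chevE7 vecE7 (k / 126) (k % 126)) = true := by decide +kernel
theorem e7Cv_9_11970 : allRange 11970 12096 (fun k => commVecCheck Cfsg.Lie.chevE7 vecE7 (k / 126) (k % 126)) = true := by decide +kernel
theorem e7Cv_9_12096 : allRange 12096 12222 (fun k => commVecCheck Cfsg.Lie.chevE7 vecE7 (k / 126) (k % 126)) = true := by decide +kernel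
theorem e7Cv_9_12222 : allRange 12222 12348 (fun k => commVecCheck Cfsg.Lie.chevE7 vecE7 (k / 126) (k % 126)) = true := by decide +kernel
theorem e7Cv_9_12348 : allRange 12348 12474 (fun k => commVecCheck Cfsg.Lie.chevE7 vecE7 (k / 126) (k % 126)) = true := by decide +kernel
theorem e7Cv_9_12474 : allRange 12474 12600 (fun k => commVecCheck Cfsg.Lie.chevE7 vecE7 (k / 126) (k % 126)) = true := by decide +kernel

/-- The roots of the commutator formula of type E7 are the expected combinations (roots 11340 to 12599). -/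
theorem e7Cv_9 : ∀ r, 11340 ≤ r → r < 12600 → (fun k => commVecCheck Cfsg.Lie.chevE7 vecE7 (k / 126) (k % 126)) r = true := by
  intro r h1 h2
  by_cases c0 : r < 11466
  · exact allRange_spec e7Cv_9_11340 r (by omega) c0
  by_cases c1 : r < 11592
  · exact allRange_spec e7Cv_9_11466 r (by omega) c1
  by_cases c2 : r < 11718
  · exact allRange_spec e7Cv_9_11592 r (by omega) c2
  by_cases c3 : r < 11844
  · exact allRange_spec e7Cv_9_11718 r (by omega) c3
  by_cases c4 : r < 11970
  · exact allRange_spec e7Cv_9_11844 r (by omega) c4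
  by_cases c5 : r < 12096
  · exact allRange_spec e7Cv_9_11970 r (by omega) c5
  by_cases c6 : r < 12222
  · exact allRange_spec e7Cv_9_12096 r (by omega) c6
  by_cases c7 : r < 12348
  · exact allRange_spec e7Cv_9_12222 r (by omega) c7
  by_cases c8 : r < 12474
  · exact allRange_spec e7Cv_9_12348 r (by omega) c8
  exact allRange_spec e7Cv_9_12474 r (by omega) h2

end Cfsg.Agent.Lib.Helper3.ChevM
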