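import Cfsg.Prelude.Def_ChevE7
import Cfsg.Agent.Lib.Helper3.ChevData.E7Hd2
import Cfsg.Agent.Lib.Helper3.ChevL2
set_option autoImplicit false
set_option maxRecDepth 1000000
set_option Elab.async false

namespace Cfsg.Agent.Lib.Helper3.ChevM

theorem e7Cv_11_13860 : allRange 13860 13986 (fun k => commVecCheck Cfsg.Lie.chevE7 vecE7 (k / 126) (k % 126)) = true := by decide +kernel
theorem e7Cv_11_13986 : allRange 13986 14112 (fun k => commVecCheck Cfsg.Lie.chevE7 vecE7 (k / 126) (k % 126)) = true := by decide +kernel
theorem e7Cv_11_14112 : allRange 14112 14238 (fun k => commVecCheck Cfsg.Lie.chevE7 vecE7 (k / 126) (k % 126)) = true := by decide +kernel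
theorem e7Cv_11_14238 : allRange 14238 14364 (fun k => commVecCheck Cfsg.Lie.chevE7 vecE7 (k / 126) (k % 126)) = true := by decide +kernel
theorem e7Cv_11_14364 : allRange 14364 14490 (fun k => commVecCheck Cfsg.Lie.chevE7 vecE7 (k / 126) (k % 126)) = true := by decide +kernel
theorem e7Cv_11_14490 : allRange 14490 14616 (fun k => commVecCheck Cfsg.Lie.chevE7 vecE7 (k / 126) (k % 126)) = true := by decide +kernel
theorem e7Cv_11_14616 : allRange 14616 14742 (fun k => commVecCheck Cfsg.Lie.chevE7 vecE7 (k / 126) (k % 126)) = true := by decide +kernel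
theorem e7Cv_11_14742 : allRange 14742 14868 (fun k => commVecCheck Cfsg.Lie.chevE7 vecE7 (k / 126) (k % 126)) = true := by decide +kernel
theorem e7Cv_11_14868 : allRange 14868 14994 (fun k => commVecCheck Cfsg.Lie.chevE7 vecE7 (k / 126) (k % 126)) = true := by decide +kernel
theorem e7Cv_11_14994 : allRange 14994 15120 (fun k => commVecCheck Cfsg.Lie.chevE7 vecE7 (k / 126) (k % 126)) = true := by decide +kernel

/-- The roots of the commutator formula of type E7 are the expected combinations (roots 13860 to 15119). -/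
theorem e7Cv_11 : ∀ r, 13860 ≤ r → r < 15120 → (fun k => commVecCheck Cfsg.Lie.chevE7 vecE7 (k / 126) (k % 126)) r = true := by
  intro r h1 h2
  by_cases c0 : r < 13986
  · exact allRange_spec e7Cv_11_13860 r (by omega) c0
  by_cases c1 : r < 14112
  · exact allRange_spec e7Cv_11_13986 r (by omega) c1
  by_cases c2 : r < 14238
  · exact allRange_spec e7Cv_11_14112 r (by omega) c2
  by_cases c3 : r < 14364
  · exact allRange_spec e7Cv_11_14238 r (by omega) c3
  by_cases c4 : r < 14490
  · exact allRange_spec e7Cv_11_14364 r (by omega) c4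
  by_cases c5 : r < 14616
  · exact allRange_spec e7Cv_11_14490 r (by omega) c5
  by_cases c6 : r < 14742
  · exact allRange_spec e7Cv_11_14616 r (by omega) c6
  by_cases c7 : r < 14868
  · exact allRange_spec e7Cv_11_14742 r (by omega) c7
  by_cases c8 : r < 14994
  · exact allRange_spec e7Cv_11_14868 r (by omega) c8
  exact allRange_spec e7Cv_11_14994 r (by omega) h2

end Cfsg.Agent.Lib.Helper3.ChevM
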