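import Cfsg.Prelude.Def_ChevE7
import Cfsg.Agent.Lib.Helper3.ChevData.E7Hd2
import Cfsg.Agent.Lib.Helper3.ChevL2
set_option autoImplicit false
set_option maxRecDepth 1000000
set_option Elab.async false

namespace Cfsg.Agent.Lib.Helper3.ChevM

theorem e7Cv_12_15120 : allRange 15120 15246 (fun k => commVecCheck Cfsg.Lie.chevE7 vecE7 (k / 126) (k % 126)) = true := by decide +kernel
theorem e7Cv_12_15246 : allRange 15246 15372 (fun k => commVecCheck Cfsg.Lie.chevE7 vecE7 (k / 126) (k % 126)) = true := by decide +kernel
theorem e7Cv_12_15372 : allRange 15372 15498 (fun k => commVecCheck Cfsg.Lie.chevE7 vecE7 (k / 126) (k % 126)) = true := by decide +kernel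
theorem e7Cv_12_15498 : allRange 15498 15624 (fun k => commVecCheck Cfsg.Lie.chevE7 vecE7 (k / 126) (k % 126)) = true := by decide +kernel
theorem e7Cv_12_15624 : allRange 15624 15750 (fun k => commVecCheck Cfsg.Lie.chevE7 vecE7 (k / 126) (k % 126)) = true := by decide +kernel
theorem e7Cv_12_15750 : allRange 15750 15876 (fun k => commVecCheck Cfsg.Lie.chevE7 vecE7 (k / 126) (k % 126)) = true := by decide +kernel

/-- The roots of the commutator formula of type E7 are the expected combinations (roots 15120 to 15875). -/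
theorem e7Cv_12 : ∀ r, 15120 ≤ r → r < 15876 → (fun k => commVecCheck Cfsg.Lie.chevE7 vecE7 (k / 126) (k % 126)) r = true := by
  intro r h1 h2
  by_cases c0 : r < 15246
  · exact allRange_spec e7Cv_12_15120 r (by omega) c0
  by_cases c1 : r < 15372
  · exact allRange_spec e7Cv_12_15246 r (by omega) c1
  by_cases c2 : r < 15498
  · exact allRange_spec e7Cv_12_15372 r (by omega) c2
  by_cases c3 : r < 15624
  · exact allRange_spec e7Cv_12_15498 r (by omega) c3
  by_cases c4 : r < 15750
  · exact allRange_spec e7Cv_12_15624 r (by omega) c4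
  exact allRange_spec e7Cv_12_15750 r (by omega) h2

end Cfsg.Agent.Lib.Helper3.ChevM
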