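import Cfsg.Agent.Lib.Helper3.ChevData.E7CvA
import Cfsg.Agent.Lib.Helper3.ChevData.E7CvB
import Cfsg.Agent.Lib.Helper3.ChevData.E7CvC
import Cfsg.Agent.Lib.Helper3.ChevData.E7CvD
import Cfsg.Agent.Lib.Helper3.ChevData.E7CvE
import Cfsg.Agent.Lib.Helper3.ChevData.E7CvF
import Cfsg.Agent.Lib.Helper3.ChevData.E7CvG
import Cfsg.Agent.Lib.Helper3.ChevData.E7CvH
import Cfsg.Agent.Lib.Helper3.ChevData.E7CvI
import Cfsg.Agent.Lib.Helper3.ChevData.E7CvJ
import Cfsg.Agent.Lib.Helper3.ChevData.E7CvK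
import Cfsg.Agent.Lib.Helper3.ChevData.E7CvL
import Cfsg.Agent.Lib.Helper3.ChevData.E7CvM
set_option autoImplicit false

namespace Cfsg.Agent.Lib.Helper3.ChevM

/-- The roots of the commutator formula of type E7 are the expected combinations. -/
theorem e7Cv : ∀ r < 15876, (fun k => commVecCheck Cfsg.Lie.chevE7 vecE7 (k / 126) (k % 126)) r = true := by
  intro r hr
  by_cases h0 : r < 1260
  · exact e7Cv_0 r (by omega) h0
  by_cases h1 : r < 2520
  · exact e7Cv_1 r (by omega) h1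
  by_cases h2 : r < 3780
  · exact e7Cv_2 r (by omega) h2
  by_cases h3 : r < 5040
  · exact e7Cv_3 r (by omega) h3
  by_cases h4 : r < 6300
  · exact e7Cv_4 r (by omega) h4
  by_cases h5 : r < 7560
  · exact e7Cv_5 r (by omega) h5
  by_cases h6 : r < 8820
  · exact e7Cv_6 r (by omega) h6
  by_cases h7 : r < 10080
  · exact e7Cv_7 r (by omega) h7
  by_cases h8 : r < 11340
  · exact e7Cv_8 r (by omega) h8
  by_cases h9 : r < 12600
  · exact e7Cv_9 r (by omega) h9
  by_cases h10 : r < 13860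
  · exact e7Cv_10 r (by omega) h10
  by_cases h11 : r < 15120
  · exact e7Cv_11 r (by omega) h11
  exact e7Cv_12 r (by omega) hr

end Cfsg.Agent.Lib.Helper3.ChevM
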