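import Cfsg.Agent.Lib.Helper3.ChevData.E7Datum
import Cfsg.Agent.Lib.Helper3.ChevData.E7Tabs
import Cfsg.Agent.Lib.Helper3.ChevM7
set_option autoImplicit false
set_option maxRecDepth 1000000
set_option Elab.async false

namespace Cfsg.Agent.Lib.Helper3.ChevM

theorem e7Conj_1_222 : allRange 222 228 ((fun k => cdE7.checkConj (k / 126) (cdE7.cartI pairE7 (k / 126)) (reflE7 (k / 126)) (etaE7 (k / 126)) (k % 126))) = true := by decide +kernel
theorem e7Conj_1_228 : allRange 228 234 ((fun k => cdE7.checkConj (k / 126) (cdE7.cartI pairE7 (k / 126)) (reflE7 (k / 126)) (etaE7 (k / 126)) (k % 126))) = true := by decide +kernel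
theorem e7Conj_1_234 : allRange 234 240 ((fun k => cdE7.checkConj (k / 126) (cdE7.cartI pairE7 (k / 126)) (reflE7 (k / 126)) (etaE7 (k / 126)) (k % 126))) = true := by decide +kernel
theorem e7Conj_1_240 : allRange 240 246 ((fun k => cdE7.checkConj (k / 126) (cdE7.cartI pairE7 (k / 126)) (reflE7 (k / 126)) (etaE7 (k / 126)) (k % 126))) = true := by decide +kernel
theorem e7Conj_1_246 : allRange 246 252 ((fun k => cdE7.checkConj (k / 126) (cdE7.cartI pairE7 (k / 126)) (reflE7 (k / 126)) (etaE7 (k / 126)) (k % 126))) = true := by decide +kernel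
theorem e7Conj_1_252 : allRange 252 258 ((fun k => cdE7.checkConj (k / 126) (cdE7.cartI pairE7 (k / 126)) (reflE7 (k / 126)) (etaE7 (k / 126)) (k % 126))) = true := by decide +kernel
theorem e7Conj_1_258 : allRange 258 264 ((fun k => cdE7.checkConj (k / 126) (cdE7.cartI pairE7 (k / 126)) (reflE7 (k / 126)) (etaE7 (k / 126)) (k % 126))) = true := by decide +kernel
theorem e7Conj_1_264 : allRange 264 270 ((fun k => cdE7.checkConj (k / 126) (cdE7.cartI pairE7 (k / 126)) (reflE7 (k / 126)) (etaE7 (k / 126)) (k % 126))) = true := by decide +kernel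
theorem e7Conj_1_270 : allRange 270 276 ((fun k => cdE7.checkConj (k / 126) (cdE7.cartI pairE7 (k / 126)) (reflE7 (k / 126)) (etaE7 (k / 126)) (k % 126))) = true := by decide +kernel
theorem e7Conj_1_276 : allRange 276 282 ((fun k => cdE7.checkConj (k / 126) (cdE7.cartI pairE7 (k / 126)) (reflE7 (k / 126)) (etaE7 (k / 126)) (k % 126))) = true := by decide +kernel
theorem e7Conj_1_282 : allRange 282 288 ((fun k => cdE7.checkConj (k / 126) (cdE7.cartI pairE7 (k / 126)) (reflE7 (k / 126)) (etaE7 (k / 126)) (k % 126))) = true := by decide +kernel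
theorem e7Conj_1_288 : allRange 288 294 ((fun k => cdE7.checkConj (k / 126) (cdE7.cartI pairE7 (k / 126)) (reflE7 (k / 126)) (etaE7 (k / 126)) (k % 126))) = true := by decide +kernel
theorem e7Conj_1_294 : allRange 294 300 ((fun k => cdE7.checkConj (k / 126) (cdE7.cartI pairE7 (k / 126)) (reflE7 (k / 126)) (etaE7 (k / 126)) (k % 126))) = true := by decide +kernel
theorem e7Conj_1_300 : allRange 300 306 ((fun k => cdE7.checkConj (k / 126) (cdE7.cartI pairE7 (k / 126)) (reflE7 (k / 126)) (etaE7 (k / 126)) (k % 126))) = true := by decide +kernel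
theorem e7Conj_1_306 : allRange 306 312 ((fun k => cdE7.checkConj (k / 126) (cdE7.cartI pairE7 (k / 126)) (reflE7 (k / 126)) (etaE7 (k / 126)) (k % 126))) = true := by decide +kernel
theorem e7Conj_1_312 : allRange 312 318 ((fun k => cdE7.checkConj (k / 126) (cdE7.cartI pairE7 (k / 126)) (reflE7 (k / 126)) (etaE7 (k / 126)) (k % 126))) = true := by decide +kernel
theorem e7Conj_1_318 : allRange 318 324 ((fun k => cdE7.checkConj (k / 126) (cdE7.cartI pairE7 (k / 126)) (reflE7 (k / 126)) (etaE7 (k / 126)) (k % 126))) = true := by decide +kernel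
theorem e7Conj_1_324 : allRange 324 330 ((fun k => cdE7.checkConj (k / 126) (cdE7.cartI pairE7 (k / 126)) (reflE7 (k / 126)) (etaE7 (k / 126)) (k % 126))) = true := by decide +kernel
theorem e7Conj_1_330 : allRange 330 336 ((fun k => cdE7.checkConj (k / 126) (cdE7.cartI pairE7 (k / 126)) (reflE7 (k / 126)) (etaE7 (k / 126)) (k % 126))) = true := by decide +kernel
theorem e7Conj_1_336 : allRange 336 342 ((fun k => cdE7.checkConj (k / 126) (cdE7.cartI pairE7 (k / 126)) (reflE7 (k / 126)) (etaE7 (k / 126)) (k % 126))) = true := by decide +kernel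
theorem e7Conj_1_342 : allRange 342 348 ((fun k => cdE7.checkConj (k / 126) (cdE7.cartI pairE7 (k / 126)) (reflE7 (k / 126)) (etaE7 (k / 126)) (k % 126))) = true := by decide +kernel
theorem e7Conj_1_348 : allRange 348 354 ((fun k => cdE7.checkConj (k / 126) (cdE7.cartI pairE7 (k / 126)) (reflE7 (k / 126)) (etaE7 (k / 126)) (k % 126))) = true := by decide +kernel
theorem e7Conj_1_354 : allRange 354 360 ((fun k => cdE7.checkConj (k / 126) (cdE7.cartI pairE7 (k / 126)) (reflE7 (k / 126)) (etaE7 (k / 126)) (k % 126))) = true := by decide +kernel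
theorem e7Conj_1_360 : allRange 360 366 ((fun k => cdE7.checkConj (k / 126) (cdE7.cartI pairE7 (k / 126)) (reflE7 (k / 126)) (etaE7 (k / 126)) (k % 126))) = true := by decide +kernel
theorem e7Conj_1_366 : allRange 366 372 ((fun k => cdE7.checkConj (k / 126) (cdE7.cartI pairE7 (k / 126)) (reflE7 (k / 126)) (etaE7 (k / 126)) (k % 126))) = true := by decide +kernel
theorem e7Conj_1_372 : allRange 372 378 ((fun k => cdE7.checkConj (k / 126) (cdE7.cartI pairE7 (k / 126)) (reflE7 (k / 126)) (etaE7 (k / 126)) (k % 126))) = true := by decide +kernel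
theorem e7Conj_1_378 : allRange 378 384 ((fun k => cdE7.checkConj (k / 126) (cdE7.cartI pairE7 (k / 126)) (reflE7 (k / 126)) (etaE7 (k / 126)) (k % 126))) = true := by decide +kernel
theorem e7Conj_1_384 : allRange 384 390 ((fun k => cdE7.checkConj (k / 126) (cdE7.cartI pairE7 (k / 126)) (reflE7 (k / 126)) (etaE7 (k / 126)) (k % 126))) = true := by decide +kernel
theorem e7Conj_1_390 : allRange 390 396 ((fun k => cdE7.checkConj (k / 126) (cdE7.cartI pairE7 (k / 126)) (reflE7 (k / 126)) (etaE7 (k / 126)) (k % 126))) = true := by decide +kernel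
theorem e7Conj_1_396 : allRange 396 402 ((fun k => cdE7.checkConj (k / 126) (cdE7.cartI pairE7 (k / 126)) (reflE7 (k / 126)) (etaE7 (k / 126)) (k % 126))) = true := by decide +kernel
theorem e7Conj_1_402 : allRange 402 408 ((fun k => cdE7.checkConj (k / 126) (cdE7.cartI pairE7 (k / 126)) (reflE7 (k / 126)) (etaE7 (k / 126)) (k % 126))) = true := by decide +kernel
theorem e7Conj_1_408 : allRange 408 414 ((fun k => cdE7.checkConj (k / 126) (cdE7.cartI pairE7 (k / 126)) (reflE7 (k / 126)) (etaE7 (k / 126)) (k % 126))) = true := by decide +kernel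
theorem e7Conj_1_414 : allRange 414 420 ((fun k => cdE7.checkConj (k / 126) (cdE7.cartI pairE7 (k / 126)) (reflE7 (k / 126)) (etaE7 (k / 126)) (k % 126))) = true := by decide +kernel
theorem e7Conj_1_420 : allRange 420 426 ((fun k => cdE7.checkConj (k / 126) (cdE7.cartI pairE7 (k / 126)) (reflE7 (k / 126)) (etaE7 (k / 126)) (k % 126))) = true := by decide +kernel
theorem e7Conj_1_426 : allRange 426 432 ((fun k => cdE7.checkConj (k / 126) (cdE7.cartI pairE7 (k / 126)) (reflE7 (k / 126)) (etaE7 (k / 126)) (k % 126))) = true := by decide +kernel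
theorem e7Conj_1_432 : allRange 432 438 ((fun k => cdE7.checkConj (k / 126) (cdE7.cartI pairE7 (k / 126)) (reflE7 (k / 126)) (etaE7 (k / 126)) (k % 126))) = true := by decide +kernel
theorem e7Conj_1_438 : allRange 438 444 ((fun k => cdE7.checkConj (k / 126) (cdE7.cartI pairE7 (k / 126)) (reflE7 (k / 126)) (etaE7 (k / 126)) (k % 126))) = true := by decide +kernel

/-- Conjugation of root elements by the `n_p` of type E7 (roots 222 to 443). -/
theorem e7Conj_1 : ∀ r, 222 ≤ r → r < 444 → ((fun k => cdE7.checkConj (k / 126) (cdE7.cartI pairE7 (k / 126)) (reflE7 (k / 126)) (etaE7 (k / 126)) (k % 126))) r = true := by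
  intro r h1 h2
  by_cases c0 : r < 228
  · exact allRange_spec e7Conj_1_222 r (by omega) c0
  by_cases c1 : r < 234
  · exact allRange_spec e7Conj_1_228 r (by omega) c1
  by_cases c2 : r < 240
  · exact allRange_spec e7Conj_1_234 r (by omega) c2
  by_cases c3 : r < 246
  · exact allRange_spec e7Conj_1_240 r (by omega) c3
  by_cases c4 : r < 252
  · exact allRange_spec e7Conj_1_246 r (by omega) c4
  by_cases c5 : r < 258
  · exact allRange_spec e7Conj_1_252 r (by omega) c5
  by_cases c6 : r < 264
  · exact allRange_spec e7Conj_1_258 r (by omega) c6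
  by_cases c7 : r < 270
  · exact allRange_spec e7Conj_1_264 r (by omega) c7
  by_cases c8 : r < 276
  · exact allRange_spec e7Conj_1_270 r (by omega) c8
  by_cases c9 : r < 282
  · exact allRange_spec e7Conj_1_276 r (by omega) c9
  by_cases c10 : r < 288
  · exact allRange_spec e7Conj_1_282 r (by omega) c10
  by_cases c11 : r < 294
  · exact allRange_spec e7Conj_1_288 r (by omega) c11
  by_cases c12 : r < 300
  · exact allRange_spec e7Conj_1_294 r (by omega) c12
  by_cases c13 : r < 306
  · exact allRange_spec e7Conj_1_300 r (by omega) c13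
  by_cases c14 : r < 312
  · exact allRange_spec e7Conj_1_306 r (by omega) c14
  by_cases c15 : r < 318
  · exact allRange_spec e7Conj_1_312 r (by omega) c15
  by_cases c16 : r < 324
  · exact allRange_spec e7Conj_1_318 r (by omega) c16
  by_cases c17 : r < 330
  · exact allRange_spec e7Conj_1_324 r (by omega) c17
  by_cases c18 : r < 336
  · exact allRange_spec e7Conj_1_330 r (by omega) c18
  by_cases c19 : r < 342
  · exact allRange_spec e7Conj_1_336 r (by omega) c19
  by_cases c20 : r < 348
  · exact allRange_spec e7Conj_1_342 r (by omega) c20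
  by_cases c21 : r < 354
  · exact allRange_spec e7Conj_1_348 r (by omega) c21
  by_cases c22 : r < 360
  · exact allRange_spec e7Conj_1_354 r (by omega) c22
  by_cases c23 : r < 366
  · exact allRange_spec e7Conj_1_360 r (by omega) c23
  by_cases c24 : r < 372
  · exact allRange_spec e7Conj_1_366 r (by omega) c24
  by_cases c25 : r < 378
  · exact allRange_spec e7Conj_1_372 r (by omega) c25
  by_cases c26 : r < 384
  · exact allRange_spec e7Conj_1_378 r (by omega) c26
  by_cases c27 : r < 390
  · exact allRange_spec e7Conj_1_384 r (by omega) c27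
  by_cases c28 : r < 396
  · exact allRange_spec e7Conj_1_390 r (by omega) c28
  by_cases c29 : r < 402
  · exact allRange_spec e7Conj_1_396 r (by omega) c29
  by_cases c30 : r < 408
  · exact allRange_spec e7Conj_1_402 r (by omega) c30
  by_cases c31 : r < 414
  · exact allRange_spec e7Conj_1_408 r (by omega) c31
  by_cases c32 : r < 420
  · exact allRange_spec e7Conj_1_414 r (by omega) c32
  by_cases c33 : r < 426
  · exact allRange_spec e7Conj_1_420 r (by omega) c33
  by_cases c34 : r < 432
  · exact allRange_spec e7Conj_1_426 r (by omega) c34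
  by_cases c35 : r < 438
  · exact allRange_spec e7Conj_1_432 r (by omega) c35
  exact allRange_spec e7Conj_1_438 r (by omega) h2

end Cfsg.Agent.Lib.Helper3.ChevM
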