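import Cfsg.Agent.Lib.Helper3.ChevData.E7Datum
import Cfsg.Agent.Lib.Helper3.ChevData.E7Tabs
import Cfsg.Agent.Lib.Helper3.ChevM7
set_option autoImplicit false
set_option maxRecDepth 1000000
set_option Elab.async false

namespace Cfsg.Agent.Lib.Helper3.ChevM

theorem e7Conj_2_444 : allRange 444 450 ((fun k => cdE7.checkConj (k / 126) (cdE7.cartI pairE7 (k / 126)) (reflE7 (k / 126)) (etaE7 (k / 126)) (k % 126))) = true := by decide +kernel
theorem e7Conj_2_450 : allRange 450 456 ((fun k => cdE7.checkConj (k / 126) (cdE7.cartI pairE7 (k / 126)) (reflE7 (k / 126)) (etaE7 (k / 126)) (k % 126))) = true := by decide +kernel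
theorem e7Conj_2_456 : allRange 456 462 ((fun k => cdE7.checkConj (k / 126) (cdE7.cartI pairE7 (k / 126)) (reflE7 (k / 126)) (etaE7 (k / 126)) (k % 126))) = true := by decide +kernel
theorem e7Conj_2_462 : allRange 462 468 ((fun k => cdE7.checkConj (k / 126) (cdE7.cartI pairE7 (k / 126)) (reflE7 (k / 126)) (etaE7 (k / 126)) (k % 126))) = true := by decide +kernel
theorem e7Conj_2_468 : allRange 468 474 ((fun k => cdE7.checkConj (k / 126) (cdE7.cartI pairE7 (k / 126)) (reflE7 (k / 126)) (etaE7 (k / 126)) (k % 126))) = true := by decide +kernel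
theorem e7Conj_2_474 : allRange 474 480 ((fun k => cdE7.checkConj (k / 126) (cdE7.cartI pairE7 (k / 126)) (reflE7 (k / 126)) (etaE7 (k / 126)) (k % 126))) = true := by decide +kernel
theorem e7Conj_2_480 : allRange 480 486 ((fun k => cdE7.checkConj (k / 126) (cdE7.cartI pairE7 (k / 126)) (reflE7 (k / 126)) (etaE7 (k / 126)) (k % 126))) = true := by decide +kernel
theorem e7Conj_2_486 : allRange 486 492 ((fun k => cdE7.checkConj (k / 126) (cdE7.cartI pairE7 (k / 126)) (reflE7 (k / 126)) (etaE7 (k / 126)) (k % 126))) = true := by decide +kernel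
theorem e7Conj_2_492 : allRange 492 498 ((fun k => cdE7.checkConj (k / 126) (cdE7.cartI pairE7 (k / 126)) (reflE7 (k / 126)) (etaE7 (k / 126)) (k % 126))) = true := by decide +kernel
theorem e7Conj_2_498 : allRange 498 504 ((fun k => cdE7.checkConj (k / 126) (cdE7.cartI pairE7 (k / 126)) (reflE7 (k / 126)) (etaE7 (k / 126)) (k % 126))) = true := by decide +kernel
theorem e7Conj_2_504 : allRange 504 510 ((fun k => cdE7.checkConj (k / 126) (cdE7.cartI pairE7 (k / 126)) (reflE7 (k / 126)) (etaE7 (k / 126)) (k % 126))) = true := by decide +kernel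
theorem e7Conj_2_510 : allRange 510 516 ((fun k => cdE7.checkConj (k / 126) (cdE7.cartI pairE7 (k / 126)) (reflE7 (k / 126)) (etaE7 (k / 126)) (k % 126))) = true := by decide +kernel
theorem e7Conj_2_516 : allRange 516 522 ((fun k => cdE7.checkConj (k / 126) (cdE7.cartI pairE7 (k / 126)) (reflE7 (k / 126)) (etaE7 (k / 126)) (k % 126))) = true := by decide +kernel
theorem e7Conj_2_522 : allRange 522 528 ((fun k => cdE7.checkConj (k / 126) (cdE7.cartI pairE7 (k / 126)) (reflE7 (k / 126)) (etaE7 (k / 126)) (k % 126))) = true := by decide +kernel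
theorem e7Conj_2_528 : allRange 528 534 ((fun k => cdE7.checkConj (k / 126) (cdE7.cartI pairE7 (k / 126)) (reflE7 (k / 126)) (etaE7 (k / 126)) (k % 126))) = true := by decide +kernel
theorem e7Conj_2_534 : allRange 534 540 ((fun k => cdE7.checkConj (k / 126) (cdE7.cartI pairE7 (k / 126)) (reflE7 (k / 126)) (etaE7 (k / 126)) (k % 126))) = true := by decide +kernel
theorem e7Conj_2_540 : allRange 540 546 ((fun k => cdE7.checkConj (k / 126) (cdE7.cartI pairE7 (k / 126)) (reflE7 (k / 126)) (etaE7 (k / 126)) (k % 126))) = true := by decide +kernel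
theorem e7Conj_2_546 : allRange 546 552 ((fun k => cdE7.checkConj (k / 126) (cdE7.cartI pairE7 (k / 126)) (reflE7 (k / 126)) (etaE7 (k / 126)) (k % 126))) = true := by decide +kernel
theorem e7Conj_2_552 : allRange 552 558 ((fun k => cdE7.checkConj (k / 126) (cdE7.cartI pairE7 (k / 126)) (reflE7 (k / 126)) (etaE7 (k / 126)) (k % 126))) = true := by decide +kernel
theorem e7Conj_2_558 : allRange 558 564 ((fun k => cdE7.checkConj (k / 126) (cdE7.cartI pairE7 (k / 126)) (reflE7 (k / 126)) (etaE7 (k / 126)) (k % 126))) = true := by decide +kernel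
theorem e7Conj_2_564 : allRange 564 570 ((fun k => cdE7.checkConj (k / 126) (cdE7.cartI pairE7 (k / 126)) (reflE7 (k / 126)) (etaE7 (k / 126)) (k % 126))) = true := by decide +kernel
theorem e7Conj_2_570 : allRange 570 576 ((fun k => cdE7.checkConj (k / 126) (cdE7.cartI pairE7 (k / 126)) (reflE7 (k / 126)) (etaE7 (k / 126)) (k % 126))) = true := by decide +kernel
theorem e7Conj_2_576 : allRange 576 582 ((fun k => cdE7.checkConj (k / 126) (cdE7.cartI pairE7 (k / 126)) (reflE7 (k / 126)) (etaE7 (k / 126)) (k % 126))) = true := by decide +kernel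
theorem e7Conj_2_582 : allRange 582 588 ((fun k => cdE7.checkConj (k / 126) (cdE7.cartI pairE7 (k / 126)) (reflE7 (k / 126)) (etaE7 (k / 126)) (k % 126))) = true := by decide +kernel
theorem e7Conj_2_588 : allRange 588 594 ((fun k => cdE7.checkConj (k / 126) (cdE7.cartI pairE7 (k / 126)) (reflE7 (k / 126)) (etaE7 (k / 126)) (k % 126))) = true := by decide +kernel
theorem e7Conj_2_594 : allRange 594 600 ((fun k => cdE7.checkConj (k / 126) (cdE7.cartI pairE7 (k / 126)) (reflE7 (k / 126)) (etaE7 (k / 126)) (k % 126))) = true := by decide +kernel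
theorem e7Conj_2_600 : allRange 600 606 ((fun k => cdE7.checkConj (k / 126) (cdE7.cartI pairE7 (k / 126)) (reflE7 (k / 126)) (etaE7 (k / 126)) (k % 126))) = true := by decide +kernel
theorem e7Conj_2_606 : allRange 606 612 ((fun k => cdE7.checkConj (k / 126) (cdE7.cartI pairE7 (k / 126)) (reflE7 (k / 126)) (etaE7 (k / 126)) (k % 126))) = true := by decide +kernel
theorem e7Conj_2_612 : allRange 612 618 ((fun k => cdE7.checkConj (k / 126) (cdE7.cartI pairE7 (k / 126)) (reflE7 (k / 126)) (etaE7 (k / 126)) (k % 126))) = true := by decide +kernel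
theorem e7Conj_2_618 : allRange 618 624 ((fun k => cdE7.checkConj (k / 126) (cdE7.cartI pairE7 (k / 126)) (reflE7 (k / 126)) (etaE7 (k / 126)) (k % 126))) = true := by decide +kernel
theorem e7Conj_2_624 : allRange 624 630 ((fun k => cdE7.checkConj (k / 126) (cdE7.cartI pairE7 (k / 126)) (reflE7 (k / 126)) (etaE7 (k / 126)) (k % 126))) = true := by decide +kernel
theorem e7Conj_2_630 : allRange 630 636 ((fun k => cdE7.checkConj (k / 126) (cdE7.cartI pairE7 (k / 126)) (reflE7 (k / 126)) (etaE7 (k / 126)) (k % 126))) = true := by decide +kernel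
theorem e7Conj_2_636 : allRange 636 642 ((fun k => cdE7.checkConj (k / 126) (cdE7.cartI pairE7 (k / 126)) (reflE7 (k / 126)) (etaE7 (k / 126)) (k % 126))) = true := by decide +kernel
theorem e7Conj_2_642 : allRange 642 648 ((fun k => cdE7.checkConj (k / 126) (cdE7.cartI pairE7 (k / 126)) (reflE7 (k / 126)) (etaE7 (k / 126)) (k % 126))) = true := by decide +kernel
theorem e7Conj_2_648 : allRange 648 654 ((fun k => cdE7.checkConj (k / 126) (cdE7.cartI pairE7 (k / 126)) (reflE7 (k / 126)) (etaE7 (k / 126)) (k % 126))) = true := by decide +kernel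
theorem e7Conj_2_654 : allRange 654 660 ((fun k => cdE7.checkConj (k / 126) (cdE7.cartI pairE7 (k / 126)) (reflE7 (k / 126)) (etaE7 (k / 126)) (k % 126))) = true := by decide +kernel
theorem e7Conj_2_660 : allRange 660 666 ((fun k => cdE7.checkConj (k / 126) (cdE7.cartI pairE7 (k / 126)) (reflE7 (k / 126)) (etaE7 (k / 126)) (k % 126))) = true := by decide +kernel

/-- Conjugation of root elements by the `n_p` of type E7 (roots 444 to 665). -/
theorem e7Conj_2 : ∀ r, 444 ≤ r → r < 666 → ((fun k => cdE7.checkConj (k / 126) (cdE7.cartI pairE7 (k / 126)) (reflE7 (k / 126)) (etaE7 (k / 126)) (k % 126))) r = true := by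
  intro r h1 h2
  by_cases c0 : r < 450
  · exact allRange_spec e7Conj_2_444 r (by omega) c0
  by_cases c1 : r < 456
  · exact allRange_spec e7Conj_2_450 r (by omega) c1
  by_cases c2 : r < 462
  · exact allRange_spec e7Conj_2_456 r (by omega) c2
  by_cases c3 : r < 468
  · exact allRange_spec e7Conj_2_462 r (by omega) c3
  by_cases c4 : r < 474
  · exact allRange_spec e7Conj_2_468 r (by omega) c4
  by_cases c5 : r < 480
  · exact allRange_spec e7Conj_2_474 r (by omega) c5
  by_cases c6 : r < 486
  · exact allRange_spec e7Conj_2_480 r (by omega) c6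
  by_cases c7 : r < 492
  · exact allRange_spec e7Conj_2_486 r (by omega) c7
  by_cases c8 : r < 498
  · exact allRange_spec e7Conj_2_492 r (by omega) c8
  by_cases c9 : r < 504
  · exact allRange_spec e7Conj_2_498 r (by omega) c9
  by_cases c10 : r < 510
  · exact allRange_spec e7Conj_2_504 r (by omega) c10
  by_cases c11 : r < 516
  · exact allRange_spec e7Conj_2_510 r (by omega) c11
  by_cases c12 : r < 522
  · exact allRange_spec e7Conj_2_516 r (by omega) c12
  by_cases c13 : r < 528
  · exact allRange_spec e7Conj_2_522 r (by omega) c13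
  by_cases c14 : r < 534
  · exact allRange_spec e7Conj_2_528 r (by omega) c14
  by_cases c15 : r < 540
  · exact allRange_spec e7Conj_2_534 r (by omega) c15
  by_cases c16 : r < 546
  · exact allRange_spec e7Conj_2_540 r (by omega) c16
  by_cases c17 : r < 552
  · exact allRange_spec e7Conj_2_546 r (by omega) c17
  by_cases c18 : r < 558
  · exact allRange_spec e7Conj_2_552 r (by omega) c18
  by_cases c19 : r < 564
  · exact allRange_spec e7Conj_2_558 r (by omega) c19
  by_cases c20 : r < 570
  · exact allRange_spec e7Conj_2_564 r (by omega) c20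
  by_cases c21 : r < 576
  · exact allRange_spec e7Conj_2_570 r (by omega) c21
  by_cases c22 : r < 582
  · exact allRange_spec e7Conj_2_576 r (by omega) c22
  by_cases c23 : r < 588
  · exact allRange_spec e7Conj_2_582 r (by omega) c23
  by_cases c24 : r < 594
  · exact allRange_spec e7Conj_2_588 r (by omega) c24
  by_cases c25 : r < 600
  · exact allRange_spec e7Conj_2_594 r (by omega) c25
  by_cases c26 : r < 606
  · exact allRange_spec e7Conj_2_600 r (by omega) c26
  by_cases c27 : r < 612
  · exact allRange_spec e7Conj_2_606 r (by omega) c27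
  by_cases c28 : r < 618
  · exact allRange_spec e7Conj_2_612 r (by omega) c28
  by_cases c29 : r < 624
  · exact allRange_spec e7Conj_2_618 r (by omega) c29
  by_cases c30 : r < 630
  · exact allRange_spec e7Conj_2_624 r (by omega) c30
  by_cases c31 : r < 636
  · exact allRange_spec e7Conj_2_630 r (by omega) c31
  by_cases c32 : r < 642
  · exact allRange_spec e7Conj_2_636 r (by omega) c32
  by_cases c33 : r < 648
  · exact allRange_spec e7Conj_2_642 r (by omega) c33
  by_cases c34 : r < 654
  · exact allRange_spec e7Conj_2_648 r (by omega) c34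
  by_cases c35 : r < 660
  · exact allRange_spec e7Conj_2_654 r (by omega) c35
  exact allRange_spec e7Conj_2_660 r (by omega) h2

end Cfsg.Agent.Lib.Helper3.ChevM
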