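import Cfsg.Agent.Lib.Helper3.ChevData.E7Datum
import Cfsg.Agent.Lib.Helper3.ChevData.E7Tabs
import Cfsg.Agent.Lib.Helper3.ChevM7
set_option autoImplicit false
set_option maxRecDepth 1000000
set_option Elab.async false

namespace Cfsg.Agent.Lib.Helper3.ChevM

theorem e7Conj_3_666 : allRange 666 672 ((fun k => cdE7.checkConj (k / 126) (cdE7.cartI pairE7 (k / 126)) (reflE7 (k / 126)) (etaE7 (k / 126)) (k % 126))) = true := by decide +kernel
theorem e7Conj_3_672 : allRange 672 678 ((fun k => cdE7.checkConj (k / 126) (cdE7.cartI pairE7 (k / 126)) (reflE7 (k / 126)) (etaE7 (k / 126)) (k % 126))) = true := by decide +kernel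
theorem e7Conj_3_678 : allRange 678 684 ((fun k => cdE7.checkConj (k / 126) (cdE7.cartI pairE7 (k / 126)) (reflE7 (k / 126)) (etaE7 (k / 126)) (k % 126))) = true := by decide +kernel
theorem e7Conj_3_684 : allRange 684 690 ((fun k => cdE7.checkConj (k / 126) (cdE7.cartI pairE7 (k / 126)) (reflE7 (k / 126)) (etaE7 (k / 126)) (k % 126))) = true := by decide +kernel
theorem e7Conj_3_690 : allRange 690 696 ((fun k => cdE7.checkConj (k / 126) (cdE7.cartI pairE7 (k / 126)) (reflE7 (k / 126)) (etaE7 (k / 126)) (k % 126))) = true := by decide +kernel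
theorem e7Conj_3_696 : allRange 696 702 ((fun k => cdE7.checkConj (k / 126) (cdE7.cartI pairE7 (k / 126)) (reflE7 (k / 126)) (etaE7 (k / 126)) (k % 126))) = true := by decide +kernel
theorem e7Conj_3_702 : allRange 702 708 ((fun k => cdE7.checkConj (k / 126) (cdE7.cartI pairE7 (k / 126)) (reflE7 (k / 126)) (etaE7 (k / 126)) (k % 126))) = true := by decide +kernel
theorem e7Conj_3_708 : allRange 708 714 ((fun k => cdE7.checkConj (k / 126) (cdE7.cartI pairE7 (k / 126)) (reflE7 (k / 126)) (etaE7 (k / 126)) (k % 126))) = true := by decide +kernel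
theorem e7Conj_3_714 : allRange 714 720 ((fun k => cdE7.checkConj (k / 126) (cdE7.cartI pairE7 (k / 126)) (reflE7 (k / 126)) (etaE7 (k / 126)) (k % 126))) = true := by decide +kernel
theorem e7Conj_3_720 : allRange 720 726 ((fun k => cdE7.checkConj (k / 126) (cdE7.cartI pairE7 (k / 126)) (reflE7 (k / 126)) (etaE7 (k / 126)) (k % 126))) = true := by decide +kernel
theorem e7Conj_3_726 : allRange 726 732 ((fun k => cdE7.checkConj (k / 126) (cdE7.cartI pairE7 (k / 126)) (reflE7 (k / 126)) (etaE7 (k / 126)) (k % 126))) = true := by decide +kernel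
theorem e7Conj_3_732 : allRange 732 738 ((fun k => cdE7.checkConj (k / 126) (cdE7.cartI pairE7 (k / 126)) (reflE7 (k / 126)) (etaE7 (k / 126)) (k % 126))) = true := by decide +kernel
theorem e7Conj_3_738 : allRange 738 744 ((fun k => cdE7.checkConj (k / 126) (cdE7.cartI pairE7 (k / 126)) (reflE7 (k / 126)) (etaE7 (k / 126)) (k % 126))) = true := by decide +kernel
theorem e7Conj_3_744 : allRange 744 750 ((fun k => cdE7.checkConj (k / 126) (cdE7.cartI pairE7 (k / 126)) (reflE7 (k / 126)) (etaE7 (k / 126)) (k % 126))) = true := by decide +kernel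
theorem e7Conj_3_750 : allRange 750 756 ((fun k => cdE7.checkConj (k / 126) (cdE7.cartI pairE7 (k / 126)) (reflE7 (k / 126)) (etaE7 (k / 126)) (k % 126))) = true := by decide +kernel
theorem e7Conj_3_756 : allRange 756 762 ((fun k => cdE7.checkConj (k / 126) (cdE7.cartI pairE7 (k / 126)) (reflE7 (k / 126)) (etaE7 (k / 126)) (k % 126))) = true := by decide +kernel
theorem e7Conj_3_762 : allRange 762 768 ((fun k => cdE7.checkConj (k / 126) (cdE7.cartI pairE7 (k / 126)) (reflE7 (k / 126)) (etaE7 (k / 126)) (k % 126))) = true := by decide +kernel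
theorem e7Conj_3_768 : allRange 768 774 ((fun k => cdE7.checkConj (k / 126) (cdE7.cartI pairE7 (k / 126)) (reflE7 (k / 126)) (etaE7 (k / 126)) (k % 126))) = true := by decide +kernel
theorem e7Conj_3_774 : allRange 774 780 ((fun k => cdE7.checkConj (k / 126) (cdE7.cartI pairE7 (k / 126)) (reflE7 (k / 126)) (etaE7 (k / 126)) (k % 126))) = true := by decide +kernel
theorem e7Conj_3_780 : allRange 780 786 ((fun k => cdE7.checkConj (k / 126) (cdE7.cartI pairE7 (k / 126)) (reflE7 (k / 126)) (etaE7 (k / 126)) (k % 126))) = true := by decide +kernel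
theorem e7Conj_3_786 : allRange 786 792 ((fun k => cdE7.checkConj (k / 126) (cdE7.cartI pairE7 (k / 126)) (reflE7 (k / 126)) (etaE7 (k / 126)) (k % 126))) = true := by decide +kernel
theorem e7Conj_3_792 : allRange 792 798 ((fun k => cdE7.checkConj (k / 126) (cdE7.cartI pairE7 (k / 126)) (reflE7 (k / 126)) (etaE7 (k / 126)) (k % 126))) = true := by decide +kernel
theorem e7Conj_3_798 : allRange 798 804 ((fun k => cdE7.checkConj (k / 126) (cdE7.cartI pairE7 (k / 126)) (reflE7 (k / 126)) (etaE7 (k / 126)) (k % 126))) = true := by decide +kernel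
theorem e7Conj_3_804 : allRange 804 810 ((fun k => cdE7.checkConj (k / 126) (cdE7.cartI pairE7 (k / 126)) (reflE7 (k / 126)) (etaE7 (k / 126)) (k % 126))) = true := by decide +kernel
theorem e7Conj_3_810 : allRange 810 816 ((fun k => cdE7.checkConj (k / 126) (cdE7.cartI pairE7 (k / 126)) (reflE7 (k / 126)) (etaE7 (k / 126)) (k % 126))) = true := by decide +kernel
theorem e7Conj_3_816 : allRange 816 822 ((fun k => cdE7.checkConj (k / 126) (cdE7.cartI pairE7 (k / 126)) (reflE7 (k / 126)) (etaE7 (k / 126)) (k % 126))) = true := by decide +kernel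
theorem e7Conj_3_822 : allRange 822 828 ((fun k => cdE7.checkConj (k / 126) (cdE7.cartI pairE7 (k / 126)) (reflE7 (k / 126)) (etaE7 (k / 126)) (k % 126))) = true := by decide +kernel
theorem e7Conj_3_828 : allRange 828 834 ((fun k => cdE7.checkConj (k / 126) (cdE7.cartI pairE7 (k / 126)) (reflE7 (k / 126)) (etaE7 (k / 126)) (k % 126))) = true := by decide +kernel
theorem e7Conj_3_834 : allRange 834 840 ((fun k => cdE7.checkConj (k / 126) (cdE7.cartI pairE7 (k / 126)) (reflE7 (k / 126)) (etaE7 (k / 126)) (k % 126))) = true := by decide +kernel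
theorem e7Conj_3_840 : allRange 840 846 ((fun k => cdE7.checkConj (k / 126) (cdE7.cartI pairE7 (k / 126)) (reflE7 (k / 126)) (etaE7 (k / 126)) (k % 126))) = true := by decide +kernel
theorem e7Conj_3_846 : allRange 846 852 ((fun k => cdE7.checkConj (k / 126) (cdE7.cartI pairE7 (k / 126)) (reflE7 (k / 126)) (etaE7 (k / 126)) (k % 126))) = true := by decide +kernel
theorem e7Conj_3_852 : allRange 852 858 ((fun k => cdE7.checkConj (k / 126) (cdE7.cartI pairE7 (k / 126)) (reflE7 (k / 126)) (etaE7 (k / 126)) (k % 126))) = true := by decide +kernel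
theorem e7Conj_3_858 : allRange 858 864 ((fun k => cdE7.checkConj (k / 126) (cdE7.cartI pairE7 (k / 126)) (reflE7 (k / 126)) (etaE7 (k / 126)) (k % 126))) = true := by decide +kernel
theorem e7Conj_3_864 : allRange 864 870 ((fun k => cdE7.checkConj (k / 126) (cdE7.cartI pairE7 (k / 126)) (reflE7 (k / 126)) (etaE7 (k / 126)) (k % 126))) = true := by decide +kernel
theorem e7Conj_3_870 : allRange 870 876 ((fun k => cdE7.checkConj (k / 126) (cdE7.cartI pairE7 (k / 126)) (reflE7 (k / 126)) (etaE7 (k / 126)) (k % 126))) = true := by decide +kernel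
theorem e7Conj_3_876 : allRange 876 882 ((fun k => cdE7.checkConj (k / 126) (cdE7.cartI pairE7 (k / 126)) (reflE7 (k / 126)) (etaE7 (k / 126)) (k % 126))) = true := by decide +kernel

/-- Conjugation of root elements by the `n_p` of type E7 (roots 666 to 881). -/
theorem e7Conj_3 : ∀ r, 666 ≤ r → r < 882 → ((fun k => cdE7.checkConj (k / 126) (cdE7.cartI pairE7 (k / 126)) (reflE7 (k / 126)) (etaE7 (k / 126)) (k % 126))) r = true := by
  intro r h1 h2
  by_cases c0 : r < 672
  · exact allRange_spec e7Conj_3_666 r (by omega) c0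
  by_cases c1 : r < 678
  · exact allRange_spec e7Conj_3_672 r (by omega) c1
  by_cases c2 : r < 684
  · exact allRange_spec e7Conj_3_678 r (by omega) c2
  by_cases c3 : r < 690
  · exact allRange_spec e7Conj_3_684 r (by omega) c3
  by_cases c4 : r < 696
  · exact allRange_spec e7Conj_3_690 r (by omega) c4
  by_cases c5 : r < 702
  · exact allRange_spec e7Conj_3_696 r (by omega) c5
  by_cases c6 : r < 708
  · exact allRange_spec e7Conj_3_702 r (by omega) c6
  by_cases c7 : r < 714
  · exact allRange_spec e7Conj_3_708 r (by omega) c7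
  by_cases c8 : r < 720
  · exact allRange_spec e7Conj_3_714 r (by omega) c8
  by_cases c9 : r < 726
  · exact allRange_spec e7Conj_3_720 r (by omega) c9
  by_cases c10 : r < 732
  · exact allRange_spec e7Conj_3_726 r (by omega) c10
  by_cases c11 : r < 738
  · exact allRange_spec e7Conj_3_732 r (by omega) c11
  by_cases c12 : r < 744
  · exact allRange_spec e7Conj_3_738 r (by omega) c12
  by_cases c13 : r < 750
  · exact allRange_spec e7Conj_3_744 r (by omega) c13
  by_cases c14 : r < 756
  · exact allRange_spec e7Conj_3_750 r (by omega) c14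
  by_cases c15 : r < 762
  · exact allRange_spec e7Conj_3_756 r (by omega) c15
  by_cases c16 : r < 768
  · exact allRange_spec e7Conj_3_762 r (by omega) c16
  by_cases c17 : r < 774
  · exact allRange_spec e7Conj_3_768 r (by omega) c17
  by_cases c18 : r < 780
  · exact allRange_spec e7Conj_3_774 r (by omega) c18
  by_cases c19 : r < 786
  · exact allRange_spec e7Conj_3_780 r (by omega) c19
  by_cases c20 : r < 792
  · exact allRange_spec e7Conj_3_786 r (by omega) c20
  by_cases c21 : r < 798
  · exact allRange_spec e7Conj_3_792 r (by omega) c21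
  by_cases c22 : r < 804
  · exact allRange_spec e7Conj_3_798 r (by omega) c22
  by_cases c23 : r < 810
  · exact allRange_spec e7Conj_3_804 r (by omega) c23
  by_cases c24 : r < 816
  · exact allRange_spec e7Conj_3_810 r (by omega) c24
  by_cases c25 : r < 822
  · exact allRange_spec e7Conj_3_816 r (by omega) c25
  by_cases c26 : r < 828
  · exact allRange_spec e7Conj_3_822 r (by omega) c26
  by_cases c27 : r < 834
  · exact allRange_spec e7Conj_3_828 r (by omega) c27
  by_cases c28 : r < 840
  · exact allRange_spec e7Conj_3_834 r (by omega) c28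
  by_cases c29 : r < 846
  · exact allRange_spec e7Conj_3_840 r (by omega) c29
  by_cases c30 : r < 852
  · exact allRange_spec e7Conj_3_846 r (by omega) c30
  by_cases c31 : r < 858
  · exact allRange_spec e7Conj_3_852 r (by omega) c31
  by_cases c32 : r < 864
  · exact allRange_spec e7Conj_3_858 r (by omega) c32
  by_cases c33 : r < 870
  · exact allRange_spec e7Conj_3_864 r (by omega) c33
  by_cases c34 : r < 876
  · exact allRange_spec e7Conj_3_870 r (by omega) c34
  exact allRange_spec e7Conj_3_876 r (by omega) h2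

end Cfsg.Agent.Lib.Helper3.ChevM
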