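import Cfsg.Agent.Lib.Helper3.ChevData.E7ConjA
import Cfsg.Agent.Lib.Helper3.ChevData.E7ConjB
import Cfsg.Agent.Lib.Helper3.ChevData.E7ConjC
import Cfsg.Agent.Lib.Helper3.ChevData.E7ConjD
set_option autoImplicit false

namespace Cfsg.Agent.Lib.Helper3.ChevM

/-- Conjugation of root elements by the `n_p` of type E7. -/
theorem e7Conj : ∀ r < 882, ((fun k => cdE7.checkConj (k / 126) (cdE7.cartI pairE7 (k / 126)) (reflE7 (k / 126)) (etaE7 (k / 126)) (k % 126))) r = true := by
  intro r hr
  by_cases h0 : r < 222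
  · exact e7Conj_0 r (by omega) h0
  by_cases h1 : r < 444
  · exact e7Conj_1 r (by omega) h1
  by_cases h2 : r < 666
  · exact e7Conj_2 r (by omega) h2
  exact e7Conj_3 r (by omega) hr

end Cfsg.Agent.Lib.Helper3.ChevM
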