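import Cfsg.Agent.Lib.Helper3.ChevData.E7Datum
import Cfsg.Agent.Lib.Helper3.ChevData.E7Tabs
import Cfsg.Agent.Lib.Helper3.ChevM7
set_option autoImplicit false
set_option maxRecDepth 1000000
set_option Elab.async false

namespace Cfsg.Agent.Lib.Helper3.ChevM

theorem e7Dx_1_320 : allRange 320 328 ((fun k => cdE7.checkDX (cdE7.expo pairE7 (Cfsg.Lie.chevE7.simple (k / 126))) (pairE7 (Cfsg.Lie.chevE7.simple (k / 126)) (k % 126)) (k % 126))) = true := by decide +kernel
theorem e7Dx_1_328 : allRange 328 336 ((fun k => cdE7.checkDX (cdE7.expo pairE7 (Cfsg.Lie.chevE7.simple (k / 126))) (pairE7 (Cfsg.Lie.chevE7.simple (k / 126)) (k % 126)) (k % 126))) = true := by decide +kernel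
theorem e7Dx_1_336 : allRange 336 344 ((fun k => cdE7.checkDX (cdE7.expo pairE7 (Cfsg.Lie.chevE7.simple (k / 126))) (pairE7 (Cfsg.Lie.chevE7.simple (k / 126)) (k % 126)) (k % 126))) = true := by decide +kernel
theorem e7Dx_1_344 : allRange 344 352 ((fun k => cdE7.checkDX (cdE7.expo pairE7 (Cfsg.Lie.chevE7.simple (k / 126))) (pairE7 (Cfsg.Lie.chevE7.simple (k / 126)) (k % 126)) (k % 126))) = true := by decide +kernel
theorem e7Dx_1_352 : allRange 352 360 ((fun k => cdE7.checkDX (cdE7.expo pairE7 (Cfsg.Lie.chevE7.simple (k / 126))) (pairE7 (Cfsg.Lie.chevE7.simple (k / 126)) (k % 126)) (k % 126))) = true := by decide +kernel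
theorem e7Dx_1_360 : allRange 360 368 ((fun k => cdE7.checkDX (cdE7.expo pairE7 (Cfsg.Lie.chevE7.simple (k / 126))) (pairE7 (Cfsg.Lie.chevE7.simple (k / 126)) (k % 126)) (k % 126))) = true := by decide +kernel
theorem e7Dx_1_368 : allRange 368 376 ((fun k => cdE7.checkDX (cdE7.expo pairE7 (Cfsg.Lie.chevE7.simple (k / 126))) (pairE7 (Cfsg.Lie.chevE7.simple (k / 126)) (k % 126)) (k % 126))) = true := by decide +kernel
theorem e7Dx_1_376 : allRange 376 384 ((fun k => cdE7.checkDX (cdE7.expo pairE7 (Cfsg.Lie.chevE7.simple (k / 126))) (pairE7 (Cfsg.Lie.chevE7.simple (k / 126)) (k % 126)) (k % 126))) = true := by decide +kernel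
theorem e7Dx_1_384 : allRange 384 392 ((fun k => cdE7.checkDX (cdE7.expo pairE7 (Cfsg.Lie.chevE7.simple (k / 126))) (pairE7 (Cfsg.Lie.chevE7.simple (k / 126)) (k % 126)) (k % 126))) = true := by decide +kernel
theorem e7Dx_1_392 : allRange 392 400 ((fun k => cdE7.checkDX (cdE7.expo pairE7 (Cfsg.Lie.chevE7.simple (k / 126))) (pairE7 (Cfsg.Lie.chevE7.simple (k / 126)) (k % 126)) (k % 126))) = true := by decide +kernel
theorem e7Dx_1_400 : allRange 400 408 ((fun k => cdE7.checkDX (cdE7.expo pairE7 (Cfsg.Lie.chevE7.simple (k / 126))) (pairE7 (Cfsg.Lie.chevE7.simple (k / 126)) (k % 126)) (k % 126))) = true := by decide +kernel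
theorem e7Dx_1_408 : allRange 408 416 ((fun k => cdE7.checkDX (cdE7.expo pairE7 (Cfsg.Lie.chevE7.simple (k / 126))) (pairE7 (Cfsg.Lie.chevE7.simple (k / 126)) (k % 126)) (k % 126))) = true := by decide +kernel
theorem e7Dx_1_416 : allRange 416 424 ((fun k => cdE7.checkDX (cdE7.expo pairE7 (Cfsg.Lie.chevE7.simple (k / 126))) (pairE7 (Cfsg.Lie.chevE7.simple (k / 126)) (k % 126)) (k % 126))) = true := by decide +kernel
theorem e7Dx_1_424 : allRange 424 432 ((fun k => cdE7.checkDX (cdE7.expo pairE7 (Cfsg.Lie.chevE7.simple (k / 126))) (pairE7 (Cfsg.Lie.chevE7.simple (k / 126)) (k % 126)) (k % 126))) = true := by decide +kernel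
theorem e7Dx_1_432 : allRange 432 440 ((fun k => cdE7.checkDX (cdE7.expo pairE7 (Cfsg.Lie.chevE7.simple (k / 126))) (pairE7 (Cfsg.Lie.chevE7.simple (k / 126)) (k % 126)) (k % 126))) = true := by decide +kernel
theorem e7Dx_1_440 : allRange 440 448 ((fun k => cdE7.checkDX (cdE7.expo pairE7 (Cfsg.Lie.chevE7.simple (k / 126))) (pairE7 (Cfsg.Lie.chevE7.simple (k / 126)) (k % 126)) (k % 126))) = true := by decide +kernel
theorem e7Dx_1_448 : allRange 448 456 ((fun k => cdE7.checkDX (cdE7.expo pairE7 (Cfsg.Lie.chevE7.simple (k / 126))) (pairE7 (Cfsg.Lie.chevE7.simple (k / 126)) (k % 126)) (k % 126))) = true := by decide +kernel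
theorem e7Dx_1_456 : allRange 456 464 ((fun k => cdE7.checkDX (cdE7.expo pairE7 (Cfsg.Lie.chevE7.simple (k / 126))) (pairE7 (Cfsg.Lie.chevE7.simple (k / 126)) (k % 126)) (k % 126))) = true := by decide +kernel
theorem e7Dx_1_464 : allRange 464 472 ((fun k => cdE7.checkDX (cdE7.expo pairE7 (Cfsg.Lie.chevE7.simple (k / 126))) (pairE7 (Cfsg.Lie.chevE7.simple (k / 126)) (k % 126)) (k % 126))) = true := by decide +kernel
theorem e7Dx_1_472 : allRange 472 480 ((fun k => cdE7.checkDX (cdE7.expo pairE7 (Cfsg.Lie.chevE7.simple (k / 126))) (pairE7 (Cfsg.Lie.chevE7.simple (k / 126)) (k % 126)) (k % 126))) = true := by decide +kernel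
theorem e7Dx_1_480 : allRange 480 488 ((fun k => cdE7.checkDX (cdE7.expo pairE7 (Cfsg.Lie.chevE7.simple (k / 126))) (pairE7 (Cfsg.Lie.chevE7.simple (k / 126)) (k % 126)) (k % 126))) = true := by decide +kernel
theorem e7Dx_1_488 : allRange 488 496 ((fun k => cdE7.checkDX (cdE7.expo pairE7 (Cfsg.Lie.chevE7.simple (k / 126))) (pairE7 (Cfsg.Lie.chevE7.simple (k / 126)) (k % 126)) (k % 126))) = true := by decide +kernel
theorem e7Dx_1_496 : allRange 496 504 ((fun k => cdE7.checkDX (cdE7.expo pairE7 (Cfsg.Lie.chevE7.simple (k / 126))) (pairE7 (Cfsg.Lie.chevE7.simple (k / 126)) (k % 126)) (k % 126))) = true := by decide +kernel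
theorem e7Dx_1_504 : allRange 504 512 ((fun k => cdE7.checkDX (cdE7.expo pairE7 (Cfsg.Lie.chevE7.simple (k / 126))) (pairE7 (Cfsg.Lie.chevE7.simple (k / 126)) (k % 126)) (k % 126))) = true := by decide +kernel
theorem e7Dx_1_512 : allRange 512 520 ((fun k => cdE7.checkDX (cdE7.expo pairE7 (Cfsg.Lie.chevE7.simple (k / 126))) (pairE7 (Cfsg.Lie.chevE7.simple (k / 126)) (k % 126)) (k % 126))) = true := by decide +kernel
theorem e7Dx_1_520 : allRange 520 528 ((fun k => cdE7.checkDX (cdE7.expo pairE7 (Cfsg.Lie.chevE7.simple (k / 126))) (pairE7 (Cfsg.Lie.chevE7.simple (k / 126)) (k % 126)) (k % 126))) = true := by decide +kernel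
theorem e7Dx_1_528 : allRange 528 536 ((fun k => cdE7.checkDX (cdE7.expo pairE7 (Cfsg.Lie.chevE7.simple (k / 126))) (pairE7 (Cfsg.Lie.chevE7.simple (k / 126)) (k % 126)) (k % 126))) = true := by decide +kernel
theorem e7Dx_1_536 : allRange 536 544 ((fun k => cdE7.checkDX (cdE7.expo pairE7 (Cfsg.Lie.chevE7.simple (k / 126))) (pairE7 (Cfsg.Lie.chevE7.simple (k / 126)) (k % 126)) (k % 126))) = true := by decide +kernel
theorem e7Dx_1_544 : allRange 544 552 ((fun k => cdE7.checkDX (cdE7.expo pairE7 (Cfsg.Lie.chevE7.simple (k / 126))) (pairE7 (Cfsg.Lie.chevE7.simple (k / 126)) (k % 126)) (k % 126))) = true := by decide +kernel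
theorem e7Dx_1_552 : allRange 552 560 ((fun k => cdE7.checkDX (cdE7.expo pairE7 (Cfsg.Lie.chevE7.simple (k / 126))) (pairE7 (Cfsg.Lie.chevE7.simple (k / 126)) (k % 126)) (k % 126))) = true := by decide +kernel
theorem e7Dx_1_560 : allRange 560 568 ((fun k => cdE7.checkDX (cdE7.expo pairE7 (Cfsg.Lie.chevE7.simple (k / 126))) (pairE7 (Cfsg.Lie.chevE7.simple (k / 126)) (k % 126)) (k % 126))) = true := by decide +kernel
theorem e7Dx_1_568 : allRange 568 576 ((fun k => cdE7.checkDX (cdE7.expo pairE7 (Cfsg.Lie.chevE7.simple (k / 126))) (pairE7 (Cfsg.Lie.chevE7.simple (k / 126)) (k % 126)) (k % 126))) = true := by decide +kernel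
theorem e7Dx_1_576 : allRange 576 584 ((fun k => cdE7.checkDX (cdE7.expo pairE7 (Cfsg.Lie.chevE7.simple (k / 126))) (pairE7 (Cfsg.Lie.chevE7.simple (k / 126)) (k % 126)) (k % 126))) = true := by decide +kernel
theorem e7Dx_1_584 : allRange 584 592 ((fun k => cdE7.checkDX (cdE7.expo pairE7 (Cfsg.Lie.chevE7.simple (k / 126))) (pairE7 (Cfsg.Lie.chevE7.simple (k / 126)) (k % 126)) (k % 126))) = true := by decide +kernel
theorem e7Dx_1_592 : allRange 592 600 ((fun k => cdE7.checkDX (cdE7.expo pairE7 (Cfsg.Lie.chevE7.simple (k / 126))) (pairE7 (Cfsg.Lie.chevE7.simple (k / 126)) (k % 126)) (k % 126))) = true := by decide +kernel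
theorem e7Dx_1_600 : allRange 600 608 ((fun k => cdE7.checkDX (cdE7.expo pairE7 (Cfsg.Lie.chevE7.simple (k / 126))) (pairE7 (Cfsg.Lie.chevE7.simple (k / 126)) (k % 126)) (k % 126))) = true := by decide +kernel
theorem e7Dx_1_608 : allRange 608 616 ((fun k => cdE7.checkDX (cdE7.expo pairE7 (Cfsg.Lie.chevE7.simple (k / 126))) (pairE7 (Cfsg.Lie.chevE7.simple (k / 126)) (k % 126)) (k % 126))) = true := by decide +kernel
theorem e7Dx_1_616 : allRange 616 624 ((fun k => cdE7.checkDX (cdE7.expo pairE7 (Cfsg.Lie.chevE7.simple (k / 126))) (pairE7 (Cfsg.Lie.chevE7.simple (k / 126)) (k % 126)) (k % 126))) = true := by decide +kernel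
theorem e7Dx_1_624 : allRange 624 632 ((fun k => cdE7.checkDX (cdE7.expo pairE7 (Cfsg.Lie.chevE7.simple (k / 126))) (pairE7 (Cfsg.Lie.chevE7.simple (k / 126)) (k % 126)) (k % 126))) = true := by decide +kernel
theorem e7Dx_1_632 : allRange 632 640 ((fun k => cdE7.checkDX (cdE7.expo pairE7 (Cfsg.Lie.chevE7.simple (k / 126))) (pairE7 (Cfsg.Lie.chevE7.simple (k / 126)) (k % 126)) (k % 126))) = true := by decide +kernel

/-- Conjugation of root elements by the `h_p(c)` of type E7 (roots 320 to 639). -/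
theorem e7Dx_1 : ∀ r, 320 ≤ r → r < 640 → ((fun k => cdE7.checkDX (cdE7.expo pairE7 (Cfsg.Lie.chevE7.simple (k / 126))) (pairE7 (Cfsg.Lie.chevE7.simple (k / 126)) (k % 126)) (k % 126))) r = true := by
  intro r h1 h2
  by_cases c0 : r < 328
  · exact allRange_spec e7Dx_1_320 r (by omega) c0
  by_cases c1 : r < 336
  · exact allRange_spec e7Dx_1_328 r (by omega) c1
  by_cases c2 : r < 344
  · exact allRange_spec e7Dx_1_336 r (by omega) c2
  by_cases c3 : r < 352
  · exact allRange_spec e7Dx_1_344 r (by omega) c3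
  by_cases c4 : r < 360
  · exact allRange_spec e7Dx_1_352 r (by omega) c4
  by_cases c5 : r < 368
  · exact allRange_spec e7Dx_1_360 r (by omega) c5
  by_cases c6 : r < 376
  · exact allRange_spec e7Dx_1_368 r (by omega) c6
  by_cases c7 : r < 384
  · exact allRange_spec e7Dx_1_376 r (by omega) c7
  by_cases c8 : r < 392
  · exact allRange_spec e7Dx_1_384 r (by omega) c8
  by_cases c9 : r < 400
  · exact allRange_spec e7Dx_1_392 r (by omega) c9
  by_cases c10 : r < 408
  · exact allRange_spec e7Dx_1_400 r (by omega) c10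
  by_cases c11 : r < 416
  · exact allRange_spec e7Dx_1_408 r (by omega) c11
  by_cases c12 : r < 424
  · exact allRange_spec e7Dx_1_416 r (by omega) c12
  by_cases c13 : r < 432
  · exact allRange_spec e7Dx_1_424 r (by omega) c13
  by_cases c14 : r < 440
  · exact allRange_spec e7Dx_1_432 r (by omega) c14
  by_cases c15 : r < 448
  · exact allRange_spec e7Dx_1_440 r (by omega) c15
  by_cases c16 : r < 456
  · exact allRange_spec e7Dx_1_448 r (by omega) c16
  by_cases c17 : r < 464
  · exact allRange_spec e7Dx_1_456 r (by omega) c17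
  by_cases c18 : r < 472
  · exact allRange_spec e7Dx_1_464 r (by omega) c18
  by_cases c19 : r < 480
  · exact allRange_spec e7Dx_1_472 r (by omega) c19
  by_cases c20 : r < 488
  · exact allRange_spec e7Dx_1_480 r (by omega) c20
  by_cases c21 : r < 496
  · exact allRange_spec e7Dx_1_488 r (by omega) c21
  by_cases c22 : r < 504
  · exact allRange_spec e7Dx_1_496 r (by omega) c22
  by_cases c23 : r < 512
  · exact allRange_spec e7Dx_1_504 r (by omega) c23
  by_cases c24 : r < 520
  · exact allRange_spec e7Dx_1_512 r (by omega) c24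
  by_cases c25 : r < 528
  · exact allRange_spec e7Dx_1_520 r (by omega) c25
  by_cases c26 : r < 536
  · exact allRange_spec e7Dx_1_528 r (by omega) c26
  by_cases c27 : r < 544
  · exact allRange_spec e7Dx_1_536 r (by omega) c27
  by_cases c28 : r < 552
  · exact allRange_spec e7Dx_1_544 r (by omega) c28
  by_cases c29 : r < 560
  · exact allRange_spec e7Dx_1_552 r (by omega) c29
  by_cases c30 : r < 568
  · exact allRange_spec e7Dx_1_560 r (by omega) c30
  by_cases c31 : r < 576
  · exact allRange_spec e7Dx_1_568 r (by omega) c31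
  by_cases c32 : r < 584
  · exact allRange_spec e7Dx_1_576 r (by omega) c32
  by_cases c33 : r < 592
  · exact allRange_spec e7Dx_1_584 r (by omega) c33
  by_cases c34 : r < 600
  · exact allRange_spec e7Dx_1_592 r (by omega) c34
  by_cases c35 : r < 608
  · exact allRange_spec e7Dx_1_600 r (by omega) c35
  by_cases c36 : r < 616
  · exact allRange_spec e7Dx_1_608 r (by omega) c36
  by_cases c37 : r < 624
  · exact allRange_spec e7Dx_1_616 r (by omega) c37
  by_cases c38 : r < 632
  · exact allRange_spec e7Dx_1_624 r (by omega) c38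
  exact allRange_spec e7Dx_1_632 r (by omega) h2

end Cfsg.Agent.Lib.Helper3.ChevM
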