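import Cfsg.Agent.Lib.Helper3.ChevData.E7Datum
import Cfsg.Agent.Lib.Helper3.ChevData.E7Tabs
import Cfsg.Agent.Lib.Helper3.ChevM7
set_option autoImplicit false
set_option maxRecDepth 1000000
set_option Elab.async false

namespace Cfsg.Agent.Lib.Helper3.ChevM

theorem e7Dx_2_640 : allRange 640 648 ((fun k => cdE7.checkDX (cdE7.expo pairE7 (Cfsg.Lie.chevE7.simple (k / 126))) (pairE7 (Cfsg.Lie.chevE7.simple (k / 126)) (k % 126)) (k % 126))) = true := by decide +kernel
theorem e7Dx_2_648 : allRange 648 656 ((fun k => cdE7.checkDX (cdE7.expo pairE7 (Cfsg.Lie.chevE7.simple (k / 126))) (pairE7 (Cfsg.Lie.chevE7.simple (k / 126)) (k % 126)) (k % 126))) = true := by decide +kernel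
theorem e7Dx_2_656 : allRange 656 664 ((fun k => cdE7.checkDX (cdE7.expo pairE7 (Cfsg.Lie.chevE7.simple (k / 126))) (pairE7 (Cfsg.Lie.chevE7.simple (k / 126)) (k % 126)) (k % 126))) = true := by decide +kernel
theorem e7Dx_2_664 : allRange 664 672 ((fun k => cdE7.checkDX (cdE7.expo pairE7 (Cfsg.Lie.chevE7.simple (k / 126))) (pairE7 (Cfsg.Lie.chevE7.simple (k / 126)) (k % 126)) (k % 126))) = true := by decide +kernel
theorem e7Dx_2_672 : allRange 672 680 ((fun k => cdE7.checkDX (cdE7.expo pairE7 (Cfsg.Lie.chevE7.simple (k / 126))) (pairE7 (Cfsg.Lie.chevE7.simple (k / 126)) (k % 126)) (k % 126))) = true := by decide +kernel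
theorem e7Dx_2_680 : allRange 680 688 ((fun k => cdE7.checkDX (cdE7.expo pairE7 (Cfsg.Lie.chevE7.simple (k / 126))) (pairE7 (Cfsg.Lie.chevE7.simple (k / 126)) (k % 126)) (k % 126))) = true := by decide +kernel
theorem e7Dx_2_688 : allRange 688 696 ((fun k => cdE7.checkDX (cdE7.expo pairE7 (Cfsg.Lie.chevE7.simple (k / 126))) (pairE7 (Cfsg.Lie.chevE7.simple (k / 126)) (k % 126)) (k % 126))) = true := by decide +kernel
theorem e7Dx_2_696 : allRange 696 704 ((fun k => cdE7.checkDX (cdE7.expo pairE7 (Cfsg.Lie.chevE7.simple (k / 126))) (pairE7 (Cfsg.Lie.chevE7.simple (k / 126)) (k % 126)) (k % 126))) = true := by decide +kernel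
theorem e7Dx_2_704 : allRange 704 712 ((fun k => cdE7.checkDX (cdE7.expo pairE7 (Cfsg.Lie.chevE7.simple (k / 126))) (pairE7 (Cfsg.Lie.chevE7.simple (k / 126)) (k % 126)) (k % 126))) = true := by decide +kernel
theorem e7Dx_2_712 : allRange 712 720 ((fun k => cdE7.checkDX (cdE7.expo pairE7 (Cfsg.Lie.chevE7.simple (k / 126))) (pairE7 (Cfsg.Lie.chevE7.simple (k / 126)) (k % 126)) (k % 126))) = true := by decide +kernel
theorem e7Dx_2_720 : allRange 720 728 ((fun k => cdE7.checkDX (cdE7.expo pairE7 (Cfsg.Lie.chevE7.simple (k / 126))) (pairE7 (Cfsg.Lie.chevE7.simple (k / 126)) (k % 126)) (k % 126))) = true := by decide +kernel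
theorem e7Dx_2_728 : allRange 728 736 ((fun k => cdE7.checkDX (cdE7.expo pairE7 (Cfsg.Lie.chevE7.simple (k / 126))) (pairE7 (Cfsg.Lie.chevE7.simple (k / 126)) (k % 126)) (k % 126))) = true := by decide +kernel
theorem e7Dx_2_736 : allRange 736 744 ((fun k => cdE7.checkDX (cdE7.expo pairE7 (Cfsg.Lie.chevE7.simple (k / 126))) (pairE7 (Cfsg.Lie.chevE7.simple (k / 126)) (k % 126)) (k % 126))) = true := by decide +kernel
theorem e7Dx_2_744 : allRange 744 752 ((fun k => cdE7.checkDX (cdE7.expo pairE7 (Cfsg.Lie.chevE7.simple (k / 126))) (pairE7 (Cfsg.Lie.chevE7.simple (k / 126)) (k % 126)) (k % 126))) = true := by decide +kernel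
theorem e7Dx_2_752 : allRange 752 760 ((fun k => cdE7.checkDX (cdE7.expo pairE7 (Cfsg.Lie.chevE7.simple (k / 126))) (pairE7 (Cfsg.Lie.chevE7.simple (k / 126)) (k % 126)) (k % 126))) = true := by decide +kernel
theorem e7Dx_2_760 : allRange 760 768 ((fun k => cdE7.checkDX (cdE7.expo pairE7 (Cfsg.Lie.chevE7.simple (k / 126))) (pairE7 (Cfsg.Lie.chevE7.simple (k / 126)) (k % 126)) (k % 126))) = true := by decide +kernel
theorem e7Dx_2_768 : allRange 768 776 ((fun k => cdE7.checkDX (cdE7.expo pairE7 (Cfsg.Lie.chevE7.simple (k / 126))) (pairE7 (Cfsg.Lie.chevE7.simple (k / 126)) (k % 126)) (k % 126))) = true := by decide +kernel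
theorem e7Dx_2_776 : allRange 776 784 ((fun k => cdE7.checkDX (cdE7.expo pairE7 (Cfsg.Lie.chevE7.simple (k / 126))) (pairE7 (Cfsg.Lie.chevE7.simple (k / 126)) (k % 126)) (k % 126))) = true := by decide +kernel
theorem e7Dx_2_784 : allRange 784 792 ((fun k => cdE7.checkDX (cdE7.expo pairE7 (Cfsg.Lie.chevE7.simple (k / 126))) (pairE7 (Cfsg.Lie.chevE7.simple (k / 126)) (k % 126)) (k % 126))) = true := by decide +kernel
theorem e7Dx_2_792 : allRange 792 800 ((fun k => cdE7.checkDX (cdE7.expo pairE7 (Cfsg.Lie.chevE7.simple (k / 126))) (pairE7 (Cfsg.Lie.chevE7.simple (k / 126)) (k % 126)) (k % 126))) = true := by decide +kernel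
theorem e7Dx_2_800 : allRange 800 808 ((fun k => cdE7.checkDX (cdE7.expo pairE7 (Cfsg.Lie.chevE7.simple (k / 126))) (pairE7 (Cfsg.Lie.chevE7.simple (k / 126)) (k % 126)) (k % 126))) = true := by decide +kernel
theorem e7Dx_2_808 : allRange 808 816 ((fun k => cdE7.checkDX (cdE7.expo pairE7 (Cfsg.Lie.chevE7.simple (k / 126))) (pairE7 (Cfsg.Lie.chevE7.simple (k / 126)) (k % 126)) (k % 126))) = true := by decide +kernel
theorem e7Dx_2_816 : allRange 816 824 ((fun k => cdE7.checkDX (cdE7.expo pairE7 (Cfsg.Lie.chevE7.simple (k / 126))) (pairE7 (Cfsg.Lie.chevE7.simple (k / 126)) (k % 126)) (k % 126))) = true := by decide +kernel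
theorem e7Dx_2_824 : allRange 824 832 ((fun k => cdE7.checkDX (cdE7.expo pairE7 (Cfsg.Lie.chevE7.simple (k / 126))) (pairE7 (Cfsg.Lie.chevE7.simple (k / 126)) (k % 126)) (k % 126))) = true := by decide +kernel
theorem e7Dx_2_832 : allRange 832 840 ((fun k => cdE7.checkDX (cdE7.expo pairE7 (Cfsg.Lie.chevE7.simple (k / 126))) (pairE7 (Cfsg.Lie.chevE7.simple (k / 126)) (k % 126)) (k % 126))) = true := by decide +kernel
theorem e7Dx_2_840 : allRange 840 848 ((fun k => cdE7.checkDX (cdE7.expo pairE7 (Cfsg.Lie.chevE7.simple (k / 126))) (pairE7 (Cfsg.Lie.chevE7.simple (k / 126)) (k % 126)) (k % 126))) = true := by decide +kernel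
theorem e7Dx_2_848 : allRange 848 856 ((fun k => cdE7.checkDX (cdE7.expo pairE7 (Cfsg.Lie.chevE7.simple (k / 126))) (pairE7 (Cfsg.Lie.chevE7.simple (k / 126)) (k % 126)) (k % 126))) = true := by decide +kernel
theorem e7Dx_2_856 : allRange 856 864 ((fun k => cdE7.checkDX (cdE7.expo pairE7 (Cfsg.Lie.chevE7.simple (k / 126))) (pairE7 (Cfsg.Lie.chevE7.simple (k / 126)) (k % 126)) (k % 126))) = true := by decide +kernel
theorem e7Dx_2_864 : allRange 864 872 ((fun k => cdE7.checkDX (cdE7.expo pairE7 (Cfsg.Lie.chevE7.simple (k / 126))) (pairE7 (Cfsg.Lie.chevE7.simple (k / 126)) (k % 126)) (k % 126))) = true := by decide +kernel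
theorem e7Dx_2_872 : allRange 872 880 ((fun k => cdE7.checkDX (cdE7.expo pairE7 (Cfsg.Lie.chevE7.simple (k / 126))) (pairE7 (Cfsg.Lie.chevE7.simple (k / 126)) (k % 126)) (k % 126))) = true := by decide +kernel
theorem e7Dx_2_880 : allRange 880 882 ((fun k => cdE7.checkDX (cdE7.expo pairE7 (Cfsg.Lie.chevE7.simple (k / 126))) (pairE7 (Cfsg.Lie.chevE7.simple (k / 126)) (k % 126)) (k % 126))) = true := by decide +kernel

/-- Conjugation of root elements by the `h_p(c)` of type E7 (roots 640 to 881). -/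
theorem e7Dx_2 : ∀ r, 640 ≤ r → r < 882 → ((fun k => cdE7.checkDX (cdE7.expo pairE7 (Cfsg.Lie.chevE7.simple (k / 126))) (pairE7 (Cfsg.Lie.chevE7.simple (k / 126)) (k % 126)) (k % 126))) r = true := by
  intro r h1 h2
  by_cases c0 : r < 648
  · exact allRange_spec e7Dx_2_640 r (by omega) c0
  by_cases c1 : r < 656
  · exact allRange_spec e7Dx_2_648 r (by omega) c1
  by_cases c2 : r < 664
  · exact allRange_spec e7Dx_2_656 r (by omega) c2
  by_cases c3 : r < 672
  · exact allRange_spec e7Dx_2_664 r (by omega) c3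
  by_cases c4 : r < 680
  · exact allRange_spec e7Dx_2_672 r (by omega) c4
  by_cases c5 : r < 688
  · exact allRange_spec e7Dx_2_680 r (by omega) c5
  by_cases c6 : r < 696
  · exact allRange_spec e7Dx_2_688 r (by omega) c6
  by_cases c7 : r < 704
  · exact allRange_spec e7Dx_2_696 r (by omega) c7
  by_cases c8 : r < 712
  · exact allRange_spec e7Dx_2_704 r (by omega) c8
  by_cases c9 : r < 720
  · exact allRange_spec e7Dx_2_712 r (by omega) c9
  by_cases c10 : r < 728
  · exact allRange_spec e7Dx_2_720 r (by omega) c10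
  by_cases c11 : r < 736
  · exact allRange_spec e7Dx_2_728 r (by omega) c11
  by_cases c12 : r < 744
  · exact allRange_spec e7Dx_2_736 r (by omega) c12
  by_cases c13 : r < 752
  · exact allRange_spec e7Dx_2_744 r (by omega) c13
  by_cases c14 : r < 760
  · exact allRange_spec e7Dx_2_752 r (by omega) c14
  by_cases c15 : r < 768
  · exact allRange_spec e7Dx_2_760 r (by omega) c15
  by_cases c16 : r < 776
  · exact allRange_spec e7Dx_2_768 r (by omega) c16
  by_cases c17 : r < 784
  · exact allRange_spec e7Dx_2_776 r (by omega) c17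
  by_cases c18 : r < 792
  · exact allRange_spec e7Dx_2_784 r (by omega) c18
  by_cases c19 : r < 800
  · exact allRange_spec e7Dx_2_792 r (by omega) c19
  by_cases c20 : r < 808
  · exact allRange_spec e7Dx_2_800 r (by omega) c20
  by_cases c21 : r < 816
  · exact allRange_spec e7Dx_2_808 r (by omega) c21
  by_cases c22 : r < 824
  · exact allRange_spec e7Dx_2_816 r (by omega) c22
  by_cases c23 : r < 832
  · exact allRange_spec e7Dx_2_824 r (by omega) c23
  by_cases c24 : r < 840
  · exact allRange_spec e7Dx_2_832 r (by omega) c24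
  by_cases c25 : r < 848
  · exact allRange_spec e7Dx_2_840 r (by omega) c25
  by_cases c26 : r < 856
  · exact allRange_spec e7Dx_2_848 r (by omega) c26
  by_cases c27 : r < 864
  · exact allRange_spec e7Dx_2_856 r (by omega) c27
  by_cases c28 : r < 872
  · exact allRange_spec e7Dx_2_864 r (by omega) c28
  by_cases c29 : r < 880
  · exact allRange_spec e7Dx_2_872 r (by omega) c29
  exact allRange_spec e7Dx_2_880 r (by omega) h2

end Cfsg.Agent.Lib.Helper3.ChevM
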