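import Cfsg.Agent.Lib.Helper3.ChevData.E7DxA
import Cfsg.Agent.Lib.Helper3.ChevData.E7DxB
import Cfsg.Agent.Lib.Helper3.ChevData.E7DxC
set_option autoImplicit false

namespace Cfsg.Agent.Lib.Helper3.ChevM

/-- Conjugation of root elements by the `h_p(c)` of type E7. -/
theorem e7Dx : ∀ r < 882, ((fun k => cdE7.checkDX (cdE7.expo pairE7 (Cfsg.Lie.chevE7.simple (k / 126))) (pairE7 (Cfsg.Lie.chevE7.simple (k / 126)) (k % 126)) (k % 126))) r = true := by
  intro r hr
  by_cases h0 : r < 320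
  · exact e7Dx_0 r (by omega) h0
  by_cases h1 : r < 640
  · exact e7Dx_1 r (by omega) h1
  exact e7Dx_2 r (by omega) hr

end Cfsg.Agent.Lib.Helper3.ChevM
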