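import Cfsg.Agent.Lib.Helper3.ChevData.E7HdA
import Cfsg.Agent.Lib.Helper3.ChevData.E7HdB
set_option autoImplicit false

namespace Cfsg.Agent.Lib.Helper3.ChevM

/-- Diagonal form of the `h_r(c)` of type E7. -/
theorem e7Hd : ∀ r < 126, ((fun r => cdE7.checkHDiag r (cdE7.expo pairE7 r))) r = true := by
  intro r hr
  by_cases h0 : r < 74
  · exact e7Hd_0 r (by omega) h0
  exact e7Hd_1 r (by omega) hr

end Cfsg.Agent.Lib.Helper3.ChevM
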