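import Cfsg.Agent.Lib.Helper3.ChevData.E7NdA
set_option autoImplicit false

namespace Cfsg.Agent.Lib.Helper3.ChevM

/-- Conjugation of the `h_p(c)` by the `n_p` of type E7. -/
theorem e7Nd : ∀ r < 49, ((fun k => cdE7.checkND (k / 7) (cdE7.cartI pairE7 (k / 7)) (reflE7 (k / 7)) (etaE7 (k / 7)) (cdE7.expo pairE7 (Cfsg.Lie.chevE7.simple (k % 7))) (cdE7.expo pairE7 (reflE7 (k / 7) (Cfsg.Lie.chevE7.simple (k % 7)))))) r = true := by
  intro r hr
  exact e7Nd_0 r (by omega) hr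

end Cfsg.Agent.Lib.Helper3.ChevM
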