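import Cfsg.Agent.Lib.Helper3.ChevData.E7TabA
set_option autoImplicit false

namespace Cfsg.Agent.Lib.Helper3.ChevM

/-- Compiled tables of type E7. -/
theorem e7Tab : ∀ r < 882, ((fun k => tabCheck Cfsg.Lie.chevE7 pairE7 reflE7 (k / 126) (k % 126))) r = true := by
  intro r hr
  exact e7Tab_0 r (by omega) hr

end Cfsg.Agent.Lib.Helper3.ChevM
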