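import Cfsg.Agent.Lib.Helper3.ChevData.E7Add
import Cfsg.Agent.Lib.Helper3.ChevData.E7Hd
import Cfsg.Agent.Lib.Helper3.ChevData.E7Tab
import Cfsg.Agent.Lib.Helper3.ChevData.E7Eta
import Cfsg.Agent.Lib.Helper3.ChevData.E7Nchk
import Cfsg.Agent.Lib.Helper3.ChevData.E7Conj
import Cfsg.Agent.Lib.Helper3.ChevData.E7Dx
import Cfsg.Agent.Lib.Helper3.ChevData.E7Nd
set_option autoImplicit false
set_option maxRecDepth 1000000

namespace Cfsg.Agent.Lib.Helper3.ChevM

/-- The relation data of type E7. -/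
def relE7 : RelData cdE7 where
  pair := pairE7
  refl := reflE7
  eta := etaE7
  neg_lt := by decide +kernel
  simple_lt := by decide +kernel
  tab := of_pairRange (m := 7) (n := 126) e7Tab
  etaOk := of_pairRange (m := 7) (n := 126) e7Eta
  etaSimple := by decide +kernel
  add := e7Add
  hdiag := e7Hd
  nchk := e7Nchk
  conj := of_pairRange (m := 7) (n := 126) e7Conj
  dx := of_pairRange (m := 7) (n := 126) e7Dx
  nd := of_pairRange (m := 7) (n := 7) e7Nd

end Cfsg.Agent.Lib.Helper3.ChevM
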