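import Cfsg.Agent.Lib.Helper3.ChevData.E7Wt
import Cfsg.Agent.Lib.Helper3.ChevData.E7Vs
import Cfsg.Agent.Lib.Helper3.ChevData.E7Cv
import Cfsg.Agent.Lib.Helper3.ChevData.E7Sc
import Cfsg.Agent.Lib.Helper3.ChevData.E7Srwc
import Cfsg.Agent.Lib.Helper3.ChevData.E7Sign
import Cfsg.Agent.Lib.Helper3.ChevData.E7Hdec
import Cfsg.Agent.Lib.Helper3.ChevData.E7Rel
set_option autoImplicit false

namespace Cfsg.Agent.Lib.Helper3.ChevM

/-- The table checks for the Levi decomposition, type E7. -/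
def leviE7 : LeviHyp cdE7 relE7 where
  vec := vecE7
  wt := e7Wt
  vs := e7Vs
  cv := of_pairRange (m := 126) (n := 126) e7Cv
  sc := e7Sc
  rw := srwE7
  hrw := e7Srwc
  sign := e7Sign
  dec := of_pairRange (m := 126) (n := 126) e7Hdec

end Cfsg.Agent.Lib.Helper3.ChevM
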