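import Cfsg.Prelude.Def_ChevE8
import Cfsg.Agent.Lib.Helper3.ChevData.E8Tabs
import Cfsg.Agent.Lib.Helper3.ChevG2
set_option autoImplicit false
set_option maxRecDepth 1000000
set_option Elab.async false

namespace Cfsg.Agent.Lib.Helper3.ChevM

theorem e8Hdec_1_27898 : allRange 27898 28652 ((fun k => hdecCheck Cfsg.Lie.chevE8 pairE8 (k / 240) (k % 240))) = true := by decide +kernel
theorem e8Hdec_1_28652 : allRange 28652 29406 ((fun k => hdecCheck Cfsg.Lie.chevE8 pairE8 (k / 240) (k % 240))) = true := by decide +kernel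
theorem e8Hdec_1_29406 : allRange 29406 30160 ((fun k => hdecCheck Cfsg.Lie.chevE8 pairE8 (k / 240) (k % 240))) = true := by decide +kernel
theorem e8Hdec_1_30160 : allRange 30160 30914 ((fun k => hdecCheck Cfsg.Lie.chevE8 pairE8 (k / 240) (k % 240))) = true := by decide +kernel
theorem e8Hdec_1_30914 : allRange 30914 31668 ((fun k => hdecCheck Cfsg.Lie.chevE8 pairE8 (k / 240) (k % 240))) = true := by decide +kernel
theorem e8Hdec_1_31668 : allRange 31668 32422 ((fun k => hdecCheck Cfsg.Lie.chevE8 pairE8 (k / 240) (k % 240))) = true := by decide +kernel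
theorem e8Hdec_1_32422 : allRange 32422 33176 ((fun k => hdecCheck Cfsg.Lie.chevE8 pairE8 (k / 240) (k % 240))) = true := by decide +kernel
theorem e8Hdec_1_33176 : allRange 33176 33930 ((fun k => hdecCheck Cfsg.Lie.chevE8 pairE8 (k / 240) (k % 240))) = true := by decide +kernel
theorem e8Hdec_1_33930 : allRange 33930 34684 ((fun k => hdecCheck Cfsg.Lie.chevE8 pairE8 (k / 240) (k % 240))) = true := by decide +kernel
theorem e8Hdec_1_34684 : allRange 34684 35438 ((fun k => hdecCheck Cfsg.Lie.chevE8 pairE8 (k / 240) (k % 240))) = true := by decide +kernel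
theorem e8Hdec_1_35438 : allRange 35438 36192 ((fun k => hdecCheck Cfsg.Lie.chevE8 pairE8 (k / 240) (k % 240))) = true := by decide +kernel
theorem e8Hdec_1_36192 : allRange 36192 36946 ((fun k => hdecCheck Cfsg.Lie.chevE8 pairE8 (k / 240) (k % 240))) = true := by decide +kernel
theorem e8Hdec_1_36946 : allRange 36946 37700 ((fun k => hdecCheck Cfsg.Lie.chevE8 pairE8 (k / 240) (k % 240))) = true := by decide +kernel
theorem e8Hdec_1_37700 : allRange 37700 38454 ((fun k => hdecCheck Cfsg.Lie.chevE8 pairE8 (k / 240) (k % 240))) = true := by decide +kernel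
theorem e8Hdec_1_38454 : allRange 38454 39208 ((fun k => hdecCheck Cfsg.Lie.chevE8 pairE8 (k / 240) (k % 240))) = true := by decide +kernel
theorem e8Hdec_1_39208 : allRange 39208 39962 ((fun k => hdecCheck Cfsg.Lie.chevE8 pairE8 (k / 240) (k % 240))) = true := by decide +kernel
theorem e8Hdec_1_39962 : allRange 39962 40716 ((fun k => hdecCheck Cfsg.Lie.chevE8 pairE8 (k / 240) (k % 240))) = true := by decide +kernel
theorem e8Hdec_1_40716 : allRange 40716 41470 ((fun k => hdecCheck Cfsg.Lie.chevE8 pairE8 (k / 240) (k % 240))) = true := by decide +kernel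
theorem e8Hdec_1_41470 : allRange 41470 42224 ((fun k => hdecCheck Cfsg.Lie.chevE8 pairE8 (k / 240) (k % 240))) = true := by decide +kernel
theorem e8Hdec_1_42224 : allRange 42224 42978 ((fun k => hdecCheck Cfsg.Lie.chevE8 pairE8 (k / 240) (k % 240))) = true := by decide +kernel
theorem e8Hdec_1_42978 : allRange 42978 43732 ((fun k => hdecCheck Cfsg.Lie.chevE8 pairE8 (k / 240) (k % 240))) = true := by decide +kernel
theorem e8Hdec_1_43732 : allRange 43732 44486 ((fun k => hdecCheck Cfsg.Lie.chevE8 pairE8 (k / 240) (k % 240))) = true := by decide +kernel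
theorem e8Hdec_1_44486 : allRange 44486 45240 ((fun k => hdecCheck Cfsg.Lie.chevE8 pairE8 (k / 240) (k % 240))) = true := by decide +kernel
theorem e8Hdec_1_45240 : allRange 45240 45994 ((fun k => hdecCheck Cfsg.Lie.chevE8 pairE8 (k / 240) (k % 240))) = true := by decide +kernel
theorem e8Hdec_1_45994 : allRange 45994 46748 ((fun k => hdecCheck Cfsg.Lie.chevE8 pairE8 (k / 240) (k % 240))) = true := by decide +kernel
theorem e8Hdec_1_46748 : allRange 46748 47502 ((fun k => hdecCheck Cfsg.Lie.chevE8 pairE8 (k / 240) (k % 240))) = true := by decide +kernel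
theorem e8Hdec_1_47502 : allRange 47502 48256 ((fun k => hdecCheck Cfsg.Lie.chevE8 pairE8 (k / 240) (k % 240))) = true := by decide +kernel
theorem e8Hdec_1_48256 : allRange 48256 49010 ((fun k => hdecCheck Cfsg.Lie.chevE8 pairE8 (k / 240) (k % 240))) = true := by decide +kernel
theorem e8Hdec_1_49010 : allRange 49010 49764 ((fun k => hdecCheck Cfsg.Lie.chevE8 pairE8 (k / 240) (k % 240))) = true := by decide +kernel
theorem e8Hdec_1_49764 : allRange 49764 50518 ((fun k => hdecCheck Cfsg.Lie.chevE8 pairE8 (k / 240) (k % 240))) = true := by decide +kernel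
theorem e8Hdec_1_50518 : allRange 50518 51272 ((fun k => hdecCheck Cfsg.Lie.chevE8 pairE8 (k / 240) (k % 240))) = true := by decide +kernel
theorem e8Hdec_1_51272 : allRange 51272 52026 ((fun k => hdecCheck Cfsg.Lie.chevE8 pairE8 (k / 240) (k % 240))) = true := by decide +kernel
theorem e8Hdec_1_52026 : allRange 52026 52780 ((fun k => hdecCheck Cfsg.Lie.chevE8 pairE8 (k / 240) (k % 240))) = true := by decide +kernel
theorem e8Hdec_1_52780 : allRange 52780 53534 ((fun k => hdecCheck Cfsg.Lie.chevE8 pairE8 (k / 240) (k % 240))) = true := by decide +kernel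
theorem e8Hdec_1_53534 : allRange 53534 54288 ((fun k => hdecCheck Cfsg.Lie.chevE8 pairE8 (k / 240) (k % 240))) = true := by decide +kernel
theorem e8Hdec_1_54288 : allRange 54288 55042 ((fun k => hdecCheck Cfsg.Lie.chevE8 pairE8 (k / 240) (k % 240))) = true := by decide +kernel
theorem e8Hdec_1_55042 : allRange 55042 55796 ((fun k => hdecCheck Cfsg.Lie.chevE8 pairE8 (k / 240) (k % 240))) = true := by decide +kernel

/-- Decomposition of the coroots along the fundamental coroots of type E8 (roots 27898 to 55795). -/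
theorem e8Hdec_1 : ∀ r, 27898 ≤ r → r < 55796 → ((fun k => hdecCheck Cfsg.Lie.chevE8 pairE8 (k / 240) (k % 240))) r = true := by
  intro r h1 h2
  by_cases c0 : r < 28652
  · exact allRange_spec e8Hdec_1_27898 r (by omega) c0
  by_cases c1 : r < 29406
  · exact allRange_spec e8Hdec_1_28652 r (by omega) c1
  by_cases c2 : r < 30160
  · exact allRange_spec e8Hdec_1_29406 r (by omega) c2
  by_cases c3 : r < 30914
  · exact allRange_spec e8Hdec_1_30160 r (by omega) c3
  by_cases c4 : r < 31668
  · exact allRange_spec e8Hdec_1_30914 r (by omega) c4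
  by_cases c5 : r < 32422
  · exact allRange_spec e8Hdec_1_31668 r (by omega) c5
  by_cases c6 : r < 33176
  · exact allRange_spec e8Hdec_1_32422 r (by omega) c6
  by_cases c7 : r < 33930
  · exact allRange_spec e8Hdec_1_33176 r (by omega) c7
  by_cases c8 : r < 34684
  · exact allRange_spec e8Hdec_1_33930 r (by omega) c8
  by_cases c9 : r < 35438
  · exact allRange_spec e8Hdec_1_34684 r (by omega) c9
  by_cases c10 : r < 36192
  · exact allRange_spec e8Hdec_1_35438 r (by omega) c10
  by_cases c11 : r < 36946
  · exact allRange_spec e8Hdec_1_36192 r (by omega) c11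
  by_cases c12 : r < 37700
  · exact allRange_spec e8Hdec_1_36946 r (by omega) c12
  by_cases c13 : r < 38454
  · exact allRange_spec e8Hdec_1_37700 r (by omega) c13
  by_cases c14 : r < 39208
  · exact allRange_spec e8Hdec_1_38454 r (by omega) c14
  by_cases c15 : r < 39962
  · exact allRange_spec e8Hdec_1_39208 r (by omega) c15
  by_cases c16 : r < 40716
  · exact allRange_spec e8Hdec_1_39962 r (by omega) c16
  by_cases c17 : r < 41470
  · exact allRange_spec e8Hdec_1_40716 r (by omega) c17
  by_cases c18 : r < 42224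
  · exact allRange_spec e8Hdec_1_41470 r (by omega) c18
  by_cases c19 : r < 42978
  · exact allRange_spec e8Hdec_1_42224 r (by omega) c19
  by_cases c20 : r < 43732
  · exact allRange_spec e8Hdec_1_42978 r (by omega) c20
  by_cases c21 : r < 44486
  · exact allRange_spec e8Hdec_1_43732 r (by omega) c21
  by_cases c22 : r < 45240
  · exact allRange_spec e8Hdec_1_44486 r (by omega) c22
  by_cases c23 : r < 45994
  · exact allRange_spec e8Hdec_1_45240 r (by omega) c23
  by_cases c24 : r < 46748
  · exact allRange_spec e8Hdec_1_45994 r (by omega) c24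
  by_cases c25 : r < 47502
  · exact allRange_spec e8Hdec_1_46748 r (by omega) c25
  by_cases c26 : r < 48256
  · exact allRange_spec e8Hdec_1_47502 r (by omega) c26
  by_cases c27 : r < 49010
  · exact allRange_spec e8Hdec_1_48256 r (by omega) c27
  by_cases c28 : r < 49764
  · exact allRange_spec e8Hdec_1_49010 r (by omega) c28
  by_cases c29 : r < 50518
  · exact allRange_spec e8Hdec_1_49764 r (by omega) c29
  by_cases c30 : r < 51272
  · exact allRange_spec e8Hdec_1_50518 r (by omega) c30
  by_cases c31 : r < 52026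
  · exact allRange_spec e8Hdec_1_51272 r (by omega) c31
  by_cases c32 : r < 52780
  · exact allRange_spec e8Hdec_1_52026 r (by omega) c32
  by_cases c33 : r < 53534
  · exact allRange_spec e8Hdec_1_52780 r (by omega) c33
  by_cases c34 : r < 54288
  · exact allRange_spec e8Hdec_1_53534 r (by omega) c34
  by_cases c35 : r < 55042
  · exact allRange_spec e8Hdec_1_54288 r (by omega) c35
  exact allRange_spec e8Hdec_1_55042 r (by omega) h2

end Cfsg.Agent.Lib.Helper3.ChevM
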