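import Cfsg.Prelude.Def_ChevE8
import Cfsg.Agent.Lib.Helper3.ChevData.E8Tabs
import Cfsg.Agent.Lib.Helper3.ChevG2
set_option autoImplicit false
set_option maxRecDepth 1000000
set_option Elab.async false

namespace Cfsg.Agent.Lib.Helper3.ChevM

theorem e8Hdec_2_55796 : allRange 55796 56550 ((fun k => hdecCheck Cfsg.Lie.chevE8 pairE8 (k / 240) (k % 240))) = true := by decide +kernel
theorem e8Hdec_2_56550 : allRange 56550 57304 ((fun k => hdecCheck Cfsg.Lie.chevE8 pairE8 (k / 240) (k % 240))) = true := by decide +kernel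
theorem e8Hdec_2_57304 : allRange 57304 57600 ((fun k => hdecCheck Cfsg.Lie.chevE8 pairE8 (k / 240) (k % 240))) = true := by decide +kernel

/-- Decomposition of the coroots along the fundamental coroots of type E8 (roots 55796 to 57599). -/
theorem e8Hdec_2 : ∀ r, 55796 ≤ r → r < 57600 → ((fun k => hdecCheck Cfsg.Lie.chevE8 pairE8 (k / 240) (k % 240))) r = true := by
  intro r h1 h2
  by_cases c0 : r < 56550
  · exact allRange_spec e8Hdec_2_55796 r (by omega) c0
  by_cases c1 : r < 57304
  · exact allRange_spec e8Hdec_2_56550 r (by omega) c1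
  exact allRange_spec e8Hdec_2_57304 r (by omega) h2

end Cfsg.Agent.Lib.Helper3.ChevM
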