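import Cfsg.Agent.Lib.Helper3.ChevData.E8HdecA
import Cfsg.Agent.Lib.Helper3.ChevData.E8HdecB
import Cfsg.Agent.Lib.Helper3.ChevData.E8HdecC
set_option autoImplicit false

namespace Cfsg.Agent.Lib.Helper3.ChevM

/-- Decomposition of the coroots along the fundamental coroots of type E8. -/
theorem e8Hdec : ∀ r < 57600, ((fun k => hdecCheck Cfsg.Lie.chevE8 pairE8 (k / 240) (k % 240))) r = true := by
  intro r hr
  by_cases h0 : r < 27898
  · exact e8Hdec_0 r (by omega) h0
  by_cases h1 : r < 55796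
  · exact e8Hdec_1 r (by omega) h1
  exact e8Hdec_2 r (by omega) hr

end Cfsg.Agent.Lib.Helper3.ChevM
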