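import Cfsg.Agent.Lib.Helper3.ChevData.E8NsA
set_option autoImplicit false

namespace Cfsg.Agent.Lib.Helper3.ChevM

/-- Signs of the fundamental roots of type E8 and their negatives. -/
theorem e8Ns : ∀ r < 8, ((fun i => negSimpleCheck Cfsg.Lie.chevE8 i)) r = true := by
  intro r hr
  exact e8Ns_0 r (by omega) hr

end Cfsg.Agent.Lib.Helper3.ChevM
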