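import Cfsg.Agent.Lib.Helper3.ChevData.E8TriA
set_option autoImplicit false

namespace Cfsg.Agent.Lib.Helper3.ChevM

/-- Triangularity of the positive root elements of type E8. -/
theorem e8Tri : ∀ r < 240, ((fun r => posTri cdE8 r)) r = true := by
  intro r hr
  exact e8Tri_0 r (by omega) hr

end Cfsg.Agent.Lib.Helper3.ChevM
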