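import Cfsg.Agent.Lib.Helper3.ChevData.E8Rel
import Cfsg.Agent.Lib.Helper3.ChevData.E8Tri
import Cfsg.Agent.Lib.Helper3.ChevData.E8ReflInv
import Cfsg.Agent.Lib.Helper3.ChevData.E8NegRefl
import Cfsg.Agent.Lib.Helper3.ChevData.E8Wp
import Cfsg.Agent.Lib.Helper3.ChevData.E8Ns
import Cfsg.Agent.Lib.Helper3.ChevData.E8Rwc
set_option autoImplicit false

namespace Cfsg.Agent.Lib.Helper3.ChevM

/-- The table checks for the monomial subgroup of type E8. -/
def monoE8 : MonoHyp cdE8 relE8 where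
  tri := e8Tri
  inv := of_pairRange (m := 8) (n := 240) e8ReflInv
  nr := of_pairRange (m := 8) (n := 240) e8NegRefl
  wp := of_pairRange (m := 8) (n := 240) e8Wp
  ns := e8Ns
  rw := rwE8
  rwc := e8Rwc

end Cfsg.Agent.Lib.Helper3.ChevM
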