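import Cfsg.Agent.Lib.Helper3.ChevData.E8Datum
import Cfsg.Agent.Lib.Helper3.ChevG1
set_option autoImplicit false
set_option maxRecDepth 1000000
set_option Elab.async false

namespace Cfsg.Agent.Lib.Helper3.ChevM

theorem e8NegConj_1_60 : allRange 60 61 ((fun r => cdE8.checkNegConj r)) = true := by decide +kernel
theorem e8NegConj_1_61 : allRange 61 62 ((fun r => cdE8.checkNegConj r)) = true := by decide +kernel
theorem e8NegConj_1_62 : allRange 62 63 ((fun r => cdE8.checkNegConj r)) = true := by decide +kernel
theorem e8NegConj_1_63 : allRange 63 64 ((fun r => cdE8.checkNegConj r)) = true := by decide +kernel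
theorem e8NegConj_1_64 : allRange 64 65 ((fun r => cdE8.checkNegConj r)) = true := by decide +kernel
theorem e8NegConj_1_65 : allRange 65 66 ((fun r => cdE8.checkNegConj r)) = true := by decide +kernel
theorem e8NegConj_1_66 : allRange 66 67 ((fun r => cdE8.checkNegConj r)) = true := by decide +kernel
theorem e8NegConj_1_67 : allRange 67 68 ((fun r => cdE8.checkNegConj r)) = true := by decide +kernel
theorem e8NegConj_1_68 : allRange 68 69 ((fun r => cdE8.checkNegConj r)) = true := by decide +kernel
theorem e8NegConj_1_69 : allRange 69 70 ((fun r => cdE8.checkNegConj r)) = true := by decide +kernel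
theorem e8NegConj_1_70 : allRange 70 71 ((fun r => cdE8.checkNegConj r)) = true := by decide +kernel
theorem e8NegConj_1_71 : allRange 71 72 ((fun r => cdE8.checkNegConj r)) = true := by decide +kernel
theorem e8NegConj_1_72 : allRange 72 73 ((fun r => cdE8.checkNegConj r)) = true := by decide +kernel
theorem e8NegConj_1_73 : allRange 73 74 ((fun r => cdE8.checkNegConj r)) = true := by decide +kernel
theorem e8NegConj_1_74 : allRange 74 75 ((fun r => cdE8.checkNegConj r)) = true := by decide +kernel
theorem e8NegConj_1_75 : allRange 75 76 ((fun r => cdE8.checkNegConj r)) = true := by decide +kernel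
theorem e8NegConj_1_76 : allRange 76 77 ((fun r => cdE8.checkNegConj r)) = true := by decide +kernel
theorem e8NegConj_1_77 : allRange 77 78 ((fun r => cdE8.checkNegConj r)) = true := by decide +kernel
theorem e8NegConj_1_78 : allRange 78 79 ((fun r => cdE8.checkNegConj r)) = true := by decide +kernel
theorem e8NegConj_1_79 : allRange 79 80 ((fun r => cdE8.checkNegConj r)) = true := by decide +kernel
theorem e8NegConj_1_80 : allRange 80 81 ((fun r => cdE8.checkNegConj r)) = true := by decide +kernel
theorem e8NegConj_1_81 : allRange 81 82 ((fun r => cdE8.checkNegConj r)) = true := by decide +kernel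
theorem e8NegConj_1_82 : allRange 82 83 ((fun r => cdE8.checkNegConj r)) = true := by decide +kernel
theorem e8NegConj_1_83 : allRange 83 84 ((fun r => cdE8.checkNegConj r)) = true := by decide +kernel
theorem e8NegConj_1_84 : allRange 84 85 ((fun r => cdE8.checkNegConj r)) = true := by decide +kernel
theorem e8NegConj_1_85 : allRange 85 86 ((fun r => cdE8.checkNegConj r)) = true := by decide +kernel
theorem e8NegConj_1_86 : allRange 86 87 ((fun r => cdE8.checkNegConj r)) = true := by decide +kernel
theorem e8NegConj_1_87 : allRange 87 88 ((fun r => cdE8.checkNegConj r)) = true := by decide +kernel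
theorem e8NegConj_1_88 : allRange 88 89 ((fun r => cdE8.checkNegConj r)) = true := by decide +kernel
theorem e8NegConj_1_89 : allRange 89 90 ((fun r => cdE8.checkNegConj r)) = true := by decide +kernel
theorem e8NegConj_1_90 : allRange 90 91 ((fun r => cdE8.checkNegConj r)) = true := by decide +kernel
theorem e8NegConj_1_91 : allRange 91 92 ((fun r => cdE8.checkNegConj r)) = true := by decide +kernel
theorem e8NegConj_1_92 : allRange 92 93 ((fun r => cdE8.checkNegConj r)) = true := by decide +kernel
theorem e8NegConj_1_93 : allRange 93 94 ((fun r => cdE8.checkNegConj r)) = true := by decide +kernel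
theorem e8NegConj_1_94 : allRange 94 95 ((fun r => cdE8.checkNegConj r)) = true := by decide +kernel
theorem e8NegConj_1_95 : allRange 95 96 ((fun r => cdE8.checkNegConj r)) = true := by decide +kernel
theorem e8NegConj_1_96 : allRange 96 97 ((fun r => cdE8.checkNegConj r)) = true := by decide +kernel
theorem e8NegConj_1_97 : allRange 97 98 ((fun r => cdE8.checkNegConj r)) = true := by decide +kernel
theorem e8NegConj_1_98 : allRange 98 99 ((fun r => cdE8.checkNegConj r)) = true := by decide +kernel
theorem e8NegConj_1_99 : allRange 99 100 ((fun r => cdE8.checkNegConj r)) = true := by decide +kernel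
theorem e8NegConj_1_100 : allRange 100 101 ((fun r => cdE8.checkNegConj r)) = true := by decide +kernel
theorem e8NegConj_1_101 : allRange 101 102 ((fun r => cdE8.checkNegConj r)) = true := by decide +kernel
theorem e8NegConj_1_102 : allRange 102 103 ((fun r => cdE8.checkNegConj r)) = true := by decide +kernel
theorem e8NegConj_1_103 : allRange 103 104 ((fun r => cdE8.checkNegConj r)) = true := by decide +kernel
theorem e8NegConj_1_104 : allRange 104 105 ((fun r => cdE8.checkNegConj r)) = true := by decide +kernel
theorem e8NegConj_1_105 : allRange 105 106 ((fun r => cdE8.checkNegConj r)) = true := by decide +kernel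
theorem e8NegConj_1_106 : allRange 106 107 ((fun r => cdE8.checkNegConj r)) = true := by decide +kernel
theorem e8NegConj_1_107 : allRange 107 108 ((fun r => cdE8.checkNegConj r)) = true := by decide +kernel
theorem e8NegConj_1_108 : allRange 108 109 ((fun r => cdE8.checkNegConj r)) = true := by decide +kernel
theorem e8NegConj_1_109 : allRange 109 110 ((fun r => cdE8.checkNegConj r)) = true := by decide +kernel
theorem e8NegConj_1_110 : allRange 110 111 ((fun r => cdE8.checkNegConj r)) = true := by decide +kernel
theorem e8NegConj_1_111 : allRange 111 112 ((fun r => cdE8.checkNegConj r)) = true := by decide +kernel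
theorem e8NegConj_1_112 : allRange 112 113 ((fun r => cdE8.checkNegConj r)) = true := by decide +kernel
theorem e8NegConj_1_113 : allRange 113 114 ((fun r => cdE8.checkNegConj r)) = true := by decide +kernel
theorem e8NegConj_1_114 : allRange 114 115 ((fun r => cdE8.checkNegConj r)) = true := by decide +kernel
theorem e8NegConj_1_115 : allRange 115 116 ((fun r => cdE8.checkNegConj r)) = true := by decide +kernel
theorem e8NegConj_1_116 : allRange 116 117 ((fun r => cdE8.checkNegConj r)) = true := by decide +kernel
theorem e8NegConj_1_117 : allRange 117 118 ((fun r => cdE8.checkNegConj r)) = true := by decide +kernel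
theorem e8NegConj_1_118 : allRange 118 119 ((fun r => cdE8.checkNegConj r)) = true := by decide +kernel
theorem e8NegConj_1_119 : allRange 119 120 ((fun r => cdE8.checkNegConj r)) = true := by decide +kernel

/-- Conjugation of `x_r(t)` by `n_r` of type E8 (roots 60 to 119). -/
theorem e8NegConj_1 : ∀ r, 60 ≤ r → r < 120 → ((fun r => cdE8.checkNegConj r)) r = true := by
  intro r h1 h2
  by_cases c0 : r < 61
  · exact allRange_spec e8NegConj_1_60 r (by omega) c0
  by_cases c1 : r < 62
  · exact allRange_spec e8NegConj_1_61 r (by omega) c1
  by_cases c2 : r < 63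
  · exact allRange_spec e8NegConj_1_62 r (by omega) c2
  by_cases c3 : r < 64
  · exact allRange_spec e8NegConj_1_63 r (by omega) c3
  by_cases c4 : r < 65
  · exact allRange_spec e8NegConj_1_64 r (by omega) c4
  by_cases c5 : r < 66
  · exact allRange_spec e8NegConj_1_65 r (by omega) c5
  by_cases c6 : r < 67
  · exact allRange_spec e8NegConj_1_66 r (by omega) c6
  by_cases c7 : r < 68
  · exact allRange_spec e8NegConj_1_67 r (by omega) c7
  by_cases c8 : r < 69
  · exact allRange_spec e8NegConj_1_68 r (by omega) c8
  by_cases c9 : r < 70
  · exact allRange_spec e8NegConj_1_69 r (by omega) c9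
  by_cases c10 : r < 71
  · exact allRange_spec e8NegConj_1_70 r (by omega) c10
  by_cases c11 : r < 72
  · exact allRange_spec e8NegConj_1_71 r (by omega) c11
  by_cases c12 : r < 73
  · exact allRange_spec e8NegConj_1_72 r (by omega) c12
  by_cases c13 : r < 74
  · exact allRange_spec e8NegConj_1_73 r (by omega) c13
  by_cases c14 : r < 75
  · exact allRange_spec e8NegConj_1_74 r (by omega) c14
  by_cases c15 : r < 76
  · exact allRange_spec e8NegConj_1_75 r (by omega) c15
  by_cases c16 : r < 77
  · exact allRange_spec e8NegConj_1_76 r (by omega) c16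
  by_cases c17 : r < 78
  · exact allRange_spec e8NegConj_1_77 r (by omega) c17
  by_cases c18 : r < 79
  · exact allRange_spec e8NegConj_1_78 r (by omega) c18
  by_cases c19 : r < 80
  · exact allRange_spec e8NegConj_1_79 r (by omega) c19
  by_cases c20 : r < 81
  · exact allRange_spec e8NegConj_1_80 r (by omega) c20
  by_cases c21 : r < 82
  · exact allRange_spec e8NegConj_1_81 r (by omega) c21
  by_cases c22 : r < 83
  · exact allRange_spec e8NegConj_1_82 r (by omega) c22
  by_cases c23 : r < 84
  · exact allRange_spec e8NegConj_1_83 r (by omega) c23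
  by_cases c24 : r < 85
  · exact allRange_spec e8NegConj_1_84 r (by omega) c24
  by_cases c25 : r < 86
  · exact allRange_spec e8NegConj_1_85 r (by omega) c25
  by_cases c26 : r < 87
  · exact allRange_spec e8NegConj_1_86 r (by omega) c26
  by_cases c27 : r < 88
  · exact allRange_spec e8NegConj_1_87 r (by omega) c27
  by_cases c28 : r < 89
  · exact allRange_spec e8NegConj_1_88 r (by omega) c28
  by_cases c29 : r < 90
  · exact allRange_spec e8NegConj_1_89 r (by omega) c29
  by_cases c30 : r < 91
  · exact allRange_spec e8NegConj_1_90 r (by omega) c30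
  by_cases c31 : r < 92
  · exact allRange_spec e8NegConj_1_91 r (by omega) c31
  by_cases c32 : r < 93
  · exact allRange_spec e8NegConj_1_92 r (by omega) c32
  by_cases c33 : r < 94
  · exact allRange_spec e8NegConj_1_93 r (by omega) c33
  by_cases c34 : r < 95
  · exact allRange_spec e8NegConj_1_94 r (by omega) c34
  by_cases c35 : r < 96
  · exact allRange_spec e8NegConj_1_95 r (by omega) c35
  by_cases c36 : r < 97
  · exact allRange_spec e8NegConj_1_96 r (by omega) c36
  by_cases c37 : r < 98
  · exact allRange_spec e8NegConj_1_97 r (by omega) c37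
  by_cases c38 : r < 99
  · exact allRange_spec e8NegConj_1_98 r (by omega) c38
  by_cases c39 : r < 100
  · exact allRange_spec e8NegConj_1_99 r (by omega) c39
  by_cases c40 : r < 101
  · exact allRange_spec e8NegConj_1_100 r (by omega) c40
  by_cases c41 : r < 102
  · exact allRange_spec e8NegConj_1_101 r (by omega) c41
  by_cases c42 : r < 103
  · exact allRange_spec e8NegConj_1_102 r (by omega) c42
  by_cases c43 : r < 104
  · exact allRange_spec e8NegConj_1_103 r (by omega) c43
  by_cases c44 : r < 105
  · exact allRange_spec e8NegConj_1_104 r (by omega) c44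
  by_cases c45 : r < 106
  · exact allRange_spec e8NegConj_1_105 r (by omega) c45
  by_cases c46 : r < 107
  · exact allRange_spec e8NegConj_1_106 r (by omega) c46
  by_cases c47 : r < 108
  · exact allRange_spec e8NegConj_1_107 r (by omega) c47
  by_cases c48 : r < 109
  · exact allRange_spec e8NegConj_1_108 r (by omega) c48
  by_cases c49 : r < 110
  · exact allRange_spec e8NegConj_1_109 r (by omega) c49
  by_cases c50 : r < 111
  · exact allRange_spec e8NegConj_1_110 r (by omega) c50
  by_cases c51 : r < 112
  · exact allRange_spec e8NegConj_1_111 r (by omega) c51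
  by_cases c52 : r < 113
  · exact allRange_spec e8NegConj_1_112 r (by omega) c52
  by_cases c53 : r < 114
  · exact allRange_spec e8NegConj_1_113 r (by omega) c53
  by_cases c54 : r < 115
  · exact allRange_spec e8NegConj_1_114 r (by omega) c54
  by_cases c55 : r < 116
  · exact allRange_spec e8NegConj_1_115 r (by omega) c55
  by_cases c56 : r < 117
  · exact allRange_spec e8NegConj_1_116 r (by omega) c56
  by_cases c57 : r < 118
  · exact allRange_spec e8NegConj_1_117 r (by omega) c57
  by_cases c58 : r < 119
  · exact allRange_spec e8NegConj_1_118 r (by omega) c58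
  exact allRange_spec e8NegConj_1_119 r (by omega) h2

end Cfsg.Agent.Lib.Helper3.ChevM
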