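import Cfsg.Agent.Lib.Helper3.ChevData.E8Datum
import Cfsg.Agent.Lib.Helper3.ChevG1
set_option autoImplicit false
set_option maxRecDepth 1000000
set_option Elab.async false

namespace Cfsg.Agent.Lib.Helper3.ChevM

theorem e8NegConj_2_120 : allRange 120 121 ((fun r => cdE8.checkNegConj r)) = true := by decide +kernel
theorem e8NegConj_2_121 : allRange 121 122 ((fun r => cdE8.checkNegConj r)) = true := by decide +kernel
theorem e8NegConj_2_122 : allRange 122 123 ((fun r => cdE8.checkNegConj r)) = true := by decide +kernel
theorem e8NegConj_2_123 : allRange 123 124 ((fun r => cdE8.checkNegConj r)) = true := by decide +kernel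
theorem e8NegConj_2_124 : allRange 124 125 ((fun r => cdE8.checkNegConj r)) = true := by decide +kernel
theorem e8NegConj_2_125 : allRange 125 126 ((fun r => cdE8.checkNegConj r)) = true := by decide +kernel
theorem e8NegConj_2_126 : allRange 126 127 ((fun r => cdE8.checkNegConj r)) = true := by decide +kernel
theorem e8NegConj_2_127 : allRange 127 128 ((fun r => cdE8.checkNegConj r)) = true := by decide +kernel
theorem e8NegConj_2_128 : allRange 128 129 ((fun r => cdE8.checkNegConj r)) = true := by decide +kernel
theorem e8NegConj_2_129 : allRange 129 130 ((fun r => cdE8.checkNegConj r)) = true := by decide +kernel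
theorem e8NegConj_2_130 : allRange 130 131 ((fun r => cdE8.checkNegConj r)) = true := by decide +kernel
theorem e8NegConj_2_131 : allRange 131 132 ((fun r => cdE8.checkNegConj r)) = true := by decide +kernel
theorem e8NegConj_2_132 : allRange 132 133 ((fun r => cdE8.checkNegConj r)) = true := by decide +kernel
theorem e8NegConj_2_133 : allRange 133 134 ((fun r => cdE8.checkNegConj r)) = true := by decide +kernel
theorem e8NegConj_2_134 : allRange 134 135 ((fun r => cdE8.checkNegConj r)) = true := by decide +kernel
theorem e8NegConj_2_135 : allRange 135 136 ((fun r => cdE8.checkNegConj r)) = true := by decide +kernel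
theorem e8NegConj_2_136 : allRange 136 137 ((fun r => cdE8.checkNegConj r)) = true := by decide +kernel
theorem e8NegConj_2_137 : allRange 137 138 ((fun r => cdE8.checkNegConj r)) = true := by decide +kernel
theorem e8NegConj_2_138 : allRange 138 139 ((fun r => cdE8.checkNegConj r)) = true := by decide +kernel
theorem e8NegConj_2_139 : allRange 139 140 ((fun r => cdE8.checkNegConj r)) = true := by decide +kernel
theorem e8NegConj_2_140 : allRange 140 141 ((fun r => cdE8.checkNegConj r)) = true := by decide +kernel
theorem e8NegConj_2_141 : allRange 141 142 ((fun r => cdE8.checkNegConj r)) = true := by decide +kernel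
theorem e8NegConj_2_142 : allRange 142 143 ((fun r => cdE8.checkNegConj r)) = true := by decide +kernel
theorem e8NegConj_2_143 : allRange 143 144 ((fun r => cdE8.checkNegConj r)) = true := by decide +kernel
theorem e8NegConj_2_144 : allRange 144 145 ((fun r => cdE8.checkNegConj r)) = true := by decide +kernel
theorem e8NegConj_2_145 : allRange 145 146 ((fun r => cdE8.checkNegConj r)) = true := by decide +kernel
theorem e8NegConj_2_146 : allRange 146 147 ((fun r => cdE8.checkNegConj r)) = true := by decide +kernel
theorem e8NegConj_2_147 : allRange 147 148 ((fun r => cdE8.checkNegConj r)) = true := by decide +kernel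
theorem e8NegConj_2_148 : allRange 148 149 ((fun r => cdE8.checkNegConj r)) = true := by decide +kernel
theorem e8NegConj_2_149 : allRange 149 150 ((fun r => cdE8.checkNegConj r)) = true := by decide +kernel
theorem e8NegConj_2_150 : allRange 150 151 ((fun r => cdE8.checkNegConj r)) = true := by decide +kernel
theorem e8NegConj_2_151 : allRange 151 152 ((fun r => cdE8.checkNegConj r)) = true := by decide +kernel
theorem e8NegConj_2_152 : allRange 152 153 ((fun r => cdE8.checkNegConj r)) = true := by decide +kernel
theorem e8NegConj_2_153 : allRange 153 154 ((fun r => cdE8.checkNegConj r)) = true := by decide +kernel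
theorem e8NegConj_2_154 : allRange 154 155 ((fun r => cdE8.checkNegConj r)) = true := by decide +kernel
theorem e8NegConj_2_155 : allRange 155 156 ((fun r => cdE8.checkNegConj r)) = true := by decide +kernel
theorem e8NegConj_2_156 : allRange 156 157 ((fun r => cdE8.checkNegConj r)) = true := by decide +kernel
theorem e8NegConj_2_157 : allRange 157 158 ((fun r => cdE8.checkNegConj r)) = true := by decide +kernel
theorem e8NegConj_2_158 : allRange 158 159 ((fun r => cdE8.checkNegConj r)) = true := by decide +kernel
theorem e8NegConj_2_159 : allRange 159 160 ((fun r => cdE8.checkNegConj r)) = true := by decide +kernel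
theorem e8NegConj_2_160 : allRange 160 161 ((fun r => cdE8.checkNegConj r)) = true := by decide +kernel
theorem e8NegConj_2_161 : allRange 161 162 ((fun r => cdE8.checkNegConj r)) = true := by decide +kernel
theorem e8NegConj_2_162 : allRange 162 163 ((fun r => cdE8.checkNegConj r)) = true := by decide +kernel
theorem e8NegConj_2_163 : allRange 163 164 ((fun r => cdE8.checkNegConj r)) = true := by decide +kernel
theorem e8NegConj_2_164 : allRange 164 165 ((fun r => cdE8.checkNegConj r)) = true := by decide +kernel
theorem e8NegConj_2_165 : allRange 165 166 ((fun r => cdE8.checkNegConj r)) = true := by decide +kernel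
theorem e8NegConj_2_166 : allRange 166 167 ((fun r => cdE8.checkNegConj r)) = true := by decide +kernel
theorem e8NegConj_2_167 : allRange 167 168 ((fun r => cdE8.checkNegConj r)) = true := by decide +kernel
theorem e8NegConj_2_168 : allRange 168 169 ((fun r => cdE8.checkNegConj r)) = true := by decide +kernel
theorem e8NegConj_2_169 : allRange 169 170 ((fun r => cdE8.checkNegConj r)) = true := by decide +kernel
theorem e8NegConj_2_170 : allRange 170 171 ((fun r => cdE8.checkNegConj r)) = true := by decide +kernel
theorem e8NegConj_2_171 : allRange 171 172 ((fun r => cdE8.checkNegConj r)) = true := by decide +kernel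
theorem e8NegConj_2_172 : allRange 172 173 ((fun r => cdE8.checkNegConj r)) = true := by decide +kernel
theorem e8NegConj_2_173 : allRange 173 174 ((fun r => cdE8.checkNegConj r)) = true := by decide +kernel
theorem e8NegConj_2_174 : allRange 174 175 ((fun r => cdE8.checkNegConj r)) = true := by decide +kernel
theorem e8NegConj_2_175 : allRange 175 176 ((fun r => cdE8.checkNegConj r)) = true := by decide +kernel
theorem e8NegConj_2_176 : allRange 176 177 ((fun r => cdE8.checkNegConj r)) = true := by decide +kernel
theorem e8NegConj_2_177 : allRange 177 178 ((fun r => cdE8.checkNegConj r)) = true := by decide +kernel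
theorem e8NegConj_2_178 : allRange 178 179 ((fun r => cdE8.checkNegConj r)) = true := by decide +kernel
theorem e8NegConj_2_179 : allRange 179 180 ((fun r => cdE8.checkNegConj r)) = true := by decide +kernel

/-- Conjugation of `x_r(t)` by `n_r` of type E8 (roots 120 to 179). -/
theorem e8NegConj_2 : ∀ r, 120 ≤ r → r < 180 → ((fun r => cdE8.checkNegConj r)) r = true := by
  intro r h1 h2
  by_cases c0 : r < 121
  · exact allRange_spec e8NegConj_2_120 r (by omega) c0
  by_cases c1 : r < 122
  · exact allRange_spec e8NegConj_2_121 r (by omega) c1
  by_cases c2 : r < 123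
  · exact allRange_spec e8NegConj_2_122 r (by omega) c2
  by_cases c3 : r < 124
  · exact allRange_spec e8NegConj_2_123 r (by omega) c3
  by_cases c4 : r < 125
  · exact allRange_spec e8NegConj_2_124 r (by omega) c4
  by_cases c5 : r < 126
  · exact allRange_spec e8NegConj_2_125 r (by omega) c5
  by_cases c6 : r < 127
  · exact allRange_spec e8NegConj_2_126 r (by omega) c6
  by_cases c7 : r < 128
  · exact allRange_spec e8NegConj_2_127 r (by omega) c7
  by_cases c8 : r < 129
  · exact allRange_spec e8NegConj_2_128 r (by omega) c8
  by_cases c9 : r < 130
  · exact allRange_spec e8NegConj_2_129 r (by omega) c9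
  by_cases c10 : r < 131
  · exact allRange_spec e8NegConj_2_130 r (by omega) c10
  by_cases c11 : r < 132
  · exact allRange_spec e8NegConj_2_131 r (by omega) c11
  by_cases c12 : r < 133
  · exact allRange_spec e8NegConj_2_132 r (by omega) c12
  by_cases c13 : r < 134
  · exact allRange_spec e8NegConj_2_133 r (by omega) c13
  by_cases c14 : r < 135
  · exact allRange_spec e8NegConj_2_134 r (by omega) c14
  by_cases c15 : r < 136
  · exact allRange_spec e8NegConj_2_135 r (by omega) c15
  by_cases c16 : r < 137
  · exact allRange_spec e8NegConj_2_136 r (by omega) c16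
  by_cases c17 : r < 138
  · exact allRange_spec e8NegConj_2_137 r (by omega) c17
  by_cases c18 : r < 139
  · exact allRange_spec e8NegConj_2_138 r (by omega) c18
  by_cases c19 : r < 140
  · exact allRange_spec e8NegConj_2_139 r (by omega) c19
  by_cases c20 : r < 141
  · exact allRange_spec e8NegConj_2_140 r (by omega) c20
  by_cases c21 : r < 142
  · exact allRange_spec e8NegConj_2_141 r (by omega) c21
  by_cases c22 : r < 143
  · exact allRange_spec e8NegConj_2_142 r (by omega) c22
  by_cases c23 : r < 144
  · exact allRange_spec e8NegConj_2_143 r (by omega) c23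
  by_cases c24 : r < 145
  · exact allRange_spec e8NegConj_2_144 r (by omega) c24
  by_cases c25 : r < 146
  · exact allRange_spec e8NegConj_2_145 r (by omega) c25
  by_cases c26 : r < 147
  · exact allRange_spec e8NegConj_2_146 r (by omega) c26
  by_cases c27 : r < 148
  · exact allRange_spec e8NegConj_2_147 r (by omega) c27
  by_cases c28 : r < 149
  · exact allRange_spec e8NegConj_2_148 r (by omega) c28
  by_cases c29 : r < 150
  · exact allRange_spec e8NegConj_2_149 r (by omega) c29
  by_cases c30 : r < 151
  · exact allRange_spec e8NegConj_2_150 r (by omega) c30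
  by_cases c31 : r < 152
  · exact allRange_spec e8NegConj_2_151 r (by omega) c31
  by_cases c32 : r < 153
  · exact allRange_spec e8NegConj_2_152 r (by omega) c32
  by_cases c33 : r < 154
  · exact allRange_spec e8NegConj_2_153 r (by omega) c33
  by_cases c34 : r < 155
  · exact allRange_spec e8NegConj_2_154 r (by omega) c34
  by_cases c35 : r < 156
  · exact allRange_spec e8NegConj_2_155 r (by omega) c35
  by_cases c36 : r < 157
  · exact allRange_spec e8NegConj_2_156 r (by omega) c36
  by_cases c37 : r < 158
  · exact allRange_spec e8NegConj_2_157 r (by omega) c37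
  by_cases c38 : r < 159
  · exact allRange_spec e8NegConj_2_158 r (by omega) c38
  by_cases c39 : r < 160
  · exact allRange_spec e8NegConj_2_159 r (by omega) c39
  by_cases c40 : r < 161
  · exact allRange_spec e8NegConj_2_160 r (by omega) c40
  by_cases c41 : r < 162
  · exact allRange_spec e8NegConj_2_161 r (by omega) c41
  by_cases c42 : r < 163
  · exact allRange_spec e8NegConj_2_162 r (by omega) c42
  by_cases c43 : r < 164
  · exact allRange_spec e8NegConj_2_163 r (by omega) c43
  by_cases c44 : r < 165
  · exact allRange_spec e8NegConj_2_164 r (by omega) c44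
  by_cases c45 : r < 166
  · exact allRange_spec e8NegConj_2_165 r (by omega) c45
  by_cases c46 : r < 167
  · exact allRange_spec e8NegConj_2_166 r (by omega) c46
  by_cases c47 : r < 168
  · exact allRange_spec e8NegConj_2_167 r (by omega) c47
  by_cases c48 : r < 169
  · exact allRange_spec e8NegConj_2_168 r (by omega) c48
  by_cases c49 : r < 170
  · exact allRange_spec e8NegConj_2_169 r (by omega) c49
  by_cases c50 : r < 171
  · exact allRange_spec e8NegConj_2_170 r (by omega) c50
  by_cases c51 : r < 172
  · exact allRange_spec e8NegConj_2_171 r (by omega) c51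
  by_cases c52 : r < 173
  · exact allRange_spec e8NegConj_2_172 r (by omega) c52
  by_cases c53 : r < 174
  · exact allRange_spec e8NegConj_2_173 r (by omega) c53
  by_cases c54 : r < 175
  · exact allRange_spec e8NegConj_2_174 r (by omega) c54
  by_cases c55 : r < 176
  · exact allRange_spec e8NegConj_2_175 r (by omega) c55
  by_cases c56 : r < 177
  · exact allRange_spec e8NegConj_2_176 r (by omega) c56
  by_cases c57 : r < 178
  · exact allRange_spec e8NegConj_2_177 r (by omega) c57
  by_cases c58 : r < 179
  · exact allRange_spec e8NegConj_2_178 r (by omega) c58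
  exact allRange_spec e8NegConj_2_179 r (by omega) h2

end Cfsg.Agent.Lib.Helper3.ChevM
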