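import Cfsg.Agent.Lib.Helper3.ChevData.E8Datum
import Cfsg.Agent.Lib.Helper3.ChevG1
set_option autoImplicit false
set_option maxRecDepth 1000000
set_option Elab.async false

namespace Cfsg.Agent.Lib.Helper3.ChevM

theorem e8NegConj_3_180 : allRange 180 181 ((fun r => cdE8.checkNegConj r)) = true := by decide +kernel
theorem e8NegConj_3_181 : allRange 181 182 ((fun r => cdE8.checkNegConj r)) = true := by decide +kernel
theorem e8NegConj_3_182 : allRange 182 183 ((fun r => cdE8.checkNegConj r)) = true := by decide +kernel
theorem e8NegConj_3_183 : allRange 183 184 ((fun r => cdE8.checkNegConj r)) = true := by decide +kernel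
theorem e8NegConj_3_184 : allRange 184 185 ((fun r => cdE8.checkNegConj r)) = true := by decide +kernel
theorem e8NegConj_3_185 : allRange 185 186 ((fun r => cdE8.checkNegConj r)) = true := by decide +kernel
theorem e8NegConj_3_186 : allRange 186 187 ((fun r => cdE8.checkNegConj r)) = true := by decide +kernel
theorem e8NegConj_3_187 : allRange 187 188 ((fun r => cdE8.checkNegConj r)) = true := by decide +kernel
theorem e8NegConj_3_188 : allRange 188 189 ((fun r => cdE8.checkNegConj r)) = true := by decide +kernel
theorem e8NegConj_3_189 : allRange 189 190 ((fun r => cdE8.checkNegConj r)) = true := by decide +kernel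
theorem e8NegConj_3_190 : allRange 190 191 ((fun r => cdE8.checkNegConj r)) = true := by decide +kernel
theorem e8NegConj_3_191 : allRange 191 192 ((fun r => cdE8.checkNegConj r)) = true := by decide +kernel
theorem e8NegConj_3_192 : allRange 192 193 ((fun r => cdE8.checkNegConj r)) = true := by decide +kernel
theorem e8NegConj_3_193 : allRange 193 194 ((fun r => cdE8.checkNegConj r)) = true := by decide +kernel
theorem e8NegConj_3_194 : allRange 194 195 ((fun r => cdE8.checkNegConj r)) = true := by decide +kernel
theorem e8NegConj_3_195 : allRange 195 196 ((fun r => cdE8.checkNegConj r)) = true := by decide +kernel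
theorem e8NegConj_3_196 : allRange 196 197 ((fun r => cdE8.checkNegConj r)) = true := by decide +kernel
theorem e8NegConj_3_197 : allRange 197 198 ((fun r => cdE8.checkNegConj r)) = true := by decide +kernel
theorem e8NegConj_3_198 : allRange 198 199 ((fun r => cdE8.checkNegConj r)) = true := by decide +kernel
theorem e8NegConj_3_199 : allRange 199 200 ((fun r => cdE8.checkNegConj r)) = true := by decide +kernel
theorem e8NegConj_3_200 : allRange 200 201 ((fun r => cdE8.checkNegConj r)) = true := by decide +kernel
theorem e8NegConj_3_201 : allRange 201 202 ((fun r => cdE8.checkNegConj r)) = true := by decide +kernel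
theorem e8NegConj_3_202 : allRange 202 203 ((fun r => cdE8.checkNegConj r)) = true := by decide +kernel
theorem e8NegConj_3_203 : allRange 203 204 ((fun r => cdE8.checkNegConj r)) = true := by decide +kernel
theorem e8NegConj_3_204 : allRange 204 205 ((fun r => cdE8.checkNegConj r)) = true := by decide +kernel
theorem e8NegConj_3_205 : allRange 205 206 ((fun r => cdE8.checkNegConj r)) = true := by decide +kernel
theorem e8NegConj_3_206 : allRange 206 207 ((fun r => cdE8.checkNegConj r)) = true := by decide +kernel
theorem e8NegConj_3_207 : allRange 207 208 ((fun r => cdE8.checkNegConj r)) = true := by decide +kernel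
theorem e8NegConj_3_208 : allRange 208 209 ((fun r => cdE8.checkNegConj r)) = true := by decide +kernel
theorem e8NegConj_3_209 : allRange 209 210 ((fun r => cdE8.checkNegConj r)) = true := by decide +kernel
theorem e8NegConj_3_210 : allRange 210 211 ((fun r => cdE8.checkNegConj r)) = true := by decide +kernel
theorem e8NegConj_3_211 : allRange 211 212 ((fun r => cdE8.checkNegConj r)) = true := by decide +kernel
theorem e8NegConj_3_212 : allRange 212 213 ((fun r => cdE8.checkNegConj r)) = true := by decide +kernel
theorem e8NegConj_3_213 : allRange 213 214 ((fun r => cdE8.checkNegConj r)) = true := by decide +kernel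
theorem e8NegConj_3_214 : allRange 214 215 ((fun r => cdE8.checkNegConj r)) = true := by decide +kernel
theorem e8NegConj_3_215 : allRange 215 216 ((fun r => cdE8.checkNegConj r)) = true := by decide +kernel
theorem e8NegConj_3_216 : allRange 216 217 ((fun r => cdE8.checkNegConj r)) = true := by decide +kernel
theorem e8NegConj_3_217 : allRange 217 218 ((fun r => cdE8.checkNegConj r)) = true := by decide +kernel
theorem e8NegConj_3_218 : allRange 218 219 ((fun r => cdE8.checkNegConj r)) = true := by decide +kernel
theorem e8NegConj_3_219 : allRange 219 220 ((fun r => cdE8.checkNegConj r)) = true := by decide +kernel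
theorem e8NegConj_3_220 : allRange 220 221 ((fun r => cdE8.checkNegConj r)) = true := by decide +kernel
theorem e8NegConj_3_221 : allRange 221 222 ((fun r => cdE8.checkNegConj r)) = true := by decide +kernel
theorem e8NegConj_3_222 : allRange 222 223 ((fun r => cdE8.checkNegConj r)) = true := by decide +kernel
theorem e8NegConj_3_223 : allRange 223 224 ((fun r => cdE8.checkNegConj r)) = true := by decide +kernel
theorem e8NegConj_3_224 : allRange 224 225 ((fun r => cdE8.checkNegConj r)) = true := by decide +kernel
theorem e8NegConj_3_225 : allRange 225 226 ((fun r => cdE8.checkNegConj r)) = true := by decide +kernel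
theorem e8NegConj_3_226 : allRange 226 227 ((fun r => cdE8.checkNegConj r)) = true := by decide +kernel
theorem e8NegConj_3_227 : allRange 227 228 ((fun r => cdE8.checkNegConj r)) = true := by decide +kernel
theorem e8NegConj_3_228 : allRange 228 229 ((fun r => cdE8.checkNegConj r)) = true := by decide +kernel
theorem e8NegConj_3_229 : allRange 229 230 ((fun r => cdE8.checkNegConj r)) = true := by decide +kernel
theorem e8NegConj_3_230 : allRange 230 231 ((fun r => cdE8.checkNegConj r)) = true := by decide +kernel
theorem e8NegConj_3_231 : allRange 231 232 ((fun r => cdE8.checkNegConj r)) = true := by decide +kernel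
theorem e8NegConj_3_232 : allRange 232 233 ((fun r => cdE8.checkNegConj r)) = true := by decide +kernel
theorem e8NegConj_3_233 : allRange 233 234 ((fun r => cdE8.checkNegConj r)) = true := by decide +kernel
theorem e8NegConj_3_234 : allRange 234 235 ((fun r => cdE8.checkNegConj r)) = true := by decide +kernel
theorem e8NegConj_3_235 : allRange 235 236 ((fun r => cdE8.checkNegConj r)) = true := by decide +kernel
theorem e8NegConj_3_236 : allRange 236 237 ((fun r => cdE8.checkNegConj r)) = true := by decide +kernel
theorem e8NegConj_3_237 : allRange 237 238 ((fun r => cdE8.checkNegConj r)) = true := by decide +kernel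
theorem e8NegConj_3_238 : allRange 238 239 ((fun r => cdE8.checkNegConj r)) = true := by decide +kernel
theorem e8NegConj_3_239 : allRange 239 240 ((fun r => cdE8.checkNegConj r)) = true := by decide +kernel

/-- Conjugation of `x_r(t)` by `n_r` of type E8 (roots 180 to 239). -/
theorem e8NegConj_3 : ∀ r, 180 ≤ r → r < 240 → ((fun r => cdE8.checkNegConj r)) r = true := by
  intro r h1 h2
  by_cases c0 : r < 181
  · exact allRange_spec e8NegConj_3_180 r (by omega) c0
  by_cases c1 : r < 182
  · exact allRange_spec e8NegConj_3_181 r (by omega) c1
  by_cases c2 : r < 183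
  · exact allRange_spec e8NegConj_3_182 r (by omega) c2
  by_cases c3 : r < 184
  · exact allRange_spec e8NegConj_3_183 r (by omega) c3
  by_cases c4 : r < 185
  · exact allRange_spec e8NegConj_3_184 r (by omega) c4
  by_cases c5 : r < 186
  · exact allRange_spec e8NegConj_3_185 r (by omega) c5
  by_cases c6 : r < 187
  · exact allRange_spec e8NegConj_3_186 r (by omega) c6
  by_cases c7 : r < 188
  · exact allRange_spec e8NegConj_3_187 r (by omega) c7
  by_cases c8 : r < 189
  · exact allRange_spec e8NegConj_3_188 r (by omega) c8
  by_cases c9 : r < 190
  · exact allRange_spec e8NegConj_3_189 r (by omega) c9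
  by_cases c10 : r < 191
  · exact allRange_spec e8NegConj_3_190 r (by omega) c10
  by_cases c11 : r < 192
  · exact allRange_spec e8NegConj_3_191 r (by omega) c11
  by_cases c12 : r < 193
  · exact allRange_spec e8NegConj_3_192 r (by omega) c12
  by_cases c13 : r < 194
  · exact allRange_spec e8NegConj_3_193 r (by omega) c13
  by_cases c14 : r < 195
  · exact allRange_spec e8NegConj_3_194 r (by omega) c14
  by_cases c15 : r < 196
  · exact allRange_spec e8NegConj_3_195 r (by omega) c15
  by_cases c16 : r < 197
  · exact allRange_spec e8NegConj_3_196 r (by omega) c16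
  by_cases c17 : r < 198
  · exact allRange_spec e8NegConj_3_197 r (by omega) c17
  by_cases c18 : r < 199
  · exact allRange_spec e8NegConj_3_198 r (by omega) c18
  by_cases c19 : r < 200
  · exact allRange_spec e8NegConj_3_199 r (by omega) c19
  by_cases c20 : r < 201
  · exact allRange_spec e8NegConj_3_200 r (by omega) c20
  by_cases c21 : r < 202
  · exact allRange_spec e8NegConj_3_201 r (by omega) c21
  by_cases c22 : r < 203
  · exact allRange_spec e8NegConj_3_202 r (by omega) c22
  by_cases c23 : r < 204
  · exact allRange_spec e8NegConj_3_203 r (by omega) c23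
  by_cases c24 : r < 205
  · exact allRange_spec e8NegConj_3_204 r (by omega) c24
  by_cases c25 : r < 206
  · exact allRange_spec e8NegConj_3_205 r (by omega) c25
  by_cases c26 : r < 207
  · exact allRange_spec e8NegConj_3_206 r (by omega) c26
  by_cases c27 : r < 208
  · exact allRange_spec e8NegConj_3_207 r (by omega) c27
  by_cases c28 : r < 209
  · exact allRange_spec e8NegConj_3_208 r (by omega) c28
  by_cases c29 : r < 210
  · exact allRange_spec e8NegConj_3_209 r (by omega) c29
  by_cases c30 : r < 211
  · exact allRange_spec e8NegConj_3_210 r (by omega) c30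
  by_cases c31 : r < 212
  · exact allRange_spec e8NegConj_3_211 r (by omega) c31
  by_cases c32 : r < 213
  · exact allRange_spec e8NegConj_3_212 r (by omega) c32
  by_cases c33 : r < 214
  · exact allRange_spec e8NegConj_3_213 r (by omega) c33
  by_cases c34 : r < 215
  · exact allRange_spec e8NegConj_3_214 r (by omega) c34
  by_cases c35 : r < 216
  · exact allRange_spec e8NegConj_3_215 r (by omega) c35
  by_cases c36 : r < 217
  · exact allRange_spec e8NegConj_3_216 r (by omega) c36
  by_cases c37 : r < 218
  · exact allRange_spec e8NegConj_3_217 r (by omega) c37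
  by_cases c38 : r < 219
  · exact allRange_spec e8NegConj_3_218 r (by omega) c38
  by_cases c39 : r < 220
  · exact allRange_spec e8NegConj_3_219 r (by omega) c39
  by_cases c40 : r < 221
  · exact allRange_spec e8NegConj_3_220 r (by omega) c40
  by_cases c41 : r < 222
  · exact allRange_spec e8NegConj_3_221 r (by omega) c41
  by_cases c42 : r < 223
  · exact allRange_spec e8NegConj_3_222 r (by omega) c42
  by_cases c43 : r < 224
  · exact allRange_spec e8NegConj_3_223 r (by omega) c43
  by_cases c44 : r < 225
  · exact allRange_spec e8NegConj_3_224 r (by omega) c44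
  by_cases c45 : r < 226
  · exact allRange_spec e8NegConj_3_225 r (by omega) c45
  by_cases c46 : r < 227
  · exact allRange_spec e8NegConj_3_226 r (by omega) c46
  by_cases c47 : r < 228
  · exact allRange_spec e8NegConj_3_227 r (by omega) c47
  by_cases c48 : r < 229
  · exact allRange_spec e8NegConj_3_228 r (by omega) c48
  by_cases c49 : r < 230
  · exact allRange_spec e8NegConj_3_229 r (by omega) c49
  by_cases c50 : r < 231
  · exact allRange_spec e8NegConj_3_230 r (by omega) c50
  by_cases c51 : r < 232
  · exact allRange_spec e8NegConj_3_231 r (by omega) c51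
  by_cases c52 : r < 233
  · exact allRange_spec e8NegConj_3_232 r (by omega) c52
  by_cases c53 : r < 234
  · exact allRange_spec e8NegConj_3_233 r (by omega) c53
  by_cases c54 : r < 235
  · exact allRange_spec e8NegConj_3_234 r (by omega) c54
  by_cases c55 : r < 236
  · exact allRange_spec e8NegConj_3_235 r (by omega) c55
  by_cases c56 : r < 237
  · exact allRange_spec e8NegConj_3_236 r (by omega) c56
  by_cases c57 : r < 238
  · exact allRange_spec e8NegConj_3_237 r (by omega) c57
  by_cases c58 : r < 239
  · exact allRange_spec e8NegConj_3_238 r (by omega) c58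
  exact allRange_spec e8NegConj_3_239 r (by omega) h2

end Cfsg.Agent.Lib.Helper3.ChevM
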