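import Cfsg.Agent.Lib.Helper3.ChevData.E8NegConjA
import Cfsg.Agent.Lib.Helper3.ChevData.E8NegConjB
import Cfsg.Agent.Lib.Helper3.ChevData.E8NegConjC
import Cfsg.Agent.Lib.Helper3.ChevData.E8NegConjD
set_option autoImplicit false

namespace Cfsg.Agent.Lib.Helper3.ChevM

/-- Conjugation of `x_r(t)` by `n_r` of type E8. -/
theorem e8NegConj : ∀ r < 240, ((fun r => cdE8.checkNegConj r)) r = true := by
  intro r hr
  by_cases h0 : r < 60
  · exact e8NegConj_0 r (by omega) h0
  by_cases h1 : r < 120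
  · exact e8NegConj_1 r (by omega) h1
  by_cases h2 : r < 180
  · exact e8NegConj_2 r (by omega) h2
  exact e8NegConj_3 r (by omega) hr

end Cfsg.Agent.Lib.Helper3.ChevM
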