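import Cfsg.Agent.Lib.Helper3.ChevData.E8CommData
import Cfsg.Agent.Lib.Helper3.ChevData.E8Mono
import Cfsg.Agent.Lib.Helper3.ChevData.E8Up
import Cfsg.Agent.Lib.Helper3.ChevData.E8Hdec
import Cfsg.Agent.Lib.Helper3.ChevData.E8Root
import Cfsg.Agent.Lib.Helper3.ChevData.E8NegConj
import Cfsg.Agent.Lib.Helper3.ChevData.E8Low
set_option autoImplicit false

namespace Cfsg.Agent.Lib.Helper3.ChevM

/-- The table checks for the (B,N)-pair of type E8. -/
def bnE8 : BNHyp cdE8 relE8 where
  mono := monoE8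
  up := of_pairRange (m := 8) (n := 240) e8Up
  dec := of_pairRange (m := 240) (n := 240) e8Hdec
  root := e8Root
  nc := e8NegConj
  low := e8Low

end Cfsg.Agent.Lib.Helper3.ChevM
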