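import Cfsg.Agent.Lib.Helper3.ChevData.E8IrrA
set_option autoImplicit false

namespace Cfsg.Agent.Lib.Helper3.ChevM

/-- The Dynkin diagram of type E8 is connected. -/
theorem e8Irr : ∀ r < 8, ((fun i => irrCheck Cfsg.Lie.chevE8 reflE8 parE8 depE8 0 i)) r = true := by
  intro r hr
  exact e8Irr_0 r (by omega) hr

end Cfsg.Agent.Lib.Helper3.ChevM
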