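import Cfsg.Agent.Lib.Helper3.ChevData.E8OppA
set_option autoImplicit false

namespace Cfsg.Agent.Lib.Helper3.ChevM

/-- The longest element maps the positive roots of type E8 onto the negative roots. -/
theorem e8Opp : ∀ r < 240, ((fun s => oppCheck Cfsg.Lie.chevE8 reflE8 w0E8 w0rE8 s)) r = true := by
  intro r hr
  exact e8Opp_0 r (by omega) hr

end Cfsg.Agent.Lib.Helper3.ChevM
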