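import Cfsg.Agent.Lib.Helper3.ChevData.E8Os3A
set_option autoImplicit false

namespace Cfsg.Agent.Lib.Helper3.ChevM

/-- The subsystem of the first 3 fundamental roots of type E8. -/
theorem e8Os3 : ∀ r < 240, ((fun r => suppCheck Cfsg.Lie.chevE8 reflE8 3 r)) r = true := by
  intro r hr
  exact e8Os3_0 r (by omega) hr

end Cfsg.Agent.Lib.Helper3.ChevM
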