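import Cfsg.Agent.Lib.Helper3.ChevData.E8Mono
import Cfsg.Agent.Lib.Helper3.ChevData.E8Hdec
import Cfsg.Agent.Lib.Helper3.ChevData.E8Sign
import Cfsg.Agent.Lib.Helper3.ChevData.E8Os3
import Cfsg.Agent.Lib.Helper3.ChevData.E8Or3
import Cfsg.Agent.Lib.Helper3.ChevData.E8Ot3
set_option autoImplicit false
set_option maxRecDepth 1000000

namespace Cfsg.Agent.Lib.Helper3.ChevM

theorem e8Od3 : distinctCheck Cfsg.Lie.chevE8 reflE8 dlE83 = true := by decide +kernel

theorem e8On3 : dlE83.map (Nw Cfsg.Lie.chevE8 reflE8) = [0, 1, 2, 2, 3, 3, 4, 4, 5, 6] := by decide +kernel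

/-- Step 3 of the factorisation of the Poincaré sum of type E8. -/
theorem e8Poin3 (q : ℕ) : poin cdE8.D relE8.refl (Set.Iio 4) q =
    ([0, 1, 2, 2, 3, 3, 4, 4, 5, 6].map fun e => q ^ e).sum * poin cdE8.D relE8.refl (Set.Iio 3) q := by
  have h := monoE8.poin_step (of_pairRange (m := 240) (n := 240) e8Hdec) e8Sign 3 e8Os3 dlE83 e8Or3 nxtE83
    (by decide +kernel) (of_pairRange (m := 10) (n := 4) e8Ot3) e8Od3 (by decide +kernel) q
  show poin cdE8.D relE8.refl (Set.Iio (3 + 1)) q = _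
  have e : (dlE83.map fun d => q ^ Nw cdE8.D relE8.refl d) = (dlE83.map (Nw Cfsg.Lie.chevE8 reflE8)).map fun e => q ^ e := by
    rw [List.map_map]; rfl
  rw [h, e, e8On3]

end Cfsg.Agent.Lib.Helper3.ChevM
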