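import Cfsg.Agent.Lib.Helper3.ChevData.E8Or6A
set_option autoImplicit false

namespace Cfsg.Agent.Lib.Helper3.ChevM

/-- The representatives of step 6 of type E8 keep the subsystem positive. -/
theorem e8Or6 : ∀ r < 56, ((fun a => repCheck Cfsg.Lie.chevE8 reflE8 6 dlE86 a)) r = true := by
  intro r hr
  exact e8Or6_0 r (by omega) hr

end Cfsg.Agent.Lib.Helper3.ChevM
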