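import Cfsg.Agent.Lib.Helper3.ChevData.E8Ot6A
set_option autoImplicit false

namespace Cfsg.Agent.Lib.Helper3.ChevM

/-- Left multiplication of the representatives of step 6 of type E8. -/
theorem e8Ot6 : ∀ r < 392, ((fun p => stepCheck Cfsg.Lie.chevE8 reflE8 6 dlE86 nxtE86 (p / 7) (p % 7))) r = true := by
  intro r hr
  exact e8Ot6_0 r (by omega) hr

end Cfsg.Agent.Lib.Helper3.ChevM
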