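import Cfsg.Agent.Lib.Helper3.ChevData.E8Mono
import Cfsg.Agent.Lib.Helper3.ChevData.E8Hdec
import Cfsg.Agent.Lib.Helper3.ChevData.E8Sign
import Cfsg.Agent.Lib.Helper3.ChevData.E8Os6
import Cfsg.Agent.Lib.Helper3.ChevData.E8Or6
import Cfsg.Agent.Lib.Helper3.ChevData.E8Ot6
set_option autoImplicit false
set_option maxRecDepth 1000000

namespace Cfsg.Agent.Lib.Helper3.ChevM

theorem e8Od6 : distinctCheck Cfsg.Lie.chevE8 reflE8 dlE86 = true := by decide +kernel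

theorem e8On6 : dlE86.map (Nw Cfsg.Lie.chevE8 reflE8) = [0, 1, 2, 3, 4, 5, 5, 6, 6, 7, 7, 8, 8, 9, 9, 9, 10, 10, 10, 11, 11, 11, 12, 12, 12, 13, 13, 13, 14, 14, 14, 15, 15, 15, 16, 16, 16, 17, 17, 17, 18, 18, 18, 19, 19, 20, 20, 21, 21, 22, 22, 23, 24, 25, 26, 27] := by decide +kernel

/-- Step 6 of the factorisation of the Poincaré sum of type E8. -/
theorem e8Poin6 (q : ℕ) : poin cdE8.D relE8.refl (Set.Iio 7) q =
    ([0, 1, 2, 3, 4, 5, 5, 6, 6, 7, 7, 8, 8, 9, 9, 9, 10, 10, 10, 11, 11, 11, 12, 12, 12, 13, 13, 13, 14, 14, 14, 15, 15, 15, 16, 16, 16, 17, 17, 17, 18, 18, 18, 19, 19, 20, 20, 21, 21, 22, 22, 23, 24, 25, 26, 27].map fun e => q ^ e).sum * poin cdE8.D relE8.refl (Set.Iio 6) q := by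
  have h := monoE8.poin_step (of_pairRange (m := 240) (n := 240) e8Hdec) e8Sign 6 e8Os6 dlE86 e8Or6 nxtE86
    (by decide +kernel) (of_pairRange (m := 56) (n := 7) e8Ot6) e8Od6 (by decide +kernel) q
  show poin cdE8.D relE8.refl (Set.Iio (6 + 1)) q = _
  have e : (dlE86.map fun d => q ^ Nw cdE8.D relE8.refl d) = (dlE86.map (Nw Cfsg.Lie.chevE8 reflE8)).map fun e => q ^ e := by
    rw [List.map_map]; rfl
  rw [h, e, e8On6]

end Cfsg.Agent.Lib.Helper3.ChevM
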