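import Cfsg.Prelude.Def_ChevE8
import Cfsg.Agent.Lib.Helper3.ChevData.E8Tabs
import Cfsg.Agent.Lib.Helper3.ChevData.E8OrdTab
import Cfsg.Agent.Lib.Helper3.ChevO2
import Cfsg.Agent.Lib.Helper3.ChevData.E8Nw7Tab
set_option autoImplicit false
set_option maxRecDepth 1000000
set_option Elab.async false

namespace Cfsg.Agent.Lib.Helper3.ChevM

theorem e8Nw7_1_24 : allRange 24 27 ((fun a => decide (Nw Cfsg.Lie.chevE8 reflE8 (dlE87.getD a []) = nwE87.getD a 0))) = true := by decide +kernel
theorem e8Nw7_1_27 : allRange 27 30 ((fun a => decide (Nw Cfsg.Lie.chevE8 reflE8 (dlE87.getD a []) = nwE87.getD a 0))) = true := by decide +kernel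
theorem e8Nw7_1_30 : allRange 30 33 ((fun a => decide (Nw Cfsg.Lie.chevE8 reflE8 (dlE87.getD a []) = nwE87.getD a 0))) = true := by decide +kernel
theorem e8Nw7_1_33 : allRange 33 36 ((fun a => decide (Nw Cfsg.Lie.chevE8 reflE8 (dlE87.getD a []) = nwE87.getD a 0))) = true := by decide +kernel
theorem e8Nw7_1_36 : allRange 36 39 ((fun a => decide (Nw Cfsg.Lie.chevE8 reflE8 (dlE87.getD a []) = nwE87.getD a 0))) = true := by decide +kernel
theorem e8Nw7_1_39 : allRange 39 42 ((fun a => decide (Nw Cfsg.Lie.chevE8 reflE8 (dlE87.getD a []) = nwE87.getD a 0))) = true := by decide +kernel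
theorem e8Nw7_1_42 : allRange 42 45 ((fun a => decide (Nw Cfsg.Lie.chevE8 reflE8 (dlE87.getD a []) = nwE87.getD a 0))) = true := by decide +kernel
theorem e8Nw7_1_45 : allRange 45 48 ((fun a => decide (Nw Cfsg.Lie.chevE8 reflE8 (dlE87.getD a []) = nwE87.getD a 0))) = true := by decide +kernel

/-- The numbers of inversions of the representatives of step 7 of type E8 (roots 24 to 47). -/
theorem e8Nw7_1 : ∀ r, 24 ≤ r → r < 48 → ((fun a => decide (Nw Cfsg.Lie.chevE8 reflE8 (dlE87.getD a []) = nwE87.getD a 0))) r = true := by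
  intro r h1 h2
  by_cases c0 : r < 27
  · exact allRange_spec e8Nw7_1_24 r (by omega) c0
  by_cases c1 : r < 30
  · exact allRange_spec e8Nw7_1_27 r (by omega) c1
  by_cases c2 : r < 33
  · exact allRange_spec e8Nw7_1_30 r (by omega) c2
  by_cases c3 : r < 36
  · exact allRange_spec e8Nw7_1_33 r (by omega) c3
  by_cases c4 : r < 39
  · exact allRange_spec e8Nw7_1_36 r (by omega) c4
  by_cases c5 : r < 42
  · exact allRange_spec e8Nw7_1_39 r (by omega) c5
  by_cases c6 : r < 45
  · exact allRange_spec e8Nw7_1_42 r (by omega) c6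
  exact allRange_spec e8Nw7_1_45 r (by omega) h2

end Cfsg.Agent.Lib.Helper3.ChevM
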