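import Cfsg.Prelude.Def_ChevE8
import Cfsg.Agent.Lib.Helper3.ChevData.E8Tabs
import Cfsg.Agent.Lib.Helper3.ChevData.E8OrdTab
import Cfsg.Agent.Lib.Helper3.ChevO2
import Cfsg.Agent.Lib.Helper3.ChevData.E8Nw7Tab
set_option autoImplicit false
set_option maxRecDepth 1000000
set_option Elab.async false

namespace Cfsg.Agent.Lib.Helper3.ChevM

theorem e8Nw7_2_48 : allRange 48 51 ((fun a => decide (Nw Cfsg.Lie.chevE8 reflE8 (dlE87.getD a []) = nwE87.getD a 0))) = true := by decide +kernel
theorem e8Nw7_2_51 : allRange 51 54 ((fun a => decide (Nw Cfsg.Lie.chevE8 reflE8 (dlE87.getD a []) = nwE87.getD a 0))) = true := by decide +kernel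
theorem e8Nw7_2_54 : allRange 54 57 ((fun a => decide (Nw Cfsg.Lie.chevE8 reflE8 (dlE87.getD a []) = nwE87.getD a 0))) = true := by decide +kernel
theorem e8Nw7_2_57 : allRange 57 60 ((fun a => decide (Nw Cfsg.Lie.chevE8 reflE8 (dlE87.getD a []) = nwE87.getD a 0))) = true := by decide +kernel
theorem e8Nw7_2_60 : allRange 60 63 ((fun a => decide (Nw Cfsg.Lie.chevE8 reflE8 (dlE87.getD a []) = nwE87.getD a 0))) = true := by decide +kernel
theorem e8Nw7_2_63 : allRange 63 66 ((fun a => decide (Nw Cfsg.Lie.chevE8 reflE8 (dlE87.getD a []) = nwE87.getD a 0))) = true := by decide +kernel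
theorem e8Nw7_2_66 : allRange 66 69 ((fun a => decide (Nw Cfsg.Lie.chevE8 reflE8 (dlE87.getD a []) = nwE87.getD a 0))) = true := by decide +kernel
theorem e8Nw7_2_69 : allRange 69 72 ((fun a => decide (Nw Cfsg.Lie.chevE8 reflE8 (dlE87.getD a []) = nwE87.getD a 0))) = true := by decide +kernel

/-- The numbers of inversions of the representatives of step 7 of type E8 (roots 48 to 71). -/
theorem e8Nw7_2 : ∀ r, 48 ≤ r → r < 72 → ((fun a => decide (Nw Cfsg.Lie.chevE8 reflE8 (dlE87.getD a []) = nwE87.getD a 0))) r = true := by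
  intro r h1 h2
  by_cases c0 : r < 51
  · exact allRange_spec e8Nw7_2_48 r (by omega) c0
  by_cases c1 : r < 54
  · exact allRange_spec e8Nw7_2_51 r (by omega) c1
  by_cases c2 : r < 57
  · exact allRange_spec e8Nw7_2_54 r (by omega) c2
  by_cases c3 : r < 60
  · exact allRange_spec e8Nw7_2_57 r (by omega) c3
  by_cases c4 : r < 63
  · exact allRange_spec e8Nw7_2_60 r (by omega) c4
  by_cases c5 : r < 66
  · exact allRange_spec e8Nw7_2_63 r (by omega) c5
  by_cases c6 : r < 69
  · exact allRange_spec e8Nw7_2_66 r (by omega) c6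
  exact allRange_spec e8Nw7_2_69 r (by omega) h2

end Cfsg.Agent.Lib.Helper3.ChevM
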