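import Cfsg.Prelude.Def_ChevE8
import Cfsg.Agent.Lib.Helper3.ChevData.E8Tabs
import Cfsg.Agent.Lib.Helper3.ChevData.E8OrdTab
import Cfsg.Agent.Lib.Helper3.ChevO2
import Cfsg.Agent.Lib.Helper3.ChevData.E8Nw7Tab
set_option autoImplicit false
set_option maxRecDepth 1000000
set_option Elab.async false

namespace Cfsg.Agent.Lib.Helper3.ChevM

theorem e8Nw7_3_72 : allRange 72 75 ((fun a => decide (Nw Cfsg.Lie.chevE8 reflE8 (dlE87.getD a []) = nwE87.getD a 0))) = true := by decide +kernel
theorem e8Nw7_3_75 : allRange 75 78 ((fun a => decide (Nw Cfsg.Lie.chevE8 reflE8 (dlE87.getD a []) = nwE87.getD a 0))) = true := by decide +kernel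
theorem e8Nw7_3_78 : allRange 78 81 ((fun a => decide (Nw Cfsg.Lie.chevE8 reflE8 (dlE87.getD a []) = nwE87.getD a 0))) = true := by decide +kernel
theorem e8Nw7_3_81 : allRange 81 84 ((fun a => decide (Nw Cfsg.Lie.chevE8 reflE8 (dlE87.getD a []) = nwE87.getD a 0))) = true := by decide +kernel
theorem e8Nw7_3_84 : allRange 84 87 ((fun a => decide (Nw Cfsg.Lie.chevE8 reflE8 (dlE87.getD a []) = nwE87.getD a 0))) = true := by decide +kernel
theorem e8Nw7_3_87 : allRange 87 90 ((fun a => decide (Nw Cfsg.Lie.chevE8 reflE8 (dlE87.getD a []) = nwE87.getD a 0))) = true := by decide +kernel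
theorem e8Nw7_3_90 : allRange 90 93 ((fun a => decide (Nw Cfsg.Lie.chevE8 reflE8 (dlE87.getD a []) = nwE87.getD a 0))) = true := by decide +kernel
theorem e8Nw7_3_93 : allRange 93 96 ((fun a => decide (Nw Cfsg.Lie.chevE8 reflE8 (dlE87.getD a []) = nwE87.getD a 0))) = true := by decide +kernel

/-- The numbers of inversions of the representatives of step 7 of type E8 (roots 72 to 95). -/
theorem e8Nw7_3 : ∀ r, 72 ≤ r → r < 96 → ((fun a => decide (Nw Cfsg.Lie.chevE8 reflE8 (dlE87.getD a []) = nwE87.getD a 0))) r = true := by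
  intro r h1 h2
  by_cases c0 : r < 75
  · exact allRange_spec e8Nw7_3_72 r (by omega) c0
  by_cases c1 : r < 78
  · exact allRange_spec e8Nw7_3_75 r (by omega) c1
  by_cases c2 : r < 81
  · exact allRange_spec e8Nw7_3_78 r (by omega) c2
  by_cases c3 : r < 84
  · exact allRange_spec e8Nw7_3_81 r (by omega) c3
  by_cases c4 : r < 87
  · exact allRange_spec e8Nw7_3_84 r (by omega) c4
  by_cases c5 : r < 90
  · exact allRange_spec e8Nw7_3_87 r (by omega) c5
  by_cases c6 : r < 93
  · exact allRange_spec e8Nw7_3_90 r (by omega) c6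
  exact allRange_spec e8Nw7_3_93 r (by omega) h2

end Cfsg.Agent.Lib.Helper3.ChevM
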