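import Cfsg.Prelude.Def_ChevE8
import Cfsg.Agent.Lib.Helper3.ChevData.E8Tabs
import Cfsg.Agent.Lib.Helper3.ChevData.E8OrdTab
import Cfsg.Agent.Lib.Helper3.ChevO2
import Cfsg.Agent.Lib.Helper3.ChevData.E8Nw7Tab
set_option autoImplicit false
set_option maxRecDepth 1000000
set_option Elab.async false

namespace Cfsg.Agent.Lib.Helper3.ChevM

theorem e8Nw7_4_96 : allRange 96 99 ((fun a => decide (Nw Cfsg.Lie.chevE8 reflE8 (dlE87.getD a []) = nwE87.getD a 0))) = true := by decide +kernel
theorem e8Nw7_4_99 : allRange 99 102 ((fun a => decide (Nw Cfsg.Lie.chevE8 reflE8 (dlE87.getD a []) = nwE87.getD a 0))) = true := by decide +kernel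
theorem e8Nw7_4_102 : allRange 102 105 ((fun a => decide (Nw Cfsg.Lie.chevE8 reflE8 (dlE87.getD a []) = nwE87.getD a 0))) = true := by decide +kernel
theorem e8Nw7_4_105 : allRange 105 108 ((fun a => decide (Nw Cfsg.Lie.chevE8 reflE8 (dlE87.getD a []) = nwE87.getD a 0))) = true := by decide +kernel
theorem e8Nw7_4_108 : allRange 108 111 ((fun a => decide (Nw Cfsg.Lie.chevE8 reflE8 (dlE87.getD a []) = nwE87.getD a 0))) = true := by decide +kernel
theorem e8Nw7_4_111 : allRange 111 114 ((fun a => decide (Nw Cfsg.Lie.chevE8 reflE8 (dlE87.getD a []) = nwE87.getD a 0))) = true := by decide +kernel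
theorem e8Nw7_4_114 : allRange 114 117 ((fun a => decide (Nw Cfsg.Lie.chevE8 reflE8 (dlE87.getD a []) = nwE87.getD a 0))) = true := by decide +kernel
theorem e8Nw7_4_117 : allRange 117 120 ((fun a => decide (Nw Cfsg.Lie.chevE8 reflE8 (dlE87.getD a []) = nwE87.getD a 0))) = true := by decide +kernel

/-- The numbers of inversions of the representatives of step 7 of type E8 (roots 96 to 119). -/
theorem e8Nw7_4 : ∀ r, 96 ≤ r → r < 120 → ((fun a => decide (Nw Cfsg.Lie.chevE8 reflE8 (dlE87.getD a []) = nwE87.getD a 0))) r = true := by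
  intro r h1 h2
  by_cases c0 : r < 99
  · exact allRange_spec e8Nw7_4_96 r (by omega) c0
  by_cases c1 : r < 102
  · exact allRange_spec e8Nw7_4_99 r (by omega) c1
  by_cases c2 : r < 105
  · exact allRange_spec e8Nw7_4_102 r (by omega) c2
  by_cases c3 : r < 108
  · exact allRange_spec e8Nw7_4_105 r (by omega) c3
  by_cases c4 : r < 111
  · exact allRange_spec e8Nw7_4_108 r (by omega) c4
  by_cases c5 : r < 114
  · exact allRange_spec e8Nw7_4_111 r (by omega) c5
  by_cases c6 : r < 117
  · exact allRange_spec e8Nw7_4_114 r (by omega) c6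
  exact allRange_spec e8Nw7_4_117 r (by omega) h2

end Cfsg.Agent.Lib.Helper3.ChevM
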