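import Cfsg.Prelude.Def_ChevE8
import Cfsg.Agent.Lib.Helper3.ChevData.E8Tabs
import Cfsg.Agent.Lib.Helper3.ChevData.E8OrdTab
import Cfsg.Agent.Lib.Helper3.ChevO2
import Cfsg.Agent.Lib.Helper3.ChevData.E8Nw7Tab
set_option autoImplicit false
set_option maxRecDepth 1000000
set_option Elab.async false

namespace Cfsg.Agent.Lib.Helper3.ChevM

theorem e8Nw7_5_120 : allRange 120 123 ((fun a => decide (Nw Cfsg.Lie.chevE8 reflE8 (dlE87.getD a []) = nwE87.getD a 0))) = true := by decide +kernel
theorem e8Nw7_5_123 : allRange 123 126 ((fun a => decide (Nw Cfsg.Lie.chevE8 reflE8 (dlE87.getD a []) = nwE87.getD a 0))) = true := by decide +kernel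
theorem e8Nw7_5_126 : allRange 126 129 ((fun a => decide (Nw Cfsg.Lie.chevE8 reflE8 (dlE87.getD a []) = nwE87.getD a 0))) = true := by decide +kernel
theorem e8Nw7_5_129 : allRange 129 132 ((fun a => decide (Nw Cfsg.Lie.chevE8 reflE8 (dlE87.getD a []) = nwE87.getD a 0))) = true := by decide +kernel
theorem e8Nw7_5_132 : allRange 132 135 ((fun a => decide (Nw Cfsg.Lie.chevE8 reflE8 (dlE87.getD a []) = nwE87.getD a 0))) = true := by decide +kernel
theorem e8Nw7_5_135 : allRange 135 138 ((fun a => decide (Nw Cfsg.Lie.chevE8 reflE8 (dlE87.getD a []) = nwE87.getD a 0))) = true := by decide +kernel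
theorem e8Nw7_5_138 : allRange 138 141 ((fun a => decide (Nw Cfsg.Lie.chevE8 reflE8 (dlE87.getD a []) = nwE87.getD a 0))) = true := by decide +kernel
theorem e8Nw7_5_141 : allRange 141 144 ((fun a => decide (Nw Cfsg.Lie.chevE8 reflE8 (dlE87.getD a []) = nwE87.getD a 0))) = true := by decide +kernel

/-- The numbers of inversions of the representatives of step 7 of type E8 (roots 120 to 143). -/
theorem e8Nw7_5 : ∀ r, 120 ≤ r → r < 144 → ((fun a => decide (Nw Cfsg.Lie.chevE8 reflE8 (dlE87.getD a []) = nwE87.getD a 0))) r = true := by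
  intro r h1 h2
  by_cases c0 : r < 123
  · exact allRange_spec e8Nw7_5_120 r (by omega) c0
  by_cases c1 : r < 126
  · exact allRange_spec e8Nw7_5_123 r (by omega) c1
  by_cases c2 : r < 129
  · exact allRange_spec e8Nw7_5_126 r (by omega) c2
  by_cases c3 : r < 132
  · exact allRange_spec e8Nw7_5_129 r (by omega) c3
  by_cases c4 : r < 135
  · exact allRange_spec e8Nw7_5_132 r (by omega) c4
  by_cases c5 : r < 138
  · exact allRange_spec e8Nw7_5_135 r (by omega) c5
  by_cases c6 : r < 141
  · exact allRange_spec e8Nw7_5_138 r (by omega) c6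
  exact allRange_spec e8Nw7_5_141 r (by omega) h2

end Cfsg.Agent.Lib.Helper3.ChevM
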