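import Cfsg.Prelude.Def_ChevE8
import Cfsg.Agent.Lib.Helper3.ChevData.E8Tabs
import Cfsg.Agent.Lib.Helper3.ChevData.E8OrdTab
import Cfsg.Agent.Lib.Helper3.ChevO2
import Cfsg.Agent.Lib.Helper3.ChevData.E8Nw7Tab
set_option autoImplicit false
set_option maxRecDepth 1000000
set_option Elab.async false

namespace Cfsg.Agent.Lib.Helper3.ChevM

theorem e8Nw7_6_144 : allRange 144 147 ((fun a => decide (Nw Cfsg.Lie.chevE8 reflE8 (dlE87.getD a []) = nwE87.getD a 0))) = true := by decide +kernel
theorem e8Nw7_6_147 : allRange 147 150 ((fun a => decide (Nw Cfsg.Lie.chevE8 reflE8 (dlE87.getD a []) = nwE87.getD a 0))) = true := by decide +kernel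
theorem e8Nw7_6_150 : allRange 150 153 ((fun a => decide (Nw Cfsg.Lie.chevE8 reflE8 (dlE87.getD a []) = nwE87.getD a 0))) = true := by decide +kernel
theorem e8Nw7_6_153 : allRange 153 156 ((fun a => decide (Nw Cfsg.Lie.chevE8 reflE8 (dlE87.getD a []) = nwE87.getD a 0))) = true := by decide +kernel
theorem e8Nw7_6_156 : allRange 156 159 ((fun a => decide (Nw Cfsg.Lie.chevE8 reflE8 (dlE87.getD a []) = nwE87.getD a 0))) = true := by decide +kernel
theorem e8Nw7_6_159 : allRange 159 162 ((fun a => decide (Nw Cfsg.Lie.chevE8 reflE8 (dlE87.getD a []) = nwE87.getD a 0))) = true := by decide +kernel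
theorem e8Nw7_6_162 : allRange 162 165 ((fun a => decide (Nw Cfsg.Lie.chevE8 reflE8 (dlE87.getD a []) = nwE87.getD a 0))) = true := by decide +kernel
theorem e8Nw7_6_165 : allRange 165 168 ((fun a => decide (Nw Cfsg.Lie.chevE8 reflE8 (dlE87.getD a []) = nwE87.getD a 0))) = true := by decide +kernel

/-- The numbers of inversions of the representatives of step 7 of type E8 (roots 144 to 167). -/
theorem e8Nw7_6 : ∀ r, 144 ≤ r → r < 168 → ((fun a => decide (Nw Cfsg.Lie.chevE8 reflE8 (dlE87.getD a []) = nwE87.getD a 0))) r = true := by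
  intro r h1 h2
  by_cases c0 : r < 147
  · exact allRange_spec e8Nw7_6_144 r (by omega) c0
  by_cases c1 : r < 150
  · exact allRange_spec e8Nw7_6_147 r (by omega) c1
  by_cases c2 : r < 153
  · exact allRange_spec e8Nw7_6_150 r (by omega) c2
  by_cases c3 : r < 156
  · exact allRange_spec e8Nw7_6_153 r (by omega) c3
  by_cases c4 : r < 159
  · exact allRange_spec e8Nw7_6_156 r (by omega) c4
  by_cases c5 : r < 162
  · exact allRange_spec e8Nw7_6_159 r (by omega) c5
  by_cases c6 : r < 165
  · exact allRange_spec e8Nw7_6_162 r (by omega) c6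
  exact allRange_spec e8Nw7_6_165 r (by omega) h2

end Cfsg.Agent.Lib.Helper3.ChevM
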