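import Cfsg.Prelude.Def_ChevE8
import Cfsg.Agent.Lib.Helper3.ChevData.E8Tabs
import Cfsg.Agent.Lib.Helper3.ChevData.E8OrdTab
import Cfsg.Agent.Lib.Helper3.ChevO2
import Cfsg.Agent.Lib.Helper3.ChevData.E8Nw7Tab
set_option autoImplicit false
set_option maxRecDepth 1000000
set_option Elab.async false

namespace Cfsg.Agent.Lib.Helper3.ChevM

theorem e8Nw7_7_168 : allRange 168 171 ((fun a => decide (Nw Cfsg.Lie.chevE8 reflE8 (dlE87.getD a []) = nwE87.getD a 0))) = true := by decide +kernel
theorem e8Nw7_7_171 : allRange 171 174 ((fun a => decide (Nw Cfsg.Lie.chevE8 reflE8 (dlE87.getD a []) = nwE87.getD a 0))) = true := by decide +kernel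
theorem e8Nw7_7_174 : allRange 174 177 ((fun a => decide (Nw Cfsg.Lie.chevE8 reflE8 (dlE87.getD a []) = nwE87.getD a 0))) = true := by decide +kernel
theorem e8Nw7_7_177 : allRange 177 180 ((fun a => decide (Nw Cfsg.Lie.chevE8 reflE8 (dlE87.getD a []) = nwE87.getD a 0))) = true := by decide +kernel
theorem e8Nw7_7_180 : allRange 180 183 ((fun a => decide (Nw Cfsg.Lie.chevE8 reflE8 (dlE87.getD a []) = nwE87.getD a 0))) = true := by decide +kernel
theorem e8Nw7_7_183 : allRange 183 186 ((fun a => decide (Nw Cfsg.Lie.chevE8 reflE8 (dlE87.getD a []) = nwE87.getD a 0))) = true := by decide +kernel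
theorem e8Nw7_7_186 : allRange 186 189 ((fun a => decide (Nw Cfsg.Lie.chevE8 reflE8 (dlE87.getD a []) = nwE87.getD a 0))) = true := by decide +kernel
theorem e8Nw7_7_189 : allRange 189 192 ((fun a => decide (Nw Cfsg.Lie.chevE8 reflE8 (dlE87.getD a []) = nwE87.getD a 0))) = true := by decide +kernel

/-- The numbers of inversions of the representatives of step 7 of type E8 (roots 168 to 191). -/
theorem e8Nw7_7 : ∀ r, 168 ≤ r → r < 192 → ((fun a => decide (Nw Cfsg.Lie.chevE8 reflE8 (dlE87.getD a []) = nwE87.getD a 0))) r = true := by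
  intro r h1 h2
  by_cases c0 : r < 171
  · exact allRange_spec e8Nw7_7_168 r (by omega) c0
  by_cases c1 : r < 174
  · exact allRange_spec e8Nw7_7_171 r (by omega) c1
  by_cases c2 : r < 177
  · exact allRange_spec e8Nw7_7_174 r (by omega) c2
  by_cases c3 : r < 180
  · exact allRange_spec e8Nw7_7_177 r (by omega) c3
  by_cases c4 : r < 183
  · exact allRange_spec e8Nw7_7_180 r (by omega) c4
  by_cases c5 : r < 186
  · exact allRange_spec e8Nw7_7_183 r (by omega) c5
  by_cases c6 : r < 189
  · exact allRange_spec e8Nw7_7_186 r (by omega) c6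
  exact allRange_spec e8Nw7_7_189 r (by omega) h2

end Cfsg.Agent.Lib.Helper3.ChevM
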