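import Cfsg.Prelude.Def_ChevE8
import Cfsg.Agent.Lib.Helper3.ChevData.E8Tabs
import Cfsg.Agent.Lib.Helper3.ChevData.E8OrdTab
import Cfsg.Agent.Lib.Helper3.ChevO2
import Cfsg.Agent.Lib.Helper3.ChevData.E8Nw7Tab
set_option autoImplicit false
set_option maxRecDepth 1000000
set_option Elab.async false

namespace Cfsg.Agent.Lib.Helper3.ChevM

theorem e8Nw7_8_192 : allRange 192 195 ((fun a => decide (Nw Cfsg.Lie.chevE8 reflE8 (dlE87.getD a []) = nwE87.getD a 0))) = true := by decide +kernel
theorem e8Nw7_8_195 : allRange 195 198 ((fun a => decide (Nw Cfsg.Lie.chevE8 reflE8 (dlE87.getD a []) = nwE87.getD a 0))) = true := by decide +kernel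
theorem e8Nw7_8_198 : allRange 198 201 ((fun a => decide (Nw Cfsg.Lie.chevE8 reflE8 (dlE87.getD a []) = nwE87.getD a 0))) = true := by decide +kernel
theorem e8Nw7_8_201 : allRange 201 204 ((fun a => decide (Nw Cfsg.Lie.chevE8 reflE8 (dlE87.getD a []) = nwE87.getD a 0))) = true := by decide +kernel
theorem e8Nw7_8_204 : allRange 204 207 ((fun a => decide (Nw Cfsg.Lie.chevE8 reflE8 (dlE87.getD a []) = nwE87.getD a 0))) = true := by decide +kernel
theorem e8Nw7_8_207 : allRange 207 210 ((fun a => decide (Nw Cfsg.Lie.chevE8 reflE8 (dlE87.getD a []) = nwE87.getD a 0))) = true := by decide +kernel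
theorem e8Nw7_8_210 : allRange 210 213 ((fun a => decide (Nw Cfsg.Lie.chevE8 reflE8 (dlE87.getD a []) = nwE87.getD a 0))) = true := by decide +kernel
theorem e8Nw7_8_213 : allRange 213 216 ((fun a => decide (Nw Cfsg.Lie.chevE8 reflE8 (dlE87.getD a []) = nwE87.getD a 0))) = true := by decide +kernel

/-- The numbers of inversions of the representatives of step 7 of type E8 (roots 192 to 215). -/
theorem e8Nw7_8 : ∀ r, 192 ≤ r → r < 216 → ((fun a => decide (Nw Cfsg.Lie.chevE8 reflE8 (dlE87.getD a []) = nwE87.getD a 0))) r = true := by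
  intro r h1 h2
  by_cases c0 : r < 195
  · exact allRange_spec e8Nw7_8_192 r (by omega) c0
  by_cases c1 : r < 198
  · exact allRange_spec e8Nw7_8_195 r (by omega) c1
  by_cases c2 : r < 201
  · exact allRange_spec e8Nw7_8_198 r (by omega) c2
  by_cases c3 : r < 204
  · exact allRange_spec e8Nw7_8_201 r (by omega) c3
  by_cases c4 : r < 207
  · exact allRange_spec e8Nw7_8_204 r (by omega) c4
  by_cases c5 : r < 210
  · exact allRange_spec e8Nw7_8_207 r (by omega) c5
  by_cases c6 : r < 213
  · exact allRange_spec e8Nw7_8_210 r (by omega) c6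
  exact allRange_spec e8Nw7_8_213 r (by omega) h2

end Cfsg.Agent.Lib.Helper3.ChevM
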