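import Cfsg.Prelude.Def_ChevE8
import Cfsg.Agent.Lib.Helper3.ChevData.E8Tabs
import Cfsg.Agent.Lib.Helper3.ChevData.E8OrdTab
import Cfsg.Agent.Lib.Helper3.ChevO2
import Cfsg.Agent.Lib.Helper3.ChevData.E8Nw7Tab
set_option autoImplicit false
set_option maxRecDepth 1000000
set_option Elab.async false

namespace Cfsg.Agent.Lib.Helper3.ChevM

theorem e8Nw7_9_216 : allRange 216 219 ((fun a => decide (Nw Cfsg.Lie.chevE8 reflE8 (dlE87.getD a []) = nwE87.getD a 0))) = true := by decide +kernel
theorem e8Nw7_9_219 : allRange 219 222 ((fun a => decide (Nw Cfsg.Lie.chevE8 reflE8 (dlE87.getD a []) = nwE87.getD a 0))) = true := by decide +kernel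
theorem e8Nw7_9_222 : allRange 222 225 ((fun a => decide (Nw Cfsg.Lie.chevE8 reflE8 (dlE87.getD a []) = nwE87.getD a 0))) = true := by decide +kernel
theorem e8Nw7_9_225 : allRange 225 228 ((fun a => decide (Nw Cfsg.Lie.chevE8 reflE8 (dlE87.getD a []) = nwE87.getD a 0))) = true := by decide +kernel
theorem e8Nw7_9_228 : allRange 228 231 ((fun a => decide (Nw Cfsg.Lie.chevE8 reflE8 (dlE87.getD a []) = nwE87.getD a 0))) = true := by decide +kernel
theorem e8Nw7_9_231 : allRange 231 234 ((fun a => decide (Nw Cfsg.Lie.chevE8 reflE8 (dlE87.getD a []) = nwE87.getD a 0))) = true := by decide +kernel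
theorem e8Nw7_9_234 : allRange 234 237 ((fun a => decide (Nw Cfsg.Lie.chevE8 reflE8 (dlE87.getD a []) = nwE87.getD a 0))) = true := by decide +kernel
theorem e8Nw7_9_237 : allRange 237 240 ((fun a => decide (Nw Cfsg.Lie.chevE8 reflE8 (dlE87.getD a []) = nwE87.getD a 0))) = true := by decide +kernel

/-- The numbers of inversions of the representatives of step 7 of type E8 (roots 216 to 239). -/
theorem e8Nw7_9 : ∀ r, 216 ≤ r → r < 240 → ((fun a => decide (Nw Cfsg.Lie.chevE8 reflE8 (dlE87.getD a []) = nwE87.getD a 0))) r = true := by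
  intro r h1 h2
  by_cases c0 : r < 219
  · exact allRange_spec e8Nw7_9_216 r (by omega) c0
  by_cases c1 : r < 222
  · exact allRange_spec e8Nw7_9_219 r (by omega) c1
  by_cases c2 : r < 225
  · exact allRange_spec e8Nw7_9_222 r (by omega) c2
  by_cases c3 : r < 228
  · exact allRange_spec e8Nw7_9_225 r (by omega) c3
  by_cases c4 : r < 231
  · exact allRange_spec e8Nw7_9_228 r (by omega) c4
  by_cases c5 : r < 234
  · exact allRange_spec e8Nw7_9_231 r (by omega) c5
  by_cases c6 : r < 237
  · exact allRange_spec e8Nw7_9_234 r (by omega) c6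
  exact allRange_spec e8Nw7_9_237 r (by omega) h2

end Cfsg.Agent.Lib.Helper3.ChevM
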