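import Cfsg.Agent.Lib.Helper3.ChevData.E8Nw7A
import Cfsg.Agent.Lib.Helper3.ChevData.E8Nw7B
import Cfsg.Agent.Lib.Helper3.ChevData.E8Nw7C
import Cfsg.Agent.Lib.Helper3.ChevData.E8Nw7D
import Cfsg.Agent.Lib.Helper3.ChevData.E8Nw7E
import Cfsg.Agent.Lib.Helper3.ChevData.E8Nw7F
import Cfsg.Agent.Lib.Helper3.ChevData.E8Nw7G
import Cfsg.Agent.Lib.Helper3.ChevData.E8Nw7H
import Cfsg.Agent.Lib.Helper3.ChevData.E8Nw7I
import Cfsg.Agent.Lib.Helper3.ChevData.E8Nw7J
set_option autoImplicit false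

namespace Cfsg.Agent.Lib.Helper3.ChevM

/-- The numbers of inversions of the representatives of step 7 of type E8. -/
theorem e8Nw7 : ∀ r < 240, ((fun a => decide (Nw Cfsg.Lie.chevE8 reflE8 (dlE87.getD a []) = nwE87.getD a 0))) r = true := by
  intro r hr
  by_cases h0 : r < 24
  · exact e8Nw7_0 r (by omega) h0
  by_cases h1 : r < 48
  · exact e8Nw7_1 r (by omega) h1
  by_cases h2 : r < 72
  · exact e8Nw7_2 r (by omega) h2
  by_cases h3 : r < 96
  · exact e8Nw7_3 r (by omega) h3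
  by_cases h4 : r < 120
  · exact e8Nw7_4 r (by omega) h4
  by_cases h5 : r < 144
  · exact e8Nw7_5 r (by omega) h5
  by_cases h6 : r < 168
  · exact e8Nw7_6 r (by omega) h6
  by_cases h7 : r < 192
  · exact e8Nw7_7 r (by omega) h7
  by_cases h8 : r < 216
  · exact e8Nw7_8 r (by omega) h8
  exact e8Nw7_9 r (by omega) hr

end Cfsg.Agent.Lib.Helper3.ChevM
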