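import Cfsg.Prelude.Def_ChevE8
import Cfsg.Agent.Lib.Helper3.ChevData.E8Tabs
import Cfsg.Agent.Lib.Helper3.ChevData.E8OrdTab
import Cfsg.Agent.Lib.Helper3.ChevO2
set_option autoImplicit false
set_option maxRecDepth 1000000
set_option Elab.async false

namespace Cfsg.Agent.Lib.Helper3.ChevM

theorem e8Ot7_1_988 : allRange 988 1014 ((fun p => stepCheck Cfsg.Lie.chevE8 reflE8 7 dlE87 nxtE87 (p / 8) (p % 8))) = true := by decide +kernel
theorem e8Ot7_1_1014 : allRange 1014 1040 ((fun p => stepCheck Cfsg.Lie.chevE8 reflE8 7 dlE87 nxtE87 (p / 8) (p % 8))) = true := by decide +kernel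
theorem e8Ot7_1_1040 : allRange 1040 1066 ((fun p => stepCheck Cfsg.Lie.chevE8 reflE8 7 dlE87 nxtE87 (p / 8) (p % 8))) = true := by decide +kernel
theorem e8Ot7_1_1066 : allRange 1066 1092 ((fun p => stepCheck Cfsg.Lie.chevE8 reflE8 7 dlE87 nxtE87 (p / 8) (p % 8))) = true := by decide +kernel
theorem e8Ot7_1_1092 : allRange 1092 1118 ((fun p => stepCheck Cfsg.Lie.chevE8 reflE8 7 dlE87 nxtE87 (p / 8) (p % 8))) = true := by decide +kernel
theorem e8Ot7_1_1118 : allRange 1118 1144 ((fun p => stepCheck Cfsg.Lie.chevE8 reflE8 7 dlE87 nxtE87 (p / 8) (p % 8))) = true := by decide +kernel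
theorem e8Ot7_1_1144 : allRange 1144 1170 ((fun p => stepCheck Cfsg.Lie.chevE8 reflE8 7 dlE87 nxtE87 (p / 8) (p % 8))) = true := by decide +kernel
theorem e8Ot7_1_1170 : allRange 1170 1196 ((fun p => stepCheck Cfsg.Lie.chevE8 reflE8 7 dlE87 nxtE87 (p / 8) (p % 8))) = true := by decide +kernel
theorem e8Ot7_1_1196 : allRange 1196 1222 ((fun p => stepCheck Cfsg.Lie.chevE8 reflE8 7 dlE87 nxtE87 (p / 8) (p % 8))) = true := by decide +kernel
theorem e8Ot7_1_1222 : allRange 1222 1248 ((fun p => stepCheck Cfsg.Lie.chevE8 reflE8 7 dlE87 nxtE87 (p / 8) (p % 8))) = true := by decide +kernel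
theorem e8Ot7_1_1248 : allRange 1248 1274 ((fun p => stepCheck Cfsg.Lie.chevE8 reflE8 7 dlE87 nxtE87 (p / 8) (p % 8))) = true := by decide +kernel
theorem e8Ot7_1_1274 : allRange 1274 1300 ((fun p => stepCheck Cfsg.Lie.chevE8 reflE8 7 dlE87 nxtE87 (p / 8) (p % 8))) = true := by decide +kernel
theorem e8Ot7_1_1300 : allRange 1300 1326 ((fun p => stepCheck Cfsg.Lie.chevE8 reflE8 7 dlE87 nxtE87 (p / 8) (p % 8))) = true := by decide +kernel
theorem e8Ot7_1_1326 : allRange 1326 1352 ((fun p => stepCheck Cfsg.Lie.chevE8 reflE8 7 dlE87 nxtE87 (p / 8) (p % 8))) = true := by decide +kernel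
theorem e8Ot7_1_1352 : allRange 1352 1378 ((fun p => stepCheck Cfsg.Lie.chevE8 reflE8 7 dlE87 nxtE87 (p / 8) (p % 8))) = true := by decide +kernel
theorem e8Ot7_1_1378 : allRange 1378 1404 ((fun p => stepCheck Cfsg.Lie.chevE8 reflE8 7 dlE87 nxtE87 (p / 8) (p % 8))) = true := by decide +kernel
theorem e8Ot7_1_1404 : allRange 1404 1430 ((fun p => stepCheck Cfsg.Lie.chevE8 reflE8 7 dlE87 nxtE87 (p / 8) (p % 8))) = true := by decide +kernel
theorem e8Ot7_1_1430 : allRange 1430 1456 ((fun p => stepCheck Cfsg.Lie.chevE8 reflE8 7 dlE87 nxtE87 (p / 8) (p % 8))) = true := by decide +kernel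
theorem e8Ot7_1_1456 : allRange 1456 1482 ((fun p => stepCheck Cfsg.Lie.chevE8 reflE8 7 dlE87 nxtE87 (p / 8) (p % 8))) = true := by decide +kernel
theorem e8Ot7_1_1482 : allRange 1482 1508 ((fun p => stepCheck Cfsg.Lie.chevE8 reflE8 7 dlE87 nxtE87 (p / 8) (p % 8))) = true := by decide +kernel
theorem e8Ot7_1_1508 : allRange 1508 1534 ((fun p => stepCheck Cfsg.Lie.chevE8 reflE8 7 dlE87 nxtE87 (p / 8) (p % 8))) = true := by decide +kernel
theorem e8Ot7_1_1534 : allRange 1534 1560 ((fun p => stepCheck Cfsg.Lie.chevE8 reflE8 7 dlE87 nxtE87 (p / 8) (p % 8))) = true := by decide +kernel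
theorem e8Ot7_1_1560 : allRange 1560 1586 ((fun p => stepCheck Cfsg.Lie.chevE8 reflE8 7 dlE87 nxtE87 (p / 8) (p % 8))) = true := by decide +kernel
theorem e8Ot7_1_1586 : allRange 1586 1612 ((fun p => stepCheck Cfsg.Lie.chevE8 reflE8 7 dlE87 nxtE87 (p / 8) (p % 8))) = true := by decide +kernel
theorem e8Ot7_1_1612 : allRange 1612 1638 ((fun p => stepCheck Cfsg.Lie.chevE8 reflE8 7 dlE87 nxtE87 (p / 8) (p % 8))) = true := by decide +kernel
theorem e8Ot7_1_1638 : allRange 1638 1664 ((fun p => stepCheck Cfsg.Lie.chevE8 reflE8 7 dlE87 nxtE87 (p / 8) (p % 8))) = true := by decide +kernel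
theorem e8Ot7_1_1664 : allRange 1664 1690 ((fun p => stepCheck Cfsg.Lie.chevE8 reflE8 7 dlE87 nxtE87 (p / 8) (p % 8))) = true := by decide +kernel
theorem e8Ot7_1_1690 : allRange 1690 1716 ((fun p => stepCheck Cfsg.Lie.chevE8 reflE8 7 dlE87 nxtE87 (p / 8) (p % 8))) = true := by decide +kernel
theorem e8Ot7_1_1716 : allRange 1716 1742 ((fun p => stepCheck Cfsg.Lie.chevE8 reflE8 7 dlE87 nxtE87 (p / 8) (p % 8))) = true := by decide +kernel
theorem e8Ot7_1_1742 : allRange 1742 1768 ((fun p => stepCheck Cfsg.Lie.chevE8 reflE8 7 dlE87 nxtE87 (p / 8) (p % 8))) = true := by decide +kernel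
theorem e8Ot7_1_1768 : allRange 1768 1794 ((fun p => stepCheck Cfsg.Lie.chevE8 reflE8 7 dlE87 nxtE87 (p / 8) (p % 8))) = true := by decide +kernel
theorem e8Ot7_1_1794 : allRange 1794 1820 ((fun p => stepCheck Cfsg.Lie.chevE8 reflE8 7 dlE87 nxtE87 (p / 8) (p % 8))) = true := by decide +kernel
theorem e8Ot7_1_1820 : allRange 1820 1846 ((fun p => stepCheck Cfsg.Lie.chevE8 reflE8 7 dlE87 nxtE87 (p / 8) (p % 8))) = true := by decide +kernel
theorem e8Ot7_1_1846 : allRange 1846 1872 ((fun p => stepCheck Cfsg.Lie.chevE8 reflE8 7 dlE87 nxtE87 (p / 8) (p % 8))) = true := by decide +kernel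
theorem e8Ot7_1_1872 : allRange 1872 1898 ((fun p => stepCheck Cfsg.Lie.chevE8 reflE8 7 dlE87 nxtE87 (p / 8) (p % 8))) = true := by decide +kernel
theorem e8Ot7_1_1898 : allRange 1898 1920 ((fun p => stepCheck Cfsg.Lie.chevE8 reflE8 7 dlE87 nxtE87 (p / 8) (p % 8))) = true := by decide +kernel

/-- Left multiplication of the representatives of step 7 of type E8 (roots 988 to 1919). -/
theorem e8Ot7_1 : ∀ r, 988 ≤ r → r < 1920 → ((fun p => stepCheck Cfsg.Lie.chevE8 reflE8 7 dlE87 nxtE87 (p / 8) (p % 8))) r = true := by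
  intro r h1 h2
  by_cases c0 : r < 1014
  · exact allRange_spec e8Ot7_1_988 r (by omega) c0
  by_cases c1 : r < 1040
  · exact allRange_spec e8Ot7_1_1014 r (by omega) c1
  by_cases c2 : r < 1066
  · exact allRange_spec e8Ot7_1_1040 r (by omega) c2
  by_cases c3 : r < 1092
  · exact allRange_spec e8Ot7_1_1066 r (by omega) c3
  by_cases c4 : r < 1118
  · exact allRange_spec e8Ot7_1_1092 r (by omega) c4
  by_cases c5 : r < 1144
  · exact allRange_spec e8Ot7_1_1118 r (by omega) c5
  by_cases c6 : r < 1170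
  · exact allRange_spec e8Ot7_1_1144 r (by omega) c6
  by_cases c7 : r < 1196
  · exact allRange_spec e8Ot7_1_1170 r (by omega) c7
  by_cases c8 : r < 1222
  · exact allRange_spec e8Ot7_1_1196 r (by omega) c8
  by_cases c9 : r < 1248
  · exact allRange_spec e8Ot7_1_1222 r (by omega) c9
  by_cases c10 : r < 1274
  · exact allRange_spec e8Ot7_1_1248 r (by omega) c10
  by_cases c11 : r < 1300
  · exact allRange_spec e8Ot7_1_1274 r (by omega) c11
  by_cases c12 : r < 1326
  · exact allRange_spec e8Ot7_1_1300 r (by omega) c12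
  by_cases c13 : r < 1352
  · exact allRange_spec e8Ot7_1_1326 r (by omega) c13
  by_cases c14 : r < 1378
  · exact allRange_spec e8Ot7_1_1352 r (by omega) c14
  by_cases c15 : r < 1404
  · exact allRange_spec e8Ot7_1_1378 r (by omega) c15
  by_cases c16 : r < 1430
  · exact allRange_spec e8Ot7_1_1404 r (by omega) c16
  by_cases c17 : r < 1456
  · exact allRange_spec e8Ot7_1_1430 r (by omega) c17
  by_cases c18 : r < 1482
  · exact allRange_spec e8Ot7_1_1456 r (by omega) c18
  by_cases c19 : r < 1508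
  · exact allRange_spec e8Ot7_1_1482 r (by omega) c19
  by_cases c20 : r < 1534
  · exact allRange_spec e8Ot7_1_1508 r (by omega) c20
  by_cases c21 : r < 1560
  · exact allRange_spec e8Ot7_1_1534 r (by omega) c21
  by_cases c22 : r < 1586
  · exact allRange_spec e8Ot7_1_1560 r (by omega) c22
  by_cases c23 : r < 1612
  · exact allRange_spec e8Ot7_1_1586 r (by omega) c23
  by_cases c24 : r < 1638
  · exact allRange_spec e8Ot7_1_1612 r (by omega) c24
  by_cases c25 : r < 1664
  · exact allRange_spec e8Ot7_1_1638 r (by omega) c25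
  by_cases c26 : r < 1690
  · exact allRange_spec e8Ot7_1_1664 r (by omega) c26
  by_cases c27 : r < 1716
  · exact allRange_spec e8Ot7_1_1690 r (by omega) c27
  by_cases c28 : r < 1742
  · exact allRange_spec e8Ot7_1_1716 r (by omega) c28
  by_cases c29 : r < 1768
  · exact allRange_spec e8Ot7_1_1742 r (by omega) c29
  by_cases c30 : r < 1794
  · exact allRange_spec e8Ot7_1_1768 r (by omega) c30
  by_cases c31 : r < 1820
  · exact allRange_spec e8Ot7_1_1794 r (by omega) c31
  by_cases c32 : r < 1846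
  · exact allRange_spec e8Ot7_1_1820 r (by omega) c32
  by_cases c33 : r < 1872
  · exact allRange_spec e8Ot7_1_1846 r (by omega) c33
  by_cases c34 : r < 1898
  · exact allRange_spec e8Ot7_1_1872 r (by omega) c34
  exact allRange_spec e8Ot7_1_1898 r (by omega) h2

end Cfsg.Agent.Lib.Helper3.ChevM
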