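import Cfsg.Agent.Lib.Helper3.ChevData.E8Ot7A
import Cfsg.Agent.Lib.Helper3.ChevData.E8Ot7B
set_option autoImplicit false

namespace Cfsg.Agent.Lib.Helper3.ChevM

/-- Left multiplication of the representatives of step 7 of type E8. -/
theorem e8Ot7 : ∀ r < 1920, ((fun p => stepCheck Cfsg.Lie.chevE8 reflE8 7 dlE87 nxtE87 (p / 8) (p % 8))) r = true := by
  intro r hr
  by_cases h0 : r < 988
  · exact e8Ot7_0 r (by omega) h0
  exact e8Ot7_1 r (by omega) hr

end Cfsg.Agent.Lib.Helper3.ChevM
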