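import Cfsg.Agent.Lib.Helper3.ChevData.E8Mono
import Cfsg.Agent.Lib.Helper3.ChevData.E8Hdec
import Cfsg.Agent.Lib.Helper3.ChevData.E8Sign
import Cfsg.Agent.Lib.Helper3.ChevData.E8Os7
import Cfsg.Agent.Lib.Helper3.ChevData.E8Or7
import Cfsg.Agent.Lib.Helper3.ChevData.E8Ot7
import Cfsg.Agent.Lib.Helper3.ChevData.E8Nw7
import Cfsg.Agent.Lib.Helper3.ChevO4
set_option autoImplicit false
set_option maxRecDepth 1000000

namespace Cfsg.Agent.Lib.Helper3.ChevM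

theorem e8Od7 : distinctCheck Cfsg.Lie.chevE8 reflE8 dlE87 = true := by decide +kernel

theorem e8On7 : dlE87.map (Nw Cfsg.Lie.chevE8 reflE8) = nwE87 := by
  apply list_map_eq_of_getD _ _ _ [] 0 (by decide +kernel)
  intro a ha
  have hlen : dlE87.length = 240 := by decide +kernel
  rw [hlen] at ha
  have := e8Nw7 a ha
  exact of_decide_eq_true this

/-- Step 7 of the factorisation of the Poincaré sum of type E8. -/
theorem e8Poin7 (q : ℕ) : poin cdE8.D relE8.refl (Set.Iio 8) q =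
    ([0, 1, 2, 3, 4, 5, 6, 6, 7, 7, 8, 8, 9, 9, 10, 10, 10, 11, 11, 11, 12, 12, 12, 12, 13, 13, 13, 13, 14, 14, 14, 14, 15, 15, 15, 15, 16, 16, 16, 16, 16, 17, 17, 17, 17, 17, 18, 18, 18, 18, 18, 18, 19, 19, 19, 19, 19, 19, 20, 20, 20, 20, 20, 20, 21, 21, 21, 21, 21, 21, 22, 22, 22, 22, 22, 22, 22, 23, 23, 23, 23, 23, 23, 23, 24, 24, 24, 24, 24, 24, 24, 25, 25, 25, 25, 25, 25, 25, 26, 26, 26, 26, 26, 26, 26, 27, 27, 27, 27, 27, 27, 27, 28, 28, 28, 28, 28, 28, 28, 28, 29, 29, 29, 29, 29, 29, 29, 29, 30, 30, 30, 30, 30, 30, 30, 31, 31, 31, 31, 31, 31, 31, 32, 32, 32, 32, 32, 32, 32, 33, 33, 33, 33, 33, 33, 33, 34, 34, 34, 34, 34, 34, 34, 35, 35, 35, 35, 35, 35, 35, 36, 36, 36, 36, 36, 36, 37, 37, 37, 37, 37, 37, 38, 38, 38, 38, 38, 38, 39, 39, 39, 39, 39, 39, 40, 40, 40, 40, 40, 41, 41, 41, 41, 41, 42, 42, 42, 42, 43, 43, 43, 43, 44, 44, 44, 44, 45, 45, 45, 45, 46, 46, 46, 47,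 47, 47, 48, 48, 49, 49, 50, 50, 51, 51, 52, 53, 54, 55, 56, 57].map fun e => q ^ e).sum * poin cdE8.D relE8.refl (Set.Iio 7) q := by
  have h := monoE8.poin_step (of_pairRange (m := 240) (n := 240) e8Hdec) e8Sign 7 e8Os7 dlE87 e8Or7 nxtE87
    (by decide +kernel) (of_pairRange (m := 240) (n := 8) e8Ot7) e8Od7 (by decide +kernel) q
  show poin cdE8.D relE8.refl (Set.Iio (7 + 1)) q = _
  have e : (dlE87.map fun d => q ^ Nw cdE8.D relE8.refl d) = (dlE87.map (Nw Cfsg.Lie.chevE8 reflE8)).map fun e => q ^ e := by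
    rw [List.map_map]; rfl
  rw [h, e, e8On7]
  rfl

end Cfsg.Agent.Lib.Helper3.ChevM
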