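import Cfsg.Agent.Lib.Helper3.ChevData.E8Ord0
import Cfsg.Agent.Lib.Helper3.ChevData.E8Ord1
import Cfsg.Agent.Lib.Helper3.ChevData.E8Ord2
import Cfsg.Agent.Lib.Helper3.ChevData.E8Ord3
import Cfsg.Agent.Lib.Helper3.ChevData.E8Ord4
import Cfsg.Agent.Lib.Helper3.ChevData.E8Ord5
import Cfsg.Agent.Lib.Helper3.ChevData.E8Ord6
import Cfsg.Agent.Lib.Helper3.ChevData.E8Ord7
import Cfsg.Agent.Lib.Helper3.ChevO3
set_option autoImplicit false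
set_option maxRecDepth 1000000

namespace Cfsg.Agent.Lib.Helper3.ChevM

/-- The Poincaré sum of the Weyl group of type E8. -/
theorem e8Poin (q : ℕ) : poin cdE8.D relE8.refl Set.univ q =
    ([0, 1, 2, 3, 4, 5, 6, 6, 7, 7, 8, 8, 9, 9, 10, 10, 10, 11, 11, 11, 12, 12, 12, 12, 13, 13, 13, 13, 14, 14, 14, 14, 15, 15, 15, 15, 16, 16, 16, 16, 16, 17, 17, 17, 17, 17, 18, 18, 18, 18, 18, 18, 19, 19, 19, 19, 19, 19, 20, 20, 20, 20, 20, 20, 21, 21, 21, 21, 21, 21, 22, 22, 22, 22, 22, 22, 22, 23, 23, 23, 23, 23, 23, 23, 24, 24, 24, 24, 24, 24, 24, 25, 25, 25, 25, 25, 25, 25, 26, 26, 26, 26, 26, 26, 26, 27, 27, 27, 27, 27, 27, 27, 28, 28, 28, 28, 28, 28, 28, 28, 29, 29, 29, 29, 29, 29, 29, 29, 30, 30, 30, 30, 30, 30, 30, 31, 31, 31, 31, 31, 31, 31, 32, 32, 32, 32, 32, 32, 32, 33, 33, 33, 33, 33, 33, 33, 34, 34, 34, 34, 34, 34, 34, 35,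 35, 35, 35, 35, 35, 35, 36, 36, 36, 36, 36, 36, 37, 37, 37, 37, 37, 37, 38, 38, 38, 38, 38, 38, 39, 39, 39, 39, 39, 39, 40, 40, 40, 40, 40, 41, 41, 41, 41, 41, 42, 42, 42, 42, 43, 43, 43, 43, 44, 44, 44, 44, 45, 45, 45, 45, 46, 46, 46, 47, 47, 47, 48, 48, 49, 49, 50, 50, 51, 51, 52, 53, 54, 55, 56, 57].map fun e => q ^ e).sum *
    ([0, 1, 2, 3, 4, 5, 5, 6, 6, 7, 7, 8, 8, 9, 9, 9, 10, 10, 10, 11, 11, 11, 12, 12, 12, 13, 13, 13, 14, 14, 14, 15, 15, 15, 16, 16, 16, 17, 17, 17, 18, 18, 18, 19, 19, 20, 20, 21, 21, 22, 22, 23, 24, 25, 26, 27].map fun e => q ^ e).sum *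
    ([0, 1, 2, 3, 4, 4, 5, 5, 6, 6, 7, 7, 8, 8, 8, 9, 9, 10, 10, 11, 11, 12, 12, 13, 14, 15, 16].map fun e => q ^ e).sum *
    ([0, 1, 2, 3, 3, 4, 4, 5, 5, 6, 6, 7, 7, 8, 9, 10].map fun e => q ^ e).sum *
    ([0, 1, 2, 2, 3, 3, 4, 4, 5, 6].map fun e => q ^ e).sum *
    ([0, 1, 2].map fun e => q ^ e).sum *
    ([0, 1].map fun e => q ^ e).sum *
    ([0, 1].map fun e => q ^ e).sum := by
  rw [poin_univ]
  show poin cdE8.D relE8.refl (Set.Iio 8) q = _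
  rw [e8Poin7, e8Poin6, e8Poin5, e8Poin4, e8Poin3, e8Poin2, e8Poin1, e8Poin0, poin_zero e8Sign]
  ring

end Cfsg.Agent.Lib.Helper3.ChevM
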