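import Cfsg.Prelude.Def_ChevE8
import Cfsg.Agent.Lib.Helper3.ChevData.E8Uni
import Cfsg.Agent.Lib.Helper3.ChevU3
set_option autoImplicit false
set_option maxRecDepth 1000000
set_option Elab.async false

namespace Cfsg.Agent.Lib.Helper3.ChevM

theorem e8Ucol_26_52910 : allRange 52910 52965 ((fun k => collectCheck Cfsg.Lie.chevE8 hposE8 (k / 240) (k % 240))) = true := by decide +kernel
theorem e8Ucol_26_52965 : allRange 52965 53020 ((fun k => collectCheck Cfsg.Lie.chevE8 hposE8 (k / 240) (k % 240))) = true := by decide +kernel
theorem e8Ucol_26_53020 : allRange 53020 53075 ((fun k => collectCheck Cfsg.Lie.chevE8 hposE8 (k / 240) (k % 240))) = true := by decide +kernel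
theorem e8Ucol_26_53075 : allRange 53075 53130 ((fun k => collectCheck Cfsg.Lie.chevE8 hposE8 (k / 240) (k % 240))) = true := by decide +kernel
theorem e8Ucol_26_53130 : allRange 53130 53185 ((fun k => collectCheck Cfsg.Lie.chevE8 hposE8 (k / 240) (k % 240))) = true := by decide +kernel
theorem e8Ucol_26_53185 : allRange 53185 53240 ((fun k => collectCheck Cfsg.Lie.chevE8 hposE8 (k / 240) (k % 240))) = true := by decide +kernel
theorem e8Ucol_26_53240 : allRange 53240 53295 ((fun k => collectCheck Cfsg.Lie.chevE8 hposE8 (k / 240) (k % 240))) = true := by decide +kernel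
theorem e8Ucol_26_53295 : allRange 53295 53350 ((fun k => collectCheck Cfsg.Lie.chevE8 hposE8 (k / 240) (k % 240))) = true := by decide +kernel
theorem e8Ucol_26_53350 : allRange 53350 53405 ((fun k => collectCheck Cfsg.Lie.chevE8 hposE8 (k / 240) (k % 240))) = true := by decide +kernel
theorem e8Ucol_26_53405 : allRange 53405 53460 ((fun k => collectCheck Cfsg.Lie.chevE8 hposE8 (k / 240) (k % 240))) = true := by decide +kernel
theorem e8Ucol_26_53460 : allRange 53460 53515 ((fun k => collectCheck Cfsg.Lie.chevE8 hposE8 (k / 240) (k % 240))) = true := by decide +kernel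
theorem e8Ucol_26_53515 : allRange 53515 53570 ((fun k => collectCheck Cfsg.Lie.chevE8 hposE8 (k / 240) (k % 240))) = true := by decide +kernel
theorem e8Ucol_26_53570 : allRange 53570 53625 ((fun k => collectCheck Cfsg.Lie.chevE8 hposE8 (k / 240) (k % 240))) = true := by decide +kernel
theorem e8Ucol_26_53625 : allRange 53625 53680 ((fun k => collectCheck Cfsg.Lie.chevE8 hposE8 (k / 240) (k % 240))) = true := by decide +kernel
theorem e8Ucol_26_53680 : allRange 53680 53735 ((fun k => collectCheck Cfsg.Lie.chevE8 hposE8 (k / 240) (k % 240))) = true := by decide +kernel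
theorem e8Ucol_26_53735 : allRange 53735 53790 ((fun k => collectCheck Cfsg.Lie.chevE8 hposE8 (k / 240) (k % 240))) = true := by decide +kernel
theorem e8Ucol_26_53790 : allRange 53790 53845 ((fun k => collectCheck Cfsg.Lie.chevE8 hposE8 (k / 240) (k % 240))) = true := by decide +kernel
theorem e8Ucol_26_53845 : allRange 53845 53900 ((fun k => collectCheck Cfsg.Lie.chevE8 hposE8 (k / 240) (k % 240))) = true := by decide +kernel
theorem e8Ucol_26_53900 : allRange 53900 53955 ((fun k => collectCheck Cfsg.Lie.chevE8 hposE8 (k / 240) (k % 240))) = true := by decide +kernel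
theorem e8Ucol_26_53955 : allRange 53955 54010 ((fun k => collectCheck Cfsg.Lie.chevE8 hposE8 (k / 240) (k % 240))) = true := by decide +kernel
theorem e8Ucol_26_54010 : allRange 54010 54065 ((fun k => collectCheck Cfsg.Lie.chevE8 hposE8 (k / 240) (k % 240))) = true := by decide +kernel
theorem e8Ucol_26_54065 : allRange 54065 54120 ((fun k => collectCheck Cfsg.Lie.chevE8 hposE8 (k / 240) (k % 240))) = true := by decide +kernel
theorem e8Ucol_26_54120 : allRange 54120 54175 ((fun k => collectCheck Cfsg.Lie.chevE8 hposE8 (k / 240) (k % 240))) = true := by decide +kernel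
theorem e8Ucol_26_54175 : allRange 54175 54230 ((fun k => collectCheck Cfsg.Lie.chevE8 hposE8 (k / 240) (k % 240))) = true := by decide +kernel
theorem e8Ucol_26_54230 : allRange 54230 54285 ((fun k => collectCheck Cfsg.Lie.chevE8 hposE8 (k / 240) (k % 240))) = true := by decide +kernel
theorem e8Ucol_26_54285 : allRange 54285 54340 ((fun k => collectCheck Cfsg.Lie.chevE8 hposE8 (k / 240) (k % 240))) = true := by decide +kernel
theorem e8Ucol_26_54340 : allRange 54340 54395 ((fun k => collectCheck Cfsg.Lie.chevE8 hposE8 (k / 240) (k % 240))) = true := by decide +kernel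
theorem e8Ucol_26_54395 : allRange 54395 54450 ((fun k => collectCheck Cfsg.Lie.chevE8 hposE8 (k / 240) (k % 240))) = true := by decide +kernel
theorem e8Ucol_26_54450 : allRange 54450 54505 ((fun k => collectCheck Cfsg.Lie.chevE8 hposE8 (k / 240) (k % 240))) = true := by decide +kernel
theorem e8Ucol_26_54505 : allRange 54505 54560 ((fun k => collectCheck Cfsg.Lie.chevE8 hposE8 (k / 240) (k % 240))) = true := by decide +kernel
theorem e8Ucol_26_54560 : allRange 54560 54615 ((fun k => collectCheck Cfsg.Lie.chevE8 hposE8 (k / 240) (k % 240))) = true := by decide +kernel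
theorem e8Ucol_26_54615 : allRange 54615 54670 ((fun k => collectCheck Cfsg.Lie.chevE8 hposE8 (k / 240) (k % 240))) = true := by decide +kernel
theorem e8Ucol_26_54670 : allRange 54670 54725 ((fun k => collectCheck Cfsg.Lie.chevE8 hposE8 (k / 240) (k % 240))) = true := by decide +kernel
theorem e8Ucol_26_54725 : allRange 54725 54780 ((fun k => collectCheck Cfsg.Lie.chevE8 hposE8 (k / 240) (k % 240))) = true := by decide +kernel
theorem e8Ucol_26_54780 : allRange 54780 54835 ((fun k => collectCheck Cfsg.Lie.chevE8 hposE8 (k / 240) (k % 240))) = true := by decide +kernel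
theorem e8Ucol_26_54835 : allRange 54835 54890 ((fun k => collectCheck Cfsg.Lie.chevE8 hposE8 (k / 240) (k % 240))) = true := by decide +kernel
theorem e8Ucol_26_54890 : allRange 54890 54945 ((fun k => collectCheck Cfsg.Lie.chevE8 hposE8 (k / 240) (k % 240))) = true := by decide +kernel

/-- The terms of the commutator formula of type E8 lie higher (roots 52910 to 54944). -/
theorem e8Ucol_26 : ∀ r, 52910 ≤ r → r < 54945 → ((fun k => collectCheck Cfsg.Lie.chevE8 hposE8 (k / 240) (k % 240))) r = true := by
  intro r h1 h2
  by_cases c0 : r < 52965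
  · exact allRange_spec e8Ucol_26_52910 r (by omega) c0
  by_cases c1 : r < 53020
  · exact allRange_spec e8Ucol_26_52965 r (by omega) c1
  by_cases c2 : r < 53075
  · exact allRange_spec e8Ucol_26_53020 r (by omega) c2
  by_cases c3 : r < 53130
  · exact allRange_spec e8Ucol_26_53075 r (by omega) c3
  by_cases c4 : r < 53185
  · exact allRange_spec e8Ucol_26_53130 r (by omega) c4
  by_cases c5 : r < 53240
  · exact allRange_spec e8Ucol_26_53185 r (by omega) c5
  by_cases c6 : r < 53295
  · exact allRange_spec e8Ucol_26_53240 r (by omega) c6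
  by_cases c7 : r < 53350
  · exact allRange_spec e8Ucol_26_53295 r (by omega) c7
  by_cases c8 : r < 53405
  · exact allRange_spec e8Ucol_26_53350 r (by omega) c8
  by_cases c9 : r < 53460
  · exact allRange_spec e8Ucol_26_53405 r (by omega) c9
  by_cases c10 : r < 53515
  · exact allRange_spec e8Ucol_26_53460 r (by omega) c10
  by_cases c11 : r < 53570
  · exact allRange_spec e8Ucol_26_53515 r (by omega) c11
  by_cases c12 : r < 53625
  · exact allRange_spec e8Ucol_26_53570 r (by omega) c12
  by_cases c13 : r < 53680
  · exact allRange_spec e8Ucol_26_53625 r (by omega) c13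
  by_cases c14 : r < 53735
  · exact allRange_spec e8Ucol_26_53680 r (by omega) c14
  by_cases c15 : r < 53790
  · exact allRange_spec e8Ucol_26_53735 r (by omega) c15
  by_cases c16 : r < 53845
  · exact allRange_spec e8Ucol_26_53790 r (by omega) c16
  by_cases c17 : r < 53900
  · exact allRange_spec e8Ucol_26_53845 r (by omega) c17
  by_cases c18 : r < 53955
  · exact allRange_spec e8Ucol_26_53900 r (by omega) c18
  by_cases c19 : r < 54010
  · exact allRange_spec e8Ucol_26_53955 r (by omega) c19
  by_cases c20 : r < 54065
  · exact allRange_spec e8Ucol_26_54010 r (by omega) c20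
  by_cases c21 : r < 54120
  · exact allRange_spec e8Ucol_26_54065 r (by omega) c21
  by_cases c22 : r < 54175
  · exact allRange_spec e8Ucol_26_54120 r (by omega) c22
  by_cases c23 : r < 54230
  · exact allRange_spec e8Ucol_26_54175 r (by omega) c23
  by_cases c24 : r < 54285
  · exact allRange_spec e8Ucol_26_54230 r (by omega) c24
  by_cases c25 : r < 54340
  · exact allRange_spec e8Ucol_26_54285 r (by omega) c25
  by_cases c26 : r < 54395
  · exact allRange_spec e8Ucol_26_54340 r (by omega) c26
  by_cases c27 : r < 54450
  · exact allRange_spec e8Ucol_26_54395 r (by omega) c27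
  by_cases c28 : r < 54505
  · exact allRange_spec e8Ucol_26_54450 r (by omega) c28
  by_cases c29 : r < 54560
  · exact allRange_spec e8Ucol_26_54505 r (by omega) c29
  by_cases c30 : r < 54615
  · exact allRange_spec e8Ucol_26_54560 r (by omega) c30
  by_cases c31 : r < 54670
  · exact allRange_spec e8Ucol_26_54615 r (by omega) c31
  by_cases c32 : r < 54725
  · exact allRange_spec e8Ucol_26_54670 r (by omega) c32
  by_cases c33 : r < 54780
  · exact allRange_spec e8Ucol_26_54725 r (by omega) c33
  by_cases c34 : r < 54835
  · exact allRange_spec e8Ucol_26_54780 r (by omega) c34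
  by_cases c35 : r < 54890
  · exact allRange_spec e8Ucol_26_54835 r (by omega) c35
  exact allRange_spec e8Ucol_26_54890 r (by omega) h2

end Cfsg.Agent.Lib.Helper3.ChevM
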