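import Cfsg.Prelude.Def_ChevE8
import Cfsg.Agent.Lib.Helper3.ChevData.E8Uni
import Cfsg.Agent.Lib.Helper3.ChevU3
set_option autoImplicit false
set_option maxRecDepth 1000000
set_option Elab.async false

namespace Cfsg.Agent.Lib.Helper3.ChevM

theorem e8Ucol_1_2035 : allRange 2035 2090 ((fun k => collectCheck Cfsg.Lie.chevE8 hposE8 (k / 240) (k % 240))) = true := by decide +kernel
theorem e8Ucol_1_2090 : allRange 2090 2145 ((fun k => collectCheck Cfsg.Lie.chevE8 hposE8 (k / 240) (k % 240))) = true := by decide +kernel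
theorem e8Ucol_1_2145 : allRange 2145 2200 ((fun k => collectCheck Cfsg.Lie.chevE8 hposE8 (k / 240) (k % 240))) = true := by decide +kernel
theorem e8Ucol_1_2200 : allRange 2200 2255 ((fun k => collectCheck Cfsg.Lie.chevE8 hposE8 (k / 240) (k % 240))) = true := by decide +kernel
theorem e8Ucol_1_2255 : allRange 2255 2310 ((fun k => collectCheck Cfsg.Lie.chevE8 hposE8 (k / 240) (k % 240))) = true := by decide +kernel
theorem e8Ucol_1_2310 : allRange 2310 2365 ((fun k => collectCheck Cfsg.Lie.chevE8 hposE8 (k / 240) (k % 240))) = true := by decide +kernel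
theorem e8Ucol_1_2365 : allRange 2365 2420 ((fun k => collectCheck Cfsg.Lie.chevE8 hposE8 (k / 240) (k % 240))) = true := by decide +kernel
theorem e8Ucol_1_2420 : allRange 2420 2475 ((fun k => collectCheck Cfsg.Lie.chevE8 hposE8 (k / 240) (k % 240))) = true := by decide +kernel
theorem e8Ucol_1_2475 : allRange 2475 2530 ((fun k => collectCheck Cfsg.Lie.chevE8 hposE8 (k / 240) (k % 240))) = true := by decide +kernel
theorem e8Ucol_1_2530 : allRange 2530 2585 ((fun k => collectCheck Cfsg.Lie.chevE8 hposE8 (k / 240) (k % 240))) = true := by decide +kernel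
theorem e8Ucol_1_2585 : allRange 2585 2640 ((fun k => collectCheck Cfsg.Lie.chevE8 hposE8 (k / 240) (k % 240))) = true := by decide +kernel
theorem e8Ucol_1_2640 : allRange 2640 2695 ((fun k => collectCheck Cfsg.Lie.chevE8 hposE8 (k / 240) (k % 240))) = true := by decide +kernel
theorem e8Ucol_1_2695 : allRange 2695 2750 ((fun k => collectCheck Cfsg.Lie.chevE8 hposE8 (k / 240) (k % 240))) = true := by decide +kernel
theorem e8Ucol_1_2750 : allRange 2750 2805 ((fun k => collectCheck Cfsg.Lie.chevE8 hposE8 (k / 240) (k % 240))) = true := by decide +kernel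
theorem e8Ucol_1_2805 : allRange 2805 2860 ((fun k => collectCheck Cfsg.Lie.chevE8 hposE8 (k / 240) (k % 240))) = true := by decide +kernel
theorem e8Ucol_1_2860 : allRange 2860 2915 ((fun k => collectCheck Cfsg.Lie.chevE8 hposE8 (k / 240) (k % 240))) = true := by decide +kernel
theorem e8Ucol_1_2915 : allRange 2915 2970 ((fun k => collectCheck Cfsg.Lie.chevE8 hposE8 (k / 240) (k % 240))) = true := by decide +kernel
theorem e8Ucol_1_2970 : allRange 2970 3025 ((fun k => collectCheck Cfsg.Lie.chevE8 hposE8 (k / 240) (k % 240))) = true := by decide +kernel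
theorem e8Ucol_1_3025 : allRange 3025 3080 ((fun k => collectCheck Cfsg.Lie.chevE8 hposE8 (k / 240) (k % 240))) = true := by decide +kernel
theorem e8Ucol_1_3080 : allRange 3080 3135 ((fun k => collectCheck Cfsg.Lie.chevE8 hposE8 (k / 240) (k % 240))) = true := by decide +kernel
theorem e8Ucol_1_3135 : allRange 3135 3190 ((fun k => collectCheck Cfsg.Lie.chevE8 hposE8 (k / 240) (k % 240))) = true := by decide +kernel
theorem e8Ucol_1_3190 : allRange 3190 3245 ((fun k => collectCheck Cfsg.Lie.chevE8 hposE8 (k / 240) (k % 240))) = true := by decide +kernel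
theorem e8Ucol_1_3245 : allRange 3245 3300 ((fun k => collectCheck Cfsg.Lie.chevE8 hposE8 (k / 240) (k % 240))) = true := by decide +kernel
theorem e8Ucol_1_3300 : allRange 3300 3355 ((fun k => collectCheck Cfsg.Lie.chevE8 hposE8 (k / 240) (k % 240))) = true := by decide +kernel
theorem e8Ucol_1_3355 : allRange 3355 3410 ((fun k => collectCheck Cfsg.Lie.chevE8 hposE8 (k / 240) (k % 240))) = true := by decide +kernel
theorem e8Ucol_1_3410 : allRange 3410 3465 ((fun k => collectCheck Cfsg.Lie.chevE8 hposE8 (k / 240) (k % 240))) = true := by decide +kernel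
theorem e8Ucol_1_3465 : allRange 3465 3520 ((fun k => collectCheck Cfsg.Lie.chevE8 hposE8 (k / 240) (k % 240))) = true := by decide +kernel
theorem e8Ucol_1_3520 : allRange 3520 3575 ((fun k => collectCheck Cfsg.Lie.chevE8 hposE8 (k / 240) (k % 240))) = true := by decide +kernel
theorem e8Ucol_1_3575 : allRange 3575 3630 ((fun k => collectCheck Cfsg.Lie.chevE8 hposE8 (k / 240) (k % 240))) = true := by decide +kernel
theorem e8Ucol_1_3630 : allRange 3630 3685 ((fun k => collectCheck Cfsg.Lie.chevE8 hposE8 (k / 240) (k % 240))) = true := by decide +kernel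
theorem e8Ucol_1_3685 : allRange 3685 3740 ((fun k => collectCheck Cfsg.Lie.chevE8 hposE8 (k / 240) (k % 240))) = true := by decide +kernel
theorem e8Ucol_1_3740 : allRange 3740 3795 ((fun k => collectCheck Cfsg.Lie.chevE8 hposE8 (k / 240) (k % 240))) = true := by decide +kernel
theorem e8Ucol_1_3795 : allRange 3795 3850 ((fun k => collectCheck Cfsg.Lie.chevE8 hposE8 (k / 240) (k % 240))) = true := by decide +kernel
theorem e8Ucol_1_3850 : allRange 3850 3905 ((fun k => collectCheck Cfsg.Lie.chevE8 hposE8 (k / 240) (k % 240))) = true := by decide +kernel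
theorem e8Ucol_1_3905 : allRange 3905 3960 ((fun k => collectCheck Cfsg.Lie.chevE8 hposE8 (k / 240) (k % 240))) = true := by decide +kernel
theorem e8Ucol_1_3960 : allRange 3960 4015 ((fun k => collectCheck Cfsg.Lie.chevE8 hposE8 (k / 240) (k % 240))) = true := by decide +kernel
theorem e8Ucol_1_4015 : allRange 4015 4070 ((fun k => collectCheck Cfsg.Lie.chevE8 hposE8 (k / 240) (k % 240))) = true := by decide +kernel

/-- The terms of the commutator formula of type E8 lie higher (roots 2035 to 4069). -/
theorem e8Ucol_1 : ∀ r, 2035 ≤ r → r < 4070 → ((fun k => collectCheck Cfsg.Lie.chevE8 hposE8 (k / 240) (k % 240))) r = true := by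
  intro r h1 h2
  by_cases c0 : r < 2090
  · exact allRange_spec e8Ucol_1_2035 r (by omega) c0
  by_cases c1 : r < 2145
  · exact allRange_spec e8Ucol_1_2090 r (by omega) c1
  by_cases c2 : r < 2200
  · exact allRange_spec e8Ucol_1_2145 r (by omega) c2
  by_cases c3 : r < 2255
  · exact allRange_spec e8Ucol_1_2200 r (by omega) c3
  by_cases c4 : r < 2310
  · exact allRange_spec e8Ucol_1_2255 r (by omega) c4
  by_cases c5 : r < 2365
  · exact allRange_spec e8Ucol_1_2310 r (by omega) c5
  by_cases c6 : r < 2420
  · exact allRange_spec e8Ucol_1_2365 r (by omega) c6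
  by_cases c7 : r < 2475
  · exact allRange_spec e8Ucol_1_2420 r (by omega) c7
  by_cases c8 : r < 2530
  · exact allRange_spec e8Ucol_1_2475 r (by omega) c8
  by_cases c9 : r < 2585
  · exact allRange_spec e8Ucol_1_2530 r (by omega) c9
  by_cases c10 : r < 2640
  · exact allRange_spec e8Ucol_1_2585 r (by omega) c10
  by_cases c11 : r < 2695
  · exact allRange_spec e8Ucol_1_2640 r (by omega) c11
  by_cases c12 : r < 2750
  · exact allRange_spec e8Ucol_1_2695 r (by omega) c12
  by_cases c13 : r < 2805
  · exact allRange_spec e8Ucol_1_2750 r (by omega) c13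
  by_cases c14 : r < 2860
  · exact allRange_spec e8Ucol_1_2805 r (by omega) c14
  by_cases c15 : r < 2915
  · exact allRange_spec e8Ucol_1_2860 r (by omega) c15
  by_cases c16 : r < 2970
  · exact allRange_spec e8Ucol_1_2915 r (by omega) c16
  by_cases c17 : r < 3025
  · exact allRange_spec e8Ucol_1_2970 r (by omega) c17
  by_cases c18 : r < 3080
  · exact allRange_spec e8Ucol_1_3025 r (by omega) c18
  by_cases c19 : r < 3135
  · exact allRange_spec e8Ucol_1_3080 r (by omega) c19
  by_cases c20 : r < 3190
  · exact allRange_spec e8Ucol_1_3135 r (by omega) c20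
  by_cases c21 : r < 3245
  · exact allRange_spec e8Ucol_1_3190 r (by omega) c21
  by_cases c22 : r < 3300
  · exact allRange_spec e8Ucol_1_3245 r (by omega) c22
  by_cases c23 : r < 3355
  · exact allRange_spec e8Ucol_1_3300 r (by omega) c23
  by_cases c24 : r < 3410
  · exact allRange_spec e8Ucol_1_3355 r (by omega) c24
  by_cases c25 : r < 3465
  · exact allRange_spec e8Ucol_1_3410 r (by omega) c25
  by_cases c26 : r < 3520
  · exact allRange_spec e8Ucol_1_3465 r (by omega) c26
  by_cases c27 : r < 3575
  · exact allRange_spec e8Ucol_1_3520 r (by omega) c27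
  by_cases c28 : r < 3630
  · exact allRange_spec e8Ucol_1_3575 r (by omega) c28
  by_cases c29 : r < 3685
  · exact allRange_spec e8Ucol_1_3630 r (by omega) c29
  by_cases c30 : r < 3740
  · exact allRange_spec e8Ucol_1_3685 r (by omega) c30
  by_cases c31 : r < 3795
  · exact allRange_spec e8Ucol_1_3740 r (by omega) c31
  by_cases c32 : r < 3850
  · exact allRange_spec e8Ucol_1_3795 r (by omega) c32
  by_cases c33 : r < 3905
  · exact allRange_spec e8Ucol_1_3850 r (by omega) c33
  by_cases c34 : r < 3960
  · exact allRange_spec e8Ucol_1_3905 r (by omega) c34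
  by_cases c35 : r < 4015
  · exact allRange_spec e8Ucol_1_3960 r (by omega) c35
  exact allRange_spec e8Ucol_1_4015 r (by omega) h2

end Cfsg.Agent.Lib.Helper3.ChevM
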