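import Cfsg.Prelude.Def_ChevE8
import Cfsg.Agent.Lib.Helper3.ChevData.E8Uni
import Cfsg.Agent.Lib.Helper3.ChevU3
set_option autoImplicit false
set_option maxRecDepth 1000000
set_option Elab.async false

namespace Cfsg.Agent.Lib.Helper3.ChevM

theorem e8Ucol_2_4070 : allRange 4070 4125 ((fun k => collectCheck Cfsg.Lie.chevE8 hposE8 (k / 240) (k % 240))) = true := by decide +kernel
theorem e8Ucol_2_4125 : allRange 4125 4180 ((fun k => collectCheck Cfsg.Lie.chevE8 hposE8 (k / 240) (k % 240))) = true := by decide +kernel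
theorem e8Ucol_2_4180 : allRange 4180 4235 ((fun k => collectCheck Cfsg.Lie.chevE8 hposE8 (k / 240) (k % 240))) = true := by decide +kernel
theorem e8Ucol_2_4235 : allRange 4235 4290 ((fun k => collectCheck Cfsg.Lie.chevE8 hposE8 (k / 240) (k % 240))) = true := by decide +kernel
theorem e8Ucol_2_4290 : allRange 4290 4345 ((fun k => collectCheck Cfsg.Lie.chevE8 hposE8 (k / 240) (k % 240))) = true := by decide +kernel
theorem e8Ucol_2_4345 : allRange 4345 4400 ((fun k => collectCheck Cfsg.Lie.chevE8 hposE8 (k / 240) (k % 240))) = true := by decide +kernel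
theorem e8Ucol_2_4400 : allRange 4400 4455 ((fun k => collectCheck Cfsg.Lie.chevE8 hposE8 (k / 240) (k % 240))) = true := by decide +kernel
theorem e8Ucol_2_4455 : allRange 4455 4510 ((fun k => collectCheck Cfsg.Lie.chevE8 hposE8 (k / 240) (k % 240))) = true := by decide +kernel
theorem e8Ucol_2_4510 : allRange 4510 4565 ((fun k => collectCheck Cfsg.Lie.chevE8 hposE8 (k / 240) (k % 240))) = true := by decide +kernel
theorem e8Ucol_2_4565 : allRange 4565 4620 ((fun k => collectCheck Cfsg.Lie.chevE8 hposE8 (k / 240) (k % 240))) = true := by decide +kernel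
theorem e8Ucol_2_4620 : allRange 4620 4675 ((fun k => collectCheck Cfsg.Lie.chevE8 hposE8 (k / 240) (k % 240))) = true := by decide +kernel
theorem e8Ucol_2_4675 : allRange 4675 4730 ((fun k => collectCheck Cfsg.Lie.chevE8 hposE8 (k / 240) (k % 240))) = true := by decide +kernel
theorem e8Ucol_2_4730 : allRange 4730 4785 ((fun k => collectCheck Cfsg.Lie.chevE8 hposE8 (k / 240) (k % 240))) = true := by decide +kernel
theorem e8Ucol_2_4785 : allRange 4785 4840 ((fun k => collectCheck Cfsg.Lie.chevE8 hposE8 (k / 240) (k % 240))) = true := by decide +kernel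
theorem e8Ucol_2_4840 : allRange 4840 4895 ((fun k => collectCheck Cfsg.Lie.chevE8 hposE8 (k / 240) (k % 240))) = true := by decide +kernel
theorem e8Ucol_2_4895 : allRange 4895 4950 ((fun k => collectCheck Cfsg.Lie.chevE8 hposE8 (k / 240) (k % 240))) = true := by decide +kernel
theorem e8Ucol_2_4950 : allRange 4950 5005 ((fun k => collectCheck Cfsg.Lie.chevE8 hposE8 (k / 240) (k % 240))) = true := by decide +kernel
theorem e8Ucol_2_5005 : allRange 5005 5060 ((fun k => collectCheck Cfsg.Lie.chevE8 hposE8 (k / 240) (k % 240))) = true := by decide +kernel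
theorem e8Ucol_2_5060 : allRange 5060 5115 ((fun k => collectCheck Cfsg.Lie.chevE8 hposE8 (k / 240) (k % 240))) = true := by decide +kernel
theorem e8Ucol_2_5115 : allRange 5115 5170 ((fun k => collectCheck Cfsg.Lie.chevE8 hposE8 (k / 240) (k % 240))) = true := by decide +kernel
theorem e8Ucol_2_5170 : allRange 5170 5225 ((fun k => collectCheck Cfsg.Lie.chevE8 hposE8 (k / 240) (k % 240))) = true := by decide +kernel
theorem e8Ucol_2_5225 : allRange 5225 5280 ((fun k => collectCheck Cfsg.Lie.chevE8 hposE8 (k / 240) (k % 240))) = true := by decide +kernel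
theorem e8Ucol_2_5280 : allRange 5280 5335 ((fun k => collectCheck Cfsg.Lie.chevE8 hposE8 (k / 240) (k % 240))) = true := by decide +kernel
theorem e8Ucol_2_5335 : allRange 5335 5390 ((fun k => collectCheck Cfsg.Lie.chevE8 hposE8 (k / 240) (k % 240))) = true := by decide +kernel
theorem e8Ucol_2_5390 : allRange 5390 5445 ((fun k => collectCheck Cfsg.Lie.chevE8 hposE8 (k / 240) (k % 240))) = true := by decide +kernel
theorem e8Ucol_2_5445 : allRange 5445 5500 ((fun k => collectCheck Cfsg.Lie.chevE8 hposE8 (k / 240) (k % 240))) = true := by decide +kernel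
theorem e8Ucol_2_5500 : allRange 5500 5555 ((fun k => collectCheck Cfsg.Lie.chevE8 hposE8 (k / 240) (k % 240))) = true := by decide +kernel
theorem e8Ucol_2_5555 : allRange 5555 5610 ((fun k => collectCheck Cfsg.Lie.chevE8 hposE8 (k / 240) (k % 240))) = true := by decide +kernel
theorem e8Ucol_2_5610 : allRange 5610 5665 ((fun k => collectCheck Cfsg.Lie.chevE8 hposE8 (k / 240) (k % 240))) = true := by decide +kernel
theorem e8Ucol_2_5665 : allRange 5665 5720 ((fun k => collectCheck Cfsg.Lie.chevE8 hposE8 (k / 240) (k % 240))) = true := by decide +kernel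
theorem e8Ucol_2_5720 : allRange 5720 5775 ((fun k => collectCheck Cfsg.Lie.chevE8 hposE8 (k / 240) (k % 240))) = true := by decide +kernel
theorem e8Ucol_2_5775 : allRange 5775 5830 ((fun k => collectCheck Cfsg.Lie.chevE8 hposE8 (k / 240) (k % 240))) = true := by decide +kernel
theorem e8Ucol_2_5830 : allRange 5830 5885 ((fun k => collectCheck Cfsg.Lie.chevE8 hposE8 (k / 240) (k % 240))) = true := by decide +kernel
theorem e8Ucol_2_5885 : allRange 5885 5940 ((fun k => collectCheck Cfsg.Lie.chevE8 hposE8 (k / 240) (k % 240))) = true := by decide +kernel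
theorem e8Ucol_2_5940 : allRange 5940 5995 ((fun k => collectCheck Cfsg.Lie.chevE8 hposE8 (k / 240) (k % 240))) = true := by decide +kernel
theorem e8Ucol_2_5995 : allRange 5995 6050 ((fun k => collectCheck Cfsg.Lie.chevE8 hposE8 (k / 240) (k % 240))) = true := by decide +kernel
theorem e8Ucol_2_6050 : allRange 6050 6105 ((fun k => collectCheck Cfsg.Lie.chevE8 hposE8 (k / 240) (k % 240))) = true := by decide +kernel

/-- The terms of the commutator formula of type E8 lie higher (roots 4070 to 6104). -/
theorem e8Ucol_2 : ∀ r, 4070 ≤ r → r < 6105 → ((fun k => collectCheck Cfsg.Lie.chevE8 hposE8 (k / 240) (k % 240))) r = true := by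
  intro r h1 h2
  by_cases c0 : r < 4125
  · exact allRange_spec e8Ucol_2_4070 r (by omega) c0
  by_cases c1 : r < 4180
  · exact allRange_spec e8Ucol_2_4125 r (by omega) c1
  by_cases c2 : r < 4235
  · exact allRange_spec e8Ucol_2_4180 r (by omega) c2
  by_cases c3 : r < 4290
  · exact allRange_spec e8Ucol_2_4235 r (by omega) c3
  by_cases c4 : r < 4345
  · exact allRange_spec e8Ucol_2_4290 r (by omega) c4
  by_cases c5 : r < 4400
  · exact allRange_spec e8Ucol_2_4345 r (by omega) c5
  by_cases c6 : r < 4455
  · exact allRange_spec e8Ucol_2_4400 r (by omega) c6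
  by_cases c7 : r < 4510
  · exact allRange_spec e8Ucol_2_4455 r (by omega) c7
  by_cases c8 : r < 4565
  · exact allRange_spec e8Ucol_2_4510 r (by omega) c8
  by_cases c9 : r < 4620
  · exact allRange_spec e8Ucol_2_4565 r (by omega) c9
  by_cases c10 : r < 4675
  · exact allRange_spec e8Ucol_2_4620 r (by omega) c10
  by_cases c11 : r < 4730
  · exact allRange_spec e8Ucol_2_4675 r (by omega) c11
  by_cases c12 : r < 4785
  · exact allRange_spec e8Ucol_2_4730 r (by omega) c12
  by_cases c13 : r < 4840
  · exact allRange_spec e8Ucol_2_4785 r (by omega) c13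
  by_cases c14 : r < 4895
  · exact allRange_spec e8Ucol_2_4840 r (by omega) c14
  by_cases c15 : r < 4950
  · exact allRange_spec e8Ucol_2_4895 r (by omega) c15
  by_cases c16 : r < 5005
  · exact allRange_spec e8Ucol_2_4950 r (by omega) c16
  by_cases c17 : r < 5060
  · exact allRange_spec e8Ucol_2_5005 r (by omega) c17
  by_cases c18 : r < 5115
  · exact allRange_spec e8Ucol_2_5060 r (by omega) c18
  by_cases c19 : r < 5170
  · exact allRange_spec e8Ucol_2_5115 r (by omega) c19
  by_cases c20 : r < 5225
  · exact allRange_spec e8Ucol_2_5170 r (by omega) c20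
  by_cases c21 : r < 5280
  · exact allRange_spec e8Ucol_2_5225 r (by omega) c21
  by_cases c22 : r < 5335
  · exact allRange_spec e8Ucol_2_5280 r (by omega) c22
  by_cases c23 : r < 5390
  · exact allRange_spec e8Ucol_2_5335 r (by omega) c23
  by_cases c24 : r < 5445
  · exact allRange_spec e8Ucol_2_5390 r (by omega) c24
  by_cases c25 : r < 5500
  · exact allRange_spec e8Ucol_2_5445 r (by omega) c25
  by_cases c26 : r < 5555
  · exact allRange_spec e8Ucol_2_5500 r (by omega) c26
  by_cases c27 : r < 5610
  · exact allRange_spec e8Ucol_2_5555 r (by omega) c27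
  by_cases c28 : r < 5665
  · exact allRange_spec e8Ucol_2_5610 r (by omega) c28
  by_cases c29 : r < 5720
  · exact allRange_spec e8Ucol_2_5665 r (by omega) c29
  by_cases c30 : r < 5775
  · exact allRange_spec e8Ucol_2_5720 r (by omega) c30
  by_cases c31 : r < 5830
  · exact allRange_spec e8Ucol_2_5775 r (by omega) c31
  by_cases c32 : r < 5885
  · exact allRange_spec e8Ucol_2_5830 r (by omega) c32
  by_cases c33 : r < 5940
  · exact allRange_spec e8Ucol_2_5885 r (by omega) c33
  by_cases c34 : r < 5995
  · exact allRange_spec e8Ucol_2_5940 r (by omega) c34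
  by_cases c35 : r < 6050
  · exact allRange_spec e8Ucol_2_5995 r (by omega) c35
  exact allRange_spec e8Ucol_2_6050 r (by omega) h2

end Cfsg.Agent.Lib.Helper3.ChevM
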