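import Cfsg.Prelude.Def_ChevE8
import Cfsg.Agent.Lib.Helper3.ChevData.E8Uni
import Cfsg.Agent.Lib.Helper3.ChevU3
set_option autoImplicit false
set_option maxRecDepth 1000000
set_option Elab.async false

namespace Cfsg.Agent.Lib.Helper3.ChevM

theorem e8Ucol_3_6105 : allRange 6105 6160 ((fun k => collectCheck Cfsg.Lie.chevE8 hposE8 (k / 240) (k % 240))) = true := by decide +kernel
theorem e8Ucol_3_6160 : allRange 6160 6215 ((fun k => collectCheck Cfsg.Lie.chevE8 hposE8 (k / 240) (k % 240))) = true := by decide +kernel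
theorem e8Ucol_3_6215 : allRange 6215 6270 ((fun k => collectCheck Cfsg.Lie.chevE8 hposE8 (k / 240) (k % 240))) = true := by decide +kernel
theorem e8Ucol_3_6270 : allRange 6270 6325 ((fun k => collectCheck Cfsg.Lie.chevE8 hposE8 (k / 240) (k % 240))) = true := by decide +kernel
theorem e8Ucol_3_6325 : allRange 6325 6380 ((fun k => collectCheck Cfsg.Lie.chevE8 hposE8 (k / 240) (k % 240))) = true := by decide +kernel
theorem e8Ucol_3_6380 : allRange 6380 6435 ((fun k => collectCheck Cfsg.Lie.chevE8 hposE8 (k / 240) (k % 240))) = true := by decide +kernel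
theorem e8Ucol_3_6435 : allRange 6435 6490 ((fun k => collectCheck Cfsg.Lie.chevE8 hposE8 (k / 240) (k % 240))) = true := by decide +kernel
theorem e8Ucol_3_6490 : allRange 6490 6545 ((fun k => collectCheck Cfsg.Lie.chevE8 hposE8 (k / 240) (k % 240))) = true := by decide +kernel
theorem e8Ucol_3_6545 : allRange 6545 6600 ((fun k => collectCheck Cfsg.Lie.chevE8 hposE8 (k / 240) (k % 240))) = true := by decide +kernel
theorem e8Ucol_3_6600 : allRange 6600 6655 ((fun k => collectCheck Cfsg.Lie.chevE8 hposE8 (k / 240) (k % 240))) = true := by decide +kernel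
theorem e8Ucol_3_6655 : allRange 6655 6710 ((fun k => collectCheck Cfsg.Lie.chevE8 hposE8 (k / 240) (k % 240))) = true := by decide +kernel
theorem e8Ucol_3_6710 : allRange 6710 6765 ((fun k => collectCheck Cfsg.Lie.chevE8 hposE8 (k / 240) (k % 240))) = true := by decide +kernel
theorem e8Ucol_3_6765 : allRange 6765 6820 ((fun k => collectCheck Cfsg.Lie.chevE8 hposE8 (k / 240) (k % 240))) = true := by decide +kernel
theorem e8Ucol_3_6820 : allRange 6820 6875 ((fun k => collectCheck Cfsg.Lie.chevE8 hposE8 (k / 240) (k % 240))) = true := by decide +kernel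
theorem e8Ucol_3_6875 : allRange 6875 6930 ((fun k => collectCheck Cfsg.Lie.chevE8 hposE8 (k / 240) (k % 240))) = true := by decide +kernel
theorem e8Ucol_3_6930 : allRange 6930 6985 ((fun k => collectCheck Cfsg.Lie.chevE8 hposE8 (k / 240) (k % 240))) = true := by decide +kernel
theorem e8Ucol_3_6985 : allRange 6985 7040 ((fun k => collectCheck Cfsg.Lie.chevE8 hposE8 (k / 240) (k % 240))) = true := by decide +kernel
theorem e8Ucol_3_7040 : allRange 7040 7095 ((fun k => collectCheck Cfsg.Lie.chevE8 hposE8 (k / 240) (k % 240))) = true := by decide +kernel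
theorem e8Ucol_3_7095 : allRange 7095 7150 ((fun k => collectCheck Cfsg.Lie.chevE8 hposE8 (k / 240) (k % 240))) = true := by decide +kernel
theorem e8Ucol_3_7150 : allRange 7150 7205 ((fun k => collectCheck Cfsg.Lie.chevE8 hposE8 (k / 240) (k % 240))) = true := by decide +kernel
theorem e8Ucol_3_7205 : allRange 7205 7260 ((fun k => collectCheck Cfsg.Lie.chevE8 hposE8 (k / 240) (k % 240))) = true := by decide +kernel
theorem e8Ucol_3_7260 : allRange 7260 7315 ((fun k => collectCheck Cfsg.Lie.chevE8 hposE8 (k / 240) (k % 240))) = true := by decide +kernel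
theorem e8Ucol_3_7315 : allRange 7315 7370 ((fun k => collectCheck Cfsg.Lie.chevE8 hposE8 (k / 240) (k % 240))) = true := by decide +kernel
theorem e8Ucol_3_7370 : allRange 7370 7425 ((fun k => collectCheck Cfsg.Lie.chevE8 hposE8 (k / 240) (k % 240))) = true := by decide +kernel
theorem e8Ucol_3_7425 : allRange 7425 7480 ((fun k => collectCheck Cfsg.Lie.chevE8 hposE8 (k / 240) (k % 240))) = true := by decide +kernel
theorem e8Ucol_3_7480 : allRange 7480 7535 ((fun k => collectCheck Cfsg.Lie.chevE8 hposE8 (k / 240) (k % 240))) = true := by decide +kernel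
theorem e8Ucol_3_7535 : allRange 7535 7590 ((fun k => collectCheck Cfsg.Lie.chevE8 hposE8 (k / 240) (k % 240))) = true := by decide +kernel
theorem e8Ucol_3_7590 : allRange 7590 7645 ((fun k => collectCheck Cfsg.Lie.chevE8 hposE8 (k / 240) (k % 240))) = true := by decide +kernel
theorem e8Ucol_3_7645 : allRange 7645 7700 ((fun k => collectCheck Cfsg.Lie.chevE8 hposE8 (k / 240) (k % 240))) = true := by decide +kernel
theorem e8Ucol_3_7700 : allRange 7700 7755 ((fun k => collectCheck Cfsg.Lie.chevE8 hposE8 (k / 240) (k % 240))) = true := by decide +kernel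
theorem e8Ucol_3_7755 : allRange 7755 7810 ((fun k => collectCheck Cfsg.Lie.chevE8 hposE8 (k / 240) (k % 240))) = true := by decide +kernel
theorem e8Ucol_3_7810 : allRange 7810 7865 ((fun k => collectCheck Cfsg.Lie.chevE8 hposE8 (k / 240) (k % 240))) = true := by decide +kernel
theorem e8Ucol_3_7865 : allRange 7865 7920 ((fun k => collectCheck Cfsg.Lie.chevE8 hposE8 (k / 240) (k % 240))) = true := by decide +kernel
theorem e8Ucol_3_7920 : allRange 7920 7975 ((fun k => collectCheck Cfsg.Lie.chevE8 hposE8 (k / 240) (k % 240))) = true := by decide +kernel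
theorem e8Ucol_3_7975 : allRange 7975 8030 ((fun k => collectCheck Cfsg.Lie.chevE8 hposE8 (k / 240) (k % 240))) = true := by decide +kernel
theorem e8Ucol_3_8030 : allRange 8030 8085 ((fun k => collectCheck Cfsg.Lie.chevE8 hposE8 (k / 240) (k % 240))) = true := by decide +kernel
theorem e8Ucol_3_8085 : allRange 8085 8140 ((fun k => collectCheck Cfsg.Lie.chevE8 hposE8 (k / 240) (k % 240))) = true := by decide +kernel

/-- The terms of the commutator formula of type E8 lie higher (roots 6105 to 8139). -/
theorem e8Ucol_3 : ∀ r, 6105 ≤ r → r < 8140 → ((fun k => collectCheck Cfsg.Lie.chevE8 hposE8 (k / 240) (k % 240))) r = true := by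
  intro r h1 h2
  by_cases c0 : r < 6160
  · exact allRange_spec e8Ucol_3_6105 r (by omega) c0
  by_cases c1 : r < 6215
  · exact allRange_spec e8Ucol_3_6160 r (by omega) c1
  by_cases c2 : r < 6270
  · exact allRange_spec e8Ucol_3_6215 r (by omega) c2
  by_cases c3 : r < 6325
  · exact allRange_spec e8Ucol_3_6270 r (by omega) c3
  by_cases c4 : r < 6380
  · exact allRange_spec e8Ucol_3_6325 r (by omega) c4
  by_cases c5 : r < 6435
  · exact allRange_spec e8Ucol_3_6380 r (by omega) c5
  by_cases c6 : r < 6490
  · exact allRange_spec e8Ucol_3_6435 r (by omega) c6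
  by_cases c7 : r < 6545
  · exact allRange_spec e8Ucol_3_6490 r (by omega) c7
  by_cases c8 : r < 6600
  · exact allRange_spec e8Ucol_3_6545 r (by omega) c8
  by_cases c9 : r < 6655
  · exact allRange_spec e8Ucol_3_6600 r (by omega) c9
  by_cases c10 : r < 6710
  · exact allRange_spec e8Ucol_3_6655 r (by omega) c10
  by_cases c11 : r < 6765
  · exact allRange_spec e8Ucol_3_6710 r (by omega) c11
  by_cases c12 : r < 6820
  · exact allRange_spec e8Ucol_3_6765 r (by omega) c12
  by_cases c13 : r < 6875
  · exact allRange_spec e8Ucol_3_6820 r (by omega) c13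
  by_cases c14 : r < 6930
  · exact allRange_spec e8Ucol_3_6875 r (by omega) c14
  by_cases c15 : r < 6985
  · exact allRange_spec e8Ucol_3_6930 r (by omega) c15
  by_cases c16 : r < 7040
  · exact allRange_spec e8Ucol_3_6985 r (by omega) c16
  by_cases c17 : r < 7095
  · exact allRange_spec e8Ucol_3_7040 r (by omega) c17
  by_cases c18 : r < 7150
  · exact allRange_spec e8Ucol_3_7095 r (by omega) c18
  by_cases c19 : r < 7205
  · exact allRange_spec e8Ucol_3_7150 r (by omega) c19
  by_cases c20 : r < 7260
  · exact allRange_spec e8Ucol_3_7205 r (by omega) c20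
  by_cases c21 : r < 7315
  · exact allRange_spec e8Ucol_3_7260 r (by omega) c21
  by_cases c22 : r < 7370
  · exact allRange_spec e8Ucol_3_7315 r (by omega) c22
  by_cases c23 : r < 7425
  · exact allRange_spec e8Ucol_3_7370 r (by omega) c23
  by_cases c24 : r < 7480
  · exact allRange_spec e8Ucol_3_7425 r (by omega) c24
  by_cases c25 : r < 7535
  · exact allRange_spec e8Ucol_3_7480 r (by omega) c25
  by_cases c26 : r < 7590
  · exact allRange_spec e8Ucol_3_7535 r (by omega) c26
  by_cases c27 : r < 7645
  · exact allRange_spec e8Ucol_3_7590 r (by omega) c27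
  by_cases c28 : r < 7700
  · exact allRange_spec e8Ucol_3_7645 r (by omega) c28
  by_cases c29 : r < 7755
  · exact allRange_spec e8Ucol_3_7700 r (by omega) c29
  by_cases c30 : r < 7810
  · exact allRange_spec e8Ucol_3_7755 r (by omega) c30
  by_cases c31 : r < 7865
  · exact allRange_spec e8Ucol_3_7810 r (by omega) c31
  by_cases c32 : r < 7920
  · exact allRange_spec e8Ucol_3_7865 r (by omega) c32
  by_cases c33 : r < 7975
  · exact allRange_spec e8Ucol_3_7920 r (by omega) c33
  by_cases c34 : r < 8030
  · exact allRange_spec e8Ucol_3_7975 r (by omega) c34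
  by_cases c35 : r < 8085
  · exact allRange_spec e8Ucol_3_8030 r (by omega) c35
  exact allRange_spec e8Ucol_3_8085 r (by omega) h2

end Cfsg.Agent.Lib.Helper3.ChevM
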