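import Cfsg.Prelude.Def_ChevE8
import Cfsg.Agent.Lib.Helper3.ChevData.E8Uni
import Cfsg.Agent.Lib.Helper3.ChevU3
set_option autoImplicit false
set_option maxRecDepth 1000000
set_option Elab.async false

namespace Cfsg.Agent.Lib.Helper3.ChevM

theorem e8Ucol_4_8140 : allRange 8140 8195 ((fun k => collectCheck Cfsg.Lie.chevE8 hposE8 (k / 240) (k % 240))) = true := by decide +kernel
theorem e8Ucol_4_8195 : allRange 8195 8250 ((fun k => collectCheck Cfsg.Lie.chevE8 hposE8 (k / 240) (k % 240))) = true := by decide +kernel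
theorem e8Ucol_4_8250 : allRange 8250 8305 ((fun k => collectCheck Cfsg.Lie.chevE8 hposE8 (k / 240) (k % 240))) = true := by decide +kernel
theorem e8Ucol_4_8305 : allRange 8305 8360 ((fun k => collectCheck Cfsg.Lie.chevE8 hposE8 (k / 240) (k % 240))) = true := by decide +kernel
theorem e8Ucol_4_8360 : allRange 8360 8415 ((fun k => collectCheck Cfsg.Lie.chevE8 hposE8 (k / 240) (k % 240))) = true := by decide +kernel
theorem e8Ucol_4_8415 : allRange 8415 8470 ((fun k => collectCheck Cfsg.Lie.chevE8 hposE8 (k / 240) (k % 240))) = true := by decide +kernel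
theorem e8Ucol_4_8470 : allRange 8470 8525 ((fun k => collectCheck Cfsg.Lie.chevE8 hposE8 (k / 240) (k % 240))) = true := by decide +kernel
theorem e8Ucol_4_8525 : allRange 8525 8580 ((fun k => collectCheck Cfsg.Lie.chevE8 hposE8 (k / 240) (k % 240))) = true := by decide +kernel
theorem e8Ucol_4_8580 : allRange 8580 8635 ((fun k => collectCheck Cfsg.Lie.chevE8 hposE8 (k / 240) (k % 240))) = true := by decide +kernel
theorem e8Ucol_4_8635 : allRange 8635 8690 ((fun k => collectCheck Cfsg.Lie.chevE8 hposE8 (k / 240) (k % 240))) = true := by decide +kernel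
theorem e8Ucol_4_8690 : allRange 8690 8745 ((fun k => collectCheck Cfsg.Lie.chevE8 hposE8 (k / 240) (k % 240))) = true := by decide +kernel
theorem e8Ucol_4_8745 : allRange 8745 8800 ((fun k => collectCheck Cfsg.Lie.chevE8 hposE8 (k / 240) (k % 240))) = true := by decide +kernel
theorem e8Ucol_4_8800 : allRange 8800 8855 ((fun k => collectCheck Cfsg.Lie.chevE8 hposE8 (k / 240) (k % 240))) = true := by decide +kernel
theorem e8Ucol_4_8855 : allRange 8855 8910 ((fun k => collectCheck Cfsg.Lie.chevE8 hposE8 (k / 240) (k % 240))) = true := by decide +kernel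
theorem e8Ucol_4_8910 : allRange 8910 8965 ((fun k => collectCheck Cfsg.Lie.chevE8 hposE8 (k / 240) (k % 240))) = true := by decide +kernel
theorem e8Ucol_4_8965 : allRange 8965 9020 ((fun k => collectCheck Cfsg.Lie.chevE8 hposE8 (k / 240) (k % 240))) = true := by decide +kernel
theorem e8Ucol_4_9020 : allRange 9020 9075 ((fun k => collectCheck Cfsg.Lie.chevE8 hposE8 (k / 240) (k % 240))) = true := by decide +kernel
theorem e8Ucol_4_9075 : allRange 9075 9130 ((fun k => collectCheck Cfsg.Lie.chevE8 hposE8 (k / 240) (k % 240))) = true := by decide +kernel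
theorem e8Ucol_4_9130 : allRange 9130 9185 ((fun k => collectCheck Cfsg.Lie.chevE8 hposE8 (k / 240) (k % 240))) = true := by decide +kernel
theorem e8Ucol_4_9185 : allRange 9185 9240 ((fun k => collectCheck Cfsg.Lie.chevE8 hposE8 (k / 240) (k % 240))) = true := by decide +kernel
theorem e8Ucol_4_9240 : allRange 9240 9295 ((fun k => collectCheck Cfsg.Lie.chevE8 hposE8 (k / 240) (k % 240))) = true := by decide +kernel
theorem e8Ucol_4_9295 : allRange 9295 9350 ((fun k => collectCheck Cfsg.Lie.chevE8 hposE8 (k / 240) (k % 240))) = true := by decide +kernel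
theorem e8Ucol_4_9350 : allRange 9350 9405 ((fun k => collectCheck Cfsg.Lie.chevE8 hposE8 (k / 240) (k % 240))) = true := by decide +kernel
theorem e8Ucol_4_9405 : allRange 9405 9460 ((fun k => collectCheck Cfsg.Lie.chevE8 hposE8 (k / 240) (k % 240))) = true := by decide +kernel
theorem e8Ucol_4_9460 : allRange 9460 9515 ((fun k => collectCheck Cfsg.Lie.chevE8 hposE8 (k / 240) (k % 240))) = true := by decide +kernel
theorem e8Ucol_4_9515 : allRange 9515 9570 ((fun k => collectCheck Cfsg.Lie.chevE8 hposE8 (k / 240) (k % 240))) = true := by decide +kernel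
theorem e8Ucol_4_9570 : allRange 9570 9625 ((fun k => collectCheck Cfsg.Lie.chevE8 hposE8 (k / 240) (k % 240))) = true := by decide +kernel
theorem e8Ucol_4_9625 : allRange 9625 9680 ((fun k => collectCheck Cfsg.Lie.chevE8 hposE8 (k / 240) (k % 240))) = true := by decide +kernel
theorem e8Ucol_4_9680 : allRange 9680 9735 ((fun k => collectCheck Cfsg.Lie.chevE8 hposE8 (k / 240) (k % 240))) = true := by decide +kernel
theorem e8Ucol_4_9735 : allRange 9735 9790 ((fun k => collectCheck Cfsg.Lie.chevE8 hposE8 (k / 240) (k % 240))) = true := by decide +kernel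
theorem e8Ucol_4_9790 : allRange 9790 9845 ((fun k => collectCheck Cfsg.Lie.chevE8 hposE8 (k / 240) (k % 240))) = true := by decide +kernel
theorem e8Ucol_4_9845 : allRange 9845 9900 ((fun k => collectCheck Cfsg.Lie.chevE8 hposE8 (k / 240) (k % 240))) = true := by decide +kernel
theorem e8Ucol_4_9900 : allRange 9900 9955 ((fun k => collectCheck Cfsg.Lie.chevE8 hposE8 (k / 240) (k % 240))) = true := by decide +kernel
theorem e8Ucol_4_9955 : allRange 9955 10010 ((fun k => collectCheck Cfsg.Lie.chevE8 hposE8 (k / 240) (k % 240))) = true := by decide +kernel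
theorem e8Ucol_4_10010 : allRange 10010 10065 ((fun k => collectCheck Cfsg.Lie.chevE8 hposE8 (k / 240) (k % 240))) = true := by decide +kernel
theorem e8Ucol_4_10065 : allRange 10065 10120 ((fun k => collectCheck Cfsg.Lie.chevE8 hposE8 (k / 240) (k % 240))) = true := by decide +kernel
theorem e8Ucol_4_10120 : allRange 10120 10175 ((fun k => collectCheck Cfsg.Lie.chevE8 hposE8 (k / 240) (k % 240))) = true := by decide +kernel

/-- The terms of the commutator formula of type E8 lie higher (roots 8140 to 10174). -/
theorem e8Ucol_4 : ∀ r, 8140 ≤ r → r < 10175 → ((fun k => collectCheck Cfsg.Lie.chevE8 hposE8 (k / 240) (k % 240))) r = true := by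
  intro r h1 h2
  by_cases c0 : r < 8195
  · exact allRange_spec e8Ucol_4_8140 r (by omega) c0
  by_cases c1 : r < 8250
  · exact allRange_spec e8Ucol_4_8195 r (by omega) c1
  by_cases c2 : r < 8305
  · exact allRange_spec e8Ucol_4_8250 r (by omega) c2
  by_cases c3 : r < 8360
  · exact allRange_spec e8Ucol_4_8305 r (by omega) c3
  by_cases c4 : r < 8415
  · exact allRange_spec e8Ucol_4_8360 r (by omega) c4
  by_cases c5 : r < 8470
  · exact allRange_spec e8Ucol_4_8415 r (by omega) c5
  by_cases c6 : r < 8525
  · exact allRange_spec e8Ucol_4_8470 r (by omega) c6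
  by_cases c7 : r < 8580
  · exact allRange_spec e8Ucol_4_8525 r (by omega) c7
  by_cases c8 : r < 8635
  · exact allRange_spec e8Ucol_4_8580 r (by omega) c8
  by_cases c9 : r < 8690
  · exact allRange_spec e8Ucol_4_8635 r (by omega) c9
  by_cases c10 : r < 8745
  · exact allRange_spec e8Ucol_4_8690 r (by omega) c10
  by_cases c11 : r < 8800
  · exact allRange_spec e8Ucol_4_8745 r (by omega) c11
  by_cases c12 : r < 8855
  · exact allRange_spec e8Ucol_4_8800 r (by omega) c12
  by_cases c13 : r < 8910
  · exact allRange_spec e8Ucol_4_8855 r (by omega) c13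
  by_cases c14 : r < 8965
  · exact allRange_spec e8Ucol_4_8910 r (by omega) c14
  by_cases c15 : r < 9020
  · exact allRange_spec e8Ucol_4_8965 r (by omega) c15
  by_cases c16 : r < 9075
  · exact allRange_spec e8Ucol_4_9020 r (by omega) c16
  by_cases c17 : r < 9130
  · exact allRange_spec e8Ucol_4_9075 r (by omega) c17
  by_cases c18 : r < 9185
  · exact allRange_spec e8Ucol_4_9130 r (by omega) c18
  by_cases c19 : r < 9240
  · exact allRange_spec e8Ucol_4_9185 r (by omega) c19
  by_cases c20 : r < 9295
  · exact allRange_spec e8Ucol_4_9240 r (by omega) c20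
  by_cases c21 : r < 9350
  · exact allRange_spec e8Ucol_4_9295 r (by omega) c21
  by_cases c22 : r < 9405
  · exact allRange_spec e8Ucol_4_9350 r (by omega) c22
  by_cases c23 : r < 9460
  · exact allRange_spec e8Ucol_4_9405 r (by omega) c23
  by_cases c24 : r < 9515
  · exact allRange_spec e8Ucol_4_9460 r (by omega) c24
  by_cases c25 : r < 9570
  · exact allRange_spec e8Ucol_4_9515 r (by omega) c25
  by_cases c26 : r < 9625
  · exact allRange_spec e8Ucol_4_9570 r (by omega) c26
  by_cases c27 : r < 9680
  · exact allRange_spec e8Ucol_4_9625 r (by omega) c27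
  by_cases c28 : r < 9735
  · exact allRange_spec e8Ucol_4_9680 r (by omega) c28
  by_cases c29 : r < 9790
  · exact allRange_spec e8Ucol_4_9735 r (by omega) c29
  by_cases c30 : r < 9845
  · exact allRange_spec e8Ucol_4_9790 r (by omega) c30
  by_cases c31 : r < 9900
  · exact allRange_spec e8Ucol_4_9845 r (by omega) c31
  by_cases c32 : r < 9955
  · exact allRange_spec e8Ucol_4_9900 r (by omega) c32
  by_cases c33 : r < 10010
  · exact allRange_spec e8Ucol_4_9955 r (by omega) c33
  by_cases c34 : r < 10065
  · exact allRange_spec e8Ucol_4_10010 r (by omega) c34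
  by_cases c35 : r < 10120
  · exact allRange_spec e8Ucol_4_10065 r (by omega) c35
  exact allRange_spec e8Ucol_4_10120 r (by omega) h2

end Cfsg.Agent.Lib.Helper3.ChevM
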