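import Cfsg.Prelude.Def_ChevE8
import Cfsg.Agent.Lib.Helper3.ChevData.E8Uni
import Cfsg.Agent.Lib.Helper3.ChevU3
set_option autoImplicit false
set_option maxRecDepth 1000000
set_option Elab.async false

namespace Cfsg.Agent.Lib.Helper3.ChevM

theorem e8Ucol_6_12210 : allRange 12210 12265 ((fun k => collectCheck Cfsg.Lie.chevE8 hposE8 (k / 240) (k % 240))) = true := by decide +kernel
theorem e8Ucol_6_12265 : allRange 12265 12320 ((fun k => collectCheck Cfsg.Lie.chevE8 hposE8 (k / 240) (k % 240))) = true := by decide +kernel
theorem e8Ucol_6_12320 : allRange 12320 12375 ((fun k => collectCheck Cfsg.Lie.chevE8 hposE8 (k / 240) (k % 240))) = true := by decide +kernel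
theorem e8Ucol_6_12375 : allRange 12375 12430 ((fun k => collectCheck Cfsg.Lie.chevE8 hposE8 (k / 240) (k % 240))) = true := by decide +kernel
theorem e8Ucol_6_12430 : allRange 12430 12485 ((fun k => collectCheck Cfsg.Lie.chevE8 hposE8 (k / 240) (k % 240))) = true := by decide +kernel
theorem e8Ucol_6_12485 : allRange 12485 12540 ((fun k => collectCheck Cfsg.Lie.chevE8 hposE8 (k / 240) (k % 240))) = true := by decide +kernel
theorem e8Ucol_6_12540 : allRange 12540 12595 ((fun k => collectCheck Cfsg.Lie.chevE8 hposE8 (k / 240) (k % 240))) = true := by decide +kernel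
theorem e8Ucol_6_12595 : allRange 12595 12650 ((fun k => collectCheck Cfsg.Lie.chevE8 hposE8 (k / 240) (k % 240))) = true := by decide +kernel
theorem e8Ucol_6_12650 : allRange 12650 12705 ((fun k => collectCheck Cfsg.Lie.chevE8 hposE8 (k / 240) (k % 240))) = true := by decide +kernel
theorem e8Ucol_6_12705 : allRange 12705 12760 ((fun k => collectCheck Cfsg.Lie.chevE8 hposE8 (k / 240) (k % 240))) = true := by decide +kernel
theorem e8Ucol_6_12760 : allRange 12760 12815 ((fun k => collectCheck Cfsg.Lie.chevE8 hposE8 (k / 240) (k % 240))) = true := by decide +kernel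
theorem e8Ucol_6_12815 : allRange 12815 12870 ((fun k => collectCheck Cfsg.Lie.chevE8 hposE8 (k / 240) (k % 240))) = true := by decide +kernel
theorem e8Ucol_6_12870 : allRange 12870 12925 ((fun k => collectCheck Cfsg.Lie.chevE8 hposE8 (k / 240) (k % 240))) = true := by decide +kernel
theorem e8Ucol_6_12925 : allRange 12925 12980 ((fun k => collectCheck Cfsg.Lie.chevE8 hposE8 (k / 240) (k % 240))) = true := by decide +kernel
theorem e8Ucol_6_12980 : allRange 12980 13035 ((fun k => collectCheck Cfsg.Lie.chevE8 hposE8 (k / 240) (k % 240))) = true := by decide +kernel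
theorem e8Ucol_6_13035 : allRange 13035 13090 ((fun k => collectCheck Cfsg.Lie.chevE8 hposE8 (k / 240) (k % 240))) = true := by decide +kernel
theorem e8Ucol_6_13090 : allRange 13090 13145 ((fun k => collectCheck Cfsg.Lie.chevE8 hposE8 (k / 240) (k % 240))) = true := by decide +kernel
theorem e8Ucol_6_13145 : allRange 13145 13200 ((fun k => collectCheck Cfsg.Lie.chevE8 hposE8 (k / 240) (k % 240))) = true := by decide +kernel
theorem e8Ucol_6_13200 : allRange 13200 13255 ((fun k => collectCheck Cfsg.Lie.chevE8 hposE8 (k / 240) (k % 240))) = true := by decide +kernel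
theorem e8Ucol_6_13255 : allRange 13255 13310 ((fun k => collectCheck Cfsg.Lie.chevE8 hposE8 (k / 240) (k % 240))) = true := by decide +kernel
theorem e8Ucol_6_13310 : allRange 13310 13365 ((fun k => collectCheck Cfsg.Lie.chevE8 hposE8 (k / 240) (k % 240))) = true := by decide +kernel
theorem e8Ucol_6_13365 : allRange 13365 13420 ((fun k => collectCheck Cfsg.Lie.chevE8 hposE8 (k / 240) (k % 240))) = true := by decide +kernel
theorem e8Ucol_6_13420 : allRange 13420 13475 ((fun k => collectCheck Cfsg.Lie.chevE8 hposE8 (k / 240) (k % 240))) = true := by decide +kernel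
theorem e8Ucol_6_13475 : allRange 13475 13530 ((fun k => collectCheck Cfsg.Lie.chevE8 hposE8 (k / 240) (k % 240))) = true := by decide +kernel
theorem e8Ucol_6_13530 : allRange 13530 13585 ((fun k => collectCheck Cfsg.Lie.chevE8 hposE8 (k / 240) (k % 240))) = true := by decide +kernel
theorem e8Ucol_6_13585 : allRange 13585 13640 ((fun k => collectCheck Cfsg.Lie.chevE8 hposE8 (k / 240) (k % 240))) = true := by decide +kernel
theorem e8Ucol_6_13640 : allRange 13640 13695 ((fun k => collectCheck Cfsg.Lie.chevE8 hposE8 (k / 240) (k % 240))) = true := by decide +kernel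
theorem e8Ucol_6_13695 : allRange 13695 13750 ((fun k => collectCheck Cfsg.Lie.chevE8 hposE8 (k / 240) (k % 240))) = true := by decide +kernel
theorem e8Ucol_6_13750 : allRange 13750 13805 ((fun k => collectCheck Cfsg.Lie.chevE8 hposE8 (k / 240) (k % 240))) = true := by decide +kernel
theorem e8Ucol_6_13805 : allRange 13805 13860 ((fun k => collectCheck Cfsg.Lie.chevE8 hposE8 (k / 240) (k % 240))) = true := by decide +kernel
theorem e8Ucol_6_13860 : allRange 13860 13915 ((fun k => collectCheck Cfsg.Lie.chevE8 hposE8 (k / 240) (k % 240))) = true := by decide +kernel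
theorem e8Ucol_6_13915 : allRange 13915 13970 ((fun k => collectCheck Cfsg.Lie.chevE8 hposE8 (k / 240) (k % 240))) = true := by decide +kernel
theorem e8Ucol_6_13970 : allRange 13970 14025 ((fun k => collectCheck Cfsg.Lie.chevE8 hposE8 (k / 240) (k % 240))) = true := by decide +kernel
theorem e8Ucol_6_14025 : allRange 14025 14080 ((fun k => collectCheck Cfsg.Lie.chevE8 hposE8 (k / 240) (k % 240))) = true := by decide +kernel
theorem e8Ucol_6_14080 : allRange 14080 14135 ((fun k => collectCheck Cfsg.Lie.chevE8 hposE8 (k / 240) (k % 240))) = true := by decide +kernel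
theorem e8Ucol_6_14135 : allRange 14135 14190 ((fun k => collectCheck Cfsg.Lie.chevE8 hposE8 (k / 240) (k % 240))) = true := by decide +kernel
theorem e8Ucol_6_14190 : allRange 14190 14245 ((fun k => collectCheck Cfsg.Lie.chevE8 hposE8 (k / 240) (k % 240))) = true := by decide +kernel

/-- The terms of the commutator formula of type E8 lie higher (roots 12210 to 14244). -/
theorem e8Ucol_6 : ∀ r, 12210 ≤ r → r < 14245 → ((fun k => collectCheck Cfsg.Lie.chevE8 hposE8 (k / 240) (k % 240))) r = true := by
  intro r h1 h2
  by_cases c0 : r < 12265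
  · exact allRange_spec e8Ucol_6_12210 r (by omega) c0
  by_cases c1 : r < 12320
  · exact allRange_spec e8Ucol_6_12265 r (by omega) c1
  by_cases c2 : r < 12375
  · exact allRange_spec e8Ucol_6_12320 r (by omega) c2
  by_cases c3 : r < 12430
  · exact allRange_spec e8Ucol_6_12375 r (by omega) c3
  by_cases c4 : r < 12485
  · exact allRange_spec e8Ucol_6_12430 r (by omega) c4
  by_cases c5 : r < 12540
  · exact allRange_spec e8Ucol_6_12485 r (by omega) c5
  by_cases c6 : r < 12595
  · exact allRange_spec e8Ucol_6_12540 r (by omega) c6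
  by_cases c7 : r < 12650
  · exact allRange_spec e8Ucol_6_12595 r (by omega) c7
  by_cases c8 : r < 12705
  · exact allRange_spec e8Ucol_6_12650 r (by omega) c8
  by_cases c9 : r < 12760
  · exact allRange_spec e8Ucol_6_12705 r (by omega) c9
  by_cases c10 : r < 12815
  · exact allRange_spec e8Ucol_6_12760 r (by omega) c10
  by_cases c11 : r < 12870
  · exact allRange_spec e8Ucol_6_12815 r (by omega) c11
  by_cases c12 : r < 12925
  · exact allRange_spec e8Ucol_6_12870 r (by omega) c12
  by_cases c13 : r < 12980
  · exact allRange_spec e8Ucol_6_12925 r (by omega) c13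
  by_cases c14 : r < 13035
  · exact allRange_spec e8Ucol_6_12980 r (by omega) c14
  by_cases c15 : r < 13090
  · exact allRange_spec e8Ucol_6_13035 r (by omega) c15
  by_cases c16 : r < 13145
  · exact allRange_spec e8Ucol_6_13090 r (by omega) c16
  by_cases c17 : r < 13200
  · exact allRange_spec e8Ucol_6_13145 r (by omega) c17
  by_cases c18 : r < 13255
  · exact allRange_spec e8Ucol_6_13200 r (by omega) c18
  by_cases c19 : r < 13310
  · exact allRange_spec e8Ucol_6_13255 r (by omega) c19
  by_cases c20 : r < 13365
  · exact allRange_spec e8Ucol_6_13310 r (by omega) c20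
  by_cases c21 : r < 13420
  · exact allRange_spec e8Ucol_6_13365 r (by omega) c21
  by_cases c22 : r < 13475
  · exact allRange_spec e8Ucol_6_13420 r (by omega) c22
  by_cases c23 : r < 13530
  · exact allRange_spec e8Ucol_6_13475 r (by omega) c23
  by_cases c24 : r < 13585
  · exact allRange_spec e8Ucol_6_13530 r (by omega) c24
  by_cases c25 : r < 13640
  · exact allRange_spec e8Ucol_6_13585 r (by omega) c25
  by_cases c26 : r < 13695
  · exact allRange_spec e8Ucol_6_13640 r (by omega) c26
  by_cases c27 : r < 13750
  · exact allRange_spec e8Ucol_6_13695 r (by omega) c27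
  by_cases c28 : r < 13805
  · exact allRange_spec e8Ucol_6_13750 r (by omega) c28
  by_cases c29 : r < 13860
  · exact allRange_spec e8Ucol_6_13805 r (by omega) c29
  by_cases c30 : r < 13915
  · exact allRange_spec e8Ucol_6_13860 r (by omega) c30
  by_cases c31 : r < 13970
  · exact allRange_spec e8Ucol_6_13915 r (by omega) c31
  by_cases c32 : r < 14025
  · exact allRange_spec e8Ucol_6_13970 r (by omega) c32
  by_cases c33 : r < 14080
  · exact allRange_spec e8Ucol_6_14025 r (by omega) c33
  by_cases c34 : r < 14135
  · exact allRange_spec e8Ucol_6_14080 r (by omega) c34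
  by_cases c35 : r < 14190
  · exact allRange_spec e8Ucol_6_14135 r (by omega) c35
  exact allRange_spec e8Ucol_6_14190 r (by omega) h2

end Cfsg.Agent.Lib.Helper3.ChevM
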