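import Cfsg.Prelude.Def_ChevE8
import Cfsg.Agent.Lib.Helper3.ChevData.E8Uni
import Cfsg.Agent.Lib.Helper3.ChevU3
set_option autoImplicit false
set_option maxRecDepth 1000000
set_option Elab.async false

namespace Cfsg.Agent.Lib.Helper3.ChevM

theorem e8Ucol_7_14245 : allRange 14245 14300 ((fun k => collectCheck Cfsg.Lie.chevE8 hposE8 (k / 240) (k % 240))) = true := by decide +kernel
theorem e8Ucol_7_14300 : allRange 14300 14355 ((fun k => collectCheck Cfsg.Lie.chevE8 hposE8 (k / 240) (k % 240))) = true := by decide +kernel
theorem e8Ucol_7_14355 : allRange 14355 14410 ((fun k => collectCheck Cfsg.Lie.chevE8 hposE8 (k / 240) (k % 240))) = true := by decide +kernel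
theorem e8Ucol_7_14410 : allRange 14410 14465 ((fun k => collectCheck Cfsg.Lie.chevE8 hposE8 (k / 240) (k % 240))) = true := by decide +kernel
theorem e8Ucol_7_14465 : allRange 14465 14520 ((fun k => collectCheck Cfsg.Lie.chevE8 hposE8 (k / 240) (k % 240))) = true := by decide +kernel
theorem e8Ucol_7_14520 : allRange 14520 14575 ((fun k => collectCheck Cfsg.Lie.chevE8 hposE8 (k / 240) (k % 240))) = true := by decide +kernel
theorem e8Ucol_7_14575 : allRange 14575 14630 ((fun k => collectCheck Cfsg.Lie.chevE8 hposE8 (k / 240) (k % 240))) = true := by decide +kernel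
theorem e8Ucol_7_14630 : allRange 14630 14685 ((fun k => collectCheck Cfsg.Lie.chevE8 hposE8 (k / 240) (k % 240))) = true := by decide +kernel
theorem e8Ucol_7_14685 : allRange 14685 14740 ((fun k => collectCheck Cfsg.Lie.chevE8 hposE8 (k / 240) (k % 240))) = true := by decide +kernel
theorem e8Ucol_7_14740 : allRange 14740 14795 ((fun k => collectCheck Cfsg.Lie.chevE8 hposE8 (k / 240) (k % 240))) = true := by decide +kernel
theorem e8Ucol_7_14795 : allRange 14795 14850 ((fun k => collectCheck Cfsg.Lie.chevE8 hposE8 (k / 240) (k % 240))) = true := by decide +kernel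
theorem e8Ucol_7_14850 : allRange 14850 14905 ((fun k => collectCheck Cfsg.Lie.chevE8 hposE8 (k / 240) (k % 240))) = true := by decide +kernel
theorem e8Ucol_7_14905 : allRange 14905 14960 ((fun k => collectCheck Cfsg.Lie.chevE8 hposE8 (k / 240) (k % 240))) = true := by decide +kernel
theorem e8Ucol_7_14960 : allRange 14960 15015 ((fun k => collectCheck Cfsg.Lie.chevE8 hposE8 (k / 240) (k % 240))) = true := by decide +kernel
theorem e8Ucol_7_15015 : allRange 15015 15070 ((fun k => collectCheck Cfsg.Lie.chevE8 hposE8 (k / 240) (k % 240))) = true := by decide +kernel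
theorem e8Ucol_7_15070 : allRange 15070 15125 ((fun k => collectCheck Cfsg.Lie.chevE8 hposE8 (k / 240) (k % 240))) = true := by decide +kernel
theorem e8Ucol_7_15125 : allRange 15125 15180 ((fun k => collectCheck Cfsg.Lie.chevE8 hposE8 (k / 240) (k % 240))) = true := by decide +kernel
theorem e8Ucol_7_15180 : allRange 15180 15235 ((fun k => collectCheck Cfsg.Lie.chevE8 hposE8 (k / 240) (k % 240))) = true := by decide +kernel
theorem e8Ucol_7_15235 : allRange 15235 15290 ((fun k => collectCheck Cfsg.Lie.chevE8 hposE8 (k / 240) (k % 240))) = true := by decide +kernel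
theorem e8Ucol_7_15290 : allRange 15290 15345 ((fun k => collectCheck Cfsg.Lie.chevE8 hposE8 (k / 240) (k % 240))) = true := by decide +kernel
theorem e8Ucol_7_15345 : allRange 15345 15400 ((fun k => collectCheck Cfsg.Lie.chevE8 hposE8 (k / 240) (k % 240))) = true := by decide +kernel
theorem e8Ucol_7_15400 : allRange 15400 15455 ((fun k => collectCheck Cfsg.Lie.chevE8 hposE8 (k / 240) (k % 240))) = true := by decide +kernel
theorem e8Ucol_7_15455 : allRange 15455 15510 ((fun k => collectCheck Cfsg.Lie.chevE8 hposE8 (k / 240) (k % 240))) = true := by decide +kernel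
theorem e8Ucol_7_15510 : allRange 15510 15565 ((fun k => collectCheck Cfsg.Lie.chevE8 hposE8 (k / 240) (k % 240))) = true := by decide +kernel
theorem e8Ucol_7_15565 : allRange 15565 15620 ((fun k => collectCheck Cfsg.Lie.chevE8 hposE8 (k / 240) (k % 240))) = true := by decide +kernel
theorem e8Ucol_7_15620 : allRange 15620 15675 ((fun k => collectCheck Cfsg.Lie.chevE8 hposE8 (k / 240) (k % 240))) = true := by decide +kernel
theorem e8Ucol_7_15675 : allRange 15675 15730 ((fun k => collectCheck Cfsg.Lie.chevE8 hposE8 (k / 240) (k % 240))) = true := by decide +kernel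
theorem e8Ucol_7_15730 : allRange 15730 15785 ((fun k => collectCheck Cfsg.Lie.chevE8 hposE8 (k / 240) (k % 240))) = true := by decide +kernel
theorem e8Ucol_7_15785 : allRange 15785 15840 ((fun k => collectCheck Cfsg.Lie.chevE8 hposE8 (k / 240) (k % 240))) = true := by decide +kernel
theorem e8Ucol_7_15840 : allRange 15840 15895 ((fun k => collectCheck Cfsg.Lie.chevE8 hposE8 (k / 240) (k % 240))) = true := by decide +kernel
theorem e8Ucol_7_15895 : allRange 15895 15950 ((fun k => collectCheck Cfsg.Lie.chevE8 hposE8 (k / 240) (k % 240))) = true := by decide +kernel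
theorem e8Ucol_7_15950 : allRange 15950 16005 ((fun k => collectCheck Cfsg.Lie.chevE8 hposE8 (k / 240) (k % 240))) = true := by decide +kernel
theorem e8Ucol_7_16005 : allRange 16005 16060 ((fun k => collectCheck Cfsg.Lie.chevE8 hposE8 (k / 240) (k % 240))) = true := by decide +kernel
theorem e8Ucol_7_16060 : allRange 16060 16115 ((fun k => collectCheck Cfsg.Lie.chevE8 hposE8 (k / 240) (k % 240))) = true := by decide +kernel
theorem e8Ucol_7_16115 : allRange 16115 16170 ((fun k => collectCheck Cfsg.Lie.chevE8 hposE8 (k / 240) (k % 240))) = true := by decide +kernel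
theorem e8Ucol_7_16170 : allRange 16170 16225 ((fun k => collectCheck Cfsg.Lie.chevE8 hposE8 (k / 240) (k % 240))) = true := by decide +kernel
theorem e8Ucol_7_16225 : allRange 16225 16280 ((fun k => collectCheck Cfsg.Lie.chevE8 hposE8 (k / 240) (k % 240))) = true := by decide +kernel

/-- The terms of the commutator formula of type E8 lie higher (roots 14245 to 16279). -/
theorem e8Ucol_7 : ∀ r, 14245 ≤ r → r < 16280 → ((fun k => collectCheck Cfsg.Lie.chevE8 hposE8 (k / 240) (k % 240))) r = true := by
  intro r h1 h2
  by_cases c0 : r < 14300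
  · exact allRange_spec e8Ucol_7_14245 r (by omega) c0
  by_cases c1 : r < 14355
  · exact allRange_spec e8Ucol_7_14300 r (by omega) c1
  by_cases c2 : r < 14410
  · exact allRange_spec e8Ucol_7_14355 r (by omega) c2
  by_cases c3 : r < 14465
  · exact allRange_spec e8Ucol_7_14410 r (by omega) c3
  by_cases c4 : r < 14520
  · exact allRange_spec e8Ucol_7_14465 r (by omega) c4
  by_cases c5 : r < 14575
  · exact allRange_spec e8Ucol_7_14520 r (by omega) c5
  by_cases c6 : r < 14630
  · exact allRange_spec e8Ucol_7_14575 r (by omega) c6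
  by_cases c7 : r < 14685
  · exact allRange_spec e8Ucol_7_14630 r (by omega) c7
  by_cases c8 : r < 14740
  · exact allRange_spec e8Ucol_7_14685 r (by omega) c8
  by_cases c9 : r < 14795
  · exact allRange_spec e8Ucol_7_14740 r (by omega) c9
  by_cases c10 : r < 14850
  · exact allRange_spec e8Ucol_7_14795 r (by omega) c10
  by_cases c11 : r < 14905
  · exact allRange_spec e8Ucol_7_14850 r (by omega) c11
  by_cases c12 : r < 14960
  · exact allRange_spec e8Ucol_7_14905 r (by omega) c12
  by_cases c13 : r < 15015
  · exact allRange_spec e8Ucol_7_14960 r (by omega) c13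
  by_cases c14 : r < 15070
  · exact allRange_spec e8Ucol_7_15015 r (by omega) c14
  by_cases c15 : r < 15125
  · exact allRange_spec e8Ucol_7_15070 r (by omega) c15
  by_cases c16 : r < 15180
  · exact allRange_spec e8Ucol_7_15125 r (by omega) c16
  by_cases c17 : r < 15235
  · exact allRange_spec e8Ucol_7_15180 r (by omega) c17
  by_cases c18 : r < 15290
  · exact allRange_spec e8Ucol_7_15235 r (by omega) c18
  by_cases c19 : r < 15345
  · exact allRange_spec e8Ucol_7_15290 r (by omega) c19
  by_cases c20 : r < 15400
  · exact allRange_spec e8Ucol_7_15345 r (by omega) c20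
  by_cases c21 : r < 15455
  · exact allRange_spec e8Ucol_7_15400 r (by omega) c21
  by_cases c22 : r < 15510
  · exact allRange_spec e8Ucol_7_15455 r (by omega) c22
  by_cases c23 : r < 15565
  · exact allRange_spec e8Ucol_7_15510 r (by omega) c23
  by_cases c24 : r < 15620
  · exact allRange_spec e8Ucol_7_15565 r (by omega) c24
  by_cases c25 : r < 15675
  · exact allRange_spec e8Ucol_7_15620 r (by omega) c25
  by_cases c26 : r < 15730
  · exact allRange_spec e8Ucol_7_15675 r (by omega) c26
  by_cases c27 : r < 15785
  · exact allRange_spec e8Ucol_7_15730 r (by omega) c27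
  by_cases c28 : r < 15840
  · exact allRange_spec e8Ucol_7_15785 r (by omega) c28
  by_cases c29 : r < 15895
  · exact allRange_spec e8Ucol_7_15840 r (by omega) c29
  by_cases c30 : r < 15950
  · exact allRange_spec e8Ucol_7_15895 r (by omega) c30
  by_cases c31 : r < 16005
  · exact allRange_spec e8Ucol_7_15950 r (by omega) c31
  by_cases c32 : r < 16060
  · exact allRange_spec e8Ucol_7_16005 r (by omega) c32
  by_cases c33 : r < 16115
  · exact allRange_spec e8Ucol_7_16060 r (by omega) c33
  by_cases c34 : r < 16170
  · exact allRange_spec e8Ucol_7_16115 r (by omega) c34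
  by_cases c35 : r < 16225
  · exact allRange_spec e8Ucol_7_16170 r (by omega) c35
  exact allRange_spec e8Ucol_7_16225 r (by omega) h2

end Cfsg.Agent.Lib.Helper3.ChevM
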