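import Cfsg.Prelude.Def_ChevE8
import Cfsg.Agent.Lib.Helper3.ChevData.E8Uni
import Cfsg.Agent.Lib.Helper3.ChevU3
set_option autoImplicit false
set_option maxRecDepth 1000000
set_option Elab.async false

namespace Cfsg.Agent.Lib.Helper3.ChevM

theorem e8Ucol_8_16280 : allRange 16280 16335 ((fun k => collectCheck Cfsg.Lie.chevE8 hposE8 (k / 240) (k % 240))) = true := by decide +kernel
theorem e8Ucol_8_16335 : allRange 16335 16390 ((fun k => collectCheck Cfsg.Lie.chevE8 hposE8 (k / 240) (k % 240))) = true := by decide +kernel
theorem e8Ucol_8_16390 : allRange 16390 16445 ((fun k => collectCheck Cfsg.Lie.chevE8 hposE8 (k / 240) (k % 240))) = true := by decide +kernel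
theorem e8Ucol_8_16445 : allRange 16445 16500 ((fun k => collectCheck Cfsg.Lie.chevE8 hposE8 (k / 240) (k % 240))) = true := by decide +kernel
theorem e8Ucol_8_16500 : allRange 16500 16555 ((fun k => collectCheck Cfsg.Lie.chevE8 hposE8 (k / 240) (k % 240))) = true := by decide +kernel
theorem e8Ucol_8_16555 : allRange 16555 16610 ((fun k => collectCheck Cfsg.Lie.chevE8 hposE8 (k / 240) (k % 240))) = true := by decide +kernel
theorem e8Ucol_8_16610 : allRange 16610 16665 ((fun k => collectCheck Cfsg.Lie.chevE8 hposE8 (k / 240) (k % 240))) = true := by decide +kernel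
theorem e8Ucol_8_16665 : allRange 16665 16720 ((fun k => collectCheck Cfsg.Lie.chevE8 hposE8 (k / 240) (k % 240))) = true := by decide +kernel
theorem e8Ucol_8_16720 : allRange 16720 16775 ((fun k => collectCheck Cfsg.Lie.chevE8 hposE8 (k / 240) (k % 240))) = true := by decide +kernel
theorem e8Ucol_8_16775 : allRange 16775 16830 ((fun k => collectCheck Cfsg.Lie.chevE8 hposE8 (k / 240) (k % 240))) = true := by decide +kernel
theorem e8Ucol_8_16830 : allRange 16830 16885 ((fun k => collectCheck Cfsg.Lie.chevE8 hposE8 (k / 240) (k % 240))) = true := by decide +kernel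
theorem e8Ucol_8_16885 : allRange 16885 16940 ((fun k => collectCheck Cfsg.Lie.chevE8 hposE8 (k / 240) (k % 240))) = true := by decide +kernel
theorem e8Ucol_8_16940 : allRange 16940 16995 ((fun k => collectCheck Cfsg.Lie.chevE8 hposE8 (k / 240) (k % 240))) = true := by decide +kernel
theorem e8Ucol_8_16995 : allRange 16995 17050 ((fun k => collectCheck Cfsg.Lie.chevE8 hposE8 (k / 240) (k % 240))) = true := by decide +kernel
theorem e8Ucol_8_17050 : allRange 17050 17105 ((fun k => collectCheck Cfsg.Lie.chevE8 hposE8 (k / 240) (k % 240))) = true := by decide +kernel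
theorem e8Ucol_8_17105 : allRange 17105 17160 ((fun k => collectCheck Cfsg.Lie.chevE8 hposE8 (k / 240) (k % 240))) = true := by decide +kernel
theorem e8Ucol_8_17160 : allRange 17160 17215 ((fun k => collectCheck Cfsg.Lie.chevE8 hposE8 (k / 240) (k % 240))) = true := by decide +kernel
theorem e8Ucol_8_17215 : allRange 17215 17270 ((fun k => collectCheck Cfsg.Lie.chevE8 hposE8 (k / 240) (k % 240))) = true := by decide +kernel
theorem e8Ucol_8_17270 : allRange 17270 17325 ((fun k => collectCheck Cfsg.Lie.chevE8 hposE8 (k / 240) (k % 240))) = true := by decide +kernel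
theorem e8Ucol_8_17325 : allRange 17325 17380 ((fun k => collectCheck Cfsg.Lie.chevE8 hposE8 (k / 240) (k % 240))) = true := by decide +kernel
theorem e8Ucol_8_17380 : allRange 17380 17435 ((fun k => collectCheck Cfsg.Lie.chevE8 hposE8 (k / 240) (k % 240))) = true := by decide +kernel
theorem e8Ucol_8_17435 : allRange 17435 17490 ((fun k => collectCheck Cfsg.Lie.chevE8 hposE8 (k / 240) (k % 240))) = true := by decide +kernel
theorem e8Ucol_8_17490 : allRange 17490 17545 ((fun k => collectCheck Cfsg.Lie.chevE8 hposE8 (k / 240) (k % 240))) = true := by decide +kernel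
theorem e8Ucol_8_17545 : allRange 17545 17600 ((fun k => collectCheck Cfsg.Lie.chevE8 hposE8 (k / 240) (k % 240))) = true := by decide +kernel
theorem e8Ucol_8_17600 : allRange 17600 17655 ((fun k => collectCheck Cfsg.Lie.chevE8 hposE8 (k / 240) (k % 240))) = true := by decide +kernel
theorem e8Ucol_8_17655 : allRange 17655 17710 ((fun k => collectCheck Cfsg.Lie.chevE8 hposE8 (k / 240) (k % 240))) = true := by decide +kernel
theorem e8Ucol_8_17710 : allRange 17710 17765 ((fun k => collectCheck Cfsg.Lie.chevE8 hposE8 (k / 240) (k % 240))) = true := by decide +kernel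
theorem e8Ucol_8_17765 : allRange 17765 17820 ((fun k => collectCheck Cfsg.Lie.chevE8 hposE8 (k / 240) (k % 240))) = true := by decide +kernel
theorem e8Ucol_8_17820 : allRange 17820 17875 ((fun k => collectCheck Cfsg.Lie.chevE8 hposE8 (k / 240) (k % 240))) = true := by decide +kernel
theorem e8Ucol_8_17875 : allRange 17875 17930 ((fun k => collectCheck Cfsg.Lie.chevE8 hposE8 (k / 240) (k % 240))) = true := by decide +kernel
theorem e8Ucol_8_17930 : allRange 17930 17985 ((fun k => collectCheck Cfsg.Lie.chevE8 hposE8 (k / 240) (k % 240))) = true := by decide +kernel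
theorem e8Ucol_8_17985 : allRange 17985 18040 ((fun k => collectCheck Cfsg.Lie.chevE8 hposE8 (k / 240) (k % 240))) = true := by decide +kernel
theorem e8Ucol_8_18040 : allRange 18040 18095 ((fun k => collectCheck Cfsg.Lie.chevE8 hposE8 (k / 240) (k % 240))) = true := by decide +kernel
theorem e8Ucol_8_18095 : allRange 18095 18150 ((fun k => collectCheck Cfsg.Lie.chevE8 hposE8 (k / 240) (k % 240))) = true := by decide +kernel
theorem e8Ucol_8_18150 : allRange 18150 18205 ((fun k => collectCheck Cfsg.Lie.chevE8 hposE8 (k / 240) (k % 240))) = true := by decide +kernel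
theorem e8Ucol_8_18205 : allRange 18205 18260 ((fun k => collectCheck Cfsg.Lie.chevE8 hposE8 (k / 240) (k % 240))) = true := by decide +kernel
theorem e8Ucol_8_18260 : allRange 18260 18315 ((fun k => collectCheck Cfsg.Lie.chevE8 hposE8 (k / 240) (k % 240))) = true := by decide +kernel

/-- The terms of the commutator formula of type E8 lie higher (roots 16280 to 18314). -/
theorem e8Ucol_8 : ∀ r, 16280 ≤ r → r < 18315 → ((fun k => collectCheck Cfsg.Lie.chevE8 hposE8 (k / 240) (k % 240))) r = true := by
  intro r h1 h2
  by_cases c0 : r < 16335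
  · exact allRange_spec e8Ucol_8_16280 r (by omega) c0
  by_cases c1 : r < 16390
  · exact allRange_spec e8Ucol_8_16335 r (by omega) c1
  by_cases c2 : r < 16445
  · exact allRange_spec e8Ucol_8_16390 r (by omega) c2
  by_cases c3 : r < 16500
  · exact allRange_spec e8Ucol_8_16445 r (by omega) c3
  by_cases c4 : r < 16555
  · exact allRange_spec e8Ucol_8_16500 r (by omega) c4
  by_cases c5 : r < 16610
  · exact allRange_spec e8Ucol_8_16555 r (by omega) c5
  by_cases c6 : r < 16665
  · exact allRange_spec e8Ucol_8_16610 r (by omega) c6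
  by_cases c7 : r < 16720
  · exact allRange_spec e8Ucol_8_16665 r (by omega) c7
  by_cases c8 : r < 16775
  · exact allRange_spec e8Ucol_8_16720 r (by omega) c8
  by_cases c9 : r < 16830
  · exact allRange_spec e8Ucol_8_16775 r (by omega) c9
  by_cases c10 : r < 16885
  · exact allRange_spec e8Ucol_8_16830 r (by omega) c10
  by_cases c11 : r < 16940
  · exact allRange_spec e8Ucol_8_16885 r (by omega) c11
  by_cases c12 : r < 16995
  · exact allRange_spec e8Ucol_8_16940 r (by omega) c12
  by_cases c13 : r < 17050
  · exact allRange_spec e8Ucol_8_16995 r (by omega) c13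
  by_cases c14 : r < 17105
  · exact allRange_spec e8Ucol_8_17050 r (by omega) c14
  by_cases c15 : r < 17160
  · exact allRange_spec e8Ucol_8_17105 r (by omega) c15
  by_cases c16 : r < 17215
  · exact allRange_spec e8Ucol_8_17160 r (by omega) c16
  by_cases c17 : r < 17270
  · exact allRange_spec e8Ucol_8_17215 r (by omega) c17
  by_cases c18 : r < 17325
  · exact allRange_spec e8Ucol_8_17270 r (by omega) c18
  by_cases c19 : r < 17380
  · exact allRange_spec e8Ucol_8_17325 r (by omega) c19
  by_cases c20 : r < 17435
  · exact allRange_spec e8Ucol_8_17380 r (by omega) c20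
  by_cases c21 : r < 17490
  · exact allRange_spec e8Ucol_8_17435 r (by omega) c21
  by_cases c22 : r < 17545
  · exact allRange_spec e8Ucol_8_17490 r (by omega) c22
  by_cases c23 : r < 17600
  · exact allRange_spec e8Ucol_8_17545 r (by omega) c23
  by_cases c24 : r < 17655
  · exact allRange_spec e8Ucol_8_17600 r (by omega) c24
  by_cases c25 : r < 17710
  · exact allRange_spec e8Ucol_8_17655 r (by omega) c25
  by_cases c26 : r < 17765
  · exact allRange_spec e8Ucol_8_17710 r (by omega) c26
  by_cases c27 : r < 17820
  · exact allRange_spec e8Ucol_8_17765 r (by omega) c27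
  by_cases c28 : r < 17875
  · exact allRange_spec e8Ucol_8_17820 r (by omega) c28
  by_cases c29 : r < 17930
  · exact allRange_spec e8Ucol_8_17875 r (by omega) c29
  by_cases c30 : r < 17985
  · exact allRange_spec e8Ucol_8_17930 r (by omega) c30
  by_cases c31 : r < 18040
  · exact allRange_spec e8Ucol_8_17985 r (by omega) c31
  by_cases c32 : r < 18095
  · exact allRange_spec e8Ucol_8_18040 r (by omega) c32
  by_cases c33 : r < 18150
  · exact allRange_spec e8Ucol_8_18095 r (by omega) c33
  by_cases c34 : r < 18205
  · exact allRange_spec e8Ucol_8_18150 r (by omega) c34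
  by_cases c35 : r < 18260
  · exact allRange_spec e8Ucol_8_18205 r (by omega) c35
  exact allRange_spec e8Ucol_8_18260 r (by omega) h2

end Cfsg.Agent.Lib.Helper3.ChevM
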