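import Cfsg.Prelude.Def_ChevE8
import Cfsg.Agent.Lib.Helper3.ChevData.E8Uni
import Cfsg.Agent.Lib.Helper3.ChevU3
set_option autoImplicit false
set_option maxRecDepth 1000000
set_option Elab.async false

namespace Cfsg.Agent.Lib.Helper3.ChevM

theorem e8Ucol_11_22385 : allRange 22385 22440 ((fun k => collectCheck Cfsg.Lie.chevE8 hposE8 (k / 240) (k % 240))) = true := by decide +kernel
theorem e8Ucol_11_22440 : allRange 22440 22495 ((fun k => collectCheck Cfsg.Lie.chevE8 hposE8 (k / 240) (k % 240))) = true := by decide +kernel
theorem e8Ucol_11_22495 : allRange 22495 22550 ((fun k => collectCheck Cfsg.Lie.chevE8 hposE8 (k / 240) (k % 240))) = true := by decide +kernel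
theorem e8Ucol_11_22550 : allRange 22550 22605 ((fun k => collectCheck Cfsg.Lie.chevE8 hposE8 (k / 240) (k % 240))) = true := by decide +kernel
theorem e8Ucol_11_22605 : allRange 22605 22660 ((fun k => collectCheck Cfsg.Lie.chevE8 hposE8 (k / 240) (k % 240))) = true := by decide +kernel
theorem e8Ucol_11_22660 : allRange 22660 22715 ((fun k => collectCheck Cfsg.Lie.chevE8 hposE8 (k / 240) (k % 240))) = true := by decide +kernel
theorem e8Ucol_11_22715 : allRange 22715 22770 ((fun k => collectCheck Cfsg.Lie.chevE8 hposE8 (k / 240) (k % 240))) = true := by decide +kernel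
theorem e8Ucol_11_22770 : allRange 22770 22825 ((fun k => collectCheck Cfsg.Lie.chevE8 hposE8 (k / 240) (k % 240))) = true := by decide +kernel
theorem e8Ucol_11_22825 : allRange 22825 22880 ((fun k => collectCheck Cfsg.Lie.chevE8 hposE8 (k / 240) (k % 240))) = true := by decide +kernel
theorem e8Ucol_11_22880 : allRange 22880 22935 ((fun k => collectCheck Cfsg.Lie.chevE8 hposE8 (k / 240) (k % 240))) = true := by decide +kernel
theorem e8Ucol_11_22935 : allRange 22935 22990 ((fun k => collectCheck Cfsg.Lie.chevE8 hposE8 (k / 240) (k % 240))) = true := by decide +kernel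
theorem e8Ucol_11_22990 : allRange 22990 23045 ((fun k => collectCheck Cfsg.Lie.chevE8 hposE8 (k / 240) (k % 240))) = true := by decide +kernel
theorem e8Ucol_11_23045 : allRange 23045 23100 ((fun k => collectCheck Cfsg.Lie.chevE8 hposE8 (k / 240) (k % 240))) = true := by decide +kernel
theorem e8Ucol_11_23100 : allRange 23100 23155 ((fun k => collectCheck Cfsg.Lie.chevE8 hposE8 (k / 240) (k % 240))) = true := by decide +kernel
theorem e8Ucol_11_23155 : allRange 23155 23210 ((fun k => collectCheck Cfsg.Lie.chevE8 hposE8 (k / 240) (k % 240))) = true := by decide +kernel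
theorem e8Ucol_11_23210 : allRange 23210 23265 ((fun k => collectCheck Cfsg.Lie.chevE8 hposE8 (k / 240) (k % 240))) = true := by decide +kernel
theorem e8Ucol_11_23265 : allRange 23265 23320 ((fun k => collectCheck Cfsg.Lie.chevE8 hposE8 (k / 240) (k % 240))) = true := by decide +kernel
theorem e8Ucol_11_23320 : allRange 23320 23375 ((fun k => collectCheck Cfsg.Lie.chevE8 hposE8 (k / 240) (k % 240))) = true := by decide +kernel
theorem e8Ucol_11_23375 : allRange 23375 23430 ((fun k => collectCheck Cfsg.Lie.chevE8 hposE8 (k / 240) (k % 240))) = true := by decide +kernel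
theorem e8Ucol_11_23430 : allRange 23430 23485 ((fun k => collectCheck Cfsg.Lie.chevE8 hposE8 (k / 240) (k % 240))) = true := by decide +kernel
theorem e8Ucol_11_23485 : allRange 23485 23540 ((fun k => collectCheck Cfsg.Lie.chevE8 hposE8 (k / 240) (k % 240))) = true := by decide +kernel
theorem e8Ucol_11_23540 : allRange 23540 23595 ((fun k => collectCheck Cfsg.Lie.chevE8 hposE8 (k / 240) (k % 240))) = true := by decide +kernel
theorem e8Ucol_11_23595 : allRange 23595 23650 ((fun k => collectCheck Cfsg.Lie.chevE8 hposE8 (k / 240) (k % 240))) = true := by decide +kernel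
theorem e8Ucol_11_23650 : allRange 23650 23705 ((fun k => collectCheck Cfsg.Lie.chevE8 hposE8 (k / 240) (k % 240))) = true := by decide +kernel
theorem e8Ucol_11_23705 : allRange 23705 23760 ((fun k => collectCheck Cfsg.Lie.chevE8 hposE8 (k / 240) (k % 240))) = true := by decide +kernel
theorem e8Ucol_11_23760 : allRange 23760 23815 ((fun k => collectCheck Cfsg.Lie.chevE8 hposE8 (k / 240) (k % 240))) = true := by decide +kernel
theorem e8Ucol_11_23815 : allRange 23815 23870 ((fun k => collectCheck Cfsg.Lie.chevE8 hposE8 (k / 240) (k % 240))) = true := by decide +kernel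
theorem e8Ucol_11_23870 : allRange 23870 23925 ((fun k => collectCheck Cfsg.Lie.chevE8 hposE8 (k / 240) (k % 240))) = true := by decide +kernel
theorem e8Ucol_11_23925 : allRange 23925 23980 ((fun k => collectCheck Cfsg.Lie.chevE8 hposE8 (k / 240) (k % 240))) = true := by decide +kernel
theorem e8Ucol_11_23980 : allRange 23980 24035 ((fun k => collectCheck Cfsg.Lie.chevE8 hposE8 (k / 240) (k % 240))) = true := by decide +kernel
theorem e8Ucol_11_24035 : allRange 24035 24090 ((fun k => collectCheck Cfsg.Lie.chevE8 hposE8 (k / 240) (k % 240))) = true := by decide +kernel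
theorem e8Ucol_11_24090 : allRange 24090 24145 ((fun k => collectCheck Cfsg.Lie.chevE8 hposE8 (k / 240) (k % 240))) = true := by decide +kernel
theorem e8Ucol_11_24145 : allRange 24145 24200 ((fun k => collectCheck Cfsg.Lie.chevE8 hposE8 (k / 240) (k % 240))) = true := by decide +kernel
theorem e8Ucol_11_24200 : allRange 24200 24255 ((fun k => collectCheck Cfsg.Lie.chevE8 hposE8 (k / 240) (k % 240))) = true := by decide +kernel
theorem e8Ucol_11_24255 : allRange 24255 24310 ((fun k => collectCheck Cfsg.Lie.chevE8 hposE8 (k / 240) (k % 240))) = true := by decide +kernel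
theorem e8Ucol_11_24310 : allRange 24310 24365 ((fun k => collectCheck Cfsg.Lie.chevE8 hposE8 (k / 240) (k % 240))) = true := by decide +kernel
theorem e8Ucol_11_24365 : allRange 24365 24420 ((fun k => collectCheck Cfsg.Lie.chevE8 hposE8 (k / 240) (k % 240))) = true := by decide +kernel

/-- The terms of the commutator formula of type E8 lie higher (roots 22385 to 24419). -/
theorem e8Ucol_11 : ∀ r, 22385 ≤ r → r < 24420 → ((fun k => collectCheck Cfsg.Lie.chevE8 hposE8 (k / 240) (k % 240))) r = true := by
  intro r h1 h2
  by_cases c0 : r < 22440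
  · exact allRange_spec e8Ucol_11_22385 r (by omega) c0
  by_cases c1 : r < 22495
  · exact allRange_spec e8Ucol_11_22440 r (by omega) c1
  by_cases c2 : r < 22550
  · exact allRange_spec e8Ucol_11_22495 r (by omega) c2
  by_cases c3 : r < 22605
  · exact allRange_spec e8Ucol_11_22550 r (by omega) c3
  by_cases c4 : r < 22660
  · exact allRange_spec e8Ucol_11_22605 r (by omega) c4
  by_cases c5 : r < 22715
  · exact allRange_spec e8Ucol_11_22660 r (by omega) c5
  by_cases c6 : r < 22770
  · exact allRange_spec e8Ucol_11_22715 r (by omega) c6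
  by_cases c7 : r < 22825
  · exact allRange_spec e8Ucol_11_22770 r (by omega) c7
  by_cases c8 : r < 22880
  · exact allRange_spec e8Ucol_11_22825 r (by omega) c8
  by_cases c9 : r < 22935
  · exact allRange_spec e8Ucol_11_22880 r (by omega) c9
  by_cases c10 : r < 22990
  · exact allRange_spec e8Ucol_11_22935 r (by omega) c10
  by_cases c11 : r < 23045
  · exact allRange_spec e8Ucol_11_22990 r (by omega) c11
  by_cases c12 : r < 23100
  · exact allRange_spec e8Ucol_11_23045 r (by omega) c12
  by_cases c13 : r < 23155
  · exact allRange_spec e8Ucol_11_23100 r (by omega) c13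
  by_cases c14 : r < 23210
  · exact allRange_spec e8Ucol_11_23155 r (by omega) c14
  by_cases c15 : r < 23265
  · exact allRange_spec e8Ucol_11_23210 r (by omega) c15
  by_cases c16 : r < 23320
  · exact allRange_spec e8Ucol_11_23265 r (by omega) c16
  by_cases c17 : r < 23375
  · exact allRange_spec e8Ucol_11_23320 r (by omega) c17
  by_cases c18 : r < 23430
  · exact allRange_spec e8Ucol_11_23375 r (by omega) c18
  by_cases c19 : r < 23485
  · exact allRange_spec e8Ucol_11_23430 r (by omega) c19
  by_cases c20 : r < 23540
  · exact allRange_spec e8Ucol_11_23485 r (by omega) c20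
  by_cases c21 : r < 23595
  · exact allRange_spec e8Ucol_11_23540 r (by omega) c21
  by_cases c22 : r < 23650
  · exact allRange_spec e8Ucol_11_23595 r (by omega) c22
  by_cases c23 : r < 23705
  · exact allRange_spec e8Ucol_11_23650 r (by omega) c23
  by_cases c24 : r < 23760
  · exact allRange_spec e8Ucol_11_23705 r (by omega) c24
  by_cases c25 : r < 23815
  · exact allRange_spec e8Ucol_11_23760 r (by omega) c25
  by_cases c26 : r < 23870
  · exact allRange_spec e8Ucol_11_23815 r (by omega) c26
  by_cases c27 : r < 23925
  · exact allRange_spec e8Ucol_11_23870 r (by omega) c27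
  by_cases c28 : r < 23980
  · exact allRange_spec e8Ucol_11_23925 r (by omega) c28
  by_cases c29 : r < 24035
  · exact allRange_spec e8Ucol_11_23980 r (by omega) c29
  by_cases c30 : r < 24090
  · exact allRange_spec e8Ucol_11_24035 r (by omega) c30
  by_cases c31 : r < 24145
  · exact allRange_spec e8Ucol_11_24090 r (by omega) c31
  by_cases c32 : r < 24200
  · exact allRange_spec e8Ucol_11_24145 r (by omega) c32
  by_cases c33 : r < 24255
  · exact allRange_spec e8Ucol_11_24200 r (by omega) c33
  by_cases c34 : r < 24310
  · exact allRange_spec e8Ucol_11_24255 r (by omega) c34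
  by_cases c35 : r < 24365
  · exact allRange_spec e8Ucol_11_24310 r (by omega) c35
  exact allRange_spec e8Ucol_11_24365 r (by omega) h2

end Cfsg.Agent.Lib.Helper3.ChevM
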