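import Cfsg.Prelude.Def_ChevE8
import Cfsg.Agent.Lib.Helper3.ChevData.E8Uni
import Cfsg.Agent.Lib.Helper3.ChevU3
set_option autoImplicit false
set_option maxRecDepth 1000000
set_option Elab.async false

namespace Cfsg.Agent.Lib.Helper3.ChevM

theorem e8Ucol_13_26455 : allRange 26455 26510 ((fun k => collectCheck Cfsg.Lie.chevE8 hposE8 (k / 240) (k % 240))) = true := by decide +kernel
theorem e8Ucol_13_26510 : allRange 26510 26565 ((fun k => collectCheck Cfsg.Lie.chevE8 hposE8 (k / 240) (k % 240))) = true := by decide +kernel
theorem e8Ucol_13_26565 : allRange 26565 26620 ((fun k => collectCheck Cfsg.Lie.chevE8 hposE8 (k / 240) (k % 240))) = true := by decide +kernel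
theorem e8Ucol_13_26620 : allRange 26620 26675 ((fun k => collectCheck Cfsg.Lie.chevE8 hposE8 (k / 240) (k % 240))) = true := by decide +kernel
theorem e8Ucol_13_26675 : allRange 26675 26730 ((fun k => collectCheck Cfsg.Lie.chevE8 hposE8 (k / 240) (k % 240))) = true := by decide +kernel
theorem e8Ucol_13_26730 : allRange 26730 26785 ((fun k => collectCheck Cfsg.Lie.chevE8 hposE8 (k / 240) (k % 240))) = true := by decide +kernel
theorem e8Ucol_13_26785 : allRange 26785 26840 ((fun k => collectCheck Cfsg.Lie.chevE8 hposE8 (k / 240) (k % 240))) = true := by decide +kernel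
theorem e8Ucol_13_26840 : allRange 26840 26895 ((fun k => collectCheck Cfsg.Lie.chevE8 hposE8 (k / 240) (k % 240))) = true := by decide +kernel
theorem e8Ucol_13_26895 : allRange 26895 26950 ((fun k => collectCheck Cfsg.Lie.chevE8 hposE8 (k / 240) (k % 240))) = true := by decide +kernel
theorem e8Ucol_13_26950 : allRange 26950 27005 ((fun k => collectCheck Cfsg.Lie.chevE8 hposE8 (k / 240) (k % 240))) = true := by decide +kernel
theorem e8Ucol_13_27005 : allRange 27005 27060 ((fun k => collectCheck Cfsg.Lie.chevE8 hposE8 (k / 240) (k % 240))) = true := by decide +kernel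
theorem e8Ucol_13_27060 : allRange 27060 27115 ((fun k => collectCheck Cfsg.Lie.chevE8 hposE8 (k / 240) (k % 240))) = true := by decide +kernel
theorem e8Ucol_13_27115 : allRange 27115 27170 ((fun k => collectCheck Cfsg.Lie.chevE8 hposE8 (k / 240) (k % 240))) = true := by decide +kernel
theorem e8Ucol_13_27170 : allRange 27170 27225 ((fun k => collectCheck Cfsg.Lie.chevE8 hposE8 (k / 240) (k % 240))) = true := by decide +kernel
theorem e8Ucol_13_27225 : allRange 27225 27280 ((fun k => collectCheck Cfsg.Lie.chevE8 hposE8 (k / 240) (k % 240))) = true := by decide +kernel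
theorem e8Ucol_13_27280 : allRange 27280 27335 ((fun k => collectCheck Cfsg.Lie.chevE8 hposE8 (k / 240) (k % 240))) = true := by decide +kernel
theorem e8Ucol_13_27335 : allRange 27335 27390 ((fun k => collectCheck Cfsg.Lie.chevE8 hposE8 (k / 240) (k % 240))) = true := by decide +kernel
theorem e8Ucol_13_27390 : allRange 27390 27445 ((fun k => collectCheck Cfsg.Lie.chevE8 hposE8 (k / 240) (k % 240))) = true := by decide +kernel
theorem e8Ucol_13_27445 : allRange 27445 27500 ((fun k => collectCheck Cfsg.Lie.chevE8 hposE8 (k / 240) (k % 240))) = true := by decide +kernel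
theorem e8Ucol_13_27500 : allRange 27500 27555 ((fun k => collectCheck Cfsg.Lie.chevE8 hposE8 (k / 240) (k % 240))) = true := by decide +kernel
theorem e8Ucol_13_27555 : allRange 27555 27610 ((fun k => collectCheck Cfsg.Lie.chevE8 hposE8 (k / 240) (k % 240))) = true := by decide +kernel
theorem e8Ucol_13_27610 : allRange 27610 27665 ((fun k => collectCheck Cfsg.Lie.chevE8 hposE8 (k / 240) (k % 240))) = true := by decide +kernel
theorem e8Ucol_13_27665 : allRange 27665 27720 ((fun k => collectCheck Cfsg.Lie.chevE8 hposE8 (k / 240) (k % 240))) = true := by decide +kernel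
theorem e8Ucol_13_27720 : allRange 27720 27775 ((fun k => collectCheck Cfsg.Lie.chevE8 hposE8 (k / 240) (k % 240))) = true := by decide +kernel
theorem e8Ucol_13_27775 : allRange 27775 27830 ((fun k => collectCheck Cfsg.Lie.chevE8 hposE8 (k / 240) (k % 240))) = true := by decide +kernel
theorem e8Ucol_13_27830 : allRange 27830 27885 ((fun k => collectCheck Cfsg.Lie.chevE8 hposE8 (k / 240) (k % 240))) = true := by decide +kernel
theorem e8Ucol_13_27885 : allRange 27885 27940 ((fun k => collectCheck Cfsg.Lie.chevE8 hposE8 (k / 240) (k % 240))) = true := by decide +kernel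
theorem e8Ucol_13_27940 : allRange 27940 27995 ((fun k => collectCheck Cfsg.Lie.chevE8 hposE8 (k / 240) (k % 240))) = true := by decide +kernel
theorem e8Ucol_13_27995 : allRange 27995 28050 ((fun k => collectCheck Cfsg.Lie.chevE8 hposE8 (k / 240) (k % 240))) = true := by decide +kernel
theorem e8Ucol_13_28050 : allRange 28050 28105 ((fun k => collectCheck Cfsg.Lie.chevE8 hposE8 (k / 240) (k % 240))) = true := by decide +kernel
theorem e8Ucol_13_28105 : allRange 28105 28160 ((fun k => collectCheck Cfsg.Lie.chevE8 hposE8 (k / 240) (k % 240))) = true := by decide +kernel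
theorem e8Ucol_13_28160 : allRange 28160 28215 ((fun k => collectCheck Cfsg.Lie.chevE8 hposE8 (k / 240) (k % 240))) = true := by decide +kernel
theorem e8Ucol_13_28215 : allRange 28215 28270 ((fun k => collectCheck Cfsg.Lie.chevE8 hposE8 (k / 240) (k % 240))) = true := by decide +kernel
theorem e8Ucol_13_28270 : allRange 28270 28325 ((fun k => collectCheck Cfsg.Lie.chevE8 hposE8 (k / 240) (k % 240))) = true := by decide +kernel
theorem e8Ucol_13_28325 : allRange 28325 28380 ((fun k => collectCheck Cfsg.Lie.chevE8 hposE8 (k / 240) (k % 240))) = true := by decide +kernel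
theorem e8Ucol_13_28380 : allRange 28380 28435 ((fun k => collectCheck Cfsg.Lie.chevE8 hposE8 (k / 240) (k % 240))) = true := by decide +kernel
theorem e8Ucol_13_28435 : allRange 28435 28490 ((fun k => collectCheck Cfsg.Lie.chevE8 hposE8 (k / 240) (k % 240))) = true := by decide +kernel

/-- The terms of the commutator formula of type E8 lie higher (roots 26455 to 28489). -/
theorem e8Ucol_13 : ∀ r, 26455 ≤ r → r < 28490 → ((fun k => collectCheck Cfsg.Lie.chevE8 hposE8 (k / 240) (k % 240))) r = true := by
  intro r h1 h2
  by_cases c0 : r < 26510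
  · exact allRange_spec e8Ucol_13_26455 r (by omega) c0
  by_cases c1 : r < 26565
  · exact allRange_spec e8Ucol_13_26510 r (by omega) c1
  by_cases c2 : r < 26620
  · exact allRange_spec e8Ucol_13_26565 r (by omega) c2
  by_cases c3 : r < 26675
  · exact allRange_spec e8Ucol_13_26620 r (by omega) c3
  by_cases c4 : r < 26730
  · exact allRange_spec e8Ucol_13_26675 r (by omega) c4
  by_cases c5 : r < 26785
  · exact allRange_spec e8Ucol_13_26730 r (by omega) c5
  by_cases c6 : r < 26840
  · exact allRange_spec e8Ucol_13_26785 r (by omega) c6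
  by_cases c7 : r < 26895
  · exact allRange_spec e8Ucol_13_26840 r (by omega) c7
  by_cases c8 : r < 26950
  · exact allRange_spec e8Ucol_13_26895 r (by omega) c8
  by_cases c9 : r < 27005
  · exact allRange_spec e8Ucol_13_26950 r (by omega) c9
  by_cases c10 : r < 27060
  · exact allRange_spec e8Ucol_13_27005 r (by omega) c10
  by_cases c11 : r < 27115
  · exact allRange_spec e8Ucol_13_27060 r (by omega) c11
  by_cases c12 : r < 27170
  · exact allRange_spec e8Ucol_13_27115 r (by omega) c12
  by_cases c13 : r < 27225
  · exact allRange_spec e8Ucol_13_27170 r (by omega) c13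
  by_cases c14 : r < 27280
  · exact allRange_spec e8Ucol_13_27225 r (by omega) c14
  by_cases c15 : r < 27335
  · exact allRange_spec e8Ucol_13_27280 r (by omega) c15
  by_cases c16 : r < 27390
  · exact allRange_spec e8Ucol_13_27335 r (by omega) c16
  by_cases c17 : r < 27445
  · exact allRange_spec e8Ucol_13_27390 r (by omega) c17
  by_cases c18 : r < 27500
  · exact allRange_spec e8Ucol_13_27445 r (by omega) c18
  by_cases c19 : r < 27555
  · exact allRange_spec e8Ucol_13_27500 r (by omega) c19
  by_cases c20 : r < 27610
  · exact allRange_spec e8Ucol_13_27555 r (by omega) c20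
  by_cases c21 : r < 27665
  · exact allRange_spec e8Ucol_13_27610 r (by omega) c21
  by_cases c22 : r < 27720
  · exact allRange_spec e8Ucol_13_27665 r (by omega) c22
  by_cases c23 : r < 27775
  · exact allRange_spec e8Ucol_13_27720 r (by omega) c23
  by_cases c24 : r < 27830
  · exact allRange_spec e8Ucol_13_27775 r (by omega) c24
  by_cases c25 : r < 27885
  · exact allRange_spec e8Ucol_13_27830 r (by omega) c25
  by_cases c26 : r < 27940
  · exact allRange_spec e8Ucol_13_27885 r (by omega) c26
  by_cases c27 : r < 27995
  · exact allRange_spec e8Ucol_13_27940 r (by omega) c27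
  by_cases c28 : r < 28050
  · exact allRange_spec e8Ucol_13_27995 r (by omega) c28
  by_cases c29 : r < 28105
  · exact allRange_spec e8Ucol_13_28050 r (by omega) c29
  by_cases c30 : r < 28160
  · exact allRange_spec e8Ucol_13_28105 r (by omega) c30
  by_cases c31 : r < 28215
  · exact allRange_spec e8Ucol_13_28160 r (by omega) c31
  by_cases c32 : r < 28270
  · exact allRange_spec e8Ucol_13_28215 r (by omega) c32
  by_cases c33 : r < 28325
  · exact allRange_spec e8Ucol_13_28270 r (by omega) c33
  by_cases c34 : r < 28380
  · exact allRange_spec e8Ucol_13_28325 r (by omega) c34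
  by_cases c35 : r < 28435
  · exact allRange_spec e8Ucol_13_28380 r (by omega) c35
  exact allRange_spec e8Ucol_13_28435 r (by omega) h2

end Cfsg.Agent.Lib.Helper3.ChevM
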