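import Cfsg.Prelude.Def_ChevE8
import Cfsg.Agent.Lib.Helper3.ChevData.E8Uni
import Cfsg.Agent.Lib.Helper3.ChevU3
set_option autoImplicit false
set_option maxRecDepth 1000000
set_option Elab.async false

namespace Cfsg.Agent.Lib.Helper3.ChevM

theorem e8Ucol_14_28490 : allRange 28490 28545 ((fun k => collectCheck Cfsg.Lie.chevE8 hposE8 (k / 240) (k % 240))) = true := by decide +kernel
theorem e8Ucol_14_28545 : allRange 28545 28600 ((fun k => collectCheck Cfsg.Lie.chevE8 hposE8 (k / 240) (k % 240))) = true := by decide +kernel
theorem e8Ucol_14_28600 : allRange 28600 28655 ((fun k => collectCheck Cfsg.Lie.chevE8 hposE8 (k / 240) (k % 240))) = true := by decide +kernel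
theorem e8Ucol_14_28655 : allRange 28655 28710 ((fun k => collectCheck Cfsg.Lie.chevE8 hposE8 (k / 240) (k % 240))) = true := by decide +kernel
theorem e8Ucol_14_28710 : allRange 28710 28765 ((fun k => collectCheck Cfsg.Lie.chevE8 hposE8 (k / 240) (k % 240))) = true := by decide +kernel
theorem e8Ucol_14_28765 : allRange 28765 28820 ((fun k => collectCheck Cfsg.Lie.chevE8 hposE8 (k / 240) (k % 240))) = true := by decide +kernel
theorem e8Ucol_14_28820 : allRange 28820 28875 ((fun k => collectCheck Cfsg.Lie.chevE8 hposE8 (k / 240) (k % 240))) = true := by decide +kernel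
theorem e8Ucol_14_28875 : allRange 28875 28930 ((fun k => collectCheck Cfsg.Lie.chevE8 hposE8 (k / 240) (k % 240))) = true := by decide +kernel
theorem e8Ucol_14_28930 : allRange 28930 28985 ((fun k => collectCheck Cfsg.Lie.chevE8 hposE8 (k / 240) (k % 240))) = true := by decide +kernel
theorem e8Ucol_14_28985 : allRange 28985 29040 ((fun k => collectCheck Cfsg.Lie.chevE8 hposE8 (k / 240) (k % 240))) = true := by decide +kernel
theorem e8Ucol_14_29040 : allRange 29040 29095 ((fun k => collectCheck Cfsg.Lie.chevE8 hposE8 (k / 240) (k % 240))) = true := by decide +kernel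
theorem e8Ucol_14_29095 : allRange 29095 29150 ((fun k => collectCheck Cfsg.Lie.chevE8 hposE8 (k / 240) (k % 240))) = true := by decide +kernel
theorem e8Ucol_14_29150 : allRange 29150 29205 ((fun k => collectCheck Cfsg.Lie.chevE8 hposE8 (k / 240) (k % 240))) = true := by decide +kernel
theorem e8Ucol_14_29205 : allRange 29205 29260 ((fun k => collectCheck Cfsg.Lie.chevE8 hposE8 (k / 240) (k % 240))) = true := by decide +kernel
theorem e8Ucol_14_29260 : allRange 29260 29315 ((fun k => collectCheck Cfsg.Lie.chevE8 hposE8 (k / 240) (k % 240))) = true := by decide +kernel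
theorem e8Ucol_14_29315 : allRange 29315 29370 ((fun k => collectCheck Cfsg.Lie.chevE8 hposE8 (k / 240) (k % 240))) = true := by decide +kernel
theorem e8Ucol_14_29370 : allRange 29370 29425 ((fun k => collectCheck Cfsg.Lie.chevE8 hposE8 (k / 240) (k % 240))) = true := by decide +kernel
theorem e8Ucol_14_29425 : allRange 29425 29480 ((fun k => collectCheck Cfsg.Lie.chevE8 hposE8 (k / 240) (k % 240))) = true := by decide +kernel
theorem e8Ucol_14_29480 : allRange 29480 29535 ((fun k => collectCheck Cfsg.Lie.chevE8 hposE8 (k / 240) (k % 240))) = true := by decide +kernel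
theorem e8Ucol_14_29535 : allRange 29535 29590 ((fun k => collectCheck Cfsg.Lie.chevE8 hposE8 (k / 240) (k % 240))) = true := by decide +kernel
theorem e8Ucol_14_29590 : allRange 29590 29645 ((fun k => collectCheck Cfsg.Lie.chevE8 hposE8 (k / 240) (k % 240))) = true := by decide +kernel
theorem e8Ucol_14_29645 : allRange 29645 29700 ((fun k => collectCheck Cfsg.Lie.chevE8 hposE8 (k / 240) (k % 240))) = true := by decide +kernel
theorem e8Ucol_14_29700 : allRange 29700 29755 ((fun k => collectCheck Cfsg.Lie.chevE8 hposE8 (k / 240) (k % 240))) = true := by decide +kernel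
theorem e8Ucol_14_29755 : allRange 29755 29810 ((fun k => collectCheck Cfsg.Lie.chevE8 hposE8 (k / 240) (k % 240))) = true := by decide +kernel
theorem e8Ucol_14_29810 : allRange 29810 29865 ((fun k => collectCheck Cfsg.Lie.chevE8 hposE8 (k / 240) (k % 240))) = true := by decide +kernel
theorem e8Ucol_14_29865 : allRange 29865 29920 ((fun k => collectCheck Cfsg.Lie.chevE8 hposE8 (k / 240) (k % 240))) = true := by decide +kernel
theorem e8Ucol_14_29920 : allRange 29920 29975 ((fun k => collectCheck Cfsg.Lie.chevE8 hposE8 (k / 240) (k % 240))) = true := by decide +kernel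
theorem e8Ucol_14_29975 : allRange 29975 30030 ((fun k => collectCheck Cfsg.Lie.chevE8 hposE8 (k / 240) (k % 240))) = true := by decide +kernel
theorem e8Ucol_14_30030 : allRange 30030 30085 ((fun k => collectCheck Cfsg.Lie.chevE8 hposE8 (k / 240) (k % 240))) = true := by decide +kernel
theorem e8Ucol_14_30085 : allRange 30085 30140 ((fun k => collectCheck Cfsg.Lie.chevE8 hposE8 (k / 240) (k % 240))) = true := by decide +kernel
theorem e8Ucol_14_30140 : allRange 30140 30195 ((fun k => collectCheck Cfsg.Lie.chevE8 hposE8 (k / 240) (k % 240))) = true := by decide +kernel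
theorem e8Ucol_14_30195 : allRange 30195 30250 ((fun k => collectCheck Cfsg.Lie.chevE8 hposE8 (k / 240) (k % 240))) = true := by decide +kernel
theorem e8Ucol_14_30250 : allRange 30250 30305 ((fun k => collectCheck Cfsg.Lie.chevE8 hposE8 (k / 240) (k % 240))) = true := by decide +kernel
theorem e8Ucol_14_30305 : allRange 30305 30360 ((fun k => collectCheck Cfsg.Lie.chevE8 hposE8 (k / 240) (k % 240))) = true := by decide +kernel
theorem e8Ucol_14_30360 : allRange 30360 30415 ((fun k => collectCheck Cfsg.Lie.chevE8 hposE8 (k / 240) (k % 240))) = true := by decide +kernel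
theorem e8Ucol_14_30415 : allRange 30415 30470 ((fun k => collectCheck Cfsg.Lie.chevE8 hposE8 (k / 240) (k % 240))) = true := by decide +kernel
theorem e8Ucol_14_30470 : allRange 30470 30525 ((fun k => collectCheck Cfsg.Lie.chevE8 hposE8 (k / 240) (k % 240))) = true := by decide +kernel

/-- The terms of the commutator formula of type E8 lie higher (roots 28490 to 30524). -/
theorem e8Ucol_14 : ∀ r, 28490 ≤ r → r < 30525 → ((fun k => collectCheck Cfsg.Lie.chevE8 hposE8 (k / 240) (k % 240))) r = true := by
  intro r h1 h2
  by_cases c0 : r < 28545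
  · exact allRange_spec e8Ucol_14_28490 r (by omega) c0
  by_cases c1 : r < 28600
  · exact allRange_spec e8Ucol_14_28545 r (by omega) c1
  by_cases c2 : r < 28655
  · exact allRange_spec e8Ucol_14_28600 r (by omega) c2
  by_cases c3 : r < 28710
  · exact allRange_spec e8Ucol_14_28655 r (by omega) c3
  by_cases c4 : r < 28765
  · exact allRange_spec e8Ucol_14_28710 r (by omega) c4
  by_cases c5 : r < 28820
  · exact allRange_spec e8Ucol_14_28765 r (by omega) c5
  by_cases c6 : r < 28875
  · exact allRange_spec e8Ucol_14_28820 r (by omega) c6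
  by_cases c7 : r < 28930
  · exact allRange_spec e8Ucol_14_28875 r (by omega) c7
  by_cases c8 : r < 28985
  · exact allRange_spec e8Ucol_14_28930 r (by omega) c8
  by_cases c9 : r < 29040
  · exact allRange_spec e8Ucol_14_28985 r (by omega) c9
  by_cases c10 : r < 29095
  · exact allRange_spec e8Ucol_14_29040 r (by omega) c10
  by_cases c11 : r < 29150
  · exact allRange_spec e8Ucol_14_29095 r (by omega) c11
  by_cases c12 : r < 29205
  · exact allRange_spec e8Ucol_14_29150 r (by omega) c12
  by_cases c13 : r < 29260
  · exact allRange_spec e8Ucol_14_29205 r (by omega) c13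
  by_cases c14 : r < 29315
  · exact allRange_spec e8Ucol_14_29260 r (by omega) c14
  by_cases c15 : r < 29370
  · exact allRange_spec e8Ucol_14_29315 r (by omega) c15
  by_cases c16 : r < 29425
  · exact allRange_spec e8Ucol_14_29370 r (by omega) c16
  by_cases c17 : r < 29480
  · exact allRange_spec e8Ucol_14_29425 r (by omega) c17
  by_cases c18 : r < 29535
  · exact allRange_spec e8Ucol_14_29480 r (by omega) c18
  by_cases c19 : r < 29590
  · exact allRange_spec e8Ucol_14_29535 r (by omega) c19
  by_cases c20 : r < 29645
  · exact allRange_spec e8Ucol_14_29590 r (by omega) c20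
  by_cases c21 : r < 29700
  · exact allRange_spec e8Ucol_14_29645 r (by omega) c21
  by_cases c22 : r < 29755
  · exact allRange_spec e8Ucol_14_29700 r (by omega) c22
  by_cases c23 : r < 29810
  · exact allRange_spec e8Ucol_14_29755 r (by omega) c23
  by_cases c24 : r < 29865
  · exact allRange_spec e8Ucol_14_29810 r (by omega) c24
  by_cases c25 : r < 29920
  · exact allRange_spec e8Ucol_14_29865 r (by omega) c25
  by_cases c26 : r < 29975
  · exact allRange_spec e8Ucol_14_29920 r (by omega) c26
  by_cases c27 : r < 30030
  · exact allRange_spec e8Ucol_14_29975 r (by omega) c27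
  by_cases c28 : r < 30085
  · exact allRange_spec e8Ucol_14_30030 r (by omega) c28
  by_cases c29 : r < 30140
  · exact allRange_spec e8Ucol_14_30085 r (by omega) c29
  by_cases c30 : r < 30195
  · exact allRange_spec e8Ucol_14_30140 r (by omega) c30
  by_cases c31 : r < 30250
  · exact allRange_spec e8Ucol_14_30195 r (by omega) c31
  by_cases c32 : r < 30305
  · exact allRange_spec e8Ucol_14_30250 r (by omega) c32
  by_cases c33 : r < 30360
  · exact allRange_spec e8Ucol_14_30305 r (by omega) c33
  by_cases c34 : r < 30415
  · exact allRange_spec e8Ucol_14_30360 r (by omega) c34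
  by_cases c35 : r < 30470
  · exact allRange_spec e8Ucol_14_30415 r (by omega) c35
  exact allRange_spec e8Ucol_14_30470 r (by omega) h2

end Cfsg.Agent.Lib.Helper3.ChevM
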