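import Cfsg.Prelude.Def_ChevE8
import Cfsg.Agent.Lib.Helper3.ChevData.E8Uni
import Cfsg.Agent.Lib.Helper3.ChevU3
set_option autoImplicit false
set_option maxRecDepth 1000000
set_option Elab.async false

namespace Cfsg.Agent.Lib.Helper3.ChevM

theorem e8Ucol_18_36630 : allRange 36630 36685 ((fun k => collectCheck Cfsg.Lie.chevE8 hposE8 (k / 240) (k % 240))) = true := by decide +kernel
theorem e8Ucol_18_36685 : allRange 36685 36740 ((fun k => collectCheck Cfsg.Lie.chevE8 hposE8 (k / 240) (k % 240))) = true := by decide +kernel
theorem e8Ucol_18_36740 : allRange 36740 36795 ((fun k => collectCheck Cfsg.Lie.chevE8 hposE8 (k / 240) (k % 240))) = true := by decide +kernel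
theorem e8Ucol_18_36795 : allRange 36795 36850 ((fun k => collectCheck Cfsg.Lie.chevE8 hposE8 (k / 240) (k % 240))) = true := by decide +kernel
theorem e8Ucol_18_36850 : allRange 36850 36905 ((fun k => collectCheck Cfsg.Lie.chevE8 hposE8 (k / 240) (k % 240))) = true := by decide +kernel
theorem e8Ucol_18_36905 : allRange 36905 36960 ((fun k => collectCheck Cfsg.Lie.chevE8 hposE8 (k / 240) (k % 240))) = true := by decide +kernel
theorem e8Ucol_18_36960 : allRange 36960 37015 ((fun k => collectCheck Cfsg.Lie.chevE8 hposE8 (k / 240) (k % 240))) = true := by decide +kernel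
theorem e8Ucol_18_37015 : allRange 37015 37070 ((fun k => collectCheck Cfsg.Lie.chevE8 hposE8 (k / 240) (k % 240))) = true := by decide +kernel
theorem e8Ucol_18_37070 : allRange 37070 37125 ((fun k => collectCheck Cfsg.Lie.chevE8 hposE8 (k / 240) (k % 240))) = true := by decide +kernel
theorem e8Ucol_18_37125 : allRange 37125 37180 ((fun k => collectCheck Cfsg.Lie.chevE8 hposE8 (k / 240) (k % 240))) = true := by decide +kernel
theorem e8Ucol_18_37180 : allRange 37180 37235 ((fun k => collectCheck Cfsg.Lie.chevE8 hposE8 (k / 240) (k % 240))) = true := by decide +kernel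
theorem e8Ucol_18_37235 : allRange 37235 37290 ((fun k => collectCheck Cfsg.Lie.chevE8 hposE8 (k / 240) (k % 240))) = true := by decide +kernel
theorem e8Ucol_18_37290 : allRange 37290 37345 ((fun k => collectCheck Cfsg.Lie.chevE8 hposE8 (k / 240) (k % 240))) = true := by decide +kernel
theorem e8Ucol_18_37345 : allRange 37345 37400 ((fun k => collectCheck Cfsg.Lie.chevE8 hposE8 (k / 240) (k % 240))) = true := by decide +kernel
theorem e8Ucol_18_37400 : allRange 37400 37455 ((fun k => collectCheck Cfsg.Lie.chevE8 hposE8 (k / 240) (k % 240))) = true := by decide +kernel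
theorem e8Ucol_18_37455 : allRange 37455 37510 ((fun k => collectCheck Cfsg.Lie.chevE8 hposE8 (k / 240) (k % 240))) = true := by decide +kernel
theorem e8Ucol_18_37510 : allRange 37510 37565 ((fun k => collectCheck Cfsg.Lie.chevE8 hposE8 (k / 240) (k % 240))) = true := by decide +kernel
theorem e8Ucol_18_37565 : allRange 37565 37620 ((fun k => collectCheck Cfsg.Lie.chevE8 hposE8 (k / 240) (k % 240))) = true := by decide +kernel
theorem e8Ucol_18_37620 : allRange 37620 37675 ((fun k => collectCheck Cfsg.Lie.chevE8 hposE8 (k / 240) (k % 240))) = true := by decide +kernel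
theorem e8Ucol_18_37675 : allRange 37675 37730 ((fun k => collectCheck Cfsg.Lie.chevE8 hposE8 (k / 240) (k % 240))) = true := by decide +kernel
theorem e8Ucol_18_37730 : allRange 37730 37785 ((fun k => collectCheck Cfsg.Lie.chevE8 hposE8 (k / 240) (k % 240))) = true := by decide +kernel
theorem e8Ucol_18_37785 : allRange 37785 37840 ((fun k => collectCheck Cfsg.Lie.chevE8 hposE8 (k / 240) (k % 240))) = true := by decide +kernel
theorem e8Ucol_18_37840 : allRange 37840 37895 ((fun k => collectCheck Cfsg.Lie.chevE8 hposE8 (k / 240) (k % 240))) = true := by decide +kernel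
theorem e8Ucol_18_37895 : allRange 37895 37950 ((fun k => collectCheck Cfsg.Lie.chevE8 hposE8 (k / 240) (k % 240))) = true := by decide +kernel
theorem e8Ucol_18_37950 : allRange 37950 38005 ((fun k => collectCheck Cfsg.Lie.chevE8 hposE8 (k / 240) (k % 240))) = true := by decide +kernel
theorem e8Ucol_18_38005 : allRange 38005 38060 ((fun k => collectCheck Cfsg.Lie.chevE8 hposE8 (k / 240) (k % 240))) = true := by decide +kernel
theorem e8Ucol_18_38060 : allRange 38060 38115 ((fun k => collectCheck Cfsg.Lie.chevE8 hposE8 (k / 240) (k % 240))) = true := by decide +kernel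
theorem e8Ucol_18_38115 : allRange 38115 38170 ((fun k => collectCheck Cfsg.Lie.chevE8 hposE8 (k / 240) (k % 240))) = true := by decide +kernel
theorem e8Ucol_18_38170 : allRange 38170 38225 ((fun k => collectCheck Cfsg.Lie.chevE8 hposE8 (k / 240) (k % 240))) = true := by decide +kernel
theorem e8Ucol_18_38225 : allRange 38225 38280 ((fun k => collectCheck Cfsg.Lie.chevE8 hposE8 (k / 240) (k % 240))) = true := by decide +kernel
theorem e8Ucol_18_38280 : allRange 38280 38335 ((fun k => collectCheck Cfsg.Lie.chevE8 hposE8 (k / 240) (k % 240))) = true := by decide +kernel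
theorem e8Ucol_18_38335 : allRange 38335 38390 ((fun k => collectCheck Cfsg.Lie.chevE8 hposE8 (k / 240) (k % 240))) = true := by decide +kernel
theorem e8Ucol_18_38390 : allRange 38390 38445 ((fun k => collectCheck Cfsg.Lie.chevE8 hposE8 (k / 240) (k % 240))) = true := by decide +kernel
theorem e8Ucol_18_38445 : allRange 38445 38500 ((fun k => collectCheck Cfsg.Lie.chevE8 hposE8 (k / 240) (k % 240))) = true := by decide +kernel
theorem e8Ucol_18_38500 : allRange 38500 38555 ((fun k => collectCheck Cfsg.Lie.chevE8 hposE8 (k / 240) (k % 240))) = true := by decide +kernel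
theorem e8Ucol_18_38555 : allRange 38555 38610 ((fun k => collectCheck Cfsg.Lie.chevE8 hposE8 (k / 240) (k % 240))) = true := by decide +kernel
theorem e8Ucol_18_38610 : allRange 38610 38665 ((fun k => collectCheck Cfsg.Lie.chevE8 hposE8 (k / 240) (k % 240))) = true := by decide +kernel

/-- The terms of the commutator formula of type E8 lie higher (roots 36630 to 38664). -/
theorem e8Ucol_18 : ∀ r, 36630 ≤ r → r < 38665 → ((fun k => collectCheck Cfsg.Lie.chevE8 hposE8 (k / 240) (k % 240))) r = true := by
  intro r h1 h2
  by_cases c0 : r < 36685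
  · exact allRange_spec e8Ucol_18_36630 r (by omega) c0
  by_cases c1 : r < 36740
  · exact allRange_spec e8Ucol_18_36685 r (by omega) c1
  by_cases c2 : r < 36795
  · exact allRange_spec e8Ucol_18_36740 r (by omega) c2
  by_cases c3 : r < 36850
  · exact allRange_spec e8Ucol_18_36795 r (by omega) c3
  by_cases c4 : r < 36905
  · exact allRange_spec e8Ucol_18_36850 r (by omega) c4
  by_cases c5 : r < 36960
  · exact allRange_spec e8Ucol_18_36905 r (by omega) c5
  by_cases c6 : r < 37015
  · exact allRange_spec e8Ucol_18_36960 r (by omega) c6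
  by_cases c7 : r < 37070
  · exact allRange_spec e8Ucol_18_37015 r (by omega) c7
  by_cases c8 : r < 37125
  · exact allRange_spec e8Ucol_18_37070 r (by omega) c8
  by_cases c9 : r < 37180
  · exact allRange_spec e8Ucol_18_37125 r (by omega) c9
  by_cases c10 : r < 37235
  · exact allRange_spec e8Ucol_18_37180 r (by omega) c10
  by_cases c11 : r < 37290
  · exact allRange_spec e8Ucol_18_37235 r (by omega) c11
  by_cases c12 : r < 37345
  · exact allRange_spec e8Ucol_18_37290 r (by omega) c12
  by_cases c13 : r < 37400
  · exact allRange_spec e8Ucol_18_37345 r (by omega) c13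
  by_cases c14 : r < 37455
  · exact allRange_spec e8Ucol_18_37400 r (by omega) c14
  by_cases c15 : r < 37510
  · exact allRange_spec e8Ucol_18_37455 r (by omega) c15
  by_cases c16 : r < 37565
  · exact allRange_spec e8Ucol_18_37510 r (by omega) c16
  by_cases c17 : r < 37620
  · exact allRange_spec e8Ucol_18_37565 r (by omega) c17
  by_cases c18 : r < 37675
  · exact allRange_spec e8Ucol_18_37620 r (by omega) c18
  by_cases c19 : r < 37730
  · exact allRange_spec e8Ucol_18_37675 r (by omega) c19
  by_cases c20 : r < 37785
  · exact allRange_spec e8Ucol_18_37730 r (by omega) c20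
  by_cases c21 : r < 37840
  · exact allRange_spec e8Ucol_18_37785 r (by omega) c21
  by_cases c22 : r < 37895
  · exact allRange_spec e8Ucol_18_37840 r (by omega) c22
  by_cases c23 : r < 37950
  · exact allRange_spec e8Ucol_18_37895 r (by omega) c23
  by_cases c24 : r < 38005
  · exact allRange_spec e8Ucol_18_37950 r (by omega) c24
  by_cases c25 : r < 38060
  · exact allRange_spec e8Ucol_18_38005 r (by omega) c25
  by_cases c26 : r < 38115
  · exact allRange_spec e8Ucol_18_38060 r (by omega) c26
  by_cases c27 : r < 38170
  · exact allRange_spec e8Ucol_18_38115 r (by omega) c27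
  by_cases c28 : r < 38225
  · exact allRange_spec e8Ucol_18_38170 r (by omega) c28
  by_cases c29 : r < 38280
  · exact allRange_spec e8Ucol_18_38225 r (by omega) c29
  by_cases c30 : r < 38335
  · exact allRange_spec e8Ucol_18_38280 r (by omega) c30
  by_cases c31 : r < 38390
  · exact allRange_spec e8Ucol_18_38335 r (by omega) c31
  by_cases c32 : r < 38445
  · exact allRange_spec e8Ucol_18_38390 r (by omega) c32
  by_cases c33 : r < 38500
  · exact allRange_spec e8Ucol_18_38445 r (by omega) c33
  by_cases c34 : r < 38555
  · exact allRange_spec e8Ucol_18_38500 r (by omega) c34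
  by_cases c35 : r < 38610
  · exact allRange_spec e8Ucol_18_38555 r (by omega) c35
  exact allRange_spec e8Ucol_18_38610 r (by omega) h2

end Cfsg.Agent.Lib.Helper3.ChevM
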