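import Cfsg.Prelude.Def_ChevE8
import Cfsg.Agent.Lib.Helper3.ChevData.E8Uni
import Cfsg.Agent.Lib.Helper3.ChevU3
set_option autoImplicit false
set_option maxRecDepth 1000000
set_option Elab.async false

namespace Cfsg.Agent.Lib.Helper3.ChevM

theorem e8Ucol_19_38665 : allRange 38665 38720 ((fun k => collectCheck Cfsg.Lie.chevE8 hposE8 (k / 240) (k % 240))) = true := by decide +kernel
theorem e8Ucol_19_38720 : allRange 38720 38775 ((fun k => collectCheck Cfsg.Lie.chevE8 hposE8 (k / 240) (k % 240))) = true := by decide +kernel
theorem e8Ucol_19_38775 : allRange 38775 38830 ((fun k => collectCheck Cfsg.Lie.chevE8 hposE8 (k / 240) (k % 240))) = true := by decide +kernel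
theorem e8Ucol_19_38830 : allRange 38830 38885 ((fun k => collectCheck Cfsg.Lie.chevE8 hposE8 (k / 240) (k % 240))) = true := by decide +kernel
theorem e8Ucol_19_38885 : allRange 38885 38940 ((fun k => collectCheck Cfsg.Lie.chevE8 hposE8 (k / 240) (k % 240))) = true := by decide +kernel
theorem e8Ucol_19_38940 : allRange 38940 38995 ((fun k => collectCheck Cfsg.Lie.chevE8 hposE8 (k / 240) (k % 240))) = true := by decide +kernel
theorem e8Ucol_19_38995 : allRange 38995 39050 ((fun k => collectCheck Cfsg.Lie.chevE8 hposE8 (k / 240) (k % 240))) = true := by decide +kernel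
theorem e8Ucol_19_39050 : allRange 39050 39105 ((fun k => collectCheck Cfsg.Lie.chevE8 hposE8 (k / 240) (k % 240))) = true := by decide +kernel
theorem e8Ucol_19_39105 : allRange 39105 39160 ((fun k => collectCheck Cfsg.Lie.chevE8 hposE8 (k / 240) (k % 240))) = true := by decide +kernel
theorem e8Ucol_19_39160 : allRange 39160 39215 ((fun k => collectCheck Cfsg.Lie.chevE8 hposE8 (k / 240) (k % 240))) = true := by decide +kernel
theorem e8Ucol_19_39215 : allRange 39215 39270 ((fun k => collectCheck Cfsg.Lie.chevE8 hposE8 (k / 240) (k % 240))) = true := by decide +kernel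
theorem e8Ucol_19_39270 : allRange 39270 39325 ((fun k => collectCheck Cfsg.Lie.chevE8 hposE8 (k / 240) (k % 240))) = true := by decide +kernel
theorem e8Ucol_19_39325 : allRange 39325 39380 ((fun k => collectCheck Cfsg.Lie.chevE8 hposE8 (k / 240) (k % 240))) = true := by decide +kernel
theorem e8Ucol_19_39380 : allRange 39380 39435 ((fun k => collectCheck Cfsg.Lie.chevE8 hposE8 (k / 240) (k % 240))) = true := by decide +kernel
theorem e8Ucol_19_39435 : allRange 39435 39490 ((fun k => collectCheck Cfsg.Lie.chevE8 hposE8 (k / 240) (k % 240))) = true := by decide +kernel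
theorem e8Ucol_19_39490 : allRange 39490 39545 ((fun k => collectCheck Cfsg.Lie.chevE8 hposE8 (k / 240) (k % 240))) = true := by decide +kernel
theorem e8Ucol_19_39545 : allRange 39545 39600 ((fun k => collectCheck Cfsg.Lie.chevE8 hposE8 (k / 240) (k % 240))) = true := by decide +kernel
theorem e8Ucol_19_39600 : allRange 39600 39655 ((fun k => collectCheck Cfsg.Lie.chevE8 hposE8 (k / 240) (k % 240))) = true := by decide +kernel
theorem e8Ucol_19_39655 : allRange 39655 39710 ((fun k => collectCheck Cfsg.Lie.chevE8 hposE8 (k / 240) (k % 240))) = true := by decide +kernel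
theorem e8Ucol_19_39710 : allRange 39710 39765 ((fun k => collectCheck Cfsg.Lie.chevE8 hposE8 (k / 240) (k % 240))) = true := by decide +kernel
theorem e8Ucol_19_39765 : allRange 39765 39820 ((fun k => collectCheck Cfsg.Lie.chevE8 hposE8 (k / 240) (k % 240))) = true := by decide +kernel
theorem e8Ucol_19_39820 : allRange 39820 39875 ((fun k => collectCheck Cfsg.Lie.chevE8 hposE8 (k / 240) (k % 240))) = true := by decide +kernel
theorem e8Ucol_19_39875 : allRange 39875 39930 ((fun k => collectCheck Cfsg.Lie.chevE8 hposE8 (k / 240) (k % 240))) = true := by decide +kernel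
theorem e8Ucol_19_39930 : allRange 39930 39985 ((fun k => collectCheck Cfsg.Lie.chevE8 hposE8 (k / 240) (k % 240))) = true := by decide +kernel
theorem e8Ucol_19_39985 : allRange 39985 40040 ((fun k => collectCheck Cfsg.Lie.chevE8 hposE8 (k / 240) (k % 240))) = true := by decide +kernel
theorem e8Ucol_19_40040 : allRange 40040 40095 ((fun k => collectCheck Cfsg.Lie.chevE8 hposE8 (k / 240) (k % 240))) = true := by decide +kernel
theorem e8Ucol_19_40095 : allRange 40095 40150 ((fun k => collectCheck Cfsg.Lie.chevE8 hposE8 (k / 240) (k % 240))) = true := by decide +kernel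
theorem e8Ucol_19_40150 : allRange 40150 40205 ((fun k => collectCheck Cfsg.Lie.chevE8 hposE8 (k / 240) (k % 240))) = true := by decide +kernel
theorem e8Ucol_19_40205 : allRange 40205 40260 ((fun k => collectCheck Cfsg.Lie.chevE8 hposE8 (k / 240) (k % 240))) = true := by decide +kernel
theorem e8Ucol_19_40260 : allRange 40260 40315 ((fun k => collectCheck Cfsg.Lie.chevE8 hposE8 (k / 240) (k % 240))) = true := by decide +kernel
theorem e8Ucol_19_40315 : allRange 40315 40370 ((fun k => collectCheck Cfsg.Lie.chevE8 hposE8 (k / 240) (k % 240))) = true := by decide +kernel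
theorem e8Ucol_19_40370 : allRange 40370 40425 ((fun k => collectCheck Cfsg.Lie.chevE8 hposE8 (k / 240) (k % 240))) = true := by decide +kernel
theorem e8Ucol_19_40425 : allRange 40425 40480 ((fun k => collectCheck Cfsg.Lie.chevE8 hposE8 (k / 240) (k % 240))) = true := by decide +kernel
theorem e8Ucol_19_40480 : allRange 40480 40535 ((fun k => collectCheck Cfsg.Lie.chevE8 hposE8 (k / 240) (k % 240))) = true := by decide +kernel
theorem e8Ucol_19_40535 : allRange 40535 40590 ((fun k => collectCheck Cfsg.Lie.chevE8 hposE8 (k / 240) (k % 240))) = true := by decide +kernel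
theorem e8Ucol_19_40590 : allRange 40590 40645 ((fun k => collectCheck Cfsg.Lie.chevE8 hposE8 (k / 240) (k % 240))) = true := by decide +kernel
theorem e8Ucol_19_40645 : allRange 40645 40700 ((fun k => collectCheck Cfsg.Lie.chevE8 hposE8 (k / 240) (k % 240))) = true := by decide +kernel

/-- The terms of the commutator formula of type E8 lie higher (roots 38665 to 40699). -/
theorem e8Ucol_19 : ∀ r, 38665 ≤ r → r < 40700 → ((fun k => collectCheck Cfsg.Lie.chevE8 hposE8 (k / 240) (k % 240))) r = true := by
  intro r h1 h2
  by_cases c0 : r < 38720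
  · exact allRange_spec e8Ucol_19_38665 r (by omega) c0
  by_cases c1 : r < 38775
  · exact allRange_spec e8Ucol_19_38720 r (by omega) c1
  by_cases c2 : r < 38830
  · exact allRange_spec e8Ucol_19_38775 r (by omega) c2
  by_cases c3 : r < 38885
  · exact allRange_spec e8Ucol_19_38830 r (by omega) c3
  by_cases c4 : r < 38940
  · exact allRange_spec e8Ucol_19_38885 r (by omega) c4
  by_cases c5 : r < 38995
  · exact allRange_spec e8Ucol_19_38940 r (by omega) c5
  by_cases c6 : r < 39050
  · exact allRange_spec e8Ucol_19_38995 r (by omega) c6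
  by_cases c7 : r < 39105
  · exact allRange_spec e8Ucol_19_39050 r (by omega) c7
  by_cases c8 : r < 39160
  · exact allRange_spec e8Ucol_19_39105 r (by omega) c8
  by_cases c9 : r < 39215
  · exact allRange_spec e8Ucol_19_39160 r (by omega) c9
  by_cases c10 : r < 39270
  · exact allRange_spec e8Ucol_19_39215 r (by omega) c10
  by_cases c11 : r < 39325
  · exact allRange_spec e8Ucol_19_39270 r (by omega) c11
  by_cases c12 : r < 39380
  · exact allRange_spec e8Ucol_19_39325 r (by omega) c12
  by_cases c13 : r < 39435
  · exact allRange_spec e8Ucol_19_39380 r (by omega) c13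
  by_cases c14 : r < 39490
  · exact allRange_spec e8Ucol_19_39435 r (by omega) c14
  by_cases c15 : r < 39545
  · exact allRange_spec e8Ucol_19_39490 r (by omega) c15
  by_cases c16 : r < 39600
  · exact allRange_spec e8Ucol_19_39545 r (by omega) c16
  by_cases c17 : r < 39655
  · exact allRange_spec e8Ucol_19_39600 r (by omega) c17
  by_cases c18 : r < 39710
  · exact allRange_spec e8Ucol_19_39655 r (by omega) c18
  by_cases c19 : r < 39765
  · exact allRange_spec e8Ucol_19_39710 r (by omega) c19
  by_cases c20 : r < 39820
  · exact allRange_spec e8Ucol_19_39765 r (by omega) c20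
  by_cases c21 : r < 39875
  · exact allRange_spec e8Ucol_19_39820 r (by omega) c21
  by_cases c22 : r < 39930
  · exact allRange_spec e8Ucol_19_39875 r (by omega) c22
  by_cases c23 : r < 39985
  · exact allRange_spec e8Ucol_19_39930 r (by omega) c23
  by_cases c24 : r < 40040
  · exact allRange_spec e8Ucol_19_39985 r (by omega) c24
  by_cases c25 : r < 40095
  · exact allRange_spec e8Ucol_19_40040 r (by omega) c25
  by_cases c26 : r < 40150
  · exact allRange_spec e8Ucol_19_40095 r (by omega) c26
  by_cases c27 : r < 40205
  · exact allRange_spec e8Ucol_19_40150 r (by omega) c27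
  by_cases c28 : r < 40260
  · exact allRange_spec e8Ucol_19_40205 r (by omega) c28
  by_cases c29 : r < 40315
  · exact allRange_spec e8Ucol_19_40260 r (by omega) c29
  by_cases c30 : r < 40370
  · exact allRange_spec e8Ucol_19_40315 r (by omega) c30
  by_cases c31 : r < 40425
  · exact allRange_spec e8Ucol_19_40370 r (by omega) c31
  by_cases c32 : r < 40480
  · exact allRange_spec e8Ucol_19_40425 r (by omega) c32
  by_cases c33 : r < 40535
  · exact allRange_spec e8Ucol_19_40480 r (by omega) c33
  by_cases c34 : r < 40590
  · exact allRange_spec e8Ucol_19_40535 r (by omega) c34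
  by_cases c35 : r < 40645
  · exact allRange_spec e8Ucol_19_40590 r (by omega) c35
  exact allRange_spec e8Ucol_19_40645 r (by omega) h2

end Cfsg.Agent.Lib.Helper3.ChevM
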