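import Cfsg.Prelude.Def_ChevE8
import Cfsg.Agent.Lib.Helper3.ChevData.E8Uni
import Cfsg.Agent.Lib.Helper3.ChevU3
set_option autoImplicit false
set_option maxRecDepth 1000000
set_option Elab.async false

namespace Cfsg.Agent.Lib.Helper3.ChevM

theorem e8Ucol_20_40700 : allRange 40700 40755 ((fun k => collectCheck Cfsg.Lie.chevE8 hposE8 (k / 240) (k % 240))) = true := by decide +kernel
theorem e8Ucol_20_40755 : allRange 40755 40810 ((fun k => collectCheck Cfsg.Lie.chevE8 hposE8 (k / 240) (k % 240))) = true := by decide +kernel
theorem e8Ucol_20_40810 : allRange 40810 40865 ((fun k => collectCheck Cfsg.Lie.chevE8 hposE8 (k / 240) (k % 240))) = true := by decide +kernel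
theorem e8Ucol_20_40865 : allRange 40865 40920 ((fun k => collectCheck Cfsg.Lie.chevE8 hposE8 (k / 240) (k % 240))) = true := by decide +kernel
theorem e8Ucol_20_40920 : allRange 40920 40975 ((fun k => collectCheck Cfsg.Lie.chevE8 hposE8 (k / 240) (k % 240))) = true := by decide +kernel
theorem e8Ucol_20_40975 : allRange 40975 41030 ((fun k => collectCheck Cfsg.Lie.chevE8 hposE8 (k / 240) (k % 240))) = true := by decide +kernel
theorem e8Ucol_20_41030 : allRange 41030 41085 ((fun k => collectCheck Cfsg.Lie.chevE8 hposE8 (k / 240) (k % 240))) = true := by decide +kernel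
theorem e8Ucol_20_41085 : allRange 41085 41140 ((fun k => collectCheck Cfsg.Lie.chevE8 hposE8 (k / 240) (k % 240))) = true := by decide +kernel
theorem e8Ucol_20_41140 : allRange 41140 41195 ((fun k => collectCheck Cfsg.Lie.chevE8 hposE8 (k / 240) (k % 240))) = true := by decide +kernel
theorem e8Ucol_20_41195 : allRange 41195 41250 ((fun k => collectCheck Cfsg.Lie.chevE8 hposE8 (k / 240) (k % 240))) = true := by decide +kernel
theorem e8Ucol_20_41250 : allRange 41250 41305 ((fun k => collectCheck Cfsg.Lie.chevE8 hposE8 (k / 240) (k % 240))) = true := by decide +kernel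
theorem e8Ucol_20_41305 : allRange 41305 41360 ((fun k => collectCheck Cfsg.Lie.chevE8 hposE8 (k / 240) (k % 240))) = true := by decide +kernel
theorem e8Ucol_20_41360 : allRange 41360 41415 ((fun k => collectCheck Cfsg.Lie.chevE8 hposE8 (k / 240) (k % 240))) = true := by decide +kernel
theorem e8Ucol_20_41415 : allRange 41415 41470 ((fun k => collectCheck Cfsg.Lie.chevE8 hposE8 (k / 240) (k % 240))) = true := by decide +kernel
theorem e8Ucol_20_41470 : allRange 41470 41525 ((fun k => collectCheck Cfsg.Lie.chevE8 hposE8 (k / 240) (k % 240))) = true := by decide +kernel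
theorem e8Ucol_20_41525 : allRange 41525 41580 ((fun k => collectCheck Cfsg.Lie.chevE8 hposE8 (k / 240) (k % 240))) = true := by decide +kernel
theorem e8Ucol_20_41580 : allRange 41580 41635 ((fun k => collectCheck Cfsg.Lie.chevE8 hposE8 (k / 240) (k % 240))) = true := by decide +kernel
theorem e8Ucol_20_41635 : allRange 41635 41690 ((fun k => collectCheck Cfsg.Lie.chevE8 hposE8 (k / 240) (k % 240))) = true := by decide +kernel
theorem e8Ucol_20_41690 : allRange 41690 41745 ((fun k => collectCheck Cfsg.Lie.chevE8 hposE8 (k / 240) (k % 240))) = true := by decide +kernel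
theorem e8Ucol_20_41745 : allRange 41745 41800 ((fun k => collectCheck Cfsg.Lie.chevE8 hposE8 (k / 240) (k % 240))) = true := by decide +kernel
theorem e8Ucol_20_41800 : allRange 41800 41855 ((fun k => collectCheck Cfsg.Lie.chevE8 hposE8 (k / 240) (k % 240))) = true := by decide +kernel
theorem e8Ucol_20_41855 : allRange 41855 41910 ((fun k => collectCheck Cfsg.Lie.chevE8 hposE8 (k / 240) (k % 240))) = true := by decide +kernel
theorem e8Ucol_20_41910 : allRange 41910 41965 ((fun k => collectCheck Cfsg.Lie.chevE8 hposE8 (k / 240) (k % 240))) = true := by decide +kernel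
theorem e8Ucol_20_41965 : allRange 41965 42020 ((fun k => collectCheck Cfsg.Lie.chevE8 hposE8 (k / 240) (k % 240))) = true := by decide +kernel
theorem e8Ucol_20_42020 : allRange 42020 42075 ((fun k => collectCheck Cfsg.Lie.chevE8 hposE8 (k / 240) (k % 240))) = true := by decide +kernel
theorem e8Ucol_20_42075 : allRange 42075 42130 ((fun k => collectCheck Cfsg.Lie.chevE8 hposE8 (k / 240) (k % 240))) = true := by decide +kernel
theorem e8Ucol_20_42130 : allRange 42130 42185 ((fun k => collectCheck Cfsg.Lie.chevE8 hposE8 (k / 240) (k % 240))) = true := by decide +kernel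
theorem e8Ucol_20_42185 : allRange 42185 42240 ((fun k => collectCheck Cfsg.Lie.chevE8 hposE8 (k / 240) (k % 240))) = true := by decide +kernel
theorem e8Ucol_20_42240 : allRange 42240 42295 ((fun k => collectCheck Cfsg.Lie.chevE8 hposE8 (k / 240) (k % 240))) = true := by decide +kernel
theorem e8Ucol_20_42295 : allRange 42295 42350 ((fun k => collectCheck Cfsg.Lie.chevE8 hposE8 (k / 240) (k % 240))) = true := by decide +kernel
theorem e8Ucol_20_42350 : allRange 42350 42405 ((fun k => collectCheck Cfsg.Lie.chevE8 hposE8 (k / 240) (k % 240))) = true := by decide +kernel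
theorem e8Ucol_20_42405 : allRange 42405 42460 ((fun k => collectCheck Cfsg.Lie.chevE8 hposE8 (k / 240) (k % 240))) = true := by decide +kernel
theorem e8Ucol_20_42460 : allRange 42460 42515 ((fun k => collectCheck Cfsg.Lie.chevE8 hposE8 (k / 240) (k % 240))) = true := by decide +kernel
theorem e8Ucol_20_42515 : allRange 42515 42570 ((fun k => collectCheck Cfsg.Lie.chevE8 hposE8 (k / 240) (k % 240))) = true := by decide +kernel
theorem e8Ucol_20_42570 : allRange 42570 42625 ((fun k => collectCheck Cfsg.Lie.chevE8 hposE8 (k / 240) (k % 240))) = true := by decide +kernel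
theorem e8Ucol_20_42625 : allRange 42625 42680 ((fun k => collectCheck Cfsg.Lie.chevE8 hposE8 (k / 240) (k % 240))) = true := by decide +kernel
theorem e8Ucol_20_42680 : allRange 42680 42735 ((fun k => collectCheck Cfsg.Lie.chevE8 hposE8 (k / 240) (k % 240))) = true := by decide +kernel

/-- The terms of the commutator formula of type E8 lie higher (roots 40700 to 42734). -/
theorem e8Ucol_20 : ∀ r, 40700 ≤ r → r < 42735 → ((fun k => collectCheck Cfsg.Lie.chevE8 hposE8 (k / 240) (k % 240))) r = true := by
  intro r h1 h2
  by_cases c0 : r < 40755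
  · exact allRange_spec e8Ucol_20_40700 r (by omega) c0
  by_cases c1 : r < 40810
  · exact allRange_spec e8Ucol_20_40755 r (by omega) c1
  by_cases c2 : r < 40865
  · exact allRange_spec e8Ucol_20_40810 r (by omega) c2
  by_cases c3 : r < 40920
  · exact allRange_spec e8Ucol_20_40865 r (by omega) c3
  by_cases c4 : r < 40975
  · exact allRange_spec e8Ucol_20_40920 r (by omega) c4
  by_cases c5 : r < 41030
  · exact allRange_spec e8Ucol_20_40975 r (by omega) c5
  by_cases c6 : r < 41085
  · exact allRange_spec e8Ucol_20_41030 r (by omega) c6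
  by_cases c7 : r < 41140
  · exact allRange_spec e8Ucol_20_41085 r (by omega) c7
  by_cases c8 : r < 41195
  · exact allRange_spec e8Ucol_20_41140 r (by omega) c8
  by_cases c9 : r < 41250
  · exact allRange_spec e8Ucol_20_41195 r (by omega) c9
  by_cases c10 : r < 41305
  · exact allRange_spec e8Ucol_20_41250 r (by omega) c10
  by_cases c11 : r < 41360
  · exact allRange_spec e8Ucol_20_41305 r (by omega) c11
  by_cases c12 : r < 41415
  · exact allRange_spec e8Ucol_20_41360 r (by omega) c12
  by_cases c13 : r < 41470
  · exact allRange_spec e8Ucol_20_41415 r (by omega) c13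
  by_cases c14 : r < 41525
  · exact allRange_spec e8Ucol_20_41470 r (by omega) c14
  by_cases c15 : r < 41580
  · exact allRange_spec e8Ucol_20_41525 r (by omega) c15
  by_cases c16 : r < 41635
  · exact allRange_spec e8Ucol_20_41580 r (by omega) c16
  by_cases c17 : r < 41690
  · exact allRange_spec e8Ucol_20_41635 r (by omega) c17
  by_cases c18 : r < 41745
  · exact allRange_spec e8Ucol_20_41690 r (by omega) c18
  by_cases c19 : r < 41800
  · exact allRange_spec e8Ucol_20_41745 r (by omega) c19
  by_cases c20 : r < 41855
  · exact allRange_spec e8Ucol_20_41800 r (by omega) c20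
  by_cases c21 : r < 41910
  · exact allRange_spec e8Ucol_20_41855 r (by omega) c21
  by_cases c22 : r < 41965
  · exact allRange_spec e8Ucol_20_41910 r (by omega) c22
  by_cases c23 : r < 42020
  · exact allRange_spec e8Ucol_20_41965 r (by omega) c23
  by_cases c24 : r < 42075
  · exact allRange_spec e8Ucol_20_42020 r (by omega) c24
  by_cases c25 : r < 42130
  · exact allRange_spec e8Ucol_20_42075 r (by omega) c25
  by_cases c26 : r < 42185
  · exact allRange_spec e8Ucol_20_42130 r (by omega) c26
  by_cases c27 : r < 42240
  · exact allRange_spec e8Ucol_20_42185 r (by omega) c27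
  by_cases c28 : r < 42295
  · exact allRange_spec e8Ucol_20_42240 r (by omega) c28
  by_cases c29 : r < 42350
  · exact allRange_spec e8Ucol_20_42295 r (by omega) c29
  by_cases c30 : r < 42405
  · exact allRange_spec e8Ucol_20_42350 r (by omega) c30
  by_cases c31 : r < 42460
  · exact allRange_spec e8Ucol_20_42405 r (by omega) c31
  by_cases c32 : r < 42515
  · exact allRange_spec e8Ucol_20_42460 r (by omega) c32
  by_cases c33 : r < 42570
  · exact allRange_spec e8Ucol_20_42515 r (by omega) c33
  by_cases c34 : r < 42625
  · exact allRange_spec e8Ucol_20_42570 r (by omega) c34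
  by_cases c35 : r < 42680
  · exact allRange_spec e8Ucol_20_42625 r (by omega) c35
  exact allRange_spec e8Ucol_20_42680 r (by omega) h2

end Cfsg.Agent.Lib.Helper3.ChevM
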