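import Cfsg.Prelude.Def_ChevE8
import Cfsg.Agent.Lib.Helper3.ChevData.E8Uni
import Cfsg.Agent.Lib.Helper3.ChevU3
set_option autoImplicit false
set_option maxRecDepth 1000000
set_option Elab.async false

namespace Cfsg.Agent.Lib.Helper3.ChevM

theorem e8Ucol_25_50875 : allRange 50875 50930 ((fun k => collectCheck Cfsg.Lie.chevE8 hposE8 (k / 240) (k % 240))) = true := by decide +kernel
theorem e8Ucol_25_50930 : allRange 50930 50985 ((fun k => collectCheck Cfsg.Lie.chevE8 hposE8 (k / 240) (k % 240))) = true := by decide +kernel
theorem e8Ucol_25_50985 : allRange 50985 51040 ((fun k => collectCheck Cfsg.Lie.chevE8 hposE8 (k / 240) (k % 240))) = true := by decide +kernel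
theorem e8Ucol_25_51040 : allRange 51040 51095 ((fun k => collectCheck Cfsg.Lie.chevE8 hposE8 (k / 240) (k % 240))) = true := by decide +kernel
theorem e8Ucol_25_51095 : allRange 51095 51150 ((fun k => collectCheck Cfsg.Lie.chevE8 hposE8 (k / 240) (k % 240))) = true := by decide +kernel
theorem e8Ucol_25_51150 : allRange 51150 51205 ((fun k => collectCheck Cfsg.Lie.chevE8 hposE8 (k / 240) (k % 240))) = true := by decide +kernel
theorem e8Ucol_25_51205 : allRange 51205 51260 ((fun k => collectCheck Cfsg.Lie.chevE8 hposE8 (k / 240) (k % 240))) = true := by decide +kernel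
theorem e8Ucol_25_51260 : allRange 51260 51315 ((fun k => collectCheck Cfsg.Lie.chevE8 hposE8 (k / 240) (k % 240))) = true := by decide +kernel
theorem e8Ucol_25_51315 : allRange 51315 51370 ((fun k => collectCheck Cfsg.Lie.chevE8 hposE8 (k / 240) (k % 240))) = true := by decide +kernel
theorem e8Ucol_25_51370 : allRange 51370 51425 ((fun k => collectCheck Cfsg.Lie.chevE8 hposE8 (k / 240) (k % 240))) = true := by decide +kernel
theorem e8Ucol_25_51425 : allRange 51425 51480 ((fun k => collectCheck Cfsg.Lie.chevE8 hposE8 (k / 240) (k % 240))) = true := by decide +kernel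
theorem e8Ucol_25_51480 : allRange 51480 51535 ((fun k => collectCheck Cfsg.Lie.chevE8 hposE8 (k / 240) (k % 240))) = true := by decide +kernel
theorem e8Ucol_25_51535 : allRange 51535 51590 ((fun k => collectCheck Cfsg.Lie.chevE8 hposE8 (k / 240) (k % 240))) = true := by decide +kernel
theorem e8Ucol_25_51590 : allRange 51590 51645 ((fun k => collectCheck Cfsg.Lie.chevE8 hposE8 (k / 240) (k % 240))) = true := by decide +kernel
theorem e8Ucol_25_51645 : allRange 51645 51700 ((fun k => collectCheck Cfsg.Lie.chevE8 hposE8 (k / 240) (k % 240))) = true := by decide +kernel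
theorem e8Ucol_25_51700 : allRange 51700 51755 ((fun k => collectCheck Cfsg.Lie.chevE8 hposE8 (k / 240) (k % 240))) = true := by decide +kernel
theorem e8Ucol_25_51755 : allRange 51755 51810 ((fun k => collectCheck Cfsg.Lie.chevE8 hposE8 (k / 240) (k % 240))) = true := by decide +kernel
theorem e8Ucol_25_51810 : allRange 51810 51865 ((fun k => collectCheck Cfsg.Lie.chevE8 hposE8 (k / 240) (k % 240))) = true := by decide +kernel
theorem e8Ucol_25_51865 : allRange 51865 51920 ((fun k => collectCheck Cfsg.Lie.chevE8 hposE8 (k / 240) (k % 240))) = true := by decide +kernel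
theorem e8Ucol_25_51920 : allRange 51920 51975 ((fun k => collectCheck Cfsg.Lie.chevE8 hposE8 (k / 240) (k % 240))) = true := by decide +kernel
theorem e8Ucol_25_51975 : allRange 51975 52030 ((fun k => collectCheck Cfsg.Lie.chevE8 hposE8 (k / 240) (k % 240))) = true := by decide +kernel
theorem e8Ucol_25_52030 : allRange 52030 52085 ((fun k => collectCheck Cfsg.Lie.chevE8 hposE8 (k / 240) (k % 240))) = true := by decide +kernel
theorem e8Ucol_25_52085 : allRange 52085 52140 ((fun k => collectCheck Cfsg.Lie.chevE8 hposE8 (k / 240) (k % 240))) = true := by decide +kernel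
theorem e8Ucol_25_52140 : allRange 52140 52195 ((fun k => collectCheck Cfsg.Lie.chevE8 hposE8 (k / 240) (k % 240))) = true := by decide +kernel
theorem e8Ucol_25_52195 : allRange 52195 52250 ((fun k => collectCheck Cfsg.Lie.chevE8 hposE8 (k / 240) (k % 240))) = true := by decide +kernel
theorem e8Ucol_25_52250 : allRange 52250 52305 ((fun k => collectCheck Cfsg.Lie.chevE8 hposE8 (k / 240) (k % 240))) = true := by decide +kernel
theorem e8Ucol_25_52305 : allRange 52305 52360 ((fun k => collectCheck Cfsg.Lie.chevE8 hposE8 (k / 240) (k % 240))) = true := by decide +kernel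
theorem e8Ucol_25_52360 : allRange 52360 52415 ((fun k => collectCheck Cfsg.Lie.chevE8 hposE8 (k / 240) (k % 240))) = true := by decide +kernel
theorem e8Ucol_25_52415 : allRange 52415 52470 ((fun k => collectCheck Cfsg.Lie.chevE8 hposE8 (k / 240) (k % 240))) = true := by decide +kernel
theorem e8Ucol_25_52470 : allRange 52470 52525 ((fun k => collectCheck Cfsg.Lie.chevE8 hposE8 (k / 240) (k % 240))) = true := by decide +kernel
theorem e8Ucol_25_52525 : allRange 52525 52580 ((fun k => collectCheck Cfsg.Lie.chevE8 hposE8 (k / 240) (k % 240))) = true := by decide +kernel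
theorem e8Ucol_25_52580 : allRange 52580 52635 ((fun k => collectCheck Cfsg.Lie.chevE8 hposE8 (k / 240) (k % 240))) = true := by decide +kernel
theorem e8Ucol_25_52635 : allRange 52635 52690 ((fun k => collectCheck Cfsg.Lie.chevE8 hposE8 (k / 240) (k % 240))) = true := by decide +kernel
theorem e8Ucol_25_52690 : allRange 52690 52745 ((fun k => collectCheck Cfsg.Lie.chevE8 hposE8 (k / 240) (k % 240))) = true := by decide +kernel
theorem e8Ucol_25_52745 : allRange 52745 52800 ((fun k => collectCheck Cfsg.Lie.chevE8 hposE8 (k / 240) (k % 240))) = true := by decide +kernel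
theorem e8Ucol_25_52800 : allRange 52800 52855 ((fun k => collectCheck Cfsg.Lie.chevE8 hposE8 (k / 240) (k % 240))) = true := by decide +kernel
theorem e8Ucol_25_52855 : allRange 52855 52910 ((fun k => collectCheck Cfsg.Lie.chevE8 hposE8 (k / 240) (k % 240))) = true := by decide +kernel

/-- The terms of the commutator formula of type E8 lie higher (roots 50875 to 52909). -/
theorem e8Ucol_25 : ∀ r, 50875 ≤ r → r < 52910 → ((fun k => collectCheck Cfsg.Lie.chevE8 hposE8 (k / 240) (k % 240))) r = true := by
  intro r h1 h2
  by_cases c0 : r < 50930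
  · exact allRange_spec e8Ucol_25_50875 r (by omega) c0
  by_cases c1 : r < 50985
  · exact allRange_spec e8Ucol_25_50930 r (by omega) c1
  by_cases c2 : r < 51040
  · exact allRange_spec e8Ucol_25_50985 r (by omega) c2
  by_cases c3 : r < 51095
  · exact allRange_spec e8Ucol_25_51040 r (by omega) c3
  by_cases c4 : r < 51150
  · exact allRange_spec e8Ucol_25_51095 r (by omega) c4
  by_cases c5 : r < 51205
  · exact allRange_spec e8Ucol_25_51150 r (by omega) c5
  by_cases c6 : r < 51260
  · exact allRange_spec e8Ucol_25_51205 r (by omega) c6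
  by_cases c7 : r < 51315
  · exact allRange_spec e8Ucol_25_51260 r (by omega) c7
  by_cases c8 : r < 51370
  · exact allRange_spec e8Ucol_25_51315 r (by omega) c8
  by_cases c9 : r < 51425
  · exact allRange_spec e8Ucol_25_51370 r (by omega) c9
  by_cases c10 : r < 51480
  · exact allRange_spec e8Ucol_25_51425 r (by omega) c10
  by_cases c11 : r < 51535
  · exact allRange_spec e8Ucol_25_51480 r (by omega) c11
  by_cases c12 : r < 51590
  · exact allRange_spec e8Ucol_25_51535 r (by omega) c12
  by_cases c13 : r < 51645
  · exact allRange_spec e8Ucol_25_51590 r (by omega) c13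
  by_cases c14 : r < 51700
  · exact allRange_spec e8Ucol_25_51645 r (by omega) c14
  by_cases c15 : r < 51755
  · exact allRange_spec e8Ucol_25_51700 r (by omega) c15
  by_cases c16 : r < 51810
  · exact allRange_spec e8Ucol_25_51755 r (by omega) c16
  by_cases c17 : r < 51865
  · exact allRange_spec e8Ucol_25_51810 r (by omega) c17
  by_cases c18 : r < 51920
  · exact allRange_spec e8Ucol_25_51865 r (by omega) c18
  by_cases c19 : r < 51975
  · exact allRange_spec e8Ucol_25_51920 r (by omega) c19
  by_cases c20 : r < 52030
  · exact allRange_spec e8Ucol_25_51975 r (by omega) c20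
  by_cases c21 : r < 52085
  · exact allRange_spec e8Ucol_25_52030 r (by omega) c21
  by_cases c22 : r < 52140
  · exact allRange_spec e8Ucol_25_52085 r (by omega) c22
  by_cases c23 : r < 52195
  · exact allRange_spec e8Ucol_25_52140 r (by omega) c23
  by_cases c24 : r < 52250
  · exact allRange_spec e8Ucol_25_52195 r (by omega) c24
  by_cases c25 : r < 52305
  · exact allRange_spec e8Ucol_25_52250 r (by omega) c25
  by_cases c26 : r < 52360
  · exact allRange_spec e8Ucol_25_52305 r (by omega) c26
  by_cases c27 : r < 52415
  · exact allRange_spec e8Ucol_25_52360 r (by omega) c27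
  by_cases c28 : r < 52470
  · exact allRange_spec e8Ucol_25_52415 r (by omega) c28
  by_cases c29 : r < 52525
  · exact allRange_spec e8Ucol_25_52470 r (by omega) c29
  by_cases c30 : r < 52580
  · exact allRange_spec e8Ucol_25_52525 r (by omega) c30
  by_cases c31 : r < 52635
  · exact allRange_spec e8Ucol_25_52580 r (by omega) c31
  by_cases c32 : r < 52690
  · exact allRange_spec e8Ucol_25_52635 r (by omega) c32
  by_cases c33 : r < 52745
  · exact allRange_spec e8Ucol_25_52690 r (by omega) c33
  by_cases c34 : r < 52800
  · exact allRange_spec e8Ucol_25_52745 r (by omega) c34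
  by_cases c35 : r < 52855
  · exact allRange_spec e8Ucol_25_52800 r (by omega) c35
  exact allRange_spec e8Ucol_25_52855 r (by omega) h2

end Cfsg.Agent.Lib.Helper3.ChevM
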