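import Cfsg.Agent.Lib.Helper3.ChevData.E8UcolA
import Cfsg.Agent.Lib.Helper3.ChevData.E8UcolB
import Cfsg.Agent.Lib.Helper3.ChevData.E8UcolC
import Cfsg.Agent.Lib.Helper3.ChevData.E8UcolD
import Cfsg.Agent.Lib.Helper3.ChevData.E8UcolE
import Cfsg.Agent.Lib.Helper3.ChevData.E8UcolF
import Cfsg.Agent.Lib.Helper3.ChevData.E8UcolG
import Cfsg.Agent.Lib.Helper3.ChevData.E8UcolH
import Cfsg.Agent.Lib.Helper3.ChevData.E8UcolI
import Cfsg.Agent.Lib.Helper3.ChevData.E8UcolJ
import Cfsg.Agent.Lib.Helper3.ChevData.E8UcolK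
import Cfsg.Agent.Lib.Helper3.ChevData.E8UcolL
import Cfsg.Agent.Lib.Helper3.ChevData.E8UcolM
import Cfsg.Agent.Lib.Helper3.ChevData.E8UcolN
import Cfsg.Agent.Lib.Helper3.ChevData.E8UcolO
import Cfsg.Agent.Lib.Helper3.ChevData.E8UcolP
import Cfsg.Agent.Lib.Helper3.ChevData.E8UcolQ
import Cfsg.Agent.Lib.Helper3.ChevData.E8UcolR
import Cfsg.Agent.Lib.Helper3.ChevData.E8UcolS
import Cfsg.Agent.Lib.Helper3.ChevData.E8UcolT
import Cfsg.Agent.Lib.Helper3.ChevData.E8UcolU
import Cfsg.Agent.Lib.Helper3.ChevData.E8UcolV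
import Cfsg.Agent.Lib.Helper3.ChevData.E8UcolW
import Cfsg.Agent.Lib.Helper3.ChevData.E8UcolX
import Cfsg.Agent.Lib.Helper3.ChevData.E8UcolY
import Cfsg.Agent.Lib.Helper3.ChevData.E8UcolZ
import Cfsg.Agent.Lib.Helper3.ChevData.E8UcolAA
import Cfsg.Agent.Lib.Helper3.ChevData.E8UcolAB
import Cfsg.Agent.Lib.Helper3.ChevData.E8UcolAC
set_option autoImplicit false

namespace Cfsg.Agent.Lib.Helper3.ChevM

/-- The terms of the commutator formula of type E8 lie higher. -/
theorem e8Ucol : ∀ r < 57600, ((fun k => collectCheck Cfsg.Lie.chevE8 hposE8 (k / 240) (k % 240))) r = true := by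
  intro r hr
  by_cases h0 : r < 2035
  · exact e8Ucol_0 r (by omega) h0
  by_cases h1 : r < 4070
  · exact e8Ucol_1 r (by omega) h1
  by_cases h2 : r < 6105
  · exact e8Ucol_2 r (by omega) h2
  by_cases h3 : r < 8140
  · exact e8Ucol_3 r (by omega) h3
  by_cases h4 : r < 10175
  · exact e8Ucol_4 r (by omega) h4
  by_cases h5 : r < 12210
  · exact e8Ucol_5 r (by omega) h5
  by_cases h6 : r < 14245
  · exact e8Ucol_6 r (by omega) h6
  by_cases h7 : r < 16280
  · exact e8Ucol_7 r (by omega) h7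
  by_cases h8 : r < 18315
  · exact e8Ucol_8 r (by omega) h8
  by_cases h9 : r < 20350
  · exact e8Ucol_9 r (by omega) h9
  by_cases h10 : r < 22385
  · exact e8Ucol_10 r (by omega) h10
  by_cases h11 : r < 24420
  · exact e8Ucol_11 r (by omega) h11
  by_cases h12 : r < 26455
  · exact e8Ucol_12 r (by omega) h12
  by_cases h13 : r < 28490
  · exact e8Ucol_13 r (by omega) h13
  by_cases h14 : r < 30525
  · exact e8Ucol_14 r (by omega) h14
  by_cases h15 : r < 32560
  · exact e8Ucol_15 r (by omega) h15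
  by_cases h16 : r < 34595
  · exact e8Ucol_16 r (by omega) h16
  by_cases h17 : r < 36630
  · exact e8Ucol_17 r (by omega) h17
  by_cases h18 : r < 38665
  · exact e8Ucol_18 r (by omega) h18
  by_cases h19 : r < 40700
  · exact e8Ucol_19 r (by omega) h19
  by_cases h20 : r < 42735
  · exact e8Ucol_20 r (by omega) h20
  by_cases h21 : r < 44770
  · exact e8Ucol_21 r (by omega) h21
  by_cases h22 : r < 46805
  · exact e8Ucol_22 r (by omega) h22
  by_cases h23 : r < 48840
  · exact e8Ucol_23 r (by omega) h23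
  by_cases h24 : r < 50875
  · exact e8Ucol_24 r (by omega) h24
  by_cases h25 : r < 52910
  · exact e8Ucol_25 r (by omega) h25
  by_cases h26 : r < 54945
  · exact e8Ucol_26 r (by omega) h26
  by_cases h27 : r < 56980
  · exact e8Ucol_27 r (by omega) h27
  exact e8Ucol_28 r (by omega) hr

end Cfsg.Agent.Lib.Helper3.ChevM
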