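import Cfsg.Agent.Lib.Helper3.ChevData.E8CommData
import Cfsg.Agent.Lib.Helper3.ChevData.E8Ucol
import Cfsg.Agent.Lib.Helper3.ChevData.E8Uinj
import Cfsg.Agent.Lib.Helper3.ChevData.E8Ufrm
import Cfsg.Agent.Lib.Helper3.ChevData.E8Ulev
import Cfsg.Agent.Lib.Helper3.ChevData.E8Uwit
set_option autoImplicit false

namespace Cfsg.Agent.Lib.Helper3.ChevM

/-- The structure data for the subgroup `U` of type E8. -/
def uhypE8 : UHyp cdE8 relE8 where
  K := commE8
  hpos := hposE8
  hf := hfE8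
  fr := frE8
  wj := wjE8
  wi := wiE8
  col := of_pairRange (m := 240) (n := 240) e8Ucol
  inj := e8Uinj
  lev := e8Ulev
  frm := e8Ufrm
  wit := e8Uwit

end Cfsg.Agent.Lib.Helper3.ChevM
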