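import Cfsg.Agent.Lib.Helper3.ChevData.E8VecA
set_option autoImplicit false

namespace Cfsg.Agent.Lib.Helper3.ChevM

/-- The Cartan integers of type E8 are linear in the roots. -/
theorem e8Vec : ∀ r < 1920, ((fun k => vecCheck Cfsg.Lie.chevE8 vecE8 (k / 240) (k % 240))) r = true := by
  intro r hr
  exact e8Vec_0 r (by omega) hr

end Cfsg.Agent.Lib.Helper3.ChevM
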