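import Cfsg.Prelude.Def_ChevE8
import Cfsg.Agent.Lib.Helper3.ChevData.E8Hd2
import Cfsg.Agent.Lib.Helper3.ChevL2
set_option autoImplicit false
set_option maxRecDepth 1000000
set_option Elab.async false

namespace Cfsg.Agent.Lib.Helper3.ChevM

theorem e8Cv_26_49920 : allRange 49920 50160 (fun k => commVecCheck Cfsg.Lie.chevE8 vecE8 (k / 240) (k % 240)) = true := by decide +kernel
theorem e8Cv_26_50160 : allRange 50160 50400 (fun k => commVecCheck Cfsg.Lie.chevE8 vecE8 (k / 240) (k % 240)) = true := by decide +kernel
theorem e8Cv_26_50400 : allRange 50400 50640 (fun k => commVecCheck Cfsg.Lie.chevE8 vecE8 (k / 240) (k % 240)) = true := by decide +kernel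
theorem e8Cv_26_50640 : allRange 50640 50880 (fun k => commVecCheck Cfsg.Lie.chevE8 vecE8 (k / 240) (k % 240)) = true := by decide +kernel
theorem e8Cv_26_50880 : allRange 50880 51120 (fun k => commVecCheck Cfsg.Lie.chevE8 vecE8 (k / 240) (k % 240)) = true := by decide +kernel
theorem e8Cv_26_51120 : allRange 51120 51360 (fun k => commVecCheck Cfsg.Lie.chevE8 vecE8 (k / 240) (k % 240)) = true := by decide +kernel
theorem e8Cv_26_51360 : allRange 51360 51600 (fun k => commVecCheck Cfsg.Lie.chevE8 vecE8 (k / 240) (k % 240)) = true := by decide +kernel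
theorem e8Cv_26_51600 : allRange 51600 51840 (fun k => commVecCheck Cfsg.Lie.chevE8 vecE8 (k / 240) (k % 240)) = true := by decide +kernel

/-- The roots of the commutator formula of type E8 are the expected combinations (roots 49920 to 51839). -/
theorem e8Cv_26 : ∀ r, 49920 ≤ r → r < 51840 → (fun k => commVecCheck Cfsg.Lie.chevE8 vecE8 (k / 240) (k % 240)) r = true := by
  intro r h1 h2
  by_cases c0 : r < 50160
  · exact allRange_spec e8Cv_26_49920 r (by omega) c0
  by_cases c1 : r < 50400
  · exact allRange_spec e8Cv_26_50160 r (by omega) c1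
  by_cases c2 : r < 50640
  · exact allRange_spec e8Cv_26_50400 r (by omega) c2
  by_cases c3 : r < 50880
  · exact allRange_spec e8Cv_26_50640 r (by omega) c3
  by_cases c4 : r < 51120
  · exact allRange_spec e8Cv_26_50880 r (by omega) c4
  by_cases c5 : r < 51360
  · exact allRange_spec e8Cv_26_51120 r (by omega) c5
  by_cases c6 : r < 51600
  · exact allRange_spec e8Cv_26_51360 r (by omega) c6
  exact allRange_spec e8Cv_26_51600 r (by omega) h2

end Cfsg.Agent.Lib.Helper3.ChevM
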