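import Cfsg.Prelude.Def_ChevE8
import Cfsg.Agent.Lib.Helper3.ChevData.E8Hd2
import Cfsg.Agent.Lib.Helper3.ChevL2
set_option autoImplicit false
set_option maxRecDepth 1000000
set_option Elab.async false

namespace Cfsg.Agent.Lib.Helper3.ChevM

theorem e8Cv_27_51840 : allRange 51840 52080 (fun k => commVecCheck Cfsg.Lie.chevE8 vecE8 (k / 240) (k % 240)) = true := by decide +kernel
theorem e8Cv_27_52080 : allRange 52080 52320 (fun k => commVecCheck Cfsg.Lie.chevE8 vecE8 (k / 240) (k % 240)) = true := by decide +kernel
theorem e8Cv_27_52320 : allRange 52320 52560 (fun k => commVecCheck Cfsg.Lie.chevE8 vecE8 (k / 240) (k % 240)) = true := by decide +kernel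
theorem e8Cv_27_52560 : allRange 52560 52800 (fun k => commVecCheck Cfsg.Lie.chevE8 vecE8 (k / 240) (k % 240)) = true := by decide +kernel
theorem e8Cv_27_52800 : allRange 52800 53040 (fun k => commVecCheck Cfsg.Lie.chevE8 vecE8 (k / 240) (k % 240)) = true := by decide +kernel
theorem e8Cv_27_53040 : allRange 53040 53280 (fun k => commVecCheck Cfsg.Lie.chevE8 vecE8 (k / 240) (k % 240)) = true := by decide +kernel
theorem e8Cv_27_53280 : allRange 53280 53520 (fun k => commVecCheck Cfsg.Lie.chevE8 vecE8 (k / 240) (k % 240)) = true := by decide +kernel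
theorem e8Cv_27_53520 : allRange 53520 53760 (fun k => commVecCheck Cfsg.Lie.chevE8 vecE8 (k / 240) (k % 240)) = true := by decide +kernel

/-- The roots of the commutator formula of type E8 are the expected combinations (roots 51840 to 53759). -/
theorem e8Cv_27 : ∀ r, 51840 ≤ r → r < 53760 → (fun k => commVecCheck Cfsg.Lie.chevE8 vecE8 (k / 240) (k % 240)) r = true := by
  intro r h1 h2
  by_cases c0 : r < 52080
  · exact allRange_spec e8Cv_27_51840 r (by omega) c0
  by_cases c1 : r < 52320
  · exact allRange_spec e8Cv_27_52080 r (by omega) c1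
  by_cases c2 : r < 52560
  · exact allRange_spec e8Cv_27_52320 r (by omega) c2
  by_cases c3 : r < 52800
  · exact allRange_spec e8Cv_27_52560 r (by omega) c3
  by_cases c4 : r < 53040
  · exact allRange_spec e8Cv_27_52800 r (by omega) c4
  by_cases c5 : r < 53280
  · exact allRange_spec e8Cv_27_53040 r (by omega) c5
  by_cases c6 : r < 53520
  · exact allRange_spec e8Cv_27_53280 r (by omega) c6
  exact allRange_spec e8Cv_27_53520 r (by omega) h2

end Cfsg.Agent.Lib.Helper3.ChevM
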