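import Cfsg.Prelude.Def_ChevE8
import Cfsg.Agent.Lib.Helper3.ChevData.E8Hd2
import Cfsg.Agent.Lib.Helper3.ChevL2
set_option autoImplicit false
set_option maxRecDepth 1000000
set_option Elab.async false

namespace Cfsg.Agent.Lib.Helper3.ChevM

theorem e8Cv_28_53760 : allRange 53760 54000 (fun k => commVecCheck Cfsg.Lie.chevE8 vecE8 (k / 240) (k % 240)) = true := by decide +kernel
theorem e8Cv_28_54000 : allRange 54000 54240 (fun k => commVecCheck Cfsg.Lie.chevE8 vecE8 (k / 240) (k % 240)) = true := by decide +kernel
theorem e8Cv_28_54240 : allRange 54240 54480 (fun k => commVecCheck Cfsg.Lie.chevE8 vecE8 (k / 240) (k % 240)) = true := by decide +kernel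
theorem e8Cv_28_54480 : allRange 54480 54720 (fun k => commVecCheck Cfsg.Lie.chevE8 vecE8 (k / 240) (k % 240)) = true := by decide +kernel
theorem e8Cv_28_54720 : allRange 54720 54960 (fun k => commVecCheck Cfsg.Lie.chevE8 vecE8 (k / 240) (k % 240)) = true := by decide +kernel
theorem e8Cv_28_54960 : allRange 54960 55200 (fun k => commVecCheck Cfsg.Lie.chevE8 vecE8 (k / 240) (k % 240)) = true := by decide +kernel
theorem e8Cv_28_55200 : allRange 55200 55440 (fun k => commVecCheck Cfsg.Lie.chevE8 vecE8 (k / 240) (k % 240)) = true := by decide +kernel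
theorem e8Cv_28_55440 : allRange 55440 55680 (fun k => commVecCheck Cfsg.Lie.chevE8 vecE8 (k / 240) (k % 240)) = true := by decide +kernel

/-- The roots of the commutator formula of type E8 are the expected combinations (roots 53760 to 55679). -/
theorem e8Cv_28 : ∀ r, 53760 ≤ r → r < 55680 → (fun k => commVecCheck Cfsg.Lie.chevE8 vecE8 (k / 240) (k % 240)) r = true := by
  intro r h1 h2
  by_cases c0 : r < 54000
  · exact allRange_spec e8Cv_28_53760 r (by omega) c0
  by_cases c1 : r < 54240
  · exact allRange_spec e8Cv_28_54000 r (by omega) c1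
  by_cases c2 : r < 54480
  · exact allRange_spec e8Cv_28_54240 r (by omega) c2
  by_cases c3 : r < 54720
  · exact allRange_spec e8Cv_28_54480 r (by omega) c3
  by_cases c4 : r < 54960
  · exact allRange_spec e8Cv_28_54720 r (by omega) c4
  by_cases c5 : r < 55200
  · exact allRange_spec e8Cv_28_54960 r (by omega) c5
  by_cases c6 : r < 55440
  · exact allRange_spec e8Cv_28_55200 r (by omega) c6
  exact allRange_spec e8Cv_28_55440 r (by omega) h2

end Cfsg.Agent.Lib.Helper3.ChevM
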