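import Cfsg.Prelude.Def_ChevE8
import Cfsg.Agent.Lib.Helper3.ChevData.E8Hd2
import Cfsg.Agent.Lib.Helper3.ChevL2
set_option autoImplicit false
set_option maxRecDepth 1000000
set_option Elab.async false

namespace Cfsg.Agent.Lib.Helper3.ChevM

theorem e8Cv_29_55680 : allRange 55680 55920 (fun k => commVecCheck Cfsg.Lie.chevE8 vecE8 (k / 240) (k % 240)) = true := by decide +kernel
theorem e8Cv_29_55920 : allRange 55920 56160 (fun k => commVecCheck Cfsg.Lie.chevE8 vecE8 (k / 240) (k % 240)) = true := by decide +kernel
theorem e8Cv_29_56160 : allRange 56160 56400 (fun k => commVecCheck Cfsg.Lie.chevE8 vecE8 (k / 240) (k % 240)) = true := by decide +kernel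
theorem e8Cv_29_56400 : allRange 56400 56640 (fun k => commVecCheck Cfsg.Lie.chevE8 vecE8 (k / 240) (k % 240)) = true := by decide +kernel
theorem e8Cv_29_56640 : allRange 56640 56880 (fun k => commVecCheck Cfsg.Lie.chevE8 vecE8 (k / 240) (k % 240)) = true := by decide +kernel
theorem e8Cv_29_56880 : allRange 56880 57120 (fun k => commVecCheck Cfsg.Lie.chevE8 vecE8 (k / 240) (k % 240)) = true := by decide +kernel
theorem e8Cv_29_57120 : allRange 57120 57360 (fun k => commVecCheck Cfsg.Lie.chevE8 vecE8 (k / 240) (k % 240)) = true := by decide +kernel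
theorem e8Cv_29_57360 : allRange 57360 57600 (fun k => commVecCheck Cfsg.Lie.chevE8 vecE8 (k / 240) (k % 240)) = true := by decide +kernel

/-- The roots of the commutator formula of type E8 are the expected combinations (roots 55680 to 57599). -/
theorem e8Cv_29 : ∀ r, 55680 ≤ r → r < 57600 → (fun k => commVecCheck Cfsg.Lie.chevE8 vecE8 (k / 240) (k % 240)) r = true := by
  intro r h1 h2
  by_cases c0 : r < 55920
  · exact allRange_spec e8Cv_29_55680 r (by omega) c0
  by_cases c1 : r < 56160
  · exact allRange_spec e8Cv_29_55920 r (by omega) c1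
  by_cases c2 : r < 56400
  · exact allRange_spec e8Cv_29_56160 r (by omega) c2
  by_cases c3 : r < 56640
  · exact allRange_spec e8Cv_29_56400 r (by omega) c3
  by_cases c4 : r < 56880
  · exact allRange_spec e8Cv_29_56640 r (by omega) c4
  by_cases c5 : r < 57120
  · exact allRange_spec e8Cv_29_56880 r (by omega) c5
  by_cases c6 : r < 57360
  · exact allRange_spec e8Cv_29_57120 r (by omega) c6
  exact allRange_spec e8Cv_29_57360 r (by omega) h2

end Cfsg.Agent.Lib.Helper3.ChevM
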