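import Cfsg.Prelude.Def_ChevE8
import Cfsg.Agent.Lib.Helper3.ChevData.E8Hd2
import Cfsg.Agent.Lib.Helper3.ChevL2
set_option autoImplicit false
set_option maxRecDepth 1000000
set_option Elab.async false

namespace Cfsg.Agent.Lib.Helper3.ChevM

theorem e8Cv_1_1920 : allRange 1920 2160 (fun k => commVecCheck Cfsg.Lie.chevE8 vecE8 (k / 240) (k % 240)) = true := by decide +kernel
theorem e8Cv_1_2160 : allRange 2160 2400 (fun k => commVecCheck Cfsg.Lie.chevE8 vecE8 (k / 240) (k % 240)) = true := by decide +kernel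
theorem e8Cv_1_2400 : allRange 2400 2640 (fun k => commVecCheck Cfsg.Lie.chevE8 vecE8 (k / 240) (k % 240)) = true := by decide +kernel
theorem e8Cv_1_2640 : allRange 2640 2880 (fun k => commVecCheck Cfsg.Lie.chevE8 vecE8 (k / 240) (k % 240)) = true := by decide +kernel
theorem e8Cv_1_2880 : allRange 2880 3120 (fun k => commVecCheck Cfsg.Lie.chevE8 vecE8 (k / 240) (k % 240)) = true := by decide +kernel
theorem e8Cv_1_3120 : allRange 3120 3360 (fun k => commVecCheck Cfsg.Lie.chevE8 vecE8 (k / 240) (k % 240)) = true := by decide +kernel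
theorem e8Cv_1_3360 : allRange 3360 3600 (fun k => commVecCheck Cfsg.Lie.chevE8 vecE8 (k / 240) (k % 240)) = true := by decide +kernel
theorem e8Cv_1_3600 : allRange 3600 3840 (fun k => commVecCheck Cfsg.Lie.chevE8 vecE8 (k / 240) (k % 240)) = true := by decide +kernel

/-- The roots of the commutator formula of type E8 are the expected combinations (roots 1920 to 3839). -/
theorem e8Cv_1 : ∀ r, 1920 ≤ r → r < 3840 → (fun k => commVecCheck Cfsg.Lie.chevE8 vecE8 (k / 240) (k % 240)) r = true := by
  intro r h1 h2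
  by_cases c0 : r < 2160
  · exact allRange_spec e8Cv_1_1920 r (by omega) c0
  by_cases c1 : r < 2400
  · exact allRange_spec e8Cv_1_2160 r (by omega) c1
  by_cases c2 : r < 2640
  · exact allRange_spec e8Cv_1_2400 r (by omega) c2
  by_cases c3 : r < 2880
  · exact allRange_spec e8Cv_1_2640 r (by omega) c3
  by_cases c4 : r < 3120
  · exact allRange_spec e8Cv_1_2880 r (by omega) c4
  by_cases c5 : r < 3360
  · exact allRange_spec e8Cv_1_3120 r (by omega) c5
  by_cases c6 : r < 3600
  · exact allRange_spec e8Cv_1_3360 r (by omega) c6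
  exact allRange_spec e8Cv_1_3600 r (by omega) h2

end Cfsg.Agent.Lib.Helper3.ChevM
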