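import Cfsg.Prelude.Def_ChevE8
import Cfsg.Agent.Lib.Helper3.ChevData.E8Hd2
import Cfsg.Agent.Lib.Helper3.ChevL2
set_option autoImplicit false
set_option maxRecDepth 1000000
set_option Elab.async false

namespace Cfsg.Agent.Lib.Helper3.ChevM

theorem e8Cv_2_3840 : allRange 3840 4080 (fun k => commVecCheck Cfsg.Lie.chevE8 vecE8 (k / 240) (k % 240)) = true := by decide +kernel
theorem e8Cv_2_4080 : allRange 4080 4320 (fun k => commVecCheck Cfsg.Lie.chevE8 vecE8 (k / 240) (k % 240)) = true := by decide +kernel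
theorem e8Cv_2_4320 : allRange 4320 4560 (fun k => commVecCheck Cfsg.Lie.chevE8 vecE8 (k / 240) (k % 240)) = true := by decide +kernel
theorem e8Cv_2_4560 : allRange 4560 4800 (fun k => commVecCheck Cfsg.Lie.chevE8 vecE8 (k / 240) (k % 240)) = true := by decide +kernel
theorem e8Cv_2_4800 : allRange 4800 5040 (fun k => commVecCheck Cfsg.Lie.chevE8 vecE8 (k / 240) (k % 240)) = true := by decide +kernel
theorem e8Cv_2_5040 : allRange 5040 5280 (fun k => commVecCheck Cfsg.Lie.chevE8 vecE8 (k / 240) (k % 240)) = true := by decide +kernel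
theorem e8Cv_2_5280 : allRange 5280 5520 (fun k => commVecCheck Cfsg.Lie.chevE8 vecE8 (k / 240) (k % 240)) = true := by decide +kernel
theorem e8Cv_2_5520 : allRange 5520 5760 (fun k => commVecCheck Cfsg.Lie.chevE8 vecE8 (k / 240) (k % 240)) = true := by decide +kernel

/-- The roots of the commutator formula of type E8 are the expected combinations (roots 3840 to 5759). -/
theorem e8Cv_2 : ∀ r, 3840 ≤ r → r < 5760 → (fun k => commVecCheck Cfsg.Lie.chevE8 vecE8 (k / 240) (k % 240)) r = true := by
  intro r h1 h2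
  by_cases c0 : r < 4080
  · exact allRange_spec e8Cv_2_3840 r (by omega) c0
  by_cases c1 : r < 4320
  · exact allRange_spec e8Cv_2_4080 r (by omega) c1
  by_cases c2 : r < 4560
  · exact allRange_spec e8Cv_2_4320 r (by omega) c2
  by_cases c3 : r < 4800
  · exact allRange_spec e8Cv_2_4560 r (by omega) c3
  by_cases c4 : r < 5040
  · exact allRange_spec e8Cv_2_4800 r (by omega) c4
  by_cases c5 : r < 5280
  · exact allRange_spec e8Cv_2_5040 r (by omega) c5
  by_cases c6 : r < 5520
  · exact allRange_spec e8Cv_2_5280 r (by omega) c6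
  exact allRange_spec e8Cv_2_5520 r (by omega) h2

end Cfsg.Agent.Lib.Helper3.ChevM
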