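import Cfsg.Prelude.Def_ChevE8
import Cfsg.Agent.Lib.Helper3.ChevData.E8Hd2
import Cfsg.Agent.Lib.Helper3.ChevL2
set_option autoImplicit false
set_option maxRecDepth 1000000
set_option Elab.async false

namespace Cfsg.Agent.Lib.Helper3.ChevM

theorem e8Cv_3_5760 : allRange 5760 6000 (fun k => commVecCheck Cfsg.Lie.chevE8 vecE8 (k / 240) (k % 240)) = true := by decide +kernel
theorem e8Cv_3_6000 : allRange 6000 6240 (fun k => commVecCheck Cfsg.Lie.chevE8 vecE8 (k / 240) (k % 240)) = true := by decide +kernel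
theorem e8Cv_3_6240 : allRange 6240 6480 (fun k => commVecCheck Cfsg.Lie.chevE8 vecE8 (k / 240) (k % 240)) = true := by decide +kernel
theorem e8Cv_3_6480 : allRange 6480 6720 (fun k => commVecCheck Cfsg.Lie.chevE8 vecE8 (k / 240) (k % 240)) = true := by decide +kernel
theorem e8Cv_3_6720 : allRange 6720 6960 (fun k => commVecCheck Cfsg.Lie.chevE8 vecE8 (k / 240) (k % 240)) = true := by decide +kernel
theorem e8Cv_3_6960 : allRange 6960 7200 (fun k => commVecCheck Cfsg.Lie.chevE8 vecE8 (k / 240) (k % 240)) = true := by decide +kernel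
theorem e8Cv_3_7200 : allRange 7200 7440 (fun k => commVecCheck Cfsg.Lie.chevE8 vecE8 (k / 240) (k % 240)) = true := by decide +kernel
theorem e8Cv_3_7440 : allRange 7440 7680 (fun k => commVecCheck Cfsg.Lie.chevE8 vecE8 (k / 240) (k % 240)) = true := by decide +kernel

/-- The roots of the commutator formula of type E8 are the expected combinations (roots 5760 to 7679). -/
theorem e8Cv_3 : ∀ r, 5760 ≤ r → r < 7680 → (fun k => commVecCheck Cfsg.Lie.chevE8 vecE8 (k / 240) (k % 240)) r = true := by
  intro r h1 h2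
  by_cases c0 : r < 6000
  · exact allRange_spec e8Cv_3_5760 r (by omega) c0
  by_cases c1 : r < 6240
  · exact allRange_spec e8Cv_3_6000 r (by omega) c1
  by_cases c2 : r < 6480
  · exact allRange_spec e8Cv_3_6240 r (by omega) c2
  by_cases c3 : r < 6720
  · exact allRange_spec e8Cv_3_6480 r (by omega) c3
  by_cases c4 : r < 6960
  · exact allRange_spec e8Cv_3_6720 r (by omega) c4
  by_cases c5 : r < 7200
  · exact allRange_spec e8Cv_3_6960 r (by omega) c5
  by_cases c6 : r < 7440
  · exact allRange_spec e8Cv_3_7200 r (by omega) c6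
  exact allRange_spec e8Cv_3_7440 r (by omega) h2

end Cfsg.Agent.Lib.Helper3.ChevM
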