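import Cfsg.Prelude.Def_ChevE8
import Cfsg.Agent.Lib.Helper3.ChevData.E8Hd2
import Cfsg.Agent.Lib.Helper3.ChevL2
set_option autoImplicit false
set_option maxRecDepth 1000000
set_option Elab.async false

namespace Cfsg.Agent.Lib.Helper3.ChevM

theorem e8Cv_4_7680 : allRange 7680 7920 (fun k => commVecCheck Cfsg.Lie.chevE8 vecE8 (k / 240) (k % 240)) = true := by decide +kernel
theorem e8Cv_4_7920 : allRange 7920 8160 (fun k => commVecCheck Cfsg.Lie.chevE8 vecE8 (k / 240) (k % 240)) = true := by decide +kernel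
theorem e8Cv_4_8160 : allRange 8160 8400 (fun k => commVecCheck Cfsg.Lie.chevE8 vecE8 (k / 240) (k % 240)) = true := by decide +kernel
theorem e8Cv_4_8400 : allRange 8400 8640 (fun k => commVecCheck Cfsg.Lie.chevE8 vecE8 (k / 240) (k % 240)) = true := by decide +kernel
theorem e8Cv_4_8640 : allRange 8640 8880 (fun k => commVecCheck Cfsg.Lie.chevE8 vecE8 (k / 240) (k % 240)) = true := by decide +kernel
theorem e8Cv_4_8880 : allRange 8880 9120 (fun k => commVecCheck Cfsg.Lie.chevE8 vecE8 (k / 240) (k % 240)) = true := by decide +kernel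
theorem e8Cv_4_9120 : allRange 9120 9360 (fun k => commVecCheck Cfsg.Lie.chevE8 vecE8 (k / 240) (k % 240)) = true := by decide +kernel
theorem e8Cv_4_9360 : allRange 9360 9600 (fun k => commVecCheck Cfsg.Lie.chevE8 vecE8 (k / 240) (k % 240)) = true := by decide +kernel

/-- The roots of the commutator formula of type E8 are the expected combinations (roots 7680 to 9599). -/
theorem e8Cv_4 : ∀ r, 7680 ≤ r → r < 9600 → (fun k => commVecCheck Cfsg.Lie.chevE8 vecE8 (k / 240) (k % 240)) r = true := by
  intro r h1 h2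
  by_cases c0 : r < 7920
  · exact allRange_spec e8Cv_4_7680 r (by omega) c0
  by_cases c1 : r < 8160
  · exact allRange_spec e8Cv_4_7920 r (by omega) c1
  by_cases c2 : r < 8400
  · exact allRange_spec e8Cv_4_8160 r (by omega) c2
  by_cases c3 : r < 8640
  · exact allRange_spec e8Cv_4_8400 r (by omega) c3
  by_cases c4 : r < 8880
  · exact allRange_spec e8Cv_4_8640 r (by omega) c4
  by_cases c5 : r < 9120
  · exact allRange_spec e8Cv_4_8880 r (by omega) c5
  by_cases c6 : r < 9360
  · exact allRange_spec e8Cv_4_9120 r (by omega) c6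
  exact allRange_spec e8Cv_4_9360 r (by omega) h2

end Cfsg.Agent.Lib.Helper3.ChevM
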