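import Cfsg.Prelude.Def_ChevE8
import Cfsg.Agent.Lib.Helper3.ChevData.E8Hd2
import Cfsg.Agent.Lib.Helper3.ChevL2
set_option autoImplicit false
set_option maxRecDepth 1000000
set_option Elab.async false

namespace Cfsg.Agent.Lib.Helper3.ChevM

theorem e8Cv_5_9600 : allRange 9600 9840 (fun k => commVecCheck Cfsg.Lie.chevE8 vecE8 (k / 240) (k % 240)) = true := by decide +kernel
theorem e8Cv_5_9840 : allRange 9840 10080 (fun k => commVecCheck Cfsg.Lie.chevE8 vecE8 (k / 240) (k % 240)) = true := by decide +kernel
theorem e8Cv_5_10080 : allRange 10080 10320 (fun k => commVecCheck Cfsg.Lie.chevE8 vecE8 (k / 240) (k % 240)) = true := by decide +kernel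
theorem e8Cv_5_10320 : allRange 10320 10560 (fun k => commVecCheck Cfsg.Lie.chevE8 vecE8 (k / 240) (k % 240)) = true := by decide +kernel
theorem e8Cv_5_10560 : allRange 10560 10800 (fun k => commVecCheck Cfsg.Lie.chevE8 vecE8 (k / 240) (k % 240)) = true := by decide +kernel
theorem e8Cv_5_10800 : allRange 10800 11040 (fun k => commVecCheck Cfsg.Lie.chevE8 vecE8 (k / 240) (k % 240)) = true := by decide +kernel
theorem e8Cv_5_11040 : allRange 11040 11280 (fun k => commVecCheck Cfsg.Lie.chevE8 vecE8 (k / 240) (k % 240)) = true := by decide +kernel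
theorem e8Cv_5_11280 : allRange 11280 11520 (fun k => commVecCheck Cfsg.Lie.chevE8 vecE8 (k / 240) (k % 240)) = true := by decide +kernel

/-- The roots of the commutator formula of type E8 are the expected combinations (roots 9600 to 11519). -/
theorem e8Cv_5 : ∀ r, 9600 ≤ r → r < 11520 → (fun k => commVecCheck Cfsg.Lie.chevE8 vecE8 (k / 240) (k % 240)) r = true := by
  intro r h1 h2
  by_cases c0 : r < 9840
  · exact allRange_spec e8Cv_5_9600 r (by omega) c0
  by_cases c1 : r < 10080
  · exact allRange_spec e8Cv_5_9840 r (by omega) c1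
  by_cases c2 : r < 10320
  · exact allRange_spec e8Cv_5_10080 r (by omega) c2
  by_cases c3 : r < 10560
  · exact allRange_spec e8Cv_5_10320 r (by omega) c3
  by_cases c4 : r < 10800
  · exact allRange_spec e8Cv_5_10560 r (by omega) c4
  by_cases c5 : r < 11040
  · exact allRange_spec e8Cv_5_10800 r (by omega) c5
  by_cases c6 : r < 11280
  · exact allRange_spec e8Cv_5_11040 r (by omega) c6
  exact allRange_spec e8Cv_5_11280 r (by omega) h2

end Cfsg.Agent.Lib.Helper3.ChevM
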