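import Cfsg.Prelude.Def_ChevE8
import Cfsg.Agent.Lib.Helper3.ChevData.E8Hd2
import Cfsg.Agent.Lib.Helper3.ChevL2
set_option autoImplicit false
set_option maxRecDepth 1000000
set_option Elab.async false

namespace Cfsg.Agent.Lib.Helper3.ChevM

theorem e8Cv_6_11520 : allRange 11520 11760 (fun k => commVecCheck Cfsg.Lie.chevE8 vecE8 (k / 240) (k % 240)) = true := by decide +kernel
theorem e8Cv_6_11760 : allRange 11760 12000 (fun k => commVecCheck Cfsg.Lie.chevE8 vecE8 (k / 240) (k % 240)) = true := by decide +kernel
theorem e8Cv_6_12000 : allRange 12000 12240 (fun k => commVecCheck Cfsg.Lie.chevE8 vecE8 (k / 240) (k % 240)) = true := by decide +kernel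
theorem e8Cv_6_12240 : allRange 12240 12480 (fun k => commVecCheck Cfsg.Lie.chevE8 vecE8 (k / 240) (k % 240)) = true := by decide +kernel
theorem e8Cv_6_12480 : allRange 12480 12720 (fun k => commVecCheck Cfsg.Lie.chevE8 vecE8 (k / 240) (k % 240)) = true := by decide +kernel
theorem e8Cv_6_12720 : allRange 12720 12960 (fun k => commVecCheck Cfsg.Lie.chevE8 vecE8 (k / 240) (k % 240)) = true := by decide +kernel
theorem e8Cv_6_12960 : allRange 12960 13200 (fun k => commVecCheck Cfsg.Lie.chevE8 vecE8 (k / 240) (k % 240)) = true := by decide +kernel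
theorem e8Cv_6_13200 : allRange 13200 13440 (fun k => commVecCheck Cfsg.Lie.chevE8 vecE8 (k / 240) (k % 240)) = true := by decide +kernel

/-- The roots of the commutator formula of type E8 are the expected combinations (roots 11520 to 13439). -/
theorem e8Cv_6 : ∀ r, 11520 ≤ r → r < 13440 → (fun k => commVecCheck Cfsg.Lie.chevE8 vecE8 (k / 240) (k % 240)) r = true := by
  intro r h1 h2
  by_cases c0 : r < 11760
  · exact allRange_spec e8Cv_6_11520 r (by omega) c0
  by_cases c1 : r < 12000
  · exact allRange_spec e8Cv_6_11760 r (by omega) c1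
  by_cases c2 : r < 12240
  · exact allRange_spec e8Cv_6_12000 r (by omega) c2
  by_cases c3 : r < 12480
  · exact allRange_spec e8Cv_6_12240 r (by omega) c3
  by_cases c4 : r < 12720
  · exact allRange_spec e8Cv_6_12480 r (by omega) c4
  by_cases c5 : r < 12960
  · exact allRange_spec e8Cv_6_12720 r (by omega) c5
  by_cases c6 : r < 13200
  · exact allRange_spec e8Cv_6_12960 r (by omega) c6
  exact allRange_spec e8Cv_6_13200 r (by omega) h2

end Cfsg.Agent.Lib.Helper3.ChevM
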