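import Cfsg.Prelude.Def_ChevE8
import Cfsg.Agent.Lib.Helper3.ChevData.E8Hd2
import Cfsg.Agent.Lib.Helper3.ChevL2
set_option autoImplicit false
set_option maxRecDepth 1000000
set_option Elab.async false

namespace Cfsg.Agent.Lib.Helper3.ChevM

theorem e8Cv_7_13440 : allRange 13440 13680 (fun k => commVecCheck Cfsg.Lie.chevE8 vecE8 (k / 240) (k % 240)) = true := by decide +kernel
theorem e8Cv_7_13680 : allRange 13680 13920 (fun k => commVecCheck Cfsg.Lie.chevE8 vecE8 (k / 240) (k % 240)) = true := by decide +kernel
theorem e8Cv_7_13920 : allRange 13920 14160 (fun k => commVecCheck Cfsg.Lie.chevE8 vecE8 (k / 240) (k % 240)) = true := by decide +kernel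
theorem e8Cv_7_14160 : allRange 14160 14400 (fun k => commVecCheck Cfsg.Lie.chevE8 vecE8 (k / 240) (k % 240)) = true := by decide +kernel
theorem e8Cv_7_14400 : allRange 14400 14640 (fun k => commVecCheck Cfsg.Lie.chevE8 vecE8 (k / 240) (k % 240)) = true := by decide +kernel
theorem e8Cv_7_14640 : allRange 14640 14880 (fun k => commVecCheck Cfsg.Lie.chevE8 vecE8 (k / 240) (k % 240)) = true := by decide +kernel
theorem e8Cv_7_14880 : allRange 14880 15120 (fun k => commVecCheck Cfsg.Lie.chevE8 vecE8 (k / 240) (k % 240)) = true := by decide +kernel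
theorem e8Cv_7_15120 : allRange 15120 15360 (fun k => commVecCheck Cfsg.Lie.chevE8 vecE8 (k / 240) (k % 240)) = true := by decide +kernel

/-- The roots of the commutator formula of type E8 are the expected combinations (roots 13440 to 15359). -/
theorem e8Cv_7 : ∀ r, 13440 ≤ r → r < 15360 → (fun k => commVecCheck Cfsg.Lie.chevE8 vecE8 (k / 240) (k % 240)) r = true := by
  intro r h1 h2
  by_cases c0 : r < 13680
  · exact allRange_spec e8Cv_7_13440 r (by omega) c0
  by_cases c1 : r < 13920
  · exact allRange_spec e8Cv_7_13680 r (by omega) c1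
  by_cases c2 : r < 14160
  · exact allRange_spec e8Cv_7_13920 r (by omega) c2
  by_cases c3 : r < 14400
  · exact allRange_spec e8Cv_7_14160 r (by omega) c3
  by_cases c4 : r < 14640
  · exact allRange_spec e8Cv_7_14400 r (by omega) c4
  by_cases c5 : r < 14880
  · exact allRange_spec e8Cv_7_14640 r (by omega) c5
  by_cases c6 : r < 15120
  · exact allRange_spec e8Cv_7_14880 r (by omega) c6
  exact allRange_spec e8Cv_7_15120 r (by omega) h2

end Cfsg.Agent.Lib.Helper3.ChevM
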