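import Cfsg.Prelude.Def_ChevE8
import Cfsg.Agent.Lib.Helper3.ChevData.E8Hd2
import Cfsg.Agent.Lib.Helper3.ChevL2
set_option autoImplicit false
set_option maxRecDepth 1000000
set_option Elab.async false

namespace Cfsg.Agent.Lib.Helper3.ChevM

theorem e8Cv_8_15360 : allRange 15360 15600 (fun k => commVecCheck Cfsg.Lie.chevE8 vecE8 (k / 240) (k % 240)) = true := by decide +kernel
theorem e8Cv_8_15600 : allRange 15600 15840 (fun k => commVecCheck Cfsg.Lie.chevE8 vecE8 (k / 240) (k % 240)) = true := by decide +kernel
theorem e8Cv_8_15840 : allRange 15840 16080 (fun k => commVecCheck Cfsg.Lie.chevE8 vecE8 (k / 240) (k % 240)) = true := by decide +kernel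
theorem e8Cv_8_16080 : allRange 16080 16320 (fun k => commVecCheck Cfsg.Lie.chevE8 vecE8 (k / 240) (k % 240)) = true := by decide +kernel
theorem e8Cv_8_16320 : allRange 16320 16560 (fun k => commVecCheck Cfsg.Lie.chevE8 vecE8 (k / 240) (k % 240)) = true := by decide +kernel
theorem e8Cv_8_16560 : allRange 16560 16800 (fun k => commVecCheck Cfsg.Lie.chevE8 vecE8 (k / 240) (k % 240)) = true := by decide +kernel
theorem e8Cv_8_16800 : allRange 16800 17040 (fun k => commVecCheck Cfsg.Lie.chevE8 vecE8 (k / 240) (k % 240)) = true := by decide +kernel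
theorem e8Cv_8_17040 : allRange 17040 17280 (fun k => commVecCheck Cfsg.Lie.chevE8 vecE8 (k / 240) (k % 240)) = true := by decide +kernel

/-- The roots of the commutator formula of type E8 are the expected combinations (roots 15360 to 17279). -/
theorem e8Cv_8 : ∀ r, 15360 ≤ r → r < 17280 → (fun k => commVecCheck Cfsg.Lie.chevE8 vecE8 (k / 240) (k % 240)) r = true := by
  intro r h1 h2
  by_cases c0 : r < 15600
  · exact allRange_spec e8Cv_8_15360 r (by omega) c0
  by_cases c1 : r < 15840
  · exact allRange_spec e8Cv_8_15600 r (by omega) c1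
  by_cases c2 : r < 16080
  · exact allRange_spec e8Cv_8_15840 r (by omega) c2
  by_cases c3 : r < 16320
  · exact allRange_spec e8Cv_8_16080 r (by omega) c3
  by_cases c4 : r < 16560
  · exact allRange_spec e8Cv_8_16320 r (by omega) c4
  by_cases c5 : r < 16800
  · exact allRange_spec e8Cv_8_16560 r (by omega) c5
  by_cases c6 : r < 17040
  · exact allRange_spec e8Cv_8_16800 r (by omega) c6
  exact allRange_spec e8Cv_8_17040 r (by omega) h2

end Cfsg.Agent.Lib.Helper3.ChevM
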