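import Cfsg.Prelude.Def_ChevE8
import Cfsg.Agent.Lib.Helper3.ChevData.E8Hd2
import Cfsg.Agent.Lib.Helper3.ChevL2
set_option autoImplicit false
set_option maxRecDepth 1000000
set_option Elab.async false

namespace Cfsg.Agent.Lib.Helper3.ChevM

theorem e8Cv_9_17280 : allRange 17280 17520 (fun k => commVecCheck Cfsg.Lie.chevE8 vecE8 (k / 240) (k % 240)) = true := by decide +kernel
theorem e8Cv_9_17520 : allRange 17520 17760 (fun k => commVecCheck Cfsg.Lie.chevE8 vecE8 (k / 240) (k % 240)) = true := by decide +kernel
theorem e8Cv_9_17760 : allRange 17760 18000 (fun k => commVecCheck Cfsg.Lie.chevE8 vecE8 (k / 240) (k % 240)) = true := by decide +kernel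
theorem e8Cv_9_18000 : allRange 18000 18240 (fun k => commVecCheck Cfsg.Lie.chevE8 vecE8 (k / 240) (k % 240)) = true := by decide +kernel
theorem e8Cv_9_18240 : allRange 18240 18480 (fun k => commVecCheck Cfsg.Lie.chevE8 vecE8 (k / 240) (k % 240)) = true := by decide +kernel
theorem e8Cv_9_18480 : allRange 18480 18720 (fun k => commVecCheck Cfsg.Lie.chevE8 vecE8 (k / 240) (k % 240)) = true := by decide +kernel
theorem e8Cv_9_18720 : allRange 18720 18960 (fun k => commVecCheck Cfsg.Lie.chevE8 vecE8 (k / 240) (k % 240)) = true := by decide +kernel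
theorem e8Cv_9_18960 : allRange 18960 19200 (fun k => commVecCheck Cfsg.Lie.chevE8 vecE8 (k / 240) (k % 240)) = true := by decide +kernel

/-- The roots of the commutator formula of type E8 are the expected combinations (roots 17280 to 19199). -/
theorem e8Cv_9 : ∀ r, 17280 ≤ r → r < 19200 → (fun k => commVecCheck Cfsg.Lie.chevE8 vecE8 (k / 240) (k % 240)) r = true := by
  intro r h1 h2
  by_cases c0 : r < 17520
  · exact allRange_spec e8Cv_9_17280 r (by omega) c0
  by_cases c1 : r < 17760
  · exact allRange_spec e8Cv_9_17520 r (by omega) c1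
  by_cases c2 : r < 18000
  · exact allRange_spec e8Cv_9_17760 r (by omega) c2
  by_cases c3 : r < 18240
  · exact allRange_spec e8Cv_9_18000 r (by omega) c3
  by_cases c4 : r < 18480
  · exact allRange_spec e8Cv_9_18240 r (by omega) c4
  by_cases c5 : r < 18720
  · exact allRange_spec e8Cv_9_18480 r (by omega) c5
  by_cases c6 : r < 18960
  · exact allRange_spec e8Cv_9_18720 r (by omega) c6
  exact allRange_spec e8Cv_9_18960 r (by omega) h2

end Cfsg.Agent.Lib.Helper3.ChevM
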