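import Cfsg.Prelude.Def_ChevE8
import Cfsg.Agent.Lib.Helper3.ChevData.E8Hd2
import Cfsg.Agent.Lib.Helper3.ChevL2
set_option autoImplicit false
set_option maxRecDepth 1000000
set_option Elab.async false

namespace Cfsg.Agent.Lib.Helper3.ChevM

theorem e8Cv_11_21120 : allRange 21120 21360 (fun k => commVecCheck Cfsg.Lie.chevE8 vecE8 (k / 240) (k % 240)) = true := by decide +kernel
theorem e8Cv_11_21360 : allRange 21360 21600 (fun k => commVecCheck Cfsg.Lie.chevE8 vecE8 (k / 240) (k % 240)) = true := by decide +kernel
theorem e8Cv_11_21600 : allRange 21600 21840 (fun k => commVecCheck Cfsg.Lie.chevE8 vecE8 (k / 240) (k % 240)) = true := by decide +kernel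
theorem e8Cv_11_21840 : allRange 21840 22080 (fun k => commVecCheck Cfsg.Lie.chevE8 vecE8 (k / 240) (k % 240)) = true := by decide +kernel
theorem e8Cv_11_22080 : allRange 22080 22320 (fun k => commVecCheck Cfsg.Lie.chevE8 vecE8 (k / 240) (k % 240)) = true := by decide +kernel
theorem e8Cv_11_22320 : allRange 22320 22560 (fun k => commVecCheck Cfsg.Lie.chevE8 vecE8 (k / 240) (k % 240)) = true := by decide +kernel
theorem e8Cv_11_22560 : allRange 22560 22800 (fun k => commVecCheck Cfsg.Lie.chevE8 vecE8 (k / 240) (k % 240)) = true := by decide +kernel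
theorem e8Cv_11_22800 : allRange 22800 23040 (fun k => commVecCheck Cfsg.Lie.chevE8 vecE8 (k / 240) (k % 240)) = true := by decide +kernel

/-- The roots of the commutator formula of type E8 are the expected combinations (roots 21120 to 23039). -/
theorem e8Cv_11 : ∀ r, 21120 ≤ r → r < 23040 → (fun k => commVecCheck Cfsg.Lie.chevE8 vecE8 (k / 240) (k % 240)) r = true := by
  intro r h1 h2
  by_cases c0 : r < 21360
  · exact allRange_spec e8Cv_11_21120 r (by omega) c0
  by_cases c1 : r < 21600
  · exact allRange_spec e8Cv_11_21360 r (by omega) c1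
  by_cases c2 : r < 21840
  · exact allRange_spec e8Cv_11_21600 r (by omega) c2
  by_cases c3 : r < 22080
  · exact allRange_spec e8Cv_11_21840 r (by omega) c3
  by_cases c4 : r < 22320
  · exact allRange_spec e8Cv_11_22080 r (by omega) c4
  by_cases c5 : r < 22560
  · exact allRange_spec e8Cv_11_22320 r (by omega) c5
  by_cases c6 : r < 22800
  · exact allRange_spec e8Cv_11_22560 r (by omega) c6
  exact allRange_spec e8Cv_11_22800 r (by omega) h2

end Cfsg.Agent.Lib.Helper3.ChevM
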