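import Cfsg.Prelude.Def_ChevE8
import Cfsg.Agent.Lib.Helper3.ChevData.E8Hd2
import Cfsg.Agent.Lib.Helper3.ChevL2
set_option autoImplicit false
set_option maxRecDepth 1000000
set_option Elab.async false

namespace Cfsg.Agent.Lib.Helper3.ChevM

theorem e8Cv_12_23040 : allRange 23040 23280 (fun k => commVecCheck Cfsg.Lie.chevE8 vecE8 (k / 240) (k % 240)) = true := by decide +kernel
theorem e8Cv_12_23280 : allRange 23280 23520 (fun k => commVecCheck Cfsg.Lie.chevE8 vecE8 (k / 240) (k % 240)) = true := by decide +kernel
theorem e8Cv_12_23520 : allRange 23520 23760 (fun k => commVecCheck Cfsg.Lie.chevE8 vecE8 (k / 240) (k % 240)) = true := by decide +kernel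
theorem e8Cv_12_23760 : allRange 23760 24000 (fun k => commVecCheck Cfsg.Lie.chevE8 vecE8 (k / 240) (k % 240)) = true := by decide +kernel
theorem e8Cv_12_24000 : allRange 24000 24240 (fun k => commVecCheck Cfsg.Lie.chevE8 vecE8 (k / 240) (k % 240)) = true := by decide +kernel
theorem e8Cv_12_24240 : allRange 24240 24480 (fun k => commVecCheck Cfsg.Lie.chevE8 vecE8 (k / 240) (k % 240)) = true := by decide +kernel
theorem e8Cv_12_24480 : allRange 24480 24720 (fun k => commVecCheck Cfsg.Lie.chevE8 vecE8 (k / 240) (k % 240)) = true := by decide +kernel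
theorem e8Cv_12_24720 : allRange 24720 24960 (fun k => commVecCheck Cfsg.Lie.chevE8 vecE8 (k / 240) (k % 240)) = true := by decide +kernel

/-- The roots of the commutator formula of type E8 are the expected combinations (roots 23040 to 24959). -/
theorem e8Cv_12 : ∀ r, 23040 ≤ r → r < 24960 → (fun k => commVecCheck Cfsg.Lie.chevE8 vecE8 (k / 240) (k % 240)) r = true := by
  intro r h1 h2
  by_cases c0 : r < 23280
  · exact allRange_spec e8Cv_12_23040 r (by omega) c0
  by_cases c1 : r < 23520
  · exact allRange_spec e8Cv_12_23280 r (by omega) c1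
  by_cases c2 : r < 23760
  · exact allRange_spec e8Cv_12_23520 r (by omega) c2
  by_cases c3 : r < 24000
  · exact allRange_spec e8Cv_12_23760 r (by omega) c3
  by_cases c4 : r < 24240
  · exact allRange_spec e8Cv_12_24000 r (by omega) c4
  by_cases c5 : r < 24480
  · exact allRange_spec e8Cv_12_24240 r (by omega) c5
  by_cases c6 : r < 24720
  · exact allRange_spec e8Cv_12_24480 r (by omega) c6
  exact allRange_spec e8Cv_12_24720 r (by omega) h2

end Cfsg.Agent.Lib.Helper3.ChevM
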