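import Cfsg.Prelude.Def_ChevE8
import Cfsg.Agent.Lib.Helper3.ChevData.E8Hd2
import Cfsg.Agent.Lib.Helper3.ChevL2
set_option autoImplicit false
set_option maxRecDepth 1000000
set_option Elab.async false

namespace Cfsg.Agent.Lib.Helper3.ChevM

theorem e8Cv_13_24960 : allRange 24960 25200 (fun k => commVecCheck Cfsg.Lie.chevE8 vecE8 (k / 240) (k % 240)) = true := by decide +kernel
theorem e8Cv_13_25200 : allRange 25200 25440 (fun k => commVecCheck Cfsg.Lie.chevE8 vecE8 (k / 240) (k % 240)) = true := by decide +kernel
theorem e8Cv_13_25440 : allRange 25440 25680 (fun k => commVecCheck Cfsg.Lie.chevE8 vecE8 (k / 240) (k % 240)) = true := by decide +kernel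
theorem e8Cv_13_25680 : allRange 25680 25920 (fun k => commVecCheck Cfsg.Lie.chevE8 vecE8 (k / 240) (k % 240)) = true := by decide +kernel
theorem e8Cv_13_25920 : allRange 25920 26160 (fun k => commVecCheck Cfsg.Lie.chevE8 vecE8 (k / 240) (k % 240)) = true := by decide +kernel
theorem e8Cv_13_26160 : allRange 26160 26400 (fun k => commVecCheck Cfsg.Lie.chevE8 vecE8 (k / 240) (k % 240)) = true := by decide +kernel
theorem e8Cv_13_26400 : allRange 26400 26640 (fun k => commVecCheck Cfsg.Lie.chevE8 vecE8 (k / 240) (k % 240)) = true := by decide +kernel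
theorem e8Cv_13_26640 : allRange 26640 26880 (fun k => commVecCheck Cfsg.Lie.chevE8 vecE8 (k / 240) (k % 240)) = true := by decide +kernel

/-- The roots of the commutator formula of type E8 are the expected combinations (roots 24960 to 26879). -/
theorem e8Cv_13 : ∀ r, 24960 ≤ r → r < 26880 → (fun k => commVecCheck Cfsg.Lie.chevE8 vecE8 (k / 240) (k % 240)) r = true := by
  intro r h1 h2
  by_cases c0 : r < 25200
  · exact allRange_spec e8Cv_13_24960 r (by omega) c0
  by_cases c1 : r < 25440
  · exact allRange_spec e8Cv_13_25200 r (by omega) c1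
  by_cases c2 : r < 25680
  · exact allRange_spec e8Cv_13_25440 r (by omega) c2
  by_cases c3 : r < 25920
  · exact allRange_spec e8Cv_13_25680 r (by omega) c3
  by_cases c4 : r < 26160
  · exact allRange_spec e8Cv_13_25920 r (by omega) c4
  by_cases c5 : r < 26400
  · exact allRange_spec e8Cv_13_26160 r (by omega) c5
  by_cases c6 : r < 26640
  · exact allRange_spec e8Cv_13_26400 r (by omega) c6
  exact allRange_spec e8Cv_13_26640 r (by omega) h2

end Cfsg.Agent.Lib.Helper3.ChevM
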