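import Cfsg.Prelude.Def_ChevE8
import Cfsg.Agent.Lib.Helper3.ChevData.E8Hd2
import Cfsg.Agent.Lib.Helper3.ChevL2
set_option autoImplicit false
set_option maxRecDepth 1000000
set_option Elab.async false

namespace Cfsg.Agent.Lib.Helper3.ChevM

theorem e8Cv_14_26880 : allRange 26880 27120 (fun k => commVecCheck Cfsg.Lie.chevE8 vecE8 (k / 240) (k % 240)) = true := by decide +kernel
theorem e8Cv_14_27120 : allRange 27120 27360 (fun k => commVecCheck Cfsg.Lie.chevE8 vecE8 (k / 240) (k % 240)) = true := by decide +kernel
theorem e8Cv_14_27360 : allRange 27360 27600 (fun k => commVecCheck Cfsg.Lie.chevE8 vecE8 (k / 240) (k % 240)) = true := by decide +kernel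
theorem e8Cv_14_27600 : allRange 27600 27840 (fun k => commVecCheck Cfsg.Lie.chevE8 vecE8 (k / 240) (k % 240)) = true := by decide +kernel
theorem e8Cv_14_27840 : allRange 27840 28080 (fun k => commVecCheck Cfsg.Lie.chevE8 vecE8 (k / 240) (k % 240)) = true := by decide +kernel
theorem e8Cv_14_28080 : allRange 28080 28320 (fun k => commVecCheck Cfsg.Lie.chevE8 vecE8 (k / 240) (k % 240)) = true := by decide +kernel
theorem e8Cv_14_28320 : allRange 28320 28560 (fun k => commVecCheck Cfsg.Lie.chevE8 vecE8 (k / 240) (k % 240)) = true := by decide +kernel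
theorem e8Cv_14_28560 : allRange 28560 28800 (fun k => commVecCheck Cfsg.Lie.chevE8 vecE8 (k / 240) (k % 240)) = true := by decide +kernel

/-- The roots of the commutator formula of type E8 are the expected combinations (roots 26880 to 28799). -/
theorem e8Cv_14 : ∀ r, 26880 ≤ r → r < 28800 → (fun k => commVecCheck Cfsg.Lie.chevE8 vecE8 (k / 240) (k % 240)) r = true := by
  intro r h1 h2
  by_cases c0 : r < 27120
  · exact allRange_spec e8Cv_14_26880 r (by omega) c0
  by_cases c1 : r < 27360
  · exact allRange_spec e8Cv_14_27120 r (by omega) c1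
  by_cases c2 : r < 27600
  · exact allRange_spec e8Cv_14_27360 r (by omega) c2
  by_cases c3 : r < 27840
  · exact allRange_spec e8Cv_14_27600 r (by omega) c3
  by_cases c4 : r < 28080
  · exact allRange_spec e8Cv_14_27840 r (by omega) c4
  by_cases c5 : r < 28320
  · exact allRange_spec e8Cv_14_28080 r (by omega) c5
  by_cases c6 : r < 28560
  · exact allRange_spec e8Cv_14_28320 r (by omega) c6
  exact allRange_spec e8Cv_14_28560 r (by omega) h2

end Cfsg.Agent.Lib.Helper3.ChevM
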