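import Cfsg.Prelude.Def_ChevE8
import Cfsg.Agent.Lib.Helper3.ChevData.E8Hd2
import Cfsg.Agent.Lib.Helper3.ChevL2
set_option autoImplicit false
set_option maxRecDepth 1000000
set_option Elab.async false

namespace Cfsg.Agent.Lib.Helper3.ChevM

theorem e8Cv_15_28800 : allRange 28800 29040 (fun k => commVecCheck Cfsg.Lie.chevE8 vecE8 (k / 240) (k % 240)) = true := by decide +kernel
theorem e8Cv_15_29040 : allRange 29040 29280 (fun k => commVecCheck Cfsg.Lie.chevE8 vecE8 (k / 240) (k % 240)) = true := by decide +kernel
theorem e8Cv_15_29280 : allRange 29280 29520 (fun k => commVecCheck Cfsg.Lie.chevE8 vecE8 (k / 240) (k % 240)) = true := by decide +kernel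
theorem e8Cv_15_29520 : allRange 29520 29760 (fun k => commVecCheck Cfsg.Lie.chevE8 vecE8 (k / 240) (k % 240)) = true := by decide +kernel
theorem e8Cv_15_29760 : allRange 29760 30000 (fun k => commVecCheck Cfsg.Lie.chevE8 vecE8 (k / 240) (k % 240)) = true := by decide +kernel
theorem e8Cv_15_30000 : allRange 30000 30240 (fun k => commVecCheck Cfsg.Lie.chevE8 vecE8 (k / 240) (k % 240)) = true := by decide +kernel
theorem e8Cv_15_30240 : allRange 30240 30480 (fun k => commVecCheck Cfsg.Lie.chevE8 vecE8 (k / 240) (k % 240)) = true := by decide +kernel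
theorem e8Cv_15_30480 : allRange 30480 30720 (fun k => commVecCheck Cfsg.Lie.chevE8 vecE8 (k / 240) (k % 240)) = true := by decide +kernel

/-- The roots of the commutator formula of type E8 are the expected combinations (roots 28800 to 30719). -/
theorem e8Cv_15 : ∀ r, 28800 ≤ r → r < 30720 → (fun k => commVecCheck Cfsg.Lie.chevE8 vecE8 (k / 240) (k % 240)) r = true := by
  intro r h1 h2
  by_cases c0 : r < 29040
  · exact allRange_spec e8Cv_15_28800 r (by omega) c0
  by_cases c1 : r < 29280
  · exact allRange_spec e8Cv_15_29040 r (by omega) c1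
  by_cases c2 : r < 29520
  · exact allRange_spec e8Cv_15_29280 r (by omega) c2
  by_cases c3 : r < 29760
  · exact allRange_spec e8Cv_15_29520 r (by omega) c3
  by_cases c4 : r < 30000
  · exact allRange_spec e8Cv_15_29760 r (by omega) c4
  by_cases c5 : r < 30240
  · exact allRange_spec e8Cv_15_30000 r (by omega) c5
  by_cases c6 : r < 30480
  · exact allRange_spec e8Cv_15_30240 r (by omega) c6
  exact allRange_spec e8Cv_15_30480 r (by omega) h2

end Cfsg.Agent.Lib.Helper3.ChevM
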