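import Cfsg.Prelude.Def_ChevE8
import Cfsg.Agent.Lib.Helper3.ChevData.E8Hd2
import Cfsg.Agent.Lib.Helper3.ChevL2
set_option autoImplicit false
set_option maxRecDepth 1000000
set_option Elab.async false

namespace Cfsg.Agent.Lib.Helper3.ChevM

theorem e8Cv_16_30720 : allRange 30720 30960 (fun k => commVecCheck Cfsg.Lie.chevE8 vecE8 (k / 240) (k % 240)) = true := by decide +kernel
theorem e8Cv_16_30960 : allRange 30960 31200 (fun k => commVecCheck Cfsg.Lie.chevE8 vecE8 (k / 240) (k % 240)) = true := by decide +kernel
theorem e8Cv_16_31200 : allRange 31200 31440 (fun k => commVecCheck Cfsg.Lie.chevE8 vecE8 (k / 240) (k % 240)) = true := by decide +kernel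
theorem e8Cv_16_31440 : allRange 31440 31680 (fun k => commVecCheck Cfsg.Lie.chevE8 vecE8 (k / 240) (k % 240)) = true := by decide +kernel
theorem e8Cv_16_31680 : allRange 31680 31920 (fun k => commVecCheck Cfsg.Lie.chevE8 vecE8 (k / 240) (k % 240)) = true := by decide +kernel
theorem e8Cv_16_31920 : allRange 31920 32160 (fun k => commVecCheck Cfsg.Lie.chevE8 vecE8 (k / 240) (k % 240)) = true := by decide +kernel
theorem e8Cv_16_32160 : allRange 32160 32400 (fun k => commVecCheck Cfsg.Lie.chevE8 vecE8 (k / 240) (k % 240)) = true := by decide +kernel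
theorem e8Cv_16_32400 : allRange 32400 32640 (fun k => commVecCheck Cfsg.Lie.chevE8 vecE8 (k / 240) (k % 240)) = true := by decide +kernel

/-- The roots of the commutator formula of type E8 are the expected combinations (roots 30720 to 32639). -/
theorem e8Cv_16 : ∀ r, 30720 ≤ r → r < 32640 → (fun k => commVecCheck Cfsg.Lie.chevE8 vecE8 (k / 240) (k % 240)) r = true := by
  intro r h1 h2
  by_cases c0 : r < 30960
  · exact allRange_spec e8Cv_16_30720 r (by omega) c0
  by_cases c1 : r < 31200
  · exact allRange_spec e8Cv_16_30960 r (by omega) c1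
  by_cases c2 : r < 31440
  · exact allRange_spec e8Cv_16_31200 r (by omega) c2
  by_cases c3 : r < 31680
  · exact allRange_spec e8Cv_16_31440 r (by omega) c3
  by_cases c4 : r < 31920
  · exact allRange_spec e8Cv_16_31680 r (by omega) c4
  by_cases c5 : r < 32160
  · exact allRange_spec e8Cv_16_31920 r (by omega) c5
  by_cases c6 : r < 32400
  · exact allRange_spec e8Cv_16_32160 r (by omega) c6
  exact allRange_spec e8Cv_16_32400 r (by omega) h2

end Cfsg.Agent.Lib.Helper3.ChevM
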