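import Cfsg.Prelude.Def_ChevE8
import Cfsg.Agent.Lib.Helper3.ChevData.E8Hd2
import Cfsg.Agent.Lib.Helper3.ChevL2
set_option autoImplicit false
set_option maxRecDepth 1000000
set_option Elab.async false

namespace Cfsg.Agent.Lib.Helper3.ChevM

theorem e8Cv_17_32640 : allRange 32640 32880 (fun k => commVecCheck Cfsg.Lie.chevE8 vecE8 (k / 240) (k % 240)) = true := by decide +kernel
theorem e8Cv_17_32880 : allRange 32880 33120 (fun k => commVecCheck Cfsg.Lie.chevE8 vecE8 (k / 240) (k % 240)) = true := by decide +kernel
theorem e8Cv_17_33120 : allRange 33120 33360 (fun k => commVecCheck Cfsg.Lie.chevE8 vecE8 (k / 240) (k % 240)) = true := by decide +kernel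
theorem e8Cv_17_33360 : allRange 33360 33600 (fun k => commVecCheck Cfsg.Lie.chevE8 vecE8 (k / 240) (k % 240)) = true := by decide +kernel
theorem e8Cv_17_33600 : allRange 33600 33840 (fun k => commVecCheck Cfsg.Lie.chevE8 vecE8 (k / 240) (k % 240)) = true := by decide +kernel
theorem e8Cv_17_33840 : allRange 33840 34080 (fun k => commVecCheck Cfsg.Lie.chevE8 vecE8 (k / 240) (k % 240)) = true := by decide +kernel
theorem e8Cv_17_34080 : allRange 34080 34320 (fun k => commVecCheck Cfsg.Lie.chevE8 vecE8 (k / 240) (k % 240)) = true := by decide +kernel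
theorem e8Cv_17_34320 : allRange 34320 34560 (fun k => commVecCheck Cfsg.Lie.chevE8 vecE8 (k / 240) (k % 240)) = true := by decide +kernel

/-- The roots of the commutator formula of type E8 are the expected combinations (roots 32640 to 34559). -/
theorem e8Cv_17 : ∀ r, 32640 ≤ r → r < 34560 → (fun k => commVecCheck Cfsg.Lie.chevE8 vecE8 (k / 240) (k % 240)) r = true := by
  intro r h1 h2
  by_cases c0 : r < 32880
  · exact allRange_spec e8Cv_17_32640 r (by omega) c0
  by_cases c1 : r < 33120
  · exact allRange_spec e8Cv_17_32880 r (by omega) c1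
  by_cases c2 : r < 33360
  · exact allRange_spec e8Cv_17_33120 r (by omega) c2
  by_cases c3 : r < 33600
  · exact allRange_spec e8Cv_17_33360 r (by omega) c3
  by_cases c4 : r < 33840
  · exact allRange_spec e8Cv_17_33600 r (by omega) c4
  by_cases c5 : r < 34080
  · exact allRange_spec e8Cv_17_33840 r (by omega) c5
  by_cases c6 : r < 34320
  · exact allRange_spec e8Cv_17_34080 r (by omega) c6
  exact allRange_spec e8Cv_17_34320 r (by omega) h2

end Cfsg.Agent.Lib.Helper3.ChevM
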