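import Cfsg.Prelude.Def_ChevE8
import Cfsg.Agent.Lib.Helper3.ChevData.E8Hd2
import Cfsg.Agent.Lib.Helper3.ChevL2
set_option autoImplicit false
set_option maxRecDepth 1000000
set_option Elab.async false

namespace Cfsg.Agent.Lib.Helper3.ChevM

theorem e8Cv_18_34560 : allRange 34560 34800 (fun k => commVecCheck Cfsg.Lie.chevE8 vecE8 (k / 240) (k % 240)) = true := by decide +kernel
theorem e8Cv_18_34800 : allRange 34800 35040 (fun k => commVecCheck Cfsg.Lie.chevE8 vecE8 (k / 240) (k % 240)) = true := by decide +kernel
theorem e8Cv_18_35040 : allRange 35040 35280 (fun k => commVecCheck Cfsg.Lie.chevE8 vecE8 (k / 240) (k % 240)) = true := by decide +kernel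
theorem e8Cv_18_35280 : allRange 35280 35520 (fun k => commVecCheck Cfsg.Lie.chevE8 vecE8 (k / 240) (k % 240)) = true := by decide +kernel
theorem e8Cv_18_35520 : allRange 35520 35760 (fun k => commVecCheck Cfsg.Lie.chevE8 vecE8 (k / 240) (k % 240)) = true := by decide +kernel
theorem e8Cv_18_35760 : allRange 35760 36000 (fun k => commVecCheck Cfsg.Lie.chevE8 vecE8 (k / 240) (k % 240)) = true := by decide +kernel
theorem e8Cv_18_36000 : allRange 36000 36240 (fun k => commVecCheck Cfsg.Lie.chevE8 vecE8 (k / 240) (k % 240)) = true := by decide +kernel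
theorem e8Cv_18_36240 : allRange 36240 36480 (fun k => commVecCheck Cfsg.Lie.chevE8 vecE8 (k / 240) (k % 240)) = true := by decide +kernel

/-- The roots of the commutator formula of type E8 are the expected combinations (roots 34560 to 36479). -/
theorem e8Cv_18 : ∀ r, 34560 ≤ r → r < 36480 → (fun k => commVecCheck Cfsg.Lie.chevE8 vecE8 (k / 240) (k % 240)) r = true := by
  intro r h1 h2
  by_cases c0 : r < 34800
  · exact allRange_spec e8Cv_18_34560 r (by omega) c0
  by_cases c1 : r < 35040
  · exact allRange_spec e8Cv_18_34800 r (by omega) c1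
  by_cases c2 : r < 35280
  · exact allRange_spec e8Cv_18_35040 r (by omega) c2
  by_cases c3 : r < 35520
  · exact allRange_spec e8Cv_18_35280 r (by omega) c3
  by_cases c4 : r < 35760
  · exact allRange_spec e8Cv_18_35520 r (by omega) c4
  by_cases c5 : r < 36000
  · exact allRange_spec e8Cv_18_35760 r (by omega) c5
  by_cases c6 : r < 36240
  · exact allRange_spec e8Cv_18_36000 r (by omega) c6
  exact allRange_spec e8Cv_18_36240 r (by omega) h2

end Cfsg.Agent.Lib.Helper3.ChevM
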