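import Cfsg.Prelude.Def_ChevE8
import Cfsg.Agent.Lib.Helper3.ChevData.E8Hd2
import Cfsg.Agent.Lib.Helper3.ChevL2
set_option autoImplicit false
set_option maxRecDepth 1000000
set_option Elab.async false

namespace Cfsg.Agent.Lib.Helper3.ChevM

theorem e8Cv_19_36480 : allRange 36480 36720 (fun k => commVecCheck Cfsg.Lie.chevE8 vecE8 (k / 240) (k % 240)) = true := by decide +kernel
theorem e8Cv_19_36720 : allRange 36720 36960 (fun k => commVecCheck Cfsg.Lie.chevE8 vecE8 (k / 240) (k % 240)) = true := by decide +kernel
theorem e8Cv_19_36960 : allRange 36960 37200 (fun k => commVecCheck Cfsg.Lie.chevE8 vecE8 (k / 240) (k % 240)) = true := by decide +kernel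
theorem e8Cv_19_37200 : allRange 37200 37440 (fun k => commVecCheck Cfsg.Lie.chevE8 vecE8 (k / 240) (k % 240)) = true := by decide +kernel
theorem e8Cv_19_37440 : allRange 37440 37680 (fun k => commVecCheck Cfsg.Lie.chevE8 vecE8 (k / 240) (k % 240)) = true := by decide +kernel
theorem e8Cv_19_37680 : allRange 37680 37920 (fun k => commVecCheck Cfsg.Lie.chevE8 vecE8 (k / 240) (k % 240)) = true := by decide +kernel
theorem e8Cv_19_37920 : allRange 37920 38160 (fun k => commVecCheck Cfsg.Lie.chevE8 vecE8 (k / 240) (k % 240)) = true := by decide +kernel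
theorem e8Cv_19_38160 : allRange 38160 38400 (fun k => commVecCheck Cfsg.Lie.chevE8 vecE8 (k / 240) (k % 240)) = true := by decide +kernel

/-- The roots of the commutator formula of type E8 are the expected combinations (roots 36480 to 38399). -/
theorem e8Cv_19 : ∀ r, 36480 ≤ r → r < 38400 → (fun k => commVecCheck Cfsg.Lie.chevE8 vecE8 (k / 240) (k % 240)) r = true := by
  intro r h1 h2
  by_cases c0 : r < 36720
  · exact allRange_spec e8Cv_19_36480 r (by omega) c0
  by_cases c1 : r < 36960
  · exact allRange_spec e8Cv_19_36720 r (by omega) c1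
  by_cases c2 : r < 37200
  · exact allRange_spec e8Cv_19_36960 r (by omega) c2
  by_cases c3 : r < 37440
  · exact allRange_spec e8Cv_19_37200 r (by omega) c3
  by_cases c4 : r < 37680
  · exact allRange_spec e8Cv_19_37440 r (by omega) c4
  by_cases c5 : r < 37920
  · exact allRange_spec e8Cv_19_37680 r (by omega) c5
  by_cases c6 : r < 38160
  · exact allRange_spec e8Cv_19_37920 r (by omega) c6
  exact allRange_spec e8Cv_19_38160 r (by omega) h2

end Cfsg.Agent.Lib.Helper3.ChevM
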