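import Cfsg.Prelude.Def_ChevE8
import Cfsg.Agent.Lib.Helper3.ChevData.E8Hd2
import Cfsg.Agent.Lib.Helper3.ChevL2
set_option autoImplicit false
set_option maxRecDepth 1000000
set_option Elab.async false

namespace Cfsg.Agent.Lib.Helper3.ChevM

theorem e8Cv_20_38400 : allRange 38400 38640 (fun k => commVecCheck Cfsg.Lie.chevE8 vecE8 (k / 240) (k % 240)) = true := by decide +kernel
theorem e8Cv_20_38640 : allRange 38640 38880 (fun k => commVecCheck Cfsg.Lie.chevE8 vecE8 (k / 240) (k % 240)) = true := by decide +kernel
theorem e8Cv_20_38880 : allRange 38880 39120 (fun k => commVecCheck Cfsg.Lie.chevE8 vecE8 (k / 240) (k % 240)) = true := by decide +kernel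
theorem e8Cv_20_39120 : allRange 39120 39360 (fun k => commVecCheck Cfsg.Lie.chevE8 vecE8 (k / 240) (k % 240)) = true := by decide +kernel
theorem e8Cv_20_39360 : allRange 39360 39600 (fun k => commVecCheck Cfsg.Lie.chevE8 vecE8 (k / 240) (k % 240)) = true := by decide +kernel
theorem e8Cv_20_39600 : allRange 39600 39840 (fun k => commVecCheck Cfsg.Lie.chevE8 vecE8 (k / 240) (k % 240)) = true := by decide +kernel
theorem e8Cv_20_39840 : allRange 39840 40080 (fun k => commVecCheck Cfsg.Lie.chevE8 vecE8 (k / 240) (k % 240)) = true := by decide +kernel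
theorem e8Cv_20_40080 : allRange 40080 40320 (fun k => commVecCheck Cfsg.Lie.chevE8 vecE8 (k / 240) (k % 240)) = true := by decide +kernel

/-- The roots of the commutator formula of type E8 are the expected combinations (roots 38400 to 40319). -/
theorem e8Cv_20 : ∀ r, 38400 ≤ r → r < 40320 → (fun k => commVecCheck Cfsg.Lie.chevE8 vecE8 (k / 240) (k % 240)) r = true := by
  intro r h1 h2
  by_cases c0 : r < 38640
  · exact allRange_spec e8Cv_20_38400 r (by omega) c0
  by_cases c1 : r < 38880
  · exact allRange_spec e8Cv_20_38640 r (by omega) c1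
  by_cases c2 : r < 39120
  · exact allRange_spec e8Cv_20_38880 r (by omega) c2
  by_cases c3 : r < 39360
  · exact allRange_spec e8Cv_20_39120 r (by omega) c3
  by_cases c4 : r < 39600
  · exact allRange_spec e8Cv_20_39360 r (by omega) c4
  by_cases c5 : r < 39840
  · exact allRange_spec e8Cv_20_39600 r (by omega) c5
  by_cases c6 : r < 40080
  · exact allRange_spec e8Cv_20_39840 r (by omega) c6
  exact allRange_spec e8Cv_20_40080 r (by omega) h2

end Cfsg.Agent.Lib.Helper3.ChevM
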