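import Cfsg.Prelude.Def_ChevE8
import Cfsg.Agent.Lib.Helper3.ChevData.E8Hd2
import Cfsg.Agent.Lib.Helper3.ChevL2
set_option autoImplicit false
set_option maxRecDepth 1000000
set_option Elab.async false

namespace Cfsg.Agent.Lib.Helper3.ChevM

theorem e8Cv_22_42240 : allRange 42240 42480 (fun k => commVecCheck Cfsg.Lie.chevE8 vecE8 (k / 240) (k % 240)) = true := by decide +kernel
theorem e8Cv_22_42480 : allRange 42480 42720 (fun k => commVecCheck Cfsg.Lie.chevE8 vecE8 (k / 240) (k % 240)) = true := by decide +kernel
theorem e8Cv_22_42720 : allRange 42720 42960 (fun k => commVecCheck Cfsg.Lie.chevE8 vecE8 (k / 240) (k % 240)) = true := by decide +kernel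
theorem e8Cv_22_42960 : allRange 42960 43200 (fun k => commVecCheck Cfsg.Lie.chevE8 vecE8 (k / 240) (k % 240)) = true := by decide +kernel
theorem e8Cv_22_43200 : allRange 43200 43440 (fun k => commVecCheck Cfsg.Lie.chevE8 vecE8 (k / 240) (k % 240)) = true := by decide +kernel
theorem e8Cv_22_43440 : allRange 43440 43680 (fun k => commVecCheck Cfsg.Lie.chevE8 vecE8 (k / 240) (k % 240)) = true := by decide +kernel
theorem e8Cv_22_43680 : allRange 43680 43920 (fun k => commVecCheck Cfsg.Lie.chevE8 vecE8 (k / 240) (k % 240)) = true := by decide +kernel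
theorem e8Cv_22_43920 : allRange 43920 44160 (fun k => commVecCheck Cfsg.Lie.chevE8 vecE8 (k / 240) (k % 240)) = true := by decide +kernel

/-- The roots of the commutator formula of type E8 are the expected combinations (roots 42240 to 44159). -/
theorem e8Cv_22 : ∀ r, 42240 ≤ r → r < 44160 → (fun k => commVecCheck Cfsg.Lie.chevE8 vecE8 (k / 240) (k % 240)) r = true := by
  intro r h1 h2
  by_cases c0 : r < 42480
  · exact allRange_spec e8Cv_22_42240 r (by omega) c0
  by_cases c1 : r < 42720
  · exact allRange_spec e8Cv_22_42480 r (by omega) c1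
  by_cases c2 : r < 42960
  · exact allRange_spec e8Cv_22_42720 r (by omega) c2
  by_cases c3 : r < 43200
  · exact allRange_spec e8Cv_22_42960 r (by omega) c3
  by_cases c4 : r < 43440
  · exact allRange_spec e8Cv_22_43200 r (by omega) c4
  by_cases c5 : r < 43680
  · exact allRange_spec e8Cv_22_43440 r (by omega) c5
  by_cases c6 : r < 43920
  · exact allRange_spec e8Cv_22_43680 r (by omega) c6
  exact allRange_spec e8Cv_22_43920 r (by omega) h2

end Cfsg.Agent.Lib.Helper3.ChevM
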