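import Cfsg.Prelude.Def_ChevE8
import Cfsg.Agent.Lib.Helper3.ChevData.E8Hd2
import Cfsg.Agent.Lib.Helper3.ChevL2
set_option autoImplicit false
set_option maxRecDepth 1000000
set_option Elab.async false

namespace Cfsg.Agent.Lib.Helper3.ChevM

theorem e8Cv_23_44160 : allRange 44160 44400 (fun k => commVecCheck Cfsg.Lie.chevE8 vecE8 (k / 240) (k % 240)) = true := by decide +kernel
theorem e8Cv_23_44400 : allRange 44400 44640 (fun k => commVecCheck Cfsg.Lie.chevE8 vecE8 (k / 240) (k % 240)) = true := by decide +kernel
theorem e8Cv_23_44640 : allRange 44640 44880 (fun k => commVecCheck Cfsg.Lie.chevE8 vecE8 (k / 240) (k % 240)) = true := by decide +kernel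
theorem e8Cv_23_44880 : allRange 44880 45120 (fun k => commVecCheck Cfsg.Lie.chevE8 vecE8 (k / 240) (k % 240)) = true := by decide +kernel
theorem e8Cv_23_45120 : allRange 45120 45360 (fun k => commVecCheck Cfsg.Lie.chevE8 vecE8 (k / 240) (k % 240)) = true := by decide +kernel
theorem e8Cv_23_45360 : allRange 45360 45600 (fun k => commVecCheck Cfsg.Lie.chevE8 vecE8 (k / 240) (k % 240)) = true := by decide +kernel
theorem e8Cv_23_45600 : allRange 45600 45840 (fun k => commVecCheck Cfsg.Lie.chevE8 vecE8 (k / 240) (k % 240)) = true := by decide +kernel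
theorem e8Cv_23_45840 : allRange 45840 46080 (fun k => commVecCheck Cfsg.Lie.chevE8 vecE8 (k / 240) (k % 240)) = true := by decide +kernel

/-- The roots of the commutator formula of type E8 are the expected combinations (roots 44160 to 46079). -/
theorem e8Cv_23 : ∀ r, 44160 ≤ r → r < 46080 → (fun k => commVecCheck Cfsg.Lie.chevE8 vecE8 (k / 240) (k % 240)) r = true := by
  intro r h1 h2
  by_cases c0 : r < 44400
  · exact allRange_spec e8Cv_23_44160 r (by omega) c0
  by_cases c1 : r < 44640
  · exact allRange_spec e8Cv_23_44400 r (by omega) c1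
  by_cases c2 : r < 44880
  · exact allRange_spec e8Cv_23_44640 r (by omega) c2
  by_cases c3 : r < 45120
  · exact allRange_spec e8Cv_23_44880 r (by omega) c3
  by_cases c4 : r < 45360
  · exact allRange_spec e8Cv_23_45120 r (by omega) c4
  by_cases c5 : r < 45600
  · exact allRange_spec e8Cv_23_45360 r (by omega) c5
  by_cases c6 : r < 45840
  · exact allRange_spec e8Cv_23_45600 r (by omega) c6
  exact allRange_spec e8Cv_23_45840 r (by omega) h2

end Cfsg.Agent.Lib.Helper3.ChevM
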