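import Cfsg.Prelude.Def_ChevE8
import Cfsg.Agent.Lib.Helper3.ChevData.E8Hd2
import Cfsg.Agent.Lib.Helper3.ChevL2
set_option autoImplicit false
set_option maxRecDepth 1000000
set_option Elab.async false

namespace Cfsg.Agent.Lib.Helper3.ChevM

theorem e8Cv_24_46080 : allRange 46080 46320 (fun k => commVecCheck Cfsg.Lie.chevE8 vecE8 (k / 240) (k % 240)) = true := by decide +kernel
theorem e8Cv_24_46320 : allRange 46320 46560 (fun k => commVecCheck Cfsg.Lie.chevE8 vecE8 (k / 240) (k % 240)) = true := by decide +kernel
theorem e8Cv_24_46560 : allRange 46560 46800 (fun k => commVecCheck Cfsg.Lie.chevE8 vecE8 (k / 240) (k % 240)) = true := by decide +kernel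
theorem e8Cv_24_46800 : allRange 46800 47040 (fun k => commVecCheck Cfsg.Lie.chevE8 vecE8 (k / 240) (k % 240)) = true := by decide +kernel
theorem e8Cv_24_47040 : allRange 47040 47280 (fun k => commVecCheck Cfsg.Lie.chevE8 vecE8 (k / 240) (k % 240)) = true := by decide +kernel
theorem e8Cv_24_47280 : allRange 47280 47520 (fun k => commVecCheck Cfsg.Lie.chevE8 vecE8 (k / 240) (k % 240)) = true := by decide +kernel
theorem e8Cv_24_47520 : allRange 47520 47760 (fun k => commVecCheck Cfsg.Lie.chevE8 vecE8 (k / 240) (k % 240)) = true := by decide +kernel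
theorem e8Cv_24_47760 : allRange 47760 48000 (fun k => commVecCheck Cfsg.Lie.chevE8 vecE8 (k / 240) (k % 240)) = true := by decide +kernel

/-- The roots of the commutator formula of type E8 are the expected combinations (roots 46080 to 47999). -/
theorem e8Cv_24 : ∀ r, 46080 ≤ r → r < 48000 → (fun k => commVecCheck Cfsg.Lie.chevE8 vecE8 (k / 240) (k % 240)) r = true := by
  intro r h1 h2
  by_cases c0 : r < 46320
  · exact allRange_spec e8Cv_24_46080 r (by omega) c0
  by_cases c1 : r < 46560
  · exact allRange_spec e8Cv_24_46320 r (by omega) c1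
  by_cases c2 : r < 46800
  · exact allRange_spec e8Cv_24_46560 r (by omega) c2
  by_cases c3 : r < 47040
  · exact allRange_spec e8Cv_24_46800 r (by omega) c3
  by_cases c4 : r < 47280
  · exact allRange_spec e8Cv_24_47040 r (by omega) c4
  by_cases c5 : r < 47520
  · exact allRange_spec e8Cv_24_47280 r (by omega) c5
  by_cases c6 : r < 47760
  · exact allRange_spec e8Cv_24_47520 r (by omega) c6
  exact allRange_spec e8Cv_24_47760 r (by omega) h2

end Cfsg.Agent.Lib.Helper3.ChevM
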