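import Cfsg.Prelude.Def_ChevE8
import Cfsg.Agent.Lib.Helper3.ChevData.E8Hd2
import Cfsg.Agent.Lib.Helper3.ChevL2
set_option autoImplicit false
set_option maxRecDepth 1000000
set_option Elab.async false

namespace Cfsg.Agent.Lib.Helper3.ChevM

theorem e8Cv_25_48000 : allRange 48000 48240 (fun k => commVecCheck Cfsg.Lie.chevE8 vecE8 (k / 240) (k % 240)) = true := by decide +kernel
theorem e8Cv_25_48240 : allRange 48240 48480 (fun k => commVecCheck Cfsg.Lie.chevE8 vecE8 (k / 240) (k % 240)) = true := by decide +kernel
theorem e8Cv_25_48480 : allRange 48480 48720 (fun k => commVecCheck Cfsg.Lie.chevE8 vecE8 (k / 240) (k % 240)) = true := by decide +kernel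
theorem e8Cv_25_48720 : allRange 48720 48960 (fun k => commVecCheck Cfsg.Lie.chevE8 vecE8 (k / 240) (k % 240)) = true := by decide +kernel
theorem e8Cv_25_48960 : allRange 48960 49200 (fun k => commVecCheck Cfsg.Lie.chevE8 vecE8 (k / 240) (k % 240)) = true := by decide +kernel
theorem e8Cv_25_49200 : allRange 49200 49440 (fun k => commVecCheck Cfsg.Lie.chevE8 vecE8 (k / 240) (k % 240)) = true := by decide +kernel
theorem e8Cv_25_49440 : allRange 49440 49680 (fun k => commVecCheck Cfsg.Lie.chevE8 vecE8 (k / 240) (k % 240)) = true := by decide +kernel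
theorem e8Cv_25_49680 : allRange 49680 49920 (fun k => commVecCheck Cfsg.Lie.chevE8 vecE8 (k / 240) (k % 240)) = true := by decide +kernel

/-- The roots of the commutator formula of type E8 are the expected combinations (roots 48000 to 49919). -/
theorem e8Cv_25 : ∀ r, 48000 ≤ r → r < 49920 → (fun k => commVecCheck Cfsg.Lie.chevE8 vecE8 (k / 240) (k % 240)) r = true := by
  intro r h1 h2
  by_cases c0 : r < 48240
  · exact allRange_spec e8Cv_25_48000 r (by omega) c0
  by_cases c1 : r < 48480
  · exact allRange_spec e8Cv_25_48240 r (by omega) c1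
  by_cases c2 : r < 48720
  · exact allRange_spec e8Cv_25_48480 r (by omega) c2
  by_cases c3 : r < 48960
  · exact allRange_spec e8Cv_25_48720 r (by omega) c3
  by_cases c4 : r < 49200
  · exact allRange_spec e8Cv_25_48960 r (by omega) c4
  by_cases c5 : r < 49440
  · exact allRange_spec e8Cv_25_49200 r (by omega) c5
  by_cases c6 : r < 49680
  · exact allRange_spec e8Cv_25_49440 r (by omega) c6
  exact allRange_spec e8Cv_25_49680 r (by omega) h2

end Cfsg.Agent.Lib.Helper3.ChevM
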