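import Cfsg.Agent.Lib.Helper3.ChevData.E8CvA
import Cfsg.Agent.Lib.Helper3.ChevData.E8CvB
import Cfsg.Agent.Lib.Helper3.ChevData.E8CvC
import Cfsg.Agent.Lib.Helper3.ChevData.E8CvD
import Cfsg.Agent.Lib.Helper3.ChevData.E8CvE
import Cfsg.Agent.Lib.Helper3.ChevData.E8CvF
import Cfsg.Agent.Lib.Helper3.ChevData.E8CvG
import Cfsg.Agent.Lib.Helper3.ChevData.E8CvH
import Cfsg.Agent.Lib.Helper3.ChevData.E8CvI
import Cfsg.Agent.Lib.Helper3.ChevData.E8CvJ
import Cfsg.Agent.Lib.Helper3.ChevData.E8CvK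
import Cfsg.Agent.Lib.Helper3.ChevData.E8CvL
import Cfsg.Agent.Lib.Helper3.ChevData.E8CvM
import Cfsg.Agent.Lib.Helper3.ChevData.E8CvN
import Cfsg.Agent.Lib.Helper3.ChevData.E8CvO
import Cfsg.Agent.Lib.Helper3.ChevData.E8CvP
import Cfsg.Agent.Lib.Helper3.ChevData.E8CvQ
import Cfsg.Agent.Lib.Helper3.ChevData.E8CvR
import Cfsg.Agent.Lib.Helper3.ChevData.E8CvS
import Cfsg.Agent.Lib.Helper3.ChevData.E8CvT
import Cfsg.Agent.Lib.Helper3.ChevData.E8CvU
import Cfsg.Agent.Lib.Helper3.ChevData.E8CvV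
import Cfsg.Agent.Lib.Helper3.ChevData.E8CvW
import Cfsg.Agent.Lib.Helper3.ChevData.E8CvX
import Cfsg.Agent.Lib.Helper3.ChevData.E8CvY
import Cfsg.Agent.Lib.Helper3.ChevData.E8CvZ
import Cfsg.Agent.Lib.Helper3.ChevData.E8CvAA
import Cfsg.Agent.Lib.Helper3.ChevData.E8CvAB
import Cfsg.Agent.Lib.Helper3.ChevData.E8CvAC
import Cfsg.Agent.Lib.Helper3.ChevData.E8CvAD
set_option autoImplicit false

namespace Cfsg.Agent.Lib.Helper3.ChevM

/-- The roots of the commutator formula of type E8 are the expected combinations. -/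
theorem e8Cv : ∀ r < 57600, (fun k => commVecCheck Cfsg.Lie.chevE8 vecE8 (k / 240) (k % 240)) r = true := by
  intro r hr
  by_cases h0 : r < 1920
  · exact e8Cv_0 r (by omega) h0
  by_cases h1 : r < 3840
  · exact e8Cv_1 r (by omega) h1
  by_cases h2 : r < 5760
  · exact e8Cv_2 r (by omega) h2
  by_cases h3 : r < 7680
  · exact e8Cv_3 r (by omega) h3
  by_cases h4 : r < 9600
  · exact e8Cv_4 r (by omega) h4
  by_cases h5 : r < 11520
  · exact e8Cv_5 r (by omega) h5
  by_cases h6 : r < 13440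
  · exact e8Cv_6 r (by omega) h6
  by_cases h7 : r < 15360
  · exact e8Cv_7 r (by omega) h7
  by_cases h8 : r < 17280
  · exact e8Cv_8 r (by omega) h8
  by_cases h9 : r < 19200
  · exact e8Cv_9 r (by omega) h9
  by_cases h10 : r < 21120
  · exact e8Cv_10 r (by omega) h10
  by_cases h11 : r < 23040
  · exact e8Cv_11 r (by omega) h11
  by_cases h12 : r < 24960
  · exact e8Cv_12 r (by omega) h12
  by_cases h13 : r < 26880
  · exact e8Cv_13 r (by omega) h13
  by_cases h14 : r < 28800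
  · exact e8Cv_14 r (by omega) h14
  by_cases h15 : r < 30720
  · exact e8Cv_15 r (by omega) h15
  by_cases h16 : r < 32640
  · exact e8Cv_16 r (by omega) h16
  by_cases h17 : r < 34560
  · exact e8Cv_17 r (by omega) h17
  by_cases h18 : r < 36480
  · exact e8Cv_18 r (by omega) h18
  by_cases h19 : r < 38400
  · exact e8Cv_19 r (by omega) h19
  by_cases h20 : r < 40320
  · exact e8Cv_20 r (by omega) h20
  by_cases h21 : r < 42240
  · exact e8Cv_21 r (by omega) h21
  by_cases h22 : r < 44160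
  · exact e8Cv_22 r (by omega) h22
  by_cases h23 : r < 46080
  · exact e8Cv_23 r (by omega) h23
  by_cases h24 : r < 48000
  · exact e8Cv_24 r (by omega) h24
  by_cases h25 : r < 49920
  · exact e8Cv_25 r (by omega) h25
  by_cases h26 : r < 51840
  · exact e8Cv_26 r (by omega) h26
  by_cases h27 : r < 53760
  · exact e8Cv_27 r (by omega) h27
  by_cases h28 : r < 55680
  · exact e8Cv_28 r (by omega) h28
  exact e8Cv_29 r (by omega) hr

end Cfsg.Agent.Lib.Helper3.ChevM
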