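import Cfsg.Agent.Lib.Helper3.ChevData.E8Datum
import Cfsg.Agent.Lib.Helper3.ChevData.E8Tabs
import Cfsg.Agent.Lib.Helper3.ChevM7
set_option autoImplicit false
set_option maxRecDepth 1000000
set_option Elab.async false

namespace Cfsg.Agent.Lib.Helper3.ChevM

theorem e8Conj_1_120 : allRange 120 123 ((fun k => cdE8.checkConj (k / 240) (cdE8.cartI pairE8 (k / 240)) (reflE8 (k / 240)) (etaE8 (k / 240)) (k % 240))) = true := by decide +kernel
theorem e8Conj_1_123 : allRange 123 126 ((fun k => cdE8.checkConj (k / 240) (cdE8.cartI pairE8 (k / 240)) (reflE8 (k / 240)) (etaE8 (k / 240)) (k % 240))) = true := by decide +kernel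
theorem e8Conj_1_126 : allRange 126 129 ((fun k => cdE8.checkConj (k / 240) (cdE8.cartI pairE8 (k / 240)) (reflE8 (k / 240)) (etaE8 (k / 240)) (k % 240))) = true := by decide +kernel
theorem e8Conj_1_129 : allRange 129 132 ((fun k => cdE8.checkConj (k / 240) (cdE8.cartI pairE8 (k / 240)) (reflE8 (k / 240)) (etaE8 (k / 240)) (k % 240))) = true := by decide +kernel
theorem e8Conj_1_132 : allRange 132 135 ((fun k => cdE8.checkConj (k / 240) (cdE8.cartI pairE8 (k / 240)) (reflE8 (k / 240)) (etaE8 (k / 240)) (k % 240))) = true := by decide +kernel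
theorem e8Conj_1_135 : allRange 135 138 ((fun k => cdE8.checkConj (k / 240) (cdE8.cartI pairE8 (k / 240)) (reflE8 (k / 240)) (etaE8 (k / 240)) (k % 240))) = true := by decide +kernel
theorem e8Conj_1_138 : allRange 138 141 ((fun k => cdE8.checkConj (k / 240) (cdE8.cartI pairE8 (k / 240)) (reflE8 (k / 240)) (etaE8 (k / 240)) (k % 240))) = true := by decide +kernel
theorem e8Conj_1_141 : allRange 141 144 ((fun k => cdE8.checkConj (k / 240) (cdE8.cartI pairE8 (k / 240)) (reflE8 (k / 240)) (etaE8 (k / 240)) (k % 240))) = true := by decide +kernel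
theorem e8Conj_1_144 : allRange 144 147 ((fun k => cdE8.checkConj (k / 240) (cdE8.cartI pairE8 (k / 240)) (reflE8 (k / 240)) (etaE8 (k / 240)) (k % 240))) = true := by decide +kernel
theorem e8Conj_1_147 : allRange 147 150 ((fun k => cdE8.checkConj (k / 240) (cdE8.cartI pairE8 (k / 240)) (reflE8 (k / 240)) (etaE8 (k / 240)) (k % 240))) = true := by decide +kernel
theorem e8Conj_1_150 : allRange 150 153 ((fun k => cdE8.checkConj (k / 240) (cdE8.cartI pairE8 (k / 240)) (reflE8 (k / 240)) (etaE8 (k / 240)) (k % 240))) = true := by decide +kernel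
theorem e8Conj_1_153 : allRange 153 156 ((fun k => cdE8.checkConj (k / 240) (cdE8.cartI pairE8 (k / 240)) (reflE8 (k / 240)) (etaE8 (k / 240)) (k % 240))) = true := by decide +kernel
theorem e8Conj_1_156 : allRange 156 159 ((fun k => cdE8.checkConj (k / 240) (cdE8.cartI pairE8 (k / 240)) (reflE8 (k / 240)) (etaE8 (k / 240)) (k % 240))) = true := by decide +kernel
theorem e8Conj_1_159 : allRange 159 162 ((fun k => cdE8.checkConj (k / 240) (cdE8.cartI pairE8 (k / 240)) (reflE8 (k / 240)) (etaE8 (k / 240)) (k % 240))) = true := by decide +kernel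
theorem e8Conj_1_162 : allRange 162 165 ((fun k => cdE8.checkConj (k / 240) (cdE8.cartI pairE8 (k / 240)) (reflE8 (k / 240)) (etaE8 (k / 240)) (k % 240))) = true := by decide +kernel
theorem e8Conj_1_165 : allRange 165 168 ((fun k => cdE8.checkConj (k / 240) (cdE8.cartI pairE8 (k / 240)) (reflE8 (k / 240)) (etaE8 (k / 240)) (k % 240))) = true := by decide +kernel
theorem e8Conj_1_168 : allRange 168 171 ((fun k => cdE8.checkConj (k / 240) (cdE8.cartI pairE8 (k / 240)) (reflE8 (k / 240)) (etaE8 (k / 240)) (k % 240))) = true := by decide +kernel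
theorem e8Conj_1_171 : allRange 171 174 ((fun k => cdE8.checkConj (k / 240) (cdE8.cartI pairE8 (k / 240)) (reflE8 (k / 240)) (etaE8 (k / 240)) (k % 240))) = true := by decide +kernel
theorem e8Conj_1_174 : allRange 174 177 ((fun k => cdE8.checkConj (k / 240) (cdE8.cartI pairE8 (k / 240)) (reflE8 (k / 240)) (etaE8 (k / 240)) (k % 240))) = true := by decide +kernel
theorem e8Conj_1_177 : allRange 177 180 ((fun k => cdE8.checkConj (k / 240) (cdE8.cartI pairE8 (k / 240)) (reflE8 (k / 240)) (etaE8 (k / 240)) (k % 240))) = true := by decide +kernel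
theorem e8Conj_1_180 : allRange 180 183 ((fun k => cdE8.checkConj (k / 240) (cdE8.cartI pairE8 (k / 240)) (reflE8 (k / 240)) (etaE8 (k / 240)) (k % 240))) = true := by decide +kernel
theorem e8Conj_1_183 : allRange 183 186 ((fun k => cdE8.checkConj (k / 240) (cdE8.cartI pairE8 (k / 240)) (reflE8 (k / 240)) (etaE8 (k / 240)) (k % 240))) = true := by decide +kernel
theorem e8Conj_1_186 : allRange 186 189 ((fun k => cdE8.checkConj (k / 240) (cdE8.cartI pairE8 (k / 240)) (reflE8 (k / 240)) (etaE8 (k / 240)) (k % 240))) = true := by decide +kernel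
theorem e8Conj_1_189 : allRange 189 192 ((fun k => cdE8.checkConj (k / 240) (cdE8.cartI pairE8 (k / 240)) (reflE8 (k / 240)) (etaE8 (k / 240)) (k % 240))) = true := by decide +kernel
theorem e8Conj_1_192 : allRange 192 195 ((fun k => cdE8.checkConj (k / 240) (cdE8.cartI pairE8 (k / 240)) (reflE8 (k / 240)) (etaE8 (k / 240)) (k % 240))) = true := by decide +kernel
theorem e8Conj_1_195 : allRange 195 198 ((fun k => cdE8.checkConj (k / 240) (cdE8.cartI pairE8 (k / 240)) (reflE8 (k / 240)) (etaE8 (k / 240)) (k % 240))) = true := by decide +kernel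
theorem e8Conj_1_198 : allRange 198 201 ((fun k => cdE8.checkConj (k / 240) (cdE8.cartI pairE8 (k / 240)) (reflE8 (k / 240)) (etaE8 (k / 240)) (k % 240))) = true := by decide +kernel
theorem e8Conj_1_201 : allRange 201 204 ((fun k => cdE8.checkConj (k / 240) (cdE8.cartI pairE8 (k / 240)) (reflE8 (k / 240)) (etaE8 (k / 240)) (k % 240))) = true := by decide +kernel
theorem e8Conj_1_204 : allRange 204 207 ((fun k => cdE8.checkConj (k / 240) (cdE8.cartI pairE8 (k / 240)) (reflE8 (k / 240)) (etaE8 (k / 240)) (k % 240))) = true := by decide +kernel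
theorem e8Conj_1_207 : allRange 207 210 ((fun k => cdE8.checkConj (k / 240) (cdE8.cartI pairE8 (k / 240)) (reflE8 (k / 240)) (etaE8 (k / 240)) (k % 240))) = true := by decide +kernel
theorem e8Conj_1_210 : allRange 210 213 ((fun k => cdE8.checkConj (k / 240) (cdE8.cartI pairE8 (k / 240)) (reflE8 (k / 240)) (etaE8 (k / 240)) (k % 240))) = true := by decide +kernel
theorem e8Conj_1_213 : allRange 213 216 ((fun k => cdE8.checkConj (k / 240) (cdE8.cartI pairE8 (k / 240)) (reflE8 (k / 240)) (etaE8 (k / 240)) (k % 240))) = true := by decide +kernel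
theorem e8Conj_1_216 : allRange 216 219 ((fun k => cdE8.checkConj (k / 240) (cdE8.cartI pairE8 (k / 240)) (reflE8 (k / 240)) (etaE8 (k / 240)) (k % 240))) = true := by decide +kernel
theorem e8Conj_1_219 : allRange 219 222 ((fun k => cdE8.checkConj (k / 240) (cdE8.cartI pairE8 (k / 240)) (reflE8 (k / 240)) (etaE8 (k / 240)) (k % 240))) = true := by decide +kernel
theorem e8Conj_1_222 : allRange 222 225 ((fun k => cdE8.checkConj (k / 240) (cdE8.cartI pairE8 (k / 240)) (reflE8 (k / 240)) (etaE8 (k / 240)) (k % 240))) = true := by decide +kernel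
theorem e8Conj_1_225 : allRange 225 228 ((fun k => cdE8.checkConj (k / 240) (cdE8.cartI pairE8 (k / 240)) (reflE8 (k / 240)) (etaE8 (k / 240)) (k % 240))) = true := by decide +kernel
theorem e8Conj_1_228 : allRange 228 231 ((fun k => cdE8.checkConj (k / 240) (cdE8.cartI pairE8 (k / 240)) (reflE8 (k / 240)) (etaE8 (k / 240)) (k % 240))) = true := by decide +kernel
theorem e8Conj_1_231 : allRange 231 234 ((fun k => cdE8.checkConj (k / 240) (cdE8.cartI pairE8 (k / 240)) (reflE8 (k / 240)) (etaE8 (k / 240)) (k % 240))) = true := by decide +kernel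
theorem e8Conj_1_234 : allRange 234 237 ((fun k => cdE8.checkConj (k / 240) (cdE8.cartI pairE8 (k / 240)) (reflE8 (k / 240)) (etaE8 (k / 240)) (k % 240))) = true := by decide +kernel
theorem e8Conj_1_237 : allRange 237 240 ((fun k => cdE8.checkConj (k / 240) (cdE8.cartI pairE8 (k / 240)) (reflE8 (k / 240)) (etaE8 (k / 240)) (k % 240))) = true := by decide +kernel

/-- Conjugation of root elements by the `n_p` of type E8 (roots 120 to 239). -/
theorem e8Conj_1 : ∀ r, 120 ≤ r → r < 240 → ((fun k => cdE8.checkConj (k / 240) (cdE8.cartI pairE8 (k / 240)) (reflE8 (k / 240)) (etaE8 (k / 240)) (k % 240))) r = true := by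
  intro r h1 h2
  by_cases c0 : r < 123
  · exact allRange_spec e8Conj_1_120 r (by omega) c0
  by_cases c1 : r < 126
  · exact allRange_spec e8Conj_1_123 r (by omega) c1
  by_cases c2 : r < 129
  · exact allRange_spec e8Conj_1_126 r (by omega) c2
  by_cases c3 : r < 132
  · exact allRange_spec e8Conj_1_129 r (by omega) c3
  by_cases c4 : r < 135
  · exact allRange_spec e8Conj_1_132 r (by omega) c4
  by_cases c5 : r < 138
  · exact allRange_spec e8Conj_1_135 r (by omega) c5
  by_cases c6 : r < 141
  · exact allRange_spec e8Conj_1_138 r (by omega) c6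
  by_cases c7 : r < 144
  · exact allRange_spec e8Conj_1_141 r (by omega) c7
  by_cases c8 : r < 147
  · exact allRange_spec e8Conj_1_144 r (by omega) c8
  by_cases c9 : r < 150
  · exact allRange_spec e8Conj_1_147 r (by omega) c9
  by_cases c10 : r < 153
  · exact allRange_spec e8Conj_1_150 r (by omega) c10
  by_cases c11 : r < 156
  · exact allRange_spec e8Conj_1_153 r (by omega) c11
  by_cases c12 : r < 159
  · exact allRange_spec e8Conj_1_156 r (by omega) c12
  by_cases c13 : r < 162
  · exact allRange_spec e8Conj_1_159 r (by omega) c13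
  by_cases c14 : r < 165
  · exact allRange_spec e8Conj_1_162 r (by omega) c14
  by_cases c15 : r < 168
  · exact allRange_spec e8Conj_1_165 r (by omega) c15
  by_cases c16 : r < 171
  · exact allRange_spec e8Conj_1_168 r (by omega) c16
  by_cases c17 : r < 174
  · exact allRange_spec e8Conj_1_171 r (by omega) c17
  by_cases c18 : r < 177
  · exact allRange_spec e8Conj_1_174 r (by omega) c18
  by_cases c19 : r < 180
  · exact allRange_spec e8Conj_1_177 r (by omega) c19
  by_cases c20 : r < 183
  · exact allRange_spec e8Conj_1_180 r (by omega) c20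
  by_cases c21 : r < 186
  · exact allRange_spec e8Conj_1_183 r (by omega) c21
  by_cases c22 : r < 189
  · exact allRange_spec e8Conj_1_186 r (by omega) c22
  by_cases c23 : r < 192
  · exact allRange_spec e8Conj_1_189 r (by omega) c23
  by_cases c24 : r < 195
  · exact allRange_spec e8Conj_1_192 r (by omega) c24
  by_cases c25 : r < 198
  · exact allRange_spec e8Conj_1_195 r (by omega) c25
  by_cases c26 : r < 201
  · exact allRange_spec e8Conj_1_198 r (by omega) c26
  by_cases c27 : r < 204
  · exact allRange_spec e8Conj_1_201 r (by omega) c27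
  by_cases c28 : r < 207
  · exact allRange_spec e8Conj_1_204 r (by omega) c28
  by_cases c29 : r < 210
  · exact allRange_spec e8Conj_1_207 r (by omega) c29
  by_cases c30 : r < 213
  · exact allRange_spec e8Conj_1_210 r (by omega) c30
  by_cases c31 : r < 216
  · exact allRange_spec e8Conj_1_213 r (by omega) c31
  by_cases c32 : r < 219
  · exact allRange_spec e8Conj_1_216 r (by omega) c32
  by_cases c33 : r < 222
  · exact allRange_spec e8Conj_1_219 r (by omega) c33
  by_cases c34 : r < 225
  · exact allRange_spec e8Conj_1_222 r (by omega) c34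
  by_cases c35 : r < 228
  · exact allRange_spec e8Conj_1_225 r (by omega) c35
  by_cases c36 : r < 231
  · exact allRange_spec e8Conj_1_228 r (by omega) c36
  by_cases c37 : r < 234
  · exact allRange_spec e8Conj_1_231 r (by omega) c37
  by_cases c38 : r < 237
  · exact allRange_spec e8Conj_1_234 r (by omega) c38
  exact allRange_spec e8Conj_1_237 r (by omega) h2

end Cfsg.Agent.Lib.Helper3.ChevM
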