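import Cfsg.Agent.Lib.Helper3.ChevData.E8Datum
import Cfsg.Agent.Lib.Helper3.ChevData.E8Tabs
import Cfsg.Agent.Lib.Helper3.ChevM7
set_option autoImplicit false
set_option maxRecDepth 1000000
set_option Elab.async false

namespace Cfsg.Agent.Lib.Helper3.ChevM

theorem e8Conj_2_240 : allRange 240 243 ((fun k => cdE8.checkConj (k / 240) (cdE8.cartI pairE8 (k / 240)) (reflE8 (k / 240)) (etaE8 (k / 240)) (k % 240))) = true := by decide +kernel
theorem e8Conj_2_243 : allRange 243 246 ((fun k => cdE8.checkConj (k / 240) (cdE8.cartI pairE8 (k / 240)) (reflE8 (k / 240)) (etaE8 (k / 240)) (k % 240))) = true := by decide +kernel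
theorem e8Conj_2_246 : allRange 246 249 ((fun k => cdE8.checkConj (k / 240) (cdE8.cartI pairE8 (k / 240)) (reflE8 (k / 240)) (etaE8 (k / 240)) (k % 240))) = true := by decide +kernel
theorem e8Conj_2_249 : allRange 249 252 ((fun k => cdE8.checkConj (k / 240) (cdE8.cartI pairE8 (k / 240)) (reflE8 (k / 240)) (etaE8 (k / 240)) (k % 240))) = true := by decide +kernel
theorem e8Conj_2_252 : allRange 252 255 ((fun k => cdE8.checkConj (k / 240) (cdE8.cartI pairE8 (k / 240)) (reflE8 (k / 240)) (etaE8 (k / 240)) (k % 240))) = true := by decide +kernel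
theorem e8Conj_2_255 : allRange 255 258 ((fun k => cdE8.checkConj (k / 240) (cdE8.cartI pairE8 (k / 240)) (reflE8 (k / 240)) (etaE8 (k / 240)) (k % 240))) = true := by decide +kernel
theorem e8Conj_2_258 : allRange 258 261 ((fun k => cdE8.checkConj (k / 240) (cdE8.cartI pairE8 (k / 240)) (reflE8 (k / 240)) (etaE8 (k / 240)) (k % 240))) = true := by decide +kernel
theorem e8Conj_2_261 : allRange 261 264 ((fun k => cdE8.checkConj (k / 240) (cdE8.cartI pairE8 (k / 240)) (reflE8 (k / 240)) (etaE8 (k / 240)) (k % 240))) = true := by decide +kernel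
theorem e8Conj_2_264 : allRange 264 267 ((fun k => cdE8.checkConj (k / 240) (cdE8.cartI pairE8 (k / 240)) (reflE8 (k / 240)) (etaE8 (k / 240)) (k % 240))) = true := by decide +kernel
theorem e8Conj_2_267 : allRange 267 270 ((fun k => cdE8.checkConj (k / 240) (cdE8.cartI pairE8 (k / 240)) (reflE8 (k / 240)) (etaE8 (k / 240)) (k % 240))) = true := by decide +kernel
theorem e8Conj_2_270 : allRange 270 273 ((fun k => cdE8.checkConj (k / 240) (cdE8.cartI pairE8 (k / 240)) (reflE8 (k / 240)) (etaE8 (k / 240)) (k % 240))) = true := by decide +kernel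
theorem e8Conj_2_273 : allRange 273 276 ((fun k => cdE8.checkConj (k / 240) (cdE8.cartI pairE8 (k / 240)) (reflE8 (k / 240)) (etaE8 (k / 240)) (k % 240))) = true := by decide +kernel
theorem e8Conj_2_276 : allRange 276 279 ((fun k => cdE8.checkConj (k / 240) (cdE8.cartI pairE8 (k / 240)) (reflE8 (k / 240)) (etaE8 (k / 240)) (k % 240))) = true := by decide +kernel
theorem e8Conj_2_279 : allRange 279 282 ((fun k => cdE8.checkConj (k / 240) (cdE8.cartI pairE8 (k / 240)) (reflE8 (k / 240)) (etaE8 (k / 240)) (k % 240))) = true := by decide +kernel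
theorem e8Conj_2_282 : allRange 282 285 ((fun k => cdE8.checkConj (k / 240) (cdE8.cartI pairE8 (k / 240)) (reflE8 (k / 240)) (etaE8 (k / 240)) (k % 240))) = true := by decide +kernel
theorem e8Conj_2_285 : allRange 285 288 ((fun k => cdE8.checkConj (k / 240) (cdE8.cartI pairE8 (k / 240)) (reflE8 (k / 240)) (etaE8 (k / 240)) (k % 240))) = true := by decide +kernel
theorem e8Conj_2_288 : allRange 288 291 ((fun k => cdE8.checkConj (k / 240) (cdE8.cartI pairE8 (k / 240)) (reflE8 (k / 240)) (etaE8 (k / 240)) (k % 240))) = true := by decide +kernel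
theorem e8Conj_2_291 : allRange 291 294 ((fun k => cdE8.checkConj (k / 240) (cdE8.cartI pairE8 (k / 240)) (reflE8 (k / 240)) (etaE8 (k / 240)) (k % 240))) = true := by decide +kernel
theorem e8Conj_2_294 : allRange 294 297 ((fun k => cdE8.checkConj (k / 240) (cdE8.cartI pairE8 (k / 240)) (reflE8 (k / 240)) (etaE8 (k / 240)) (k % 240))) = true := by decide +kernel
theorem e8Conj_2_297 : allRange 297 300 ((fun k => cdE8.checkConj (k / 240) (cdE8.cartI pairE8 (k / 240)) (reflE8 (k / 240)) (etaE8 (k / 240)) (k % 240))) = true := by decide +kernel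
theorem e8Conj_2_300 : allRange 300 303 ((fun k => cdE8.checkConj (k / 240) (cdE8.cartI pairE8 (k / 240)) (reflE8 (k / 240)) (etaE8 (k / 240)) (k % 240))) = true := by decide +kernel
theorem e8Conj_2_303 : allRange 303 306 ((fun k => cdE8.checkConj (k / 240) (cdE8.cartI pairE8 (k / 240)) (reflE8 (k / 240)) (etaE8 (k / 240)) (k % 240))) = true := by decide +kernel
theorem e8Conj_2_306 : allRange 306 309 ((fun k => cdE8.checkConj (k / 240) (cdE8.cartI pairE8 (k / 240)) (reflE8 (k / 240)) (etaE8 (k / 240)) (k % 240))) = true := by decide +kernel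
theorem e8Conj_2_309 : allRange 309 312 ((fun k => cdE8.checkConj (k / 240) (cdE8.cartI pairE8 (k / 240)) (reflE8 (k / 240)) (etaE8 (k / 240)) (k % 240))) = true := by decide +kernel
theorem e8Conj_2_312 : allRange 312 315 ((fun k => cdE8.checkConj (k / 240) (cdE8.cartI pairE8 (k / 240)) (reflE8 (k / 240)) (etaE8 (k / 240)) (k % 240))) = true := by decide +kernel
theorem e8Conj_2_315 : allRange 315 318 ((fun k => cdE8.checkConj (k / 240) (cdE8.cartI pairE8 (k / 240)) (reflE8 (k / 240)) (etaE8 (k / 240)) (k % 240))) = true := by decide +kernel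
theorem e8Conj_2_318 : allRange 318 321 ((fun k => cdE8.checkConj (k / 240) (cdE8.cartI pairE8 (k / 240)) (reflE8 (k / 240)) (etaE8 (k / 240)) (k % 240))) = true := by decide +kernel
theorem e8Conj_2_321 : allRange 321 324 ((fun k => cdE8.checkConj (k / 240) (cdE8.cartI pairE8 (k / 240)) (reflE8 (k / 240)) (etaE8 (k / 240)) (k % 240))) = true := by decide +kernel
theorem e8Conj_2_324 : allRange 324 327 ((fun k => cdE8.checkConj (k / 240) (cdE8.cartI pairE8 (k / 240)) (reflE8 (k / 240)) (etaE8 (k / 240)) (k % 240))) = true := by decide +kernel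
theorem e8Conj_2_327 : allRange 327 330 ((fun k => cdE8.checkConj (k / 240) (cdE8.cartI pairE8 (k / 240)) (reflE8 (k / 240)) (etaE8 (k / 240)) (k % 240))) = true := by decide +kernel
theorem e8Conj_2_330 : allRange 330 333 ((fun k => cdE8.checkConj (k / 240) (cdE8.cartI pairE8 (k / 240)) (reflE8 (k / 240)) (etaE8 (k / 240)) (k % 240))) = true := by decide +kernel
theorem e8Conj_2_333 : allRange 333 336 ((fun k => cdE8.checkConj (k / 240) (cdE8.cartI pairE8 (k / 240)) (reflE8 (k / 240)) (etaE8 (k / 240)) (k % 240))) = true := by decide +kernel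
theorem e8Conj_2_336 : allRange 336 339 ((fun k => cdE8.checkConj (k / 240) (cdE8.cartI pairE8 (k / 240)) (reflE8 (k / 240)) (etaE8 (k / 240)) (k % 240))) = true := by decide +kernel
theorem e8Conj_2_339 : allRange 339 342 ((fun k => cdE8.checkConj (k / 240) (cdE8.cartI pairE8 (k / 240)) (reflE8 (k / 240)) (etaE8 (k / 240)) (k % 240))) = true := by decide +kernel
theorem e8Conj_2_342 : allRange 342 345 ((fun k => cdE8.checkConj (k / 240) (cdE8.cartI pairE8 (k / 240)) (reflE8 (k / 240)) (etaE8 (k / 240)) (k % 240))) = true := by decide +kernel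
theorem e8Conj_2_345 : allRange 345 348 ((fun k => cdE8.checkConj (k / 240) (cdE8.cartI pairE8 (k / 240)) (reflE8 (k / 240)) (etaE8 (k / 240)) (k % 240))) = true := by decide +kernel
theorem e8Conj_2_348 : allRange 348 351 ((fun k => cdE8.checkConj (k / 240) (cdE8.cartI pairE8 (k / 240)) (reflE8 (k / 240)) (etaE8 (k / 240)) (k % 240))) = true := by decide +kernel
theorem e8Conj_2_351 : allRange 351 354 ((fun k => cdE8.checkConj (k / 240) (cdE8.cartI pairE8 (k / 240)) (reflE8 (k / 240)) (etaE8 (k / 240)) (k % 240))) = true := by decide +kernel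
theorem e8Conj_2_354 : allRange 354 357 ((fun k => cdE8.checkConj (k / 240) (cdE8.cartI pairE8 (k / 240)) (reflE8 (k / 240)) (etaE8 (k / 240)) (k % 240))) = true := by decide +kernel
theorem e8Conj_2_357 : allRange 357 360 ((fun k => cdE8.checkConj (k / 240) (cdE8.cartI pairE8 (k / 240)) (reflE8 (k / 240)) (etaE8 (k / 240)) (k % 240))) = true := by decide +kernel

/-- Conjugation of root elements by the `n_p` of type E8 (roots 240 to 359). -/
theorem e8Conj_2 : ∀ r, 240 ≤ r → r < 360 → ((fun k => cdE8.checkConj (k / 240) (cdE8.cartI pairE8 (k / 240)) (reflE8 (k / 240)) (etaE8 (k / 240)) (k % 240))) r = true := by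
  intro r h1 h2
  by_cases c0 : r < 243
  · exact allRange_spec e8Conj_2_240 r (by omega) c0
  by_cases c1 : r < 246
  · exact allRange_spec e8Conj_2_243 r (by omega) c1
  by_cases c2 : r < 249
  · exact allRange_spec e8Conj_2_246 r (by omega) c2
  by_cases c3 : r < 252
  · exact allRange_spec e8Conj_2_249 r (by omega) c3
  by_cases c4 : r < 255
  · exact allRange_spec e8Conj_2_252 r (by omega) c4
  by_cases c5 : r < 258
  · exact allRange_spec e8Conj_2_255 r (by omega) c5
  by_cases c6 : r < 261
  · exact allRange_spec e8Conj_2_258 r (by omega) c6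
  by_cases c7 : r < 264
  · exact allRange_spec e8Conj_2_261 r (by omega) c7
  by_cases c8 : r < 267
  · exact allRange_spec e8Conj_2_264 r (by omega) c8
  by_cases c9 : r < 270
  · exact allRange_spec e8Conj_2_267 r (by omega) c9
  by_cases c10 : r < 273
  · exact allRange_spec e8Conj_2_270 r (by omega) c10
  by_cases c11 : r < 276
  · exact allRange_spec e8Conj_2_273 r (by omega) c11
  by_cases c12 : r < 279
  · exact allRange_spec e8Conj_2_276 r (by omega) c12
  by_cases c13 : r < 282
  · exact allRange_spec e8Conj_2_279 r (by omega) c13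
  by_cases c14 : r < 285
  · exact allRange_spec e8Conj_2_282 r (by omega) c14
  by_cases c15 : r < 288
  · exact allRange_spec e8Conj_2_285 r (by omega) c15
  by_cases c16 : r < 291
  · exact allRange_spec e8Conj_2_288 r (by omega) c16
  by_cases c17 : r < 294
  · exact allRange_spec e8Conj_2_291 r (by omega) c17
  by_cases c18 : r < 297
  · exact allRange_spec e8Conj_2_294 r (by omega) c18
  by_cases c19 : r < 300
  · exact allRange_spec e8Conj_2_297 r (by omega) c19
  by_cases c20 : r < 303
  · exact allRange_spec e8Conj_2_300 r (by omega) c20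
  by_cases c21 : r < 306
  · exact allRange_spec e8Conj_2_303 r (by omega) c21
  by_cases c22 : r < 309
  · exact allRange_spec e8Conj_2_306 r (by omega) c22
  by_cases c23 : r < 312
  · exact allRange_spec e8Conj_2_309 r (by omega) c23
  by_cases c24 : r < 315
  · exact allRange_spec e8Conj_2_312 r (by omega) c24
  by_cases c25 : r < 318
  · exact allRange_spec e8Conj_2_315 r (by omega) c25
  by_cases c26 : r < 321
  · exact allRange_spec e8Conj_2_318 r (by omega) c26
  by_cases c27 : r < 324
  · exact allRange_spec e8Conj_2_321 r (by omega) c27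
  by_cases c28 : r < 327
  · exact allRange_spec e8Conj_2_324 r (by omega) c28
  by_cases c29 : r < 330
  · exact allRange_spec e8Conj_2_327 r (by omega) c29
  by_cases c30 : r < 333
  · exact allRange_spec e8Conj_2_330 r (by omega) c30
  by_cases c31 : r < 336
  · exact allRange_spec e8Conj_2_333 r (by omega) c31
  by_cases c32 : r < 339
  · exact allRange_spec e8Conj_2_336 r (by omega) c32
  by_cases c33 : r < 342
  · exact allRange_spec e8Conj_2_339 r (by omega) c33
  by_cases c34 : r < 345
  · exact allRange_spec e8Conj_2_342 r (by omega) c34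
  by_cases c35 : r < 348
  · exact allRange_spec e8Conj_2_345 r (by omega) c35
  by_cases c36 : r < 351
  · exact allRange_spec e8Conj_2_348 r (by omega) c36
  by_cases c37 : r < 354
  · exact allRange_spec e8Conj_2_351 r (by omega) c37
  by_cases c38 : r < 357
  · exact allRange_spec e8Conj_2_354 r (by omega) c38
  exact allRange_spec e8Conj_2_357 r (by omega) h2

end Cfsg.Agent.Lib.Helper3.ChevM
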