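import Cfsg.Agent.Lib.Helper3.ChevData.E8Datum
import Cfsg.Agent.Lib.Helper3.ChevData.E8Tabs
import Cfsg.Agent.Lib.Helper3.ChevM7
set_option autoImplicit false
set_option maxRecDepth 1000000
set_option Elab.async false

namespace Cfsg.Agent.Lib.Helper3.ChevM

theorem e8Conj_3_360 : allRange 360 363 ((fun k => cdE8.checkConj (k / 240) (cdE8.cartI pairE8 (k / 240)) (reflE8 (k / 240)) (etaE8 (k / 240)) (k % 240))) = true := by decide +kernel
theorem e8Conj_3_363 : allRange 363 366 ((fun k => cdE8.checkConj (k / 240) (cdE8.cartI pairE8 (k / 240)) (reflE8 (k / 240)) (etaE8 (k / 240)) (k % 240))) = true := by decide +kernel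
theorem e8Conj_3_366 : allRange 366 369 ((fun k => cdE8.checkConj (k / 240) (cdE8.cartI pairE8 (k / 240)) (reflE8 (k / 240)) (etaE8 (k / 240)) (k % 240))) = true := by decide +kernel
theorem e8Conj_3_369 : allRange 369 372 ((fun k => cdE8.checkConj (k / 240) (cdE8.cartI pairE8 (k / 240)) (reflE8 (k / 240)) (etaE8 (k / 240)) (k % 240))) = true := by decide +kernel
theorem e8Conj_3_372 : allRange 372 375 ((fun k => cdE8.checkConj (k / 240) (cdE8.cartI pairE8 (k / 240)) (reflE8 (k / 240)) (etaE8 (k / 240)) (k % 240))) = true := by decide +kernel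
theorem e8Conj_3_375 : allRange 375 378 ((fun k => cdE8.checkConj (k / 240) (cdE8.cartI pairE8 (k / 240)) (reflE8 (k / 240)) (etaE8 (k / 240)) (k % 240))) = true := by decide +kernel
theorem e8Conj_3_378 : allRange 378 381 ((fun k => cdE8.checkConj (k / 240) (cdE8.cartI pairE8 (k / 240)) (reflE8 (k / 240)) (etaE8 (k / 240)) (k % 240))) = true := by decide +kernel
theorem e8Conj_3_381 : allRange 381 384 ((fun k => cdE8.checkConj (k / 240) (cdE8.cartI pairE8 (k / 240)) (reflE8 (k / 240)) (etaE8 (k / 240)) (k % 240))) = true := by decide +kernel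
theorem e8Conj_3_384 : allRange 384 387 ((fun k => cdE8.checkConj (k / 240) (cdE8.cartI pairE8 (k / 240)) (reflE8 (k / 240)) (etaE8 (k / 240)) (k % 240))) = true := by decide +kernel
theorem e8Conj_3_387 : allRange 387 390 ((fun k => cdE8.checkConj (k / 240) (cdE8.cartI pairE8 (k / 240)) (reflE8 (k / 240)) (etaE8 (k / 240)) (k % 240))) = true := by decide +kernel
theorem e8Conj_3_390 : allRange 390 393 ((fun k => cdE8.checkConj (k / 240) (cdE8.cartI pairE8 (k / 240)) (reflE8 (k / 240)) (etaE8 (k / 240)) (k % 240))) = true := by decide +kernel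
theorem e8Conj_3_393 : allRange 393 396 ((fun k => cdE8.checkConj (k / 240) (cdE8.cartI pairE8 (k / 240)) (reflE8 (k / 240)) (etaE8 (k / 240)) (k % 240))) = true := by decide +kernel
theorem e8Conj_3_396 : allRange 396 399 ((fun k => cdE8.checkConj (k / 240) (cdE8.cartI pairE8 (k / 240)) (reflE8 (k / 240)) (etaE8 (k / 240)) (k % 240))) = true := by decide +kernel
theorem e8Conj_3_399 : allRange 399 402 ((fun k => cdE8.checkConj (k / 240) (cdE8.cartI pairE8 (k / 240)) (reflE8 (k / 240)) (etaE8 (k / 240)) (k % 240))) = true := by decide +kernel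
theorem e8Conj_3_402 : allRange 402 405 ((fun k => cdE8.checkConj (k / 240) (cdE8.cartI pairE8 (k / 240)) (reflE8 (k / 240)) (etaE8 (k / 240)) (k % 240))) = true := by decide +kernel
theorem e8Conj_3_405 : allRange 405 408 ((fun k => cdE8.checkConj (k / 240) (cdE8.cartI pairE8 (k / 240)) (reflE8 (k / 240)) (etaE8 (k / 240)) (k % 240))) = true := by decide +kernel
theorem e8Conj_3_408 : allRange 408 411 ((fun k => cdE8.checkConj (k / 240) (cdE8.cartI pairE8 (k / 240)) (reflE8 (k / 240)) (etaE8 (k / 240)) (k % 240))) = true := by decide +kernel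
theorem e8Conj_3_411 : allRange 411 414 ((fun k => cdE8.checkConj (k / 240) (cdE8.cartI pairE8 (k / 240)) (reflE8 (k / 240)) (etaE8 (k / 240)) (k % 240))) = true := by decide +kernel
theorem e8Conj_3_414 : allRange 414 417 ((fun k => cdE8.checkConj (k / 240) (cdE8.cartI pairE8 (k / 240)) (reflE8 (k / 240)) (etaE8 (k / 240)) (k % 240))) = true := by decide +kernel
theorem e8Conj_3_417 : allRange 417 420 ((fun k => cdE8.checkConj (k / 240) (cdE8.cartI pairE8 (k / 240)) (reflE8 (k / 240)) (etaE8 (k / 240)) (k % 240))) = true := by decide +kernel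
theorem e8Conj_3_420 : allRange 420 423 ((fun k => cdE8.checkConj (k / 240) (cdE8.cartI pairE8 (k / 240)) (reflE8 (k / 240)) (etaE8 (k / 240)) (k % 240))) = true := by decide +kernel
theorem e8Conj_3_423 : allRange 423 426 ((fun k => cdE8.checkConj (k / 240) (cdE8.cartI pairE8 (k / 240)) (reflE8 (k / 240)) (etaE8 (k / 240)) (k % 240))) = true := by decide +kernel
theorem e8Conj_3_426 : allRange 426 429 ((fun k => cdE8.checkConj (k / 240) (cdE8.cartI pairE8 (k / 240)) (reflE8 (k / 240)) (etaE8 (k / 240)) (k % 240))) = true := by decide +kernel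
theorem e8Conj_3_429 : allRange 429 432 ((fun k => cdE8.checkConj (k / 240) (cdE8.cartI pairE8 (k / 240)) (reflE8 (k / 240)) (etaE8 (k / 240)) (k % 240))) = true := by decide +kernel
theorem e8Conj_3_432 : allRange 432 435 ((fun k => cdE8.checkConj (k / 240) (cdE8.cartI pairE8 (k / 240)) (reflE8 (k / 240)) (etaE8 (k / 240)) (k % 240))) = true := by decide +kernel
theorem e8Conj_3_435 : allRange 435 438 ((fun k => cdE8.checkConj (k / 240) (cdE8.cartI pairE8 (k / 240)) (reflE8 (k / 240)) (etaE8 (k / 240)) (k % 240))) = true := by decide +kernel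
theorem e8Conj_3_438 : allRange 438 441 ((fun k => cdE8.checkConj (k / 240) (cdE8.cartI pairE8 (k / 240)) (reflE8 (k / 240)) (etaE8 (k / 240)) (k % 240))) = true := by decide +kernel
theorem e8Conj_3_441 : allRange 441 444 ((fun k => cdE8.checkConj (k / 240) (cdE8.cartI pairE8 (k / 240)) (reflE8 (k / 240)) (etaE8 (k / 240)) (k % 240))) = true := by decide +kernel
theorem e8Conj_3_444 : allRange 444 447 ((fun k => cdE8.checkConj (k / 240) (cdE8.cartI pairE8 (k / 240)) (reflE8 (k / 240)) (etaE8 (k / 240)) (k % 240))) = true := by decide +kernel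
theorem e8Conj_3_447 : allRange 447 450 ((fun k => cdE8.checkConj (k / 240) (cdE8.cartI pairE8 (k / 240)) (reflE8 (k / 240)) (etaE8 (k / 240)) (k % 240))) = true := by decide +kernel
theorem e8Conj_3_450 : allRange 450 453 ((fun k => cdE8.checkConj (k / 240) (cdE8.cartI pairE8 (k / 240)) (reflE8 (k / 240)) (etaE8 (k / 240)) (k % 240))) = true := by decide +kernel
theorem e8Conj_3_453 : allRange 453 456 ((fun k => cdE8.checkConj (k / 240) (cdE8.cartI pairE8 (k / 240)) (reflE8 (k / 240)) (etaE8 (k / 240)) (k % 240))) = true := by decide +kernel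
theorem e8Conj_3_456 : allRange 456 459 ((fun k => cdE8.checkConj (k / 240) (cdE8.cartI pairE8 (k / 240)) (reflE8 (k / 240)) (etaE8 (k / 240)) (k % 240))) = true := by decide +kernel
theorem e8Conj_3_459 : allRange 459 462 ((fun k => cdE8.checkConj (k / 240) (cdE8.cartI pairE8 (k / 240)) (reflE8 (k / 240)) (etaE8 (k / 240)) (k % 240))) = true := by decide +kernel
theorem e8Conj_3_462 : allRange 462 465 ((fun k => cdE8.checkConj (k / 240) (cdE8.cartI pairE8 (k / 240)) (reflE8 (k / 240)) (etaE8 (k / 240)) (k % 240))) = true := by decide +kernel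
theorem e8Conj_3_465 : allRange 465 468 ((fun k => cdE8.checkConj (k / 240) (cdE8.cartI pairE8 (k / 240)) (reflE8 (k / 240)) (etaE8 (k / 240)) (k % 240))) = true := by decide +kernel
theorem e8Conj_3_468 : allRange 468 471 ((fun k => cdE8.checkConj (k / 240) (cdE8.cartI pairE8 (k / 240)) (reflE8 (k / 240)) (etaE8 (k / 240)) (k % 240))) = true := by decide +kernel
theorem e8Conj_3_471 : allRange 471 474 ((fun k => cdE8.checkConj (k / 240) (cdE8.cartI pairE8 (k / 240)) (reflE8 (k / 240)) (etaE8 (k / 240)) (k % 240))) = true := by decide +kernel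
theorem e8Conj_3_474 : allRange 474 477 ((fun k => cdE8.checkConj (k / 240) (cdE8.cartI pairE8 (k / 240)) (reflE8 (k / 240)) (etaE8 (k / 240)) (k % 240))) = true := by decide +kernel
theorem e8Conj_3_477 : allRange 477 480 ((fun k => cdE8.checkConj (k / 240) (cdE8.cartI pairE8 (k / 240)) (reflE8 (k / 240)) (etaE8 (k / 240)) (k % 240))) = true := by decide +kernel

/-- Conjugation of root elements by the `n_p` of type E8 (roots 360 to 479). -/
theorem e8Conj_3 : ∀ r, 360 ≤ r → r < 480 → ((fun k => cdE8.checkConj (k / 240) (cdE8.cartI pairE8 (k / 240)) (reflE8 (k / 240)) (etaE8 (k / 240)) (k % 240))) r = true := by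
  intro r h1 h2
  by_cases c0 : r < 363
  · exact allRange_spec e8Conj_3_360 r (by omega) c0
  by_cases c1 : r < 366
  · exact allRange_spec e8Conj_3_363 r (by omega) c1
  by_cases c2 : r < 369
  · exact allRange_spec e8Conj_3_366 r (by omega) c2
  by_cases c3 : r < 372
  · exact allRange_spec e8Conj_3_369 r (by omega) c3
  by_cases c4 : r < 375
  · exact allRange_spec e8Conj_3_372 r (by omega) c4
  by_cases c5 : r < 378
  · exact allRange_spec e8Conj_3_375 r (by omega) c5
  by_cases c6 : r < 381
  · exact allRange_spec e8Conj_3_378 r (by omega) c6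
  by_cases c7 : r < 384
  · exact allRange_spec e8Conj_3_381 r (by omega) c7
  by_cases c8 : r < 387
  · exact allRange_spec e8Conj_3_384 r (by omega) c8
  by_cases c9 : r < 390
  · exact allRange_spec e8Conj_3_387 r (by omega) c9
  by_cases c10 : r < 393
  · exact allRange_spec e8Conj_3_390 r (by omega) c10
  by_cases c11 : r < 396
  · exact allRange_spec e8Conj_3_393 r (by omega) c11
  by_cases c12 : r < 399
  · exact allRange_spec e8Conj_3_396 r (by omega) c12
  by_cases c13 : r < 402
  · exact allRange_spec e8Conj_3_399 r (by omega) c13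
  by_cases c14 : r < 405
  · exact allRange_spec e8Conj_3_402 r (by omega) c14
  by_cases c15 : r < 408
  · exact allRange_spec e8Conj_3_405 r (by omega) c15
  by_cases c16 : r < 411
  · exact allRange_spec e8Conj_3_408 r (by omega) c16
  by_cases c17 : r < 414
  · exact allRange_spec e8Conj_3_411 r (by omega) c17
  by_cases c18 : r < 417
  · exact allRange_spec e8Conj_3_414 r (by omega) c18
  by_cases c19 : r < 420
  · exact allRange_spec e8Conj_3_417 r (by omega) c19
  by_cases c20 : r < 423
  · exact allRange_spec e8Conj_3_420 r (by omega) c20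
  by_cases c21 : r < 426
  · exact allRange_spec e8Conj_3_423 r (by omega) c21
  by_cases c22 : r < 429
  · exact allRange_spec e8Conj_3_426 r (by omega) c22
  by_cases c23 : r < 432
  · exact allRange_spec e8Conj_3_429 r (by omega) c23
  by_cases c24 : r < 435
  · exact allRange_spec e8Conj_3_432 r (by omega) c24
  by_cases c25 : r < 438
  · exact allRange_spec e8Conj_3_435 r (by omega) c25
  by_cases c26 : r < 441
  · exact allRange_spec e8Conj_3_438 r (by omega) c26
  by_cases c27 : r < 444
  · exact allRange_spec e8Conj_3_441 r (by omega) c27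
  by_cases c28 : r < 447
  · exact allRange_spec e8Conj_3_444 r (by omega) c28
  by_cases c29 : r < 450
  · exact allRange_spec e8Conj_3_447 r (by omega) c29
  by_cases c30 : r < 453
  · exact allRange_spec e8Conj_3_450 r (by omega) c30
  by_cases c31 : r < 456
  · exact allRange_spec e8Conj_3_453 r (by omega) c31
  by_cases c32 : r < 459
  · exact allRange_spec e8Conj_3_456 r (by omega) c32
  by_cases c33 : r < 462
  · exact allRange_spec e8Conj_3_459 r (by omega) c33
  by_cases c34 : r < 465
  · exact allRange_spec e8Conj_3_462 r (by omega) c34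
  by_cases c35 : r < 468
  · exact allRange_spec e8Conj_3_465 r (by omega) c35
  by_cases c36 : r < 471
  · exact allRange_spec e8Conj_3_468 r (by omega) c36
  by_cases c37 : r < 474
  · exact allRange_spec e8Conj_3_471 r (by omega) c37
  by_cases c38 : r < 477
  · exact allRange_spec e8Conj_3_474 r (by omega) c38
  exact allRange_spec e8Conj_3_477 r (by omega) h2

end Cfsg.Agent.Lib.Helper3.ChevM
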