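import Cfsg.Agent.Lib.Helper3.ChevData.E8Datum
import Cfsg.Agent.Lib.Helper3.ChevData.E8Tabs
import Cfsg.Agent.Lib.Helper3.ChevM7
set_option autoImplicit false
set_option maxRecDepth 1000000
set_option Elab.async false

namespace Cfsg.Agent.Lib.Helper3.ChevM

theorem e8Conj_4_480 : allRange 480 483 ((fun k => cdE8.checkConj (k / 240) (cdE8.cartI pairE8 (k / 240)) (reflE8 (k / 240)) (etaE8 (k / 240)) (k % 240))) = true := by decide +kernel
theorem e8Conj_4_483 : allRange 483 486 ((fun k => cdE8.checkConj (k / 240) (cdE8.cartI pairE8 (k / 240)) (reflE8 (k / 240)) (etaE8 (k / 240)) (k % 240))) = true := by decide +kernel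
theorem e8Conj_4_486 : allRange 486 489 ((fun k => cdE8.checkConj (k / 240) (cdE8.cartI pairE8 (k / 240)) (reflE8 (k / 240)) (etaE8 (k / 240)) (k % 240))) = true := by decide +kernel
theorem e8Conj_4_489 : allRange 489 492 ((fun k => cdE8.checkConj (k / 240) (cdE8.cartI pairE8 (k / 240)) (reflE8 (k / 240)) (etaE8 (k / 240)) (k % 240))) = true := by decide +kernel
theorem e8Conj_4_492 : allRange 492 495 ((fun k => cdE8.checkConj (k / 240) (cdE8.cartI pairE8 (k / 240)) (reflE8 (k / 240)) (etaE8 (k / 240)) (k % 240))) = true := by decide +kernel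
theorem e8Conj_4_495 : allRange 495 498 ((fun k => cdE8.checkConj (k / 240) (cdE8.cartI pairE8 (k / 240)) (reflE8 (k / 240)) (etaE8 (k / 240)) (k % 240))) = true := by decide +kernel
theorem e8Conj_4_498 : allRange 498 501 ((fun k => cdE8.checkConj (k / 240) (cdE8.cartI pairE8 (k / 240)) (reflE8 (k / 240)) (etaE8 (k / 240)) (k % 240))) = true := by decide +kernel
theorem e8Conj_4_501 : allRange 501 504 ((fun k => cdE8.checkConj (k / 240) (cdE8.cartI pairE8 (k / 240)) (reflE8 (k / 240)) (etaE8 (k / 240)) (k % 240))) = true := by decide +kernel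
theorem e8Conj_4_504 : allRange 504 507 ((fun k => cdE8.checkConj (k / 240) (cdE8.cartI pairE8 (k / 240)) (reflE8 (k / 240)) (etaE8 (k / 240)) (k % 240))) = true := by decide +kernel
theorem e8Conj_4_507 : allRange 507 510 ((fun k => cdE8.checkConj (k / 240) (cdE8.cartI pairE8 (k / 240)) (reflE8 (k / 240)) (etaE8 (k / 240)) (k % 240))) = true := by decide +kernel
theorem e8Conj_4_510 : allRange 510 513 ((fun k => cdE8.checkConj (k / 240) (cdE8.cartI pairE8 (k / 240)) (reflE8 (k / 240)) (etaE8 (k / 240)) (k % 240))) = true := by decide +kernel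
theorem e8Conj_4_513 : allRange 513 516 ((fun k => cdE8.checkConj (k / 240) (cdE8.cartI pairE8 (k / 240)) (reflE8 (k / 240)) (etaE8 (k / 240)) (k % 240))) = true := by decide +kernel
theorem e8Conj_4_516 : allRange 516 519 ((fun k => cdE8.checkConj (k / 240) (cdE8.cartI pairE8 (k / 240)) (reflE8 (k / 240)) (etaE8 (k / 240)) (k % 240))) = true := by decide +kernel
theorem e8Conj_4_519 : allRange 519 522 ((fun k => cdE8.checkConj (k / 240) (cdE8.cartI pairE8 (k / 240)) (reflE8 (k / 240)) (etaE8 (k / 240)) (k % 240))) = true := by decide +kernel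
theorem e8Conj_4_522 : allRange 522 525 ((fun k => cdE8.checkConj (k / 240) (cdE8.cartI pairE8 (k / 240)) (reflE8 (k / 240)) (etaE8 (k / 240)) (k % 240))) = true := by decide +kernel
theorem e8Conj_4_525 : allRange 525 528 ((fun k => cdE8.checkConj (k / 240) (cdE8.cartI pairE8 (k / 240)) (reflE8 (k / 240)) (etaE8 (k / 240)) (k % 240))) = true := by decide +kernel
theorem e8Conj_4_528 : allRange 528 531 ((fun k => cdE8.checkConj (k / 240) (cdE8.cartI pairE8 (k / 240)) (reflE8 (k / 240)) (etaE8 (k / 240)) (k % 240))) = true := by decide +kernel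
theorem e8Conj_4_531 : allRange 531 534 ((fun k => cdE8.checkConj (k / 240) (cdE8.cartI pairE8 (k / 240)) (reflE8 (k / 240)) (etaE8 (k / 240)) (k % 240))) = true := by decide +kernel
theorem e8Conj_4_534 : allRange 534 537 ((fun k => cdE8.checkConj (k / 240) (cdE8.cartI pairE8 (k / 240)) (reflE8 (k / 240)) (etaE8 (k / 240)) (k % 240))) = true := by decide +kernel
theorem e8Conj_4_537 : allRange 537 540 ((fun k => cdE8.checkConj (k / 240) (cdE8.cartI pairE8 (k / 240)) (reflE8 (k / 240)) (etaE8 (k / 240)) (k % 240))) = true := by decide +kernel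
theorem e8Conj_4_540 : allRange 540 543 ((fun k => cdE8.checkConj (k / 240) (cdE8.cartI pairE8 (k / 240)) (reflE8 (k / 240)) (etaE8 (k / 240)) (k % 240))) = true := by decide +kernel
theorem e8Conj_4_543 : allRange 543 546 ((fun k => cdE8.checkConj (k / 240) (cdE8.cartI pairE8 (k / 240)) (reflE8 (k / 240)) (etaE8 (k / 240)) (k % 240))) = true := by decide +kernel
theorem e8Conj_4_546 : allRange 546 549 ((fun k => cdE8.checkConj (k / 240) (cdE8.cartI pairE8 (k / 240)) (reflE8 (k / 240)) (etaE8 (k / 240)) (k % 240))) = true := by decide +kernel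
theorem e8Conj_4_549 : allRange 549 552 ((fun k => cdE8.checkConj (k / 240) (cdE8.cartI pairE8 (k / 240)) (reflE8 (k / 240)) (etaE8 (k / 240)) (k % 240))) = true := by decide +kernel
theorem e8Conj_4_552 : allRange 552 555 ((fun k => cdE8.checkConj (k / 240) (cdE8.cartI pairE8 (k / 240)) (reflE8 (k / 240)) (etaE8 (k / 240)) (k % 240))) = true := by decide +kernel
theorem e8Conj_4_555 : allRange 555 558 ((fun k => cdE8.checkConj (k / 240) (cdE8.cartI pairE8 (k / 240)) (reflE8 (k / 240)) (etaE8 (k / 240)) (k % 240))) = true := by decide +kernel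
theorem e8Conj_4_558 : allRange 558 561 ((fun k => cdE8.checkConj (k / 240) (cdE8.cartI pairE8 (k / 240)) (reflE8 (k / 240)) (etaE8 (k / 240)) (k % 240))) = true := by decide +kernel
theorem e8Conj_4_561 : allRange 561 564 ((fun k => cdE8.checkConj (k / 240) (cdE8.cartI pairE8 (k / 240)) (reflE8 (k / 240)) (etaE8 (k / 240)) (k % 240))) = true := by decide +kernel
theorem e8Conj_4_564 : allRange 564 567 ((fun k => cdE8.checkConj (k / 240) (cdE8.cartI pairE8 (k / 240)) (reflE8 (k / 240)) (etaE8 (k / 240)) (k % 240))) = true := by decide +kernel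
theorem e8Conj_4_567 : allRange 567 570 ((fun k => cdE8.checkConj (k / 240) (cdE8.cartI pairE8 (k / 240)) (reflE8 (k / 240)) (etaE8 (k / 240)) (k % 240))) = true := by decide +kernel
theorem e8Conj_4_570 : allRange 570 573 ((fun k => cdE8.checkConj (k / 240) (cdE8.cartI pairE8 (k / 240)) (reflE8 (k / 240)) (etaE8 (k / 240)) (k % 240))) = true := by decide +kernel
theorem e8Conj_4_573 : allRange 573 576 ((fun k => cdE8.checkConj (k / 240) (cdE8.cartI pairE8 (k / 240)) (reflE8 (k / 240)) (etaE8 (k / 240)) (k % 240))) = true := by decide +kernel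
theorem e8Conj_4_576 : allRange 576 579 ((fun k => cdE8.checkConj (k / 240) (cdE8.cartI pairE8 (k / 240)) (reflE8 (k / 240)) (etaE8 (k / 240)) (k % 240))) = true := by decide +kernel
theorem e8Conj_4_579 : allRange 579 582 ((fun k => cdE8.checkConj (k / 240) (cdE8.cartI pairE8 (k / 240)) (reflE8 (k / 240)) (etaE8 (k / 240)) (k % 240))) = true := by decide +kernel
theorem e8Conj_4_582 : allRange 582 585 ((fun k => cdE8.checkConj (k / 240) (cdE8.cartI pairE8 (k / 240)) (reflE8 (k / 240)) (etaE8 (k / 240)) (k % 240))) = true := by decide +kernel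
theorem e8Conj_4_585 : allRange 585 588 ((fun k => cdE8.checkConj (k / 240) (cdE8.cartI pairE8 (k / 240)) (reflE8 (k / 240)) (etaE8 (k / 240)) (k % 240))) = true := by decide +kernel
theorem e8Conj_4_588 : allRange 588 591 ((fun k => cdE8.checkConj (k / 240) (cdE8.cartI pairE8 (k / 240)) (reflE8 (k / 240)) (etaE8 (k / 240)) (k % 240))) = true := by decide +kernel
theorem e8Conj_4_591 : allRange 591 594 ((fun k => cdE8.checkConj (k / 240) (cdE8.cartI pairE8 (k / 240)) (reflE8 (k / 240)) (etaE8 (k / 240)) (k % 240))) = true := by decide +kernel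
theorem e8Conj_4_594 : allRange 594 597 ((fun k => cdE8.checkConj (k / 240) (cdE8.cartI pairE8 (k / 240)) (reflE8 (k / 240)) (etaE8 (k / 240)) (k % 240))) = true := by decide +kernel
theorem e8Conj_4_597 : allRange 597 600 ((fun k => cdE8.checkConj (k / 240) (cdE8.cartI pairE8 (k / 240)) (reflE8 (k / 240)) (etaE8 (k / 240)) (k % 240))) = true := by decide +kernel

/-- Conjugation of root elements by the `n_p` of type E8 (roots 480 to 599). -/
theorem e8Conj_4 : ∀ r, 480 ≤ r → r < 600 → ((fun k => cdE8.checkConj (k / 240) (cdE8.cartI pairE8 (k / 240)) (reflE8 (k / 240)) (etaE8 (k / 240)) (k % 240))) r = true := by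
  intro r h1 h2
  by_cases c0 : r < 483
  · exact allRange_spec e8Conj_4_480 r (by omega) c0
  by_cases c1 : r < 486
  · exact allRange_spec e8Conj_4_483 r (by omega) c1
  by_cases c2 : r < 489
  · exact allRange_spec e8Conj_4_486 r (by omega) c2
  by_cases c3 : r < 492
  · exact allRange_spec e8Conj_4_489 r (by omega) c3
  by_cases c4 : r < 495
  · exact allRange_spec e8Conj_4_492 r (by omega) c4
  by_cases c5 : r < 498
  · exact allRange_spec e8Conj_4_495 r (by omega) c5
  by_cases c6 : r < 501
  · exact allRange_spec e8Conj_4_498 r (by omega) c6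
  by_cases c7 : r < 504
  · exact allRange_spec e8Conj_4_501 r (by omega) c7
  by_cases c8 : r < 507
  · exact allRange_spec e8Conj_4_504 r (by omega) c8
  by_cases c9 : r < 510
  · exact allRange_spec e8Conj_4_507 r (by omega) c9
  by_cases c10 : r < 513
  · exact allRange_spec e8Conj_4_510 r (by omega) c10
  by_cases c11 : r < 516
  · exact allRange_spec e8Conj_4_513 r (by omega) c11
  by_cases c12 : r < 519
  · exact allRange_spec e8Conj_4_516 r (by omega) c12
  by_cases c13 : r < 522
  · exact allRange_spec e8Conj_4_519 r (by omega) c13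
  by_cases c14 : r < 525
  · exact allRange_spec e8Conj_4_522 r (by omega) c14
  by_cases c15 : r < 528
  · exact allRange_spec e8Conj_4_525 r (by omega) c15
  by_cases c16 : r < 531
  · exact allRange_spec e8Conj_4_528 r (by omega) c16
  by_cases c17 : r < 534
  · exact allRange_spec e8Conj_4_531 r (by omega) c17
  by_cases c18 : r < 537
  · exact allRange_spec e8Conj_4_534 r (by omega) c18
  by_cases c19 : r < 540
  · exact allRange_spec e8Conj_4_537 r (by omega) c19
  by_cases c20 : r < 543
  · exact allRange_spec e8Conj_4_540 r (by omega) c20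
  by_cases c21 : r < 546
  · exact allRange_spec e8Conj_4_543 r (by omega) c21
  by_cases c22 : r < 549
  · exact allRange_spec e8Conj_4_546 r (by omega) c22
  by_cases c23 : r < 552
  · exact allRange_spec e8Conj_4_549 r (by omega) c23
  by_cases c24 : r < 555
  · exact allRange_spec e8Conj_4_552 r (by omega) c24
  by_cases c25 : r < 558
  · exact allRange_spec e8Conj_4_555 r (by omega) c25
  by_cases c26 : r < 561
  · exact allRange_spec e8Conj_4_558 r (by omega) c26
  by_cases c27 : r < 564
  · exact allRange_spec e8Conj_4_561 r (by omega) c27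
  by_cases c28 : r < 567
  · exact allRange_spec e8Conj_4_564 r (by omega) c28
  by_cases c29 : r < 570
  · exact allRange_spec e8Conj_4_567 r (by omega) c29
  by_cases c30 : r < 573
  · exact allRange_spec e8Conj_4_570 r (by omega) c30
  by_cases c31 : r < 576
  · exact allRange_spec e8Conj_4_573 r (by omega) c31
  by_cases c32 : r < 579
  · exact allRange_spec e8Conj_4_576 r (by omega) c32
  by_cases c33 : r < 582
  · exact allRange_spec e8Conj_4_579 r (by omega) c33
  by_cases c34 : r < 585
  · exact allRange_spec e8Conj_4_582 r (by omega) c34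
  by_cases c35 : r < 588
  · exact allRange_spec e8Conj_4_585 r (by omega) c35
  by_cases c36 : r < 591
  · exact allRange_spec e8Conj_4_588 r (by omega) c36
  by_cases c37 : r < 594
  · exact allRange_spec e8Conj_4_591 r (by omega) c37
  by_cases c38 : r < 597
  · exact allRange_spec e8Conj_4_594 r (by omega) c38
  exact allRange_spec e8Conj_4_597 r (by omega) h2

end Cfsg.Agent.Lib.Helper3.ChevM
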