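import Cfsg.Agent.Lib.Helper3.ChevData.E8Datum
import Cfsg.Agent.Lib.Helper3.ChevData.E8Tabs
import Cfsg.Agent.Lib.Helper3.ChevM7
set_option autoImplicit false
set_option maxRecDepth 1000000
set_option Elab.async false

namespace Cfsg.Agent.Lib.Helper3.ChevM

theorem e8Conj_5_600 : allRange 600 603 ((fun k => cdE8.checkConj (k / 240) (cdE8.cartI pairE8 (k / 240)) (reflE8 (k / 240)) (etaE8 (k / 240)) (k % 240))) = true := by decide +kernel
theorem e8Conj_5_603 : allRange 603 606 ((fun k => cdE8.checkConj (k / 240) (cdE8.cartI pairE8 (k / 240)) (reflE8 (k / 240)) (etaE8 (k / 240)) (k % 240))) = true := by decide +kernel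
theorem e8Conj_5_606 : allRange 606 609 ((fun k => cdE8.checkConj (k / 240) (cdE8.cartI pairE8 (k / 240)) (reflE8 (k / 240)) (etaE8 (k / 240)) (k % 240))) = true := by decide +kernel
theorem e8Conj_5_609 : allRange 609 612 ((fun k => cdE8.checkConj (k / 240) (cdE8.cartI pairE8 (k / 240)) (reflE8 (k / 240)) (etaE8 (k / 240)) (k % 240))) = true := by decide +kernel
theorem e8Conj_5_612 : allRange 612 615 ((fun k => cdE8.checkConj (k / 240) (cdE8.cartI pairE8 (k / 240)) (reflE8 (k / 240)) (etaE8 (k / 240)) (k % 240))) = true := by decide +kernel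
theorem e8Conj_5_615 : allRange 615 618 ((fun k => cdE8.checkConj (k / 240) (cdE8.cartI pairE8 (k / 240)) (reflE8 (k / 240)) (etaE8 (k / 240)) (k % 240))) = true := by decide +kernel
theorem e8Conj_5_618 : allRange 618 621 ((fun k => cdE8.checkConj (k / 240) (cdE8.cartI pairE8 (k / 240)) (reflE8 (k / 240)) (etaE8 (k / 240)) (k % 240))) = true := by decide +kernel
theorem e8Conj_5_621 : allRange 621 624 ((fun k => cdE8.checkConj (k / 240) (cdE8.cartI pairE8 (k / 240)) (reflE8 (k / 240)) (etaE8 (k / 240)) (k % 240))) = true := by decide +kernel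
theorem e8Conj_5_624 : allRange 624 627 ((fun k => cdE8.checkConj (k / 240) (cdE8.cartI pairE8 (k / 240)) (reflE8 (k / 240)) (etaE8 (k / 240)) (k % 240))) = true := by decide +kernel
theorem e8Conj_5_627 : allRange 627 630 ((fun k => cdE8.checkConj (k / 240) (cdE8.cartI pairE8 (k / 240)) (reflE8 (k / 240)) (etaE8 (k / 240)) (k % 240))) = true := by decide +kernel
theorem e8Conj_5_630 : allRange 630 633 ((fun k => cdE8.checkConj (k / 240) (cdE8.cartI pairE8 (k / 240)) (reflE8 (k / 240)) (etaE8 (k / 240)) (k % 240))) = true := by decide +kernel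
theorem e8Conj_5_633 : allRange 633 636 ((fun k => cdE8.checkConj (k / 240) (cdE8.cartI pairE8 (k / 240)) (reflE8 (k / 240)) (etaE8 (k / 240)) (k % 240))) = true := by decide +kernel
theorem e8Conj_5_636 : allRange 636 639 ((fun k => cdE8.checkConj (k / 240) (cdE8.cartI pairE8 (k / 240)) (reflE8 (k / 240)) (etaE8 (k / 240)) (k % 240))) = true := by decide +kernel
theorem e8Conj_5_639 : allRange 639 642 ((fun k => cdE8.checkConj (k / 240) (cdE8.cartI pairE8 (k / 240)) (reflE8 (k / 240)) (etaE8 (k / 240)) (k % 240))) = true := by decide +kernel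
theorem e8Conj_5_642 : allRange 642 645 ((fun k => cdE8.checkConj (k / 240) (cdE8.cartI pairE8 (k / 240)) (reflE8 (k / 240)) (etaE8 (k / 240)) (k % 240))) = true := by decide +kernel
theorem e8Conj_5_645 : allRange 645 648 ((fun k => cdE8.checkConj (k / 240) (cdE8.cartI pairE8 (k / 240)) (reflE8 (k / 240)) (etaE8 (k / 240)) (k % 240))) = true := by decide +kernel
theorem e8Conj_5_648 : allRange 648 651 ((fun k => cdE8.checkConj (k / 240) (cdE8.cartI pairE8 (k / 240)) (reflE8 (k / 240)) (etaE8 (k / 240)) (k % 240))) = true := by decide +kernel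
theorem e8Conj_5_651 : allRange 651 654 ((fun k => cdE8.checkConj (k / 240) (cdE8.cartI pairE8 (k / 240)) (reflE8 (k / 240)) (etaE8 (k / 240)) (k % 240))) = true := by decide +kernel
theorem e8Conj_5_654 : allRange 654 657 ((fun k => cdE8.checkConj (k / 240) (cdE8.cartI pairE8 (k / 240)) (reflE8 (k / 240)) (etaE8 (k / 240)) (k % 240))) = true := by decide +kernel
theorem e8Conj_5_657 : allRange 657 660 ((fun k => cdE8.checkConj (k / 240) (cdE8.cartI pairE8 (k / 240)) (reflE8 (k / 240)) (etaE8 (k / 240)) (k % 240))) = true := by decide +kernel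
theorem e8Conj_5_660 : allRange 660 663 ((fun k => cdE8.checkConj (k / 240) (cdE8.cartI pairE8 (k / 240)) (reflE8 (k / 240)) (etaE8 (k / 240)) (k % 240))) = true := by decide +kernel
theorem e8Conj_5_663 : allRange 663 666 ((fun k => cdE8.checkConj (k / 240) (cdE8.cartI pairE8 (k / 240)) (reflE8 (k / 240)) (etaE8 (k / 240)) (k % 240))) = true := by decide +kernel
theorem e8Conj_5_666 : allRange 666 669 ((fun k => cdE8.checkConj (k / 240) (cdE8.cartI pairE8 (k / 240)) (reflE8 (k / 240)) (etaE8 (k / 240)) (k % 240))) = true := by decide +kernel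
theorem e8Conj_5_669 : allRange 669 672 ((fun k => cdE8.checkConj (k / 240) (cdE8.cartI pairE8 (k / 240)) (reflE8 (k / 240)) (etaE8 (k / 240)) (k % 240))) = true := by decide +kernel
theorem e8Conj_5_672 : allRange 672 675 ((fun k => cdE8.checkConj (k / 240) (cdE8.cartI pairE8 (k / 240)) (reflE8 (k / 240)) (etaE8 (k / 240)) (k % 240))) = true := by decide +kernel
theorem e8Conj_5_675 : allRange 675 678 ((fun k => cdE8.checkConj (k / 240) (cdE8.cartI pairE8 (k / 240)) (reflE8 (k / 240)) (etaE8 (k / 240)) (k % 240))) = true := by decide +kernel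
theorem e8Conj_5_678 : allRange 678 681 ((fun k => cdE8.checkConj (k / 240) (cdE8.cartI pairE8 (k / 240)) (reflE8 (k / 240)) (etaE8 (k / 240)) (k % 240))) = true := by decide +kernel
theorem e8Conj_5_681 : allRange 681 684 ((fun k => cdE8.checkConj (k / 240) (cdE8.cartI pairE8 (k / 240)) (reflE8 (k / 240)) (etaE8 (k / 240)) (k % 240))) = true := by decide +kernel
theorem e8Conj_5_684 : allRange 684 687 ((fun k => cdE8.checkConj (k / 240) (cdE8.cartI pairE8 (k / 240)) (reflE8 (k / 240)) (etaE8 (k / 240)) (k % 240))) = true := by decide +kernel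
theorem e8Conj_5_687 : allRange 687 690 ((fun k => cdE8.checkConj (k / 240) (cdE8.cartI pairE8 (k / 240)) (reflE8 (k / 240)) (etaE8 (k / 240)) (k % 240))) = true := by decide +kernel
theorem e8Conj_5_690 : allRange 690 693 ((fun k => cdE8.checkConj (k / 240) (cdE8.cartI pairE8 (k / 240)) (reflE8 (k / 240)) (etaE8 (k / 240)) (k % 240))) = true := by decide +kernel
theorem e8Conj_5_693 : allRange 693 696 ((fun k => cdE8.checkConj (k / 240) (cdE8.cartI pairE8 (k / 240)) (reflE8 (k / 240)) (etaE8 (k / 240)) (k % 240))) = true := by decide +kernel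
theorem e8Conj_5_696 : allRange 696 699 ((fun k => cdE8.checkConj (k / 240) (cdE8.cartI pairE8 (k / 240)) (reflE8 (k / 240)) (etaE8 (k / 240)) (k % 240))) = true := by decide +kernel
theorem e8Conj_5_699 : allRange 699 702 ((fun k => cdE8.checkConj (k / 240) (cdE8.cartI pairE8 (k / 240)) (reflE8 (k / 240)) (etaE8 (k / 240)) (k % 240))) = true := by decide +kernel
theorem e8Conj_5_702 : allRange 702 705 ((fun k => cdE8.checkConj (k / 240) (cdE8.cartI pairE8 (k / 240)) (reflE8 (k / 240)) (etaE8 (k / 240)) (k % 240))) = true := by decide +kernel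
theorem e8Conj_5_705 : allRange 705 708 ((fun k => cdE8.checkConj (k / 240) (cdE8.cartI pairE8 (k / 240)) (reflE8 (k / 240)) (etaE8 (k / 240)) (k % 240))) = true := by decide +kernel
theorem e8Conj_5_708 : allRange 708 711 ((fun k => cdE8.checkConj (k / 240) (cdE8.cartI pairE8 (k / 240)) (reflE8 (k / 240)) (etaE8 (k / 240)) (k % 240))) = true := by decide +kernel
theorem e8Conj_5_711 : allRange 711 714 ((fun k => cdE8.checkConj (k / 240) (cdE8.cartI pairE8 (k / 240)) (reflE8 (k / 240)) (etaE8 (k / 240)) (k % 240))) = true := by decide +kernel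
theorem e8Conj_5_714 : allRange 714 717 ((fun k => cdE8.checkConj (k / 240) (cdE8.cartI pairE8 (k / 240)) (reflE8 (k / 240)) (etaE8 (k / 240)) (k % 240))) = true := by decide +kernel
theorem e8Conj_5_717 : allRange 717 720 ((fun k => cdE8.checkConj (k / 240) (cdE8.cartI pairE8 (k / 240)) (reflE8 (k / 240)) (etaE8 (k / 240)) (k % 240))) = true := by decide +kernel

/-- Conjugation of root elements by the `n_p` of type E8 (roots 600 to 719). -/
theorem e8Conj_5 : ∀ r, 600 ≤ r → r < 720 → ((fun k => cdE8.checkConj (k / 240) (cdE8.cartI pairE8 (k / 240)) (reflE8 (k / 240)) (etaE8 (k / 240)) (k % 240))) r = true := by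
  intro r h1 h2
  by_cases c0 : r < 603
  · exact allRange_spec e8Conj_5_600 r (by omega) c0
  by_cases c1 : r < 606
  · exact allRange_spec e8Conj_5_603 r (by omega) c1
  by_cases c2 : r < 609
  · exact allRange_spec e8Conj_5_606 r (by omega) c2
  by_cases c3 : r < 612
  · exact allRange_spec e8Conj_5_609 r (by omega) c3
  by_cases c4 : r < 615
  · exact allRange_spec e8Conj_5_612 r (by omega) c4
  by_cases c5 : r < 618
  · exact allRange_spec e8Conj_5_615 r (by omega) c5
  by_cases c6 : r < 621
  · exact allRange_spec e8Conj_5_618 r (by omega) c6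
  by_cases c7 : r < 624
  · exact allRange_spec e8Conj_5_621 r (by omega) c7
  by_cases c8 : r < 627
  · exact allRange_spec e8Conj_5_624 r (by omega) c8
  by_cases c9 : r < 630
  · exact allRange_spec e8Conj_5_627 r (by omega) c9
  by_cases c10 : r < 633
  · exact allRange_spec e8Conj_5_630 r (by omega) c10
  by_cases c11 : r < 636
  · exact allRange_spec e8Conj_5_633 r (by omega) c11
  by_cases c12 : r < 639
  · exact allRange_spec e8Conj_5_636 r (by omega) c12
  by_cases c13 : r < 642
  · exact allRange_spec e8Conj_5_639 r (by omega) c13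
  by_cases c14 : r < 645
  · exact allRange_spec e8Conj_5_642 r (by omega) c14
  by_cases c15 : r < 648
  · exact allRange_spec e8Conj_5_645 r (by omega) c15
  by_cases c16 : r < 651
  · exact allRange_spec e8Conj_5_648 r (by omega) c16
  by_cases c17 : r < 654
  · exact allRange_spec e8Conj_5_651 r (by omega) c17
  by_cases c18 : r < 657
  · exact allRange_spec e8Conj_5_654 r (by omega) c18
  by_cases c19 : r < 660
  · exact allRange_spec e8Conj_5_657 r (by omega) c19
  by_cases c20 : r < 663
  · exact allRange_spec e8Conj_5_660 r (by omega) c20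
  by_cases c21 : r < 666
  · exact allRange_spec e8Conj_5_663 r (by omega) c21
  by_cases c22 : r < 669
  · exact allRange_spec e8Conj_5_666 r (by omega) c22
  by_cases c23 : r < 672
  · exact allRange_spec e8Conj_5_669 r (by omega) c23
  by_cases c24 : r < 675
  · exact allRange_spec e8Conj_5_672 r (by omega) c24
  by_cases c25 : r < 678
  · exact allRange_spec e8Conj_5_675 r (by omega) c25
  by_cases c26 : r < 681
  · exact allRange_spec e8Conj_5_678 r (by omega) c26
  by_cases c27 : r < 684
  · exact allRange_spec e8Conj_5_681 r (by omega) c27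
  by_cases c28 : r < 687
  · exact allRange_spec e8Conj_5_684 r (by omega) c28
  by_cases c29 : r < 690
  · exact allRange_spec e8Conj_5_687 r (by omega) c29
  by_cases c30 : r < 693
  · exact allRange_spec e8Conj_5_690 r (by omega) c30
  by_cases c31 : r < 696
  · exact allRange_spec e8Conj_5_693 r (by omega) c31
  by_cases c32 : r < 699
  · exact allRange_spec e8Conj_5_696 r (by omega) c32
  by_cases c33 : r < 702
  · exact allRange_spec e8Conj_5_699 r (by omega) c33
  by_cases c34 : r < 705
  · exact allRange_spec e8Conj_5_702 r (by omega) c34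
  by_cases c35 : r < 708
  · exact allRange_spec e8Conj_5_705 r (by omega) c35
  by_cases c36 : r < 711
  · exact allRange_spec e8Conj_5_708 r (by omega) c36
  by_cases c37 : r < 714
  · exact allRange_spec e8Conj_5_711 r (by omega) c37
  by_cases c38 : r < 717
  · exact allRange_spec e8Conj_5_714 r (by omega) c38
  exact allRange_spec e8Conj_5_717 r (by omega) h2

end Cfsg.Agent.Lib.Helper3.ChevM
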