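import Cfsg.Agent.Lib.Helper3.ChevData.E8Datum
import Cfsg.Agent.Lib.Helper3.ChevData.E8Tabs
import Cfsg.Agent.Lib.Helper3.ChevM7
set_option autoImplicit false
set_option maxRecDepth 1000000
set_option Elab.async false

namespace Cfsg.Agent.Lib.Helper3.ChevM

theorem e8Conj_6_720 : allRange 720 723 ((fun k => cdE8.checkConj (k / 240) (cdE8.cartI pairE8 (k / 240)) (reflE8 (k / 240)) (etaE8 (k / 240)) (k % 240))) = true := by decide +kernel
theorem e8Conj_6_723 : allRange 723 726 ((fun k => cdE8.checkConj (k / 240) (cdE8.cartI pairE8 (k / 240)) (reflE8 (k / 240)) (etaE8 (k / 240)) (k % 240))) = true := by decide +kernel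
theorem e8Conj_6_726 : allRange 726 729 ((fun k => cdE8.checkConj (k / 240) (cdE8.cartI pairE8 (k / 240)) (reflE8 (k / 240)) (etaE8 (k / 240)) (k % 240))) = true := by decide +kernel
theorem e8Conj_6_729 : allRange 729 732 ((fun k => cdE8.checkConj (k / 240) (cdE8.cartI pairE8 (k / 240)) (reflE8 (k / 240)) (etaE8 (k / 240)) (k % 240))) = true := by decide +kernel
theorem e8Conj_6_732 : allRange 732 735 ((fun k => cdE8.checkConj (k / 240) (cdE8.cartI pairE8 (k / 240)) (reflE8 (k / 240)) (etaE8 (k / 240)) (k % 240))) = true := by decide +kernel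
theorem e8Conj_6_735 : allRange 735 738 ((fun k => cdE8.checkConj (k / 240) (cdE8.cartI pairE8 (k / 240)) (reflE8 (k / 240)) (etaE8 (k / 240)) (k % 240))) = true := by decide +kernel
theorem e8Conj_6_738 : allRange 738 741 ((fun k => cdE8.checkConj (k / 240) (cdE8.cartI pairE8 (k / 240)) (reflE8 (k / 240)) (etaE8 (k / 240)) (k % 240))) = true := by decide +kernel
theorem e8Conj_6_741 : allRange 741 744 ((fun k => cdE8.checkConj (k / 240) (cdE8.cartI pairE8 (k / 240)) (reflE8 (k / 240)) (etaE8 (k / 240)) (k % 240))) = true := by decide +kernel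
theorem e8Conj_6_744 : allRange 744 747 ((fun k => cdE8.checkConj (k / 240) (cdE8.cartI pairE8 (k / 240)) (reflE8 (k / 240)) (etaE8 (k / 240)) (k % 240))) = true := by decide +kernel
theorem e8Conj_6_747 : allRange 747 750 ((fun k => cdE8.checkConj (k / 240) (cdE8.cartI pairE8 (k / 240)) (reflE8 (k / 240)) (etaE8 (k / 240)) (k % 240))) = true := by decide +kernel
theorem e8Conj_6_750 : allRange 750 753 ((fun k => cdE8.checkConj (k / 240) (cdE8.cartI pairE8 (k / 240)) (reflE8 (k / 240)) (etaE8 (k / 240)) (k % 240))) = true := by decide +kernel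
theorem e8Conj_6_753 : allRange 753 756 ((fun k => cdE8.checkConj (k / 240) (cdE8.cartI pairE8 (k / 240)) (reflE8 (k / 240)) (etaE8 (k / 240)) (k % 240))) = true := by decide +kernel
theorem e8Conj_6_756 : allRange 756 759 ((fun k => cdE8.checkConj (k / 240) (cdE8.cartI pairE8 (k / 240)) (reflE8 (k / 240)) (etaE8 (k / 240)) (k % 240))) = true := by decide +kernel
theorem e8Conj_6_759 : allRange 759 762 ((fun k => cdE8.checkConj (k / 240) (cdE8.cartI pairE8 (k / 240)) (reflE8 (k / 240)) (etaE8 (k / 240)) (k % 240))) = true := by decide +kernel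
theorem e8Conj_6_762 : allRange 762 765 ((fun k => cdE8.checkConj (k / 240) (cdE8.cartI pairE8 (k / 240)) (reflE8 (k / 240)) (etaE8 (k / 240)) (k % 240))) = true := by decide +kernel
theorem e8Conj_6_765 : allRange 765 768 ((fun k => cdE8.checkConj (k / 240) (cdE8.cartI pairE8 (k / 240)) (reflE8 (k / 240)) (etaE8 (k / 240)) (k % 240))) = true := by decide +kernel
theorem e8Conj_6_768 : allRange 768 771 ((fun k => cdE8.checkConj (k / 240) (cdE8.cartI pairE8 (k / 240)) (reflE8 (k / 240)) (etaE8 (k / 240)) (k % 240))) = true := by decide +kernel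
theorem e8Conj_6_771 : allRange 771 774 ((fun k => cdE8.checkConj (k / 240) (cdE8.cartI pairE8 (k / 240)) (reflE8 (k / 240)) (etaE8 (k / 240)) (k % 240))) = true := by decide +kernel
theorem e8Conj_6_774 : allRange 774 777 ((fun k => cdE8.checkConj (k / 240) (cdE8.cartI pairE8 (k / 240)) (reflE8 (k / 240)) (etaE8 (k / 240)) (k % 240))) = true := by decide +kernel
theorem e8Conj_6_777 : allRange 777 780 ((fun k => cdE8.checkConj (k / 240) (cdE8.cartI pairE8 (k / 240)) (reflE8 (k / 240)) (etaE8 (k / 240)) (k % 240))) = true := by decide +kernel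
theorem e8Conj_6_780 : allRange 780 783 ((fun k => cdE8.checkConj (k / 240) (cdE8.cartI pairE8 (k / 240)) (reflE8 (k / 240)) (etaE8 (k / 240)) (k % 240))) = true := by decide +kernel
theorem e8Conj_6_783 : allRange 783 786 ((fun k => cdE8.checkConj (k / 240) (cdE8.cartI pairE8 (k / 240)) (reflE8 (k / 240)) (etaE8 (k / 240)) (k % 240))) = true := by decide +kernel
theorem e8Conj_6_786 : allRange 786 789 ((fun k => cdE8.checkConj (k / 240) (cdE8.cartI pairE8 (k / 240)) (reflE8 (k / 240)) (etaE8 (k / 240)) (k % 240))) = true := by decide +kernel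
theorem e8Conj_6_789 : allRange 789 792 ((fun k => cdE8.checkConj (k / 240) (cdE8.cartI pairE8 (k / 240)) (reflE8 (k / 240)) (etaE8 (k / 240)) (k % 240))) = true := by decide +kernel
theorem e8Conj_6_792 : allRange 792 795 ((fun k => cdE8.checkConj (k / 240) (cdE8.cartI pairE8 (k / 240)) (reflE8 (k / 240)) (etaE8 (k / 240)) (k % 240))) = true := by decide +kernel
theorem e8Conj_6_795 : allRange 795 798 ((fun k => cdE8.checkConj (k / 240) (cdE8.cartI pairE8 (k / 240)) (reflE8 (k / 240)) (etaE8 (k / 240)) (k % 240))) = true := by decide +kernel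
theorem e8Conj_6_798 : allRange 798 801 ((fun k => cdE8.checkConj (k / 240) (cdE8.cartI pairE8 (k / 240)) (reflE8 (k / 240)) (etaE8 (k / 240)) (k % 240))) = true := by decide +kernel
theorem e8Conj_6_801 : allRange 801 804 ((fun k => cdE8.checkConj (k / 240) (cdE8.cartI pairE8 (k / 240)) (reflE8 (k / 240)) (etaE8 (k / 240)) (k % 240))) = true := by decide +kernel
theorem e8Conj_6_804 : allRange 804 807 ((fun k => cdE8.checkConj (k / 240) (cdE8.cartI pairE8 (k / 240)) (reflE8 (k / 240)) (etaE8 (k / 240)) (k % 240))) = true := by decide +kernel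
theorem e8Conj_6_807 : allRange 807 810 ((fun k => cdE8.checkConj (k / 240) (cdE8.cartI pairE8 (k / 240)) (reflE8 (k / 240)) (etaE8 (k / 240)) (k % 240))) = true := by decide +kernel
theorem e8Conj_6_810 : allRange 810 813 ((fun k => cdE8.checkConj (k / 240) (cdE8.cartI pairE8 (k / 240)) (reflE8 (k / 240)) (etaE8 (k / 240)) (k % 240))) = true := by decide +kernel
theorem e8Conj_6_813 : allRange 813 816 ((fun k => cdE8.checkConj (k / 240) (cdE8.cartI pairE8 (k / 240)) (reflE8 (k / 240)) (etaE8 (k / 240)) (k % 240))) = true := by decide +kernel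
theorem e8Conj_6_816 : allRange 816 819 ((fun k => cdE8.checkConj (k / 240) (cdE8.cartI pairE8 (k / 240)) (reflE8 (k / 240)) (etaE8 (k / 240)) (k % 240))) = true := by decide +kernel
theorem e8Conj_6_819 : allRange 819 822 ((fun k => cdE8.checkConj (k / 240) (cdE8.cartI pairE8 (k / 240)) (reflE8 (k / 240)) (etaE8 (k / 240)) (k % 240))) = true := by decide +kernel
theorem e8Conj_6_822 : allRange 822 825 ((fun k => cdE8.checkConj (k / 240) (cdE8.cartI pairE8 (k / 240)) (reflE8 (k / 240)) (etaE8 (k / 240)) (k % 240))) = true := by decide +kernel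
theorem e8Conj_6_825 : allRange 825 828 ((fun k => cdE8.checkConj (k / 240) (cdE8.cartI pairE8 (k / 240)) (reflE8 (k / 240)) (etaE8 (k / 240)) (k % 240))) = true := by decide +kernel
theorem e8Conj_6_828 : allRange 828 831 ((fun k => cdE8.checkConj (k / 240) (cdE8.cartI pairE8 (k / 240)) (reflE8 (k / 240)) (etaE8 (k / 240)) (k % 240))) = true := by decide +kernel
theorem e8Conj_6_831 : allRange 831 834 ((fun k => cdE8.checkConj (k / 240) (cdE8.cartI pairE8 (k / 240)) (reflE8 (k / 240)) (etaE8 (k / 240)) (k % 240))) = true := by decide +kernel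
theorem e8Conj_6_834 : allRange 834 837 ((fun k => cdE8.checkConj (k / 240) (cdE8.cartI pairE8 (k / 240)) (reflE8 (k / 240)) (etaE8 (k / 240)) (k % 240))) = true := by decide +kernel
theorem e8Conj_6_837 : allRange 837 840 ((fun k => cdE8.checkConj (k / 240) (cdE8.cartI pairE8 (k / 240)) (reflE8 (k / 240)) (etaE8 (k / 240)) (k % 240))) = true := by decide +kernel

/-- Conjugation of root elements by the `n_p` of type E8 (roots 720 to 839). -/
theorem e8Conj_6 : ∀ r, 720 ≤ r → r < 840 → ((fun k => cdE8.checkConj (k / 240) (cdE8.cartI pairE8 (k / 240)) (reflE8 (k / 240)) (etaE8 (k / 240)) (k % 240))) r = true := by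
  intro r h1 h2
  by_cases c0 : r < 723
  · exact allRange_spec e8Conj_6_720 r (by omega) c0
  by_cases c1 : r < 726
  · exact allRange_spec e8Conj_6_723 r (by omega) c1
  by_cases c2 : r < 729
  · exact allRange_spec e8Conj_6_726 r (by omega) c2
  by_cases c3 : r < 732
  · exact allRange_spec e8Conj_6_729 r (by omega) c3
  by_cases c4 : r < 735
  · exact allRange_spec e8Conj_6_732 r (by omega) c4
  by_cases c5 : r < 738
  · exact allRange_spec e8Conj_6_735 r (by omega) c5
  by_cases c6 : r < 741
  · exact allRange_spec e8Conj_6_738 r (by omega) c6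
  by_cases c7 : r < 744
  · exact allRange_spec e8Conj_6_741 r (by omega) c7
  by_cases c8 : r < 747
  · exact allRange_spec e8Conj_6_744 r (by omega) c8
  by_cases c9 : r < 750
  · exact allRange_spec e8Conj_6_747 r (by omega) c9
  by_cases c10 : r < 753
  · exact allRange_spec e8Conj_6_750 r (by omega) c10
  by_cases c11 : r < 756
  · exact allRange_spec e8Conj_6_753 r (by omega) c11
  by_cases c12 : r < 759
  · exact allRange_spec e8Conj_6_756 r (by omega) c12
  by_cases c13 : r < 762
  · exact allRange_spec e8Conj_6_759 r (by omega) c13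
  by_cases c14 : r < 765
  · exact allRange_spec e8Conj_6_762 r (by omega) c14
  by_cases c15 : r < 768
  · exact allRange_spec e8Conj_6_765 r (by omega) c15
  by_cases c16 : r < 771
  · exact allRange_spec e8Conj_6_768 r (by omega) c16
  by_cases c17 : r < 774
  · exact allRange_spec e8Conj_6_771 r (by omega) c17
  by_cases c18 : r < 777
  · exact allRange_spec e8Conj_6_774 r (by omega) c18
  by_cases c19 : r < 780
  · exact allRange_spec e8Conj_6_777 r (by omega) c19
  by_cases c20 : r < 783
  · exact allRange_spec e8Conj_6_780 r (by omega) c20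
  by_cases c21 : r < 786
  · exact allRange_spec e8Conj_6_783 r (by omega) c21
  by_cases c22 : r < 789
  · exact allRange_spec e8Conj_6_786 r (by omega) c22
  by_cases c23 : r < 792
  · exact allRange_spec e8Conj_6_789 r (by omega) c23
  by_cases c24 : r < 795
  · exact allRange_spec e8Conj_6_792 r (by omega) c24
  by_cases c25 : r < 798
  · exact allRange_spec e8Conj_6_795 r (by omega) c25
  by_cases c26 : r < 801
  · exact allRange_spec e8Conj_6_798 r (by omega) c26
  by_cases c27 : r < 804
  · exact allRange_spec e8Conj_6_801 r (by omega) c27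
  by_cases c28 : r < 807
  · exact allRange_spec e8Conj_6_804 r (by omega) c28
  by_cases c29 : r < 810
  · exact allRange_spec e8Conj_6_807 r (by omega) c29
  by_cases c30 : r < 813
  · exact allRange_spec e8Conj_6_810 r (by omega) c30
  by_cases c31 : r < 816
  · exact allRange_spec e8Conj_6_813 r (by omega) c31
  by_cases c32 : r < 819
  · exact allRange_spec e8Conj_6_816 r (by omega) c32
  by_cases c33 : r < 822
  · exact allRange_spec e8Conj_6_819 r (by omega) c33
  by_cases c34 : r < 825
  · exact allRange_spec e8Conj_6_822 r (by omega) c34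
  by_cases c35 : r < 828
  · exact allRange_spec e8Conj_6_825 r (by omega) c35
  by_cases c36 : r < 831
  · exact allRange_spec e8Conj_6_828 r (by omega) c36
  by_cases c37 : r < 834
  · exact allRange_spec e8Conj_6_831 r (by omega) c37
  by_cases c38 : r < 837
  · exact allRange_spec e8Conj_6_834 r (by omega) c38
  exact allRange_spec e8Conj_6_837 r (by omega) h2

end Cfsg.Agent.Lib.Helper3.ChevM
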