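import Cfsg.Agent.Lib.Helper3.ChevData.E8Datum
import Cfsg.Agent.Lib.Helper3.ChevData.E8Tabs
import Cfsg.Agent.Lib.Helper3.ChevM7
set_option autoImplicit false
set_option maxRecDepth 1000000
set_option Elab.async false

namespace Cfsg.Agent.Lib.Helper3.ChevM

theorem e8Conj_7_840 : allRange 840 843 ((fun k => cdE8.checkConj (k / 240) (cdE8.cartI pairE8 (k / 240)) (reflE8 (k / 240)) (etaE8 (k / 240)) (k % 240))) = true := by decide +kernel
theorem e8Conj_7_843 : allRange 843 846 ((fun k => cdE8.checkConj (k / 240) (cdE8.cartI pairE8 (k / 240)) (reflE8 (k / 240)) (etaE8 (k / 240)) (k % 240))) = true := by decide +kernel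
theorem e8Conj_7_846 : allRange 846 849 ((fun k => cdE8.checkConj (k / 240) (cdE8.cartI pairE8 (k / 240)) (reflE8 (k / 240)) (etaE8 (k / 240)) (k % 240))) = true := by decide +kernel
theorem e8Conj_7_849 : allRange 849 852 ((fun k => cdE8.checkConj (k / 240) (cdE8.cartI pairE8 (k / 240)) (reflE8 (k / 240)) (etaE8 (k / 240)) (k % 240))) = true := by decide +kernel
theorem e8Conj_7_852 : allRange 852 855 ((fun k => cdE8.checkConj (k / 240) (cdE8.cartI pairE8 (k / 240)) (reflE8 (k / 240)) (etaE8 (k / 240)) (k % 240))) = true := by decide +kernel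
theorem e8Conj_7_855 : allRange 855 858 ((fun k => cdE8.checkConj (k / 240) (cdE8.cartI pairE8 (k / 240)) (reflE8 (k / 240)) (etaE8 (k / 240)) (k % 240))) = true := by decide +kernel
theorem e8Conj_7_858 : allRange 858 861 ((fun k => cdE8.checkConj (k / 240) (cdE8.cartI pairE8 (k / 240)) (reflE8 (k / 240)) (etaE8 (k / 240)) (k % 240))) = true := by decide +kernel
theorem e8Conj_7_861 : allRange 861 864 ((fun k => cdE8.checkConj (k / 240) (cdE8.cartI pairE8 (k / 240)) (reflE8 (k / 240)) (etaE8 (k / 240)) (k % 240))) = true := by decide +kernel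
theorem e8Conj_7_864 : allRange 864 867 ((fun k => cdE8.checkConj (k / 240) (cdE8.cartI pairE8 (k / 240)) (reflE8 (k / 240)) (etaE8 (k / 240)) (k % 240))) = true := by decide +kernel
theorem e8Conj_7_867 : allRange 867 870 ((fun k => cdE8.checkConj (k / 240) (cdE8.cartI pairE8 (k / 240)) (reflE8 (k / 240)) (etaE8 (k / 240)) (k % 240))) = true := by decide +kernel
theorem e8Conj_7_870 : allRange 870 873 ((fun k => cdE8.checkConj (k / 240) (cdE8.cartI pairE8 (k / 240)) (reflE8 (k / 240)) (etaE8 (k / 240)) (k % 240))) = true := by decide +kernel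
theorem e8Conj_7_873 : allRange 873 876 ((fun k => cdE8.checkConj (k / 240) (cdE8.cartI pairE8 (k / 240)) (reflE8 (k / 240)) (etaE8 (k / 240)) (k % 240))) = true := by decide +kernel
theorem e8Conj_7_876 : allRange 876 879 ((fun k => cdE8.checkConj (k / 240) (cdE8.cartI pairE8 (k / 240)) (reflE8 (k / 240)) (etaE8 (k / 240)) (k % 240))) = true := by decide +kernel
theorem e8Conj_7_879 : allRange 879 882 ((fun k => cdE8.checkConj (k / 240) (cdE8.cartI pairE8 (k / 240)) (reflE8 (k / 240)) (etaE8 (k / 240)) (k % 240))) = true := by decide +kernel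
theorem e8Conj_7_882 : allRange 882 885 ((fun k => cdE8.checkConj (k / 240) (cdE8.cartI pairE8 (k / 240)) (reflE8 (k / 240)) (etaE8 (k / 240)) (k % 240))) = true := by decide +kernel
theorem e8Conj_7_885 : allRange 885 888 ((fun k => cdE8.checkConj (k / 240) (cdE8.cartI pairE8 (k / 240)) (reflE8 (k / 240)) (etaE8 (k / 240)) (k % 240))) = true := by decide +kernel
theorem e8Conj_7_888 : allRange 888 891 ((fun k => cdE8.checkConj (k / 240) (cdE8.cartI pairE8 (k / 240)) (reflE8 (k / 240)) (etaE8 (k / 240)) (k % 240))) = true := by decide +kernel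
theorem e8Conj_7_891 : allRange 891 894 ((fun k => cdE8.checkConj (k / 240) (cdE8.cartI pairE8 (k / 240)) (reflE8 (k / 240)) (etaE8 (k / 240)) (k % 240))) = true := by decide +kernel
theorem e8Conj_7_894 : allRange 894 897 ((fun k => cdE8.checkConj (k / 240) (cdE8.cartI pairE8 (k / 240)) (reflE8 (k / 240)) (etaE8 (k / 240)) (k % 240))) = true := by decide +kernel
theorem e8Conj_7_897 : allRange 897 900 ((fun k => cdE8.checkConj (k / 240) (cdE8.cartI pairE8 (k / 240)) (reflE8 (k / 240)) (etaE8 (k / 240)) (k % 240))) = true := by decide +kernel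
theorem e8Conj_7_900 : allRange 900 903 ((fun k => cdE8.checkConj (k / 240) (cdE8.cartI pairE8 (k / 240)) (reflE8 (k / 240)) (etaE8 (k / 240)) (k % 240))) = true := by decide +kernel
theorem e8Conj_7_903 : allRange 903 906 ((fun k => cdE8.checkConj (k / 240) (cdE8.cartI pairE8 (k / 240)) (reflE8 (k / 240)) (etaE8 (k / 240)) (k % 240))) = true := by decide +kernel
theorem e8Conj_7_906 : allRange 906 909 ((fun k => cdE8.checkConj (k / 240) (cdE8.cartI pairE8 (k / 240)) (reflE8 (k / 240)) (etaE8 (k / 240)) (k % 240))) = true := by decide +kernel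
theorem e8Conj_7_909 : allRange 909 912 ((fun k => cdE8.checkConj (k / 240) (cdE8.cartI pairE8 (k / 240)) (reflE8 (k / 240)) (etaE8 (k / 240)) (k % 240))) = true := by decide +kernel
theorem e8Conj_7_912 : allRange 912 915 ((fun k => cdE8.checkConj (k / 240) (cdE8.cartI pairE8 (k / 240)) (reflE8 (k / 240)) (etaE8 (k / 240)) (k % 240))) = true := by decide +kernel
theorem e8Conj_7_915 : allRange 915 918 ((fun k => cdE8.checkConj (k / 240) (cdE8.cartI pairE8 (k / 240)) (reflE8 (k / 240)) (etaE8 (k / 240)) (k % 240))) = true := by decide +kernel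
theorem e8Conj_7_918 : allRange 918 921 ((fun k => cdE8.checkConj (k / 240) (cdE8.cartI pairE8 (k / 240)) (reflE8 (k / 240)) (etaE8 (k / 240)) (k % 240))) = true := by decide +kernel
theorem e8Conj_7_921 : allRange 921 924 ((fun k => cdE8.checkConj (k / 240) (cdE8.cartI pairE8 (k / 240)) (reflE8 (k / 240)) (etaE8 (k / 240)) (k % 240))) = true := by decide +kernel
theorem e8Conj_7_924 : allRange 924 927 ((fun k => cdE8.checkConj (k / 240) (cdE8.cartI pairE8 (k / 240)) (reflE8 (k / 240)) (etaE8 (k / 240)) (k % 240))) = true := by decide +kernel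
theorem e8Conj_7_927 : allRange 927 930 ((fun k => cdE8.checkConj (k / 240) (cdE8.cartI pairE8 (k / 240)) (reflE8 (k / 240)) (etaE8 (k / 240)) (k % 240))) = true := by decide +kernel
theorem e8Conj_7_930 : allRange 930 933 ((fun k => cdE8.checkConj (k / 240) (cdE8.cartI pairE8 (k / 240)) (reflE8 (k / 240)) (etaE8 (k / 240)) (k % 240))) = true := by decide +kernel
theorem e8Conj_7_933 : allRange 933 936 ((fun k => cdE8.checkConj (k / 240) (cdE8.cartI pairE8 (k / 240)) (reflE8 (k / 240)) (etaE8 (k / 240)) (k % 240))) = true := by decide +kernel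
theorem e8Conj_7_936 : allRange 936 939 ((fun k => cdE8.checkConj (k / 240) (cdE8.cartI pairE8 (k / 240)) (reflE8 (k / 240)) (etaE8 (k / 240)) (k % 240))) = true := by decide +kernel
theorem e8Conj_7_939 : allRange 939 942 ((fun k => cdE8.checkConj (k / 240) (cdE8.cartI pairE8 (k / 240)) (reflE8 (k / 240)) (etaE8 (k / 240)) (k % 240))) = true := by decide +kernel
theorem e8Conj_7_942 : allRange 942 945 ((fun k => cdE8.checkConj (k / 240) (cdE8.cartI pairE8 (k / 240)) (reflE8 (k / 240)) (etaE8 (k / 240)) (k % 240))) = true := by decide +kernel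
theorem e8Conj_7_945 : allRange 945 948 ((fun k => cdE8.checkConj (k / 240) (cdE8.cartI pairE8 (k / 240)) (reflE8 (k / 240)) (etaE8 (k / 240)) (k % 240))) = true := by decide +kernel
theorem e8Conj_7_948 : allRange 948 951 ((fun k => cdE8.checkConj (k / 240) (cdE8.cartI pairE8 (k / 240)) (reflE8 (k / 240)) (etaE8 (k / 240)) (k % 240))) = true := by decide +kernel
theorem e8Conj_7_951 : allRange 951 954 ((fun k => cdE8.checkConj (k / 240) (cdE8.cartI pairE8 (k / 240)) (reflE8 (k / 240)) (etaE8 (k / 240)) (k % 240))) = true := by decide +kernel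
theorem e8Conj_7_954 : allRange 954 957 ((fun k => cdE8.checkConj (k / 240) (cdE8.cartI pairE8 (k / 240)) (reflE8 (k / 240)) (etaE8 (k / 240)) (k % 240))) = true := by decide +kernel
theorem e8Conj_7_957 : allRange 957 960 ((fun k => cdE8.checkConj (k / 240) (cdE8.cartI pairE8 (k / 240)) (reflE8 (k / 240)) (etaE8 (k / 240)) (k % 240))) = true := by decide +kernel

/-- Conjugation of root elements by the `n_p` of type E8 (roots 840 to 959). -/
theorem e8Conj_7 : ∀ r, 840 ≤ r → r < 960 → ((fun k => cdE8.checkConj (k / 240) (cdE8.cartI pairE8 (k / 240)) (reflE8 (k / 240)) (etaE8 (k / 240)) (k % 240))) r = true := by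
  intro r h1 h2
  by_cases c0 : r < 843
  · exact allRange_spec e8Conj_7_840 r (by omega) c0
  by_cases c1 : r < 846
  · exact allRange_spec e8Conj_7_843 r (by omega) c1
  by_cases c2 : r < 849
  · exact allRange_spec e8Conj_7_846 r (by omega) c2
  by_cases c3 : r < 852
  · exact allRange_spec e8Conj_7_849 r (by omega) c3
  by_cases c4 : r < 855
  · exact allRange_spec e8Conj_7_852 r (by omega) c4
  by_cases c5 : r < 858
  · exact allRange_spec e8Conj_7_855 r (by omega) c5
  by_cases c6 : r < 861
  · exact allRange_spec e8Conj_7_858 r (by omega) c6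
  by_cases c7 : r < 864
  · exact allRange_spec e8Conj_7_861 r (by omega) c7
  by_cases c8 : r < 867
  · exact allRange_spec e8Conj_7_864 r (by omega) c8
  by_cases c9 : r < 870
  · exact allRange_spec e8Conj_7_867 r (by omega) c9
  by_cases c10 : r < 873
  · exact allRange_spec e8Conj_7_870 r (by omega) c10
  by_cases c11 : r < 876
  · exact allRange_spec e8Conj_7_873 r (by omega) c11
  by_cases c12 : r < 879
  · exact allRange_spec e8Conj_7_876 r (by omega) c12
  by_cases c13 : r < 882
  · exact allRange_spec e8Conj_7_879 r (by omega) c13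
  by_cases c14 : r < 885
  · exact allRange_spec e8Conj_7_882 r (by omega) c14
  by_cases c15 : r < 888
  · exact allRange_spec e8Conj_7_885 r (by omega) c15
  by_cases c16 : r < 891
  · exact allRange_spec e8Conj_7_888 r (by omega) c16
  by_cases c17 : r < 894
  · exact allRange_spec e8Conj_7_891 r (by omega) c17
  by_cases c18 : r < 897
  · exact allRange_spec e8Conj_7_894 r (by omega) c18
  by_cases c19 : r < 900
  · exact allRange_spec e8Conj_7_897 r (by omega) c19
  by_cases c20 : r < 903
  · exact allRange_spec e8Conj_7_900 r (by omega) c20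
  by_cases c21 : r < 906
  · exact allRange_spec e8Conj_7_903 r (by omega) c21
  by_cases c22 : r < 909
  · exact allRange_spec e8Conj_7_906 r (by omega) c22
  by_cases c23 : r < 912
  · exact allRange_spec e8Conj_7_909 r (by omega) c23
  by_cases c24 : r < 915
  · exact allRange_spec e8Conj_7_912 r (by omega) c24
  by_cases c25 : r < 918
  · exact allRange_spec e8Conj_7_915 r (by omega) c25
  by_cases c26 : r < 921
  · exact allRange_spec e8Conj_7_918 r (by omega) c26
  by_cases c27 : r < 924
  · exact allRange_spec e8Conj_7_921 r (by omega) c27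
  by_cases c28 : r < 927
  · exact allRange_spec e8Conj_7_924 r (by omega) c28
  by_cases c29 : r < 930
  · exact allRange_spec e8Conj_7_927 r (by omega) c29
  by_cases c30 : r < 933
  · exact allRange_spec e8Conj_7_930 r (by omega) c30
  by_cases c31 : r < 936
  · exact allRange_spec e8Conj_7_933 r (by omega) c31
  by_cases c32 : r < 939
  · exact allRange_spec e8Conj_7_936 r (by omega) c32
  by_cases c33 : r < 942
  · exact allRange_spec e8Conj_7_939 r (by omega) c33
  by_cases c34 : r < 945
  · exact allRange_spec e8Conj_7_942 r (by omega) c34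
  by_cases c35 : r < 948
  · exact allRange_spec e8Conj_7_945 r (by omega) c35
  by_cases c36 : r < 951
  · exact allRange_spec e8Conj_7_948 r (by omega) c36
  by_cases c37 : r < 954
  · exact allRange_spec e8Conj_7_951 r (by omega) c37
  by_cases c38 : r < 957
  · exact allRange_spec e8Conj_7_954 r (by omega) c38
  exact allRange_spec e8Conj_7_957 r (by omega) h2

end Cfsg.Agent.Lib.Helper3.ChevM
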