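import Cfsg.Agent.Lib.Helper3.ChevData.E8Datum
import Cfsg.Agent.Lib.Helper3.ChevData.E8Tabs
import Cfsg.Agent.Lib.Helper3.ChevM7
set_option autoImplicit false
set_option maxRecDepth 1000000
set_option Elab.async false

namespace Cfsg.Agent.Lib.Helper3.ChevM

theorem e8Conj_8_960 : allRange 960 963 ((fun k => cdE8.checkConj (k / 240) (cdE8.cartI pairE8 (k / 240)) (reflE8 (k / 240)) (etaE8 (k / 240)) (k % 240))) = true := by decide +kernel
theorem e8Conj_8_963 : allRange 963 966 ((fun k => cdE8.checkConj (k / 240) (cdE8.cartI pairE8 (k / 240)) (reflE8 (k / 240)) (etaE8 (k / 240)) (k % 240))) = true := by decide +kernel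
theorem e8Conj_8_966 : allRange 966 969 ((fun k => cdE8.checkConj (k / 240) (cdE8.cartI pairE8 (k / 240)) (reflE8 (k / 240)) (etaE8 (k / 240)) (k % 240))) = true := by decide +kernel
theorem e8Conj_8_969 : allRange 969 972 ((fun k => cdE8.checkConj (k / 240) (cdE8.cartI pairE8 (k / 240)) (reflE8 (k / 240)) (etaE8 (k / 240)) (k % 240))) = true := by decide +kernel
theorem e8Conj_8_972 : allRange 972 975 ((fun k => cdE8.checkConj (k / 240) (cdE8.cartI pairE8 (k / 240)) (reflE8 (k / 240)) (etaE8 (k / 240)) (k % 240))) = true := by decide +kernel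
theorem e8Conj_8_975 : allRange 975 978 ((fun k => cdE8.checkConj (k / 240) (cdE8.cartI pairE8 (k / 240)) (reflE8 (k / 240)) (etaE8 (k / 240)) (k % 240))) = true := by decide +kernel
theorem e8Conj_8_978 : allRange 978 981 ((fun k => cdE8.checkConj (k / 240) (cdE8.cartI pairE8 (k / 240)) (reflE8 (k / 240)) (etaE8 (k / 240)) (k % 240))) = true := by decide +kernel
theorem e8Conj_8_981 : allRange 981 984 ((fun k => cdE8.checkConj (k / 240) (cdE8.cartI pairE8 (k / 240)) (reflE8 (k / 240)) (etaE8 (k / 240)) (k % 240))) = true := by decide +kernel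
theorem e8Conj_8_984 : allRange 984 987 ((fun k => cdE8.checkConj (k / 240) (cdE8.cartI pairE8 (k / 240)) (reflE8 (k / 240)) (etaE8 (k / 240)) (k % 240))) = true := by decide +kernel
theorem e8Conj_8_987 : allRange 987 990 ((fun k => cdE8.checkConj (k / 240) (cdE8.cartI pairE8 (k / 240)) (reflE8 (k / 240)) (etaE8 (k / 240)) (k % 240))) = true := by decide +kernel
theorem e8Conj_8_990 : allRange 990 993 ((fun k => cdE8.checkConj (k / 240) (cdE8.cartI pairE8 (k / 240)) (reflE8 (k / 240)) (etaE8 (k / 240)) (k % 240))) = true := by decide +kernel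
theorem e8Conj_8_993 : allRange 993 996 ((fun k => cdE8.checkConj (k / 240) (cdE8.cartI pairE8 (k / 240)) (reflE8 (k / 240)) (etaE8 (k / 240)) (k % 240))) = true := by decide +kernel
theorem e8Conj_8_996 : allRange 996 999 ((fun k => cdE8.checkConj (k / 240) (cdE8.cartI pairE8 (k / 240)) (reflE8 (k / 240)) (etaE8 (k / 240)) (k % 240))) = true := by decide +kernel
theorem e8Conj_8_999 : allRange 999 1002 ((fun k => cdE8.checkConj (k / 240) (cdE8.cartI pairE8 (k / 240)) (reflE8 (k / 240)) (etaE8 (k / 240)) (k % 240))) = true := by decide +kernel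
theorem e8Conj_8_1002 : allRange 1002 1005 ((fun k => cdE8.checkConj (k / 240) (cdE8.cartI pairE8 (k / 240)) (reflE8 (k / 240)) (etaE8 (k / 240)) (k % 240))) = true := by decide +kernel
theorem e8Conj_8_1005 : allRange 1005 1008 ((fun k => cdE8.checkConj (k / 240) (cdE8.cartI pairE8 (k / 240)) (reflE8 (k / 240)) (etaE8 (k / 240)) (k % 240))) = true := by decide +kernel
theorem e8Conj_8_1008 : allRange 1008 1011 ((fun k => cdE8.checkConj (k / 240) (cdE8.cartI pairE8 (k / 240)) (reflE8 (k / 240)) (etaE8 (k / 240)) (k % 240))) = true := by decide +kernel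
theorem e8Conj_8_1011 : allRange 1011 1014 ((fun k => cdE8.checkConj (k / 240) (cdE8.cartI pairE8 (k / 240)) (reflE8 (k / 240)) (etaE8 (k / 240)) (k % 240))) = true := by decide +kernel
theorem e8Conj_8_1014 : allRange 1014 1017 ((fun k => cdE8.checkConj (k / 240) (cdE8.cartI pairE8 (k / 240)) (reflE8 (k / 240)) (etaE8 (k / 240)) (k % 240))) = true := by decide +kernel
theorem e8Conj_8_1017 : allRange 1017 1020 ((fun k => cdE8.checkConj (k / 240) (cdE8.cartI pairE8 (k / 240)) (reflE8 (k / 240)) (etaE8 (k / 240)) (k % 240))) = true := by decide +kernel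
theorem e8Conj_8_1020 : allRange 1020 1023 ((fun k => cdE8.checkConj (k / 240) (cdE8.cartI pairE8 (k / 240)) (reflE8 (k / 240)) (etaE8 (k / 240)) (k % 240))) = true := by decide +kernel
theorem e8Conj_8_1023 : allRange 1023 1026 ((fun k => cdE8.checkConj (k / 240) (cdE8.cartI pairE8 (k / 240)) (reflE8 (k / 240)) (etaE8 (k / 240)) (k % 240))) = true := by decide +kernel
theorem e8Conj_8_1026 : allRange 1026 1029 ((fun k => cdE8.checkConj (k / 240) (cdE8.cartI pairE8 (k / 240)) (reflE8 (k / 240)) (etaE8 (k / 240)) (k % 240))) = true := by decide +kernel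
theorem e8Conj_8_1029 : allRange 1029 1032 ((fun k => cdE8.checkConj (k / 240) (cdE8.cartI pairE8 (k / 240)) (reflE8 (k / 240)) (etaE8 (k / 240)) (k % 240))) = true := by decide +kernel
theorem e8Conj_8_1032 : allRange 1032 1035 ((fun k => cdE8.checkConj (k / 240) (cdE8.cartI pairE8 (k / 240)) (reflE8 (k / 240)) (etaE8 (k / 240)) (k % 240))) = true := by decide +kernel
theorem e8Conj_8_1035 : allRange 1035 1038 ((fun k => cdE8.checkConj (k / 240) (cdE8.cartI pairE8 (k / 240)) (reflE8 (k / 240)) (etaE8 (k / 240)) (k % 240))) = true := by decide +kernel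
theorem e8Conj_8_1038 : allRange 1038 1041 ((fun k => cdE8.checkConj (k / 240) (cdE8.cartI pairE8 (k / 240)) (reflE8 (k / 240)) (etaE8 (k / 240)) (k % 240))) = true := by decide +kernel
theorem e8Conj_8_1041 : allRange 1041 1044 ((fun k => cdE8.checkConj (k / 240) (cdE8.cartI pairE8 (k / 240)) (reflE8 (k / 240)) (etaE8 (k / 240)) (k % 240))) = true := by decide +kernel
theorem e8Conj_8_1044 : allRange 1044 1047 ((fun k => cdE8.checkConj (k / 240) (cdE8.cartI pairE8 (k / 240)) (reflE8 (k / 240)) (etaE8 (k / 240)) (k % 240))) = true := by decide +kernel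
theorem e8Conj_8_1047 : allRange 1047 1050 ((fun k => cdE8.checkConj (k / 240) (cdE8.cartI pairE8 (k / 240)) (reflE8 (k / 240)) (etaE8 (k / 240)) (k % 240))) = true := by decide +kernel
theorem e8Conj_8_1050 : allRange 1050 1053 ((fun k => cdE8.checkConj (k / 240) (cdE8.cartI pairE8 (k / 240)) (reflE8 (k / 240)) (etaE8 (k / 240)) (k % 240))) = true := by decide +kernel
theorem e8Conj_8_1053 : allRange 1053 1056 ((fun k => cdE8.checkConj (k / 240) (cdE8.cartI pairE8 (k / 240)) (reflE8 (k / 240)) (etaE8 (k / 240)) (k % 240))) = true := by decide +kernel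
theorem e8Conj_8_1056 : allRange 1056 1059 ((fun k => cdE8.checkConj (k / 240) (cdE8.cartI pairE8 (k / 240)) (reflE8 (k / 240)) (etaE8 (k / 240)) (k % 240))) = true := by decide +kernel
theorem e8Conj_8_1059 : allRange 1059 1062 ((fun k => cdE8.checkConj (k / 240) (cdE8.cartI pairE8 (k / 240)) (reflE8 (k / 240)) (etaE8 (k / 240)) (k % 240))) = true := by decide +kernel
theorem e8Conj_8_1062 : allRange 1062 1065 ((fun k => cdE8.checkConj (k / 240) (cdE8.cartI pairE8 (k / 240)) (reflE8 (k / 240)) (etaE8 (k / 240)) (k % 240))) = true := by decide +kernel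
theorem e8Conj_8_1065 : allRange 1065 1068 ((fun k => cdE8.checkConj (k / 240) (cdE8.cartI pairE8 (k / 240)) (reflE8 (k / 240)) (etaE8 (k / 240)) (k % 240))) = true := by decide +kernel
theorem e8Conj_8_1068 : allRange 1068 1071 ((fun k => cdE8.checkConj (k / 240) (cdE8.cartI pairE8 (k / 240)) (reflE8 (k / 240)) (etaE8 (k / 240)) (k % 240))) = true := by decide +kernel
theorem e8Conj_8_1071 : allRange 1071 1074 ((fun k => cdE8.checkConj (k / 240) (cdE8.cartI pairE8 (k / 240)) (reflE8 (k / 240)) (etaE8 (k / 240)) (k % 240))) = true := by decide +kernel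
theorem e8Conj_8_1074 : allRange 1074 1077 ((fun k => cdE8.checkConj (k / 240) (cdE8.cartI pairE8 (k / 240)) (reflE8 (k / 240)) (etaE8 (k / 240)) (k % 240))) = true := by decide +kernel
theorem e8Conj_8_1077 : allRange 1077 1080 ((fun k => cdE8.checkConj (k / 240) (cdE8.cartI pairE8 (k / 240)) (reflE8 (k / 240)) (etaE8 (k / 240)) (k % 240))) = true := by decide +kernel

/-- Conjugation of root elements by the `n_p` of type E8 (roots 960 to 1079). -/
theorem e8Conj_8 : ∀ r, 960 ≤ r → r < 1080 → ((fun k => cdE8.checkConj (k / 240) (cdE8.cartI pairE8 (k / 240)) (reflE8 (k / 240)) (etaE8 (k / 240)) (k % 240))) r = true := by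
  intro r h1 h2
  by_cases c0 : r < 963
  · exact allRange_spec e8Conj_8_960 r (by omega) c0
  by_cases c1 : r < 966
  · exact allRange_spec e8Conj_8_963 r (by omega) c1
  by_cases c2 : r < 969
  · exact allRange_spec e8Conj_8_966 r (by omega) c2
  by_cases c3 : r < 972
  · exact allRange_spec e8Conj_8_969 r (by omega) c3
  by_cases c4 : r < 975
  · exact allRange_spec e8Conj_8_972 r (by omega) c4
  by_cases c5 : r < 978
  · exact allRange_spec e8Conj_8_975 r (by omega) c5
  by_cases c6 : r < 981
  · exact allRange_spec e8Conj_8_978 r (by omega) c6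
  by_cases c7 : r < 984
  · exact allRange_spec e8Conj_8_981 r (by omega) c7
  by_cases c8 : r < 987
  · exact allRange_spec e8Conj_8_984 r (by omega) c8
  by_cases c9 : r < 990
  · exact allRange_spec e8Conj_8_987 r (by omega) c9
  by_cases c10 : r < 993
  · exact allRange_spec e8Conj_8_990 r (by omega) c10
  by_cases c11 : r < 996
  · exact allRange_spec e8Conj_8_993 r (by omega) c11
  by_cases c12 : r < 999
  · exact allRange_spec e8Conj_8_996 r (by omega) c12
  by_cases c13 : r < 1002
  · exact allRange_spec e8Conj_8_999 r (by omega) c13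
  by_cases c14 : r < 1005
  · exact allRange_spec e8Conj_8_1002 r (by omega) c14
  by_cases c15 : r < 1008
  · exact allRange_spec e8Conj_8_1005 r (by omega) c15
  by_cases c16 : r < 1011
  · exact allRange_spec e8Conj_8_1008 r (by omega) c16
  by_cases c17 : r < 1014
  · exact allRange_spec e8Conj_8_1011 r (by omega) c17
  by_cases c18 : r < 1017
  · exact allRange_spec e8Conj_8_1014 r (by omega) c18
  by_cases c19 : r < 1020
  · exact allRange_spec e8Conj_8_1017 r (by omega) c19
  by_cases c20 : r < 1023
  · exact allRange_spec e8Conj_8_1020 r (by omega) c20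
  by_cases c21 : r < 1026
  · exact allRange_spec e8Conj_8_1023 r (by omega) c21
  by_cases c22 : r < 1029
  · exact allRange_spec e8Conj_8_1026 r (by omega) c22
  by_cases c23 : r < 1032
  · exact allRange_spec e8Conj_8_1029 r (by omega) c23
  by_cases c24 : r < 1035
  · exact allRange_spec e8Conj_8_1032 r (by omega) c24
  by_cases c25 : r < 1038
  · exact allRange_spec e8Conj_8_1035 r (by omega) c25
  by_cases c26 : r < 1041
  · exact allRange_spec e8Conj_8_1038 r (by omega) c26
  by_cases c27 : r < 1044
  · exact allRange_spec e8Conj_8_1041 r (by omega) c27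
  by_cases c28 : r < 1047
  · exact allRange_spec e8Conj_8_1044 r (by omega) c28
  by_cases c29 : r < 1050
  · exact allRange_spec e8Conj_8_1047 r (by omega) c29
  by_cases c30 : r < 1053
  · exact allRange_spec e8Conj_8_1050 r (by omega) c30
  by_cases c31 : r < 1056
  · exact allRange_spec e8Conj_8_1053 r (by omega) c31
  by_cases c32 : r < 1059
  · exact allRange_spec e8Conj_8_1056 r (by omega) c32
  by_cases c33 : r < 1062
  · exact allRange_spec e8Conj_8_1059 r (by omega) c33
  by_cases c34 : r < 1065
  · exact allRange_spec e8Conj_8_1062 r (by omega) c34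
  by_cases c35 : r < 1068
  · exact allRange_spec e8Conj_8_1065 r (by omega) c35
  by_cases c36 : r < 1071
  · exact allRange_spec e8Conj_8_1068 r (by omega) c36
  by_cases c37 : r < 1074
  · exact allRange_spec e8Conj_8_1071 r (by omega) c37
  by_cases c38 : r < 1077
  · exact allRange_spec e8Conj_8_1074 r (by omega) c38
  exact allRange_spec e8Conj_8_1077 r (by omega) h2

end Cfsg.Agent.Lib.Helper3.ChevM
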