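import Cfsg.Agent.Lib.Helper3.ChevData.E8Datum
import Cfsg.Agent.Lib.Helper3.ChevData.E8Tabs
import Cfsg.Agent.Lib.Helper3.ChevM7
set_option autoImplicit false
set_option maxRecDepth 1000000
set_option Elab.async false

namespace Cfsg.Agent.Lib.Helper3.ChevM

theorem e8Conj_9_1080 : allRange 1080 1083 ((fun k => cdE8.checkConj (k / 240) (cdE8.cartI pairE8 (k / 240)) (reflE8 (k / 240)) (etaE8 (k / 240)) (k % 240))) = true := by decide +kernel
theorem e8Conj_9_1083 : allRange 1083 1086 ((fun k => cdE8.checkConj (k / 240) (cdE8.cartI pairE8 (k / 240)) (reflE8 (k / 240)) (etaE8 (k / 240)) (k % 240))) = true := by decide +kernel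
theorem e8Conj_9_1086 : allRange 1086 1089 ((fun k => cdE8.checkConj (k / 240) (cdE8.cartI pairE8 (k / 240)) (reflE8 (k / 240)) (etaE8 (k / 240)) (k % 240))) = true := by decide +kernel
theorem e8Conj_9_1089 : allRange 1089 1092 ((fun k => cdE8.checkConj (k / 240) (cdE8.cartI pairE8 (k / 240)) (reflE8 (k / 240)) (etaE8 (k / 240)) (k % 240))) = true := by decide +kernel
theorem e8Conj_9_1092 : allRange 1092 1095 ((fun k => cdE8.checkConj (k / 240) (cdE8.cartI pairE8 (k / 240)) (reflE8 (k / 240)) (etaE8 (k / 240)) (k % 240))) = true := by decide +kernel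
theorem e8Conj_9_1095 : allRange 1095 1098 ((fun k => cdE8.checkConj (k / 240) (cdE8.cartI pairE8 (k / 240)) (reflE8 (k / 240)) (etaE8 (k / 240)) (k % 240))) = true := by decide +kernel
theorem e8Conj_9_1098 : allRange 1098 1101 ((fun k => cdE8.checkConj (k / 240) (cdE8.cartI pairE8 (k / 240)) (reflE8 (k / 240)) (etaE8 (k / 240)) (k % 240))) = true := by decide +kernel
theorem e8Conj_9_1101 : allRange 1101 1104 ((fun k => cdE8.checkConj (k / 240) (cdE8.cartI pairE8 (k / 240)) (reflE8 (k / 240)) (etaE8 (k / 240)) (k % 240))) = true := by decide +kernel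
theorem e8Conj_9_1104 : allRange 1104 1107 ((fun k => cdE8.checkConj (k / 240) (cdE8.cartI pairE8 (k / 240)) (reflE8 (k / 240)) (etaE8 (k / 240)) (k % 240))) = true := by decide +kernel
theorem e8Conj_9_1107 : allRange 1107 1110 ((fun k => cdE8.checkConj (k / 240) (cdE8.cartI pairE8 (k / 240)) (reflE8 (k / 240)) (etaE8 (k / 240)) (k % 240))) = true := by decide +kernel
theorem e8Conj_9_1110 : allRange 1110 1113 ((fun k => cdE8.checkConj (k / 240) (cdE8.cartI pairE8 (k / 240)) (reflE8 (k / 240)) (etaE8 (k / 240)) (k % 240))) = true := by decide +kernel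
theorem e8Conj_9_1113 : allRange 1113 1116 ((fun k => cdE8.checkConj (k / 240) (cdE8.cartI pairE8 (k / 240)) (reflE8 (k / 240)) (etaE8 (k / 240)) (k % 240))) = true := by decide +kernel
theorem e8Conj_9_1116 : allRange 1116 1119 ((fun k => cdE8.checkConj (k / 240) (cdE8.cartI pairE8 (k / 240)) (reflE8 (k / 240)) (etaE8 (k / 240)) (k % 240))) = true := by decide +kernel
theorem e8Conj_9_1119 : allRange 1119 1122 ((fun k => cdE8.checkConj (k / 240) (cdE8.cartI pairE8 (k / 240)) (reflE8 (k / 240)) (etaE8 (k / 240)) (k % 240))) = true := by decide +kernel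
theorem e8Conj_9_1122 : allRange 1122 1125 ((fun k => cdE8.checkConj (k / 240) (cdE8.cartI pairE8 (k / 240)) (reflE8 (k / 240)) (etaE8 (k / 240)) (k % 240))) = true := by decide +kernel
theorem e8Conj_9_1125 : allRange 1125 1128 ((fun k => cdE8.checkConj (k / 240) (cdE8.cartI pairE8 (k / 240)) (reflE8 (k / 240)) (etaE8 (k / 240)) (k % 240))) = true := by decide +kernel
theorem e8Conj_9_1128 : allRange 1128 1131 ((fun k => cdE8.checkConj (k / 240) (cdE8.cartI pairE8 (k / 240)) (reflE8 (k / 240)) (etaE8 (k / 240)) (k % 240))) = true := by decide +kernel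
theorem e8Conj_9_1131 : allRange 1131 1134 ((fun k => cdE8.checkConj (k / 240) (cdE8.cartI pairE8 (k / 240)) (reflE8 (k / 240)) (etaE8 (k / 240)) (k % 240))) = true := by decide +kernel
theorem e8Conj_9_1134 : allRange 1134 1137 ((fun k => cdE8.checkConj (k / 240) (cdE8.cartI pairE8 (k / 240)) (reflE8 (k / 240)) (etaE8 (k / 240)) (k % 240))) = true := by decide +kernel
theorem e8Conj_9_1137 : allRange 1137 1140 ((fun k => cdE8.checkConj (k / 240) (cdE8.cartI pairE8 (k / 240)) (reflE8 (k / 240)) (etaE8 (k / 240)) (k % 240))) = true := by decide +kernel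
theorem e8Conj_9_1140 : allRange 1140 1143 ((fun k => cdE8.checkConj (k / 240) (cdE8.cartI pairE8 (k / 240)) (reflE8 (k / 240)) (etaE8 (k / 240)) (k % 240))) = true := by decide +kernel
theorem e8Conj_9_1143 : allRange 1143 1146 ((fun k => cdE8.checkConj (k / 240) (cdE8.cartI pairE8 (k / 240)) (reflE8 (k / 240)) (etaE8 (k / 240)) (k % 240))) = true := by decide +kernel
theorem e8Conj_9_1146 : allRange 1146 1149 ((fun k => cdE8.checkConj (k / 240) (cdE8.cartI pairE8 (k / 240)) (reflE8 (k / 240)) (etaE8 (k / 240)) (k % 240))) = true := by decide +kernel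
theorem e8Conj_9_1149 : allRange 1149 1152 ((fun k => cdE8.checkConj (k / 240) (cdE8.cartI pairE8 (k / 240)) (reflE8 (k / 240)) (etaE8 (k / 240)) (k % 240))) = true := by decide +kernel
theorem e8Conj_9_1152 : allRange 1152 1155 ((fun k => cdE8.checkConj (k / 240) (cdE8.cartI pairE8 (k / 240)) (reflE8 (k / 240)) (etaE8 (k / 240)) (k % 240))) = true := by decide +kernel
theorem e8Conj_9_1155 : allRange 1155 1158 ((fun k => cdE8.checkConj (k / 240) (cdE8.cartI pairE8 (k / 240)) (reflE8 (k / 240)) (etaE8 (k / 240)) (k % 240))) = true := by decide +kernel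
theorem e8Conj_9_1158 : allRange 1158 1161 ((fun k => cdE8.checkConj (k / 240) (cdE8.cartI pairE8 (k / 240)) (reflE8 (k / 240)) (etaE8 (k / 240)) (k % 240))) = true := by decide +kernel
theorem e8Conj_9_1161 : allRange 1161 1164 ((fun k => cdE8.checkConj (k / 240) (cdE8.cartI pairE8 (k / 240)) (reflE8 (k / 240)) (etaE8 (k / 240)) (k % 240))) = true := by decide +kernel
theorem e8Conj_9_1164 : allRange 1164 1167 ((fun k => cdE8.checkConj (k / 240) (cdE8.cartI pairE8 (k / 240)) (reflE8 (k / 240)) (etaE8 (k / 240)) (k % 240))) = true := by decide +kernel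
theorem e8Conj_9_1167 : allRange 1167 1170 ((fun k => cdE8.checkConj (k / 240) (cdE8.cartI pairE8 (k / 240)) (reflE8 (k / 240)) (etaE8 (k / 240)) (k % 240))) = true := by decide +kernel
theorem e8Conj_9_1170 : allRange 1170 1173 ((fun k => cdE8.checkConj (k / 240) (cdE8.cartI pairE8 (k / 240)) (reflE8 (k / 240)) (etaE8 (k / 240)) (k % 240))) = true := by decide +kernel
theorem e8Conj_9_1173 : allRange 1173 1176 ((fun k => cdE8.checkConj (k / 240) (cdE8.cartI pairE8 (k / 240)) (reflE8 (k / 240)) (etaE8 (k / 240)) (k % 240))) = true := by decide +kernel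
theorem e8Conj_9_1176 : allRange 1176 1179 ((fun k => cdE8.checkConj (k / 240) (cdE8.cartI pairE8 (k / 240)) (reflE8 (k / 240)) (etaE8 (k / 240)) (k % 240))) = true := by decide +kernel
theorem e8Conj_9_1179 : allRange 1179 1182 ((fun k => cdE8.checkConj (k / 240) (cdE8.cartI pairE8 (k / 240)) (reflE8 (k / 240)) (etaE8 (k / 240)) (k % 240))) = true := by decide +kernel
theorem e8Conj_9_1182 : allRange 1182 1185 ((fun k => cdE8.checkConj (k / 240) (cdE8.cartI pairE8 (k / 240)) (reflE8 (k / 240)) (etaE8 (k / 240)) (k % 240))) = true := by decide +kernel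
theorem e8Conj_9_1185 : allRange 1185 1188 ((fun k => cdE8.checkConj (k / 240) (cdE8.cartI pairE8 (k / 240)) (reflE8 (k / 240)) (etaE8 (k / 240)) (k % 240))) = true := by decide +kernel
theorem e8Conj_9_1188 : allRange 1188 1191 ((fun k => cdE8.checkConj (k / 240) (cdE8.cartI pairE8 (k / 240)) (reflE8 (k / 240)) (etaE8 (k / 240)) (k % 240))) = true := by decide +kernel
theorem e8Conj_9_1191 : allRange 1191 1194 ((fun k => cdE8.checkConj (k / 240) (cdE8.cartI pairE8 (k / 240)) (reflE8 (k / 240)) (etaE8 (k / 240)) (k % 240))) = true := by decide +kernel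
theorem e8Conj_9_1194 : allRange 1194 1197 ((fun k => cdE8.checkConj (k / 240) (cdE8.cartI pairE8 (k / 240)) (reflE8 (k / 240)) (etaE8 (k / 240)) (k % 240))) = true := by decide +kernel
theorem e8Conj_9_1197 : allRange 1197 1200 ((fun k => cdE8.checkConj (k / 240) (cdE8.cartI pairE8 (k / 240)) (reflE8 (k / 240)) (etaE8 (k / 240)) (k % 240))) = true := by decide +kernel

/-- Conjugation of root elements by the `n_p` of type E8 (roots 1080 to 1199). -/
theorem e8Conj_9 : ∀ r, 1080 ≤ r → r < 1200 → ((fun k => cdE8.checkConj (k / 240) (cdE8.cartI pairE8 (k / 240)) (reflE8 (k / 240)) (etaE8 (k / 240)) (k % 240))) r = true := by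
  intro r h1 h2
  by_cases c0 : r < 1083
  · exact allRange_spec e8Conj_9_1080 r (by omega) c0
  by_cases c1 : r < 1086
  · exact allRange_spec e8Conj_9_1083 r (by omega) c1
  by_cases c2 : r < 1089
  · exact allRange_spec e8Conj_9_1086 r (by omega) c2
  by_cases c3 : r < 1092
  · exact allRange_spec e8Conj_9_1089 r (by omega) c3
  by_cases c4 : r < 1095
  · exact allRange_spec e8Conj_9_1092 r (by omega) c4
  by_cases c5 : r < 1098
  · exact allRange_spec e8Conj_9_1095 r (by omega) c5
  by_cases c6 : r < 1101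
  · exact allRange_spec e8Conj_9_1098 r (by omega) c6
  by_cases c7 : r < 1104
  · exact allRange_spec e8Conj_9_1101 r (by omega) c7
  by_cases c8 : r < 1107
  · exact allRange_spec e8Conj_9_1104 r (by omega) c8
  by_cases c9 : r < 1110
  · exact allRange_spec e8Conj_9_1107 r (by omega) c9
  by_cases c10 : r < 1113
  · exact allRange_spec e8Conj_9_1110 r (by omega) c10
  by_cases c11 : r < 1116
  · exact allRange_spec e8Conj_9_1113 r (by omega) c11
  by_cases c12 : r < 1119
  · exact allRange_spec e8Conj_9_1116 r (by omega) c12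
  by_cases c13 : r < 1122
  · exact allRange_spec e8Conj_9_1119 r (by omega) c13
  by_cases c14 : r < 1125
  · exact allRange_spec e8Conj_9_1122 r (by omega) c14
  by_cases c15 : r < 1128
  · exact allRange_spec e8Conj_9_1125 r (by omega) c15
  by_cases c16 : r < 1131
  · exact allRange_spec e8Conj_9_1128 r (by omega) c16
  by_cases c17 : r < 1134
  · exact allRange_spec e8Conj_9_1131 r (by omega) c17
  by_cases c18 : r < 1137
  · exact allRange_spec e8Conj_9_1134 r (by omega) c18
  by_cases c19 : r < 1140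
  · exact allRange_spec e8Conj_9_1137 r (by omega) c19
  by_cases c20 : r < 1143
  · exact allRange_spec e8Conj_9_1140 r (by omega) c20
  by_cases c21 : r < 1146
  · exact allRange_spec e8Conj_9_1143 r (by omega) c21
  by_cases c22 : r < 1149
  · exact allRange_spec e8Conj_9_1146 r (by omega) c22
  by_cases c23 : r < 1152
  · exact allRange_spec e8Conj_9_1149 r (by omega) c23
  by_cases c24 : r < 1155
  · exact allRange_spec e8Conj_9_1152 r (by omega) c24
  by_cases c25 : r < 1158
  · exact allRange_spec e8Conj_9_1155 r (by omega) c25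
  by_cases c26 : r < 1161
  · exact allRange_spec e8Conj_9_1158 r (by omega) c26
  by_cases c27 : r < 1164
  · exact allRange_spec e8Conj_9_1161 r (by omega) c27
  by_cases c28 : r < 1167
  · exact allRange_spec e8Conj_9_1164 r (by omega) c28
  by_cases c29 : r < 1170
  · exact allRange_spec e8Conj_9_1167 r (by omega) c29
  by_cases c30 : r < 1173
  · exact allRange_spec e8Conj_9_1170 r (by omega) c30
  by_cases c31 : r < 1176
  · exact allRange_spec e8Conj_9_1173 r (by omega) c31
  by_cases c32 : r < 1179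
  · exact allRange_spec e8Conj_9_1176 r (by omega) c32
  by_cases c33 : r < 1182
  · exact allRange_spec e8Conj_9_1179 r (by omega) c33
  by_cases c34 : r < 1185
  · exact allRange_spec e8Conj_9_1182 r (by omega) c34
  by_cases c35 : r < 1188
  · exact allRange_spec e8Conj_9_1185 r (by omega) c35
  by_cases c36 : r < 1191
  · exact allRange_spec e8Conj_9_1188 r (by omega) c36
  by_cases c37 : r < 1194
  · exact allRange_spec e8Conj_9_1191 r (by omega) c37
  by_cases c38 : r < 1197
  · exact allRange_spec e8Conj_9_1194 r (by omega) c38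
  exact allRange_spec e8Conj_9_1197 r (by omega) h2

end Cfsg.Agent.Lib.Helper3.ChevM
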