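import Cfsg.Agent.Lib.Helper3.ChevData.E8Datum
import Cfsg.Agent.Lib.Helper3.ChevData.E8Tabs
import Cfsg.Agent.Lib.Helper3.ChevM7
set_option autoImplicit false
set_option maxRecDepth 1000000
set_option Elab.async false

namespace Cfsg.Agent.Lib.Helper3.ChevM

theorem e8Conj_11_1320 : allRange 1320 1323 ((fun k => cdE8.checkConj (k / 240) (cdE8.cartI pairE8 (k / 240)) (reflE8 (k / 240)) (etaE8 (k / 240)) (k % 240))) = true := by decide +kernel
theorem e8Conj_11_1323 : allRange 1323 1326 ((fun k => cdE8.checkConj (k / 240) (cdE8.cartI pairE8 (k / 240)) (reflE8 (k / 240)) (etaE8 (k / 240)) (k % 240))) = true := by decide +kernel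
theorem e8Conj_11_1326 : allRange 1326 1329 ((fun k => cdE8.checkConj (k / 240) (cdE8.cartI pairE8 (k / 240)) (reflE8 (k / 240)) (etaE8 (k / 240)) (k % 240))) = true := by decide +kernel
theorem e8Conj_11_1329 : allRange 1329 1332 ((fun k => cdE8.checkConj (k / 240) (cdE8.cartI pairE8 (k / 240)) (reflE8 (k / 240)) (etaE8 (k / 240)) (k % 240))) = true := by decide +kernel
theorem e8Conj_11_1332 : allRange 1332 1335 ((fun k => cdE8.checkConj (k / 240) (cdE8.cartI pairE8 (k / 240)) (reflE8 (k / 240)) (etaE8 (k / 240)) (k % 240))) = true := by decide +kernel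
theorem e8Conj_11_1335 : allRange 1335 1338 ((fun k => cdE8.checkConj (k / 240) (cdE8.cartI pairE8 (k / 240)) (reflE8 (k / 240)) (etaE8 (k / 240)) (k % 240))) = true := by decide +kernel
theorem e8Conj_11_1338 : allRange 1338 1341 ((fun k => cdE8.checkConj (k / 240) (cdE8.cartI pairE8 (k / 240)) (reflE8 (k / 240)) (etaE8 (k / 240)) (k % 240))) = true := by decide +kernel
theorem e8Conj_11_1341 : allRange 1341 1344 ((fun k => cdE8.checkConj (k / 240) (cdE8.cartI pairE8 (k / 240)) (reflE8 (k / 240)) (etaE8 (k / 240)) (k % 240))) = true := by decide +kernel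
theorem e8Conj_11_1344 : allRange 1344 1347 ((fun k => cdE8.checkConj (k / 240) (cdE8.cartI pairE8 (k / 240)) (reflE8 (k / 240)) (etaE8 (k / 240)) (k % 240))) = true := by decide +kernel
theorem e8Conj_11_1347 : allRange 1347 1350 ((fun k => cdE8.checkConj (k / 240) (cdE8.cartI pairE8 (k / 240)) (reflE8 (k / 240)) (etaE8 (k / 240)) (k % 240))) = true := by decide +kernel
theorem e8Conj_11_1350 : allRange 1350 1353 ((fun k => cdE8.checkConj (k / 240) (cdE8.cartI pairE8 (k / 240)) (reflE8 (k / 240)) (etaE8 (k / 240)) (k % 240))) = true := by decide +kernel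
theorem e8Conj_11_1353 : allRange 1353 1356 ((fun k => cdE8.checkConj (k / 240) (cdE8.cartI pairE8 (k / 240)) (reflE8 (k / 240)) (etaE8 (k / 240)) (k % 240))) = true := by decide +kernel
theorem e8Conj_11_1356 : allRange 1356 1359 ((fun k => cdE8.checkConj (k / 240) (cdE8.cartI pairE8 (k / 240)) (reflE8 (k / 240)) (etaE8 (k / 240)) (k % 240))) = true := by decide +kernel
theorem e8Conj_11_1359 : allRange 1359 1362 ((fun k => cdE8.checkConj (k / 240) (cdE8.cartI pairE8 (k / 240)) (reflE8 (k / 240)) (etaE8 (k / 240)) (k % 240))) = true := by decide +kernel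
theorem e8Conj_11_1362 : allRange 1362 1365 ((fun k => cdE8.checkConj (k / 240) (cdE8.cartI pairE8 (k / 240)) (reflE8 (k / 240)) (etaE8 (k / 240)) (k % 240))) = true := by decide +kernel
theorem e8Conj_11_1365 : allRange 1365 1368 ((fun k => cdE8.checkConj (k / 240) (cdE8.cartI pairE8 (k / 240)) (reflE8 (k / 240)) (etaE8 (k / 240)) (k % 240))) = true := by decide +kernel
theorem e8Conj_11_1368 : allRange 1368 1371 ((fun k => cdE8.checkConj (k / 240) (cdE8.cartI pairE8 (k / 240)) (reflE8 (k / 240)) (etaE8 (k / 240)) (k % 240))) = true := by decide +kernel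
theorem e8Conj_11_1371 : allRange 1371 1374 ((fun k => cdE8.checkConj (k / 240) (cdE8.cartI pairE8 (k / 240)) (reflE8 (k / 240)) (etaE8 (k / 240)) (k % 240))) = true := by decide +kernel
theorem e8Conj_11_1374 : allRange 1374 1377 ((fun k => cdE8.checkConj (k / 240) (cdE8.cartI pairE8 (k / 240)) (reflE8 (k / 240)) (etaE8 (k / 240)) (k % 240))) = true := by decide +kernel
theorem e8Conj_11_1377 : allRange 1377 1380 ((fun k => cdE8.checkConj (k / 240) (cdE8.cartI pairE8 (k / 240)) (reflE8 (k / 240)) (etaE8 (k / 240)) (k % 240))) = true := by decide +kernel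
theorem e8Conj_11_1380 : allRange 1380 1383 ((fun k => cdE8.checkConj (k / 240) (cdE8.cartI pairE8 (k / 240)) (reflE8 (k / 240)) (etaE8 (k / 240)) (k % 240))) = true := by decide +kernel
theorem e8Conj_11_1383 : allRange 1383 1386 ((fun k => cdE8.checkConj (k / 240) (cdE8.cartI pairE8 (k / 240)) (reflE8 (k / 240)) (etaE8 (k / 240)) (k % 240))) = true := by decide +kernel
theorem e8Conj_11_1386 : allRange 1386 1389 ((fun k => cdE8.checkConj (k / 240) (cdE8.cartI pairE8 (k / 240)) (reflE8 (k / 240)) (etaE8 (k / 240)) (k % 240))) = true := by decide +kernel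
theorem e8Conj_11_1389 : allRange 1389 1392 ((fun k => cdE8.checkConj (k / 240) (cdE8.cartI pairE8 (k / 240)) (reflE8 (k / 240)) (etaE8 (k / 240)) (k % 240))) = true := by decide +kernel
theorem e8Conj_11_1392 : allRange 1392 1395 ((fun k => cdE8.checkConj (k / 240) (cdE8.cartI pairE8 (k / 240)) (reflE8 (k / 240)) (etaE8 (k / 240)) (k % 240))) = true := by decide +kernel
theorem e8Conj_11_1395 : allRange 1395 1398 ((fun k => cdE8.checkConj (k / 240) (cdE8.cartI pairE8 (k / 240)) (reflE8 (k / 240)) (etaE8 (k / 240)) (k % 240))) = true := by decide +kernel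
theorem e8Conj_11_1398 : allRange 1398 1401 ((fun k => cdE8.checkConj (k / 240) (cdE8.cartI pairE8 (k / 240)) (reflE8 (k / 240)) (etaE8 (k / 240)) (k % 240))) = true := by decide +kernel
theorem e8Conj_11_1401 : allRange 1401 1404 ((fun k => cdE8.checkConj (k / 240) (cdE8.cartI pairE8 (k / 240)) (reflE8 (k / 240)) (etaE8 (k / 240)) (k % 240))) = true := by decide +kernel
theorem e8Conj_11_1404 : allRange 1404 1407 ((fun k => cdE8.checkConj (k / 240) (cdE8.cartI pairE8 (k / 240)) (reflE8 (k / 240)) (etaE8 (k / 240)) (k % 240))) = true := by decide +kernel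
theorem e8Conj_11_1407 : allRange 1407 1410 ((fun k => cdE8.checkConj (k / 240) (cdE8.cartI pairE8 (k / 240)) (reflE8 (k / 240)) (etaE8 (k / 240)) (k % 240))) = true := by decide +kernel
theorem e8Conj_11_1410 : allRange 1410 1413 ((fun k => cdE8.checkConj (k / 240) (cdE8.cartI pairE8 (k / 240)) (reflE8 (k / 240)) (etaE8 (k / 240)) (k % 240))) = true := by decide +kernel
theorem e8Conj_11_1413 : allRange 1413 1416 ((fun k => cdE8.checkConj (k / 240) (cdE8.cartI pairE8 (k / 240)) (reflE8 (k / 240)) (etaE8 (k / 240)) (k % 240))) = true := by decide +kernel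
theorem e8Conj_11_1416 : allRange 1416 1419 ((fun k => cdE8.checkConj (k / 240) (cdE8.cartI pairE8 (k / 240)) (reflE8 (k / 240)) (etaE8 (k / 240)) (k % 240))) = true := by decide +kernel
theorem e8Conj_11_1419 : allRange 1419 1422 ((fun k => cdE8.checkConj (k / 240) (cdE8.cartI pairE8 (k / 240)) (reflE8 (k / 240)) (etaE8 (k / 240)) (k % 240))) = true := by decide +kernel
theorem e8Conj_11_1422 : allRange 1422 1425 ((fun k => cdE8.checkConj (k / 240) (cdE8.cartI pairE8 (k / 240)) (reflE8 (k / 240)) (etaE8 (k / 240)) (k % 240))) = true := by decide +kernel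
theorem e8Conj_11_1425 : allRange 1425 1428 ((fun k => cdE8.checkConj (k / 240) (cdE8.cartI pairE8 (k / 240)) (reflE8 (k / 240)) (etaE8 (k / 240)) (k % 240))) = true := by decide +kernel
theorem e8Conj_11_1428 : allRange 1428 1431 ((fun k => cdE8.checkConj (k / 240) (cdE8.cartI pairE8 (k / 240)) (reflE8 (k / 240)) (etaE8 (k / 240)) (k % 240))) = true := by decide +kernel
theorem e8Conj_11_1431 : allRange 1431 1434 ((fun k => cdE8.checkConj (k / 240) (cdE8.cartI pairE8 (k / 240)) (reflE8 (k / 240)) (etaE8 (k / 240)) (k % 240))) = true := by decide +kernel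
theorem e8Conj_11_1434 : allRange 1434 1437 ((fun k => cdE8.checkConj (k / 240) (cdE8.cartI pairE8 (k / 240)) (reflE8 (k / 240)) (etaE8 (k / 240)) (k % 240))) = true := by decide +kernel
theorem e8Conj_11_1437 : allRange 1437 1440 ((fun k => cdE8.checkConj (k / 240) (cdE8.cartI pairE8 (k / 240)) (reflE8 (k / 240)) (etaE8 (k / 240)) (k % 240))) = true := by decide +kernel

/-- Conjugation of root elements by the `n_p` of type E8 (roots 1320 to 1439). -/
theorem e8Conj_11 : ∀ r, 1320 ≤ r → r < 1440 → ((fun k => cdE8.checkConj (k / 240) (cdE8.cartI pairE8 (k / 240)) (reflE8 (k / 240)) (etaE8 (k / 240)) (k % 240))) r = true := by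
  intro r h1 h2
  by_cases c0 : r < 1323
  · exact allRange_spec e8Conj_11_1320 r (by omega) c0
  by_cases c1 : r < 1326
  · exact allRange_spec e8Conj_11_1323 r (by omega) c1
  by_cases c2 : r < 1329
  · exact allRange_spec e8Conj_11_1326 r (by omega) c2
  by_cases c3 : r < 1332
  · exact allRange_spec e8Conj_11_1329 r (by omega) c3
  by_cases c4 : r < 1335
  · exact allRange_spec e8Conj_11_1332 r (by omega) c4
  by_cases c5 : r < 1338
  · exact allRange_spec e8Conj_11_1335 r (by omega) c5
  by_cases c6 : r < 1341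
  · exact allRange_spec e8Conj_11_1338 r (by omega) c6
  by_cases c7 : r < 1344
  · exact allRange_spec e8Conj_11_1341 r (by omega) c7
  by_cases c8 : r < 1347
  · exact allRange_spec e8Conj_11_1344 r (by omega) c8
  by_cases c9 : r < 1350
  · exact allRange_spec e8Conj_11_1347 r (by omega) c9
  by_cases c10 : r < 1353
  · exact allRange_spec e8Conj_11_1350 r (by omega) c10
  by_cases c11 : r < 1356
  · exact allRange_spec e8Conj_11_1353 r (by omega) c11
  by_cases c12 : r < 1359
  · exact allRange_spec e8Conj_11_1356 r (by omega) c12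
  by_cases c13 : r < 1362
  · exact allRange_spec e8Conj_11_1359 r (by omega) c13
  by_cases c14 : r < 1365
  · exact allRange_spec e8Conj_11_1362 r (by omega) c14
  by_cases c15 : r < 1368
  · exact allRange_spec e8Conj_11_1365 r (by omega) c15
  by_cases c16 : r < 1371
  · exact allRange_spec e8Conj_11_1368 r (by omega) c16
  by_cases c17 : r < 1374
  · exact allRange_spec e8Conj_11_1371 r (by omega) c17
  by_cases c18 : r < 1377
  · exact allRange_spec e8Conj_11_1374 r (by omega) c18
  by_cases c19 : r < 1380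
  · exact allRange_spec e8Conj_11_1377 r (by omega) c19
  by_cases c20 : r < 1383
  · exact allRange_spec e8Conj_11_1380 r (by omega) c20
  by_cases c21 : r < 1386
  · exact allRange_spec e8Conj_11_1383 r (by omega) c21
  by_cases c22 : r < 1389
  · exact allRange_spec e8Conj_11_1386 r (by omega) c22
  by_cases c23 : r < 1392
  · exact allRange_spec e8Conj_11_1389 r (by omega) c23
  by_cases c24 : r < 1395
  · exact allRange_spec e8Conj_11_1392 r (by omega) c24
  by_cases c25 : r < 1398
  · exact allRange_spec e8Conj_11_1395 r (by omega) c25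
  by_cases c26 : r < 1401
  · exact allRange_spec e8Conj_11_1398 r (by omega) c26
  by_cases c27 : r < 1404
  · exact allRange_spec e8Conj_11_1401 r (by omega) c27
  by_cases c28 : r < 1407
  · exact allRange_spec e8Conj_11_1404 r (by omega) c28
  by_cases c29 : r < 1410
  · exact allRange_spec e8Conj_11_1407 r (by omega) c29
  by_cases c30 : r < 1413
  · exact allRange_spec e8Conj_11_1410 r (by omega) c30
  by_cases c31 : r < 1416
  · exact allRange_spec e8Conj_11_1413 r (by omega) c31
  by_cases c32 : r < 1419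
  · exact allRange_spec e8Conj_11_1416 r (by omega) c32
  by_cases c33 : r < 1422
  · exact allRange_spec e8Conj_11_1419 r (by omega) c33
  by_cases c34 : r < 1425
  · exact allRange_spec e8Conj_11_1422 r (by omega) c34
  by_cases c35 : r < 1428
  · exact allRange_spec e8Conj_11_1425 r (by omega) c35
  by_cases c36 : r < 1431
  · exact allRange_spec e8Conj_11_1428 r (by omega) c36
  by_cases c37 : r < 1434
  · exact allRange_spec e8Conj_11_1431 r (by omega) c37
  by_cases c38 : r < 1437
  · exact allRange_spec e8Conj_11_1434 r (by omega) c38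
  exact allRange_spec e8Conj_11_1437 r (by omega) h2

end Cfsg.Agent.Lib.Helper3.ChevM
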