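import Cfsg.Agent.Lib.Helper3.ChevData.E8Datum
import Cfsg.Agent.Lib.Helper3.ChevData.E8Tabs
import Cfsg.Agent.Lib.Helper3.ChevM7
set_option autoImplicit false
set_option maxRecDepth 1000000
set_option Elab.async false

namespace Cfsg.Agent.Lib.Helper3.ChevM

theorem e8Conj_12_1440 : allRange 1440 1443 ((fun k => cdE8.checkConj (k / 240) (cdE8.cartI pairE8 (k / 240)) (reflE8 (k / 240)) (etaE8 (k / 240)) (k % 240))) = true := by decide +kernel
theorem e8Conj_12_1443 : allRange 1443 1446 ((fun k => cdE8.checkConj (k / 240) (cdE8.cartI pairE8 (k / 240)) (reflE8 (k / 240)) (etaE8 (k / 240)) (k % 240))) = true := by decide +kernel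
theorem e8Conj_12_1446 : allRange 1446 1449 ((fun k => cdE8.checkConj (k / 240) (cdE8.cartI pairE8 (k / 240)) (reflE8 (k / 240)) (etaE8 (k / 240)) (k % 240))) = true := by decide +kernel
theorem e8Conj_12_1449 : allRange 1449 1452 ((fun k => cdE8.checkConj (k / 240) (cdE8.cartI pairE8 (k / 240)) (reflE8 (k / 240)) (etaE8 (k / 240)) (k % 240))) = true := by decide +kernel
theorem e8Conj_12_1452 : allRange 1452 1455 ((fun k => cdE8.checkConj (k / 240) (cdE8.cartI pairE8 (k / 240)) (reflE8 (k / 240)) (etaE8 (k / 240)) (k % 240))) = true := by decide +kernel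
theorem e8Conj_12_1455 : allRange 1455 1458 ((fun k => cdE8.checkConj (k / 240) (cdE8.cartI pairE8 (k / 240)) (reflE8 (k / 240)) (etaE8 (k / 240)) (k % 240))) = true := by decide +kernel
theorem e8Conj_12_1458 : allRange 1458 1461 ((fun k => cdE8.checkConj (k / 240) (cdE8.cartI pairE8 (k / 240)) (reflE8 (k / 240)) (etaE8 (k / 240)) (k % 240))) = true := by decide +kernel
theorem e8Conj_12_1461 : allRange 1461 1464 ((fun k => cdE8.checkConj (k / 240) (cdE8.cartI pairE8 (k / 240)) (reflE8 (k / 240)) (etaE8 (k / 240)) (k % 240))) = true := by decide +kernel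
theorem e8Conj_12_1464 : allRange 1464 1467 ((fun k => cdE8.checkConj (k / 240) (cdE8.cartI pairE8 (k / 240)) (reflE8 (k / 240)) (etaE8 (k / 240)) (k % 240))) = true := by decide +kernel
theorem e8Conj_12_1467 : allRange 1467 1470 ((fun k => cdE8.checkConj (k / 240) (cdE8.cartI pairE8 (k / 240)) (reflE8 (k / 240)) (etaE8 (k / 240)) (k % 240))) = true := by decide +kernel
theorem e8Conj_12_1470 : allRange 1470 1473 ((fun k => cdE8.checkConj (k / 240) (cdE8.cartI pairE8 (k / 240)) (reflE8 (k / 240)) (etaE8 (k / 240)) (k % 240))) = true := by decide +kernel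
theorem e8Conj_12_1473 : allRange 1473 1476 ((fun k => cdE8.checkConj (k / 240) (cdE8.cartI pairE8 (k / 240)) (reflE8 (k / 240)) (etaE8 (k / 240)) (k % 240))) = true := by decide +kernel
theorem e8Conj_12_1476 : allRange 1476 1479 ((fun k => cdE8.checkConj (k / 240) (cdE8.cartI pairE8 (k / 240)) (reflE8 (k / 240)) (etaE8 (k / 240)) (k % 240))) = true := by decide +kernel
theorem e8Conj_12_1479 : allRange 1479 1482 ((fun k => cdE8.checkConj (k / 240) (cdE8.cartI pairE8 (k / 240)) (reflE8 (k / 240)) (etaE8 (k / 240)) (k % 240))) = true := by decide +kernel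
theorem e8Conj_12_1482 : allRange 1482 1485 ((fun k => cdE8.checkConj (k / 240) (cdE8.cartI pairE8 (k / 240)) (reflE8 (k / 240)) (etaE8 (k / 240)) (k % 240))) = true := by decide +kernel
theorem e8Conj_12_1485 : allRange 1485 1488 ((fun k => cdE8.checkConj (k / 240) (cdE8.cartI pairE8 (k / 240)) (reflE8 (k / 240)) (etaE8 (k / 240)) (k % 240))) = true := by decide +kernel
theorem e8Conj_12_1488 : allRange 1488 1491 ((fun k => cdE8.checkConj (k / 240) (cdE8.cartI pairE8 (k / 240)) (reflE8 (k / 240)) (etaE8 (k / 240)) (k % 240))) = true := by decide +kernel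
theorem e8Conj_12_1491 : allRange 1491 1494 ((fun k => cdE8.checkConj (k / 240) (cdE8.cartI pairE8 (k / 240)) (reflE8 (k / 240)) (etaE8 (k / 240)) (k % 240))) = true := by decide +kernel
theorem e8Conj_12_1494 : allRange 1494 1497 ((fun k => cdE8.checkConj (k / 240) (cdE8.cartI pairE8 (k / 240)) (reflE8 (k / 240)) (etaE8 (k / 240)) (k % 240))) = true := by decide +kernel
theorem e8Conj_12_1497 : allRange 1497 1500 ((fun k => cdE8.checkConj (k / 240) (cdE8.cartI pairE8 (k / 240)) (reflE8 (k / 240)) (etaE8 (k / 240)) (k % 240))) = true := by decide +kernel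
theorem e8Conj_12_1500 : allRange 1500 1503 ((fun k => cdE8.checkConj (k / 240) (cdE8.cartI pairE8 (k / 240)) (reflE8 (k / 240)) (etaE8 (k / 240)) (k % 240))) = true := by decide +kernel
theorem e8Conj_12_1503 : allRange 1503 1506 ((fun k => cdE8.checkConj (k / 240) (cdE8.cartI pairE8 (k / 240)) (reflE8 (k / 240)) (etaE8 (k / 240)) (k % 240))) = true := by decide +kernel
theorem e8Conj_12_1506 : allRange 1506 1509 ((fun k => cdE8.checkConj (k / 240) (cdE8.cartI pairE8 (k / 240)) (reflE8 (k / 240)) (etaE8 (k / 240)) (k % 240))) = true := by decide +kernel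
theorem e8Conj_12_1509 : allRange 1509 1512 ((fun k => cdE8.checkConj (k / 240) (cdE8.cartI pairE8 (k / 240)) (reflE8 (k / 240)) (etaE8 (k / 240)) (k % 240))) = true := by decide +kernel
theorem e8Conj_12_1512 : allRange 1512 1515 ((fun k => cdE8.checkConj (k / 240) (cdE8.cartI pairE8 (k / 240)) (reflE8 (k / 240)) (etaE8 (k / 240)) (k % 240))) = true := by decide +kernel
theorem e8Conj_12_1515 : allRange 1515 1518 ((fun k => cdE8.checkConj (k / 240) (cdE8.cartI pairE8 (k / 240)) (reflE8 (k / 240)) (etaE8 (k / 240)) (k % 240))) = true := by decide +kernel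
theorem e8Conj_12_1518 : allRange 1518 1521 ((fun k => cdE8.checkConj (k / 240) (cdE8.cartI pairE8 (k / 240)) (reflE8 (k / 240)) (etaE8 (k / 240)) (k % 240))) = true := by decide +kernel
theorem e8Conj_12_1521 : allRange 1521 1524 ((fun k => cdE8.checkConj (k / 240) (cdE8.cartI pairE8 (k / 240)) (reflE8 (k / 240)) (etaE8 (k / 240)) (k % 240))) = true := by decide +kernel
theorem e8Conj_12_1524 : allRange 1524 1527 ((fun k => cdE8.checkConj (k / 240) (cdE8.cartI pairE8 (k / 240)) (reflE8 (k / 240)) (etaE8 (k / 240)) (k % 240))) = true := by decide +kernel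
theorem e8Conj_12_1527 : allRange 1527 1530 ((fun k => cdE8.checkConj (k / 240) (cdE8.cartI pairE8 (k / 240)) (reflE8 (k / 240)) (etaE8 (k / 240)) (k % 240))) = true := by decide +kernel
theorem e8Conj_12_1530 : allRange 1530 1533 ((fun k => cdE8.checkConj (k / 240) (cdE8.cartI pairE8 (k / 240)) (reflE8 (k / 240)) (etaE8 (k / 240)) (k % 240))) = true := by decide +kernel
theorem e8Conj_12_1533 : allRange 1533 1536 ((fun k => cdE8.checkConj (k / 240) (cdE8.cartI pairE8 (k / 240)) (reflE8 (k / 240)) (etaE8 (k / 240)) (k % 240))) = true := by decide +kernel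
theorem e8Conj_12_1536 : allRange 1536 1539 ((fun k => cdE8.checkConj (k / 240) (cdE8.cartI pairE8 (k / 240)) (reflE8 (k / 240)) (etaE8 (k / 240)) (k % 240))) = true := by decide +kernel
theorem e8Conj_12_1539 : allRange 1539 1542 ((fun k => cdE8.checkConj (k / 240) (cdE8.cartI pairE8 (k / 240)) (reflE8 (k / 240)) (etaE8 (k / 240)) (k % 240))) = true := by decide +kernel
theorem e8Conj_12_1542 : allRange 1542 1545 ((fun k => cdE8.checkConj (k / 240) (cdE8.cartI pairE8 (k / 240)) (reflE8 (k / 240)) (etaE8 (k / 240)) (k % 240))) = true := by decide +kernel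
theorem e8Conj_12_1545 : allRange 1545 1548 ((fun k => cdE8.checkConj (k / 240) (cdE8.cartI pairE8 (k / 240)) (reflE8 (k / 240)) (etaE8 (k / 240)) (k % 240))) = true := by decide +kernel
theorem e8Conj_12_1548 : allRange 1548 1551 ((fun k => cdE8.checkConj (k / 240) (cdE8.cartI pairE8 (k / 240)) (reflE8 (k / 240)) (etaE8 (k / 240)) (k % 240))) = true := by decide +kernel
theorem e8Conj_12_1551 : allRange 1551 1554 ((fun k => cdE8.checkConj (k / 240) (cdE8.cartI pairE8 (k / 240)) (reflE8 (k / 240)) (etaE8 (k / 240)) (k % 240))) = true := by decide +kernel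
theorem e8Conj_12_1554 : allRange 1554 1557 ((fun k => cdE8.checkConj (k / 240) (cdE8.cartI pairE8 (k / 240)) (reflE8 (k / 240)) (etaE8 (k / 240)) (k % 240))) = true := by decide +kernel
theorem e8Conj_12_1557 : allRange 1557 1560 ((fun k => cdE8.checkConj (k / 240) (cdE8.cartI pairE8 (k / 240)) (reflE8 (k / 240)) (etaE8 (k / 240)) (k % 240))) = true := by decide +kernel

/-- Conjugation of root elements by the `n_p` of type E8 (roots 1440 to 1559). -/
theorem e8Conj_12 : ∀ r, 1440 ≤ r → r < 1560 → ((fun k => cdE8.checkConj (k / 240) (cdE8.cartI pairE8 (k / 240)) (reflE8 (k / 240)) (etaE8 (k / 240)) (k % 240))) r = true := by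
  intro r h1 h2
  by_cases c0 : r < 1443
  · exact allRange_spec e8Conj_12_1440 r (by omega) c0
  by_cases c1 : r < 1446
  · exact allRange_spec e8Conj_12_1443 r (by omega) c1
  by_cases c2 : r < 1449
  · exact allRange_spec e8Conj_12_1446 r (by omega) c2
  by_cases c3 : r < 1452
  · exact allRange_spec e8Conj_12_1449 r (by omega) c3
  by_cases c4 : r < 1455
  · exact allRange_spec e8Conj_12_1452 r (by omega) c4
  by_cases c5 : r < 1458
  · exact allRange_spec e8Conj_12_1455 r (by omega) c5
  by_cases c6 : r < 1461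
  · exact allRange_spec e8Conj_12_1458 r (by omega) c6
  by_cases c7 : r < 1464
  · exact allRange_spec e8Conj_12_1461 r (by omega) c7
  by_cases c8 : r < 1467
  · exact allRange_spec e8Conj_12_1464 r (by omega) c8
  by_cases c9 : r < 1470
  · exact allRange_spec e8Conj_12_1467 r (by omega) c9
  by_cases c10 : r < 1473
  · exact allRange_spec e8Conj_12_1470 r (by omega) c10
  by_cases c11 : r < 1476
  · exact allRange_spec e8Conj_12_1473 r (by omega) c11
  by_cases c12 : r < 1479
  · exact allRange_spec e8Conj_12_1476 r (by omega) c12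
  by_cases c13 : r < 1482
  · exact allRange_spec e8Conj_12_1479 r (by omega) c13
  by_cases c14 : r < 1485
  · exact allRange_spec e8Conj_12_1482 r (by omega) c14
  by_cases c15 : r < 1488
  · exact allRange_spec e8Conj_12_1485 r (by omega) c15
  by_cases c16 : r < 1491
  · exact allRange_spec e8Conj_12_1488 r (by omega) c16
  by_cases c17 : r < 1494
  · exact allRange_spec e8Conj_12_1491 r (by omega) c17
  by_cases c18 : r < 1497
  · exact allRange_spec e8Conj_12_1494 r (by omega) c18
  by_cases c19 : r < 1500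
  · exact allRange_spec e8Conj_12_1497 r (by omega) c19
  by_cases c20 : r < 1503
  · exact allRange_spec e8Conj_12_1500 r (by omega) c20
  by_cases c21 : r < 1506
  · exact allRange_spec e8Conj_12_1503 r (by omega) c21
  by_cases c22 : r < 1509
  · exact allRange_spec e8Conj_12_1506 r (by omega) c22
  by_cases c23 : r < 1512
  · exact allRange_spec e8Conj_12_1509 r (by omega) c23
  by_cases c24 : r < 1515
  · exact allRange_spec e8Conj_12_1512 r (by omega) c24
  by_cases c25 : r < 1518
  · exact allRange_spec e8Conj_12_1515 r (by omega) c25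
  by_cases c26 : r < 1521
  · exact allRange_spec e8Conj_12_1518 r (by omega) c26
  by_cases c27 : r < 1524
  · exact allRange_spec e8Conj_12_1521 r (by omega) c27
  by_cases c28 : r < 1527
  · exact allRange_spec e8Conj_12_1524 r (by omega) c28
  by_cases c29 : r < 1530
  · exact allRange_spec e8Conj_12_1527 r (by omega) c29
  by_cases c30 : r < 1533
  · exact allRange_spec e8Conj_12_1530 r (by omega) c30
  by_cases c31 : r < 1536
  · exact allRange_spec e8Conj_12_1533 r (by omega) c31
  by_cases c32 : r < 1539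
  · exact allRange_spec e8Conj_12_1536 r (by omega) c32
  by_cases c33 : r < 1542
  · exact allRange_spec e8Conj_12_1539 r (by omega) c33
  by_cases c34 : r < 1545
  · exact allRange_spec e8Conj_12_1542 r (by omega) c34
  by_cases c35 : r < 1548
  · exact allRange_spec e8Conj_12_1545 r (by omega) c35
  by_cases c36 : r < 1551
  · exact allRange_spec e8Conj_12_1548 r (by omega) c36
  by_cases c37 : r < 1554
  · exact allRange_spec e8Conj_12_1551 r (by omega) c37
  by_cases c38 : r < 1557
  · exact allRange_spec e8Conj_12_1554 r (by omega) c38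
  exact allRange_spec e8Conj_12_1557 r (by omega) h2

end Cfsg.Agent.Lib.Helper3.ChevM
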