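import Cfsg.Agent.Lib.Helper3.ChevData.E8Datum
import Cfsg.Agent.Lib.Helper3.ChevData.E8Tabs
import Cfsg.Agent.Lib.Helper3.ChevM7
set_option autoImplicit false
set_option maxRecDepth 1000000
set_option Elab.async false

namespace Cfsg.Agent.Lib.Helper3.ChevM

theorem e8Conj_13_1560 : allRange 1560 1563 ((fun k => cdE8.checkConj (k / 240) (cdE8.cartI pairE8 (k / 240)) (reflE8 (k / 240)) (etaE8 (k / 240)) (k % 240))) = true := by decide +kernel
theorem e8Conj_13_1563 : allRange 1563 1566 ((fun k => cdE8.checkConj (k / 240) (cdE8.cartI pairE8 (k / 240)) (reflE8 (k / 240)) (etaE8 (k / 240)) (k % 240))) = true := by decide +kernel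
theorem e8Conj_13_1566 : allRange 1566 1569 ((fun k => cdE8.checkConj (k / 240) (cdE8.cartI pairE8 (k / 240)) (reflE8 (k / 240)) (etaE8 (k / 240)) (k % 240))) = true := by decide +kernel
theorem e8Conj_13_1569 : allRange 1569 1572 ((fun k => cdE8.checkConj (k / 240) (cdE8.cartI pairE8 (k / 240)) (reflE8 (k / 240)) (etaE8 (k / 240)) (k % 240))) = true := by decide +kernel
theorem e8Conj_13_1572 : allRange 1572 1575 ((fun k => cdE8.checkConj (k / 240) (cdE8.cartI pairE8 (k / 240)) (reflE8 (k / 240)) (etaE8 (k / 240)) (k % 240))) = true := by decide +kernel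
theorem e8Conj_13_1575 : allRange 1575 1578 ((fun k => cdE8.checkConj (k / 240) (cdE8.cartI pairE8 (k / 240)) (reflE8 (k / 240)) (etaE8 (k / 240)) (k % 240))) = true := by decide +kernel
theorem e8Conj_13_1578 : allRange 1578 1581 ((fun k => cdE8.checkConj (k / 240) (cdE8.cartI pairE8 (k / 240)) (reflE8 (k / 240)) (etaE8 (k / 240)) (k % 240))) = true := by decide +kernel
theorem e8Conj_13_1581 : allRange 1581 1584 ((fun k => cdE8.checkConj (k / 240) (cdE8.cartI pairE8 (k / 240)) (reflE8 (k / 240)) (etaE8 (k / 240)) (k % 240))) = true := by decide +kernel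
theorem e8Conj_13_1584 : allRange 1584 1587 ((fun k => cdE8.checkConj (k / 240) (cdE8.cartI pairE8 (k / 240)) (reflE8 (k / 240)) (etaE8 (k / 240)) (k % 240))) = true := by decide +kernel
theorem e8Conj_13_1587 : allRange 1587 1590 ((fun k => cdE8.checkConj (k / 240) (cdE8.cartI pairE8 (k / 240)) (reflE8 (k / 240)) (etaE8 (k / 240)) (k % 240))) = true := by decide +kernel
theorem e8Conj_13_1590 : allRange 1590 1593 ((fun k => cdE8.checkConj (k / 240) (cdE8.cartI pairE8 (k / 240)) (reflE8 (k / 240)) (etaE8 (k / 240)) (k % 240))) = true := by decide +kernel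
theorem e8Conj_13_1593 : allRange 1593 1596 ((fun k => cdE8.checkConj (k / 240) (cdE8.cartI pairE8 (k / 240)) (reflE8 (k / 240)) (etaE8 (k / 240)) (k % 240))) = true := by decide +kernel
theorem e8Conj_13_1596 : allRange 1596 1599 ((fun k => cdE8.checkConj (k / 240) (cdE8.cartI pairE8 (k / 240)) (reflE8 (k / 240)) (etaE8 (k / 240)) (k % 240))) = true := by decide +kernel
theorem e8Conj_13_1599 : allRange 1599 1602 ((fun k => cdE8.checkConj (k / 240) (cdE8.cartI pairE8 (k / 240)) (reflE8 (k / 240)) (etaE8 (k / 240)) (k % 240))) = true := by decide +kernel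
theorem e8Conj_13_1602 : allRange 1602 1605 ((fun k => cdE8.checkConj (k / 240) (cdE8.cartI pairE8 (k / 240)) (reflE8 (k / 240)) (etaE8 (k / 240)) (k % 240))) = true := by decide +kernel
theorem e8Conj_13_1605 : allRange 1605 1608 ((fun k => cdE8.checkConj (k / 240) (cdE8.cartI pairE8 (k / 240)) (reflE8 (k / 240)) (etaE8 (k / 240)) (k % 240))) = true := by decide +kernel
theorem e8Conj_13_1608 : allRange 1608 1611 ((fun k => cdE8.checkConj (k / 240) (cdE8.cartI pairE8 (k / 240)) (reflE8 (k / 240)) (etaE8 (k / 240)) (k % 240))) = true := by decide +kernel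
theorem e8Conj_13_1611 : allRange 1611 1614 ((fun k => cdE8.checkConj (k / 240) (cdE8.cartI pairE8 (k / 240)) (reflE8 (k / 240)) (etaE8 (k / 240)) (k % 240))) = true := by decide +kernel
theorem e8Conj_13_1614 : allRange 1614 1617 ((fun k => cdE8.checkConj (k / 240) (cdE8.cartI pairE8 (k / 240)) (reflE8 (k / 240)) (etaE8 (k / 240)) (k % 240))) = true := by decide +kernel
theorem e8Conj_13_1617 : allRange 1617 1620 ((fun k => cdE8.checkConj (k / 240) (cdE8.cartI pairE8 (k / 240)) (reflE8 (k / 240)) (etaE8 (k / 240)) (k % 240))) = true := by decide +kernel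
theorem e8Conj_13_1620 : allRange 1620 1623 ((fun k => cdE8.checkConj (k / 240) (cdE8.cartI pairE8 (k / 240)) (reflE8 (k / 240)) (etaE8 (k / 240)) (k % 240))) = true := by decide +kernel
theorem e8Conj_13_1623 : allRange 1623 1626 ((fun k => cdE8.checkConj (k / 240) (cdE8.cartI pairE8 (k / 240)) (reflE8 (k / 240)) (etaE8 (k / 240)) (k % 240))) = true := by decide +kernel
theorem e8Conj_13_1626 : allRange 1626 1629 ((fun k => cdE8.checkConj (k / 240) (cdE8.cartI pairE8 (k / 240)) (reflE8 (k / 240)) (etaE8 (k / 240)) (k % 240))) = true := by decide +kernel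
theorem e8Conj_13_1629 : allRange 1629 1632 ((fun k => cdE8.checkConj (k / 240) (cdE8.cartI pairE8 (k / 240)) (reflE8 (k / 240)) (etaE8 (k / 240)) (k % 240))) = true := by decide +kernel
theorem e8Conj_13_1632 : allRange 1632 1635 ((fun k => cdE8.checkConj (k / 240) (cdE8.cartI pairE8 (k / 240)) (reflE8 (k / 240)) (etaE8 (k / 240)) (k % 240))) = true := by decide +kernel
theorem e8Conj_13_1635 : allRange 1635 1638 ((fun k => cdE8.checkConj (k / 240) (cdE8.cartI pairE8 (k / 240)) (reflE8 (k / 240)) (etaE8 (k / 240)) (k % 240))) = true := by decide +kernel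
theorem e8Conj_13_1638 : allRange 1638 1641 ((fun k => cdE8.checkConj (k / 240) (cdE8.cartI pairE8 (k / 240)) (reflE8 (k / 240)) (etaE8 (k / 240)) (k % 240))) = true := by decide +kernel
theorem e8Conj_13_1641 : allRange 1641 1644 ((fun k => cdE8.checkConj (k / 240) (cdE8.cartI pairE8 (k / 240)) (reflE8 (k / 240)) (etaE8 (k / 240)) (k % 240))) = true := by decide +kernel
theorem e8Conj_13_1644 : allRange 1644 1647 ((fun k => cdE8.checkConj (k / 240) (cdE8.cartI pairE8 (k / 240)) (reflE8 (k / 240)) (etaE8 (k / 240)) (k % 240))) = true := by decide +kernel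
theorem e8Conj_13_1647 : allRange 1647 1650 ((fun k => cdE8.checkConj (k / 240) (cdE8.cartI pairE8 (k / 240)) (reflE8 (k / 240)) (etaE8 (k / 240)) (k % 240))) = true := by decide +kernel
theorem e8Conj_13_1650 : allRange 1650 1653 ((fun k => cdE8.checkConj (k / 240) (cdE8.cartI pairE8 (k / 240)) (reflE8 (k / 240)) (etaE8 (k / 240)) (k % 240))) = true := by decide +kernel
theorem e8Conj_13_1653 : allRange 1653 1656 ((fun k => cdE8.checkConj (k / 240) (cdE8.cartI pairE8 (k / 240)) (reflE8 (k / 240)) (etaE8 (k / 240)) (k % 240))) = true := by decide +kernel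
theorem e8Conj_13_1656 : allRange 1656 1659 ((fun k => cdE8.checkConj (k / 240) (cdE8.cartI pairE8 (k / 240)) (reflE8 (k / 240)) (etaE8 (k / 240)) (k % 240))) = true := by decide +kernel
theorem e8Conj_13_1659 : allRange 1659 1662 ((fun k => cdE8.checkConj (k / 240) (cdE8.cartI pairE8 (k / 240)) (reflE8 (k / 240)) (etaE8 (k / 240)) (k % 240))) = true := by decide +kernel
theorem e8Conj_13_1662 : allRange 1662 1665 ((fun k => cdE8.checkConj (k / 240) (cdE8.cartI pairE8 (k / 240)) (reflE8 (k / 240)) (etaE8 (k / 240)) (k % 240))) = true := by decide +kernel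
theorem e8Conj_13_1665 : allRange 1665 1668 ((fun k => cdE8.checkConj (k / 240) (cdE8.cartI pairE8 (k / 240)) (reflE8 (k / 240)) (etaE8 (k / 240)) (k % 240))) = true := by decide +kernel
theorem e8Conj_13_1668 : allRange 1668 1671 ((fun k => cdE8.checkConj (k / 240) (cdE8.cartI pairE8 (k / 240)) (reflE8 (k / 240)) (etaE8 (k / 240)) (k % 240))) = true := by decide +kernel
theorem e8Conj_13_1671 : allRange 1671 1674 ((fun k => cdE8.checkConj (k / 240) (cdE8.cartI pairE8 (k / 240)) (reflE8 (k / 240)) (etaE8 (k / 240)) (k % 240))) = true := by decide +kernel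
theorem e8Conj_13_1674 : allRange 1674 1677 ((fun k => cdE8.checkConj (k / 240) (cdE8.cartI pairE8 (k / 240)) (reflE8 (k / 240)) (etaE8 (k / 240)) (k % 240))) = true := by decide +kernel
theorem e8Conj_13_1677 : allRange 1677 1680 ((fun k => cdE8.checkConj (k / 240) (cdE8.cartI pairE8 (k / 240)) (reflE8 (k / 240)) (etaE8 (k / 240)) (k % 240))) = true := by decide +kernel

/-- Conjugation of root elements by the `n_p` of type E8 (roots 1560 to 1679). -/
theorem e8Conj_13 : ∀ r, 1560 ≤ r → r < 1680 → ((fun k => cdE8.checkConj (k / 240) (cdE8.cartI pairE8 (k / 240)) (reflE8 (k / 240)) (etaE8 (k / 240)) (k % 240))) r = true := by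
  intro r h1 h2
  by_cases c0 : r < 1563
  · exact allRange_spec e8Conj_13_1560 r (by omega) c0
  by_cases c1 : r < 1566
  · exact allRange_spec e8Conj_13_1563 r (by omega) c1
  by_cases c2 : r < 1569
  · exact allRange_spec e8Conj_13_1566 r (by omega) c2
  by_cases c3 : r < 1572
  · exact allRange_spec e8Conj_13_1569 r (by omega) c3
  by_cases c4 : r < 1575
  · exact allRange_spec e8Conj_13_1572 r (by omega) c4
  by_cases c5 : r < 1578
  · exact allRange_spec e8Conj_13_1575 r (by omega) c5
  by_cases c6 : r < 1581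
  · exact allRange_spec e8Conj_13_1578 r (by omega) c6
  by_cases c7 : r < 1584
  · exact allRange_spec e8Conj_13_1581 r (by omega) c7
  by_cases c8 : r < 1587
  · exact allRange_spec e8Conj_13_1584 r (by omega) c8
  by_cases c9 : r < 1590
  · exact allRange_spec e8Conj_13_1587 r (by omega) c9
  by_cases c10 : r < 1593
  · exact allRange_spec e8Conj_13_1590 r (by omega) c10
  by_cases c11 : r < 1596
  · exact allRange_spec e8Conj_13_1593 r (by omega) c11
  by_cases c12 : r < 1599
  · exact allRange_spec e8Conj_13_1596 r (by omega) c12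
  by_cases c13 : r < 1602
  · exact allRange_spec e8Conj_13_1599 r (by omega) c13
  by_cases c14 : r < 1605
  · exact allRange_spec e8Conj_13_1602 r (by omega) c14
  by_cases c15 : r < 1608
  · exact allRange_spec e8Conj_13_1605 r (by omega) c15
  by_cases c16 : r < 1611
  · exact allRange_spec e8Conj_13_1608 r (by omega) c16
  by_cases c17 : r < 1614
  · exact allRange_spec e8Conj_13_1611 r (by omega) c17
  by_cases c18 : r < 1617
  · exact allRange_spec e8Conj_13_1614 r (by omega) c18
  by_cases c19 : r < 1620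
  · exact allRange_spec e8Conj_13_1617 r (by omega) c19
  by_cases c20 : r < 1623
  · exact allRange_spec e8Conj_13_1620 r (by omega) c20
  by_cases c21 : r < 1626
  · exact allRange_spec e8Conj_13_1623 r (by omega) c21
  by_cases c22 : r < 1629
  · exact allRange_spec e8Conj_13_1626 r (by omega) c22
  by_cases c23 : r < 1632
  · exact allRange_spec e8Conj_13_1629 r (by omega) c23
  by_cases c24 : r < 1635
  · exact allRange_spec e8Conj_13_1632 r (by omega) c24
  by_cases c25 : r < 1638
  · exact allRange_spec e8Conj_13_1635 r (by omega) c25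
  by_cases c26 : r < 1641
  · exact allRange_spec e8Conj_13_1638 r (by omega) c26
  by_cases c27 : r < 1644
  · exact allRange_spec e8Conj_13_1641 r (by omega) c27
  by_cases c28 : r < 1647
  · exact allRange_spec e8Conj_13_1644 r (by omega) c28
  by_cases c29 : r < 1650
  · exact allRange_spec e8Conj_13_1647 r (by omega) c29
  by_cases c30 : r < 1653
  · exact allRange_spec e8Conj_13_1650 r (by omega) c30
  by_cases c31 : r < 1656
  · exact allRange_spec e8Conj_13_1653 r (by omega) c31
  by_cases c32 : r < 1659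
  · exact allRange_spec e8Conj_13_1656 r (by omega) c32
  by_cases c33 : r < 1662
  · exact allRange_spec e8Conj_13_1659 r (by omega) c33
  by_cases c34 : r < 1665
  · exact allRange_spec e8Conj_13_1662 r (by omega) c34
  by_cases c35 : r < 1668
  · exact allRange_spec e8Conj_13_1665 r (by omega) c35
  by_cases c36 : r < 1671
  · exact allRange_spec e8Conj_13_1668 r (by omega) c36
  by_cases c37 : r < 1674
  · exact allRange_spec e8Conj_13_1671 r (by omega) c37
  by_cases c38 : r < 1677
  · exact allRange_spec e8Conj_13_1674 r (by omega) c38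
  exact allRange_spec e8Conj_13_1677 r (by omega) h2

end Cfsg.Agent.Lib.Helper3.ChevM
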