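import Cfsg.Agent.Lib.Helper3.ChevData.E8Datum
import Cfsg.Agent.Lib.Helper3.ChevData.E8Tabs
import Cfsg.Agent.Lib.Helper3.ChevM7
set_option autoImplicit false
set_option maxRecDepth 1000000
set_option Elab.async false

namespace Cfsg.Agent.Lib.Helper3.ChevM

theorem e8Conj_14_1680 : allRange 1680 1683 ((fun k => cdE8.checkConj (k / 240) (cdE8.cartI pairE8 (k / 240)) (reflE8 (k / 240)) (etaE8 (k / 240)) (k % 240))) = true := by decide +kernel
theorem e8Conj_14_1683 : allRange 1683 1686 ((fun k => cdE8.checkConj (k / 240) (cdE8.cartI pairE8 (k / 240)) (reflE8 (k / 240)) (etaE8 (k / 240)) (k % 240))) = true := by decide +kernel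
theorem e8Conj_14_1686 : allRange 1686 1689 ((fun k => cdE8.checkConj (k / 240) (cdE8.cartI pairE8 (k / 240)) (reflE8 (k / 240)) (etaE8 (k / 240)) (k % 240))) = true := by decide +kernel
theorem e8Conj_14_1689 : allRange 1689 1692 ((fun k => cdE8.checkConj (k / 240) (cdE8.cartI pairE8 (k / 240)) (reflE8 (k / 240)) (etaE8 (k / 240)) (k % 240))) = true := by decide +kernel
theorem e8Conj_14_1692 : allRange 1692 1695 ((fun k => cdE8.checkConj (k / 240) (cdE8.cartI pairE8 (k / 240)) (reflE8 (k / 240)) (etaE8 (k / 240)) (k % 240))) = true := by decide +kernel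
theorem e8Conj_14_1695 : allRange 1695 1698 ((fun k => cdE8.checkConj (k / 240) (cdE8.cartI pairE8 (k / 240)) (reflE8 (k / 240)) (etaE8 (k / 240)) (k % 240))) = true := by decide +kernel
theorem e8Conj_14_1698 : allRange 1698 1701 ((fun k => cdE8.checkConj (k / 240) (cdE8.cartI pairE8 (k / 240)) (reflE8 (k / 240)) (etaE8 (k / 240)) (k % 240))) = true := by decide +kernel
theorem e8Conj_14_1701 : allRange 1701 1704 ((fun k => cdE8.checkConj (k / 240) (cdE8.cartI pairE8 (k / 240)) (reflE8 (k / 240)) (etaE8 (k / 240)) (k % 240))) = true := by decide +kernel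
theorem e8Conj_14_1704 : allRange 1704 1707 ((fun k => cdE8.checkConj (k / 240) (cdE8.cartI pairE8 (k / 240)) (reflE8 (k / 240)) (etaE8 (k / 240)) (k % 240))) = true := by decide +kernel
theorem e8Conj_14_1707 : allRange 1707 1710 ((fun k => cdE8.checkConj (k / 240) (cdE8.cartI pairE8 (k / 240)) (reflE8 (k / 240)) (etaE8 (k / 240)) (k % 240))) = true := by decide +kernel
theorem e8Conj_14_1710 : allRange 1710 1713 ((fun k => cdE8.checkConj (k / 240) (cdE8.cartI pairE8 (k / 240)) (reflE8 (k / 240)) (etaE8 (k / 240)) (k % 240))) = true := by decide +kernel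
theorem e8Conj_14_1713 : allRange 1713 1716 ((fun k => cdE8.checkConj (k / 240) (cdE8.cartI pairE8 (k / 240)) (reflE8 (k / 240)) (etaE8 (k / 240)) (k % 240))) = true := by decide +kernel
theorem e8Conj_14_1716 : allRange 1716 1719 ((fun k => cdE8.checkConj (k / 240) (cdE8.cartI pairE8 (k / 240)) (reflE8 (k / 240)) (etaE8 (k / 240)) (k % 240))) = true := by decide +kernel
theorem e8Conj_14_1719 : allRange 1719 1722 ((fun k => cdE8.checkConj (k / 240) (cdE8.cartI pairE8 (k / 240)) (reflE8 (k / 240)) (etaE8 (k / 240)) (k % 240))) = true := by decide +kernel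
theorem e8Conj_14_1722 : allRange 1722 1725 ((fun k => cdE8.checkConj (k / 240) (cdE8.cartI pairE8 (k / 240)) (reflE8 (k / 240)) (etaE8 (k / 240)) (k % 240))) = true := by decide +kernel
theorem e8Conj_14_1725 : allRange 1725 1728 ((fun k => cdE8.checkConj (k / 240) (cdE8.cartI pairE8 (k / 240)) (reflE8 (k / 240)) (etaE8 (k / 240)) (k % 240))) = true := by decide +kernel
theorem e8Conj_14_1728 : allRange 1728 1731 ((fun k => cdE8.checkConj (k / 240) (cdE8.cartI pairE8 (k / 240)) (reflE8 (k / 240)) (etaE8 (k / 240)) (k % 240))) = true := by decide +kernel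
theorem e8Conj_14_1731 : allRange 1731 1734 ((fun k => cdE8.checkConj (k / 240) (cdE8.cartI pairE8 (k / 240)) (reflE8 (k / 240)) (etaE8 (k / 240)) (k % 240))) = true := by decide +kernel
theorem e8Conj_14_1734 : allRange 1734 1737 ((fun k => cdE8.checkConj (k / 240) (cdE8.cartI pairE8 (k / 240)) (reflE8 (k / 240)) (etaE8 (k / 240)) (k % 240))) = true := by decide +kernel
theorem e8Conj_14_1737 : allRange 1737 1740 ((fun k => cdE8.checkConj (k / 240) (cdE8.cartI pairE8 (k / 240)) (reflE8 (k / 240)) (etaE8 (k / 240)) (k % 240))) = true := by decide +kernel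
theorem e8Conj_14_1740 : allRange 1740 1743 ((fun k => cdE8.checkConj (k / 240) (cdE8.cartI pairE8 (k / 240)) (reflE8 (k / 240)) (etaE8 (k / 240)) (k % 240))) = true := by decide +kernel
theorem e8Conj_14_1743 : allRange 1743 1746 ((fun k => cdE8.checkConj (k / 240) (cdE8.cartI pairE8 (k / 240)) (reflE8 (k / 240)) (etaE8 (k / 240)) (k % 240))) = true := by decide +kernel
theorem e8Conj_14_1746 : allRange 1746 1749 ((fun k => cdE8.checkConj (k / 240) (cdE8.cartI pairE8 (k / 240)) (reflE8 (k / 240)) (etaE8 (k / 240)) (k % 240))) = true := by decide +kernel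
theorem e8Conj_14_1749 : allRange 1749 1752 ((fun k => cdE8.checkConj (k / 240) (cdE8.cartI pairE8 (k / 240)) (reflE8 (k / 240)) (etaE8 (k / 240)) (k % 240))) = true := by decide +kernel
theorem e8Conj_14_1752 : allRange 1752 1755 ((fun k => cdE8.checkConj (k / 240) (cdE8.cartI pairE8 (k / 240)) (reflE8 (k / 240)) (etaE8 (k / 240)) (k % 240))) = true := by decide +kernel
theorem e8Conj_14_1755 : allRange 1755 1758 ((fun k => cdE8.checkConj (k / 240) (cdE8.cartI pairE8 (k / 240)) (reflE8 (k / 240)) (etaE8 (k / 240)) (k % 240))) = true := by decide +kernel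
theorem e8Conj_14_1758 : allRange 1758 1761 ((fun k => cdE8.checkConj (k / 240) (cdE8.cartI pairE8 (k / 240)) (reflE8 (k / 240)) (etaE8 (k / 240)) (k % 240))) = true := by decide +kernel
theorem e8Conj_14_1761 : allRange 1761 1764 ((fun k => cdE8.checkConj (k / 240) (cdE8.cartI pairE8 (k / 240)) (reflE8 (k / 240)) (etaE8 (k / 240)) (k % 240))) = true := by decide +kernel
theorem e8Conj_14_1764 : allRange 1764 1767 ((fun k => cdE8.checkConj (k / 240) (cdE8.cartI pairE8 (k / 240)) (reflE8 (k / 240)) (etaE8 (k / 240)) (k % 240))) = true := by decide +kernel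
theorem e8Conj_14_1767 : allRange 1767 1770 ((fun k => cdE8.checkConj (k / 240) (cdE8.cartI pairE8 (k / 240)) (reflE8 (k / 240)) (etaE8 (k / 240)) (k % 240))) = true := by decide +kernel
theorem e8Conj_14_1770 : allRange 1770 1773 ((fun k => cdE8.checkConj (k / 240) (cdE8.cartI pairE8 (k / 240)) (reflE8 (k / 240)) (etaE8 (k / 240)) (k % 240))) = true := by decide +kernel
theorem e8Conj_14_1773 : allRange 1773 1776 ((fun k => cdE8.checkConj (k / 240) (cdE8.cartI pairE8 (k / 240)) (reflE8 (k / 240)) (etaE8 (k / 240)) (k % 240))) = true := by decide +kernel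
theorem e8Conj_14_1776 : allRange 1776 1779 ((fun k => cdE8.checkConj (k / 240) (cdE8.cartI pairE8 (k / 240)) (reflE8 (k / 240)) (etaE8 (k / 240)) (k % 240))) = true := by decide +kernel
theorem e8Conj_14_1779 : allRange 1779 1782 ((fun k => cdE8.checkConj (k / 240) (cdE8.cartI pairE8 (k / 240)) (reflE8 (k / 240)) (etaE8 (k / 240)) (k % 240))) = true := by decide +kernel
theorem e8Conj_14_1782 : allRange 1782 1785 ((fun k => cdE8.checkConj (k / 240) (cdE8.cartI pairE8 (k / 240)) (reflE8 (k / 240)) (etaE8 (k / 240)) (k % 240))) = true := by decide +kernel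
theorem e8Conj_14_1785 : allRange 1785 1788 ((fun k => cdE8.checkConj (k / 240) (cdE8.cartI pairE8 (k / 240)) (reflE8 (k / 240)) (etaE8 (k / 240)) (k % 240))) = true := by decide +kernel
theorem e8Conj_14_1788 : allRange 1788 1791 ((fun k => cdE8.checkConj (k / 240) (cdE8.cartI pairE8 (k / 240)) (reflE8 (k / 240)) (etaE8 (k / 240)) (k % 240))) = true := by decide +kernel
theorem e8Conj_14_1791 : allRange 1791 1794 ((fun k => cdE8.checkConj (k / 240) (cdE8.cartI pairE8 (k / 240)) (reflE8 (k / 240)) (etaE8 (k / 240)) (k % 240))) = true := by decide +kernel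
theorem e8Conj_14_1794 : allRange 1794 1797 ((fun k => cdE8.checkConj (k / 240) (cdE8.cartI pairE8 (k / 240)) (reflE8 (k / 240)) (etaE8 (k / 240)) (k % 240))) = true := by decide +kernel
theorem e8Conj_14_1797 : allRange 1797 1800 ((fun k => cdE8.checkConj (k / 240) (cdE8.cartI pairE8 (k / 240)) (reflE8 (k / 240)) (etaE8 (k / 240)) (k % 240))) = true := by decide +kernel

/-- Conjugation of root elements by the `n_p` of type E8 (roots 1680 to 1799). -/
theorem e8Conj_14 : ∀ r, 1680 ≤ r → r < 1800 → ((fun k => cdE8.checkConj (k / 240) (cdE8.cartI pairE8 (k / 240)) (reflE8 (k / 240)) (etaE8 (k / 240)) (k % 240))) r = true := by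
  intro r h1 h2
  by_cases c0 : r < 1683
  · exact allRange_spec e8Conj_14_1680 r (by omega) c0
  by_cases c1 : r < 1686
  · exact allRange_spec e8Conj_14_1683 r (by omega) c1
  by_cases c2 : r < 1689
  · exact allRange_spec e8Conj_14_1686 r (by omega) c2
  by_cases c3 : r < 1692
  · exact allRange_spec e8Conj_14_1689 r (by omega) c3
  by_cases c4 : r < 1695
  · exact allRange_spec e8Conj_14_1692 r (by omega) c4
  by_cases c5 : r < 1698
  · exact allRange_spec e8Conj_14_1695 r (by omega) c5
  by_cases c6 : r < 1701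
  · exact allRange_spec e8Conj_14_1698 r (by omega) c6
  by_cases c7 : r < 1704
  · exact allRange_spec e8Conj_14_1701 r (by omega) c7
  by_cases c8 : r < 1707
  · exact allRange_spec e8Conj_14_1704 r (by omega) c8
  by_cases c9 : r < 1710
  · exact allRange_spec e8Conj_14_1707 r (by omega) c9
  by_cases c10 : r < 1713
  · exact allRange_spec e8Conj_14_1710 r (by omega) c10
  by_cases c11 : r < 1716
  · exact allRange_spec e8Conj_14_1713 r (by omega) c11
  by_cases c12 : r < 1719
  · exact allRange_spec e8Conj_14_1716 r (by omega) c12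
  by_cases c13 : r < 1722
  · exact allRange_spec e8Conj_14_1719 r (by omega) c13
  by_cases c14 : r < 1725
  · exact allRange_spec e8Conj_14_1722 r (by omega) c14
  by_cases c15 : r < 1728
  · exact allRange_spec e8Conj_14_1725 r (by omega) c15
  by_cases c16 : r < 1731
  · exact allRange_spec e8Conj_14_1728 r (by omega) c16
  by_cases c17 : r < 1734
  · exact allRange_spec e8Conj_14_1731 r (by omega) c17
  by_cases c18 : r < 1737
  · exact allRange_spec e8Conj_14_1734 r (by omega) c18
  by_cases c19 : r < 1740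
  · exact allRange_spec e8Conj_14_1737 r (by omega) c19
  by_cases c20 : r < 1743
  · exact allRange_spec e8Conj_14_1740 r (by omega) c20
  by_cases c21 : r < 1746
  · exact allRange_spec e8Conj_14_1743 r (by omega) c21
  by_cases c22 : r < 1749
  · exact allRange_spec e8Conj_14_1746 r (by omega) c22
  by_cases c23 : r < 1752
  · exact allRange_spec e8Conj_14_1749 r (by omega) c23
  by_cases c24 : r < 1755
  · exact allRange_spec e8Conj_14_1752 r (by omega) c24
  by_cases c25 : r < 1758
  · exact allRange_spec e8Conj_14_1755 r (by omega) c25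
  by_cases c26 : r < 1761
  · exact allRange_spec e8Conj_14_1758 r (by omega) c26
  by_cases c27 : r < 1764
  · exact allRange_spec e8Conj_14_1761 r (by omega) c27
  by_cases c28 : r < 1767
  · exact allRange_spec e8Conj_14_1764 r (by omega) c28
  by_cases c29 : r < 1770
  · exact allRange_spec e8Conj_14_1767 r (by omega) c29
  by_cases c30 : r < 1773
  · exact allRange_spec e8Conj_14_1770 r (by omega) c30
  by_cases c31 : r < 1776
  · exact allRange_spec e8Conj_14_1773 r (by omega) c31
  by_cases c32 : r < 1779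
  · exact allRange_spec e8Conj_14_1776 r (by omega) c32
  by_cases c33 : r < 1782
  · exact allRange_spec e8Conj_14_1779 r (by omega) c33
  by_cases c34 : r < 1785
  · exact allRange_spec e8Conj_14_1782 r (by omega) c34
  by_cases c35 : r < 1788
  · exact allRange_spec e8Conj_14_1785 r (by omega) c35
  by_cases c36 : r < 1791
  · exact allRange_spec e8Conj_14_1788 r (by omega) c36
  by_cases c37 : r < 1794
  · exact allRange_spec e8Conj_14_1791 r (by omega) c37
  by_cases c38 : r < 1797
  · exact allRange_spec e8Conj_14_1794 r (by omega) c38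
  exact allRange_spec e8Conj_14_1797 r (by omega) h2

end Cfsg.Agent.Lib.Helper3.ChevM
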