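import Cfsg.Agent.Lib.Helper3.ChevData.E8Datum
import Cfsg.Agent.Lib.Helper3.ChevData.E8Tabs
import Cfsg.Agent.Lib.Helper3.ChevM7
set_option autoImplicit false
set_option maxRecDepth 1000000
set_option Elab.async false

namespace Cfsg.Agent.Lib.Helper3.ChevM

theorem e8Conj_15_1800 : allRange 1800 1803 ((fun k => cdE8.checkConj (k / 240) (cdE8.cartI pairE8 (k / 240)) (reflE8 (k / 240)) (etaE8 (k / 240)) (k % 240))) = true := by decide +kernel
theorem e8Conj_15_1803 : allRange 1803 1806 ((fun k => cdE8.checkConj (k / 240) (cdE8.cartI pairE8 (k / 240)) (reflE8 (k / 240)) (etaE8 (k / 240)) (k % 240))) = true := by decide +kernel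
theorem e8Conj_15_1806 : allRange 1806 1809 ((fun k => cdE8.checkConj (k / 240) (cdE8.cartI pairE8 (k / 240)) (reflE8 (k / 240)) (etaE8 (k / 240)) (k % 240))) = true := by decide +kernel
theorem e8Conj_15_1809 : allRange 1809 1812 ((fun k => cdE8.checkConj (k / 240) (cdE8.cartI pairE8 (k / 240)) (reflE8 (k / 240)) (etaE8 (k / 240)) (k % 240))) = true := by decide +kernel
theorem e8Conj_15_1812 : allRange 1812 1815 ((fun k => cdE8.checkConj (k / 240) (cdE8.cartI pairE8 (k / 240)) (reflE8 (k / 240)) (etaE8 (k / 240)) (k % 240))) = true := by decide +kernel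
theorem e8Conj_15_1815 : allRange 1815 1818 ((fun k => cdE8.checkConj (k / 240) (cdE8.cartI pairE8 (k / 240)) (reflE8 (k / 240)) (etaE8 (k / 240)) (k % 240))) = true := by decide +kernel
theorem e8Conj_15_1818 : allRange 1818 1821 ((fun k => cdE8.checkConj (k / 240) (cdE8.cartI pairE8 (k / 240)) (reflE8 (k / 240)) (etaE8 (k / 240)) (k % 240))) = true := by decide +kernel
theorem e8Conj_15_1821 : allRange 1821 1824 ((fun k => cdE8.checkConj (k / 240) (cdE8.cartI pairE8 (k / 240)) (reflE8 (k / 240)) (etaE8 (k / 240)) (k % 240))) = true := by decide +kernel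
theorem e8Conj_15_1824 : allRange 1824 1827 ((fun k => cdE8.checkConj (k / 240) (cdE8.cartI pairE8 (k / 240)) (reflE8 (k / 240)) (etaE8 (k / 240)) (k % 240))) = true := by decide +kernel
theorem e8Conj_15_1827 : allRange 1827 1830 ((fun k => cdE8.checkConj (k / 240) (cdE8.cartI pairE8 (k / 240)) (reflE8 (k / 240)) (etaE8 (k / 240)) (k % 240))) = true := by decide +kernel
theorem e8Conj_15_1830 : allRange 1830 1833 ((fun k => cdE8.checkConj (k / 240) (cdE8.cartI pairE8 (k / 240)) (reflE8 (k / 240)) (etaE8 (k / 240)) (k % 240))) = true := by decide +kernel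
theorem e8Conj_15_1833 : allRange 1833 1836 ((fun k => cdE8.checkConj (k / 240) (cdE8.cartI pairE8 (k / 240)) (reflE8 (k / 240)) (etaE8 (k / 240)) (k % 240))) = true := by decide +kernel
theorem e8Conj_15_1836 : allRange 1836 1839 ((fun k => cdE8.checkConj (k / 240) (cdE8.cartI pairE8 (k / 240)) (reflE8 (k / 240)) (etaE8 (k / 240)) (k % 240))) = true := by decide +kernel
theorem e8Conj_15_1839 : allRange 1839 1842 ((fun k => cdE8.checkConj (k / 240) (cdE8.cartI pairE8 (k / 240)) (reflE8 (k / 240)) (etaE8 (k / 240)) (k % 240))) = true := by decide +kernel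
theorem e8Conj_15_1842 : allRange 1842 1845 ((fun k => cdE8.checkConj (k / 240) (cdE8.cartI pairE8 (k / 240)) (reflE8 (k / 240)) (etaE8 (k / 240)) (k % 240))) = true := by decide +kernel
theorem e8Conj_15_1845 : allRange 1845 1848 ((fun k => cdE8.checkConj (k / 240) (cdE8.cartI pairE8 (k / 240)) (reflE8 (k / 240)) (etaE8 (k / 240)) (k % 240))) = true := by decide +kernel
theorem e8Conj_15_1848 : allRange 1848 1851 ((fun k => cdE8.checkConj (k / 240) (cdE8.cartI pairE8 (k / 240)) (reflE8 (k / 240)) (etaE8 (k / 240)) (k % 240))) = true := by decide +kernel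
theorem e8Conj_15_1851 : allRange 1851 1854 ((fun k => cdE8.checkConj (k / 240) (cdE8.cartI pairE8 (k / 240)) (reflE8 (k / 240)) (etaE8 (k / 240)) (k % 240))) = true := by decide +kernel
theorem e8Conj_15_1854 : allRange 1854 1857 ((fun k => cdE8.checkConj (k / 240) (cdE8.cartI pairE8 (k / 240)) (reflE8 (k / 240)) (etaE8 (k / 240)) (k % 240))) = true := by decide +kernel
theorem e8Conj_15_1857 : allRange 1857 1860 ((fun k => cdE8.checkConj (k / 240) (cdE8.cartI pairE8 (k / 240)) (reflE8 (k / 240)) (etaE8 (k / 240)) (k % 240))) = true := by decide +kernel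
theorem e8Conj_15_1860 : allRange 1860 1863 ((fun k => cdE8.checkConj (k / 240) (cdE8.cartI pairE8 (k / 240)) (reflE8 (k / 240)) (etaE8 (k / 240)) (k % 240))) = true := by decide +kernel
theorem e8Conj_15_1863 : allRange 1863 1866 ((fun k => cdE8.checkConj (k / 240) (cdE8.cartI pairE8 (k / 240)) (reflE8 (k / 240)) (etaE8 (k / 240)) (k % 240))) = true := by decide +kernel
theorem e8Conj_15_1866 : allRange 1866 1869 ((fun k => cdE8.checkConj (k / 240) (cdE8.cartI pairE8 (k / 240)) (reflE8 (k / 240)) (etaE8 (k / 240)) (k % 240))) = true := by decide +kernel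
theorem e8Conj_15_1869 : allRange 1869 1872 ((fun k => cdE8.checkConj (k / 240) (cdE8.cartI pairE8 (k / 240)) (reflE8 (k / 240)) (etaE8 (k / 240)) (k % 240))) = true := by decide +kernel
theorem e8Conj_15_1872 : allRange 1872 1875 ((fun k => cdE8.checkConj (k / 240) (cdE8.cartI pairE8 (k / 240)) (reflE8 (k / 240)) (etaE8 (k / 240)) (k % 240))) = true := by decide +kernel
theorem e8Conj_15_1875 : allRange 1875 1878 ((fun k => cdE8.checkConj (k / 240) (cdE8.cartI pairE8 (k / 240)) (reflE8 (k / 240)) (etaE8 (k / 240)) (k % 240))) = true := by decide +kernel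
theorem e8Conj_15_1878 : allRange 1878 1881 ((fun k => cdE8.checkConj (k / 240) (cdE8.cartI pairE8 (k / 240)) (reflE8 (k / 240)) (etaE8 (k / 240)) (k % 240))) = true := by decide +kernel
theorem e8Conj_15_1881 : allRange 1881 1884 ((fun k => cdE8.checkConj (k / 240) (cdE8.cartI pairE8 (k / 240)) (reflE8 (k / 240)) (etaE8 (k / 240)) (k % 240))) = true := by decide +kernel
theorem e8Conj_15_1884 : allRange 1884 1887 ((fun k => cdE8.checkConj (k / 240) (cdE8.cartI pairE8 (k / 240)) (reflE8 (k / 240)) (etaE8 (k / 240)) (k % 240))) = true := by decide +kernel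
theorem e8Conj_15_1887 : allRange 1887 1890 ((fun k => cdE8.checkConj (k / 240) (cdE8.cartI pairE8 (k / 240)) (reflE8 (k / 240)) (etaE8 (k / 240)) (k % 240))) = true := by decide +kernel
theorem e8Conj_15_1890 : allRange 1890 1893 ((fun k => cdE8.checkConj (k / 240) (cdE8.cartI pairE8 (k / 240)) (reflE8 (k / 240)) (etaE8 (k / 240)) (k % 240))) = true := by decide +kernel
theorem e8Conj_15_1893 : allRange 1893 1896 ((fun k => cdE8.checkConj (k / 240) (cdE8.cartI pairE8 (k / 240)) (reflE8 (k / 240)) (etaE8 (k / 240)) (k % 240))) = true := by decide +kernel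
theorem e8Conj_15_1896 : allRange 1896 1899 ((fun k => cdE8.checkConj (k / 240) (cdE8.cartI pairE8 (k / 240)) (reflE8 (k / 240)) (etaE8 (k / 240)) (k % 240))) = true := by decide +kernel
theorem e8Conj_15_1899 : allRange 1899 1902 ((fun k => cdE8.checkConj (k / 240) (cdE8.cartI pairE8 (k / 240)) (reflE8 (k / 240)) (etaE8 (k / 240)) (k % 240))) = true := by decide +kernel
theorem e8Conj_15_1902 : allRange 1902 1905 ((fun k => cdE8.checkConj (k / 240) (cdE8.cartI pairE8 (k / 240)) (reflE8 (k / 240)) (etaE8 (k / 240)) (k % 240))) = true := by decide +kernel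
theorem e8Conj_15_1905 : allRange 1905 1908 ((fun k => cdE8.checkConj (k / 240) (cdE8.cartI pairE8 (k / 240)) (reflE8 (k / 240)) (etaE8 (k / 240)) (k % 240))) = true := by decide +kernel
theorem e8Conj_15_1908 : allRange 1908 1911 ((fun k => cdE8.checkConj (k / 240) (cdE8.cartI pairE8 (k / 240)) (reflE8 (k / 240)) (etaE8 (k / 240)) (k % 240))) = true := by decide +kernel
theorem e8Conj_15_1911 : allRange 1911 1914 ((fun k => cdE8.checkConj (k / 240) (cdE8.cartI pairE8 (k / 240)) (reflE8 (k / 240)) (etaE8 (k / 240)) (k % 240))) = true := by decide +kernel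
theorem e8Conj_15_1914 : allRange 1914 1917 ((fun k => cdE8.checkConj (k / 240) (cdE8.cartI pairE8 (k / 240)) (reflE8 (k / 240)) (etaE8 (k / 240)) (k % 240))) = true := by decide +kernel
theorem e8Conj_15_1917 : allRange 1917 1920 ((fun k => cdE8.checkConj (k / 240) (cdE8.cartI pairE8 (k / 240)) (reflE8 (k / 240)) (etaE8 (k / 240)) (k % 240))) = true := by decide +kernel

/-- Conjugation of root elements by the `n_p` of type E8 (roots 1800 to 1919). -/
theorem e8Conj_15 : ∀ r, 1800 ≤ r → r < 1920 → ((fun k => cdE8.checkConj (k / 240) (cdE8.cartI pairE8 (k / 240)) (reflE8 (k / 240)) (etaE8 (k / 240)) (k % 240))) r = true := by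
  intro r h1 h2
  by_cases c0 : r < 1803
  · exact allRange_spec e8Conj_15_1800 r (by omega) c0
  by_cases c1 : r < 1806
  · exact allRange_spec e8Conj_15_1803 r (by omega) c1
  by_cases c2 : r < 1809
  · exact allRange_spec e8Conj_15_1806 r (by omega) c2
  by_cases c3 : r < 1812
  · exact allRange_spec e8Conj_15_1809 r (by omega) c3
  by_cases c4 : r < 1815
  · exact allRange_spec e8Conj_15_1812 r (by omega) c4
  by_cases c5 : r < 1818
  · exact allRange_spec e8Conj_15_1815 r (by omega) c5
  by_cases c6 : r < 1821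
  · exact allRange_spec e8Conj_15_1818 r (by omega) c6
  by_cases c7 : r < 1824
  · exact allRange_spec e8Conj_15_1821 r (by omega) c7
  by_cases c8 : r < 1827
  · exact allRange_spec e8Conj_15_1824 r (by omega) c8
  by_cases c9 : r < 1830
  · exact allRange_spec e8Conj_15_1827 r (by omega) c9
  by_cases c10 : r < 1833
  · exact allRange_spec e8Conj_15_1830 r (by omega) c10
  by_cases c11 : r < 1836
  · exact allRange_spec e8Conj_15_1833 r (by omega) c11
  by_cases c12 : r < 1839
  · exact allRange_spec e8Conj_15_1836 r (by omega) c12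
  by_cases c13 : r < 1842
  · exact allRange_spec e8Conj_15_1839 r (by omega) c13
  by_cases c14 : r < 1845
  · exact allRange_spec e8Conj_15_1842 r (by omega) c14
  by_cases c15 : r < 1848
  · exact allRange_spec e8Conj_15_1845 r (by omega) c15
  by_cases c16 : r < 1851
  · exact allRange_spec e8Conj_15_1848 r (by omega) c16
  by_cases c17 : r < 1854
  · exact allRange_spec e8Conj_15_1851 r (by omega) c17
  by_cases c18 : r < 1857
  · exact allRange_spec e8Conj_15_1854 r (by omega) c18
  by_cases c19 : r < 1860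
  · exact allRange_spec e8Conj_15_1857 r (by omega) c19
  by_cases c20 : r < 1863
  · exact allRange_spec e8Conj_15_1860 r (by omega) c20
  by_cases c21 : r < 1866
  · exact allRange_spec e8Conj_15_1863 r (by omega) c21
  by_cases c22 : r < 1869
  · exact allRange_spec e8Conj_15_1866 r (by omega) c22
  by_cases c23 : r < 1872
  · exact allRange_spec e8Conj_15_1869 r (by omega) c23
  by_cases c24 : r < 1875
  · exact allRange_spec e8Conj_15_1872 r (by omega) c24
  by_cases c25 : r < 1878
  · exact allRange_spec e8Conj_15_1875 r (by omega) c25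
  by_cases c26 : r < 1881
  · exact allRange_spec e8Conj_15_1878 r (by omega) c26
  by_cases c27 : r < 1884
  · exact allRange_spec e8Conj_15_1881 r (by omega) c27
  by_cases c28 : r < 1887
  · exact allRange_spec e8Conj_15_1884 r (by omega) c28
  by_cases c29 : r < 1890
  · exact allRange_spec e8Conj_15_1887 r (by omega) c29
  by_cases c30 : r < 1893
  · exact allRange_spec e8Conj_15_1890 r (by omega) c30
  by_cases c31 : r < 1896
  · exact allRange_spec e8Conj_15_1893 r (by omega) c31
  by_cases c32 : r < 1899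
  · exact allRange_spec e8Conj_15_1896 r (by omega) c32
  by_cases c33 : r < 1902
  · exact allRange_spec e8Conj_15_1899 r (by omega) c33
  by_cases c34 : r < 1905
  · exact allRange_spec e8Conj_15_1902 r (by omega) c34
  by_cases c35 : r < 1908
  · exact allRange_spec e8Conj_15_1905 r (by omega) c35
  by_cases c36 : r < 1911
  · exact allRange_spec e8Conj_15_1908 r (by omega) c36
  by_cases c37 : r < 1914
  · exact allRange_spec e8Conj_15_1911 r (by omega) c37
  by_cases c38 : r < 1917
  · exact allRange_spec e8Conj_15_1914 r (by omega) c38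
  exact allRange_spec e8Conj_15_1917 r (by omega) h2

end Cfsg.Agent.Lib.Helper3.ChevM
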