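import Cfsg.Agent.Lib.Helper3.ChevData.E8ConjA
import Cfsg.Agent.Lib.Helper3.ChevData.E8ConjB
import Cfsg.Agent.Lib.Helper3.ChevData.E8ConjC
import Cfsg.Agent.Lib.Helper3.ChevData.E8ConjD
import Cfsg.Agent.Lib.Helper3.ChevData.E8ConjE
import Cfsg.Agent.Lib.Helper3.ChevData.E8ConjF
import Cfsg.Agent.Lib.Helper3.ChevData.E8ConjG
import Cfsg.Agent.Lib.Helper3.ChevData.E8ConjH
import Cfsg.Agent.Lib.Helper3.ChevData.E8ConjI
import Cfsg.Agent.Lib.Helper3.ChevData.E8ConjJ
import Cfsg.Agent.Lib.Helper3.ChevData.E8ConjK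
import Cfsg.Agent.Lib.Helper3.ChevData.E8ConjL
import Cfsg.Agent.Lib.Helper3.ChevData.E8ConjM
import Cfsg.Agent.Lib.Helper3.ChevData.E8ConjN
import Cfsg.Agent.Lib.Helper3.ChevData.E8ConjO
import Cfsg.Agent.Lib.Helper3.ChevData.E8ConjP
set_option autoImplicit false

namespace Cfsg.Agent.Lib.Helper3.ChevM

/-- Conjugation of root elements by the `n_p` of type E8. -/
theorem e8Conj : ∀ r < 1920, ((fun k => cdE8.checkConj (k / 240) (cdE8.cartI pairE8 (k / 240)) (reflE8 (k / 240)) (etaE8 (k / 240)) (k % 240))) r = true := by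
  intro r hr
  by_cases h0 : r < 120
  · exact e8Conj_0 r (by omega) h0
  by_cases h1 : r < 240
  · exact e8Conj_1 r (by omega) h1
  by_cases h2 : r < 360
  · exact e8Conj_2 r (by omega) h2
  by_cases h3 : r < 480
  · exact e8Conj_3 r (by omega) h3
  by_cases h4 : r < 600
  · exact e8Conj_4 r (by omega) h4
  by_cases h5 : r < 720
  · exact e8Conj_5 r (by omega) h5
  by_cases h6 : r < 840
  · exact e8Conj_6 r (by omega) h6
  by_cases h7 : r < 960
  · exact e8Conj_7 r (by omega) h7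
  by_cases h8 : r < 1080
  · exact e8Conj_8 r (by omega) h8
  by_cases h9 : r < 1200
  · exact e8Conj_9 r (by omega) h9
  by_cases h10 : r < 1320
  · exact e8Conj_10 r (by omega) h10
  by_cases h11 : r < 1440
  · exact e8Conj_11 r (by omega) h11
  by_cases h12 : r < 1560
  · exact e8Conj_12 r (by omega) h12
  by_cases h13 : r < 1680
  · exact e8Conj_13 r (by omega) h13
  by_cases h14 : r < 1800
  · exact e8Conj_14 r (by omega) h14
  exact e8Conj_15 r (by omega) hr

end Cfsg.Agent.Lib.Helper3.ChevM
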