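import Cfsg.Agent.Lib.Helper3.ChevData.E8Datum
import Cfsg.Agent.Lib.Helper3.ChevData.E8Tabs
import Cfsg.Agent.Lib.Helper3.ChevM7
set_option autoImplicit false
set_option maxRecDepth 1000000
set_option Elab.async false

namespace Cfsg.Agent.Lib.Helper3.ChevM

theorem e8Dx_1_172 : allRange 172 176 ((fun k => cdE8.checkDX (cdE8.expo pairE8 (Cfsg.Lie.chevE8.simple (k / 240))) (pairE8 (Cfsg.Lie.chevE8.simple (k / 240)) (k % 240)) (k % 240))) = true := by decide +kernel
theorem e8Dx_1_176 : allRange 176 180 ((fun k => cdE8.checkDX (cdE8.expo pairE8 (Cfsg.Lie.chevE8.simple (k / 240))) (pairE8 (Cfsg.Lie.chevE8.simple (k / 240)) (k % 240)) (k % 240))) = true := by decide +kernel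
theorem e8Dx_1_180 : allRange 180 184 ((fun k => cdE8.checkDX (cdE8.expo pairE8 (Cfsg.Lie.chevE8.simple (k / 240))) (pairE8 (Cfsg.Lie.chevE8.simple (k / 240)) (k % 240)) (k % 240))) = true := by decide +kernel
theorem e8Dx_1_184 : allRange 184 188 ((fun k => cdE8.checkDX (cdE8.expo pairE8 (Cfsg.Lie.chevE8.simple (k / 240))) (pairE8 (Cfsg.Lie.chevE8.simple (k / 240)) (k % 240)) (k % 240))) = true := by decide +kernel
theorem e8Dx_1_188 : allRange 188 192 ((fun k => cdE8.checkDX (cdE8.expo pairE8 (Cfsg.Lie.chevE8.simple (k / 240))) (pairE8 (Cfsg.Lie.chevE8.simple (k / 240)) (k % 240)) (k % 240))) = true := by decide +kernel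
theorem e8Dx_1_192 : allRange 192 196 ((fun k => cdE8.checkDX (cdE8.expo pairE8 (Cfsg.Lie.chevE8.simple (k / 240))) (pairE8 (Cfsg.Lie.chevE8.simple (k / 240)) (k % 240)) (k % 240))) = true := by decide +kernel
theorem e8Dx_1_196 : allRange 196 200 ((fun k => cdE8.checkDX (cdE8.expo pairE8 (Cfsg.Lie.chevE8.simple (k / 240))) (pairE8 (Cfsg.Lie.chevE8.simple (k / 240)) (k % 240)) (k % 240))) = true := by decide +kernel
theorem e8Dx_1_200 : allRange 200 204 ((fun k => cdE8.checkDX (cdE8.expo pairE8 (Cfsg.Lie.chevE8.simple (k / 240))) (pairE8 (Cfsg.Lie.chevE8.simple (k / 240)) (k % 240)) (k % 240))) = true := by decide +kernel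
theorem e8Dx_1_204 : allRange 204 208 ((fun k => cdE8.checkDX (cdE8.expo pairE8 (Cfsg.Lie.chevE8.simple (k / 240))) (pairE8 (Cfsg.Lie.chevE8.simple (k / 240)) (k % 240)) (k % 240))) = true := by decide +kernel
theorem e8Dx_1_208 : allRange 208 212 ((fun k => cdE8.checkDX (cdE8.expo pairE8 (Cfsg.Lie.chevE8.simple (k / 240))) (pairE8 (Cfsg.Lie.chevE8.simple (k / 240)) (k % 240)) (k % 240))) = true := by decide +kernel
theorem e8Dx_1_212 : allRange 212 216 ((fun k => cdE8.checkDX (cdE8.expo pairE8 (Cfsg.Lie.chevE8.simple (k / 240))) (pairE8 (Cfsg.Lie.chevE8.simple (k / 240)) (k % 240)) (k % 240))) = true := by decide +kernel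
theorem e8Dx_1_216 : allRange 216 220 ((fun k => cdE8.checkDX (cdE8.expo pairE8 (Cfsg.Lie.chevE8.simple (k / 240))) (pairE8 (Cfsg.Lie.chevE8.simple (k / 240)) (k % 240)) (k % 240))) = true := by decide +kernel
theorem e8Dx_1_220 : allRange 220 224 ((fun k => cdE8.checkDX (cdE8.expo pairE8 (Cfsg.Lie.chevE8.simple (k / 240))) (pairE8 (Cfsg.Lie.chevE8.simple (k / 240)) (k % 240)) (k % 240))) = true := by decide +kernel
theorem e8Dx_1_224 : allRange 224 228 ((fun k => cdE8.checkDX (cdE8.expo pairE8 (Cfsg.Lie.chevE8.simple (k / 240))) (pairE8 (Cfsg.Lie.chevE8.simple (k / 240)) (k % 240)) (k % 240))) = true := by decide +kernel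
theorem e8Dx_1_228 : allRange 228 232 ((fun k => cdE8.checkDX (cdE8.expo pairE8 (Cfsg.Lie.chevE8.simple (k / 240))) (pairE8 (Cfsg.Lie.chevE8.simple (k / 240)) (k % 240)) (k % 240))) = true := by decide +kernel
theorem e8Dx_1_232 : allRange 232 236 ((fun k => cdE8.checkDX (cdE8.expo pairE8 (Cfsg.Lie.chevE8.simple (k / 240))) (pairE8 (Cfsg.Lie.chevE8.simple (k / 240)) (k % 240)) (k % 240))) = true := by decide +kernel
theorem e8Dx_1_236 : allRange 236 240 ((fun k => cdE8.checkDX (cdE8.expo pairE8 (Cfsg.Lie.chevE8.simple (k / 240))) (pairE8 (Cfsg.Lie.chevE8.simple (k / 240)) (k % 240)) (k % 240))) = true := by decide +kernel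
theorem e8Dx_1_240 : allRange 240 244 ((fun k => cdE8.checkDX (cdE8.expo pairE8 (Cfsg.Lie.chevE8.simple (k / 240))) (pairE8 (Cfsg.Lie.chevE8.simple (k / 240)) (k % 240)) (k % 240))) = true := by decide +kernel
theorem e8Dx_1_244 : allRange 244 248 ((fun k => cdE8.checkDX (cdE8.expo pairE8 (Cfsg.Lie.chevE8.simple (k / 240))) (pairE8 (Cfsg.Lie.chevE8.simple (k / 240)) (k % 240)) (k % 240))) = true := by decide +kernel
theorem e8Dx_1_248 : allRange 248 252 ((fun k => cdE8.checkDX (cdE8.expo pairE8 (Cfsg.Lie.chevE8.simple (k / 240))) (pairE8 (Cfsg.Lie.chevE8.simple (k / 240)) (k % 240)) (k % 240))) = true := by decide +kernel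
theorem e8Dx_1_252 : allRange 252 256 ((fun k => cdE8.checkDX (cdE8.expo pairE8 (Cfsg.Lie.chevE8.simple (k / 240))) (pairE8 (Cfsg.Lie.chevE8.simple (k / 240)) (k % 240)) (k % 240))) = true := by decide +kernel
theorem e8Dx_1_256 : allRange 256 260 ((fun k => cdE8.checkDX (cdE8.expo pairE8 (Cfsg.Lie.chevE8.simple (k / 240))) (pairE8 (Cfsg.Lie.chevE8.simple (k / 240)) (k % 240)) (k % 240))) = true := by decide +kernel
theorem e8Dx_1_260 : allRange 260 264 ((fun k => cdE8.checkDX (cdE8.expo pairE8 (Cfsg.Lie.chevE8.simple (k / 240))) (pairE8 (Cfsg.Lie.chevE8.simple (k / 240)) (k % 240)) (k % 240))) = true := by decide +kernel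
theorem e8Dx_1_264 : allRange 264 268 ((fun k => cdE8.checkDX (cdE8.expo pairE8 (Cfsg.Lie.chevE8.simple (k / 240))) (pairE8 (Cfsg.Lie.chevE8.simple (k / 240)) (k % 240)) (k % 240))) = true := by decide +kernel
theorem e8Dx_1_268 : allRange 268 272 ((fun k => cdE8.checkDX (cdE8.expo pairE8 (Cfsg.Lie.chevE8.simple (k / 240))) (pairE8 (Cfsg.Lie.chevE8.simple (k / 240)) (k % 240)) (k % 240))) = true := by decide +kernel
theorem e8Dx_1_272 : allRange 272 276 ((fun k => cdE8.checkDX (cdE8.expo pairE8 (Cfsg.Lie.chevE8.simple (k / 240))) (pairE8 (Cfsg.Lie.chevE8.simple (k / 240)) (k % 240)) (k % 240))) = true := by decide +kernel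
theorem e8Dx_1_276 : allRange 276 280 ((fun k => cdE8.checkDX (cdE8.expo pairE8 (Cfsg.Lie.chevE8.simple (k / 240))) (pairE8 (Cfsg.Lie.chevE8.simple (k / 240)) (k % 240)) (k % 240))) = true := by decide +kernel
theorem e8Dx_1_280 : allRange 280 284 ((fun k => cdE8.checkDX (cdE8.expo pairE8 (Cfsg.Lie.chevE8.simple (k / 240))) (pairE8 (Cfsg.Lie.chevE8.simple (k / 240)) (k % 240)) (k % 240))) = true := by decide +kernel
theorem e8Dx_1_284 : allRange 284 288 ((fun k => cdE8.checkDX (cdE8.expo pairE8 (Cfsg.Lie.chevE8.simple (k / 240))) (pairE8 (Cfsg.Lie.chevE8.simple (k / 240)) (k % 240)) (k % 240))) = true := by decide +kernel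
theorem e8Dx_1_288 : allRange 288 292 ((fun k => cdE8.checkDX (cdE8.expo pairE8 (Cfsg.Lie.chevE8.simple (k / 240))) (pairE8 (Cfsg.Lie.chevE8.simple (k / 240)) (k % 240)) (k % 240))) = true := by decide +kernel
theorem e8Dx_1_292 : allRange 292 296 ((fun k => cdE8.checkDX (cdE8.expo pairE8 (Cfsg.Lie.chevE8.simple (k / 240))) (pairE8 (Cfsg.Lie.chevE8.simple (k / 240)) (k % 240)) (k % 240))) = true := by decide +kernel
theorem e8Dx_1_296 : allRange 296 300 ((fun k => cdE8.checkDX (cdE8.expo pairE8 (Cfsg.Lie.chevE8.simple (k / 240))) (pairE8 (Cfsg.Lie.chevE8.simple (k / 240)) (k % 240)) (k % 240))) = true := by decide +kernel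
theorem e8Dx_1_300 : allRange 300 304 ((fun k => cdE8.checkDX (cdE8.expo pairE8 (Cfsg.Lie.chevE8.simple (k / 240))) (pairE8 (Cfsg.Lie.chevE8.simple (k / 240)) (k % 240)) (k % 240))) = true := by decide +kernel
theorem e8Dx_1_304 : allRange 304 308 ((fun k => cdE8.checkDX (cdE8.expo pairE8 (Cfsg.Lie.chevE8.simple (k / 240))) (pairE8 (Cfsg.Lie.chevE8.simple (k / 240)) (k % 240)) (k % 240))) = true := by decide +kernel
theorem e8Dx_1_308 : allRange 308 312 ((fun k => cdE8.checkDX (cdE8.expo pairE8 (Cfsg.Lie.chevE8.simple (k / 240))) (pairE8 (Cfsg.Lie.chevE8.simple (k / 240)) (k % 240)) (k % 240))) = true := by decide +kernel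
theorem e8Dx_1_312 : allRange 312 316 ((fun k => cdE8.checkDX (cdE8.expo pairE8 (Cfsg.Lie.chevE8.simple (k / 240))) (pairE8 (Cfsg.Lie.chevE8.simple (k / 240)) (k % 240)) (k % 240))) = true := by decide +kernel
theorem e8Dx_1_316 : allRange 316 320 ((fun k => cdE8.checkDX (cdE8.expo pairE8 (Cfsg.Lie.chevE8.simple (k / 240))) (pairE8 (Cfsg.Lie.chevE8.simple (k / 240)) (k % 240)) (k % 240))) = true := by decide +kernel
theorem e8Dx_1_320 : allRange 320 324 ((fun k => cdE8.checkDX (cdE8.expo pairE8 (Cfsg.Lie.chevE8.simple (k / 240))) (pairE8 (Cfsg.Lie.chevE8.simple (k / 240)) (k % 240)) (k % 240))) = true := by decide +kernel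
theorem e8Dx_1_324 : allRange 324 328 ((fun k => cdE8.checkDX (cdE8.expo pairE8 (Cfsg.Lie.chevE8.simple (k / 240))) (pairE8 (Cfsg.Lie.chevE8.simple (k / 240)) (k % 240)) (k % 240))) = true := by decide +kernel
theorem e8Dx_1_328 : allRange 328 332 ((fun k => cdE8.checkDX (cdE8.expo pairE8 (Cfsg.Lie.chevE8.simple (k / 240))) (pairE8 (Cfsg.Lie.chevE8.simple (k / 240)) (k % 240)) (k % 240))) = true := by decide +kernel
theorem e8Dx_1_332 : allRange 332 336 ((fun k => cdE8.checkDX (cdE8.expo pairE8 (Cfsg.Lie.chevE8.simple (k / 240))) (pairE8 (Cfsg.Lie.chevE8.simple (k / 240)) (k % 240)) (k % 240))) = true := by decide +kernel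
theorem e8Dx_1_336 : allRange 336 340 ((fun k => cdE8.checkDX (cdE8.expo pairE8 (Cfsg.Lie.chevE8.simple (k / 240))) (pairE8 (Cfsg.Lie.chevE8.simple (k / 240)) (k % 240)) (k % 240))) = true := by decide +kernel
theorem e8Dx_1_340 : allRange 340 344 ((fun k => cdE8.checkDX (cdE8.expo pairE8 (Cfsg.Lie.chevE8.simple (k / 240))) (pairE8 (Cfsg.Lie.chevE8.simple (k / 240)) (k % 240)) (k % 240))) = true := by decide +kernel

/-- Conjugation of root elements by the `h_p(c)` of type E8 (roots 172 to 343). -/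
theorem e8Dx_1 : ∀ r, 172 ≤ r → r < 344 → ((fun k => cdE8.checkDX (cdE8.expo pairE8 (Cfsg.Lie.chevE8.simple (k / 240))) (pairE8 (Cfsg.Lie.chevE8.simple (k / 240)) (k % 240)) (k % 240))) r = true := by
  intro r h1 h2
  by_cases c0 : r < 176
  · exact allRange_spec e8Dx_1_172 r (by omega) c0
  by_cases c1 : r < 180
  · exact allRange_spec e8Dx_1_176 r (by omega) c1
  by_cases c2 : r < 184
  · exact allRange_spec e8Dx_1_180 r (by omega) c2
  by_cases c3 : r < 188
  · exact allRange_spec e8Dx_1_184 r (by omega) c3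
  by_cases c4 : r < 192
  · exact allRange_spec e8Dx_1_188 r (by omega) c4
  by_cases c5 : r < 196
  · exact allRange_spec e8Dx_1_192 r (by omega) c5
  by_cases c6 : r < 200
  · exact allRange_spec e8Dx_1_196 r (by omega) c6
  by_cases c7 : r < 204
  · exact allRange_spec e8Dx_1_200 r (by omega) c7
  by_cases c8 : r < 208
  · exact allRange_spec e8Dx_1_204 r (by omega) c8
  by_cases c9 : r < 212
  · exact allRange_spec e8Dx_1_208 r (by omega) c9
  by_cases c10 : r < 216
  · exact allRange_spec e8Dx_1_212 r (by omega) c10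
  by_cases c11 : r < 220
  · exact allRange_spec e8Dx_1_216 r (by omega) c11
  by_cases c12 : r < 224
  · exact allRange_spec e8Dx_1_220 r (by omega) c12
  by_cases c13 : r < 228
  · exact allRange_spec e8Dx_1_224 r (by omega) c13
  by_cases c14 : r < 232
  · exact allRange_spec e8Dx_1_228 r (by omega) c14
  by_cases c15 : r < 236
  · exact allRange_spec e8Dx_1_232 r (by omega) c15
  by_cases c16 : r < 240
  · exact allRange_spec e8Dx_1_236 r (by omega) c16
  by_cases c17 : r < 244
  · exact allRange_spec e8Dx_1_240 r (by omega) c17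
  by_cases c18 : r < 248
  · exact allRange_spec e8Dx_1_244 r (by omega) c18
  by_cases c19 : r < 252
  · exact allRange_spec e8Dx_1_248 r (by omega) c19
  by_cases c20 : r < 256
  · exact allRange_spec e8Dx_1_252 r (by omega) c20
  by_cases c21 : r < 260
  · exact allRange_spec e8Dx_1_256 r (by omega) c21
  by_cases c22 : r < 264
  · exact allRange_spec e8Dx_1_260 r (by omega) c22
  by_cases c23 : r < 268
  · exact allRange_spec e8Dx_1_264 r (by omega) c23
  by_cases c24 : r < 272
  · exact allRange_spec e8Dx_1_268 r (by omega) c24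
  by_cases c25 : r < 276
  · exact allRange_spec e8Dx_1_272 r (by omega) c25
  by_cases c26 : r < 280
  · exact allRange_spec e8Dx_1_276 r (by omega) c26
  by_cases c27 : r < 284
  · exact allRange_spec e8Dx_1_280 r (by omega) c27
  by_cases c28 : r < 288
  · exact allRange_spec e8Dx_1_284 r (by omega) c28
  by_cases c29 : r < 292
  · exact allRange_spec e8Dx_1_288 r (by omega) c29
  by_cases c30 : r < 296
  · exact allRange_spec e8Dx_1_292 r (by omega) c30
  by_cases c31 : r < 300
  · exact allRange_spec e8Dx_1_296 r (by omega) c31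
  by_cases c32 : r < 304
  · exact allRange_spec e8Dx_1_300 r (by omega) c32
  by_cases c33 : r < 308
  · exact allRange_spec e8Dx_1_304 r (by omega) c33
  by_cases c34 : r < 312
  · exact allRange_spec e8Dx_1_308 r (by omega) c34
  by_cases c35 : r < 316
  · exact allRange_spec e8Dx_1_312 r (by omega) c35
  by_cases c36 : r < 320
  · exact allRange_spec e8Dx_1_316 r (by omega) c36
  by_cases c37 : r < 324
  · exact allRange_spec e8Dx_1_320 r (by omega) c37
  by_cases c38 : r < 328
  · exact allRange_spec e8Dx_1_324 r (by omega) c38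
  by_cases c39 : r < 332
  · exact allRange_spec e8Dx_1_328 r (by omega) c39
  by_cases c40 : r < 336
  · exact allRange_spec e8Dx_1_332 r (by omega) c40
  by_cases c41 : r < 340
  · exact allRange_spec e8Dx_1_336 r (by omega) c41
  exact allRange_spec e8Dx_1_340 r (by omega) h2

end Cfsg.Agent.Lib.Helper3.ChevM
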