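import Cfsg.Agent.Lib.Helper3.ChevData.E8Datum
import Cfsg.Agent.Lib.Helper3.ChevData.E8Tabs
import Cfsg.Agent.Lib.Helper3.ChevM7
set_option autoImplicit false
set_option maxRecDepth 1000000
set_option Elab.async false

namespace Cfsg.Agent.Lib.Helper3.ChevM

theorem e8Dx_2_344 : allRange 344 348 ((fun k => cdE8.checkDX (cdE8.expo pairE8 (Cfsg.Lie.chevE8.simple (k / 240))) (pairE8 (Cfsg.Lie.chevE8.simple (k / 240)) (k % 240)) (k % 240))) = true := by decide +kernel
theorem e8Dx_2_348 : allRange 348 352 ((fun k => cdE8.checkDX (cdE8.expo pairE8 (Cfsg.Lie.chevE8.simple (k / 240))) (pairE8 (Cfsg.Lie.chevE8.simple (k / 240)) (k % 240)) (k % 240))) = true := by decide +kernel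
theorem e8Dx_2_352 : allRange 352 356 ((fun k => cdE8.checkDX (cdE8.expo pairE8 (Cfsg.Lie.chevE8.simple (k / 240))) (pairE8 (Cfsg.Lie.chevE8.simple (k / 240)) (k % 240)) (k % 240))) = true := by decide +kernel
theorem e8Dx_2_356 : allRange 356 360 ((fun k => cdE8.checkDX (cdE8.expo pairE8 (Cfsg.Lie.chevE8.simple (k / 240))) (pairE8 (Cfsg.Lie.chevE8.simple (k / 240)) (k % 240)) (k % 240))) = true := by decide +kernel
theorem e8Dx_2_360 : allRange 360 364 ((fun k => cdE8.checkDX (cdE8.expo pairE8 (Cfsg.Lie.chevE8.simple (k / 240))) (pairE8 (Cfsg.Lie.chevE8.simple (k / 240)) (k % 240)) (k % 240))) = true := by decide +kernel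
theorem e8Dx_2_364 : allRange 364 368 ((fun k => cdE8.checkDX (cdE8.expo pairE8 (Cfsg.Lie.chevE8.simple (k / 240))) (pairE8 (Cfsg.Lie.chevE8.simple (k / 240)) (k % 240)) (k % 240))) = true := by decide +kernel
theorem e8Dx_2_368 : allRange 368 372 ((fun k => cdE8.checkDX (cdE8.expo pairE8 (Cfsg.Lie.chevE8.simple (k / 240))) (pairE8 (Cfsg.Lie.chevE8.simple (k / 240)) (k % 240)) (k % 240))) = true := by decide +kernel
theorem e8Dx_2_372 : allRange 372 376 ((fun k => cdE8.checkDX (cdE8.expo pairE8 (Cfsg.Lie.chevE8.simple (k / 240))) (pairE8 (Cfsg.Lie.chevE8.simple (k / 240)) (k % 240)) (k % 240))) = true := by decide +kernel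
theorem e8Dx_2_376 : allRange 376 380 ((fun k => cdE8.checkDX (cdE8.expo pairE8 (Cfsg.Lie.chevE8.simple (k / 240))) (pairE8 (Cfsg.Lie.chevE8.simple (k / 240)) (k % 240)) (k % 240))) = true := by decide +kernel
theorem e8Dx_2_380 : allRange 380 384 ((fun k => cdE8.checkDX (cdE8.expo pairE8 (Cfsg.Lie.chevE8.simple (k / 240))) (pairE8 (Cfsg.Lie.chevE8.simple (k / 240)) (k % 240)) (k % 240))) = true := by decide +kernel
theorem e8Dx_2_384 : allRange 384 388 ((fun k => cdE8.checkDX (cdE8.expo pairE8 (Cfsg.Lie.chevE8.simple (k / 240))) (pairE8 (Cfsg.Lie.chevE8.simple (k / 240)) (k % 240)) (k % 240))) = true := by decide +kernel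
theorem e8Dx_2_388 : allRange 388 392 ((fun k => cdE8.checkDX (cdE8.expo pairE8 (Cfsg.Lie.chevE8.simple (k / 240))) (pairE8 (Cfsg.Lie.chevE8.simple (k / 240)) (k % 240)) (k % 240))) = true := by decide +kernel
theorem e8Dx_2_392 : allRange 392 396 ((fun k => cdE8.checkDX (cdE8.expo pairE8 (Cfsg.Lie.chevE8.simple (k / 240))) (pairE8 (Cfsg.Lie.chevE8.simple (k / 240)) (k % 240)) (k % 240))) = true := by decide +kernel
theorem e8Dx_2_396 : allRange 396 400 ((fun k => cdE8.checkDX (cdE8.expo pairE8 (Cfsg.Lie.chevE8.simple (k / 240))) (pairE8 (Cfsg.Lie.chevE8.simple (k / 240)) (k % 240)) (k % 240))) = true := by decide +kernel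
theorem e8Dx_2_400 : allRange 400 404 ((fun k => cdE8.checkDX (cdE8.expo pairE8 (Cfsg.Lie.chevE8.simple (k / 240))) (pairE8 (Cfsg.Lie.chevE8.simple (k / 240)) (k % 240)) (k % 240))) = true := by decide +kernel
theorem e8Dx_2_404 : allRange 404 408 ((fun k => cdE8.checkDX (cdE8.expo pairE8 (Cfsg.Lie.chevE8.simple (k / 240))) (pairE8 (Cfsg.Lie.chevE8.simple (k / 240)) (k % 240)) (k % 240))) = true := by decide +kernel
theorem e8Dx_2_408 : allRange 408 412 ((fun k => cdE8.checkDX (cdE8.expo pairE8 (Cfsg.Lie.chevE8.simple (k / 240))) (pairE8 (Cfsg.Lie.chevE8.simple (k / 240)) (k % 240)) (k % 240))) = true := by decide +kernel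
theorem e8Dx_2_412 : allRange 412 416 ((fun k => cdE8.checkDX (cdE8.expo pairE8 (Cfsg.Lie.chevE8.simple (k / 240))) (pairE8 (Cfsg.Lie.chevE8.simple (k / 240)) (k % 240)) (k % 240))) = true := by decide +kernel
theorem e8Dx_2_416 : allRange 416 420 ((fun k => cdE8.checkDX (cdE8.expo pairE8 (Cfsg.Lie.chevE8.simple (k / 240))) (pairE8 (Cfsg.Lie.chevE8.simple (k / 240)) (k % 240)) (k % 240))) = true := by decide +kernel
theorem e8Dx_2_420 : allRange 420 424 ((fun k => cdE8.checkDX (cdE8.expo pairE8 (Cfsg.Lie.chevE8.simple (k / 240))) (pairE8 (Cfsg.Lie.chevE8.simple (k / 240)) (k % 240)) (k % 240))) = true := by decide +kernel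
theorem e8Dx_2_424 : allRange 424 428 ((fun k => cdE8.checkDX (cdE8.expo pairE8 (Cfsg.Lie.chevE8.simple (k / 240))) (pairE8 (Cfsg.Lie.chevE8.simple (k / 240)) (k % 240)) (k % 240))) = true := by decide +kernel
theorem e8Dx_2_428 : allRange 428 432 ((fun k => cdE8.checkDX (cdE8.expo pairE8 (Cfsg.Lie.chevE8.simple (k / 240))) (pairE8 (Cfsg.Lie.chevE8.simple (k / 240)) (k % 240)) (k % 240))) = true := by decide +kernel
theorem e8Dx_2_432 : allRange 432 436 ((fun k => cdE8.checkDX (cdE8.expo pairE8 (Cfsg.Lie.chevE8.simple (k / 240))) (pairE8 (Cfsg.Lie.chevE8.simple (k / 240)) (k % 240)) (k % 240))) = true := by decide +kernel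
theorem e8Dx_2_436 : allRange 436 440 ((fun k => cdE8.checkDX (cdE8.expo pairE8 (Cfsg.Lie.chevE8.simple (k / 240))) (pairE8 (Cfsg.Lie.chevE8.simple (k / 240)) (k % 240)) (k % 240))) = true := by decide +kernel
theorem e8Dx_2_440 : allRange 440 444 ((fun k => cdE8.checkDX (cdE8.expo pairE8 (Cfsg.Lie.chevE8.simple (k / 240))) (pairE8 (Cfsg.Lie.chevE8.simple (k / 240)) (k % 240)) (k % 240))) = true := by decide +kernel
theorem e8Dx_2_444 : allRange 444 448 ((fun k => cdE8.checkDX (cdE8.expo pairE8 (Cfsg.Lie.chevE8.simple (k / 240))) (pairE8 (Cfsg.Lie.chevE8.simple (k / 240)) (k % 240)) (k % 240))) = true := by decide +kernel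
theorem e8Dx_2_448 : allRange 448 452 ((fun k => cdE8.checkDX (cdE8.expo pairE8 (Cfsg.Lie.chevE8.simple (k / 240))) (pairE8 (Cfsg.Lie.chevE8.simple (k / 240)) (k % 240)) (k % 240))) = true := by decide +kernel
theorem e8Dx_2_452 : allRange 452 456 ((fun k => cdE8.checkDX (cdE8.expo pairE8 (Cfsg.Lie.chevE8.simple (k / 240))) (pairE8 (Cfsg.Lie.chevE8.simple (k / 240)) (k % 240)) (k % 240))) = true := by decide +kernel
theorem e8Dx_2_456 : allRange 456 460 ((fun k => cdE8.checkDX (cdE8.expo pairE8 (Cfsg.Lie.chevE8.simple (k / 240))) (pairE8 (Cfsg.Lie.chevE8.simple (k / 240)) (k % 240)) (k % 240))) = true := by decide +kernel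
theorem e8Dx_2_460 : allRange 460 464 ((fun k => cdE8.checkDX (cdE8.expo pairE8 (Cfsg.Lie.chevE8.simple (k / 240))) (pairE8 (Cfsg.Lie.chevE8.simple (k / 240)) (k % 240)) (k % 240))) = true := by decide +kernel
theorem e8Dx_2_464 : allRange 464 468 ((fun k => cdE8.checkDX (cdE8.expo pairE8 (Cfsg.Lie.chevE8.simple (k / 240))) (pairE8 (Cfsg.Lie.chevE8.simple (k / 240)) (k % 240)) (k % 240))) = true := by decide +kernel
theorem e8Dx_2_468 : allRange 468 472 ((fun k => cdE8.checkDX (cdE8.expo pairE8 (Cfsg.Lie.chevE8.simple (k / 240))) (pairE8 (Cfsg.Lie.chevE8.simple (k / 240)) (k % 240)) (k % 240))) = true := by decide +kernel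
theorem e8Dx_2_472 : allRange 472 476 ((fun k => cdE8.checkDX (cdE8.expo pairE8 (Cfsg.Lie.chevE8.simple (k / 240))) (pairE8 (Cfsg.Lie.chevE8.simple (k / 240)) (k % 240)) (k % 240))) = true := by decide +kernel
theorem e8Dx_2_476 : allRange 476 480 ((fun k => cdE8.checkDX (cdE8.expo pairE8 (Cfsg.Lie.chevE8.simple (k / 240))) (pairE8 (Cfsg.Lie.chevE8.simple (k / 240)) (k % 240)) (k % 240))) = true := by decide +kernel
theorem e8Dx_2_480 : allRange 480 484 ((fun k => cdE8.checkDX (cdE8.expo pairE8 (Cfsg.Lie.chevE8.simple (k / 240))) (pairE8 (Cfsg.Lie.chevE8.simple (k / 240)) (k % 240)) (k % 240))) = true := by decide +kernel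
theorem e8Dx_2_484 : allRange 484 488 ((fun k => cdE8.checkDX (cdE8.expo pairE8 (Cfsg.Lie.chevE8.simple (k / 240))) (pairE8 (Cfsg.Lie.chevE8.simple (k / 240)) (k % 240)) (k % 240))) = true := by decide +kernel
theorem e8Dx_2_488 : allRange 488 492 ((fun k => cdE8.checkDX (cdE8.expo pairE8 (Cfsg.Lie.chevE8.simple (k / 240))) (pairE8 (Cfsg.Lie.chevE8.simple (k / 240)) (k % 240)) (k % 240))) = true := by decide +kernel
theorem e8Dx_2_492 : allRange 492 496 ((fun k => cdE8.checkDX (cdE8.expo pairE8 (Cfsg.Lie.chevE8.simple (k / 240))) (pairE8 (Cfsg.Lie.chevE8.simple (k / 240)) (k % 240)) (k % 240))) = true := by decide +kernel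
theorem e8Dx_2_496 : allRange 496 500 ((fun k => cdE8.checkDX (cdE8.expo pairE8 (Cfsg.Lie.chevE8.simple (k / 240))) (pairE8 (Cfsg.Lie.chevE8.simple (k / 240)) (k % 240)) (k % 240))) = true := by decide +kernel
theorem e8Dx_2_500 : allRange 500 504 ((fun k => cdE8.checkDX (cdE8.expo pairE8 (Cfsg.Lie.chevE8.simple (k / 240))) (pairE8 (Cfsg.Lie.chevE8.simple (k / 240)) (k % 240)) (k % 240))) = true := by decide +kernel
theorem e8Dx_2_504 : allRange 504 508 ((fun k => cdE8.checkDX (cdE8.expo pairE8 (Cfsg.Lie.chevE8.simple (k / 240))) (pairE8 (Cfsg.Lie.chevE8.simple (k / 240)) (k % 240)) (k % 240))) = true := by decide +kernel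
theorem e8Dx_2_508 : allRange 508 512 ((fun k => cdE8.checkDX (cdE8.expo pairE8 (Cfsg.Lie.chevE8.simple (k / 240))) (pairE8 (Cfsg.Lie.chevE8.simple (k / 240)) (k % 240)) (k % 240))) = true := by decide +kernel
theorem e8Dx_2_512 : allRange 512 516 ((fun k => cdE8.checkDX (cdE8.expo pairE8 (Cfsg.Lie.chevE8.simple (k / 240))) (pairE8 (Cfsg.Lie.chevE8.simple (k / 240)) (k % 240)) (k % 240))) = true := by decide +kernel

/-- Conjugation of root elements by the `h_p(c)` of type E8 (roots 344 to 515). -/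
theorem e8Dx_2 : ∀ r, 344 ≤ r → r < 516 → ((fun k => cdE8.checkDX (cdE8.expo pairE8 (Cfsg.Lie.chevE8.simple (k / 240))) (pairE8 (Cfsg.Lie.chevE8.simple (k / 240)) (k % 240)) (k % 240))) r = true := by
  intro r h1 h2
  by_cases c0 : r < 348
  · exact allRange_spec e8Dx_2_344 r (by omega) c0
  by_cases c1 : r < 352
  · exact allRange_spec e8Dx_2_348 r (by omega) c1
  by_cases c2 : r < 356
  · exact allRange_spec e8Dx_2_352 r (by omega) c2
  by_cases c3 : r < 360
  · exact allRange_spec e8Dx_2_356 r (by omega) c3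
  by_cases c4 : r < 364
  · exact allRange_spec e8Dx_2_360 r (by omega) c4
  by_cases c5 : r < 368
  · exact allRange_spec e8Dx_2_364 r (by omega) c5
  by_cases c6 : r < 372
  · exact allRange_spec e8Dx_2_368 r (by omega) c6
  by_cases c7 : r < 376
  · exact allRange_spec e8Dx_2_372 r (by omega) c7
  by_cases c8 : r < 380
  · exact allRange_spec e8Dx_2_376 r (by omega) c8
  by_cases c9 : r < 384
  · exact allRange_spec e8Dx_2_380 r (by omega) c9
  by_cases c10 : r < 388
  · exact allRange_spec e8Dx_2_384 r (by omega) c10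
  by_cases c11 : r < 392
  · exact allRange_spec e8Dx_2_388 r (by omega) c11
  by_cases c12 : r < 396
  · exact allRange_spec e8Dx_2_392 r (by omega) c12
  by_cases c13 : r < 400
  · exact allRange_spec e8Dx_2_396 r (by omega) c13
  by_cases c14 : r < 404
  · exact allRange_spec e8Dx_2_400 r (by omega) c14
  by_cases c15 : r < 408
  · exact allRange_spec e8Dx_2_404 r (by omega) c15
  by_cases c16 : r < 412
  · exact allRange_spec e8Dx_2_408 r (by omega) c16
  by_cases c17 : r < 416
  · exact allRange_spec e8Dx_2_412 r (by omega) c17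
  by_cases c18 : r < 420
  · exact allRange_spec e8Dx_2_416 r (by omega) c18
  by_cases c19 : r < 424
  · exact allRange_spec e8Dx_2_420 r (by omega) c19
  by_cases c20 : r < 428
  · exact allRange_spec e8Dx_2_424 r (by omega) c20
  by_cases c21 : r < 432
  · exact allRange_spec e8Dx_2_428 r (by omega) c21
  by_cases c22 : r < 436
  · exact allRange_spec e8Dx_2_432 r (by omega) c22
  by_cases c23 : r < 440
  · exact allRange_spec e8Dx_2_436 r (by omega) c23
  by_cases c24 : r < 444
  · exact allRange_spec e8Dx_2_440 r (by omega) c24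
  by_cases c25 : r < 448
  · exact allRange_spec e8Dx_2_444 r (by omega) c25
  by_cases c26 : r < 452
  · exact allRange_spec e8Dx_2_448 r (by omega) c26
  by_cases c27 : r < 456
  · exact allRange_spec e8Dx_2_452 r (by omega) c27
  by_cases c28 : r < 460
  · exact allRange_spec e8Dx_2_456 r (by omega) c28
  by_cases c29 : r < 464
  · exact allRange_spec e8Dx_2_460 r (by omega) c29
  by_cases c30 : r < 468
  · exact allRange_spec e8Dx_2_464 r (by omega) c30
  by_cases c31 : r < 472
  · exact allRange_spec e8Dx_2_468 r (by omega) c31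
  by_cases c32 : r < 476
  · exact allRange_spec e8Dx_2_472 r (by omega) c32
  by_cases c33 : r < 480
  · exact allRange_spec e8Dx_2_476 r (by omega) c33
  by_cases c34 : r < 484
  · exact allRange_spec e8Dx_2_480 r (by omega) c34
  by_cases c35 : r < 488
  · exact allRange_spec e8Dx_2_484 r (by omega) c35
  by_cases c36 : r < 492
  · exact allRange_spec e8Dx_2_488 r (by omega) c36
  by_cases c37 : r < 496
  · exact allRange_spec e8Dx_2_492 r (by omega) c37
  by_cases c38 : r < 500
  · exact allRange_spec e8Dx_2_496 r (by omega) c38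
  by_cases c39 : r < 504
  · exact allRange_spec e8Dx_2_500 r (by omega) c39
  by_cases c40 : r < 508
  · exact allRange_spec e8Dx_2_504 r (by omega) c40
  by_cases c41 : r < 512
  · exact allRange_spec e8Dx_2_508 r (by omega) c41
  exact allRange_spec e8Dx_2_512 r (by omega) h2

end Cfsg.Agent.Lib.Helper3.ChevM
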