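import Cfsg.Agent.Lib.Helper3.ChevData.E8Datum
import Cfsg.Agent.Lib.Helper3.ChevData.E8Tabs
import Cfsg.Agent.Lib.Helper3.ChevM7
set_option autoImplicit false
set_option maxRecDepth 1000000
set_option Elab.async false

namespace Cfsg.Agent.Lib.Helper3.ChevM

theorem e8Dx_3_516 : allRange 516 520 ((fun k => cdE8.checkDX (cdE8.expo pairE8 (Cfsg.Lie.chevE8.simple (k / 240))) (pairE8 (Cfsg.Lie.chevE8.simple (k / 240)) (k % 240)) (k % 240))) = true := by decide +kernel
theorem e8Dx_3_520 : allRange 520 524 ((fun k => cdE8.checkDX (cdE8.expo pairE8 (Cfsg.Lie.chevE8.simple (k / 240))) (pairE8 (Cfsg.Lie.chevE8.simple (k / 240)) (k % 240)) (k % 240))) = true := by decide +kernel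
theorem e8Dx_3_524 : allRange 524 528 ((fun k => cdE8.checkDX (cdE8.expo pairE8 (Cfsg.Lie.chevE8.simple (k / 240))) (pairE8 (Cfsg.Lie.chevE8.simple (k / 240)) (k % 240)) (k % 240))) = true := by decide +kernel
theorem e8Dx_3_528 : allRange 528 532 ((fun k => cdE8.checkDX (cdE8.expo pairE8 (Cfsg.Lie.chevE8.simple (k / 240))) (pairE8 (Cfsg.Lie.chevE8.simple (k / 240)) (k % 240)) (k % 240))) = true := by decide +kernel
theorem e8Dx_3_532 : allRange 532 536 ((fun k => cdE8.checkDX (cdE8.expo pairE8 (Cfsg.Lie.chevE8.simple (k / 240))) (pairE8 (Cfsg.Lie.chevE8.simple (k / 240)) (k % 240)) (k % 240))) = true := by decide +kernel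
theorem e8Dx_3_536 : allRange 536 540 ((fun k => cdE8.checkDX (cdE8.expo pairE8 (Cfsg.Lie.chevE8.simple (k / 240))) (pairE8 (Cfsg.Lie.chevE8.simple (k / 240)) (k % 240)) (k % 240))) = true := by decide +kernel
theorem e8Dx_3_540 : allRange 540 544 ((fun k => cdE8.checkDX (cdE8.expo pairE8 (Cfsg.Lie.chevE8.simple (k / 240))) (pairE8 (Cfsg.Lie.chevE8.simple (k / 240)) (k % 240)) (k % 240))) = true := by decide +kernel
theorem e8Dx_3_544 : allRange 544 548 ((fun k => cdE8.checkDX (cdE8.expo pairE8 (Cfsg.Lie.chevE8.simple (k / 240))) (pairE8 (Cfsg.Lie.chevE8.simple (k / 240)) (k % 240)) (k % 240))) = true := by decide +kernel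
theorem e8Dx_3_548 : allRange 548 552 ((fun k => cdE8.checkDX (cdE8.expo pairE8 (Cfsg.Lie.chevE8.simple (k / 240))) (pairE8 (Cfsg.Lie.chevE8.simple (k / 240)) (k % 240)) (k % 240))) = true := by decide +kernel
theorem e8Dx_3_552 : allRange 552 556 ((fun k => cdE8.checkDX (cdE8.expo pairE8 (Cfsg.Lie.chevE8.simple (k / 240))) (pairE8 (Cfsg.Lie.chevE8.simple (k / 240)) (k % 240)) (k % 240))) = true := by decide +kernel
theorem e8Dx_3_556 : allRange 556 560 ((fun k => cdE8.checkDX (cdE8.expo pairE8 (Cfsg.Lie.chevE8.simple (k / 240))) (pairE8 (Cfsg.Lie.chevE8.simple (k / 240)) (k % 240)) (k % 240))) = true := by decide +kernel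
theorem e8Dx_3_560 : allRange 560 564 ((fun k => cdE8.checkDX (cdE8.expo pairE8 (Cfsg.Lie.chevE8.simple (k / 240))) (pairE8 (Cfsg.Lie.chevE8.simple (k / 240)) (k % 240)) (k % 240))) = true := by decide +kernel
theorem e8Dx_3_564 : allRange 564 568 ((fun k => cdE8.checkDX (cdE8.expo pairE8 (Cfsg.Lie.chevE8.simple (k / 240))) (pairE8 (Cfsg.Lie.chevE8.simple (k / 240)) (k % 240)) (k % 240))) = true := by decide +kernel
theorem e8Dx_3_568 : allRange 568 572 ((fun k => cdE8.checkDX (cdE8.expo pairE8 (Cfsg.Lie.chevE8.simple (k / 240))) (pairE8 (Cfsg.Lie.chevE8.simple (k / 240)) (k % 240)) (k % 240))) = true := by decide +kernel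
theorem e8Dx_3_572 : allRange 572 576 ((fun k => cdE8.checkDX (cdE8.expo pairE8 (Cfsg.Lie.chevE8.simple (k / 240))) (pairE8 (Cfsg.Lie.chevE8.simple (k / 240)) (k % 240)) (k % 240))) = true := by decide +kernel
theorem e8Dx_3_576 : allRange 576 580 ((fun k => cdE8.checkDX (cdE8.expo pairE8 (Cfsg.Lie.chevE8.simple (k / 240))) (pairE8 (Cfsg.Lie.chevE8.simple (k / 240)) (k % 240)) (k % 240))) = true := by decide +kernel
theorem e8Dx_3_580 : allRange 580 584 ((fun k => cdE8.checkDX (cdE8.expo pairE8 (Cfsg.Lie.chevE8.simple (k / 240))) (pairE8 (Cfsg.Lie.chevE8.simple (k / 240)) (k % 240)) (k % 240))) = true := by decide +kernel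
theorem e8Dx_3_584 : allRange 584 588 ((fun k => cdE8.checkDX (cdE8.expo pairE8 (Cfsg.Lie.chevE8.simple (k / 240))) (pairE8 (Cfsg.Lie.chevE8.simple (k / 240)) (k % 240)) (k % 240))) = true := by decide +kernel
theorem e8Dx_3_588 : allRange 588 592 ((fun k => cdE8.checkDX (cdE8.expo pairE8 (Cfsg.Lie.chevE8.simple (k / 240))) (pairE8 (Cfsg.Lie.chevE8.simple (k / 240)) (k % 240)) (k % 240))) = true := by decide +kernel
theorem e8Dx_3_592 : allRange 592 596 ((fun k => cdE8.checkDX (cdE8.expo pairE8 (Cfsg.Lie.chevE8.simple (k / 240))) (pairE8 (Cfsg.Lie.chevE8.simple (k / 240)) (k % 240)) (k % 240))) = true := by decide +kernel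
theorem e8Dx_3_596 : allRange 596 600 ((fun k => cdE8.checkDX (cdE8.expo pairE8 (Cfsg.Lie.chevE8.simple (k / 240))) (pairE8 (Cfsg.Lie.chevE8.simple (k / 240)) (k % 240)) (k % 240))) = true := by decide +kernel
theorem e8Dx_3_600 : allRange 600 604 ((fun k => cdE8.checkDX (cdE8.expo pairE8 (Cfsg.Lie.chevE8.simple (k / 240))) (pairE8 (Cfsg.Lie.chevE8.simple (k / 240)) (k % 240)) (k % 240))) = true := by decide +kernel
theorem e8Dx_3_604 : allRange 604 608 ((fun k => cdE8.checkDX (cdE8.expo pairE8 (Cfsg.Lie.chevE8.simple (k / 240))) (pairE8 (Cfsg.Lie.chevE8.simple (k / 240)) (k % 240)) (k % 240))) = true := by decide +kernel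
theorem e8Dx_3_608 : allRange 608 612 ((fun k => cdE8.checkDX (cdE8.expo pairE8 (Cfsg.Lie.chevE8.simple (k / 240))) (pairE8 (Cfsg.Lie.chevE8.simple (k / 240)) (k % 240)) (k % 240))) = true := by decide +kernel
theorem e8Dx_3_612 : allRange 612 616 ((fun k => cdE8.checkDX (cdE8.expo pairE8 (Cfsg.Lie.chevE8.simple (k / 240))) (pairE8 (Cfsg.Lie.chevE8.simple (k / 240)) (k % 240)) (k % 240))) = true := by decide +kernel
theorem e8Dx_3_616 : allRange 616 620 ((fun k => cdE8.checkDX (cdE8.expo pairE8 (Cfsg.Lie.chevE8.simple (k / 240))) (pairE8 (Cfsg.Lie.chevE8.simple (k / 240)) (k % 240)) (k % 240))) = true := by decide +kernel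
theorem e8Dx_3_620 : allRange 620 624 ((fun k => cdE8.checkDX (cdE8.expo pairE8 (Cfsg.Lie.chevE8.simple (k / 240))) (pairE8 (Cfsg.Lie.chevE8.simple (k / 240)) (k % 240)) (k % 240))) = true := by decide +kernel
theorem e8Dx_3_624 : allRange 624 628 ((fun k => cdE8.checkDX (cdE8.expo pairE8 (Cfsg.Lie.chevE8.simple (k / 240))) (pairE8 (Cfsg.Lie.chevE8.simple (k / 240)) (k % 240)) (k % 240))) = true := by decide +kernel
theorem e8Dx_3_628 : allRange 628 632 ((fun k => cdE8.checkDX (cdE8.expo pairE8 (Cfsg.Lie.chevE8.simple (k / 240))) (pairE8 (Cfsg.Lie.chevE8.simple (k / 240)) (k % 240)) (k % 240))) = true := by decide +kernel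
theorem e8Dx_3_632 : allRange 632 636 ((fun k => cdE8.checkDX (cdE8.expo pairE8 (Cfsg.Lie.chevE8.simple (k / 240))) (pairE8 (Cfsg.Lie.chevE8.simple (k / 240)) (k % 240)) (k % 240))) = true := by decide +kernel
theorem e8Dx_3_636 : allRange 636 640 ((fun k => cdE8.checkDX (cdE8.expo pairE8 (Cfsg.Lie.chevE8.simple (k / 240))) (pairE8 (Cfsg.Lie.chevE8.simple (k / 240)) (k % 240)) (k % 240))) = true := by decide +kernel
theorem e8Dx_3_640 : allRange 640 644 ((fun k => cdE8.checkDX (cdE8.expo pairE8 (Cfsg.Lie.chevE8.simple (k / 240))) (pairE8 (Cfsg.Lie.chevE8.simple (k / 240)) (k % 240)) (k % 240))) = true := by decide +kernel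
theorem e8Dx_3_644 : allRange 644 648 ((fun k => cdE8.checkDX (cdE8.expo pairE8 (Cfsg.Lie.chevE8.simple (k / 240))) (pairE8 (Cfsg.Lie.chevE8.simple (k / 240)) (k % 240)) (k % 240))) = true := by decide +kernel
theorem e8Dx_3_648 : allRange 648 652 ((fun k => cdE8.checkDX (cdE8.expo pairE8 (Cfsg.Lie.chevE8.simple (k / 240))) (pairE8 (Cfsg.Lie.chevE8.simple (k / 240)) (k % 240)) (k % 240))) = true := by decide +kernel
theorem e8Dx_3_652 : allRange 652 656 ((fun k => cdE8.checkDX (cdE8.expo pairE8 (Cfsg.Lie.chevE8.simple (k / 240))) (pairE8 (Cfsg.Lie.chevE8.simple (k / 240)) (k % 240)) (k % 240))) = true := by decide +kernel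
theorem e8Dx_3_656 : allRange 656 660 ((fun k => cdE8.checkDX (cdE8.expo pairE8 (Cfsg.Lie.chevE8.simple (k / 240))) (pairE8 (Cfsg.Lie.chevE8.simple (k / 240)) (k % 240)) (k % 240))) = true := by decide +kernel
theorem e8Dx_3_660 : allRange 660 664 ((fun k => cdE8.checkDX (cdE8.expo pairE8 (Cfsg.Lie.chevE8.simple (k / 240))) (pairE8 (Cfsg.Lie.chevE8.simple (k / 240)) (k % 240)) (k % 240))) = true := by decide +kernel
theorem e8Dx_3_664 : allRange 664 668 ((fun k => cdE8.checkDX (cdE8.expo pairE8 (Cfsg.Lie.chevE8.simple (k / 240))) (pairE8 (Cfsg.Lie.chevE8.simple (k / 240)) (k % 240)) (k % 240))) = true := by decide +kernel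
theorem e8Dx_3_668 : allRange 668 672 ((fun k => cdE8.checkDX (cdE8.expo pairE8 (Cfsg.Lie.chevE8.simple (k / 240))) (pairE8 (Cfsg.Lie.chevE8.simple (k / 240)) (k % 240)) (k % 240))) = true := by decide +kernel
theorem e8Dx_3_672 : allRange 672 676 ((fun k => cdE8.checkDX (cdE8.expo pairE8 (Cfsg.Lie.chevE8.simple (k / 240))) (pairE8 (Cfsg.Lie.chevE8.simple (k / 240)) (k % 240)) (k % 240))) = true := by decide +kernel
theorem e8Dx_3_676 : allRange 676 680 ((fun k => cdE8.checkDX (cdE8.expo pairE8 (Cfsg.Lie.chevE8.simple (k / 240))) (pairE8 (Cfsg.Lie.chevE8.simple (k / 240)) (k % 240)) (k % 240))) = true := by decide +kernel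
theorem e8Dx_3_680 : allRange 680 684 ((fun k => cdE8.checkDX (cdE8.expo pairE8 (Cfsg.Lie.chevE8.simple (k / 240))) (pairE8 (Cfsg.Lie.chevE8.simple (k / 240)) (k % 240)) (k % 240))) = true := by decide +kernel
theorem e8Dx_3_684 : allRange 684 688 ((fun k => cdE8.checkDX (cdE8.expo pairE8 (Cfsg.Lie.chevE8.simple (k / 240))) (pairE8 (Cfsg.Lie.chevE8.simple (k / 240)) (k % 240)) (k % 240))) = true := by decide +kernel

/-- Conjugation of root elements by the `h_p(c)` of type E8 (roots 516 to 687). -/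
theorem e8Dx_3 : ∀ r, 516 ≤ r → r < 688 → ((fun k => cdE8.checkDX (cdE8.expo pairE8 (Cfsg.Lie.chevE8.simple (k / 240))) (pairE8 (Cfsg.Lie.chevE8.simple (k / 240)) (k % 240)) (k % 240))) r = true := by
  intro r h1 h2
  by_cases c0 : r < 520
  · exact allRange_spec e8Dx_3_516 r (by omega) c0
  by_cases c1 : r < 524
  · exact allRange_spec e8Dx_3_520 r (by omega) c1
  by_cases c2 : r < 528
  · exact allRange_spec e8Dx_3_524 r (by omega) c2
  by_cases c3 : r < 532
  · exact allRange_spec e8Dx_3_528 r (by omega) c3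
  by_cases c4 : r < 536
  · exact allRange_spec e8Dx_3_532 r (by omega) c4
  by_cases c5 : r < 540
  · exact allRange_spec e8Dx_3_536 r (by omega) c5
  by_cases c6 : r < 544
  · exact allRange_spec e8Dx_3_540 r (by omega) c6
  by_cases c7 : r < 548
  · exact allRange_spec e8Dx_3_544 r (by omega) c7
  by_cases c8 : r < 552
  · exact allRange_spec e8Dx_3_548 r (by omega) c8
  by_cases c9 : r < 556
  · exact allRange_spec e8Dx_3_552 r (by omega) c9
  by_cases c10 : r < 560
  · exact allRange_spec e8Dx_3_556 r (by omega) c10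
  by_cases c11 : r < 564
  · exact allRange_spec e8Dx_3_560 r (by omega) c11
  by_cases c12 : r < 568
  · exact allRange_spec e8Dx_3_564 r (by omega) c12
  by_cases c13 : r < 572
  · exact allRange_spec e8Dx_3_568 r (by omega) c13
  by_cases c14 : r < 576
  · exact allRange_spec e8Dx_3_572 r (by omega) c14
  by_cases c15 : r < 580
  · exact allRange_spec e8Dx_3_576 r (by omega) c15
  by_cases c16 : r < 584
  · exact allRange_spec e8Dx_3_580 r (by omega) c16
  by_cases c17 : r < 588
  · exact allRange_spec e8Dx_3_584 r (by omega) c17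
  by_cases c18 : r < 592
  · exact allRange_spec e8Dx_3_588 r (by omega) c18
  by_cases c19 : r < 596
  · exact allRange_spec e8Dx_3_592 r (by omega) c19
  by_cases c20 : r < 600
  · exact allRange_spec e8Dx_3_596 r (by omega) c20
  by_cases c21 : r < 604
  · exact allRange_spec e8Dx_3_600 r (by omega) c21
  by_cases c22 : r < 608
  · exact allRange_spec e8Dx_3_604 r (by omega) c22
  by_cases c23 : r < 612
  · exact allRange_spec e8Dx_3_608 r (by omega) c23
  by_cases c24 : r < 616
  · exact allRange_spec e8Dx_3_612 r (by omega) c24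
  by_cases c25 : r < 620
  · exact allRange_spec e8Dx_3_616 r (by omega) c25
  by_cases c26 : r < 624
  · exact allRange_spec e8Dx_3_620 r (by omega) c26
  by_cases c27 : r < 628
  · exact allRange_spec e8Dx_3_624 r (by omega) c27
  by_cases c28 : r < 632
  · exact allRange_spec e8Dx_3_628 r (by omega) c28
  by_cases c29 : r < 636
  · exact allRange_spec e8Dx_3_632 r (by omega) c29
  by_cases c30 : r < 640
  · exact allRange_spec e8Dx_3_636 r (by omega) c30
  by_cases c31 : r < 644
  · exact allRange_spec e8Dx_3_640 r (by omega) c31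
  by_cases c32 : r < 648
  · exact allRange_spec e8Dx_3_644 r (by omega) c32
  by_cases c33 : r < 652
  · exact allRange_spec e8Dx_3_648 r (by omega) c33
  by_cases c34 : r < 656
  · exact allRange_spec e8Dx_3_652 r (by omega) c34
  by_cases c35 : r < 660
  · exact allRange_spec e8Dx_3_656 r (by omega) c35
  by_cases c36 : r < 664
  · exact allRange_spec e8Dx_3_660 r (by omega) c36
  by_cases c37 : r < 668
  · exact allRange_spec e8Dx_3_664 r (by omega) c37
  by_cases c38 : r < 672
  · exact allRange_spec e8Dx_3_668 r (by omega) c38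
  by_cases c39 : r < 676
  · exact allRange_spec e8Dx_3_672 r (by omega) c39
  by_cases c40 : r < 680
  · exact allRange_spec e8Dx_3_676 r (by omega) c40
  by_cases c41 : r < 684
  · exact allRange_spec e8Dx_3_680 r (by omega) c41
  exact allRange_spec e8Dx_3_684 r (by omega) h2

end Cfsg.Agent.Lib.Helper3.ChevM
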