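import Cfsg.Agent.Lib.Helper3.ChevData.E8Datum
import Cfsg.Agent.Lib.Helper3.ChevData.E8Tabs
import Cfsg.Agent.Lib.Helper3.ChevM7
set_option autoImplicit false
set_option maxRecDepth 1000000
set_option Elab.async false

namespace Cfsg.Agent.Lib.Helper3.ChevM

theorem e8Dx_4_688 : allRange 688 692 ((fun k => cdE8.checkDX (cdE8.expo pairE8 (Cfsg.Lie.chevE8.simple (k / 240))) (pairE8 (Cfsg.Lie.chevE8.simple (k / 240)) (k % 240)) (k % 240))) = true := by decide +kernel
theorem e8Dx_4_692 : allRange 692 696 ((fun k => cdE8.checkDX (cdE8.expo pairE8 (Cfsg.Lie.chevE8.simple (k / 240))) (pairE8 (Cfsg.Lie.chevE8.simple (k / 240)) (k % 240)) (k % 240))) = true := by decide +kernel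
theorem e8Dx_4_696 : allRange 696 700 ((fun k => cdE8.checkDX (cdE8.expo pairE8 (Cfsg.Lie.chevE8.simple (k / 240))) (pairE8 (Cfsg.Lie.chevE8.simple (k / 240)) (k % 240)) (k % 240))) = true := by decide +kernel
theorem e8Dx_4_700 : allRange 700 704 ((fun k => cdE8.checkDX (cdE8.expo pairE8 (Cfsg.Lie.chevE8.simple (k / 240))) (pairE8 (Cfsg.Lie.chevE8.simple (k / 240)) (k % 240)) (k % 240))) = true := by decide +kernel
theorem e8Dx_4_704 : allRange 704 708 ((fun k => cdE8.checkDX (cdE8.expo pairE8 (Cfsg.Lie.chevE8.simple (k / 240))) (pairE8 (Cfsg.Lie.chevE8.simple (k / 240)) (k % 240)) (k % 240))) = true := by decide +kernel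
theorem e8Dx_4_708 : allRange 708 712 ((fun k => cdE8.checkDX (cdE8.expo pairE8 (Cfsg.Lie.chevE8.simple (k / 240))) (pairE8 (Cfsg.Lie.chevE8.simple (k / 240)) (k % 240)) (k % 240))) = true := by decide +kernel
theorem e8Dx_4_712 : allRange 712 716 ((fun k => cdE8.checkDX (cdE8.expo pairE8 (Cfsg.Lie.chevE8.simple (k / 240))) (pairE8 (Cfsg.Lie.chevE8.simple (k / 240)) (k % 240)) (k % 240))) = true := by decide +kernel
theorem e8Dx_4_716 : allRange 716 720 ((fun k => cdE8.checkDX (cdE8.expo pairE8 (Cfsg.Lie.chevE8.simple (k / 240))) (pairE8 (Cfsg.Lie.chevE8.simple (k / 240)) (k % 240)) (k % 240))) = true := by decide +kernel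
theorem e8Dx_4_720 : allRange 720 724 ((fun k => cdE8.checkDX (cdE8.expo pairE8 (Cfsg.Lie.chevE8.simple (k / 240))) (pairE8 (Cfsg.Lie.chevE8.simple (k / 240)) (k % 240)) (k % 240))) = true := by decide +kernel
theorem e8Dx_4_724 : allRange 724 728 ((fun k => cdE8.checkDX (cdE8.expo pairE8 (Cfsg.Lie.chevE8.simple (k / 240))) (pairE8 (Cfsg.Lie.chevE8.simple (k / 240)) (k % 240)) (k % 240))) = true := by decide +kernel
theorem e8Dx_4_728 : allRange 728 732 ((fun k => cdE8.checkDX (cdE8.expo pairE8 (Cfsg.Lie.chevE8.simple (k / 240))) (pairE8 (Cfsg.Lie.chevE8.simple (k / 240)) (k % 240)) (k % 240))) = true := by decide +kernel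
theorem e8Dx_4_732 : allRange 732 736 ((fun k => cdE8.checkDX (cdE8.expo pairE8 (Cfsg.Lie.chevE8.simple (k / 240))) (pairE8 (Cfsg.Lie.chevE8.simple (k / 240)) (k % 240)) (k % 240))) = true := by decide +kernel
theorem e8Dx_4_736 : allRange 736 740 ((fun k => cdE8.checkDX (cdE8.expo pairE8 (Cfsg.Lie.chevE8.simple (k / 240))) (pairE8 (Cfsg.Lie.chevE8.simple (k / 240)) (k % 240)) (k % 240))) = true := by decide +kernel
theorem e8Dx_4_740 : allRange 740 744 ((fun k => cdE8.checkDX (cdE8.expo pairE8 (Cfsg.Lie.chevE8.simple (k / 240))) (pairE8 (Cfsg.Lie.chevE8.simple (k / 240)) (k % 240)) (k % 240))) = true := by decide +kernel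
theorem e8Dx_4_744 : allRange 744 748 ((fun k => cdE8.checkDX (cdE8.expo pairE8 (Cfsg.Lie.chevE8.simple (k / 240))) (pairE8 (Cfsg.Lie.chevE8.simple (k / 240)) (k % 240)) (k % 240))) = true := by decide +kernel
theorem e8Dx_4_748 : allRange 748 752 ((fun k => cdE8.checkDX (cdE8.expo pairE8 (Cfsg.Lie.chevE8.simple (k / 240))) (pairE8 (Cfsg.Lie.chevE8.simple (k / 240)) (k % 240)) (k % 240))) = true := by decide +kernel
theorem e8Dx_4_752 : allRange 752 756 ((fun k => cdE8.checkDX (cdE8.expo pairE8 (Cfsg.Lie.chevE8.simple (k / 240))) (pairE8 (Cfsg.Lie.chevE8.simple (k / 240)) (k % 240)) (k % 240))) = true := by decide +kernel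
theorem e8Dx_4_756 : allRange 756 760 ((fun k => cdE8.checkDX (cdE8.expo pairE8 (Cfsg.Lie.chevE8.simple (k / 240))) (pairE8 (Cfsg.Lie.chevE8.simple (k / 240)) (k % 240)) (k % 240))) = true := by decide +kernel
theorem e8Dx_4_760 : allRange 760 764 ((fun k => cdE8.checkDX (cdE8.expo pairE8 (Cfsg.Lie.chevE8.simple (k / 240))) (pairE8 (Cfsg.Lie.chevE8.simple (k / 240)) (k % 240)) (k % 240))) = true := by decide +kernel
theorem e8Dx_4_764 : allRange 764 768 ((fun k => cdE8.checkDX (cdE8.expo pairE8 (Cfsg.Lie.chevE8.simple (k / 240))) (pairE8 (Cfsg.Lie.chevE8.simple (k / 240)) (k % 240)) (k % 240))) = true := by decide +kernel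
theorem e8Dx_4_768 : allRange 768 772 ((fun k => cdE8.checkDX (cdE8.expo pairE8 (Cfsg.Lie.chevE8.simple (k / 240))) (pairE8 (Cfsg.Lie.chevE8.simple (k / 240)) (k % 240)) (k % 240))) = true := by decide +kernel
theorem e8Dx_4_772 : allRange 772 776 ((fun k => cdE8.checkDX (cdE8.expo pairE8 (Cfsg.Lie.chevE8.simple (k / 240))) (pairE8 (Cfsg.Lie.chevE8.simple (k / 240)) (k % 240)) (k % 240))) = true := by decide +kernel
theorem e8Dx_4_776 : allRange 776 780 ((fun k => cdE8.checkDX (cdE8.expo pairE8 (Cfsg.Lie.chevE8.simple (k / 240))) (pairE8 (Cfsg.Lie.chevE8.simple (k / 240)) (k % 240)) (k % 240))) = true := by decide +kernel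
theorem e8Dx_4_780 : allRange 780 784 ((fun k => cdE8.checkDX (cdE8.expo pairE8 (Cfsg.Lie.chevE8.simple (k / 240))) (pairE8 (Cfsg.Lie.chevE8.simple (k / 240)) (k % 240)) (k % 240))) = true := by decide +kernel
theorem e8Dx_4_784 : allRange 784 788 ((fun k => cdE8.checkDX (cdE8.expo pairE8 (Cfsg.Lie.chevE8.simple (k / 240))) (pairE8 (Cfsg.Lie.chevE8.simple (k / 240)) (k % 240)) (k % 240))) = true := by decide +kernel
theorem e8Dx_4_788 : allRange 788 792 ((fun k => cdE8.checkDX (cdE8.expo pairE8 (Cfsg.Lie.chevE8.simple (k / 240))) (pairE8 (Cfsg.Lie.chevE8.simple (k / 240)) (k % 240)) (k % 240))) = true := by decide +kernel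
theorem e8Dx_4_792 : allRange 792 796 ((fun k => cdE8.checkDX (cdE8.expo pairE8 (Cfsg.Lie.chevE8.simple (k / 240))) (pairE8 (Cfsg.Lie.chevE8.simple (k / 240)) (k % 240)) (k % 240))) = true := by decide +kernel
theorem e8Dx_4_796 : allRange 796 800 ((fun k => cdE8.checkDX (cdE8.expo pairE8 (Cfsg.Lie.chevE8.simple (k / 240))) (pairE8 (Cfsg.Lie.chevE8.simple (k / 240)) (k % 240)) (k % 240))) = true := by decide +kernel
theorem e8Dx_4_800 : allRange 800 804 ((fun k => cdE8.checkDX (cdE8.expo pairE8 (Cfsg.Lie.chevE8.simple (k / 240))) (pairE8 (Cfsg.Lie.chevE8.simple (k / 240)) (k % 240)) (k % 240))) = true := by decide +kernel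
theorem e8Dx_4_804 : allRange 804 808 ((fun k => cdE8.checkDX (cdE8.expo pairE8 (Cfsg.Lie.chevE8.simple (k / 240))) (pairE8 (Cfsg.Lie.chevE8.simple (k / 240)) (k % 240)) (k % 240))) = true := by decide +kernel
theorem e8Dx_4_808 : allRange 808 812 ((fun k => cdE8.checkDX (cdE8.expo pairE8 (Cfsg.Lie.chevE8.simple (k / 240))) (pairE8 (Cfsg.Lie.chevE8.simple (k / 240)) (k % 240)) (k % 240))) = true := by decide +kernel
theorem e8Dx_4_812 : allRange 812 816 ((fun k => cdE8.checkDX (cdE8.expo pairE8 (Cfsg.Lie.chevE8.simple (k / 240))) (pairE8 (Cfsg.Lie.chevE8.simple (k / 240)) (k % 240)) (k % 240))) = true := by decide +kernel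
theorem e8Dx_4_816 : allRange 816 820 ((fun k => cdE8.checkDX (cdE8.expo pairE8 (Cfsg.Lie.chevE8.simple (k / 240))) (pairE8 (Cfsg.Lie.chevE8.simple (k / 240)) (k % 240)) (k % 240))) = true := by decide +kernel
theorem e8Dx_4_820 : allRange 820 824 ((fun k => cdE8.checkDX (cdE8.expo pairE8 (Cfsg.Lie.chevE8.simple (k / 240))) (pairE8 (Cfsg.Lie.chevE8.simple (k / 240)) (k % 240)) (k % 240))) = true := by decide +kernel
theorem e8Dx_4_824 : allRange 824 828 ((fun k => cdE8.checkDX (cdE8.expo pairE8 (Cfsg.Lie.chevE8.simple (k / 240))) (pairE8 (Cfsg.Lie.chevE8.simple (k / 240)) (k % 240)) (k % 240))) = true := by decide +kernel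
theorem e8Dx_4_828 : allRange 828 832 ((fun k => cdE8.checkDX (cdE8.expo pairE8 (Cfsg.Lie.chevE8.simple (k / 240))) (pairE8 (Cfsg.Lie.chevE8.simple (k / 240)) (k % 240)) (k % 240))) = true := by decide +kernel
theorem e8Dx_4_832 : allRange 832 836 ((fun k => cdE8.checkDX (cdE8.expo pairE8 (Cfsg.Lie.chevE8.simple (k / 240))) (pairE8 (Cfsg.Lie.chevE8.simple (k / 240)) (k % 240)) (k % 240))) = true := by decide +kernel
theorem e8Dx_4_836 : allRange 836 840 ((fun k => cdE8.checkDX (cdE8.expo pairE8 (Cfsg.Lie.chevE8.simple (k / 240))) (pairE8 (Cfsg.Lie.chevE8.simple (k / 240)) (k % 240)) (k % 240))) = true := by decide +kernel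
theorem e8Dx_4_840 : allRange 840 844 ((fun k => cdE8.checkDX (cdE8.expo pairE8 (Cfsg.Lie.chevE8.simple (k / 240))) (pairE8 (Cfsg.Lie.chevE8.simple (k / 240)) (k % 240)) (k % 240))) = true := by decide +kernel
theorem e8Dx_4_844 : allRange 844 848 ((fun k => cdE8.checkDX (cdE8.expo pairE8 (Cfsg.Lie.chevE8.simple (k / 240))) (pairE8 (Cfsg.Lie.chevE8.simple (k / 240)) (k % 240)) (k % 240))) = true := by decide +kernel
theorem e8Dx_4_848 : allRange 848 852 ((fun k => cdE8.checkDX (cdE8.expo pairE8 (Cfsg.Lie.chevE8.simple (k / 240))) (pairE8 (Cfsg.Lie.chevE8.simple (k / 240)) (k % 240)) (k % 240))) = true := by decide +kernel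
theorem e8Dx_4_852 : allRange 852 856 ((fun k => cdE8.checkDX (cdE8.expo pairE8 (Cfsg.Lie.chevE8.simple (k / 240))) (pairE8 (Cfsg.Lie.chevE8.simple (k / 240)) (k % 240)) (k % 240))) = true := by decide +kernel
theorem e8Dx_4_856 : allRange 856 860 ((fun k => cdE8.checkDX (cdE8.expo pairE8 (Cfsg.Lie.chevE8.simple (k / 240))) (pairE8 (Cfsg.Lie.chevE8.simple (k / 240)) (k % 240)) (k % 240))) = true := by decide +kernel

/-- Conjugation of root elements by the `h_p(c)` of type E8 (roots 688 to 859). -/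
theorem e8Dx_4 : ∀ r, 688 ≤ r → r < 860 → ((fun k => cdE8.checkDX (cdE8.expo pairE8 (Cfsg.Lie.chevE8.simple (k / 240))) (pairE8 (Cfsg.Lie.chevE8.simple (k / 240)) (k % 240)) (k % 240))) r = true := by
  intro r h1 h2
  by_cases c0 : r < 692
  · exact allRange_spec e8Dx_4_688 r (by omega) c0
  by_cases c1 : r < 696
  · exact allRange_spec e8Dx_4_692 r (by omega) c1
  by_cases c2 : r < 700
  · exact allRange_spec e8Dx_4_696 r (by omega) c2
  by_cases c3 : r < 704
  · exact allRange_spec e8Dx_4_700 r (by omega) c3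
  by_cases c4 : r < 708
  · exact allRange_spec e8Dx_4_704 r (by omega) c4
  by_cases c5 : r < 712
  · exact allRange_spec e8Dx_4_708 r (by omega) c5
  by_cases c6 : r < 716
  · exact allRange_spec e8Dx_4_712 r (by omega) c6
  by_cases c7 : r < 720
  · exact allRange_spec e8Dx_4_716 r (by omega) c7
  by_cases c8 : r < 724
  · exact allRange_spec e8Dx_4_720 r (by omega) c8
  by_cases c9 : r < 728
  · exact allRange_spec e8Dx_4_724 r (by omega) c9
  by_cases c10 : r < 732
  · exact allRange_spec e8Dx_4_728 r (by omega) c10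
  by_cases c11 : r < 736
  · exact allRange_spec e8Dx_4_732 r (by omega) c11
  by_cases c12 : r < 740
  · exact allRange_spec e8Dx_4_736 r (by omega) c12
  by_cases c13 : r < 744
  · exact allRange_spec e8Dx_4_740 r (by omega) c13
  by_cases c14 : r < 748
  · exact allRange_spec e8Dx_4_744 r (by omega) c14
  by_cases c15 : r < 752
  · exact allRange_spec e8Dx_4_748 r (by omega) c15
  by_cases c16 : r < 756
  · exact allRange_spec e8Dx_4_752 r (by omega) c16
  by_cases c17 : r < 760
  · exact allRange_spec e8Dx_4_756 r (by omega) c17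
  by_cases c18 : r < 764
  · exact allRange_spec e8Dx_4_760 r (by omega) c18
  by_cases c19 : r < 768
  · exact allRange_spec e8Dx_4_764 r (by omega) c19
  by_cases c20 : r < 772
  · exact allRange_spec e8Dx_4_768 r (by omega) c20
  by_cases c21 : r < 776
  · exact allRange_spec e8Dx_4_772 r (by omega) c21
  by_cases c22 : r < 780
  · exact allRange_spec e8Dx_4_776 r (by omega) c22
  by_cases c23 : r < 784
  · exact allRange_spec e8Dx_4_780 r (by omega) c23
  by_cases c24 : r < 788
  · exact allRange_spec e8Dx_4_784 r (by omega) c24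
  by_cases c25 : r < 792
  · exact allRange_spec e8Dx_4_788 r (by omega) c25
  by_cases c26 : r < 796
  · exact allRange_spec e8Dx_4_792 r (by omega) c26
  by_cases c27 : r < 800
  · exact allRange_spec e8Dx_4_796 r (by omega) c27
  by_cases c28 : r < 804
  · exact allRange_spec e8Dx_4_800 r (by omega) c28
  by_cases c29 : r < 808
  · exact allRange_spec e8Dx_4_804 r (by omega) c29
  by_cases c30 : r < 812
  · exact allRange_spec e8Dx_4_808 r (by omega) c30
  by_cases c31 : r < 816
  · exact allRange_spec e8Dx_4_812 r (by omega) c31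
  by_cases c32 : r < 820
  · exact allRange_spec e8Dx_4_816 r (by omega) c32
  by_cases c33 : r < 824
  · exact allRange_spec e8Dx_4_820 r (by omega) c33
  by_cases c34 : r < 828
  · exact allRange_spec e8Dx_4_824 r (by omega) c34
  by_cases c35 : r < 832
  · exact allRange_spec e8Dx_4_828 r (by omega) c35
  by_cases c36 : r < 836
  · exact allRange_spec e8Dx_4_832 r (by omega) c36
  by_cases c37 : r < 840
  · exact allRange_spec e8Dx_4_836 r (by omega) c37
  by_cases c38 : r < 844
  · exact allRange_spec e8Dx_4_840 r (by omega) c38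
  by_cases c39 : r < 848
  · exact allRange_spec e8Dx_4_844 r (by omega) c39
  by_cases c40 : r < 852
  · exact allRange_spec e8Dx_4_848 r (by omega) c40
  by_cases c41 : r < 856
  · exact allRange_spec e8Dx_4_852 r (by omega) c41
  exact allRange_spec e8Dx_4_856 r (by omega) h2

end Cfsg.Agent.Lib.Helper3.ChevM
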