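import Cfsg.Agent.Lib.Helper3.ChevData.E8Datum
import Cfsg.Agent.Lib.Helper3.ChevData.E8Tabs
import Cfsg.Agent.Lib.Helper3.ChevM7
set_option autoImplicit false
set_option maxRecDepth 1000000
set_option Elab.async false

namespace Cfsg.Agent.Lib.Helper3.ChevM

theorem e8Dx_5_860 : allRange 860 864 ((fun k => cdE8.checkDX (cdE8.expo pairE8 (Cfsg.Lie.chevE8.simple (k / 240))) (pairE8 (Cfsg.Lie.chevE8.simple (k / 240)) (k % 240)) (k % 240))) = true := by decide +kernel
theorem e8Dx_5_864 : allRange 864 868 ((fun k => cdE8.checkDX (cdE8.expo pairE8 (Cfsg.Lie.chevE8.simple (k / 240))) (pairE8 (Cfsg.Lie.chevE8.simple (k / 240)) (k % 240)) (k % 240))) = true := by decide +kernel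
theorem e8Dx_5_868 : allRange 868 872 ((fun k => cdE8.checkDX (cdE8.expo pairE8 (Cfsg.Lie.chevE8.simple (k / 240))) (pairE8 (Cfsg.Lie.chevE8.simple (k / 240)) (k % 240)) (k % 240))) = true := by decide +kernel
theorem e8Dx_5_872 : allRange 872 876 ((fun k => cdE8.checkDX (cdE8.expo pairE8 (Cfsg.Lie.chevE8.simple (k / 240))) (pairE8 (Cfsg.Lie.chevE8.simple (k / 240)) (k % 240)) (k % 240))) = true := by decide +kernel
theorem e8Dx_5_876 : allRange 876 880 ((fun k => cdE8.checkDX (cdE8.expo pairE8 (Cfsg.Lie.chevE8.simple (k / 240))) (pairE8 (Cfsg.Lie.chevE8.simple (k / 240)) (k % 240)) (k % 240))) = true := by decide +kernel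
theorem e8Dx_5_880 : allRange 880 884 ((fun k => cdE8.checkDX (cdE8.expo pairE8 (Cfsg.Lie.chevE8.simple (k / 240))) (pairE8 (Cfsg.Lie.chevE8.simple (k / 240)) (k % 240)) (k % 240))) = true := by decide +kernel
theorem e8Dx_5_884 : allRange 884 888 ((fun k => cdE8.checkDX (cdE8.expo pairE8 (Cfsg.Lie.chevE8.simple (k / 240))) (pairE8 (Cfsg.Lie.chevE8.simple (k / 240)) (k % 240)) (k % 240))) = true := by decide +kernel
theorem e8Dx_5_888 : allRange 888 892 ((fun k => cdE8.checkDX (cdE8.expo pairE8 (Cfsg.Lie.chevE8.simple (k / 240))) (pairE8 (Cfsg.Lie.chevE8.simple (k / 240)) (k % 240)) (k % 240))) = true := by decide +kernel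
theorem e8Dx_5_892 : allRange 892 896 ((fun k => cdE8.checkDX (cdE8.expo pairE8 (Cfsg.Lie.chevE8.simple (k / 240))) (pairE8 (Cfsg.Lie.chevE8.simple (k / 240)) (k % 240)) (k % 240))) = true := by decide +kernel
theorem e8Dx_5_896 : allRange 896 900 ((fun k => cdE8.checkDX (cdE8.expo pairE8 (Cfsg.Lie.chevE8.simple (k / 240))) (pairE8 (Cfsg.Lie.chevE8.simple (k / 240)) (k % 240)) (k % 240))) = true := by decide +kernel
theorem e8Dx_5_900 : allRange 900 904 ((fun k => cdE8.checkDX (cdE8.expo pairE8 (Cfsg.Lie.chevE8.simple (k / 240))) (pairE8 (Cfsg.Lie.chevE8.simple (k / 240)) (k % 240)) (k % 240))) = true := by decide +kernel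
theorem e8Dx_5_904 : allRange 904 908 ((fun k => cdE8.checkDX (cdE8.expo pairE8 (Cfsg.Lie.chevE8.simple (k / 240))) (pairE8 (Cfsg.Lie.chevE8.simple (k / 240)) (k % 240)) (k % 240))) = true := by decide +kernel
theorem e8Dx_5_908 : allRange 908 912 ((fun k => cdE8.checkDX (cdE8.expo pairE8 (Cfsg.Lie.chevE8.simple (k / 240))) (pairE8 (Cfsg.Lie.chevE8.simple (k / 240)) (k % 240)) (k % 240))) = true := by decide +kernel
theorem e8Dx_5_912 : allRange 912 916 ((fun k => cdE8.checkDX (cdE8.expo pairE8 (Cfsg.Lie.chevE8.simple (k / 240))) (pairE8 (Cfsg.Lie.chevE8.simple (k / 240)) (k % 240)) (k % 240))) = true := by decide +kernel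
theorem e8Dx_5_916 : allRange 916 920 ((fun k => cdE8.checkDX (cdE8.expo pairE8 (Cfsg.Lie.chevE8.simple (k / 240))) (pairE8 (Cfsg.Lie.chevE8.simple (k / 240)) (k % 240)) (k % 240))) = true := by decide +kernel
theorem e8Dx_5_920 : allRange 920 924 ((fun k => cdE8.checkDX (cdE8.expo pairE8 (Cfsg.Lie.chevE8.simple (k / 240))) (pairE8 (Cfsg.Lie.chevE8.simple (k / 240)) (k % 240)) (k % 240))) = true := by decide +kernel
theorem e8Dx_5_924 : allRange 924 928 ((fun k => cdE8.checkDX (cdE8.expo pairE8 (Cfsg.Lie.chevE8.simple (k / 240))) (pairE8 (Cfsg.Lie.chevE8.simple (k / 240)) (k % 240)) (k % 240))) = true := by decide +kernel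
theorem e8Dx_5_928 : allRange 928 932 ((fun k => cdE8.checkDX (cdE8.expo pairE8 (Cfsg.Lie.chevE8.simple (k / 240))) (pairE8 (Cfsg.Lie.chevE8.simple (k / 240)) (k % 240)) (k % 240))) = true := by decide +kernel
theorem e8Dx_5_932 : allRange 932 936 ((fun k => cdE8.checkDX (cdE8.expo pairE8 (Cfsg.Lie.chevE8.simple (k / 240))) (pairE8 (Cfsg.Lie.chevE8.simple (k / 240)) (k % 240)) (k % 240))) = true := by decide +kernel
theorem e8Dx_5_936 : allRange 936 940 ((fun k => cdE8.checkDX (cdE8.expo pairE8 (Cfsg.Lie.chevE8.simple (k / 240))) (pairE8 (Cfsg.Lie.chevE8.simple (k / 240)) (k % 240)) (k % 240))) = true := by decide +kernel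
theorem e8Dx_5_940 : allRange 940 944 ((fun k => cdE8.checkDX (cdE8.expo pairE8 (Cfsg.Lie.chevE8.simple (k / 240))) (pairE8 (Cfsg.Lie.chevE8.simple (k / 240)) (k % 240)) (k % 240))) = true := by decide +kernel
theorem e8Dx_5_944 : allRange 944 948 ((fun k => cdE8.checkDX (cdE8.expo pairE8 (Cfsg.Lie.chevE8.simple (k / 240))) (pairE8 (Cfsg.Lie.chevE8.simple (k / 240)) (k % 240)) (k % 240))) = true := by decide +kernel
theorem e8Dx_5_948 : allRange 948 952 ((fun k => cdE8.checkDX (cdE8.expo pairE8 (Cfsg.Lie.chevE8.simple (k / 240))) (pairE8 (Cfsg.Lie.chevE8.simple (k / 240)) (k % 240)) (k % 240))) = true := by decide +kernel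
theorem e8Dx_5_952 : allRange 952 956 ((fun k => cdE8.checkDX (cdE8.expo pairE8 (Cfsg.Lie.chevE8.simple (k / 240))) (pairE8 (Cfsg.Lie.chevE8.simple (k / 240)) (k % 240)) (k % 240))) = true := by decide +kernel
theorem e8Dx_5_956 : allRange 956 960 ((fun k => cdE8.checkDX (cdE8.expo pairE8 (Cfsg.Lie.chevE8.simple (k / 240))) (pairE8 (Cfsg.Lie.chevE8.simple (k / 240)) (k % 240)) (k % 240))) = true := by decide +kernel
theorem e8Dx_5_960 : allRange 960 964 ((fun k => cdE8.checkDX (cdE8.expo pairE8 (Cfsg.Lie.chevE8.simple (k / 240))) (pairE8 (Cfsg.Lie.chevE8.simple (k / 240)) (k % 240)) (k % 240))) = true := by decide +kernel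
theorem e8Dx_5_964 : allRange 964 968 ((fun k => cdE8.checkDX (cdE8.expo pairE8 (Cfsg.Lie.chevE8.simple (k / 240))) (pairE8 (Cfsg.Lie.chevE8.simple (k / 240)) (k % 240)) (k % 240))) = true := by decide +kernel
theorem e8Dx_5_968 : allRange 968 972 ((fun k => cdE8.checkDX (cdE8.expo pairE8 (Cfsg.Lie.chevE8.simple (k / 240))) (pairE8 (Cfsg.Lie.chevE8.simple (k / 240)) (k % 240)) (k % 240))) = true := by decide +kernel
theorem e8Dx_5_972 : allRange 972 976 ((fun k => cdE8.checkDX (cdE8.expo pairE8 (Cfsg.Lie.chevE8.simple (k / 240))) (pairE8 (Cfsg.Lie.chevE8.simple (k / 240)) (k % 240)) (k % 240))) = true := by decide +kernel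
theorem e8Dx_5_976 : allRange 976 980 ((fun k => cdE8.checkDX (cdE8.expo pairE8 (Cfsg.Lie.chevE8.simple (k / 240))) (pairE8 (Cfsg.Lie.chevE8.simple (k / 240)) (k % 240)) (k % 240))) = true := by decide +kernel
theorem e8Dx_5_980 : allRange 980 984 ((fun k => cdE8.checkDX (cdE8.expo pairE8 (Cfsg.Lie.chevE8.simple (k / 240))) (pairE8 (Cfsg.Lie.chevE8.simple (k / 240)) (k % 240)) (k % 240))) = true := by decide +kernel
theorem e8Dx_5_984 : allRange 984 988 ((fun k => cdE8.checkDX (cdE8.expo pairE8 (Cfsg.Lie.chevE8.simple (k / 240))) (pairE8 (Cfsg.Lie.chevE8.simple (k / 240)) (k % 240)) (k % 240))) = true := by decide +kernel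
theorem e8Dx_5_988 : allRange 988 992 ((fun k => cdE8.checkDX (cdE8.expo pairE8 (Cfsg.Lie.chevE8.simple (k / 240))) (pairE8 (Cfsg.Lie.chevE8.simple (k / 240)) (k % 240)) (k % 240))) = true := by decide +kernel
theorem e8Dx_5_992 : allRange 992 996 ((fun k => cdE8.checkDX (cdE8.expo pairE8 (Cfsg.Lie.chevE8.simple (k / 240))) (pairE8 (Cfsg.Lie.chevE8.simple (k / 240)) (k % 240)) (k % 240))) = true := by decide +kernel
theorem e8Dx_5_996 : allRange 996 1000 ((fun k => cdE8.checkDX (cdE8.expo pairE8 (Cfsg.Lie.chevE8.simple (k / 240))) (pairE8 (Cfsg.Lie.chevE8.simple (k / 240)) (k % 240)) (k % 240))) = true := by decide +kernel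
theorem e8Dx_5_1000 : allRange 1000 1004 ((fun k => cdE8.checkDX (cdE8.expo pairE8 (Cfsg.Lie.chevE8.simple (k / 240))) (pairE8 (Cfsg.Lie.chevE8.simple (k / 240)) (k % 240)) (k % 240))) = true := by decide +kernel
theorem e8Dx_5_1004 : allRange 1004 1008 ((fun k => cdE8.checkDX (cdE8.expo pairE8 (Cfsg.Lie.chevE8.simple (k / 240))) (pairE8 (Cfsg.Lie.chevE8.simple (k / 240)) (k % 240)) (k % 240))) = true := by decide +kernel
theorem e8Dx_5_1008 : allRange 1008 1012 ((fun k => cdE8.checkDX (cdE8.expo pairE8 (Cfsg.Lie.chevE8.simple (k / 240))) (pairE8 (Cfsg.Lie.chevE8.simple (k / 240)) (k % 240)) (k % 240))) = true := by decide +kernel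
theorem e8Dx_5_1012 : allRange 1012 1016 ((fun k => cdE8.checkDX (cdE8.expo pairE8 (Cfsg.Lie.chevE8.simple (k / 240))) (pairE8 (Cfsg.Lie.chevE8.simple (k / 240)) (k % 240)) (k % 240))) = true := by decide +kernel
theorem e8Dx_5_1016 : allRange 1016 1020 ((fun k => cdE8.checkDX (cdE8.expo pairE8 (Cfsg.Lie.chevE8.simple (k / 240))) (pairE8 (Cfsg.Lie.chevE8.simple (k / 240)) (k % 240)) (k % 240))) = true := by decide +kernel
theorem e8Dx_5_1020 : allRange 1020 1024 ((fun k => cdE8.checkDX (cdE8.expo pairE8 (Cfsg.Lie.chevE8.simple (k / 240))) (pairE8 (Cfsg.Lie.chevE8.simple (k / 240)) (k % 240)) (k % 240))) = true := by decide +kernel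
theorem e8Dx_5_1024 : allRange 1024 1028 ((fun k => cdE8.checkDX (cdE8.expo pairE8 (Cfsg.Lie.chevE8.simple (k / 240))) (pairE8 (Cfsg.Lie.chevE8.simple (k / 240)) (k % 240)) (k % 240))) = true := by decide +kernel
theorem e8Dx_5_1028 : allRange 1028 1032 ((fun k => cdE8.checkDX (cdE8.expo pairE8 (Cfsg.Lie.chevE8.simple (k / 240))) (pairE8 (Cfsg.Lie.chevE8.simple (k / 240)) (k % 240)) (k % 240))) = true := by decide +kernel

/-- Conjugation of root elements by the `h_p(c)` of type E8 (roots 860 to 1031). -/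
theorem e8Dx_5 : ∀ r, 860 ≤ r → r < 1032 → ((fun k => cdE8.checkDX (cdE8.expo pairE8 (Cfsg.Lie.chevE8.simple (k / 240))) (pairE8 (Cfsg.Lie.chevE8.simple (k / 240)) (k % 240)) (k % 240))) r = true := by
  intro r h1 h2
  by_cases c0 : r < 864
  · exact allRange_spec e8Dx_5_860 r (by omega) c0
  by_cases c1 : r < 868
  · exact allRange_spec e8Dx_5_864 r (by omega) c1
  by_cases c2 : r < 872
  · exact allRange_spec e8Dx_5_868 r (by omega) c2
  by_cases c3 : r < 876
  · exact allRange_spec e8Dx_5_872 r (by omega) c3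
  by_cases c4 : r < 880
  · exact allRange_spec e8Dx_5_876 r (by omega) c4
  by_cases c5 : r < 884
  · exact allRange_spec e8Dx_5_880 r (by omega) c5
  by_cases c6 : r < 888
  · exact allRange_spec e8Dx_5_884 r (by omega) c6
  by_cases c7 : r < 892
  · exact allRange_spec e8Dx_5_888 r (by omega) c7
  by_cases c8 : r < 896
  · exact allRange_spec e8Dx_5_892 r (by omega) c8
  by_cases c9 : r < 900
  · exact allRange_spec e8Dx_5_896 r (by omega) c9
  by_cases c10 : r < 904
  · exact allRange_spec e8Dx_5_900 r (by omega) c10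
  by_cases c11 : r < 908
  · exact allRange_spec e8Dx_5_904 r (by omega) c11
  by_cases c12 : r < 912
  · exact allRange_spec e8Dx_5_908 r (by omega) c12
  by_cases c13 : r < 916
  · exact allRange_spec e8Dx_5_912 r (by omega) c13
  by_cases c14 : r < 920
  · exact allRange_spec e8Dx_5_916 r (by omega) c14
  by_cases c15 : r < 924
  · exact allRange_spec e8Dx_5_920 r (by omega) c15
  by_cases c16 : r < 928
  · exact allRange_spec e8Dx_5_924 r (by omega) c16
  by_cases c17 : r < 932
  · exact allRange_spec e8Dx_5_928 r (by omega) c17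
  by_cases c18 : r < 936
  · exact allRange_spec e8Dx_5_932 r (by omega) c18
  by_cases c19 : r < 940
  · exact allRange_spec e8Dx_5_936 r (by omega) c19
  by_cases c20 : r < 944
  · exact allRange_spec e8Dx_5_940 r (by omega) c20
  by_cases c21 : r < 948
  · exact allRange_spec e8Dx_5_944 r (by omega) c21
  by_cases c22 : r < 952
  · exact allRange_spec e8Dx_5_948 r (by omega) c22
  by_cases c23 : r < 956
  · exact allRange_spec e8Dx_5_952 r (by omega) c23
  by_cases c24 : r < 960
  · exact allRange_spec e8Dx_5_956 r (by omega) c24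
  by_cases c25 : r < 964
  · exact allRange_spec e8Dx_5_960 r (by omega) c25
  by_cases c26 : r < 968
  · exact allRange_spec e8Dx_5_964 r (by omega) c26
  by_cases c27 : r < 972
  · exact allRange_spec e8Dx_5_968 r (by omega) c27
  by_cases c28 : r < 976
  · exact allRange_spec e8Dx_5_972 r (by omega) c28
  by_cases c29 : r < 980
  · exact allRange_spec e8Dx_5_976 r (by omega) c29
  by_cases c30 : r < 984
  · exact allRange_spec e8Dx_5_980 r (by omega) c30
  by_cases c31 : r < 988
  · exact allRange_spec e8Dx_5_984 r (by omega) c31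
  by_cases c32 : r < 992
  · exact allRange_spec e8Dx_5_988 r (by omega) c32
  by_cases c33 : r < 996
  · exact allRange_spec e8Dx_5_992 r (by omega) c33
  by_cases c34 : r < 1000
  · exact allRange_spec e8Dx_5_996 r (by omega) c34
  by_cases c35 : r < 1004
  · exact allRange_spec e8Dx_5_1000 r (by omega) c35
  by_cases c36 : r < 1008
  · exact allRange_spec e8Dx_5_1004 r (by omega) c36
  by_cases c37 : r < 1012
  · exact allRange_spec e8Dx_5_1008 r (by omega) c37
  by_cases c38 : r < 1016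
  · exact allRange_spec e8Dx_5_1012 r (by omega) c38
  by_cases c39 : r < 1020
  · exact allRange_spec e8Dx_5_1016 r (by omega) c39
  by_cases c40 : r < 1024
  · exact allRange_spec e8Dx_5_1020 r (by omega) c40
  by_cases c41 : r < 1028
  · exact allRange_spec e8Dx_5_1024 r (by omega) c41
  exact allRange_spec e8Dx_5_1028 r (by omega) h2

end Cfsg.Agent.Lib.Helper3.ChevM
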