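import Cfsg.Agent.Lib.Helper3.ChevData.E8Datum
import Cfsg.Agent.Lib.Helper3.ChevData.E8Tabs
import Cfsg.Agent.Lib.Helper3.ChevM7
set_option autoImplicit false
set_option maxRecDepth 1000000
set_option Elab.async false

namespace Cfsg.Agent.Lib.Helper3.ChevM

theorem e8Dx_6_1032 : allRange 1032 1036 ((fun k => cdE8.checkDX (cdE8.expo pairE8 (Cfsg.Lie.chevE8.simple (k / 240))) (pairE8 (Cfsg.Lie.chevE8.simple (k / 240)) (k % 240)) (k % 240))) = true := by decide +kernel
theorem e8Dx_6_1036 : allRange 1036 1040 ((fun k => cdE8.checkDX (cdE8.expo pairE8 (Cfsg.Lie.chevE8.simple (k / 240))) (pairE8 (Cfsg.Lie.chevE8.simple (k / 240)) (k % 240)) (k % 240))) = true := by decide +kernel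
theorem e8Dx_6_1040 : allRange 1040 1044 ((fun k => cdE8.checkDX (cdE8.expo pairE8 (Cfsg.Lie.chevE8.simple (k / 240))) (pairE8 (Cfsg.Lie.chevE8.simple (k / 240)) (k % 240)) (k % 240))) = true := by decide +kernel
theorem e8Dx_6_1044 : allRange 1044 1048 ((fun k => cdE8.checkDX (cdE8.expo pairE8 (Cfsg.Lie.chevE8.simple (k / 240))) (pairE8 (Cfsg.Lie.chevE8.simple (k / 240)) (k % 240)) (k % 240))) = true := by decide +kernel
theorem e8Dx_6_1048 : allRange 1048 1052 ((fun k => cdE8.checkDX (cdE8.expo pairE8 (Cfsg.Lie.chevE8.simple (k / 240))) (pairE8 (Cfsg.Lie.chevE8.simple (k / 240)) (k % 240)) (k % 240))) = true := by decide +kernel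
theorem e8Dx_6_1052 : allRange 1052 1056 ((fun k => cdE8.checkDX (cdE8.expo pairE8 (Cfsg.Lie.chevE8.simple (k / 240))) (pairE8 (Cfsg.Lie.chevE8.simple (k / 240)) (k % 240)) (k % 240))) = true := by decide +kernel
theorem e8Dx_6_1056 : allRange 1056 1060 ((fun k => cdE8.checkDX (cdE8.expo pairE8 (Cfsg.Lie.chevE8.simple (k / 240))) (pairE8 (Cfsg.Lie.chevE8.simple (k / 240)) (k % 240)) (k % 240))) = true := by decide +kernel
theorem e8Dx_6_1060 : allRange 1060 1064 ((fun k => cdE8.checkDX (cdE8.expo pairE8 (Cfsg.Lie.chevE8.simple (k / 240))) (pairE8 (Cfsg.Lie.chevE8.simple (k / 240)) (k % 240)) (k % 240))) = true := by decide +kernel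
theorem e8Dx_6_1064 : allRange 1064 1068 ((fun k => cdE8.checkDX (cdE8.expo pairE8 (Cfsg.Lie.chevE8.simple (k / 240))) (pairE8 (Cfsg.Lie.chevE8.simple (k / 240)) (k % 240)) (k % 240))) = true := by decide +kernel
theorem e8Dx_6_1068 : allRange 1068 1072 ((fun k => cdE8.checkDX (cdE8.expo pairE8 (Cfsg.Lie.chevE8.simple (k / 240))) (pairE8 (Cfsg.Lie.chevE8.simple (k / 240)) (k % 240)) (k % 240))) = true := by decide +kernel
theorem e8Dx_6_1072 : allRange 1072 1076 ((fun k => cdE8.checkDX (cdE8.expo pairE8 (Cfsg.Lie.chevE8.simple (k / 240))) (pairE8 (Cfsg.Lie.chevE8.simple (k / 240)) (k % 240)) (k % 240))) = true := by decide +kernel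
theorem e8Dx_6_1076 : allRange 1076 1080 ((fun k => cdE8.checkDX (cdE8.expo pairE8 (Cfsg.Lie.chevE8.simple (k / 240))) (pairE8 (Cfsg.Lie.chevE8.simple (k / 240)) (k % 240)) (k % 240))) = true := by decide +kernel
theorem e8Dx_6_1080 : allRange 1080 1084 ((fun k => cdE8.checkDX (cdE8.expo pairE8 (Cfsg.Lie.chevE8.simple (k / 240))) (pairE8 (Cfsg.Lie.chevE8.simple (k / 240)) (k % 240)) (k % 240))) = true := by decide +kernel
theorem e8Dx_6_1084 : allRange 1084 1088 ((fun k => cdE8.checkDX (cdE8.expo pairE8 (Cfsg.Lie.chevE8.simple (k / 240))) (pairE8 (Cfsg.Lie.chevE8.simple (k / 240)) (k % 240)) (k % 240))) = true := by decide +kernel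
theorem e8Dx_6_1088 : allRange 1088 1092 ((fun k => cdE8.checkDX (cdE8.expo pairE8 (Cfsg.Lie.chevE8.simple (k / 240))) (pairE8 (Cfsg.Lie.chevE8.simple (k / 240)) (k % 240)) (k % 240))) = true := by decide +kernel
theorem e8Dx_6_1092 : allRange 1092 1096 ((fun k => cdE8.checkDX (cdE8.expo pairE8 (Cfsg.Lie.chevE8.simple (k / 240))) (pairE8 (Cfsg.Lie.chevE8.simple (k / 240)) (k % 240)) (k % 240))) = true := by decide +kernel
theorem e8Dx_6_1096 : allRange 1096 1100 ((fun k => cdE8.checkDX (cdE8.expo pairE8 (Cfsg.Lie.chevE8.simple (k / 240))) (pairE8 (Cfsg.Lie.chevE8.simple (k / 240)) (k % 240)) (k % 240))) = true := by decide +kernel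
theorem e8Dx_6_1100 : allRange 1100 1104 ((fun k => cdE8.checkDX (cdE8.expo pairE8 (Cfsg.Lie.chevE8.simple (k / 240))) (pairE8 (Cfsg.Lie.chevE8.simple (k / 240)) (k % 240)) (k % 240))) = true := by decide +kernel
theorem e8Dx_6_1104 : allRange 1104 1108 ((fun k => cdE8.checkDX (cdE8.expo pairE8 (Cfsg.Lie.chevE8.simple (k / 240))) (pairE8 (Cfsg.Lie.chevE8.simple (k / 240)) (k % 240)) (k % 240))) = true := by decide +kernel
theorem e8Dx_6_1108 : allRange 1108 1112 ((fun k => cdE8.checkDX (cdE8.expo pairE8 (Cfsg.Lie.chevE8.simple (k / 240))) (pairE8 (Cfsg.Lie.chevE8.simple (k / 240)) (k % 240)) (k % 240))) = true := by decide +kernel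
theorem e8Dx_6_1112 : allRange 1112 1116 ((fun k => cdE8.checkDX (cdE8.expo pairE8 (Cfsg.Lie.chevE8.simple (k / 240))) (pairE8 (Cfsg.Lie.chevE8.simple (k / 240)) (k % 240)) (k % 240))) = true := by decide +kernel
theorem e8Dx_6_1116 : allRange 1116 1120 ((fun k => cdE8.checkDX (cdE8.expo pairE8 (Cfsg.Lie.chevE8.simple (k / 240))) (pairE8 (Cfsg.Lie.chevE8.simple (k / 240)) (k % 240)) (k % 240))) = true := by decide +kernel
theorem e8Dx_6_1120 : allRange 1120 1124 ((fun k => cdE8.checkDX (cdE8.expo pairE8 (Cfsg.Lie.chevE8.simple (k / 240))) (pairE8 (Cfsg.Lie.chevE8.simple (k / 240)) (k % 240)) (k % 240))) = true := by decide +kernel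
theorem e8Dx_6_1124 : allRange 1124 1128 ((fun k => cdE8.checkDX (cdE8.expo pairE8 (Cfsg.Lie.chevE8.simple (k / 240))) (pairE8 (Cfsg.Lie.chevE8.simple (k / 240)) (k % 240)) (k % 240))) = true := by decide +kernel
theorem e8Dx_6_1128 : allRange 1128 1132 ((fun k => cdE8.checkDX (cdE8.expo pairE8 (Cfsg.Lie.chevE8.simple (k / 240))) (pairE8 (Cfsg.Lie.chevE8.simple (k / 240)) (k % 240)) (k % 240))) = true := by decide +kernel
theorem e8Dx_6_1132 : allRange 1132 1136 ((fun k => cdE8.checkDX (cdE8.expo pairE8 (Cfsg.Lie.chevE8.simple (k / 240))) (pairE8 (Cfsg.Lie.chevE8.simple (k / 240)) (k % 240)) (k % 240))) = true := by decide +kernel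
theorem e8Dx_6_1136 : allRange 1136 1140 ((fun k => cdE8.checkDX (cdE8.expo pairE8 (Cfsg.Lie.chevE8.simple (k / 240))) (pairE8 (Cfsg.Lie.chevE8.simple (k / 240)) (k % 240)) (k % 240))) = true := by decide +kernel
theorem e8Dx_6_1140 : allRange 1140 1144 ((fun k => cdE8.checkDX (cdE8.expo pairE8 (Cfsg.Lie.chevE8.simple (k / 240))) (pairE8 (Cfsg.Lie.chevE8.simple (k / 240)) (k % 240)) (k % 240))) = true := by decide +kernel
theorem e8Dx_6_1144 : allRange 1144 1148 ((fun k => cdE8.checkDX (cdE8.expo pairE8 (Cfsg.Lie.chevE8.simple (k / 240))) (pairE8 (Cfsg.Lie.chevE8.simple (k / 240)) (k % 240)) (k % 240))) = true := by decide +kernel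
theorem e8Dx_6_1148 : allRange 1148 1152 ((fun k => cdE8.checkDX (cdE8.expo pairE8 (Cfsg.Lie.chevE8.simple (k / 240))) (pairE8 (Cfsg.Lie.chevE8.simple (k / 240)) (k % 240)) (k % 240))) = true := by decide +kernel
theorem e8Dx_6_1152 : allRange 1152 1156 ((fun k => cdE8.checkDX (cdE8.expo pairE8 (Cfsg.Lie.chevE8.simple (k / 240))) (pairE8 (Cfsg.Lie.chevE8.simple (k / 240)) (k % 240)) (k % 240))) = true := by decide +kernel
theorem e8Dx_6_1156 : allRange 1156 1160 ((fun k => cdE8.checkDX (cdE8.expo pairE8 (Cfsg.Lie.chevE8.simple (k / 240))) (pairE8 (Cfsg.Lie.chevE8.simple (k / 240)) (k % 240)) (k % 240))) = true := by decide +kernel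
theorem e8Dx_6_1160 : allRange 1160 1164 ((fun k => cdE8.checkDX (cdE8.expo pairE8 (Cfsg.Lie.chevE8.simple (k / 240))) (pairE8 (Cfsg.Lie.chevE8.simple (k / 240)) (k % 240)) (k % 240))) = true := by decide +kernel
theorem e8Dx_6_1164 : allRange 1164 1168 ((fun k => cdE8.checkDX (cdE8.expo pairE8 (Cfsg.Lie.chevE8.simple (k / 240))) (pairE8 (Cfsg.Lie.chevE8.simple (k / 240)) (k % 240)) (k % 240))) = true := by decide +kernel
theorem e8Dx_6_1168 : allRange 1168 1172 ((fun k => cdE8.checkDX (cdE8.expo pairE8 (Cfsg.Lie.chevE8.simple (k / 240))) (pairE8 (Cfsg.Lie.chevE8.simple (k / 240)) (k % 240)) (k % 240))) = true := by decide +kernel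
theorem e8Dx_6_1172 : allRange 1172 1176 ((fun k => cdE8.checkDX (cdE8.expo pairE8 (Cfsg.Lie.chevE8.simple (k / 240))) (pairE8 (Cfsg.Lie.chevE8.simple (k / 240)) (k % 240)) (k % 240))) = true := by decide +kernel
theorem e8Dx_6_1176 : allRange 1176 1180 ((fun k => cdE8.checkDX (cdE8.expo pairE8 (Cfsg.Lie.chevE8.simple (k / 240))) (pairE8 (Cfsg.Lie.chevE8.simple (k / 240)) (k % 240)) (k % 240))) = true := by decide +kernel
theorem e8Dx_6_1180 : allRange 1180 1184 ((fun k => cdE8.checkDX (cdE8.expo pairE8 (Cfsg.Lie.chevE8.simple (k / 240))) (pairE8 (Cfsg.Lie.chevE8.simple (k / 240)) (k % 240)) (k % 240))) = true := by decide +kernel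
theorem e8Dx_6_1184 : allRange 1184 1188 ((fun k => cdE8.checkDX (cdE8.expo pairE8 (Cfsg.Lie.chevE8.simple (k / 240))) (pairE8 (Cfsg.Lie.chevE8.simple (k / 240)) (k % 240)) (k % 240))) = true := by decide +kernel
theorem e8Dx_6_1188 : allRange 1188 1192 ((fun k => cdE8.checkDX (cdE8.expo pairE8 (Cfsg.Lie.chevE8.simple (k / 240))) (pairE8 (Cfsg.Lie.chevE8.simple (k / 240)) (k % 240)) (k % 240))) = true := by decide +kernel
theorem e8Dx_6_1192 : allRange 1192 1196 ((fun k => cdE8.checkDX (cdE8.expo pairE8 (Cfsg.Lie.chevE8.simple (k / 240))) (pairE8 (Cfsg.Lie.chevE8.simple (k / 240)) (k % 240)) (k % 240))) = true := by decide +kernel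
theorem e8Dx_6_1196 : allRange 1196 1200 ((fun k => cdE8.checkDX (cdE8.expo pairE8 (Cfsg.Lie.chevE8.simple (k / 240))) (pairE8 (Cfsg.Lie.chevE8.simple (k / 240)) (k % 240)) (k % 240))) = true := by decide +kernel
theorem e8Dx_6_1200 : allRange 1200 1204 ((fun k => cdE8.checkDX (cdE8.expo pairE8 (Cfsg.Lie.chevE8.simple (k / 240))) (pairE8 (Cfsg.Lie.chevE8.simple (k / 240)) (k % 240)) (k % 240))) = true := by decide +kernel

/-- Conjugation of root elements by the `h_p(c)` of type E8 (roots 1032 to 1203). -/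
theorem e8Dx_6 : ∀ r, 1032 ≤ r → r < 1204 → ((fun k => cdE8.checkDX (cdE8.expo pairE8 (Cfsg.Lie.chevE8.simple (k / 240))) (pairE8 (Cfsg.Lie.chevE8.simple (k / 240)) (k % 240)) (k % 240))) r = true := by
  intro r h1 h2
  by_cases c0 : r < 1036
  · exact allRange_spec e8Dx_6_1032 r (by omega) c0
  by_cases c1 : r < 1040
  · exact allRange_spec e8Dx_6_1036 r (by omega) c1
  by_cases c2 : r < 1044
  · exact allRange_spec e8Dx_6_1040 r (by omega) c2
  by_cases c3 : r < 1048
  · exact allRange_spec e8Dx_6_1044 r (by omega) c3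
  by_cases c4 : r < 1052
  · exact allRange_spec e8Dx_6_1048 r (by omega) c4
  by_cases c5 : r < 1056
  · exact allRange_spec e8Dx_6_1052 r (by omega) c5
  by_cases c6 : r < 1060
  · exact allRange_spec e8Dx_6_1056 r (by omega) c6
  by_cases c7 : r < 1064
  · exact allRange_spec e8Dx_6_1060 r (by omega) c7
  by_cases c8 : r < 1068
  · exact allRange_spec e8Dx_6_1064 r (by omega) c8
  by_cases c9 : r < 1072
  · exact allRange_spec e8Dx_6_1068 r (by omega) c9
  by_cases c10 : r < 1076
  · exact allRange_spec e8Dx_6_1072 r (by omega) c10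
  by_cases c11 : r < 1080
  · exact allRange_spec e8Dx_6_1076 r (by omega) c11
  by_cases c12 : r < 1084
  · exact allRange_spec e8Dx_6_1080 r (by omega) c12
  by_cases c13 : r < 1088
  · exact allRange_spec e8Dx_6_1084 r (by omega) c13
  by_cases c14 : r < 1092
  · exact allRange_spec e8Dx_6_1088 r (by omega) c14
  by_cases c15 : r < 1096
  · exact allRange_spec e8Dx_6_1092 r (by omega) c15
  by_cases c16 : r < 1100
  · exact allRange_spec e8Dx_6_1096 r (by omega) c16
  by_cases c17 : r < 1104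
  · exact allRange_spec e8Dx_6_1100 r (by omega) c17
  by_cases c18 : r < 1108
  · exact allRange_spec e8Dx_6_1104 r (by omega) c18
  by_cases c19 : r < 1112
  · exact allRange_spec e8Dx_6_1108 r (by omega) c19
  by_cases c20 : r < 1116
  · exact allRange_spec e8Dx_6_1112 r (by omega) c20
  by_cases c21 : r < 1120
  · exact allRange_spec e8Dx_6_1116 r (by omega) c21
  by_cases c22 : r < 1124
  · exact allRange_spec e8Dx_6_1120 r (by omega) c22
  by_cases c23 : r < 1128
  · exact allRange_spec e8Dx_6_1124 r (by omega) c23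
  by_cases c24 : r < 1132
  · exact allRange_spec e8Dx_6_1128 r (by omega) c24
  by_cases c25 : r < 1136
  · exact allRange_spec e8Dx_6_1132 r (by omega) c25
  by_cases c26 : r < 1140
  · exact allRange_spec e8Dx_6_1136 r (by omega) c26
  by_cases c27 : r < 1144
  · exact allRange_spec e8Dx_6_1140 r (by omega) c27
  by_cases c28 : r < 1148
  · exact allRange_spec e8Dx_6_1144 r (by omega) c28
  by_cases c29 : r < 1152
  · exact allRange_spec e8Dx_6_1148 r (by omega) c29
  by_cases c30 : r < 1156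
  · exact allRange_spec e8Dx_6_1152 r (by omega) c30
  by_cases c31 : r < 1160
  · exact allRange_spec e8Dx_6_1156 r (by omega) c31
  by_cases c32 : r < 1164
  · exact allRange_spec e8Dx_6_1160 r (by omega) c32
  by_cases c33 : r < 1168
  · exact allRange_spec e8Dx_6_1164 r (by omega) c33
  by_cases c34 : r < 1172
  · exact allRange_spec e8Dx_6_1168 r (by omega) c34
  by_cases c35 : r < 1176
  · exact allRange_spec e8Dx_6_1172 r (by omega) c35
  by_cases c36 : r < 1180
  · exact allRange_spec e8Dx_6_1176 r (by omega) c36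
  by_cases c37 : r < 1184
  · exact allRange_spec e8Dx_6_1180 r (by omega) c37
  by_cases c38 : r < 1188
  · exact allRange_spec e8Dx_6_1184 r (by omega) c38
  by_cases c39 : r < 1192
  · exact allRange_spec e8Dx_6_1188 r (by omega) c39
  by_cases c40 : r < 1196
  · exact allRange_spec e8Dx_6_1192 r (by omega) c40
  by_cases c41 : r < 1200
  · exact allRange_spec e8Dx_6_1196 r (by omega) c41
  exact allRange_spec e8Dx_6_1200 r (by omega) h2

end Cfsg.Agent.Lib.Helper3.ChevM
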