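import Cfsg.Agent.Lib.Helper3.ChevData.E8Datum
import Cfsg.Agent.Lib.Helper3.ChevData.E8Tabs
import Cfsg.Agent.Lib.Helper3.ChevM7
set_option autoImplicit false
set_option maxRecDepth 1000000
set_option Elab.async false

namespace Cfsg.Agent.Lib.Helper3.ChevM

theorem e8Dx_7_1204 : allRange 1204 1208 ((fun k => cdE8.checkDX (cdE8.expo pairE8 (Cfsg.Lie.chevE8.simple (k / 240))) (pairE8 (Cfsg.Lie.chevE8.simple (k / 240)) (k % 240)) (k % 240))) = true := by decide +kernel
theorem e8Dx_7_1208 : allRange 1208 1212 ((fun k => cdE8.checkDX (cdE8.expo pairE8 (Cfsg.Lie.chevE8.simple (k / 240))) (pairE8 (Cfsg.Lie.chevE8.simple (k / 240)) (k % 240)) (k % 240))) = true := by decide +kernel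
theorem e8Dx_7_1212 : allRange 1212 1216 ((fun k => cdE8.checkDX (cdE8.expo pairE8 (Cfsg.Lie.chevE8.simple (k / 240))) (pairE8 (Cfsg.Lie.chevE8.simple (k / 240)) (k % 240)) (k % 240))) = true := by decide +kernel
theorem e8Dx_7_1216 : allRange 1216 1220 ((fun k => cdE8.checkDX (cdE8.expo pairE8 (Cfsg.Lie.chevE8.simple (k / 240))) (pairE8 (Cfsg.Lie.chevE8.simple (k / 240)) (k % 240)) (k % 240))) = true := by decide +kernel
theorem e8Dx_7_1220 : allRange 1220 1224 ((fun k => cdE8.checkDX (cdE8.expo pairE8 (Cfsg.Lie.chevE8.simple (k / 240))) (pairE8 (Cfsg.Lie.chevE8.simple (k / 240)) (k % 240)) (k % 240))) = true := by decide +kernel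
theorem e8Dx_7_1224 : allRange 1224 1228 ((fun k => cdE8.checkDX (cdE8.expo pairE8 (Cfsg.Lie.chevE8.simple (k / 240))) (pairE8 (Cfsg.Lie.chevE8.simple (k / 240)) (k % 240)) (k % 240))) = true := by decide +kernel
theorem e8Dx_7_1228 : allRange 1228 1232 ((fun k => cdE8.checkDX (cdE8.expo pairE8 (Cfsg.Lie.chevE8.simple (k / 240))) (pairE8 (Cfsg.Lie.chevE8.simple (k / 240)) (k % 240)) (k % 240))) = true := by decide +kernel
theorem e8Dx_7_1232 : allRange 1232 1236 ((fun k => cdE8.checkDX (cdE8.expo pairE8 (Cfsg.Lie.chevE8.simple (k / 240))) (pairE8 (Cfsg.Lie.chevE8.simple (k / 240)) (k % 240)) (k % 240))) = true := by decide +kernel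
theorem e8Dx_7_1236 : allRange 1236 1240 ((fun k => cdE8.checkDX (cdE8.expo pairE8 (Cfsg.Lie.chevE8.simple (k / 240))) (pairE8 (Cfsg.Lie.chevE8.simple (k / 240)) (k % 240)) (k % 240))) = true := by decide +kernel
theorem e8Dx_7_1240 : allRange 1240 1244 ((fun k => cdE8.checkDX (cdE8.expo pairE8 (Cfsg.Lie.chevE8.simple (k / 240))) (pairE8 (Cfsg.Lie.chevE8.simple (k / 240)) (k % 240)) (k % 240))) = true := by decide +kernel
theorem e8Dx_7_1244 : allRange 1244 1248 ((fun k => cdE8.checkDX (cdE8.expo pairE8 (Cfsg.Lie.chevE8.simple (k / 240))) (pairE8 (Cfsg.Lie.chevE8.simple (k / 240)) (k % 240)) (k % 240))) = true := by decide +kernel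
theorem e8Dx_7_1248 : allRange 1248 1252 ((fun k => cdE8.checkDX (cdE8.expo pairE8 (Cfsg.Lie.chevE8.simple (k / 240))) (pairE8 (Cfsg.Lie.chevE8.simple (k / 240)) (k % 240)) (k % 240))) = true := by decide +kernel
theorem e8Dx_7_1252 : allRange 1252 1256 ((fun k => cdE8.checkDX (cdE8.expo pairE8 (Cfsg.Lie.chevE8.simple (k / 240))) (pairE8 (Cfsg.Lie.chevE8.simple (k / 240)) (k % 240)) (k % 240))) = true := by decide +kernel
theorem e8Dx_7_1256 : allRange 1256 1260 ((fun k => cdE8.checkDX (cdE8.expo pairE8 (Cfsg.Lie.chevE8.simple (k / 240))) (pairE8 (Cfsg.Lie.chevE8.simple (k / 240)) (k % 240)) (k % 240))) = true := by decide +kernel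
theorem e8Dx_7_1260 : allRange 1260 1264 ((fun k => cdE8.checkDX (cdE8.expo pairE8 (Cfsg.Lie.chevE8.simple (k / 240))) (pairE8 (Cfsg.Lie.chevE8.simple (k / 240)) (k % 240)) (k % 240))) = true := by decide +kernel
theorem e8Dx_7_1264 : allRange 1264 1268 ((fun k => cdE8.checkDX (cdE8.expo pairE8 (Cfsg.Lie.chevE8.simple (k / 240))) (pairE8 (Cfsg.Lie.chevE8.simple (k / 240)) (k % 240)) (k % 240))) = true := by decide +kernel
theorem e8Dx_7_1268 : allRange 1268 1272 ((fun k => cdE8.checkDX (cdE8.expo pairE8 (Cfsg.Lie.chevE8.simple (k / 240))) (pairE8 (Cfsg.Lie.chevE8.simple (k / 240)) (k % 240)) (k % 240))) = true := by decide +kernel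
theorem e8Dx_7_1272 : allRange 1272 1276 ((fun k => cdE8.checkDX (cdE8.expo pairE8 (Cfsg.Lie.chevE8.simple (k / 240))) (pairE8 (Cfsg.Lie.chevE8.simple (k / 240)) (k % 240)) (k % 240))) = true := by decide +kernel
theorem e8Dx_7_1276 : allRange 1276 1280 ((fun k => cdE8.checkDX (cdE8.expo pairE8 (Cfsg.Lie.chevE8.simple (k / 240))) (pairE8 (Cfsg.Lie.chevE8.simple (k / 240)) (k % 240)) (k % 240))) = true := by decide +kernel
theorem e8Dx_7_1280 : allRange 1280 1284 ((fun k => cdE8.checkDX (cdE8.expo pairE8 (Cfsg.Lie.chevE8.simple (k / 240))) (pairE8 (Cfsg.Lie.chevE8.simple (k / 240)) (k % 240)) (k % 240))) = true := by decide +kernel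
theorem e8Dx_7_1284 : allRange 1284 1288 ((fun k => cdE8.checkDX (cdE8.expo pairE8 (Cfsg.Lie.chevE8.simple (k / 240))) (pairE8 (Cfsg.Lie.chevE8.simple (k / 240)) (k % 240)) (k % 240))) = true := by decide +kernel
theorem e8Dx_7_1288 : allRange 1288 1292 ((fun k => cdE8.checkDX (cdE8.expo pairE8 (Cfsg.Lie.chevE8.simple (k / 240))) (pairE8 (Cfsg.Lie.chevE8.simple (k / 240)) (k % 240)) (k % 240))) = true := by decide +kernel
theorem e8Dx_7_1292 : allRange 1292 1296 ((fun k => cdE8.checkDX (cdE8.expo pairE8 (Cfsg.Lie.chevE8.simple (k / 240))) (pairE8 (Cfsg.Lie.chevE8.simple (k / 240)) (k % 240)) (k % 240))) = true := by decide +kernel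
theorem e8Dx_7_1296 : allRange 1296 1300 ((fun k => cdE8.checkDX (cdE8.expo pairE8 (Cfsg.Lie.chevE8.simple (k / 240))) (pairE8 (Cfsg.Lie.chevE8.simple (k / 240)) (k % 240)) (k % 240))) = true := by decide +kernel
theorem e8Dx_7_1300 : allRange 1300 1304 ((fun k => cdE8.checkDX (cdE8.expo pairE8 (Cfsg.Lie.chevE8.simple (k / 240))) (pairE8 (Cfsg.Lie.chevE8.simple (k / 240)) (k % 240)) (k % 240))) = true := by decide +kernel
theorem e8Dx_7_1304 : allRange 1304 1308 ((fun k => cdE8.checkDX (cdE8.expo pairE8 (Cfsg.Lie.chevE8.simple (k / 240))) (pairE8 (Cfsg.Lie.chevE8.simple (k / 240)) (k % 240)) (k % 240))) = true := by decide +kernel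
theorem e8Dx_7_1308 : allRange 1308 1312 ((fun k => cdE8.checkDX (cdE8.expo pairE8 (Cfsg.Lie.chevE8.simple (k / 240))) (pairE8 (Cfsg.Lie.chevE8.simple (k / 240)) (k % 240)) (k % 240))) = true := by decide +kernel
theorem e8Dx_7_1312 : allRange 1312 1316 ((fun k => cdE8.checkDX (cdE8.expo pairE8 (Cfsg.Lie.chevE8.simple (k / 240))) (pairE8 (Cfsg.Lie.chevE8.simple (k / 240)) (k % 240)) (k % 240))) = true := by decide +kernel
theorem e8Dx_7_1316 : allRange 1316 1320 ((fun k => cdE8.checkDX (cdE8.expo pairE8 (Cfsg.Lie.chevE8.simple (k / 240))) (pairE8 (Cfsg.Lie.chevE8.simple (k / 240)) (k % 240)) (k % 240))) = true := by decide +kernel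
theorem e8Dx_7_1320 : allRange 1320 1324 ((fun k => cdE8.checkDX (cdE8.expo pairE8 (Cfsg.Lie.chevE8.simple (k / 240))) (pairE8 (Cfsg.Lie.chevE8.simple (k / 240)) (k % 240)) (k % 240))) = true := by decide +kernel
theorem e8Dx_7_1324 : allRange 1324 1328 ((fun k => cdE8.checkDX (cdE8.expo pairE8 (Cfsg.Lie.chevE8.simple (k / 240))) (pairE8 (Cfsg.Lie.chevE8.simple (k / 240)) (k % 240)) (k % 240))) = true := by decide +kernel
theorem e8Dx_7_1328 : allRange 1328 1332 ((fun k => cdE8.checkDX (cdE8.expo pairE8 (Cfsg.Lie.chevE8.simple (k / 240))) (pairE8 (Cfsg.Lie.chevE8.simple (k / 240)) (k % 240)) (k % 240))) = true := by decide +kernel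
theorem e8Dx_7_1332 : allRange 1332 1336 ((fun k => cdE8.checkDX (cdE8.expo pairE8 (Cfsg.Lie.chevE8.simple (k / 240))) (pairE8 (Cfsg.Lie.chevE8.simple (k / 240)) (k % 240)) (k % 240))) = true := by decide +kernel
theorem e8Dx_7_1336 : allRange 1336 1340 ((fun k => cdE8.checkDX (cdE8.expo pairE8 (Cfsg.Lie.chevE8.simple (k / 240))) (pairE8 (Cfsg.Lie.chevE8.simple (k / 240)) (k % 240)) (k % 240))) = true := by decide +kernel
theorem e8Dx_7_1340 : allRange 1340 1344 ((fun k => cdE8.checkDX (cdE8.expo pairE8 (Cfsg.Lie.chevE8.simple (k / 240))) (pairE8 (Cfsg.Lie.chevE8.simple (k / 240)) (k % 240)) (k % 240))) = true := by decide +kernel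
theorem e8Dx_7_1344 : allRange 1344 1348 ((fun k => cdE8.checkDX (cdE8.expo pairE8 (Cfsg.Lie.chevE8.simple (k / 240))) (pairE8 (Cfsg.Lie.chevE8.simple (k / 240)) (k % 240)) (k % 240))) = true := by decide +kernel
theorem e8Dx_7_1348 : allRange 1348 1352 ((fun k => cdE8.checkDX (cdE8.expo pairE8 (Cfsg.Lie.chevE8.simple (k / 240))) (pairE8 (Cfsg.Lie.chevE8.simple (k / 240)) (k % 240)) (k % 240))) = true := by decide +kernel
theorem e8Dx_7_1352 : allRange 1352 1356 ((fun k => cdE8.checkDX (cdE8.expo pairE8 (Cfsg.Lie.chevE8.simple (k / 240))) (pairE8 (Cfsg.Lie.chevE8.simple (k / 240)) (k % 240)) (k % 240))) = true := by decide +kernel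
theorem e8Dx_7_1356 : allRange 1356 1360 ((fun k => cdE8.checkDX (cdE8.expo pairE8 (Cfsg.Lie.chevE8.simple (k / 240))) (pairE8 (Cfsg.Lie.chevE8.simple (k / 240)) (k % 240)) (k % 240))) = true := by decide +kernel
theorem e8Dx_7_1360 : allRange 1360 1364 ((fun k => cdE8.checkDX (cdE8.expo pairE8 (Cfsg.Lie.chevE8.simple (k / 240))) (pairE8 (Cfsg.Lie.chevE8.simple (k / 240)) (k % 240)) (k % 240))) = true := by decide +kernel
theorem e8Dx_7_1364 : allRange 1364 1368 ((fun k => cdE8.checkDX (cdE8.expo pairE8 (Cfsg.Lie.chevE8.simple (k / 240))) (pairE8 (Cfsg.Lie.chevE8.simple (k / 240)) (k % 240)) (k % 240))) = true := by decide +kernel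
theorem e8Dx_7_1368 : allRange 1368 1372 ((fun k => cdE8.checkDX (cdE8.expo pairE8 (Cfsg.Lie.chevE8.simple (k / 240))) (pairE8 (Cfsg.Lie.chevE8.simple (k / 240)) (k % 240)) (k % 240))) = true := by decide +kernel
theorem e8Dx_7_1372 : allRange 1372 1376 ((fun k => cdE8.checkDX (cdE8.expo pairE8 (Cfsg.Lie.chevE8.simple (k / 240))) (pairE8 (Cfsg.Lie.chevE8.simple (k / 240)) (k % 240)) (k % 240))) = true := by decide +kernel

/-- Conjugation of root elements by the `h_p(c)` of type E8 (roots 1204 to 1375). -/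
theorem e8Dx_7 : ∀ r, 1204 ≤ r → r < 1376 → ((fun k => cdE8.checkDX (cdE8.expo pairE8 (Cfsg.Lie.chevE8.simple (k / 240))) (pairE8 (Cfsg.Lie.chevE8.simple (k / 240)) (k % 240)) (k % 240))) r = true := by
  intro r h1 h2
  by_cases c0 : r < 1208
  · exact allRange_spec e8Dx_7_1204 r (by omega) c0
  by_cases c1 : r < 1212
  · exact allRange_spec e8Dx_7_1208 r (by omega) c1
  by_cases c2 : r < 1216
  · exact allRange_spec e8Dx_7_1212 r (by omega) c2
  by_cases c3 : r < 1220
  · exact allRange_spec e8Dx_7_1216 r (by omega) c3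
  by_cases c4 : r < 1224
  · exact allRange_spec e8Dx_7_1220 r (by omega) c4
  by_cases c5 : r < 1228
  · exact allRange_spec e8Dx_7_1224 r (by omega) c5
  by_cases c6 : r < 1232
  · exact allRange_spec e8Dx_7_1228 r (by omega) c6
  by_cases c7 : r < 1236
  · exact allRange_spec e8Dx_7_1232 r (by omega) c7
  by_cases c8 : r < 1240
  · exact allRange_spec e8Dx_7_1236 r (by omega) c8
  by_cases c9 : r < 1244
  · exact allRange_spec e8Dx_7_1240 r (by omega) c9
  by_cases c10 : r < 1248
  · exact allRange_spec e8Dx_7_1244 r (by omega) c10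
  by_cases c11 : r < 1252
  · exact allRange_spec e8Dx_7_1248 r (by omega) c11
  by_cases c12 : r < 1256
  · exact allRange_spec e8Dx_7_1252 r (by omega) c12
  by_cases c13 : r < 1260
  · exact allRange_spec e8Dx_7_1256 r (by omega) c13
  by_cases c14 : r < 1264
  · exact allRange_spec e8Dx_7_1260 r (by omega) c14
  by_cases c15 : r < 1268
  · exact allRange_spec e8Dx_7_1264 r (by omega) c15
  by_cases c16 : r < 1272
  · exact allRange_spec e8Dx_7_1268 r (by omega) c16
  by_cases c17 : r < 1276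
  · exact allRange_spec e8Dx_7_1272 r (by omega) c17
  by_cases c18 : r < 1280
  · exact allRange_spec e8Dx_7_1276 r (by omega) c18
  by_cases c19 : r < 1284
  · exact allRange_spec e8Dx_7_1280 r (by omega) c19
  by_cases c20 : r < 1288
  · exact allRange_spec e8Dx_7_1284 r (by omega) c20
  by_cases c21 : r < 1292
  · exact allRange_spec e8Dx_7_1288 r (by omega) c21
  by_cases c22 : r < 1296
  · exact allRange_spec e8Dx_7_1292 r (by omega) c22
  by_cases c23 : r < 1300
  · exact allRange_spec e8Dx_7_1296 r (by omega) c23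
  by_cases c24 : r < 1304
  · exact allRange_spec e8Dx_7_1300 r (by omega) c24
  by_cases c25 : r < 1308
  · exact allRange_spec e8Dx_7_1304 r (by omega) c25
  by_cases c26 : r < 1312
  · exact allRange_spec e8Dx_7_1308 r (by omega) c26
  by_cases c27 : r < 1316
  · exact allRange_spec e8Dx_7_1312 r (by omega) c27
  by_cases c28 : r < 1320
  · exact allRange_spec e8Dx_7_1316 r (by omega) c28
  by_cases c29 : r < 1324
  · exact allRange_spec e8Dx_7_1320 r (by omega) c29
  by_cases c30 : r < 1328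
  · exact allRange_spec e8Dx_7_1324 r (by omega) c30
  by_cases c31 : r < 1332
  · exact allRange_spec e8Dx_7_1328 r (by omega) c31
  by_cases c32 : r < 1336
  · exact allRange_spec e8Dx_7_1332 r (by omega) c32
  by_cases c33 : r < 1340
  · exact allRange_spec e8Dx_7_1336 r (by omega) c33
  by_cases c34 : r < 1344
  · exact allRange_spec e8Dx_7_1340 r (by omega) c34
  by_cases c35 : r < 1348
  · exact allRange_spec e8Dx_7_1344 r (by omega) c35
  by_cases c36 : r < 1352
  · exact allRange_spec e8Dx_7_1348 r (by omega) c36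
  by_cases c37 : r < 1356
  · exact allRange_spec e8Dx_7_1352 r (by omega) c37
  by_cases c38 : r < 1360
  · exact allRange_spec e8Dx_7_1356 r (by omega) c38
  by_cases c39 : r < 1364
  · exact allRange_spec e8Dx_7_1360 r (by omega) c39
  by_cases c40 : r < 1368
  · exact allRange_spec e8Dx_7_1364 r (by omega) c40
  by_cases c41 : r < 1372
  · exact allRange_spec e8Dx_7_1368 r (by omega) c41
  exact allRange_spec e8Dx_7_1372 r (by omega) h2

end Cfsg.Agent.Lib.Helper3.ChevM
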