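import Cfsg.Agent.Lib.Helper3.ChevData.E8Datum
import Cfsg.Agent.Lib.Helper3.ChevData.E8Tabs
import Cfsg.Agent.Lib.Helper3.ChevM7
set_option autoImplicit false
set_option maxRecDepth 1000000
set_option Elab.async false

namespace Cfsg.Agent.Lib.Helper3.ChevM

theorem e8Dx_8_1376 : allRange 1376 1380 ((fun k => cdE8.checkDX (cdE8.expo pairE8 (Cfsg.Lie.chevE8.simple (k / 240))) (pairE8 (Cfsg.Lie.chevE8.simple (k / 240)) (k % 240)) (k % 240))) = true := by decide +kernel
theorem e8Dx_8_1380 : allRange 1380 1384 ((fun k => cdE8.checkDX (cdE8.expo pairE8 (Cfsg.Lie.chevE8.simple (k / 240))) (pairE8 (Cfsg.Lie.chevE8.simple (k / 240)) (k % 240)) (k % 240))) = true := by decide +kernel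
theorem e8Dx_8_1384 : allRange 1384 1388 ((fun k => cdE8.checkDX (cdE8.expo pairE8 (Cfsg.Lie.chevE8.simple (k / 240))) (pairE8 (Cfsg.Lie.chevE8.simple (k / 240)) (k % 240)) (k % 240))) = true := by decide +kernel
theorem e8Dx_8_1388 : allRange 1388 1392 ((fun k => cdE8.checkDX (cdE8.expo pairE8 (Cfsg.Lie.chevE8.simple (k / 240))) (pairE8 (Cfsg.Lie.chevE8.simple (k / 240)) (k % 240)) (k % 240))) = true := by decide +kernel
theorem e8Dx_8_1392 : allRange 1392 1396 ((fun k => cdE8.checkDX (cdE8.expo pairE8 (Cfsg.Lie.chevE8.simple (k / 240))) (pairE8 (Cfsg.Lie.chevE8.simple (k / 240)) (k % 240)) (k % 240))) = true := by decide +kernel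
theorem e8Dx_8_1396 : allRange 1396 1400 ((fun k => cdE8.checkDX (cdE8.expo pairE8 (Cfsg.Lie.chevE8.simple (k / 240))) (pairE8 (Cfsg.Lie.chevE8.simple (k / 240)) (k % 240)) (k % 240))) = true := by decide +kernel
theorem e8Dx_8_1400 : allRange 1400 1404 ((fun k => cdE8.checkDX (cdE8.expo pairE8 (Cfsg.Lie.chevE8.simple (k / 240))) (pairE8 (Cfsg.Lie.chevE8.simple (k / 240)) (k % 240)) (k % 240))) = true := by decide +kernel
theorem e8Dx_8_1404 : allRange 1404 1408 ((fun k => cdE8.checkDX (cdE8.expo pairE8 (Cfsg.Lie.chevE8.simple (k / 240))) (pairE8 (Cfsg.Lie.chevE8.simple (k / 240)) (k % 240)) (k % 240))) = true := by decide +kernel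
theorem e8Dx_8_1408 : allRange 1408 1412 ((fun k => cdE8.checkDX (cdE8.expo pairE8 (Cfsg.Lie.chevE8.simple (k / 240))) (pairE8 (Cfsg.Lie.chevE8.simple (k / 240)) (k % 240)) (k % 240))) = true := by decide +kernel
theorem e8Dx_8_1412 : allRange 1412 1416 ((fun k => cdE8.checkDX (cdE8.expo pairE8 (Cfsg.Lie.chevE8.simple (k / 240))) (pairE8 (Cfsg.Lie.chevE8.simple (k / 240)) (k % 240)) (k % 240))) = true := by decide +kernel
theorem e8Dx_8_1416 : allRange 1416 1420 ((fun k => cdE8.checkDX (cdE8.expo pairE8 (Cfsg.Lie.chevE8.simple (k / 240))) (pairE8 (Cfsg.Lie.chevE8.simple (k / 240)) (k % 240)) (k % 240))) = true := by decide +kernel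
theorem e8Dx_8_1420 : allRange 1420 1424 ((fun k => cdE8.checkDX (cdE8.expo pairE8 (Cfsg.Lie.chevE8.simple (k / 240))) (pairE8 (Cfsg.Lie.chevE8.simple (k / 240)) (k % 240)) (k % 240))) = true := by decide +kernel
theorem e8Dx_8_1424 : allRange 1424 1428 ((fun k => cdE8.checkDX (cdE8.expo pairE8 (Cfsg.Lie.chevE8.simple (k / 240))) (pairE8 (Cfsg.Lie.chevE8.simple (k / 240)) (k % 240)) (k % 240))) = true := by decide +kernel
theorem e8Dx_8_1428 : allRange 1428 1432 ((fun k => cdE8.checkDX (cdE8.expo pairE8 (Cfsg.Lie.chevE8.simple (k / 240))) (pairE8 (Cfsg.Lie.chevE8.simple (k / 240)) (k % 240)) (k % 240))) = true := by decide +kernel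
theorem e8Dx_8_1432 : allRange 1432 1436 ((fun k => cdE8.checkDX (cdE8.expo pairE8 (Cfsg.Lie.chevE8.simple (k / 240))) (pairE8 (Cfsg.Lie.chevE8.simple (k / 240)) (k % 240)) (k % 240))) = true := by decide +kernel
theorem e8Dx_8_1436 : allRange 1436 1440 ((fun k => cdE8.checkDX (cdE8.expo pairE8 (Cfsg.Lie.chevE8.simple (k / 240))) (pairE8 (Cfsg.Lie.chevE8.simple (k / 240)) (k % 240)) (k % 240))) = true := by decide +kernel
theorem e8Dx_8_1440 : allRange 1440 1444 ((fun k => cdE8.checkDX (cdE8.expo pairE8 (Cfsg.Lie.chevE8.simple (k / 240))) (pairE8 (Cfsg.Lie.chevE8.simple (k / 240)) (k % 240)) (k % 240))) = true := by decide +kernel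
theorem e8Dx_8_1444 : allRange 1444 1448 ((fun k => cdE8.checkDX (cdE8.expo pairE8 (Cfsg.Lie.chevE8.simple (k / 240))) (pairE8 (Cfsg.Lie.chevE8.simple (k / 240)) (k % 240)) (k % 240))) = true := by decide +kernel
theorem e8Dx_8_1448 : allRange 1448 1452 ((fun k => cdE8.checkDX (cdE8.expo pairE8 (Cfsg.Lie.chevE8.simple (k / 240))) (pairE8 (Cfsg.Lie.chevE8.simple (k / 240)) (k % 240)) (k % 240))) = true := by decide +kernel
theorem e8Dx_8_1452 : allRange 1452 1456 ((fun k => cdE8.checkDX (cdE8.expo pairE8 (Cfsg.Lie.chevE8.simple (k / 240))) (pairE8 (Cfsg.Lie.chevE8.simple (k / 240)) (k % 240)) (k % 240))) = true := by decide +kernel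
theorem e8Dx_8_1456 : allRange 1456 1460 ((fun k => cdE8.checkDX (cdE8.expo pairE8 (Cfsg.Lie.chevE8.simple (k / 240))) (pairE8 (Cfsg.Lie.chevE8.simple (k / 240)) (k % 240)) (k % 240))) = true := by decide +kernel
theorem e8Dx_8_1460 : allRange 1460 1464 ((fun k => cdE8.checkDX (cdE8.expo pairE8 (Cfsg.Lie.chevE8.simple (k / 240))) (pairE8 (Cfsg.Lie.chevE8.simple (k / 240)) (k % 240)) (k % 240))) = true := by decide +kernel
theorem e8Dx_8_1464 : allRange 1464 1468 ((fun k => cdE8.checkDX (cdE8.expo pairE8 (Cfsg.Lie.chevE8.simple (k / 240))) (pairE8 (Cfsg.Lie.chevE8.simple (k / 240)) (k % 240)) (k % 240))) = true := by decide +kernel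
theorem e8Dx_8_1468 : allRange 1468 1472 ((fun k => cdE8.checkDX (cdE8.expo pairE8 (Cfsg.Lie.chevE8.simple (k / 240))) (pairE8 (Cfsg.Lie.chevE8.simple (k / 240)) (k % 240)) (k % 240))) = true := by decide +kernel
theorem e8Dx_8_1472 : allRange 1472 1476 ((fun k => cdE8.checkDX (cdE8.expo pairE8 (Cfsg.Lie.chevE8.simple (k / 240))) (pairE8 (Cfsg.Lie.chevE8.simple (k / 240)) (k % 240)) (k % 240))) = true := by decide +kernel
theorem e8Dx_8_1476 : allRange 1476 1480 ((fun k => cdE8.checkDX (cdE8.expo pairE8 (Cfsg.Lie.chevE8.simple (k / 240))) (pairE8 (Cfsg.Lie.chevE8.simple (k / 240)) (k % 240)) (k % 240))) = true := by decide +kernel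
theorem e8Dx_8_1480 : allRange 1480 1484 ((fun k => cdE8.checkDX (cdE8.expo pairE8 (Cfsg.Lie.chevE8.simple (k / 240))) (pairE8 (Cfsg.Lie.chevE8.simple (k / 240)) (k % 240)) (k % 240))) = true := by decide +kernel
theorem e8Dx_8_1484 : allRange 1484 1488 ((fun k => cdE8.checkDX (cdE8.expo pairE8 (Cfsg.Lie.chevE8.simple (k / 240))) (pairE8 (Cfsg.Lie.chevE8.simple (k / 240)) (k % 240)) (k % 240))) = true := by decide +kernel
theorem e8Dx_8_1488 : allRange 1488 1492 ((fun k => cdE8.checkDX (cdE8.expo pairE8 (Cfsg.Lie.chevE8.simple (k / 240))) (pairE8 (Cfsg.Lie.chevE8.simple (k / 240)) (k % 240)) (k % 240))) = true := by decide +kernel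
theorem e8Dx_8_1492 : allRange 1492 1496 ((fun k => cdE8.checkDX (cdE8.expo pairE8 (Cfsg.Lie.chevE8.simple (k / 240))) (pairE8 (Cfsg.Lie.chevE8.simple (k / 240)) (k % 240)) (k % 240))) = true := by decide +kernel
theorem e8Dx_8_1496 : allRange 1496 1500 ((fun k => cdE8.checkDX (cdE8.expo pairE8 (Cfsg.Lie.chevE8.simple (k / 240))) (pairE8 (Cfsg.Lie.chevE8.simple (k / 240)) (k % 240)) (k % 240))) = true := by decide +kernel
theorem e8Dx_8_1500 : allRange 1500 1504 ((fun k => cdE8.checkDX (cdE8.expo pairE8 (Cfsg.Lie.chevE8.simple (k / 240))) (pairE8 (Cfsg.Lie.chevE8.simple (k / 240)) (k % 240)) (k % 240))) = true := by decide +kernel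
theorem e8Dx_8_1504 : allRange 1504 1508 ((fun k => cdE8.checkDX (cdE8.expo pairE8 (Cfsg.Lie.chevE8.simple (k / 240))) (pairE8 (Cfsg.Lie.chevE8.simple (k / 240)) (k % 240)) (k % 240))) = true := by decide +kernel
theorem e8Dx_8_1508 : allRange 1508 1512 ((fun k => cdE8.checkDX (cdE8.expo pairE8 (Cfsg.Lie.chevE8.simple (k / 240))) (pairE8 (Cfsg.Lie.chevE8.simple (k / 240)) (k % 240)) (k % 240))) = true := by decide +kernel
theorem e8Dx_8_1512 : allRange 1512 1516 ((fun k => cdE8.checkDX (cdE8.expo pairE8 (Cfsg.Lie.chevE8.simple (k / 240))) (pairE8 (Cfsg.Lie.chevE8.simple (k / 240)) (k % 240)) (k % 240))) = true := by decide +kernel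
theorem e8Dx_8_1516 : allRange 1516 1520 ((fun k => cdE8.checkDX (cdE8.expo pairE8 (Cfsg.Lie.chevE8.simple (k / 240))) (pairE8 (Cfsg.Lie.chevE8.simple (k / 240)) (k % 240)) (k % 240))) = true := by decide +kernel
theorem e8Dx_8_1520 : allRange 1520 1524 ((fun k => cdE8.checkDX (cdE8.expo pairE8 (Cfsg.Lie.chevE8.simple (k / 240))) (pairE8 (Cfsg.Lie.chevE8.simple (k / 240)) (k % 240)) (k % 240))) = true := by decide +kernel
theorem e8Dx_8_1524 : allRange 1524 1528 ((fun k => cdE8.checkDX (cdE8.expo pairE8 (Cfsg.Lie.chevE8.simple (k / 240))) (pairE8 (Cfsg.Lie.chevE8.simple (k / 240)) (k % 240)) (k % 240))) = true := by decide +kernel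
theorem e8Dx_8_1528 : allRange 1528 1532 ((fun k => cdE8.checkDX (cdE8.expo pairE8 (Cfsg.Lie.chevE8.simple (k / 240))) (pairE8 (Cfsg.Lie.chevE8.simple (k / 240)) (k % 240)) (k % 240))) = true := by decide +kernel
theorem e8Dx_8_1532 : allRange 1532 1536 ((fun k => cdE8.checkDX (cdE8.expo pairE8 (Cfsg.Lie.chevE8.simple (k / 240))) (pairE8 (Cfsg.Lie.chevE8.simple (k / 240)) (k % 240)) (k % 240))) = true := by decide +kernel
theorem e8Dx_8_1536 : allRange 1536 1540 ((fun k => cdE8.checkDX (cdE8.expo pairE8 (Cfsg.Lie.chevE8.simple (k / 240))) (pairE8 (Cfsg.Lie.chevE8.simple (k / 240)) (k % 240)) (k % 240))) = true := by decide +kernel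
theorem e8Dx_8_1540 : allRange 1540 1544 ((fun k => cdE8.checkDX (cdE8.expo pairE8 (Cfsg.Lie.chevE8.simple (k / 240))) (pairE8 (Cfsg.Lie.chevE8.simple (k / 240)) (k % 240)) (k % 240))) = true := by decide +kernel
theorem e8Dx_8_1544 : allRange 1544 1548 ((fun k => cdE8.checkDX (cdE8.expo pairE8 (Cfsg.Lie.chevE8.simple (k / 240))) (pairE8 (Cfsg.Lie.chevE8.simple (k / 240)) (k % 240)) (k % 240))) = true := by decide +kernel

/-- Conjugation of root elements by the `h_p(c)` of type E8 (roots 1376 to 1547). -/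
theorem e8Dx_8 : ∀ r, 1376 ≤ r → r < 1548 → ((fun k => cdE8.checkDX (cdE8.expo pairE8 (Cfsg.Lie.chevE8.simple (k / 240))) (pairE8 (Cfsg.Lie.chevE8.simple (k / 240)) (k % 240)) (k % 240))) r = true := by
  intro r h1 h2
  by_cases c0 : r < 1380
  · exact allRange_spec e8Dx_8_1376 r (by omega) c0
  by_cases c1 : r < 1384
  · exact allRange_spec e8Dx_8_1380 r (by omega) c1
  by_cases c2 : r < 1388
  · exact allRange_spec e8Dx_8_1384 r (by omega) c2
  by_cases c3 : r < 1392
  · exact allRange_spec e8Dx_8_1388 r (by omega) c3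
  by_cases c4 : r < 1396
  · exact allRange_spec e8Dx_8_1392 r (by omega) c4
  by_cases c5 : r < 1400
  · exact allRange_spec e8Dx_8_1396 r (by omega) c5
  by_cases c6 : r < 1404
  · exact allRange_spec e8Dx_8_1400 r (by omega) c6
  by_cases c7 : r < 1408
  · exact allRange_spec e8Dx_8_1404 r (by omega) c7
  by_cases c8 : r < 1412
  · exact allRange_spec e8Dx_8_1408 r (by omega) c8
  by_cases c9 : r < 1416
  · exact allRange_spec e8Dx_8_1412 r (by omega) c9
  by_cases c10 : r < 1420
  · exact allRange_spec e8Dx_8_1416 r (by omega) c10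
  by_cases c11 : r < 1424
  · exact allRange_spec e8Dx_8_1420 r (by omega) c11
  by_cases c12 : r < 1428
  · exact allRange_spec e8Dx_8_1424 r (by omega) c12
  by_cases c13 : r < 1432
  · exact allRange_spec e8Dx_8_1428 r (by omega) c13
  by_cases c14 : r < 1436
  · exact allRange_spec e8Dx_8_1432 r (by omega) c14
  by_cases c15 : r < 1440
  · exact allRange_spec e8Dx_8_1436 r (by omega) c15
  by_cases c16 : r < 1444
  · exact allRange_spec e8Dx_8_1440 r (by omega) c16
  by_cases c17 : r < 1448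
  · exact allRange_spec e8Dx_8_1444 r (by omega) c17
  by_cases c18 : r < 1452
  · exact allRange_spec e8Dx_8_1448 r (by omega) c18
  by_cases c19 : r < 1456
  · exact allRange_spec e8Dx_8_1452 r (by omega) c19
  by_cases c20 : r < 1460
  · exact allRange_spec e8Dx_8_1456 r (by omega) c20
  by_cases c21 : r < 1464
  · exact allRange_spec e8Dx_8_1460 r (by omega) c21
  by_cases c22 : r < 1468
  · exact allRange_spec e8Dx_8_1464 r (by omega) c22
  by_cases c23 : r < 1472
  · exact allRange_spec e8Dx_8_1468 r (by omega) c23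
  by_cases c24 : r < 1476
  · exact allRange_spec e8Dx_8_1472 r (by omega) c24
  by_cases c25 : r < 1480
  · exact allRange_spec e8Dx_8_1476 r (by omega) c25
  by_cases c26 : r < 1484
  · exact allRange_spec e8Dx_8_1480 r (by omega) c26
  by_cases c27 : r < 1488
  · exact allRange_spec e8Dx_8_1484 r (by omega) c27
  by_cases c28 : r < 1492
  · exact allRange_spec e8Dx_8_1488 r (by omega) c28
  by_cases c29 : r < 1496
  · exact allRange_spec e8Dx_8_1492 r (by omega) c29
  by_cases c30 : r < 1500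
  · exact allRange_spec e8Dx_8_1496 r (by omega) c30
  by_cases c31 : r < 1504
  · exact allRange_spec e8Dx_8_1500 r (by omega) c31
  by_cases c32 : r < 1508
  · exact allRange_spec e8Dx_8_1504 r (by omega) c32
  by_cases c33 : r < 1512
  · exact allRange_spec e8Dx_8_1508 r (by omega) c33
  by_cases c34 : r < 1516
  · exact allRange_spec e8Dx_8_1512 r (by omega) c34
  by_cases c35 : r < 1520
  · exact allRange_spec e8Dx_8_1516 r (by omega) c35
  by_cases c36 : r < 1524
  · exact allRange_spec e8Dx_8_1520 r (by omega) c36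
  by_cases c37 : r < 1528
  · exact allRange_spec e8Dx_8_1524 r (by omega) c37
  by_cases c38 : r < 1532
  · exact allRange_spec e8Dx_8_1528 r (by omega) c38
  by_cases c39 : r < 1536
  · exact allRange_spec e8Dx_8_1532 r (by omega) c39
  by_cases c40 : r < 1540
  · exact allRange_spec e8Dx_8_1536 r (by omega) c40
  by_cases c41 : r < 1544
  · exact allRange_spec e8Dx_8_1540 r (by omega) c41
  exact allRange_spec e8Dx_8_1544 r (by omega) h2

end Cfsg.Agent.Lib.Helper3.ChevM
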