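import Cfsg.Agent.Lib.Helper3.ChevData.E8Datum
import Cfsg.Agent.Lib.Helper3.ChevData.E8Tabs
import Cfsg.Agent.Lib.Helper3.ChevM7
set_option autoImplicit false
set_option maxRecDepth 1000000
set_option Elab.async false

namespace Cfsg.Agent.Lib.Helper3.ChevM

theorem e8Dx_9_1548 : allRange 1548 1552 ((fun k => cdE8.checkDX (cdE8.expo pairE8 (Cfsg.Lie.chevE8.simple (k / 240))) (pairE8 (Cfsg.Lie.chevE8.simple (k / 240)) (k % 240)) (k % 240))) = true := by decide +kernel
theorem e8Dx_9_1552 : allRange 1552 1556 ((fun k => cdE8.checkDX (cdE8.expo pairE8 (Cfsg.Lie.chevE8.simple (k / 240))) (pairE8 (Cfsg.Lie.chevE8.simple (k / 240)) (k % 240)) (k % 240))) = true := by decide +kernel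
theorem e8Dx_9_1556 : allRange 1556 1560 ((fun k => cdE8.checkDX (cdE8.expo pairE8 (Cfsg.Lie.chevE8.simple (k / 240))) (pairE8 (Cfsg.Lie.chevE8.simple (k / 240)) (k % 240)) (k % 240))) = true := by decide +kernel
theorem e8Dx_9_1560 : allRange 1560 1564 ((fun k => cdE8.checkDX (cdE8.expo pairE8 (Cfsg.Lie.chevE8.simple (k / 240))) (pairE8 (Cfsg.Lie.chevE8.simple (k / 240)) (k % 240)) (k % 240))) = true := by decide +kernel
theorem e8Dx_9_1564 : allRange 1564 1568 ((fun k => cdE8.checkDX (cdE8.expo pairE8 (Cfsg.Lie.chevE8.simple (k / 240))) (pairE8 (Cfsg.Lie.chevE8.simple (k / 240)) (k % 240)) (k % 240))) = true := by decide +kernel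
theorem e8Dx_9_1568 : allRange 1568 1572 ((fun k => cdE8.checkDX (cdE8.expo pairE8 (Cfsg.Lie.chevE8.simple (k / 240))) (pairE8 (Cfsg.Lie.chevE8.simple (k / 240)) (k % 240)) (k % 240))) = true := by decide +kernel
theorem e8Dx_9_1572 : allRange 1572 1576 ((fun k => cdE8.checkDX (cdE8.expo pairE8 (Cfsg.Lie.chevE8.simple (k / 240))) (pairE8 (Cfsg.Lie.chevE8.simple (k / 240)) (k % 240)) (k % 240))) = true := by decide +kernel
theorem e8Dx_9_1576 : allRange 1576 1580 ((fun k => cdE8.checkDX (cdE8.expo pairE8 (Cfsg.Lie.chevE8.simple (k / 240))) (pairE8 (Cfsg.Lie.chevE8.simple (k / 240)) (k % 240)) (k % 240))) = true := by decide +kernel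
theorem e8Dx_9_1580 : allRange 1580 1584 ((fun k => cdE8.checkDX (cdE8.expo pairE8 (Cfsg.Lie.chevE8.simple (k / 240))) (pairE8 (Cfsg.Lie.chevE8.simple (k / 240)) (k % 240)) (k % 240))) = true := by decide +kernel
theorem e8Dx_9_1584 : allRange 1584 1588 ((fun k => cdE8.checkDX (cdE8.expo pairE8 (Cfsg.Lie.chevE8.simple (k / 240))) (pairE8 (Cfsg.Lie.chevE8.simple (k / 240)) (k % 240)) (k % 240))) = true := by decide +kernel
theorem e8Dx_9_1588 : allRange 1588 1592 ((fun k => cdE8.checkDX (cdE8.expo pairE8 (Cfsg.Lie.chevE8.simple (k / 240))) (pairE8 (Cfsg.Lie.chevE8.simple (k / 240)) (k % 240)) (k % 240))) = true := by decide +kernel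
theorem e8Dx_9_1592 : allRange 1592 1596 ((fun k => cdE8.checkDX (cdE8.expo pairE8 (Cfsg.Lie.chevE8.simple (k / 240))) (pairE8 (Cfsg.Lie.chevE8.simple (k / 240)) (k % 240)) (k % 240))) = true := by decide +kernel
theorem e8Dx_9_1596 : allRange 1596 1600 ((fun k => cdE8.checkDX (cdE8.expo pairE8 (Cfsg.Lie.chevE8.simple (k / 240))) (pairE8 (Cfsg.Lie.chevE8.simple (k / 240)) (k % 240)) (k % 240))) = true := by decide +kernel
theorem e8Dx_9_1600 : allRange 1600 1604 ((fun k => cdE8.checkDX (cdE8.expo pairE8 (Cfsg.Lie.chevE8.simple (k / 240))) (pairE8 (Cfsg.Lie.chevE8.simple (k / 240)) (k % 240)) (k % 240))) = true := by decide +kernel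
theorem e8Dx_9_1604 : allRange 1604 1608 ((fun k => cdE8.checkDX (cdE8.expo pairE8 (Cfsg.Lie.chevE8.simple (k / 240))) (pairE8 (Cfsg.Lie.chevE8.simple (k / 240)) (k % 240)) (k % 240))) = true := by decide +kernel
theorem e8Dx_9_1608 : allRange 1608 1612 ((fun k => cdE8.checkDX (cdE8.expo pairE8 (Cfsg.Lie.chevE8.simple (k / 240))) (pairE8 (Cfsg.Lie.chevE8.simple (k / 240)) (k % 240)) (k % 240))) = true := by decide +kernel
theorem e8Dx_9_1612 : allRange 1612 1616 ((fun k => cdE8.checkDX (cdE8.expo pairE8 (Cfsg.Lie.chevE8.simple (k / 240))) (pairE8 (Cfsg.Lie.chevE8.simple (k / 240)) (k % 240)) (k % 240))) = true := by decide +kernel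
theorem e8Dx_9_1616 : allRange 1616 1620 ((fun k => cdE8.checkDX (cdE8.expo pairE8 (Cfsg.Lie.chevE8.simple (k / 240))) (pairE8 (Cfsg.Lie.chevE8.simple (k / 240)) (k % 240)) (k % 240))) = true := by decide +kernel
theorem e8Dx_9_1620 : allRange 1620 1624 ((fun k => cdE8.checkDX (cdE8.expo pairE8 (Cfsg.Lie.chevE8.simple (k / 240))) (pairE8 (Cfsg.Lie.chevE8.simple (k / 240)) (k % 240)) (k % 240))) = true := by decide +kernel
theorem e8Dx_9_1624 : allRange 1624 1628 ((fun k => cdE8.checkDX (cdE8.expo pairE8 (Cfsg.Lie.chevE8.simple (k / 240))) (pairE8 (Cfsg.Lie.chevE8.simple (k / 240)) (k % 240)) (k % 240))) = true := by decide +kernel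
theorem e8Dx_9_1628 : allRange 1628 1632 ((fun k => cdE8.checkDX (cdE8.expo pairE8 (Cfsg.Lie.chevE8.simple (k / 240))) (pairE8 (Cfsg.Lie.chevE8.simple (k / 240)) (k % 240)) (k % 240))) = true := by decide +kernel
theorem e8Dx_9_1632 : allRange 1632 1636 ((fun k => cdE8.checkDX (cdE8.expo pairE8 (Cfsg.Lie.chevE8.simple (k / 240))) (pairE8 (Cfsg.Lie.chevE8.simple (k / 240)) (k % 240)) (k % 240))) = true := by decide +kernel
theorem e8Dx_9_1636 : allRange 1636 1640 ((fun k => cdE8.checkDX (cdE8.expo pairE8 (Cfsg.Lie.chevE8.simple (k / 240))) (pairE8 (Cfsg.Lie.chevE8.simple (k / 240)) (k % 240)) (k % 240))) = true := by decide +kernel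
theorem e8Dx_9_1640 : allRange 1640 1644 ((fun k => cdE8.checkDX (cdE8.expo pairE8 (Cfsg.Lie.chevE8.simple (k / 240))) (pairE8 (Cfsg.Lie.chevE8.simple (k / 240)) (k % 240)) (k % 240))) = true := by decide +kernel
theorem e8Dx_9_1644 : allRange 1644 1648 ((fun k => cdE8.checkDX (cdE8.expo pairE8 (Cfsg.Lie.chevE8.simple (k / 240))) (pairE8 (Cfsg.Lie.chevE8.simple (k / 240)) (k % 240)) (k % 240))) = true := by decide +kernel
theorem e8Dx_9_1648 : allRange 1648 1652 ((fun k => cdE8.checkDX (cdE8.expo pairE8 (Cfsg.Lie.chevE8.simple (k / 240))) (pairE8 (Cfsg.Lie.chevE8.simple (k / 240)) (k % 240)) (k % 240))) = true := by decide +kernel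
theorem e8Dx_9_1652 : allRange 1652 1656 ((fun k => cdE8.checkDX (cdE8.expo pairE8 (Cfsg.Lie.chevE8.simple (k / 240))) (pairE8 (Cfsg.Lie.chevE8.simple (k / 240)) (k % 240)) (k % 240))) = true := by decide +kernel
theorem e8Dx_9_1656 : allRange 1656 1660 ((fun k => cdE8.checkDX (cdE8.expo pairE8 (Cfsg.Lie.chevE8.simple (k / 240))) (pairE8 (Cfsg.Lie.chevE8.simple (k / 240)) (k % 240)) (k % 240))) = true := by decide +kernel
theorem e8Dx_9_1660 : allRange 1660 1664 ((fun k => cdE8.checkDX (cdE8.expo pairE8 (Cfsg.Lie.chevE8.simple (k / 240))) (pairE8 (Cfsg.Lie.chevE8.simple (k / 240)) (k % 240)) (k % 240))) = true := by decide +kernel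
theorem e8Dx_9_1664 : allRange 1664 1668 ((fun k => cdE8.checkDX (cdE8.expo pairE8 (Cfsg.Lie.chevE8.simple (k / 240))) (pairE8 (Cfsg.Lie.chevE8.simple (k / 240)) (k % 240)) (k % 240))) = true := by decide +kernel
theorem e8Dx_9_1668 : allRange 1668 1672 ((fun k => cdE8.checkDX (cdE8.expo pairE8 (Cfsg.Lie.chevE8.simple (k / 240))) (pairE8 (Cfsg.Lie.chevE8.simple (k / 240)) (k % 240)) (k % 240))) = true := by decide +kernel
theorem e8Dx_9_1672 : allRange 1672 1676 ((fun k => cdE8.checkDX (cdE8.expo pairE8 (Cfsg.Lie.chevE8.simple (k / 240))) (pairE8 (Cfsg.Lie.chevE8.simple (k / 240)) (k % 240)) (k % 240))) = true := by decide +kernel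
theorem e8Dx_9_1676 : allRange 1676 1680 ((fun k => cdE8.checkDX (cdE8.expo pairE8 (Cfsg.Lie.chevE8.simple (k / 240))) (pairE8 (Cfsg.Lie.chevE8.simple (k / 240)) (k % 240)) (k % 240))) = true := by decide +kernel
theorem e8Dx_9_1680 : allRange 1680 1684 ((fun k => cdE8.checkDX (cdE8.expo pairE8 (Cfsg.Lie.chevE8.simple (k / 240))) (pairE8 (Cfsg.Lie.chevE8.simple (k / 240)) (k % 240)) (k % 240))) = true := by decide +kernel
theorem e8Dx_9_1684 : allRange 1684 1688 ((fun k => cdE8.checkDX (cdE8.expo pairE8 (Cfsg.Lie.chevE8.simple (k / 240))) (pairE8 (Cfsg.Lie.chevE8.simple (k / 240)) (k % 240)) (k % 240))) = true := by decide +kernel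
theorem e8Dx_9_1688 : allRange 1688 1692 ((fun k => cdE8.checkDX (cdE8.expo pairE8 (Cfsg.Lie.chevE8.simple (k / 240))) (pairE8 (Cfsg.Lie.chevE8.simple (k / 240)) (k % 240)) (k % 240))) = true := by decide +kernel
theorem e8Dx_9_1692 : allRange 1692 1696 ((fun k => cdE8.checkDX (cdE8.expo pairE8 (Cfsg.Lie.chevE8.simple (k / 240))) (pairE8 (Cfsg.Lie.chevE8.simple (k / 240)) (k % 240)) (k % 240))) = true := by decide +kernel
theorem e8Dx_9_1696 : allRange 1696 1700 ((fun k => cdE8.checkDX (cdE8.expo pairE8 (Cfsg.Lie.chevE8.simple (k / 240))) (pairE8 (Cfsg.Lie.chevE8.simple (k / 240)) (k % 240)) (k % 240))) = true := by decide +kernel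
theorem e8Dx_9_1700 : allRange 1700 1704 ((fun k => cdE8.checkDX (cdE8.expo pairE8 (Cfsg.Lie.chevE8.simple (k / 240))) (pairE8 (Cfsg.Lie.chevE8.simple (k / 240)) (k % 240)) (k % 240))) = true := by decide +kernel
theorem e8Dx_9_1704 : allRange 1704 1708 ((fun k => cdE8.checkDX (cdE8.expo pairE8 (Cfsg.Lie.chevE8.simple (k / 240))) (pairE8 (Cfsg.Lie.chevE8.simple (k / 240)) (k % 240)) (k % 240))) = true := by decide +kernel
theorem e8Dx_9_1708 : allRange 1708 1712 ((fun k => cdE8.checkDX (cdE8.expo pairE8 (Cfsg.Lie.chevE8.simple (k / 240))) (pairE8 (Cfsg.Lie.chevE8.simple (k / 240)) (k % 240)) (k % 240))) = true := by decide +kernel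
theorem e8Dx_9_1712 : allRange 1712 1716 ((fun k => cdE8.checkDX (cdE8.expo pairE8 (Cfsg.Lie.chevE8.simple (k / 240))) (pairE8 (Cfsg.Lie.chevE8.simple (k / 240)) (k % 240)) (k % 240))) = true := by decide +kernel
theorem e8Dx_9_1716 : allRange 1716 1720 ((fun k => cdE8.checkDX (cdE8.expo pairE8 (Cfsg.Lie.chevE8.simple (k / 240))) (pairE8 (Cfsg.Lie.chevE8.simple (k / 240)) (k % 240)) (k % 240))) = true := by decide +kernel

/-- Conjugation of root elements by the `h_p(c)` of type E8 (roots 1548 to 1719). -/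
theorem e8Dx_9 : ∀ r, 1548 ≤ r → r < 1720 → ((fun k => cdE8.checkDX (cdE8.expo pairE8 (Cfsg.Lie.chevE8.simple (k / 240))) (pairE8 (Cfsg.Lie.chevE8.simple (k / 240)) (k % 240)) (k % 240))) r = true := by
  intro r h1 h2
  by_cases c0 : r < 1552
  · exact allRange_spec e8Dx_9_1548 r (by omega) c0
  by_cases c1 : r < 1556
  · exact allRange_spec e8Dx_9_1552 r (by omega) c1
  by_cases c2 : r < 1560
  · exact allRange_spec e8Dx_9_1556 r (by omega) c2
  by_cases c3 : r < 1564
  · exact allRange_spec e8Dx_9_1560 r (by omega) c3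
  by_cases c4 : r < 1568
  · exact allRange_spec e8Dx_9_1564 r (by omega) c4
  by_cases c5 : r < 1572
  · exact allRange_spec e8Dx_9_1568 r (by omega) c5
  by_cases c6 : r < 1576
  · exact allRange_spec e8Dx_9_1572 r (by omega) c6
  by_cases c7 : r < 1580
  · exact allRange_spec e8Dx_9_1576 r (by omega) c7
  by_cases c8 : r < 1584
  · exact allRange_spec e8Dx_9_1580 r (by omega) c8
  by_cases c9 : r < 1588
  · exact allRange_spec e8Dx_9_1584 r (by omega) c9
  by_cases c10 : r < 1592
  · exact allRange_spec e8Dx_9_1588 r (by omega) c10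
  by_cases c11 : r < 1596
  · exact allRange_spec e8Dx_9_1592 r (by omega) c11
  by_cases c12 : r < 1600
  · exact allRange_spec e8Dx_9_1596 r (by omega) c12
  by_cases c13 : r < 1604
  · exact allRange_spec e8Dx_9_1600 r (by omega) c13
  by_cases c14 : r < 1608
  · exact allRange_spec e8Dx_9_1604 r (by omega) c14
  by_cases c15 : r < 1612
  · exact allRange_spec e8Dx_9_1608 r (by omega) c15
  by_cases c16 : r < 1616
  · exact allRange_spec e8Dx_9_1612 r (by omega) c16
  by_cases c17 : r < 1620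
  · exact allRange_spec e8Dx_9_1616 r (by omega) c17
  by_cases c18 : r < 1624
  · exact allRange_spec e8Dx_9_1620 r (by omega) c18
  by_cases c19 : r < 1628
  · exact allRange_spec e8Dx_9_1624 r (by omega) c19
  by_cases c20 : r < 1632
  · exact allRange_spec e8Dx_9_1628 r (by omega) c20
  by_cases c21 : r < 1636
  · exact allRange_spec e8Dx_9_1632 r (by omega) c21
  by_cases c22 : r < 1640
  · exact allRange_spec e8Dx_9_1636 r (by omega) c22
  by_cases c23 : r < 1644
  · exact allRange_spec e8Dx_9_1640 r (by omega) c23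
  by_cases c24 : r < 1648
  · exact allRange_spec e8Dx_9_1644 r (by omega) c24
  by_cases c25 : r < 1652
  · exact allRange_spec e8Dx_9_1648 r (by omega) c25
  by_cases c26 : r < 1656
  · exact allRange_spec e8Dx_9_1652 r (by omega) c26
  by_cases c27 : r < 1660
  · exact allRange_spec e8Dx_9_1656 r (by omega) c27
  by_cases c28 : r < 1664
  · exact allRange_spec e8Dx_9_1660 r (by omega) c28
  by_cases c29 : r < 1668
  · exact allRange_spec e8Dx_9_1664 r (by omega) c29
  by_cases c30 : r < 1672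
  · exact allRange_spec e8Dx_9_1668 r (by omega) c30
  by_cases c31 : r < 1676
  · exact allRange_spec e8Dx_9_1672 r (by omega) c31
  by_cases c32 : r < 1680
  · exact allRange_spec e8Dx_9_1676 r (by omega) c32
  by_cases c33 : r < 1684
  · exact allRange_spec e8Dx_9_1680 r (by omega) c33
  by_cases c34 : r < 1688
  · exact allRange_spec e8Dx_9_1684 r (by omega) c34
  by_cases c35 : r < 1692
  · exact allRange_spec e8Dx_9_1688 r (by omega) c35
  by_cases c36 : r < 1696
  · exact allRange_spec e8Dx_9_1692 r (by omega) c36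
  by_cases c37 : r < 1700
  · exact allRange_spec e8Dx_9_1696 r (by omega) c37
  by_cases c38 : r < 1704
  · exact allRange_spec e8Dx_9_1700 r (by omega) c38
  by_cases c39 : r < 1708
  · exact allRange_spec e8Dx_9_1704 r (by omega) c39
  by_cases c40 : r < 1712
  · exact allRange_spec e8Dx_9_1708 r (by omega) c40
  by_cases c41 : r < 1716
  · exact allRange_spec e8Dx_9_1712 r (by omega) c41
  exact allRange_spec e8Dx_9_1716 r (by omega) h2

end Cfsg.Agent.Lib.Helper3.ChevM
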