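import Cfsg.Agent.Lib.Helper3.ChevData.E8DxA
import Cfsg.Agent.Lib.Helper3.ChevData.E8DxB
import Cfsg.Agent.Lib.Helper3.ChevData.E8DxC
import Cfsg.Agent.Lib.Helper3.ChevData.E8DxD
import Cfsg.Agent.Lib.Helper3.ChevData.E8DxE
import Cfsg.Agent.Lib.Helper3.ChevData.E8DxF
import Cfsg.Agent.Lib.Helper3.ChevData.E8DxG
import Cfsg.Agent.Lib.Helper3.ChevData.E8DxH
import Cfsg.Agent.Lib.Helper3.ChevData.E8DxI
import Cfsg.Agent.Lib.Helper3.ChevData.E8DxJ
import Cfsg.Agent.Lib.Helper3.ChevData.E8DxK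
import Cfsg.Agent.Lib.Helper3.ChevData.E8DxL
set_option autoImplicit false

namespace Cfsg.Agent.Lib.Helper3.ChevM

/-- Conjugation of root elements by the `h_p(c)` of type E8. -/
theorem e8Dx : ∀ r < 1920, ((fun k => cdE8.checkDX (cdE8.expo pairE8 (Cfsg.Lie.chevE8.simple (k / 240))) (pairE8 (Cfsg.Lie.chevE8.simple (k / 240)) (k % 240)) (k % 240))) r = true := by
  intro r hr
  by_cases h0 : r < 172
  · exact e8Dx_0 r (by omega) h0
  by_cases h1 : r < 344
  · exact e8Dx_1 r (by omega) h1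
  by_cases h2 : r < 516
  · exact e8Dx_2 r (by omega) h2
  by_cases h3 : r < 688
  · exact e8Dx_3 r (by omega) h3
  by_cases h4 : r < 860
  · exact e8Dx_4 r (by omega) h4
  by_cases h5 : r < 1032
  · exact e8Dx_5 r (by omega) h5
  by_cases h6 : r < 1204
  · exact e8Dx_6 r (by omega) h6
  by_cases h7 : r < 1376
  · exact e8Dx_7 r (by omega) h7
  by_cases h8 : r < 1548
  · exact e8Dx_8 r (by omega) h8
  by_cases h9 : r < 1720
  · exact e8Dx_9 r (by omega) h9
  by_cases h10 : r < 1892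
  · exact e8Dx_10 r (by omega) h10
  exact e8Dx_11 r (by omega) hr

end Cfsg.Agent.Lib.Helper3.ChevM
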