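import Cfsg.Agent.Lib.Helper3.ChevData.E8Datum
import Cfsg.Agent.Lib.Helper3.ChevData.E8Tabs
import Cfsg.Agent.Lib.Helper3.ChevM7
set_option autoImplicit false
set_option maxRecDepth 1000000
set_option Elab.async false

namespace Cfsg.Agent.Lib.Helper3.ChevM

theorem e8Hd_1_40 : allRange 40 41 ((fun r => cdE8.checkHDiag r (cdE8.expo pairE8 r))) = true := by decide +kernel
theorem e8Hd_1_41 : allRange 41 42 ((fun r => cdE8.checkHDiag r (cdE8.expo pairE8 r))) = true := by decide +kernel
theorem e8Hd_1_42 : allRange 42 43 ((fun r => cdE8.checkHDiag r (cdE8.expo pairE8 r))) = true := by decide +kernel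
theorem e8Hd_1_43 : allRange 43 44 ((fun r => cdE8.checkHDiag r (cdE8.expo pairE8 r))) = true := by decide +kernel
theorem e8Hd_1_44 : allRange 44 45 ((fun r => cdE8.checkHDiag r (cdE8.expo pairE8 r))) = true := by decide +kernel
theorem e8Hd_1_45 : allRange 45 46 ((fun r => cdE8.checkHDiag r (cdE8.expo pairE8 r))) = true := by decide +kernel
theorem e8Hd_1_46 : allRange 46 47 ((fun r => cdE8.checkHDiag r (cdE8.expo pairE8 r))) = true := by decide +kernel
theorem e8Hd_1_47 : allRange 47 48 ((fun r => cdE8.checkHDiag r (cdE8.expo pairE8 r))) = true := by decide +kernel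
theorem e8Hd_1_48 : allRange 48 49 ((fun r => cdE8.checkHDiag r (cdE8.expo pairE8 r))) = true := by decide +kernel
theorem e8Hd_1_49 : allRange 49 50 ((fun r => cdE8.checkHDiag r (cdE8.expo pairE8 r))) = true := by decide +kernel
theorem e8Hd_1_50 : allRange 50 51 ((fun r => cdE8.checkHDiag r (cdE8.expo pairE8 r))) = true := by decide +kernel
theorem e8Hd_1_51 : allRange 51 52 ((fun r => cdE8.checkHDiag r (cdE8.expo pairE8 r))) = true := by decide +kernel
theorem e8Hd_1_52 : allRange 52 53 ((fun r => cdE8.checkHDiag r (cdE8.expo pairE8 r))) = true := by decide +kernel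
theorem e8Hd_1_53 : allRange 53 54 ((fun r => cdE8.checkHDiag r (cdE8.expo pairE8 r))) = true := by decide +kernel
theorem e8Hd_1_54 : allRange 54 55 ((fun r => cdE8.checkHDiag r (cdE8.expo pairE8 r))) = true := by decide +kernel
theorem e8Hd_1_55 : allRange 55 56 ((fun r => cdE8.checkHDiag r (cdE8.expo pairE8 r))) = true := by decide +kernel
theorem e8Hd_1_56 : allRange 56 57 ((fun r => cdE8.checkHDiag r (cdE8.expo pairE8 r))) = true := by decide +kernel
theorem e8Hd_1_57 : allRange 57 58 ((fun r => cdE8.checkHDiag r (cdE8.expo pairE8 r))) = true := by decide +kernel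
theorem e8Hd_1_58 : allRange 58 59 ((fun r => cdE8.checkHDiag r (cdE8.expo pairE8 r))) = true := by decide +kernel
theorem e8Hd_1_59 : allRange 59 60 ((fun r => cdE8.checkHDiag r (cdE8.expo pairE8 r))) = true := by decide +kernel
theorem e8Hd_1_60 : allRange 60 61 ((fun r => cdE8.checkHDiag r (cdE8.expo pairE8 r))) = true := by decide +kernel
theorem e8Hd_1_61 : allRange 61 62 ((fun r => cdE8.checkHDiag r (cdE8.expo pairE8 r))) = true := by decide +kernel
theorem e8Hd_1_62 : allRange 62 63 ((fun r => cdE8.checkHDiag r (cdE8.expo pairE8 r))) = true := by decide +kernel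
theorem e8Hd_1_63 : allRange 63 64 ((fun r => cdE8.checkHDiag r (cdE8.expo pairE8 r))) = true := by decide +kernel
theorem e8Hd_1_64 : allRange 64 65 ((fun r => cdE8.checkHDiag r (cdE8.expo pairE8 r))) = true := by decide +kernel
theorem e8Hd_1_65 : allRange 65 66 ((fun r => cdE8.checkHDiag r (cdE8.expo pairE8 r))) = true := by decide +kernel
theorem e8Hd_1_66 : allRange 66 67 ((fun r => cdE8.checkHDiag r (cdE8.expo pairE8 r))) = true := by decide +kernel
theorem e8Hd_1_67 : allRange 67 68 ((fun r => cdE8.checkHDiag r (cdE8.expo pairE8 r))) = true := by decide +kernel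
theorem e8Hd_1_68 : allRange 68 69 ((fun r => cdE8.checkHDiag r (cdE8.expo pairE8 r))) = true := by decide +kernel
theorem e8Hd_1_69 : allRange 69 70 ((fun r => cdE8.checkHDiag r (cdE8.expo pairE8 r))) = true := by decide +kernel
theorem e8Hd_1_70 : allRange 70 71 ((fun r => cdE8.checkHDiag r (cdE8.expo pairE8 r))) = true := by decide +kernel
theorem e8Hd_1_71 : allRange 71 72 ((fun r => cdE8.checkHDiag r (cdE8.expo pairE8 r))) = true := by decide +kernel
theorem e8Hd_1_72 : allRange 72 73 ((fun r => cdE8.checkHDiag r (cdE8.expo pairE8 r))) = true := by decide +kernel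
theorem e8Hd_1_73 : allRange 73 74 ((fun r => cdE8.checkHDiag r (cdE8.expo pairE8 r))) = true := by decide +kernel
theorem e8Hd_1_74 : allRange 74 75 ((fun r => cdE8.checkHDiag r (cdE8.expo pairE8 r))) = true := by decide +kernel
theorem e8Hd_1_75 : allRange 75 76 ((fun r => cdE8.checkHDiag r (cdE8.expo pairE8 r))) = true := by decide +kernel
theorem e8Hd_1_76 : allRange 76 77 ((fun r => cdE8.checkHDiag r (cdE8.expo pairE8 r))) = true := by decide +kernel
theorem e8Hd_1_77 : allRange 77 78 ((fun r => cdE8.checkHDiag r (cdE8.expo pairE8 r))) = true := by decide +kernel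
theorem e8Hd_1_78 : allRange 78 79 ((fun r => cdE8.checkHDiag r (cdE8.expo pairE8 r))) = true := by decide +kernel
theorem e8Hd_1_79 : allRange 79 80 ((fun r => cdE8.checkHDiag r (cdE8.expo pairE8 r))) = true := by decide +kernel

/-- Diagonal form of the `h_r(c)` of type E8 (roots 40 to 79). -/
theorem e8Hd_1 : ∀ r, 40 ≤ r → r < 80 → ((fun r => cdE8.checkHDiag r (cdE8.expo pairE8 r))) r = true := by
  intro r h1 h2
  by_cases c0 : r < 41
  · exact allRange_spec e8Hd_1_40 r (by omega) c0
  by_cases c1 : r < 42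
  · exact allRange_spec e8Hd_1_41 r (by omega) c1
  by_cases c2 : r < 43
  · exact allRange_spec e8Hd_1_42 r (by omega) c2
  by_cases c3 : r < 44
  · exact allRange_spec e8Hd_1_43 r (by omega) c3
  by_cases c4 : r < 45
  · exact allRange_spec e8Hd_1_44 r (by omega) c4
  by_cases c5 : r < 46
  · exact allRange_spec e8Hd_1_45 r (by omega) c5
  by_cases c6 : r < 47
  · exact allRange_spec e8Hd_1_46 r (by omega) c6
  by_cases c7 : r < 48
  · exact allRange_spec e8Hd_1_47 r (by omega) c7
  by_cases c8 : r < 49
  · exact allRange_spec e8Hd_1_48 r (by omega) c8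
  by_cases c9 : r < 50
  · exact allRange_spec e8Hd_1_49 r (by omega) c9
  by_cases c10 : r < 51
  · exact allRange_spec e8Hd_1_50 r (by omega) c10
  by_cases c11 : r < 52
  · exact allRange_spec e8Hd_1_51 r (by omega) c11
  by_cases c12 : r < 53
  · exact allRange_spec e8Hd_1_52 r (by omega) c12
  by_cases c13 : r < 54
  · exact allRange_spec e8Hd_1_53 r (by omega) c13
  by_cases c14 : r < 55
  · exact allRange_spec e8Hd_1_54 r (by omega) c14
  by_cases c15 : r < 56
  · exact allRange_spec e8Hd_1_55 r (by omega) c15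
  by_cases c16 : r < 57
  · exact allRange_spec e8Hd_1_56 r (by omega) c16
  by_cases c17 : r < 58
  · exact allRange_spec e8Hd_1_57 r (by omega) c17
  by_cases c18 : r < 59
  · exact allRange_spec e8Hd_1_58 r (by omega) c18
  by_cases c19 : r < 60
  · exact allRange_spec e8Hd_1_59 r (by omega) c19
  by_cases c20 : r < 61
  · exact allRange_spec e8Hd_1_60 r (by omega) c20
  by_cases c21 : r < 62
  · exact allRange_spec e8Hd_1_61 r (by omega) c21
  by_cases c22 : r < 63
  · exact allRange_spec e8Hd_1_62 r (by omega) c22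
  by_cases c23 : r < 64
  · exact allRange_spec e8Hd_1_63 r (by omega) c23
  by_cases c24 : r < 65
  · exact allRange_spec e8Hd_1_64 r (by omega) c24
  by_cases c25 : r < 66
  · exact allRange_spec e8Hd_1_65 r (by omega) c25
  by_cases c26 : r < 67
  · exact allRange_spec e8Hd_1_66 r (by omega) c26
  by_cases c27 : r < 68
  · exact allRange_spec e8Hd_1_67 r (by omega) c27
  by_cases c28 : r < 69
  · exact allRange_spec e8Hd_1_68 r (by omega) c28
  by_cases c29 : r < 70
  · exact allRange_spec e8Hd_1_69 r (by omega) c29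
  by_cases c30 : r < 71
  · exact allRange_spec e8Hd_1_70 r (by omega) c30
  by_cases c31 : r < 72
  · exact allRange_spec e8Hd_1_71 r (by omega) c31
  by_cases c32 : r < 73
  · exact allRange_spec e8Hd_1_72 r (by omega) c32
  by_cases c33 : r < 74
  · exact allRange_spec e8Hd_1_73 r (by omega) c33
  by_cases c34 : r < 75
  · exact allRange_spec e8Hd_1_74 r (by omega) c34
  by_cases c35 : r < 76
  · exact allRange_spec e8Hd_1_75 r (by omega) c35
  by_cases c36 : r < 77
  · exact allRange_spec e8Hd_1_76 r (by omega) c36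
  by_cases c37 : r < 78
  · exact allRange_spec e8Hd_1_77 r (by omega) c37
  by_cases c38 : r < 79
  · exact allRange_spec e8Hd_1_78 r (by omega) c38
  exact allRange_spec e8Hd_1_79 r (by omega) h2

end Cfsg.Agent.Lib.Helper3.ChevM
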