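import Cfsg.Agent.Lib.Helper3.ChevData.E8Datum
import Cfsg.Agent.Lib.Helper3.ChevData.E8Tabs
import Cfsg.Agent.Lib.Helper3.ChevM7
set_option autoImplicit false
set_option maxRecDepth 1000000
set_option Elab.async false

namespace Cfsg.Agent.Lib.Helper3.ChevM

theorem e8Hd_2_80 : allRange 80 81 ((fun r => cdE8.checkHDiag r (cdE8.expo pairE8 r))) = true := by decide +kernel
theorem e8Hd_2_81 : allRange 81 82 ((fun r => cdE8.checkHDiag r (cdE8.expo pairE8 r))) = true := by decide +kernel
theorem e8Hd_2_82 : allRange 82 83 ((fun r => cdE8.checkHDiag r (cdE8.expo pairE8 r))) = true := by decide +kernel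
theorem e8Hd_2_83 : allRange 83 84 ((fun r => cdE8.checkHDiag r (cdE8.expo pairE8 r))) = true := by decide +kernel
theorem e8Hd_2_84 : allRange 84 85 ((fun r => cdE8.checkHDiag r (cdE8.expo pairE8 r))) = true := by decide +kernel
theorem e8Hd_2_85 : allRange 85 86 ((fun r => cdE8.checkHDiag r (cdE8.expo pairE8 r))) = true := by decide +kernel
theorem e8Hd_2_86 : allRange 86 87 ((fun r => cdE8.checkHDiag r (cdE8.expo pairE8 r))) = true := by decide +kernel
theorem e8Hd_2_87 : allRange 87 88 ((fun r => cdE8.checkHDiag r (cdE8.expo pairE8 r))) = true := by decide +kernel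
theorem e8Hd_2_88 : allRange 88 89 ((fun r => cdE8.checkHDiag r (cdE8.expo pairE8 r))) = true := by decide +kernel
theorem e8Hd_2_89 : allRange 89 90 ((fun r => cdE8.checkHDiag r (cdE8.expo pairE8 r))) = true := by decide +kernel
theorem e8Hd_2_90 : allRange 90 91 ((fun r => cdE8.checkHDiag r (cdE8.expo pairE8 r))) = true := by decide +kernel
theorem e8Hd_2_91 : allRange 91 92 ((fun r => cdE8.checkHDiag r (cdE8.expo pairE8 r))) = true := by decide +kernel
theorem e8Hd_2_92 : allRange 92 93 ((fun r => cdE8.checkHDiag r (cdE8.expo pairE8 r))) = true := by decide +kernel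
theorem e8Hd_2_93 : allRange 93 94 ((fun r => cdE8.checkHDiag r (cdE8.expo pairE8 r))) = true := by decide +kernel
theorem e8Hd_2_94 : allRange 94 95 ((fun r => cdE8.checkHDiag r (cdE8.expo pairE8 r))) = true := by decide +kernel
theorem e8Hd_2_95 : allRange 95 96 ((fun r => cdE8.checkHDiag r (cdE8.expo pairE8 r))) = true := by decide +kernel
theorem e8Hd_2_96 : allRange 96 97 ((fun r => cdE8.checkHDiag r (cdE8.expo pairE8 r))) = true := by decide +kernel
theorem e8Hd_2_97 : allRange 97 98 ((fun r => cdE8.checkHDiag r (cdE8.expo pairE8 r))) = true := by decide +kernel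
theorem e8Hd_2_98 : allRange 98 99 ((fun r => cdE8.checkHDiag r (cdE8.expo pairE8 r))) = true := by decide +kernel
theorem e8Hd_2_99 : allRange 99 100 ((fun r => cdE8.checkHDiag r (cdE8.expo pairE8 r))) = true := by decide +kernel
theorem e8Hd_2_100 : allRange 100 101 ((fun r => cdE8.checkHDiag r (cdE8.expo pairE8 r))) = true := by decide +kernel
theorem e8Hd_2_101 : allRange 101 102 ((fun r => cdE8.checkHDiag r (cdE8.expo pairE8 r))) = true := by decide +kernel
theorem e8Hd_2_102 : allRange 102 103 ((fun r => cdE8.checkHDiag r (cdE8.expo pairE8 r))) = true := by decide +kernel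
theorem e8Hd_2_103 : allRange 103 104 ((fun r => cdE8.checkHDiag r (cdE8.expo pairE8 r))) = true := by decide +kernel
theorem e8Hd_2_104 : allRange 104 105 ((fun r => cdE8.checkHDiag r (cdE8.expo pairE8 r))) = true := by decide +kernel
theorem e8Hd_2_105 : allRange 105 106 ((fun r => cdE8.checkHDiag r (cdE8.expo pairE8 r))) = true := by decide +kernel
theorem e8Hd_2_106 : allRange 106 107 ((fun r => cdE8.checkHDiag r (cdE8.expo pairE8 r))) = true := by decide +kernel
theorem e8Hd_2_107 : allRange 107 108 ((fun r => cdE8.checkHDiag r (cdE8.expo pairE8 r))) = true := by decide +kernel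
theorem e8Hd_2_108 : allRange 108 109 ((fun r => cdE8.checkHDiag r (cdE8.expo pairE8 r))) = true := by decide +kernel
theorem e8Hd_2_109 : allRange 109 110 ((fun r => cdE8.checkHDiag r (cdE8.expo pairE8 r))) = true := by decide +kernel
theorem e8Hd_2_110 : allRange 110 111 ((fun r => cdE8.checkHDiag r (cdE8.expo pairE8 r))) = true := by decide +kernel
theorem e8Hd_2_111 : allRange 111 112 ((fun r => cdE8.checkHDiag r (cdE8.expo pairE8 r))) = true := by decide +kernel
theorem e8Hd_2_112 : allRange 112 113 ((fun r => cdE8.checkHDiag r (cdE8.expo pairE8 r))) = true := by decide +kernel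
theorem e8Hd_2_113 : allRange 113 114 ((fun r => cdE8.checkHDiag r (cdE8.expo pairE8 r))) = true := by decide +kernel
theorem e8Hd_2_114 : allRange 114 115 ((fun r => cdE8.checkHDiag r (cdE8.expo pairE8 r))) = true := by decide +kernel
theorem e8Hd_2_115 : allRange 115 116 ((fun r => cdE8.checkHDiag r (cdE8.expo pairE8 r))) = true := by decide +kernel
theorem e8Hd_2_116 : allRange 116 117 ((fun r => cdE8.checkHDiag r (cdE8.expo pairE8 r))) = true := by decide +kernel
theorem e8Hd_2_117 : allRange 117 118 ((fun r => cdE8.checkHDiag r (cdE8.expo pairE8 r))) = true := by decide +kernel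
theorem e8Hd_2_118 : allRange 118 119 ((fun r => cdE8.checkHDiag r (cdE8.expo pairE8 r))) = true := by decide +kernel
theorem e8Hd_2_119 : allRange 119 120 ((fun r => cdE8.checkHDiag r (cdE8.expo pairE8 r))) = true := by decide +kernel

/-- Diagonal form of the `h_r(c)` of type E8 (roots 80 to 119). -/
theorem e8Hd_2 : ∀ r, 80 ≤ r → r < 120 → ((fun r => cdE8.checkHDiag r (cdE8.expo pairE8 r))) r = true := by
  intro r h1 h2
  by_cases c0 : r < 81
  · exact allRange_spec e8Hd_2_80 r (by omega) c0
  by_cases c1 : r < 82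
  · exact allRange_spec e8Hd_2_81 r (by omega) c1
  by_cases c2 : r < 83
  · exact allRange_spec e8Hd_2_82 r (by omega) c2
  by_cases c3 : r < 84
  · exact allRange_spec e8Hd_2_83 r (by omega) c3
  by_cases c4 : r < 85
  · exact allRange_spec e8Hd_2_84 r (by omega) c4
  by_cases c5 : r < 86
  · exact allRange_spec e8Hd_2_85 r (by omega) c5
  by_cases c6 : r < 87
  · exact allRange_spec e8Hd_2_86 r (by omega) c6
  by_cases c7 : r < 88
  · exact allRange_spec e8Hd_2_87 r (by omega) c7
  by_cases c8 : r < 89
  · exact allRange_spec e8Hd_2_88 r (by omega) c8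
  by_cases c9 : r < 90
  · exact allRange_spec e8Hd_2_89 r (by omega) c9
  by_cases c10 : r < 91
  · exact allRange_spec e8Hd_2_90 r (by omega) c10
  by_cases c11 : r < 92
  · exact allRange_spec e8Hd_2_91 r (by omega) c11
  by_cases c12 : r < 93
  · exact allRange_spec e8Hd_2_92 r (by omega) c12
  by_cases c13 : r < 94
  · exact allRange_spec e8Hd_2_93 r (by omega) c13
  by_cases c14 : r < 95
  · exact allRange_spec e8Hd_2_94 r (by omega) c14
  by_cases c15 : r < 96
  · exact allRange_spec e8Hd_2_95 r (by omega) c15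
  by_cases c16 : r < 97
  · exact allRange_spec e8Hd_2_96 r (by omega) c16
  by_cases c17 : r < 98
  · exact allRange_spec e8Hd_2_97 r (by omega) c17
  by_cases c18 : r < 99
  · exact allRange_spec e8Hd_2_98 r (by omega) c18
  by_cases c19 : r < 100
  · exact allRange_spec e8Hd_2_99 r (by omega) c19
  by_cases c20 : r < 101
  · exact allRange_spec e8Hd_2_100 r (by omega) c20
  by_cases c21 : r < 102
  · exact allRange_spec e8Hd_2_101 r (by omega) c21
  by_cases c22 : r < 103
  · exact allRange_spec e8Hd_2_102 r (by omega) c22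
  by_cases c23 : r < 104
  · exact allRange_spec e8Hd_2_103 r (by omega) c23
  by_cases c24 : r < 105
  · exact allRange_spec e8Hd_2_104 r (by omega) c24
  by_cases c25 : r < 106
  · exact allRange_spec e8Hd_2_105 r (by omega) c25
  by_cases c26 : r < 107
  · exact allRange_spec e8Hd_2_106 r (by omega) c26
  by_cases c27 : r < 108
  · exact allRange_spec e8Hd_2_107 r (by omega) c27
  by_cases c28 : r < 109
  · exact allRange_spec e8Hd_2_108 r (by omega) c28
  by_cases c29 : r < 110
  · exact allRange_spec e8Hd_2_109 r (by omega) c29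
  by_cases c30 : r < 111
  · exact allRange_spec e8Hd_2_110 r (by omega) c30
  by_cases c31 : r < 112
  · exact allRange_spec e8Hd_2_111 r (by omega) c31
  by_cases c32 : r < 113
  · exact allRange_spec e8Hd_2_112 r (by omega) c32
  by_cases c33 : r < 114
  · exact allRange_spec e8Hd_2_113 r (by omega) c33
  by_cases c34 : r < 115
  · exact allRange_spec e8Hd_2_114 r (by omega) c34
  by_cases c35 : r < 116
  · exact allRange_spec e8Hd_2_115 r (by omega) c35
  by_cases c36 : r < 117
  · exact allRange_spec e8Hd_2_116 r (by omega) c36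
  by_cases c37 : r < 118
  · exact allRange_spec e8Hd_2_117 r (by omega) c37
  by_cases c38 : r < 119
  · exact allRange_spec e8Hd_2_118 r (by omega) c38
  exact allRange_spec e8Hd_2_119 r (by omega) h2

end Cfsg.Agent.Lib.Helper3.ChevM
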