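import Cfsg.Agent.Lib.Helper3.ChevData.E8Datum
import Cfsg.Agent.Lib.Helper3.ChevData.E8Tabs
import Cfsg.Agent.Lib.Helper3.ChevM7
set_option autoImplicit false
set_option maxRecDepth 1000000
set_option Elab.async false

namespace Cfsg.Agent.Lib.Helper3.ChevM

theorem e8Hd_4_160 : allRange 160 161 ((fun r => cdE8.checkHDiag r (cdE8.expo pairE8 r))) = true := by decide +kernel
theorem e8Hd_4_161 : allRange 161 162 ((fun r => cdE8.checkHDiag r (cdE8.expo pairE8 r))) = true := by decide +kernel
theorem e8Hd_4_162 : allRange 162 163 ((fun r => cdE8.checkHDiag r (cdE8.expo pairE8 r))) = true := by decide +kernel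
theorem e8Hd_4_163 : allRange 163 164 ((fun r => cdE8.checkHDiag r (cdE8.expo pairE8 r))) = true := by decide +kernel
theorem e8Hd_4_164 : allRange 164 165 ((fun r => cdE8.checkHDiag r (cdE8.expo pairE8 r))) = true := by decide +kernel
theorem e8Hd_4_165 : allRange 165 166 ((fun r => cdE8.checkHDiag r (cdE8.expo pairE8 r))) = true := by decide +kernel
theorem e8Hd_4_166 : allRange 166 167 ((fun r => cdE8.checkHDiag r (cdE8.expo pairE8 r))) = true := by decide +kernel
theorem e8Hd_4_167 : allRange 167 168 ((fun r => cdE8.checkHDiag r (cdE8.expo pairE8 r))) = true := by decide +kernel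
theorem e8Hd_4_168 : allRange 168 169 ((fun r => cdE8.checkHDiag r (cdE8.expo pairE8 r))) = true := by decide +kernel
theorem e8Hd_4_169 : allRange 169 170 ((fun r => cdE8.checkHDiag r (cdE8.expo pairE8 r))) = true := by decide +kernel
theorem e8Hd_4_170 : allRange 170 171 ((fun r => cdE8.checkHDiag r (cdE8.expo pairE8 r))) = true := by decide +kernel
theorem e8Hd_4_171 : allRange 171 172 ((fun r => cdE8.checkHDiag r (cdE8.expo pairE8 r))) = true := by decide +kernel
theorem e8Hd_4_172 : allRange 172 173 ((fun r => cdE8.checkHDiag r (cdE8.expo pairE8 r))) = true := by decide +kernel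
theorem e8Hd_4_173 : allRange 173 174 ((fun r => cdE8.checkHDiag r (cdE8.expo pairE8 r))) = true := by decide +kernel
theorem e8Hd_4_174 : allRange 174 175 ((fun r => cdE8.checkHDiag r (cdE8.expo pairE8 r))) = true := by decide +kernel
theorem e8Hd_4_175 : allRange 175 176 ((fun r => cdE8.checkHDiag r (cdE8.expo pairE8 r))) = true := by decide +kernel
theorem e8Hd_4_176 : allRange 176 177 ((fun r => cdE8.checkHDiag r (cdE8.expo pairE8 r))) = true := by decide +kernel
theorem e8Hd_4_177 : allRange 177 178 ((fun r => cdE8.checkHDiag r (cdE8.expo pairE8 r))) = true := by decide +kernel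
theorem e8Hd_4_178 : allRange 178 179 ((fun r => cdE8.checkHDiag r (cdE8.expo pairE8 r))) = true := by decide +kernel
theorem e8Hd_4_179 : allRange 179 180 ((fun r => cdE8.checkHDiag r (cdE8.expo pairE8 r))) = true := by decide +kernel
theorem e8Hd_4_180 : allRange 180 181 ((fun r => cdE8.checkHDiag r (cdE8.expo pairE8 r))) = true := by decide +kernel
theorem e8Hd_4_181 : allRange 181 182 ((fun r => cdE8.checkHDiag r (cdE8.expo pairE8 r))) = true := by decide +kernel
theorem e8Hd_4_182 : allRange 182 183 ((fun r => cdE8.checkHDiag r (cdE8.expo pairE8 r))) = true := by decide +kernel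
theorem e8Hd_4_183 : allRange 183 184 ((fun r => cdE8.checkHDiag r (cdE8.expo pairE8 r))) = true := by decide +kernel
theorem e8Hd_4_184 : allRange 184 185 ((fun r => cdE8.checkHDiag r (cdE8.expo pairE8 r))) = true := by decide +kernel
theorem e8Hd_4_185 : allRange 185 186 ((fun r => cdE8.checkHDiag r (cdE8.expo pairE8 r))) = true := by decide +kernel
theorem e8Hd_4_186 : allRange 186 187 ((fun r => cdE8.checkHDiag r (cdE8.expo pairE8 r))) = true := by decide +kernel
theorem e8Hd_4_187 : allRange 187 188 ((fun r => cdE8.checkHDiag r (cdE8.expo pairE8 r))) = true := by decide +kernel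
theorem e8Hd_4_188 : allRange 188 189 ((fun r => cdE8.checkHDiag r (cdE8.expo pairE8 r))) = true := by decide +kernel
theorem e8Hd_4_189 : allRange 189 190 ((fun r => cdE8.checkHDiag r (cdE8.expo pairE8 r))) = true := by decide +kernel
theorem e8Hd_4_190 : allRange 190 191 ((fun r => cdE8.checkHDiag r (cdE8.expo pairE8 r))) = true := by decide +kernel
theorem e8Hd_4_191 : allRange 191 192 ((fun r => cdE8.checkHDiag r (cdE8.expo pairE8 r))) = true := by decide +kernel
theorem e8Hd_4_192 : allRange 192 193 ((fun r => cdE8.checkHDiag r (cdE8.expo pairE8 r))) = true := by decide +kernel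
theorem e8Hd_4_193 : allRange 193 194 ((fun r => cdE8.checkHDiag r (cdE8.expo pairE8 r))) = true := by decide +kernel
theorem e8Hd_4_194 : allRange 194 195 ((fun r => cdE8.checkHDiag r (cdE8.expo pairE8 r))) = true := by decide +kernel
theorem e8Hd_4_195 : allRange 195 196 ((fun r => cdE8.checkHDiag r (cdE8.expo pairE8 r))) = true := by decide +kernel
theorem e8Hd_4_196 : allRange 196 197 ((fun r => cdE8.checkHDiag r (cdE8.expo pairE8 r))) = true := by decide +kernel
theorem e8Hd_4_197 : allRange 197 198 ((fun r => cdE8.checkHDiag r (cdE8.expo pairE8 r))) = true := by decide +kernel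
theorem e8Hd_4_198 : allRange 198 199 ((fun r => cdE8.checkHDiag r (cdE8.expo pairE8 r))) = true := by decide +kernel
theorem e8Hd_4_199 : allRange 199 200 ((fun r => cdE8.checkHDiag r (cdE8.expo pairE8 r))) = true := by decide +kernel

/-- Diagonal form of the `h_r(c)` of type E8 (roots 160 to 199). -/
theorem e8Hd_4 : ∀ r, 160 ≤ r → r < 200 → ((fun r => cdE8.checkHDiag r (cdE8.expo pairE8 r))) r = true := by
  intro r h1 h2
  by_cases c0 : r < 161
  · exact allRange_spec e8Hd_4_160 r (by omega) c0
  by_cases c1 : r < 162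
  · exact allRange_spec e8Hd_4_161 r (by omega) c1
  by_cases c2 : r < 163
  · exact allRange_spec e8Hd_4_162 r (by omega) c2
  by_cases c3 : r < 164
  · exact allRange_spec e8Hd_4_163 r (by omega) c3
  by_cases c4 : r < 165
  · exact allRange_spec e8Hd_4_164 r (by omega) c4
  by_cases c5 : r < 166
  · exact allRange_spec e8Hd_4_165 r (by omega) c5
  by_cases c6 : r < 167
  · exact allRange_spec e8Hd_4_166 r (by omega) c6
  by_cases c7 : r < 168
  · exact allRange_spec e8Hd_4_167 r (by omega) c7
  by_cases c8 : r < 169
  · exact allRange_spec e8Hd_4_168 r (by omega) c8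
  by_cases c9 : r < 170
  · exact allRange_spec e8Hd_4_169 r (by omega) c9
  by_cases c10 : r < 171
  · exact allRange_spec e8Hd_4_170 r (by omega) c10
  by_cases c11 : r < 172
  · exact allRange_spec e8Hd_4_171 r (by omega) c11
  by_cases c12 : r < 173
  · exact allRange_spec e8Hd_4_172 r (by omega) c12
  by_cases c13 : r < 174
  · exact allRange_spec e8Hd_4_173 r (by omega) c13
  by_cases c14 : r < 175
  · exact allRange_spec e8Hd_4_174 r (by omega) c14
  by_cases c15 : r < 176
  · exact allRange_spec e8Hd_4_175 r (by omega) c15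
  by_cases c16 : r < 177
  · exact allRange_spec e8Hd_4_176 r (by omega) c16
  by_cases c17 : r < 178
  · exact allRange_spec e8Hd_4_177 r (by omega) c17
  by_cases c18 : r < 179
  · exact allRange_spec e8Hd_4_178 r (by omega) c18
  by_cases c19 : r < 180
  · exact allRange_spec e8Hd_4_179 r (by omega) c19
  by_cases c20 : r < 181
  · exact allRange_spec e8Hd_4_180 r (by omega) c20
  by_cases c21 : r < 182
  · exact allRange_spec e8Hd_4_181 r (by omega) c21
  by_cases c22 : r < 183
  · exact allRange_spec e8Hd_4_182 r (by omega) c22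
  by_cases c23 : r < 184
  · exact allRange_spec e8Hd_4_183 r (by omega) c23
  by_cases c24 : r < 185
  · exact allRange_spec e8Hd_4_184 r (by omega) c24
  by_cases c25 : r < 186
  · exact allRange_spec e8Hd_4_185 r (by omega) c25
  by_cases c26 : r < 187
  · exact allRange_spec e8Hd_4_186 r (by omega) c26
  by_cases c27 : r < 188
  · exact allRange_spec e8Hd_4_187 r (by omega) c27
  by_cases c28 : r < 189
  · exact allRange_spec e8Hd_4_188 r (by omega) c28
  by_cases c29 : r < 190
  · exact allRange_spec e8Hd_4_189 r (by omega) c29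
  by_cases c30 : r < 191
  · exact allRange_spec e8Hd_4_190 r (by omega) c30
  by_cases c31 : r < 192
  · exact allRange_spec e8Hd_4_191 r (by omega) c31
  by_cases c32 : r < 193
  · exact allRange_spec e8Hd_4_192 r (by omega) c32
  by_cases c33 : r < 194
  · exact allRange_spec e8Hd_4_193 r (by omega) c33
  by_cases c34 : r < 195
  · exact allRange_spec e8Hd_4_194 r (by omega) c34
  by_cases c35 : r < 196
  · exact allRange_spec e8Hd_4_195 r (by omega) c35
  by_cases c36 : r < 197
  · exact allRange_spec e8Hd_4_196 r (by omega) c36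
  by_cases c37 : r < 198
  · exact allRange_spec e8Hd_4_197 r (by omega) c37
  by_cases c38 : r < 199
  · exact allRange_spec e8Hd_4_198 r (by omega) c38
  exact allRange_spec e8Hd_4_199 r (by omega) h2

end Cfsg.Agent.Lib.Helper3.ChevM
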