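import Cfsg.Agent.Lib.Helper3.ChevData.E8Datum
import Cfsg.Agent.Lib.Helper3.ChevData.E8Tabs
import Cfsg.Agent.Lib.Helper3.ChevM7
set_option autoImplicit false
set_option maxRecDepth 1000000
set_option Elab.async false

namespace Cfsg.Agent.Lib.Helper3.ChevM

theorem e8Hd_5_200 : allRange 200 201 ((fun r => cdE8.checkHDiag r (cdE8.expo pairE8 r))) = true := by decide +kernel
theorem e8Hd_5_201 : allRange 201 202 ((fun r => cdE8.checkHDiag r (cdE8.expo pairE8 r))) = true := by decide +kernel
theorem e8Hd_5_202 : allRange 202 203 ((fun r => cdE8.checkHDiag r (cdE8.expo pairE8 r))) = true := by decide +kernel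
theorem e8Hd_5_203 : allRange 203 204 ((fun r => cdE8.checkHDiag r (cdE8.expo pairE8 r))) = true := by decide +kernel
theorem e8Hd_5_204 : allRange 204 205 ((fun r => cdE8.checkHDiag r (cdE8.expo pairE8 r))) = true := by decide +kernel
theorem e8Hd_5_205 : allRange 205 206 ((fun r => cdE8.checkHDiag r (cdE8.expo pairE8 r))) = true := by decide +kernel
theorem e8Hd_5_206 : allRange 206 207 ((fun r => cdE8.checkHDiag r (cdE8.expo pairE8 r))) = true := by decide +kernel
theorem e8Hd_5_207 : allRange 207 208 ((fun r => cdE8.checkHDiag r (cdE8.expo pairE8 r))) = true := by decide +kernel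
theorem e8Hd_5_208 : allRange 208 209 ((fun r => cdE8.checkHDiag r (cdE8.expo pairE8 r))) = true := by decide +kernel
theorem e8Hd_5_209 : allRange 209 210 ((fun r => cdE8.checkHDiag r (cdE8.expo pairE8 r))) = true := by decide +kernel
theorem e8Hd_5_210 : allRange 210 211 ((fun r => cdE8.checkHDiag r (cdE8.expo pairE8 r))) = true := by decide +kernel
theorem e8Hd_5_211 : allRange 211 212 ((fun r => cdE8.checkHDiag r (cdE8.expo pairE8 r))) = true := by decide +kernel
theorem e8Hd_5_212 : allRange 212 213 ((fun r => cdE8.checkHDiag r (cdE8.expo pairE8 r))) = true := by decide +kernel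
theorem e8Hd_5_213 : allRange 213 214 ((fun r => cdE8.checkHDiag r (cdE8.expo pairE8 r))) = true := by decide +kernel
theorem e8Hd_5_214 : allRange 214 215 ((fun r => cdE8.checkHDiag r (cdE8.expo pairE8 r))) = true := by decide +kernel
theorem e8Hd_5_215 : allRange 215 216 ((fun r => cdE8.checkHDiag r (cdE8.expo pairE8 r))) = true := by decide +kernel
theorem e8Hd_5_216 : allRange 216 217 ((fun r => cdE8.checkHDiag r (cdE8.expo pairE8 r))) = true := by decide +kernel
theorem e8Hd_5_217 : allRange 217 218 ((fun r => cdE8.checkHDiag r (cdE8.expo pairE8 r))) = true := by decide +kernel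
theorem e8Hd_5_218 : allRange 218 219 ((fun r => cdE8.checkHDiag r (cdE8.expo pairE8 r))) = true := by decide +kernel
theorem e8Hd_5_219 : allRange 219 220 ((fun r => cdE8.checkHDiag r (cdE8.expo pairE8 r))) = true := by decide +kernel
theorem e8Hd_5_220 : allRange 220 221 ((fun r => cdE8.checkHDiag r (cdE8.expo pairE8 r))) = true := by decide +kernel
theorem e8Hd_5_221 : allRange 221 222 ((fun r => cdE8.checkHDiag r (cdE8.expo pairE8 r))) = true := by decide +kernel
theorem e8Hd_5_222 : allRange 222 223 ((fun r => cdE8.checkHDiag r (cdE8.expo pairE8 r))) = true := by decide +kernel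
theorem e8Hd_5_223 : allRange 223 224 ((fun r => cdE8.checkHDiag r (cdE8.expo pairE8 r))) = true := by decide +kernel
theorem e8Hd_5_224 : allRange 224 225 ((fun r => cdE8.checkHDiag r (cdE8.expo pairE8 r))) = true := by decide +kernel
theorem e8Hd_5_225 : allRange 225 226 ((fun r => cdE8.checkHDiag r (cdE8.expo pairE8 r))) = true := by decide +kernel
theorem e8Hd_5_226 : allRange 226 227 ((fun r => cdE8.checkHDiag r (cdE8.expo pairE8 r))) = true := by decide +kernel
theorem e8Hd_5_227 : allRange 227 228 ((fun r => cdE8.checkHDiag r (cdE8.expo pairE8 r))) = true := by decide +kernel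
theorem e8Hd_5_228 : allRange 228 229 ((fun r => cdE8.checkHDiag r (cdE8.expo pairE8 r))) = true := by decide +kernel
theorem e8Hd_5_229 : allRange 229 230 ((fun r => cdE8.checkHDiag r (cdE8.expo pairE8 r))) = true := by decide +kernel
theorem e8Hd_5_230 : allRange 230 231 ((fun r => cdE8.checkHDiag r (cdE8.expo pairE8 r))) = true := by decide +kernel
theorem e8Hd_5_231 : allRange 231 232 ((fun r => cdE8.checkHDiag r (cdE8.expo pairE8 r))) = true := by decide +kernel
theorem e8Hd_5_232 : allRange 232 233 ((fun r => cdE8.checkHDiag r (cdE8.expo pairE8 r))) = true := by decide +kernel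
theorem e8Hd_5_233 : allRange 233 234 ((fun r => cdE8.checkHDiag r (cdE8.expo pairE8 r))) = true := by decide +kernel
theorem e8Hd_5_234 : allRange 234 235 ((fun r => cdE8.checkHDiag r (cdE8.expo pairE8 r))) = true := by decide +kernel
theorem e8Hd_5_235 : allRange 235 236 ((fun r => cdE8.checkHDiag r (cdE8.expo pairE8 r))) = true := by decide +kernel
theorem e8Hd_5_236 : allRange 236 237 ((fun r => cdE8.checkHDiag r (cdE8.expo pairE8 r))) = true := by decide +kernel
theorem e8Hd_5_237 : allRange 237 238 ((fun r => cdE8.checkHDiag r (cdE8.expo pairE8 r))) = true := by decide +kernel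
theorem e8Hd_5_238 : allRange 238 239 ((fun r => cdE8.checkHDiag r (cdE8.expo pairE8 r))) = true := by decide +kernel
theorem e8Hd_5_239 : allRange 239 240 ((fun r => cdE8.checkHDiag r (cdE8.expo pairE8 r))) = true := by decide +kernel

/-- Diagonal form of the `h_r(c)` of type E8 (roots 200 to 239). -/
theorem e8Hd_5 : ∀ r, 200 ≤ r → r < 240 → ((fun r => cdE8.checkHDiag r (cdE8.expo pairE8 r))) r = true := by
  intro r h1 h2
  by_cases c0 : r < 201
  · exact allRange_spec e8Hd_5_200 r (by omega) c0
  by_cases c1 : r < 202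
  · exact allRange_spec e8Hd_5_201 r (by omega) c1
  by_cases c2 : r < 203
  · exact allRange_spec e8Hd_5_202 r (by omega) c2
  by_cases c3 : r < 204
  · exact allRange_spec e8Hd_5_203 r (by omega) c3
  by_cases c4 : r < 205
  · exact allRange_spec e8Hd_5_204 r (by omega) c4
  by_cases c5 : r < 206
  · exact allRange_spec e8Hd_5_205 r (by omega) c5
  by_cases c6 : r < 207
  · exact allRange_spec e8Hd_5_206 r (by omega) c6
  by_cases c7 : r < 208
  · exact allRange_spec e8Hd_5_207 r (by omega) c7
  by_cases c8 : r < 209
  · exact allRange_spec e8Hd_5_208 r (by omega) c8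
  by_cases c9 : r < 210
  · exact allRange_spec e8Hd_5_209 r (by omega) c9
  by_cases c10 : r < 211
  · exact allRange_spec e8Hd_5_210 r (by omega) c10
  by_cases c11 : r < 212
  · exact allRange_spec e8Hd_5_211 r (by omega) c11
  by_cases c12 : r < 213
  · exact allRange_spec e8Hd_5_212 r (by omega) c12
  by_cases c13 : r < 214
  · exact allRange_spec e8Hd_5_213 r (by omega) c13
  by_cases c14 : r < 215
  · exact allRange_spec e8Hd_5_214 r (by omega) c14
  by_cases c15 : r < 216
  · exact allRange_spec e8Hd_5_215 r (by omega) c15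
  by_cases c16 : r < 217
  · exact allRange_spec e8Hd_5_216 r (by omega) c16
  by_cases c17 : r < 218
  · exact allRange_spec e8Hd_5_217 r (by omega) c17
  by_cases c18 : r < 219
  · exact allRange_spec e8Hd_5_218 r (by omega) c18
  by_cases c19 : r < 220
  · exact allRange_spec e8Hd_5_219 r (by omega) c19
  by_cases c20 : r < 221
  · exact allRange_spec e8Hd_5_220 r (by omega) c20
  by_cases c21 : r < 222
  · exact allRange_spec e8Hd_5_221 r (by omega) c21
  by_cases c22 : r < 223
  · exact allRange_spec e8Hd_5_222 r (by omega) c22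
  by_cases c23 : r < 224
  · exact allRange_spec e8Hd_5_223 r (by omega) c23
  by_cases c24 : r < 225
  · exact allRange_spec e8Hd_5_224 r (by omega) c24
  by_cases c25 : r < 226
  · exact allRange_spec e8Hd_5_225 r (by omega) c25
  by_cases c26 : r < 227
  · exact allRange_spec e8Hd_5_226 r (by omega) c26
  by_cases c27 : r < 228
  · exact allRange_spec e8Hd_5_227 r (by omega) c27
  by_cases c28 : r < 229
  · exact allRange_spec e8Hd_5_228 r (by omega) c28
  by_cases c29 : r < 230
  · exact allRange_spec e8Hd_5_229 r (by omega) c29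
  by_cases c30 : r < 231
  · exact allRange_spec e8Hd_5_230 r (by omega) c30
  by_cases c31 : r < 232
  · exact allRange_spec e8Hd_5_231 r (by omega) c31
  by_cases c32 : r < 233
  · exact allRange_spec e8Hd_5_232 r (by omega) c32
  by_cases c33 : r < 234
  · exact allRange_spec e8Hd_5_233 r (by omega) c33
  by_cases c34 : r < 235
  · exact allRange_spec e8Hd_5_234 r (by omega) c34
  by_cases c35 : r < 236
  · exact allRange_spec e8Hd_5_235 r (by omega) c35
  by_cases c36 : r < 237
  · exact allRange_spec e8Hd_5_236 r (by omega) c36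
  by_cases c37 : r < 238
  · exact allRange_spec e8Hd_5_237 r (by omega) c37
  by_cases c38 : r < 239
  · exact allRange_spec e8Hd_5_238 r (by omega) c38
  exact allRange_spec e8Hd_5_239 r (by omega) h2

end Cfsg.Agent.Lib.Helper3.ChevM
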