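import Cfsg.Agent.Lib.Helper3.ChevData.E8HdA
import Cfsg.Agent.Lib.Helper3.ChevData.E8HdB
import Cfsg.Agent.Lib.Helper3.ChevData.E8HdC
import Cfsg.Agent.Lib.Helper3.ChevData.E8HdD
import Cfsg.Agent.Lib.Helper3.ChevData.E8HdE
import Cfsg.Agent.Lib.Helper3.ChevData.E8HdF
set_option autoImplicit false

namespace Cfsg.Agent.Lib.Helper3.ChevM

/-- Diagonal form of the `h_r(c)` of type E8. -/
theorem e8Hd : ∀ r < 240, ((fun r => cdE8.checkHDiag r (cdE8.expo pairE8 r))) r = true := by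
  intro r hr
  by_cases h0 : r < 40
  · exact e8Hd_0 r (by omega) h0
  by_cases h1 : r < 80
  · exact e8Hd_1 r (by omega) h1
  by_cases h2 : r < 120
  · exact e8Hd_2 r (by omega) h2
  by_cases h3 : r < 160
  · exact e8Hd_3 r (by omega) h3
  by_cases h4 : r < 200
  · exact e8Hd_4 r (by omega) h4
  exact e8Hd_5 r (by omega) hr

end Cfsg.Agent.Lib.Helper3.ChevM
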