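import Cfsg.Agent.Lib.Helper3.ChevData.E8NchkA
set_option autoImplicit false

namespace Cfsg.Agent.Lib.Helper3.ChevM

/-- Monomial form of the `n_p` of type E8. -/
theorem e8Nchk : ∀ r < 8, ((fun i => cdE8.checkN i (cdE8.cartI pairE8 i) (reflE8 i) (etaE8 i))) r = true := by
  intro r hr
  exact e8Nchk_0 r (by omega) hr

end Cfsg.Agent.Lib.Helper3.ChevM
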