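import Cfsg.Agent.Lib.Helper3.ChevData.E8NdA
set_option autoImplicit false

namespace Cfsg.Agent.Lib.Helper3.ChevM

/-- Conjugation of the `h_p(c)` by the `n_p` of type E8. -/
theorem e8Nd : ∀ r < 64, ((fun k => cdE8.checkND (k / 8) (cdE8.cartI pairE8 (k / 8)) (reflE8 (k / 8)) (etaE8 (k / 8)) (cdE8.expo pairE8 (Cfsg.Lie.chevE8.simple (k % 8))) (cdE8.expo pairE8 (reflE8 (k / 8) (Cfsg.Lie.chevE8.simple (k % 8)))))) r = true := by
  intro r hr
  exact e8Nd_0 r (by omega) hr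

end Cfsg.Agent.Lib.Helper3.ChevM
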