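import Cfsg.Agent.Lib.Helper3.ChevData.E8Add
import Cfsg.Agent.Lib.Helper3.ChevData.E8Hd
import Cfsg.Agent.Lib.Helper3.ChevData.E8Tab
import Cfsg.Agent.Lib.Helper3.ChevData.E8Eta
import Cfsg.Agent.Lib.Helper3.ChevData.E8Nchk
import Cfsg.Agent.Lib.Helper3.ChevData.E8Conj
import Cfsg.Agent.Lib.Helper3.ChevData.E8Dx
import Cfsg.Agent.Lib.Helper3.ChevData.E8Nd
set_option autoImplicit false
set_option maxRecDepth 1000000

namespace Cfsg.Agent.Lib.Helper3.ChevM

/-- The relation data of type E8. -/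
def relE8 : RelData cdE8 where
  pair := pairE8
  refl := reflE8
  eta := etaE8
  neg_lt := by decide +kernel
  simple_lt := by decide +kernel
  tab := of_pairRange (m := 8) (n := 240) e8Tab
  etaOk := of_pairRange (m := 8) (n := 240) e8Eta
  etaSimple := by decide +kernel
  add := e8Add
  hdiag := e8Hd
  nchk := e8Nchk
  conj := of_pairRange (m := 8) (n := 240) e8Conj
  dx := of_pairRange (m := 8) (n := 240) e8Dx
  nd := of_pairRange (m := 8) (n := 8) e8Nd

end Cfsg.Agent.Lib.Helper3.ChevM
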