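import Cfsg.Agent.Lib.Helper3.ChevData.E8SrwcA
set_option autoImplicit false

namespace Cfsg.Agent.Lib.Helper3.ChevM

/-- Every root of type E8 is conjugate to a fundamental root inside its support. -/
theorem e8Srwc : ∀ r < 240, ((fun r => suppWordCheck Cfsg.Lie.chevE8 reflE8 srwE8 r)) r = true := by
  intro r hr
  exact e8Srwc_0 r (by omega) hr

end Cfsg.Agent.Lib.Helper3.ChevM
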