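import Cfsg.Agent.Lib.Helper3.ChevData.E8Wt
import Cfsg.Agent.Lib.Helper3.ChevData.E8Vs
import Cfsg.Agent.Lib.Helper3.ChevData.E8Cv
import Cfsg.Agent.Lib.Helper3.ChevData.E8Sc
import Cfsg.Agent.Lib.Helper3.ChevData.E8Srwc
import Cfsg.Agent.Lib.Helper3.ChevData.E8Sign
import Cfsg.Agent.Lib.Helper3.ChevData.E8Hdec
import Cfsg.Agent.Lib.Helper3.ChevData.E8Rel
set_option autoImplicit false

namespace Cfsg.Agent.Lib.Helper3.ChevM

/-- The table checks for the Levi decomposition, type E8. -/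
def leviE8 : LeviHyp cdE8 relE8 where
  vec := vecE8
  wt := e8Wt
  vs := e8Vs
  cv := of_pairRange (m := 240) (n := 240) e8Cv
  sc := e8Sc
  rw := srwE8
  hrw := e8Srwc
  sign := e8Sign
  dec := of_pairRange (m := 240) (n := 240) e8Hdec

end Cfsg.Agent.Lib.Helper3.ChevM
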