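import Cfsg.Agent.Lib.Helper3.ChevData.F4VecA
set_option autoImplicit false

namespace Cfsg.Agent.Lib.Helper3.ChevM

/-- The Cartan integers of type F4 are linear in the roots. -/
theorem f4Vec : ∀ r < 192, ((fun k => vecCheck Cfsg.Lie.chevF4 vecF4 (k / 48) (k % 48))) r = true := by
  intro r hr
  exact f4Vec_0 r (by omega) hr

end Cfsg.Agent.Lib.Helper3.ChevM
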