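import Mathlib
import Cfsg.Prelude.Def_ChevF4
set_option autoImplicit false
set_option maxRecDepth 1000000

namespace Cfsg.Agent.Lib.Helper3.ChevM

/-- Coefficients of the roots of type F4 on the fundamental roots. -/
def vecF4 (r j : ℕ) : ℤ := ((#[#[-2, -4, -3, -2], #[-2, -4, -3, -1], #[-2, -4, -2, -1], #[-2, -3, -2, -1], #[-2, -2, -2, -1], #[-2, -2, -1, -1], #[-2, -2, -1, 0], #[-1, -3, -2, -1], #[-1, -2, -2, -1], #[-1, -2, -1, -1], #[-1, -2, -1, 0], #[-1, -1, -1, -1], #[-1, -1, -1, 0], #[-1, -1, 0, 0], #[-1, 0, 0, 0], #[0, -2, -2, -1], #[0, -2, -1, -1], #[0, -2, -1, 0], #[0, -1, -1, -1], #[0, -1, -1, 0], #[0, -1, 0, 0], #[0, 0, -1, -1], #[0, 0, -1, 0], #[0, 0, 0, -1], #[0, 0, 0, 1], #[0, 0, 1, 0], #[0, 0, 1, 1], #[0, 1, 0, 0], #[0, 1, 1, 0], #[0, 1, 1, 1], #[0, 2, 1, 0], #[0, 2, 1, 1], #[0, 2, 2, 1], #[1, 0, 0, 0], #[1, 1, 0, 0], #[1, 1, 1, 0],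 #[1, 1, 1, 1], #[1, 2, 1, 0], #[1, 2, 1, 1], #[1, 2, 2, 1], #[1, 3, 2, 1], #[2, 2, 1, 0], #[2, 2, 1, 1], #[2, 2, 2, 1], #[2, 3, 2, 1], #[2, 4, 2, 1], #[2, 4, 3, 1], #[2, 4, 3, 2]] : Array (Array ℤ)).getD r #[]).getD j 0

/-- Left factor of the diagonal form of the Cartan matrix, type F4. -/
def smPF4 : Matrix (Fin 4) (Fin 4) ℤ := Matrix.of fun i j => ((#[#[-1, 0, 0, 0], #[1, 0, -1, 0], #[-2, -1, 0, 0], #[-2, -2, -2, -1]] : Array (Array ℤ)).getD i.val #[]).getD j.val 0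

/-- Right factor, type F4. -/
def smQF4 : Matrix (Fin 4) (Fin 4) ℤ := Matrix.of fun i j => ((#[#[0, 0, 1, -2], #[1, 0, 2, -4], #[0, 0, 2, -3], #[0, 1, 2, -2]] : Array (Array ℤ)).getD i.val #[]).getD j.val 0

/-- Inverse of the left factor, type F4. -/
def smPiF4 : Matrix (Fin 4) (Fin 4) ℤ := Matrix.of fun i j => ((#[#[-1, 0, 0, 0], #[2, 0, -1, 0], #[-1, -1, 0, 0], #[0, 2, 2, -1]] : Array (Array ℤ)).getD i.val #[]).getD j.val 0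

/-- Inverse of the right factor, type F4. -/
def smQiF4 : Matrix (Fin 4) (Fin 4) ℤ := Matrix.of fun i j => ((#[#[-2, 1, 0, 0], #[2, 0, -2, 1], #[-3, 0, 2, 0], #[-2, 0, 1, 0]] : Array (Array ℤ)).getD i.val #[]).getD j.val 0

/-- The diagonal form of the Cartan matrix of type F4. -/
def smDF4 (k : Fin 4) : ℕ := (#[1, 1, 1, 1] : Array ℕ).getD k.val 0

end Cfsg.Agent.Lib.Helper3.ChevM
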