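import Cfsg.Prelude.Def_ChevF4
import Cfsg.Agent.Lib.Helper3.ChevData.F4Hd2
import Cfsg.Agent.Lib.Helper3.ChevL2
set_option autoImplicit false
set_option maxRecDepth 1000000
set_option Elab.async false

namespace Cfsg.Agent.Lib.Helper3.ChevM

theorem f4Cv_1_576 : allRange 576 624 (fun k => commVecCheck Cfsg.Lie.chevF4 vecF4 (k / 48) (k % 48)) = true := by decide +kernel
theorem f4Cv_1_624 : allRange 624 672 (fun k => commVecCheck Cfsg.Lie.chevF4 vecF4 (k / 48) (k % 48)) = true := by decide +kernel
theorem f4Cv_1_672 : allRange 672 720 (fun k => commVecCheck Cfsg.Lie.chevF4 vecF4 (k / 48) (k % 48)) = true := by decide +kernel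
theorem f4Cv_1_720 : allRange 720 768 (fun k => commVecCheck Cfsg.Lie.chevF4 vecF4 (k / 48) (k % 48)) = true := by decide +kernel
theorem f4Cv_1_768 : allRange 768 816 (fun k => commVecCheck Cfsg.Lie.chevF4 vecF4 (k / 48) (k % 48)) = true := by decide +kernel
theorem f4Cv_1_816 : allRange 816 864 (fun k => commVecCheck Cfsg.Lie.chevF4 vecF4 (k / 48) (k % 48)) = true := by decide +kernel
theorem f4Cv_1_864 : allRange 864 912 (fun k => commVecCheck Cfsg.Lie.chevF4 vecF4 (k / 48) (k % 48)) = true := by decide +kernel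
theorem f4Cv_1_912 : allRange 912 960 (fun k => commVecCheck Cfsg.Lie.chevF4 vecF4 (k / 48) (k % 48)) = true := by decide +kernel
theorem f4Cv_1_960 : allRange 960 1008 (fun k => commVecCheck Cfsg.Lie.chevF4 vecF4 (k / 48) (k % 48)) = true := by decide +kernel
theorem f4Cv_1_1008 : allRange 1008 1056 (fun k => commVecCheck Cfsg.Lie.chevF4 vecF4 (k / 48) (k % 48)) = true := by decide +kernel
theorem f4Cv_1_1056 : allRange 1056 1104 (fun k => commVecCheck Cfsg.Lie.chevF4 vecF4 (k / 48) (k % 48)) = true := by decide +kernel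
theorem f4Cv_1_1104 : allRange 1104 1152 (fun k => commVecCheck Cfsg.Lie.chevF4 vecF4 (k / 48) (k % 48)) = true := by decide +kernel

/-- The roots of the commutator formula of type F4 are the expected combinations (roots 576 to 1151). -/
theorem f4Cv_1 : ∀ r, 576 ≤ r → r < 1152 → (fun k => commVecCheck Cfsg.Lie.chevF4 vecF4 (k / 48) (k % 48)) r = true := by
  intro r h1 h2
  by_cases c0 : r < 624
  · exact allRange_spec f4Cv_1_576 r (by omega) c0
  by_cases c1 : r < 672
  · exact allRange_spec f4Cv_1_624 r (by omega) c1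
  by_cases c2 : r < 720
  · exact allRange_spec f4Cv_1_672 r (by omega) c2
  by_cases c3 : r < 768
  · exact allRange_spec f4Cv_1_720 r (by omega) c3
  by_cases c4 : r < 816
  · exact allRange_spec f4Cv_1_768 r (by omega) c4
  by_cases c5 : r < 864
  · exact allRange_spec f4Cv_1_816 r (by omega) c5
  by_cases c6 : r < 912
  · exact allRange_spec f4Cv_1_864 r (by omega) c6
  by_cases c7 : r < 960
  · exact allRange_spec f4Cv_1_912 r (by omega) c7
  by_cases c8 : r < 1008
  · exact allRange_spec f4Cv_1_960 r (by omega) c8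
  by_cases c9 : r < 1056
  · exact allRange_spec f4Cv_1_1008 r (by omega) c9
  by_cases c10 : r < 1104
  · exact allRange_spec f4Cv_1_1056 r (by omega) c10
  exact allRange_spec f4Cv_1_1104 r (by omega) h2

end Cfsg.Agent.Lib.Helper3.ChevM
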