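import Cfsg.Prelude.Def_ChevF4
import Cfsg.Agent.Lib.Helper3.ChevData.F4Hd2
import Cfsg.Agent.Lib.Helper3.ChevL2
set_option autoImplicit false
set_option maxRecDepth 1000000
set_option Elab.async false

namespace Cfsg.Agent.Lib.Helper3.ChevM

theorem f4Cv_2_1152 : allRange 1152 1200 (fun k => commVecCheck Cfsg.Lie.chevF4 vecF4 (k / 48) (k % 48)) = true := by decide +kernel
theorem f4Cv_2_1200 : allRange 1200 1248 (fun k => commVecCheck Cfsg.Lie.chevF4 vecF4 (k / 48) (k % 48)) = true := by decide +kernel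
theorem f4Cv_2_1248 : allRange 1248 1296 (fun k => commVecCheck Cfsg.Lie.chevF4 vecF4 (k / 48) (k % 48)) = true := by decide +kernel
theorem f4Cv_2_1296 : allRange 1296 1344 (fun k => commVecCheck Cfsg.Lie.chevF4 vecF4 (k / 48) (k % 48)) = true := by decide +kernel
theorem f4Cv_2_1344 : allRange 1344 1392 (fun k => commVecCheck Cfsg.Lie.chevF4 vecF4 (k / 48) (k % 48)) = true := by decide +kernel
theorem f4Cv_2_1392 : allRange 1392 1440 (fun k => commVecCheck Cfsg.Lie.chevF4 vecF4 (k / 48) (k % 48)) = true := by decide +kernel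
theorem f4Cv_2_1440 : allRange 1440 1488 (fun k => commVecCheck Cfsg.Lie.chevF4 vecF4 (k / 48) (k % 48)) = true := by decide +kernel
theorem f4Cv_2_1488 : allRange 1488 1536 (fun k => commVecCheck Cfsg.Lie.chevF4 vecF4 (k / 48) (k % 48)) = true := by decide +kernel
theorem f4Cv_2_1536 : allRange 1536 1584 (fun k => commVecCheck Cfsg.Lie.chevF4 vecF4 (k / 48) (k % 48)) = true := by decide +kernel
theorem f4Cv_2_1584 : allRange 1584 1632 (fun k => commVecCheck Cfsg.Lie.chevF4 vecF4 (k / 48) (k % 48)) = true := by decide +kernel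
theorem f4Cv_2_1632 : allRange 1632 1680 (fun k => commVecCheck Cfsg.Lie.chevF4 vecF4 (k / 48) (k % 48)) = true := by decide +kernel
theorem f4Cv_2_1680 : allRange 1680 1728 (fun k => commVecCheck Cfsg.Lie.chevF4 vecF4 (k / 48) (k % 48)) = true := by decide +kernel

/-- The roots of the commutator formula of type F4 are the expected combinations (roots 1152 to 1727). -/
theorem f4Cv_2 : ∀ r, 1152 ≤ r → r < 1728 → (fun k => commVecCheck Cfsg.Lie.chevF4 vecF4 (k / 48) (k % 48)) r = true := by
  intro r h1 h2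
  by_cases c0 : r < 1200
  · exact allRange_spec f4Cv_2_1152 r (by omega) c0
  by_cases c1 : r < 1248
  · exact allRange_spec f4Cv_2_1200 r (by omega) c1
  by_cases c2 : r < 1296
  · exact allRange_spec f4Cv_2_1248 r (by omega) c2
  by_cases c3 : r < 1344
  · exact allRange_spec f4Cv_2_1296 r (by omega) c3
  by_cases c4 : r < 1392
  · exact allRange_spec f4Cv_2_1344 r (by omega) c4
  by_cases c5 : r < 1440
  · exact allRange_spec f4Cv_2_1392 r (by omega) c5
  by_cases c6 : r < 1488
  · exact allRange_spec f4Cv_2_1440 r (by omega) c6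
  by_cases c7 : r < 1536
  · exact allRange_spec f4Cv_2_1488 r (by omega) c7
  by_cases c8 : r < 1584
  · exact allRange_spec f4Cv_2_1536 r (by omega) c8
  by_cases c9 : r < 1632
  · exact allRange_spec f4Cv_2_1584 r (by omega) c9
  by_cases c10 : r < 1680
  · exact allRange_spec f4Cv_2_1632 r (by omega) c10
  exact allRange_spec f4Cv_2_1680 r (by omega) h2

end Cfsg.Agent.Lib.Helper3.ChevM
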