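import Cfsg.Prelude.Def_ChevF4
import Cfsg.Agent.Lib.Helper3.ChevData.F4Hd2
import Cfsg.Agent.Lib.Helper3.ChevL2
set_option autoImplicit false
set_option maxRecDepth 1000000
set_option Elab.async false

namespace Cfsg.Agent.Lib.Helper3.ChevM

theorem f4Cv_3_1728 : allRange 1728 1776 (fun k => commVecCheck Cfsg.Lie.chevF4 vecF4 (k / 48) (k % 48)) = true := by decide +kernel
theorem f4Cv_3_1776 : allRange 1776 1824 (fun k => commVecCheck Cfsg.Lie.chevF4 vecF4 (k / 48) (k % 48)) = true := by decide +kernel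
theorem f4Cv_3_1824 : allRange 1824 1872 (fun k => commVecCheck Cfsg.Lie.chevF4 vecF4 (k / 48) (k % 48)) = true := by decide +kernel
theorem f4Cv_3_1872 : allRange 1872 1920 (fun k => commVecCheck Cfsg.Lie.chevF4 vecF4 (k / 48) (k % 48)) = true := by decide +kernel
theorem f4Cv_3_1920 : allRange 1920 1968 (fun k => commVecCheck Cfsg.Lie.chevF4 vecF4 (k / 48) (k % 48)) = true := by decide +kernel
theorem f4Cv_3_1968 : allRange 1968 2016 (fun k => commVecCheck Cfsg.Lie.chevF4 vecF4 (k / 48) (k % 48)) = true := by decide +kernel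
theorem f4Cv_3_2016 : allRange 2016 2064 (fun k => commVecCheck Cfsg.Lie.chevF4 vecF4 (k / 48) (k % 48)) = true := by decide +kernel
theorem f4Cv_3_2064 : allRange 2064 2112 (fun k => commVecCheck Cfsg.Lie.chevF4 vecF4 (k / 48) (k % 48)) = true := by decide +kernel
theorem f4Cv_3_2112 : allRange 2112 2160 (fun k => commVecCheck Cfsg.Lie.chevF4 vecF4 (k / 48) (k % 48)) = true := by decide +kernel
theorem f4Cv_3_2160 : allRange 2160 2208 (fun k => commVecCheck Cfsg.Lie.chevF4 vecF4 (k / 48) (k % 48)) = true := by decide +kernel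
theorem f4Cv_3_2208 : allRange 2208 2256 (fun k => commVecCheck Cfsg.Lie.chevF4 vecF4 (k / 48) (k % 48)) = true := by decide +kernel
theorem f4Cv_3_2256 : allRange 2256 2304 (fun k => commVecCheck Cfsg.Lie.chevF4 vecF4 (k / 48) (k % 48)) = true := by decide +kernel

/-- The roots of the commutator formula of type F4 are the expected combinations (roots 1728 to 2303). -/
theorem f4Cv_3 : ∀ r, 1728 ≤ r → r < 2304 → (fun k => commVecCheck Cfsg.Lie.chevF4 vecF4 (k / 48) (k % 48)) r = true := by
  intro r h1 h2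
  by_cases c0 : r < 1776
  · exact allRange_spec f4Cv_3_1728 r (by omega) c0
  by_cases c1 : r < 1824
  · exact allRange_spec f4Cv_3_1776 r (by omega) c1
  by_cases c2 : r < 1872
  · exact allRange_spec f4Cv_3_1824 r (by omega) c2
  by_cases c3 : r < 1920
  · exact allRange_spec f4Cv_3_1872 r (by omega) c3
  by_cases c4 : r < 1968
  · exact allRange_spec f4Cv_3_1920 r (by omega) c4
  by_cases c5 : r < 2016
  · exact allRange_spec f4Cv_3_1968 r (by omega) c5
  by_cases c6 : r < 2064
  · exact allRange_spec f4Cv_3_2016 r (by omega) c6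
  by_cases c7 : r < 2112
  · exact allRange_spec f4Cv_3_2064 r (by omega) c7
  by_cases c8 : r < 2160
  · exact allRange_spec f4Cv_3_2112 r (by omega) c8
  by_cases c9 : r < 2208
  · exact allRange_spec f4Cv_3_2160 r (by omega) c9
  by_cases c10 : r < 2256
  · exact allRange_spec f4Cv_3_2208 r (by omega) c10
  exact allRange_spec f4Cv_3_2256 r (by omega) h2

end Cfsg.Agent.Lib.Helper3.ChevM
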