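import Cfsg.Agent.Lib.Helper3.ChevData.F4CvA
import Cfsg.Agent.Lib.Helper3.ChevData.F4CvB
import Cfsg.Agent.Lib.Helper3.ChevData.F4CvC
import Cfsg.Agent.Lib.Helper3.ChevData.F4CvD
set_option autoImplicit false

namespace Cfsg.Agent.Lib.Helper3.ChevM

/-- The roots of the commutator formula of type F4 are the expected combinations. -/
theorem f4Cv : ∀ r < 2304, (fun k => commVecCheck Cfsg.Lie.chevF4 vecF4 (k / 48) (k % 48)) r = true := by
  intro r hr
  by_cases h0 : r < 576
  · exact f4Cv_0 r (by omega) h0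
  by_cases h1 : r < 1152
  · exact f4Cv_1 r (by omega) h1
  by_cases h2 : r < 1728
  · exact f4Cv_2 r (by omega) h2
  exact f4Cv_3 r (by omega) hr

end Cfsg.Agent.Lib.Helper3.ChevM
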