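import Cfsg.Agent.Lib.Helper3.ChevData.F4ConjA
set_option autoImplicit false

namespace Cfsg.Agent.Lib.Helper3.ChevM

/-- Conjugation of root elements by the `n_p` of type F4. -/
theorem f4Conj : ∀ r < 192, ((fun k => cdF4.checkConj (k / 48) (cdF4.cartI pairF4 (k / 48)) (reflF4 (k / 48)) (etaF4 (k / 48)) (k % 48))) r = true := by
  intro r hr
  exact f4Conj_0 r (by omega) hr

end Cfsg.Agent.Lib.Helper3.ChevM
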