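import Cfsg.Agent.Lib.Helper3.ChevData.F4DxA
set_option autoImplicit false

namespace Cfsg.Agent.Lib.Helper3.ChevM

/-- Conjugation of root elements by the `h_p(c)` of type F4. -/
theorem f4Dx : ∀ r < 192, ((fun k => cdF4.checkDX (cdF4.expo pairF4 (Cfsg.Lie.chevF4.simple (k / 48))) (pairF4 (Cfsg.Lie.chevF4.simple (k / 48)) (k % 48)) (k % 48))) r = true := by
  intro r hr
  exact f4Dx_0 r (by omega) hr

end Cfsg.Agent.Lib.Helper3.ChevM
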