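import Cfsg.Agent.Lib.Helper3.ChevData.F4NchkA
set_option autoImplicit false

namespace Cfsg.Agent.Lib.Helper3.ChevM

/-- Monomial form of the `n_p` of type F4. -/
theorem f4Nchk : ∀ r < 4, ((fun i => cdF4.checkN i (cdF4.cartI pairF4 i) (reflF4 i) (etaF4 i))) r = true := by
  intro r hr
  exact f4Nchk_0 r (by omega) hr

end Cfsg.Agent.Lib.Helper3.ChevM
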