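import Cfsg.Agent.Lib.Helper3.ChevData.F4Add
import Cfsg.Agent.Lib.Helper3.ChevData.F4Hd
import Cfsg.Agent.Lib.Helper3.ChevData.F4Tab
import Cfsg.Agent.Lib.Helper3.ChevData.F4Eta
import Cfsg.Agent.Lib.Helper3.ChevData.F4Nchk
import Cfsg.Agent.Lib.Helper3.ChevData.F4Conj
import Cfsg.Agent.Lib.Helper3.ChevData.F4Dx
import Cfsg.Agent.Lib.Helper3.ChevData.F4Nd
set_option autoImplicit false
set_option maxRecDepth 1000000

namespace Cfsg.Agent.Lib.Helper3.ChevM

/-- The relation data of type F4. -/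
def relF4 : RelData cdF4 where
  pair := pairF4
  refl := reflF4
  eta := etaF4
  neg_lt := by decide +kernel
  simple_lt := by decide +kernel
  tab := of_pairRange (m := 4) (n := 48) f4Tab
  etaOk := of_pairRange (m := 4) (n := 48) f4Eta
  etaSimple := by decide +kernel
  add := f4Add
  hdiag := f4Hd
  nchk := f4Nchk
  conj := of_pairRange (m := 4) (n := 48) f4Conj
  dx := of_pairRange (m := 4) (n := 48) f4Dx
  nd := of_pairRange (m := 4) (n := 4) f4Nd

end Cfsg.Agent.Lib.Helper3.ChevM
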