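import Cfsg.Agent.Lib.Helper3.ChevData.F4Wt
import Cfsg.Agent.Lib.Helper3.ChevData.F4Vs
import Cfsg.Agent.Lib.Helper3.ChevData.F4Cv
import Cfsg.Agent.Lib.Helper3.ChevData.F4Sc
import Cfsg.Agent.Lib.Helper3.ChevData.F4Srwc
import Cfsg.Agent.Lib.Helper3.ChevData.F4Sign
import Cfsg.Agent.Lib.Helper3.ChevData.F4Hdec
import Cfsg.Agent.Lib.Helper3.ChevData.F4Rel
set_option autoImplicit false

namespace Cfsg.Agent.Lib.Helper3.ChevM

/-- The table checks for the Levi decomposition, type F4. -/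
def leviF4 : LeviHyp cdF4 relF4 where
  vec := vecF4
  wt := f4Wt
  vs := f4Vs
  cv := of_pairRange (m := 48) (n := 48) f4Cv
  sc := f4Sc
  rw := srwF4
  hrw := f4Srwc
  sign := f4Sign
  dec := of_pairRange (m := 48) (n := 48) f4Hdec

end Cfsg.Agent.Lib.Helper3.ChevM
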