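import Cfsg.Prelude.Def_ChevG2
import Cfsg.Agent.Lib.Helper3.ChevData.G2Hd2
import Cfsg.Agent.Lib.Helper3.ChevL2
set_option autoImplicit false
set_option maxRecDepth 1000000
set_option Elab.async false

namespace Cfsg.Agent.Lib.Helper3.ChevM

theorem g2Cv_1_72 : allRange 72 84 (fun k => commVecCheck Cfsg.Lie.chevG2 vecG2 (k / 12) (k % 12)) = true := by decide +kernel
theorem g2Cv_1_84 : allRange 84 96 (fun k => commVecCheck Cfsg.Lie.chevG2 vecG2 (k / 12) (k % 12)) = true := by decide +kernel
theorem g2Cv_1_96 : allRange 96 108 (fun k => commVecCheck Cfsg.Lie.chevG2 vecG2 (k / 12) (k % 12)) = true := by decide +kernel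
theorem g2Cv_1_108 : allRange 108 120 (fun k => commVecCheck Cfsg.Lie.chevG2 vecG2 (k / 12) (k % 12)) = true := by decide +kernel
theorem g2Cv_1_120 : allRange 120 132 (fun k => commVecCheck Cfsg.Lie.chevG2 vecG2 (k / 12) (k % 12)) = true := by decide +kernel
theorem g2Cv_1_132 : allRange 132 144 (fun k => commVecCheck Cfsg.Lie.chevG2 vecG2 (k / 12) (k % 12)) = true := by decide +kernel

/-- The roots of the commutator formula of type G2 are the expected combinations (roots 72 to 143). -/
theorem g2Cv_1 : ∀ r, 72 ≤ r → r < 144 → (fun k => commVecCheck Cfsg.Lie.chevG2 vecG2 (k / 12) (k % 12)) r = true := by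
  intro r h1 h2
  by_cases c0 : r < 84
  · exact allRange_spec g2Cv_1_72 r (by omega) c0
  by_cases c1 : r < 96
  · exact allRange_spec g2Cv_1_84 r (by omega) c1
  by_cases c2 : r < 108
  · exact allRange_spec g2Cv_1_96 r (by omega) c2
  by_cases c3 : r < 120
  · exact allRange_spec g2Cv_1_108 r (by omega) c3
  by_cases c4 : r < 132
  · exact allRange_spec g2Cv_1_120 r (by omega) c4
  exact allRange_spec g2Cv_1_132 r (by omega) h2

end Cfsg.Agent.Lib.Helper3.ChevM
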