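import Cfsg.Agent.Lib.Helper3.ChevData.G2ScA
set_option autoImplicit false

namespace Cfsg.Agent.Lib.Helper3.ChevM

/-- The coroots of the fundamental roots of type G2. -/
theorem g2Sc : ∀ r < 2, ((fun j => simpleCorootCheck Cfsg.Lie.chevG2 j)) r = true := by
  intro r hr
  exact g2Sc_0 r (by omega) hr

end Cfsg.Agent.Lib.Helper3.ChevM
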