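import Cfsg.Agent.Lib.Helper3.ChevData.G2SrwcA
set_option autoImplicit false

namespace Cfsg.Agent.Lib.Helper3.ChevM

/-- Every root of type G2 is conjugate to a fundamental root inside its support. -/
theorem g2Srwc : ∀ r < 12, ((fun r => suppWordCheck Cfsg.Lie.chevG2 reflG2 srwG2 r)) r = true := by
  intro r hr
  exact g2Srwc_0 r (by omega) hr

end Cfsg.Agent.Lib.Helper3.ChevM
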