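import Cfsg.Agent.Lib.Helper3.ChevData.G2VsA
set_option autoImplicit false

namespace Cfsg.Agent.Lib.Helper3.ChevM

/-- The coefficients of the roots and coroots of type G2 have the same signs. -/
theorem g2Vs : ∀ r < 12, (fun r => vecSignCheck Cfsg.Lie.chevG2 vecG2 r) r = true := by
  intro r hr
  exact g2Vs_0 r (by omega) hr

end Cfsg.Agent.Lib.Helper3.ChevM
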