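import Cfsg.Agent.Lib.Helper3.ChevData.G2Wt
import Cfsg.Agent.Lib.Helper3.ChevData.G2Vs
import Cfsg.Agent.Lib.Helper3.ChevData.G2Cv
import Cfsg.Agent.Lib.Helper3.ChevData.G2Sc
import Cfsg.Agent.Lib.Helper3.ChevData.G2Srwc
import Cfsg.Agent.Lib.Helper3.ChevData.G2Sign
import Cfsg.Agent.Lib.Helper3.ChevData.G2Hdec
import Cfsg.Agent.Lib.Helper3.ChevData.G2Rel
set_option autoImplicit false

namespace Cfsg.Agent.Lib.Helper3.ChevM

/-- The table checks for the Levi decomposition, type G2. -/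
def leviG2 : LeviHyp cdG2 relG2 where
  vec := vecG2
  wt := g2Wt
  vs := g2Vs
  cv := of_pairRange (m := 12) (n := 12) g2Cv
  sc := g2Sc
  rw := srwG2
  hrw := g2Srwc
  sign := g2Sign
  dec := of_pairRange (m := 12) (n := 12) g2Hdec

end Cfsg.Agent.Lib.Helper3.ChevM
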