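import Cfsg.Agent.Lib.Helper3.ChevM5
set_option autoImplicit false

namespace Cfsg.Agent.Lib.Helper3.ChevM

/-- Packed table of the integers `⟨s, r^∨⟩ + 3` of type D4. -/
def pairD4P (r : ℕ) : ℕ :=
  cond (Nat.blt r 12) (cond (Nat.blt r 6) (cond (Nat.blt r 3) (cond (Nat.blt r 1) (cond (Nat.beq r 0) 758969771202433894693 0) (cond (Nat.blt r 2) (cond (Nat.beq r 1) 1275605030902210640172 0) (cond (Nat.beq r 2) 1341179442708265977700 0))) (cond (Nat.blt r 4) (cond (Nat.beq r 3) 1357320837331105499876 0) (cond (Nat.blt r 5) (cond (Nat.beq r 4) 1422895249137160837404 0) (cond (Nat.beq r 5) 1939530508836937582883 0)))) (cond (Nat.blt r 9) (cond (Nat.blt r 7) (cond (Nat.beq r 6) 1359945871866549577444 0) (cond (Nat.blt r 8) (cond (Nat.beq r 7) 1425520283672604914972 0) (cond (Nat.beq r 8) 1441661678295444437148 0))) (cond (Nat.blt r 10) (cond (Nat.beq r 9) 1507236090101499774676 0) (cond (Nat.blt r 11) (cond (Nat.beq r 10) 1942155543372381660451 0) (cond (Nat.beq r 11) 1958296937995221182627 0))))) (cond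 (Nat.blt r 18) (cond (Nat.blt r 15) (cond (Nat.blt r 13) (cond (Nat.beq r 12) 2089445761607331857683 0) (cond (Nat.blt r 14) (cond (Nat.beq r 13) 2105587156230171379859 0) (cond (Nat.beq r 14) 2540506609501053265634 0))) (cond (Nat.blt r 16) (cond (Nat.beq r 15) 2606081021307108603162 0) (cond (Nat.blt r 17) (cond (Nat.beq r 16) 2622222415929948125338 0) (cond (Nat.beq r 17) 2687796827736003462866 0)))) (cond (Nat.blt r 21) (cond (Nat.blt r 19) (cond (Nat.beq r 18) 2108212190765615457427 0) (cond (Nat.blt r 20) (cond (Nat.beq r 19) 2624847450465392202906 0) (cond (Nat.beq r 20) 2690421862271447540434 0))) (cond (Nat.blt r 22) (cond (Nat.beq r 21) 2706563256894287062610 0) (cond (Nat.blt r 23) (cond (Nat.beq r 22) 2772137668700342400138 0) (cond (Nat.beq r 23) 3288772928400119145617 0)))))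

/-- The integer `⟨s, r^∨⟩` (the exponent of `h_r(c)` on `e_s`) of type D4. -/
def pairD4 (r s : ℕ) : ℤ := Int.ofNat (getField 3 7 (pairD4P r) s) - 3

/-- Packed table of the reflections in the fundamental roots of type D4. -/
def reflD4P (i : ℕ) : ℕ :=
  cond (Nat.blt i 2) (cond (Nat.blt i 1) (cond (Nat.beq i 0) 565592643864087472290204273757603651193062799363369534976 0) (cond (Nat.beq i 1) 541649279090809664310305499994679834166397163664360734721 0)) (cond (Nat.blt i 3) (cond (Nat.beq i 2) 565881119482020990812274433957960368099339668429056770816 0) (cond (Nat.beq i 3) 565978018496368764364970633948976412520310965285293195776 0))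

/-- The root `w_{p_i}(s)` of type D4. -/
def reflD4 (i s : ℕ) : ℕ := getField 8 255 (reflD4P i) s

/-- Packed table of the signs `η_{p_i,s}` of type D4 (bit set for `-1`). -/
def etaD4P (i : ℕ) : ℕ :=
  cond (Nat.blt i 2) (cond (Nat.blt i 1) (cond (Nat.beq i 0) 508896 0) (cond (Nat.beq i 1) 8945169 0)) (cond (Nat.blt i 3) (cond (Nat.beq i 2) 6497478 0) (cond (Nat.beq i 3) 5413194 0))

/-- The sign `η_{p_i,s}` with `n_{p_i} e_s = η e_{w(s)}` of type D4. -/
def etaD4 (i s : ℕ) : ℤ := cond (Nat.beq (getField 1 1 (etaD4P i) s) 1) (-1) 1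

end Cfsg.Agent.Lib.Helper3.ChevM
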