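import Cfsg.Agent.Lib.Helper3.ChevM9
set_option autoImplicit false

namespace Cfsg.Agent.Lib.Helper3.ChevM

/-- Packed table of the fundamental reflections used to derive the commutator formula of type D4. -/
def witD4P (r : ℕ) : ℕ :=
  cond (Nat.blt r 12) (cond (Nat.blt r 6) (cond (Nat.blt r 3) (cond (Nat.blt r 1) (cond (Nat.beq r 0) 20137157657555890786650816516 0) (cond (Nat.blt r 2) (cond (Nat.beq r 1) 1237940039285380274899124288 0) (cond (Nat.beq r 2) 77371252455336267181196288 0))) (cond (Nat.blt r 4) (cond (Nat.beq r 3) 4835703278458516698841088 0) (cond (Nat.blt r 5) (cond (Nat.beq r 4) 302231454903657293938688 0) (cond (Nat.beq r 5) 18889465931478585049088 0)))) (cond (Nat.blt r 9) (cond (Nat.blt r 7) (cond (Nat.beq r 6) 10254265860005108951621378593 0) (cond (Nat.blt r 8) (cond (Nat.beq r 7) 5281877556291188061503557905 0) (cond (Nat.beq r 8) 5281877504409720366275039505 0))) (cond (Nat.blt r 10) (cond (Nat.beq r 9) 5281877501167128827841810705 0) (cond (Nat.blt r 11) (cond (Nat.beq r 10) 10563754372271664374000648194 0) (cond (Nat.beq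 r 11) 15844347074710939887451766787 0))))) (cond (Nat.blt r 18) (cond (Nat.blt r 15) (cond (Nat.blt r 13) (cond (Nat.beq r 12) 5281877186132224689349591041 0) (cond (Nat.blt r 14) (cond (Nat.beq r 13) 5281877186144841585278320641 0) (cond (Nat.beq r 14) 288230651029618688 0))) (cond (Nat.blt r 16) (cond (Nat.beq r 15) 4611686035607257088 0) (cond (Nat.blt r 17) (cond (Nat.beq r 16) 73786976295911948288 0) (cond (Nat.beq r 17) 1180591620717478412288 0)))) (cond (Nat.blt r 21) (cond (Nat.blt r 19) (cond (Nat.beq r 18) 5281891668050404448508383505 0) (cond (Nat.blt r 20) (cond (Nat.beq r 19) 10563906117629363507786162722 0) (cond (Nat.beq r 20) 10256683121348527851231592993 0))) (cond (Nat.blt r 22) (cond (Nat.beq r 21) 15245995851581475412990047281 0) (cond (Nat.blt r 23) (cond (Nat.beq r 22) 6210332530414991045743939905 0) (cond (Nat.beq r 23) 21105596964044775001579061252 0)))))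

/-- The fundamental reflection used for the pair `(r, s)` (`≥ rank` for brute force) of type D4. -/
def witD4 (r s : ℕ) : ℕ := getField 4 15 (witD4P r) s

end Cfsg.Agent.Lib.Helper3.ChevM
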