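import Cfsg.Agent.Lib.Helper3.ChevData.E6GrColA
import Cfsg.Agent.Lib.Helper3.ChevData.E6Rel
set_option autoImplicit false
set_option maxRecDepth 1000000

namespace Cfsg.Agent.Lib.Helper3.ChevM

/-- The graph automorphism data of type E6 (A). -/
def graphE6A : GraphData cdE6 where
  p := grPE6A
  pInv := grPInvE6A
  rho := grRhoE6A
  rhoInv := grRhoInvE6A
  eps := grEpsE6A
  tab := by decide +kernel
  col := of_pairRange (m := 72) (n := 78) e6GrColA

/-- The graph automorphism of the Chevalley group of type E6 (A). -/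
theorem e6GraphAutA {F : Type*} [Field F] :
    ∃ α : ↥(cdE6.D.group F) ≃* ↥(cdE6.D.group F), ∀ (g : ↥(cdE6.D.group F)) (i : ℕ) (t : F), i < cdE6.D.rank →
      (((g : GL cdE6.D.Idx F) : Matrix cdE6.D.Idx cdE6.D.Idx F) = cdE6.D.x F (cdE6.D.simple i) t →
        ((α g : GL cdE6.D.Idx F) : Matrix cdE6.D.Idx cdE6.D.Idx F) = cdE6.D.x F (cdE6.D.simple (([5, 1, 4, 3, 2, 0] : List ℕ).getD i 0)) t) ∧
      (((g : GL cdE6.D.Idx F) : Matrix cdE6.D.Idx cdE6.D.Idx F) = cdE6.D.x F (cdE6.D.neg (cdE6.D.simple i)) t →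
        ((α g : GL cdE6.D.Idx F) : Matrix cdE6.D.Idx cdE6.D.Idx F) = cdE6.D.x F (cdE6.D.neg (cdE6.D.simple (([5, 1, 4, 3, 2, 0] : List ℕ).getD i 0))) t) :=
  graphE6A.exists_aut relE6 [5, 1, 4, 3, 2, 0] (by decide +kernel) (by decide +kernel)

end Cfsg.Agent.Lib.Helper3.ChevM
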