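import Cfsg.Prelude.Def_ChevE7
set_option autoImplicit false

namespace Cfsg.Agent.Lib.Helper3.ChevM

/-- Parents in a spanning tree of the Dynkin diagram of type E7 (root 0). -/
def parE7 (i : ℕ) : ℕ := (#[0, 3, 0, 2, 3, 4, 5] : Array ℕ).getD i 0

/-- Depths in the spanning tree. -/
def depE7 (i : ℕ) : ℕ := (#[0, 3, 1, 2, 3, 4, 5] : Array ℕ).getD i 0

end Cfsg.Agent.Lib.Helper3.ChevM
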