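import Cfsg.Agent.Lib.Helper3.ChevData.D4GrColD
import Cfsg.Agent.Lib.Helper3.ChevData.D4Rel
set_option autoImplicit false
set_option maxRecDepth 1000000

namespace Cfsg.Agent.Lib.Helper3.ChevM

/-- The graph automorphism data of type D4 (D). -/
def graphD4D : GraphData cdD4 where
  p := grPD4D
  pInv := grPInvD4D
  rho := grRhoD4D
  rhoInv := grRhoInvD4D
  eps := grEpsD4D
  tab := by decide +kernel
  col := of_pairRange (m := 24) (n := 28) d4GrColD

/-- The graph automorphism of the Chevalley group of type D4 (D). -/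
theorem d4GraphAutD {F : Type*} [Field F] :
    ∃ α : ↥(cdD4.D.group F) ≃* ↥(cdD4.D.group F), ∀ (g : ↥(cdD4.D.group F)) (i : ℕ) (t : F), i < cdD4.D.rank →
      (((g : GL cdD4.D.Idx F) : Matrix cdD4.D.Idx cdD4.D.Idx F) = cdD4.D.x F (cdD4.D.simple i) t →
        ((α g : GL cdD4.D.Idx F) : Matrix cdD4.D.Idx cdD4.D.Idx F) = cdD4.D.x F (cdD4.D.simple (([2, 1, 0, 3] : List ℕ).getD i 0)) t) ∧
      (((g : GL cdD4.D.Idx F) : Matrix cdD4.D.Idx cdD4.D.Idx F) = cdD4.D.x F (cdD4.D.neg (cdD4.D.simple i)) t →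
        ((α g : GL cdD4.D.Idx F) : Matrix cdD4.D.Idx cdD4.D.Idx F) = cdD4.D.x F (cdD4.D.neg (cdD4.D.simple (([2, 1, 0, 3] : List ℕ).getD i 0))) t) :=
  graphD4D.exists_aut relD4 [2, 1, 0, 3] (by decide +kernel) (by decide +kernel)

end Cfsg.Agent.Lib.Helper3.ChevM
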