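import Cfsg.Agent.Lib.Helper3.ChevData.D4GrColE
import Cfsg.Agent.Lib.Helper3.ChevData.D4Rel
set_option autoImplicit false
set_option maxRecDepth 1000000

namespace Cfsg.Agent.Lib.Helper3.ChevM

/-- The graph automorphism data of type D4 (E). -/
def graphD4E : GraphData cdD4 where
  p := grPD4E
  pInv := grPInvD4E
  rho := grRhoD4E
  rhoInv := grRhoInvD4E
  eps := grEpsD4E
  tab := by decide +kernel
  col := of_pairRange (m := 24) (n := 28) d4GrColE

/-- The graph automorphism of the Chevalley group of type D4 (E). -/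
theorem d4GraphAutE {F : Type*} [Field F] :
    ∃ α : ↥(cdD4.D.group F) ≃* ↥(cdD4.D.group F), ∀ (g : ↥(cdD4.D.group F)) (i : ℕ) (t : F), i < cdD4.D.rank →
      (((g : GL cdD4.D.Idx F) : Matrix cdD4.D.Idx cdD4.D.Idx F) = cdD4.D.x F (cdD4.D.simple i) t →
        ((α g : GL cdD4.D.Idx F) : Matrix cdD4.D.Idx cdD4.D.Idx F) = cdD4.D.x F (cdD4.D.simple (([3, 1, 2, 0] : List ℕ).getD i 0)) t) ∧
      (((g : GL cdD4.D.Idx F) : Matrix cdD4.D.Idx cdD4.D.Idx F) = cdD4.D.x F (cdD4.D.neg (cdD4.D.simple i)) t →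
        ((α g : GL cdD4.D.Idx F) : Matrix cdD4.D.Idx cdD4.D.Idx F) = cdD4.D.x F (cdD4.D.neg (cdD4.D.simple (([3, 1, 2, 0] : List ℕ).getD i 0))) t) :=
  graphD4E.exists_aut relD4 [3, 1, 2, 0] (by decide +kernel) (by decide +kernel)

end Cfsg.Agent.Lib.Helper3.ChevM
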