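import Cfsg.Agent.Lib.Helper3.ChevData.B2Datum
set_option autoImplicit false
set_option maxRecDepth 1000000
set_option Elab.async false

namespace Cfsg.Agent.Lib.Helper3.ChevM

theorem b2Add_0_0 : allRange 0 1 (cdB2.checkAdd) = true := by decide +kernel
theorem b2Add_0_1 : allRange 1 2 (cdB2.checkAdd) = true := by decide +kernel
theorem b2Add_0_2 : allRange 2 3 (cdB2.checkAdd) = true := by decide +kernel
theorem b2Add_0_3 : allRange 3 4 (cdB2.checkAdd) = true := by decide +kernel
theorem b2Add_0_4 : allRange 4 5 (cdB2.checkAdd) = true := by decide +kernel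
theorem b2Add_0_5 : allRange 5 6 (cdB2.checkAdd) = true := by decide +kernel
theorem b2Add_0_6 : allRange 6 7 (cdB2.checkAdd) = true := by decide +kernel
theorem b2Add_0_7 : allRange 7 8 (cdB2.checkAdd) = true := by decide +kernel

/-- Additivity check for the root elements of type B2 (roots 0 to 7). -/
theorem b2Add_0 : ∀ r, 0 ≤ r → r < 8 → (cdB2.checkAdd) r = true := by
  intro r h1 h2
  by_cases c0 : r < 1
  · exact allRange_spec b2Add_0_0 r (by omega) c0
  by_cases c1 : r < 2
  · exact allRange_spec b2Add_0_1 r (by omega) c1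
  by_cases c2 : r < 3
  · exact allRange_spec b2Add_0_2 r (by omega) c2
  by_cases c3 : r < 4
  · exact allRange_spec b2Add_0_3 r (by omega) c3
  by_cases c4 : r < 5
  · exact allRange_spec b2Add_0_4 r (by omega) c4
  by_cases c5 : r < 6
  · exact allRange_spec b2Add_0_5 r (by omega) c5
  by_cases c6 : r < 7
  · exact allRange_spec b2Add_0_6 r (by omega) c6
  exact allRange_spec b2Add_0_7 r (by omega) h2

end Cfsg.Agent.Lib.Helper3.ChevM
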