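import Cfsg.Agent.Lib.Helper3.ChevData.B2ColsA
set_option autoImplicit false

namespace Cfsg.Agent.Lib.Helper3.ChevM

/-- Compiled columns of the root elements of type B2. -/
def colsB2 (r c : ℕ) : List CEnt :=
  cond (Nat.blt r 4) (cond (Nat.blt r 2) (cond (Nat.blt r 1) (cond (Nat.beq r 0) (colsB2_0 c) []) (cond (Nat.beq r 1) (colsB2_1 c) [])) (cond (Nat.blt r 3) (cond (Nat.beq r 2) (colsB2_2 c) []) (cond (Nat.beq r 3) (colsB2_3 c) []))) (cond (Nat.blt r 6) (cond (Nat.blt r 5) (cond (Nat.beq r 4) (colsB2_4 c) []) (cond (Nat.beq r 5) (colsB2_5 c) [])) (cond (Nat.blt r 7) (cond (Nat.beq r 6) (colsB2_6 c) []) (cond (Nat.beq r 7) (colsB2_7 c) [])))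

end Cfsg.Agent.Lib.Helper3.ChevM
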