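import Cfsg.Agent.Lib.Helper3.ChevM2
set_option autoImplicit false
set_option maxRecDepth 100000

namespace Cfsg.Agent.Lib.Helper3.ChevM

/-- Compiled columns of `x_0` for type B2. -/
def colsB2_0 (c : ℕ) : List CEnt :=
  cond (Nat.blt c 7) (cond (Nat.blt c 1) (cond (Nat.beq c 0) [⟨2, 2, 1⟩] []) (cond (Nat.beq c 1) [⟨2, 0, 1⟩] [])) (cond (Nat.blt c 8) (cond (Nat.beq c 7) [⟨3, 1, 1⟩] []) (cond (Nat.blt c 9) (cond (Nat.beq c 8) [⟨4, -1, 1⟩] []) (cond (Nat.beq c 9) [⟨2, -1, 2⟩, ⟨0, -1, 1⟩, ⟨1, -1, 1⟩] [])))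

/-- Compiled columns of `x_1` for type B2. -/
def colsB2_1 (c : ℕ) : List CEnt :=
  cond (Nat.blt c 6) (cond (Nat.blt c 1) (cond (Nat.beq c 0) [⟨3, 0, 1⟩] []) (cond (Nat.blt c 4) (cond (Nat.beq c 1) [⟨3, 1, 1⟩] []) (cond (Nat.beq c 4) [⟨2, 2, 1⟩] []))) (cond (Nat.blt c 8) (cond (Nat.blt c 7) (cond (Nat.beq c 6) [⟨4, 1, 1⟩, ⟨2, 1, 2⟩] []) (cond (Nat.beq c 7) [⟨5, -2, 1⟩] [])) (cond (Nat.blt c 9) (cond (Nat.beq c 8) [⟨3, -1, 2⟩, ⟨0, -1, 1⟩, ⟨1, -2, 1⟩] []) (cond (Nat.beq c 9) [⟨7, -1, 1⟩, ⟨5, 1, 2⟩] [])))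

/-- Compiled columns of `x_2` for type B2. -/
def colsB2_2 (c : ℕ) : List CEnt :=
  cond (Nat.blt c 5) (cond (Nat.blt c 1) (cond (Nat.beq c 0) [⟨4, 2, 1⟩] []) (cond (Nat.blt c 3) (cond (Nat.beq c 1) [⟨4, -1, 1⟩] []) (cond (Nat.beq c 3) [⟨2, -2, 1⟩] []))) (cond (Nat.blt c 8) (cond (Nat.blt c 7) (cond (Nat.beq c 5) [⟨3, 1, 1⟩, ⟨2, -1, 2⟩] []) (cond (Nat.beq c 7) [⟨4, -1, 2⟩, ⟨0, -1, 1⟩, ⟨1, 0, 1⟩] [])) (cond (Nat.blt c 9) (cond (Nat.beq c 8) [⟨6, -2, 1⟩] []) (cond (Nat.beq c 9) [⟨8, 1, 1⟩, ⟨6, -1, 2⟩] [])))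

/-- Compiled columns of `x_3` for type B2. -/
def colsB2_3 (c : ℕ) : List CEnt :=
  cond (Nat.blt c 4) (cond (Nat.blt c 1) (cond (Nat.beq c 0) [⟨5, -2, 1⟩] []) (cond (Nat.beq c 1) [⟨5, 2, 1⟩] [])) (cond (Nat.blt c 6) (cond (Nat.beq c 4) [⟨3, -1, 1⟩] []) (cond (Nat.blt c 8) (cond (Nat.beq c 6) [⟨5, -1, 2⟩, ⟨0, 0, 1⟩, ⟨1, -1, 1⟩] []) (cond (Nat.beq c 8) [⟨7, 1, 1⟩] [])))

/-- Compiled columns of `x_4` for type B2. -/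
def colsB2_4 (c : ℕ) : List CEnt :=
  cond (Nat.blt c 3) (cond (Nat.blt c 1) (cond (Nat.beq c 0) [⟨6, 2, 1⟩] []) (cond (Nat.beq c 1) [⟨6, -2, 1⟩] [])) (cond (Nat.blt c 5) (cond (Nat.beq c 3) [⟨4, -1, 1⟩] []) (cond (Nat.blt c 7) (cond (Nat.beq c 5) [⟨6, -1, 2⟩, ⟨0, 0, 1⟩, ⟨1, 1, 1⟩] []) (cond (Nat.beq c 7) [⟨8, 1, 1⟩] [])))

/-- Compiled columns of `x_5` for type B2. -/
def colsB2_5 (c : ℕ) : List CEnt :=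
  cond (Nat.blt c 3) (cond (Nat.blt c 1) (cond (Nat.beq c 0) [⟨7, -2, 1⟩] []) (cond (Nat.blt c 2) (cond (Nat.beq c 1) [⟨7, 1, 1⟩] []) (cond (Nat.beq c 2) [⟨3, -1, 1⟩, ⟨5, -1, 2⟩] []))) (cond (Nat.blt c 6) (cond (Nat.blt c 4) (cond (Nat.beq c 3) [⟨5, 2, 1⟩] []) (cond (Nat.beq c 4) [⟨7, -1, 2⟩, ⟨0, 1, 1⟩, ⟨1, 0, 1⟩] [])) (cond (Nat.blt c 8) (cond (Nat.beq c 6) [⟨8, -1, 1⟩, ⟨9, -1, 2⟩] []) (cond (Nat.beq c 8) [⟨9, 2, 1⟩] [])))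

/-- Compiled columns of `x_6` for type B2. -/
def colsB2_6 (c : ℕ) : List CEnt :=
  cond (Nat.blt c 3) (cond (Nat.blt c 1) (cond (Nat.beq c 0) [⟨8, 0, 1⟩] []) (cond (Nat.blt c 2) (cond (Nat.beq c 1) [⟨8, -1, 1⟩] []) (cond (Nat.beq c 2) [⟨4, 1, 1⟩, ⟨6, 1, 2⟩] []))) (cond (Nat.blt c 5) (cond (Nat.blt c 4) (cond (Nat.beq c 3) [⟨8, -1, 2⟩, ⟨0, 1, 1⟩, ⟨1, 2, 1⟩] []) (cond (Nat.beq c 4) [⟨6, 2, 1⟩] [])) (cond (Nat.blt c 7) (cond (Nat.beq c 5) [⟨7, -1, 1⟩, ⟨9, 1, 2⟩] []) (cond (Nat.beq c 7) [⟨9, -2, 1⟩] [])))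

/-- Compiled columns of `x_7` for type B2. -/
def colsB2_7 (c : ℕ) : List CEnt :=
  cond (Nat.blt c 2) (cond (Nat.blt c 1) (cond (Nat.beq c 0) [⟨9, -2, 1⟩] []) (cond (Nat.beq c 1) [⟨9, 0, 1⟩] [])) (cond (Nat.blt c 3) (cond (Nat.beq c 2) [⟨9, -1, 2⟩, ⟨0, 1, 1⟩, ⟨1, 1, 1⟩] []) (cond (Nat.blt c 4) (cond (Nat.beq c 3) [⟨7, 1, 1⟩] []) (cond (Nat.beq c 4) [⟨8, -1, 1⟩] [])))

end Cfsg.Agent.Lib.Helper3.ChevM
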