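import Cfsg.Agent.Lib.Helper3.ChevM9
set_option autoImplicit false

namespace Cfsg.Agent.Lib.Helper3.ChevM

/-- Packed table of the fundamental reflections used to derive the commutator formula of type B2. -/
def witB2P (r : ℕ) : ℕ :=
  cond (Nat.blt r 4) (cond (Nat.blt r 2) (cond (Nat.blt r 1) (cond (Nat.beq r 0) 536870914 0) (cond (Nat.beq r 1) 303042592 0)) (cond (Nat.blt r 3) (cond (Nat.beq r 2) 2097664 0) (cond (Nat.beq r 3) 286400785 0))) (cond (Nat.blt r 6) (cond (Nat.blt r 5) (cond (Nat.beq r 4) 139264 0) (cond (Nat.beq r 5) 287379985 0)) (cond (Nat.blt r 7) (cond (Nat.beq r 6) 572530720 0) (cond (Nat.beq r 7) 571609618 0)))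

/-- The fundamental reflection used for the pair `(r, s)` (`≥ rank` for brute force) of type B2. -/
def witB2 (r s : ℕ) : ℕ := getField 4 15 (witB2P r) s

end Cfsg.Agent.Lib.Helper3.ChevM
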