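import Cfsg.Agent.Lib.Helper3.ChevM5
set_option autoImplicit false

namespace Cfsg.Agent.Lib.Helper3.ChevM

/-- Packed table of the integers `⟨s, r^∨⟩ + 3` of type B2. -/
def pairB2P (r : ℕ) : ℕ :=
  cond (Nat.blt r 4) (cond (Nat.blt r 2) (cond (Nat.blt r 1) (cond (Nat.beq r 0) 2701093 0) (cond (Nat.beq r 1) 2464493 0)) (cond (Nat.blt r 3) (cond (Nat.beq r 2) 2937693 0) (cond (Nat.beq r 3) 6953635 0))) (cond (Nat.blt r 6) (cond (Nat.blt r 5) (cond (Nat.beq r 4) 7426835 0) (cond (Nat.beq r 5) 11442777 0)) (cond (Nat.blt r 7) (cond (Nat.beq r 6) 11915977 0) (cond (Nat.beq r 7) 11679377 0)))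

/-- The integer `⟨s, r^∨⟩` (the exponent of `h_r(c)` on `e_s`) of type B2. -/
def pairB2 (r s : ℕ) : ℤ := Int.ofNat (getField 3 7 (pairB2P r) s) - 3

/-- Packed table of the reflections in the fundamental roots of type B2. -/
def reflB2P (i : ℕ) : ℕ :=
  cond (Nat.blt i 1) (cond (Nat.beq i 0) 289921455100330243 0) (cond (Nat.beq i 1) 505817143170892288 0)

/-- The root `w_{p_i}(s)` of type B2. -/
def reflB2 (i s : ℕ) : ℕ := getField 8 255 (reflB2P i) s

/-- Packed table of the signs `η_{p_i,s}` of type B2 (bit set for `-1`). -/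
def etaB2P (i : ℕ) : ℕ :=
  cond (Nat.blt i 1) (cond (Nat.beq i 0) 255 0) (cond (Nat.beq i 1) 90 0)

/-- The sign `η_{p_i,s}` with `n_{p_i} e_s = η e_{w(s)}` of type B2. -/
def etaB2 (i s : ℕ) : ℤ := cond (Nat.beq (getField 1 1 (etaB2P i) s) 1) (-1) 1

end Cfsg.Agent.Lib.Helper3.ChevM
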