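import Cfsg.Agent.Lib.Helper3.ChevData.B2Bn
import Cfsg.Agent.Lib.Helper3.ChevData.B2Sign
import Cfsg.Agent.Lib.Helper3.ChevData.B2Poin
import Cfsg.Agent.Lib.Helper3.Cox3
set_option autoImplicit false
set_option maxRecDepth 1000000
open Cfsg Cfsg.Lie

namespace Cfsg.Agent.Lib.Helper3.ChevM

/-- The orders of the products of two fundamental reflections of type B2. -/
theorem b2CoxOrd : ∀ i j : Fin cdB2.D.rank,
    wordOrdCheck cdB2.D relB2.refl [i.val, j.val] ((CoxeterMatrix.B 2 : CoxeterMatrix (Fin 2)) i j) = true := by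
  decide +kernel

/-- The order of the Coxeter group of type B2. -/
theorem b2CoxCard : Nat.card (CoxeterMatrix.B 2 : CoxeterMatrix (Fin 2)).Group = 8 := by
  refine (monoB2.card_coxeter bnB2.dec b2Sign (CoxeterMatrix.B 2) b2CoxOrd).trans ?_
  rw [b2Poin]
  rfl

/-- The order of the Coxeter element of type B2. -/
theorem b2CoxEl : orderOf ((List.finRange 2).map (CoxeterMatrix.B 2 : CoxeterMatrix (Fin 2)).simple).prod = 4 :=
  monoB2.orderOf_coxeter bnB2.dec b2Sign (CoxeterMatrix.B 2) b2CoxOrd (List.finRange 2) 4 (by decide +kernel)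

/-- The homomorphism from `N` onto the Coxeter group of type B2, with kernel `H`. -/
theorem b2WeylHom {F : Type*} [Field F] :
    ∃ φ : ↥(cdB2.D.monomialSubgroup F) →* (CoxeterMatrix.B 2 : CoxeterMatrix (Fin 2)).Group, Function.Surjective φ ∧
      φ.ker = (cdB2.D.diagonalSubgroup F).subgroupOf (cdB2.D.monomialSubgroup F) ∧
      ∀ (i : Fin 2) (g : ↥(cdB2.D.monomialSubgroup F)),
        ((g : GL cdB2.D.Idx F) : Matrix cdB2.D.Idx cdB2.D.Idx F) = cdB2.D.nMat F (cdB2.D.simple i.val) 1 →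
          φ g = (CoxeterMatrix.B 2 : CoxeterMatrix (Fin 2)).simple i := by
  obtain ⟨φ, h1, h2, h3⟩ := monoB2.exists_weylHom (F := F) bnB2.dec
  let e : monoB2.weyl ≃* (CoxeterMatrix.B 2 : CoxeterMatrix (Fin 2)).Group :=
    monoB2.coxEquiv bnB2.dec b2Sign (CoxeterMatrix.B 2) b2CoxOrd
  refine ⟨e.toMonoidHom.comp φ, e.surjective.comp h1, ?_, ?_⟩
  · rw [← h2]
    ext g
    rw [MonoidHom.mem_ker, MonoidHom.mem_ker, MonoidHom.comp_apply]
    exact (MulEquiv.map_eq_one_iff e)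
  · intro i g hg
    rw [MonoidHom.comp_apply, h3 i g hg]
    exact monoB2.coxEquiv_apply bnB2.dec b2Sign (CoxeterMatrix.B 2) b2CoxOrd i

end Cfsg.Agent.Lib.Helper3.ChevM
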