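import Cfsg.Agent.Lib.Helper3.Cox4
import Cfsg.Agent.Lib.Helper3.ChevData.B2Cox
set_option autoImplicit false
set_option maxRecDepth 1000000
open Cfsg Cfsg.Lie

namespace Cfsg.Agent.Lib.Helper3.ChevM

/-- Reflections of type B2 (as a conjugating word and a fundamental reflection) generating the Weyl group together with the Coxeter element. -/
def tsgB2 : List (List ℕ × ℕ) := [([], 0)]

/-- The words of the reflections `tsgB2`. -/
def tswB2 : List (List ℕ) := tsgB2.map fun p => p.1 ++ [p.2] ++ p.1.reverse

/-- Words in the Coxeter element, its inverse and the reflections `tsgB2` for the fundamental reflections of type B2. -/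
def progB2 (i : ℕ) : List ℕ :=
  (#[[2], [1, 2]] : Array (List ℕ)).getD i []

theorem b2GenW : genWeylCheck cdB2.D relB2.refl (List.range 2) tswB2 progB2 = true := by
  decide +kernel

end Cfsg.Agent.Lib.Helper3.ChevM
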