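import Cfsg.Prelude.Def_ChevB2
import Cfsg.Agent.Lib.Helper3.ChevData.B2Hd2
import Cfsg.Agent.Lib.Helper3.ChevL2
set_option autoImplicit false
set_option maxRecDepth 1000000
set_option Elab.async false

namespace Cfsg.Agent.Lib.Helper3.ChevM

theorem b2Cv_0_0 : allRange 0 8 (fun k => commVecCheck Cfsg.Lie.chevB2 vecB2 (k / 8) (k % 8)) = true := by decide +kernel
theorem b2Cv_0_8 : allRange 8 16 (fun k => commVecCheck Cfsg.Lie.chevB2 vecB2 (k / 8) (k % 8)) = true := by decide +kernel
theorem b2Cv_0_16 : allRange 16 24 (fun k => commVecCheck Cfsg.Lie.chevB2 vecB2 (k / 8) (k % 8)) = true := by decide +kernel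
theorem b2Cv_0_24 : allRange 24 32 (fun k => commVecCheck Cfsg.Lie.chevB2 vecB2 (k / 8) (k % 8)) = true := by decide +kernel

/-- The roots of the commutator formula of type B2 are the expected combinations (roots 0 to 31). -/
theorem b2Cv_0 : ∀ r, 0 ≤ r → r < 32 → (fun k => commVecCheck Cfsg.Lie.chevB2 vecB2 (k / 8) (k % 8)) r = true := by
  intro r h1 h2
  by_cases c0 : r < 8
  · exact allRange_spec b2Cv_0_0 r (by omega) c0
  by_cases c1 : r < 16
  · exact allRange_spec b2Cv_0_8 r (by omega) c1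
  by_cases c2 : r < 24
  · exact allRange_spec b2Cv_0_16 r (by omega) c2
  exact allRange_spec b2Cv_0_24 r (by omega) h2

end Cfsg.Agent.Lib.Helper3.ChevM
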