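import Cfsg.Prelude.Def_ChevAutomorphisms
import Cfsg.Agent.Lib.Helper3.ChevGen1
import Cfsg.Agent.Lib.Helper3.ChevData.B2Mono
import Cfsg.Agent.Lib.Helper3.ChevData.B2Hdec
import Cfsg.Agent.Lib.Helper3.ChevData.B2CommData
set_option autoImplicit false
set_option maxRecDepth 1000000
open Cfsg Cfsg.Lie

namespace Cfsg.Agent.Lib.Helper3.ChevM

/-- For each root of type B2 conjugate to the first fundamental root, a word of fundamental reflections mapping that root to it. -/
def wt0B2 (r : ℕ) : List ℕ :=
  (#[[], [1, 0], [0], [], [], [], [1], []] : Array (List ℕ)).getD r []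

/-- For each remaining root of type B2, two roots whose commutator it is, with the constant. -/
def abB2 (r : ℕ) : ℕ × ℕ × ℤ :=
  (#[(2, 1, -2), (0, 0, 0), (0, 0, 0), (5, 1, 2), (2, 6, -2), (0, 0, 0), (0, 0, 0), (5, 6, 2)] : Array (ℕ × ℕ × ℤ)).getD r (0, 0, 0)

/-- For each short fundamental root of type B2, a word mapping it to the first fundamental root. -/
def wsB2 (i : ℕ) : List ℕ :=
  (#[[], []] : Array (List ℕ)).getD i []

theorem b2Gen2 : ∀ r < 8, gen2Check cdB2.D relB2.refl 5 2 wt0B2 abB2 r = true := by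
  decide +kernel

theorem b2GenWs : ∀ i < 2, cdB2.D.isLong (cdB2.D.simple i) = false →
    ((wsB2 i).all fun j => decide (j < 2)) = true ∧ reflW relB2.refl (wsB2 i) (cdB2.D.simple i) = 5 := by
  decide +kernel

end Cfsg.Agent.Lib.Helper3.ChevM
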