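import Cfsg.Prelude.Def_ChevAutomorphisms
import Cfsg.Agent.Lib.Helper3.ChevGen1
import Cfsg.Agent.Lib.Helper3.ChevData.B2Mono
import Cfsg.Agent.Lib.Helper3.ChevData.B2Hdec
set_option autoImplicit false
set_option maxRecDepth 1000000
open Cfsg Cfsg.Lie

namespace Cfsg.Agent.Lib.Helper3.ChevM

/-- For each root of type B2, a word of fundamental reflections and one of two fixed fundamental roots it maps to the root. -/
def wt17B2 (r : ℕ) : List ℕ × ℕ :=
  (#[([0, 1], 4), ([1, 0], 5), ([0], 5), ([1], 4), ([], 4), ([], 5), ([1], 5), ([0], 4)] : Array (List ℕ × ℕ)).getD r ([], 0)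

theorem b2Gen17 : ∀ r < 8, genCheck cdB2.D relB2.refl [5, 4] wt17B2 r = true := by
  decide +kernel

theorem b2Gen17ij : ∀ i < 2, ∀ j < 2, cdB2.D.isLong (cdB2.D.simple i) = false →
    cdB2.D.isLong (cdB2.D.simple j) = true → cdB2.D.bonds i j ≠ 0 →
    cdB2.D.simple i = 5 ∧ cdB2.D.simple j = 4 := by
  have key : ∀ i < 2, ∀ j < 2, (cdB2.D.isLong (cdB2.D.simple i) || !cdB2.D.isLong (cdB2.D.simple j) ||
      decide (cdB2.D.bonds i j = 0) || (decide (cdB2.D.simple i = 5) && decide (cdB2.D.simple j = 4))) = true := by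
    decide +kernel
  intro i hi j hj h1 h2 h3
  have := key i hi j hj
  simp only [h1, h2, h3, Bool.false_or, Bool.not_true, decide_false, Bool.and_eq_true, decide_eq_true_eq] at this
  exact this

end Cfsg.Agent.Lib.Helper3.ChevM
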