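import Cfsg.Agent.Lib.Helper3.ChevData.B2Datum
import Cfsg.Agent.Lib.Helper3.ChevData.B2Tabs
import Cfsg.Agent.Lib.Helper3.ChevM7
set_option autoImplicit false
set_option maxRecDepth 1000000
set_option Elab.async false

namespace Cfsg.Agent.Lib.Helper3.ChevM

theorem b2Nd_0_0 : allRange 0 4 ((fun k => cdB2.checkND (k / 2) (cdB2.cartI pairB2 (k / 2)) (reflB2 (k / 2)) (etaB2 (k / 2)) (cdB2.expo pairB2 (Cfsg.Lie.chevB2.simple (k % 2))) (cdB2.expo pairB2 (reflB2 (k / 2) (Cfsg.Lie.chevB2.simple (k % 2)))))) = true := by decide +kernel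

/-- Conjugation of the `h_p(c)` by the `n_p` of type B2 (roots 0 to 3). -/
theorem b2Nd_0 : ∀ r, 0 ≤ r → r < 4 → ((fun k => cdB2.checkND (k / 2) (cdB2.cartI pairB2 (k / 2)) (reflB2 (k / 2)) (etaB2 (k / 2)) (cdB2.expo pairB2 (Cfsg.Lie.chevB2.simple (k % 2))) (cdB2.expo pairB2 (reflB2 (k / 2) (Cfsg.Lie.chevB2.simple (k % 2)))))) r = true := by
  intro r h1 h2
  exact allRange_spec b2Nd_0_0 r (by omega) h2

end Cfsg.Agent.Lib.Helper3.ChevM
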