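import Cfsg.Prelude.Def_ChevB2
import Cfsg.Agent.Lib.Helper3.ChevData.B2Tabs
import Cfsg.Agent.Lib.Helper3.ChevData.B2W0
import Cfsg.Agent.Lib.Helper3.ChevW1
set_option autoImplicit false
set_option maxRecDepth 1000000
set_option Elab.async false

namespace Cfsg.Agent.Lib.Helper3.ChevM

theorem b2Opp_0_0 : allRange 0 8 ((fun s => oppCheck Cfsg.Lie.chevB2 reflB2 w0B2 w0rB2 s)) = true := by decide +kernel

/-- The longest element maps the positive roots of type B2 onto the negative roots (roots 0 to 7). -/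
theorem b2Opp_0 : ∀ r, 0 ≤ r → r < 8 → ((fun s => oppCheck Cfsg.Lie.chevB2 reflB2 w0B2 w0rB2 s)) r = true := by
  intro r h1 h2
  exact allRange_spec b2Opp_0_0 r (by omega) h2

end Cfsg.Agent.Lib.Helper3.ChevM
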