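import Cfsg.Prelude.Def_ChevB2
set_option autoImplicit false
set_option maxRecDepth 1000000

namespace Cfsg.Agent.Lib.Helper3.ChevM

/-- Coset representatives of the first 0 reflections in the group of the first 1, type B2. -/
def dlB20 : List (List ℕ) := [[], [0]]

/-- The left multiplication table of these representatives. -/
def nxtB20 (a i : ℕ) : ℕ := ((#[#[1], #[0]] : Array (Array ℕ)).getD a #[]).getD i 0

/-- Coset representatives of the first 1 reflections in the group of the first 2, type B2. -/
def dlB21 : List (List ℕ) := [[], [1], [0, 1], [1, 0, 1]]

/-- The left multiplication table of these representatives. -/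
def nxtB21 (a i : ℕ) : ℕ := ((#[#[4, 1], #[2, 0], #[1, 3], #[4, 2]] : Array (Array ℕ)).getD a #[]).getD i 0

end Cfsg.Agent.Lib.Helper3.ChevM
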