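import Cfsg.Agent.Lib.Helper3.ChevData.B2Mono
import Cfsg.Agent.Lib.Helper3.ChevData.B2Hdec
import Cfsg.Agent.Lib.Helper3.ChevData.B2Sign
import Cfsg.Agent.Lib.Helper3.ChevData.B2Os0
import Cfsg.Agent.Lib.Helper3.ChevData.B2Or0
import Cfsg.Agent.Lib.Helper3.ChevData.B2Ot0
set_option autoImplicit false
set_option maxRecDepth 1000000

namespace Cfsg.Agent.Lib.Helper3.ChevM

theorem b2Od0 : distinctCheck Cfsg.Lie.chevB2 reflB2 dlB20 = true := by decide +kernel

theorem b2On0 : dlB20.map (Nw Cfsg.Lie.chevB2 reflB2) = [0, 1] := by decide +kernel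

/-- Step 0 of the factorisation of the Poincaré sum of type B2. -/
theorem b2Poin0 (q : ℕ) : poin cdB2.D relB2.refl (Set.Iio 1) q =
    ([0, 1].map fun e => q ^ e).sum * poin cdB2.D relB2.refl (Set.Iio 0) q := by
  have h := monoB2.poin_step (of_pairRange (m := 8) (n := 8) b2Hdec) b2Sign 0 b2Os0 dlB20 b2Or0 nxtB20
    (by decide +kernel) (of_pairRange (m := 2) (n := 1) b2Ot0) b2Od0 (by decide +kernel) q
  show poin cdB2.D relB2.refl (Set.Iio (0 + 1)) q = _
  have e : (dlB20.map fun d => q ^ Nw cdB2.D relB2.refl d) = (dlB20.map (Nw Cfsg.Lie.chevB2 reflB2)).map fun e => q ^ e := by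
    rw [List.map_map]; rfl
  rw [h, e, b2On0]

end Cfsg.Agent.Lib.Helper3.ChevM
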