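import Cfsg.Prelude.Def_ChevB2
set_option autoImplicit false
set_option maxRecDepth 1000000

namespace Cfsg.Agent.Lib.Helper3.ChevM

/-- Kind of certificate for `x_r(t)` being a commutator, type B2. -/
def ptagB2 (r : ℕ) : ℕ := (#[2, 1, 1, 2, 2, 1, 1, 2] : Array ℕ).getD r 0

/-- First root of the pair. -/
def psB2 (r : ℕ) : ℕ := (#[1, 0, 0, 1, 2, 0, 0, 5] : Array ℕ).getD r 0

/-- Second root of the pair. -/
def psqB2 (r : ℕ) : ℕ := (#[2, 0, 0, 5, 6, 0, 0, 6] : Array ℕ).getD r 0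

/-- Bezout coefficients. -/
def pmB2 (r i : ℕ) : ℤ := ((#[#[-1, -3], #[-3, -1], #[-2, -3], #[-2, -3], #[-3, -2], #[-1, -3], #[-3, 1], #[1, -3]] : Array (Array ℤ)).getD r #[]).getD i 0

end Cfsg.Agent.Lib.Helper3.ChevM
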