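import Cfsg.Prelude.Def_ChevB2
import Cfsg.Agent.Lib.Helper3.ChevData.B2Hd2
import Cfsg.Agent.Lib.Helper3.ChevData.B2Tabs
import Cfsg.Agent.Lib.Helper3.ChevL3
set_option autoImplicit false
set_option maxRecDepth 1000000
set_option Elab.async false

namespace Cfsg.Agent.Lib.Helper3.ChevM

theorem b2Rv_1_8 : allRange 8 10 (fun k => reflVecCheck Cfsg.Lie.chevB2 reflB2 vecB2 (k / 8) (k % 8)) = true := by decide +kernel
theorem b2Rv_1_10 : allRange 10 12 (fun k => reflVecCheck Cfsg.Lie.chevB2 reflB2 vecB2 (k / 8) (k % 8)) = true := by decide +kernel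
theorem b2Rv_1_12 : allRange 12 14 (fun k => reflVecCheck Cfsg.Lie.chevB2 reflB2 vecB2 (k / 8) (k % 8)) = true := by decide +kernel
theorem b2Rv_1_14 : allRange 14 16 (fun k => reflVecCheck Cfsg.Lie.chevB2 reflB2 vecB2 (k / 8) (k % 8)) = true := by decide +kernel

/-- The fundamental reflections of type B2 change one coefficient (roots 8 to 15). -/
theorem b2Rv_1 : ∀ r, 8 ≤ r → r < 16 → (fun k => reflVecCheck Cfsg.Lie.chevB2 reflB2 vecB2 (k / 8) (k % 8)) r = true := by
  intro r h1 h2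
  by_cases c0 : r < 10
  · exact allRange_spec b2Rv_1_8 r (by omega) c0
  by_cases c1 : r < 12
  · exact allRange_spec b2Rv_1_10 r (by omega) c1
  by_cases c2 : r < 14
  · exact allRange_spec b2Rv_1_12 r (by omega) c2
  exact allRange_spec b2Rv_1_14 r (by omega) h2

end Cfsg.Agent.Lib.Helper3.ChevM
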