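import Cfsg.Agent.Lib.Helper3.ChevData.B2RvA
import Cfsg.Agent.Lib.Helper3.ChevData.B2RvB
set_option autoImplicit false

namespace Cfsg.Agent.Lib.Helper3.ChevM

/-- The fundamental reflections of type B2 change one coefficient. -/
theorem b2Rv : ∀ r < 16, (fun k => reflVecCheck Cfsg.Lie.chevB2 reflB2 vecB2 (k / 8) (k % 8)) r = true := by
  intro r hr
  by_cases h0 : r < 8
  · exact b2Rv_0 r (by omega) h0
  exact b2Rv_1 r (by omega) hr

end Cfsg.Agent.Lib.Helper3.ChevM
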