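import Cfsg.Prelude.Def_ChevB2
set_option autoImplicit false
set_option maxRecDepth 1000000

namespace Cfsg.Agent.Lib.Helper3.ChevM

/-- For each root of type B2, a word of fundamental reflections and a fundamental root, all in the support of the root. -/
def srwB2 (r : ℕ) : List ℕ × ℕ :=
  (#[([0, 1], 1), ([1, 0], 0), ([0], 0), ([1], 1), ([], 1), ([], 0), ([1], 0), ([0], 1)] : Array (List ℕ × ℕ)).getD r ([], 0)

end Cfsg.Agent.Lib.Helper3.ChevM
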