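import Cfsg.Agent.Lib.Helper3.ChevGen2c
import Cfsg.Agent.Lib.Helper3.ChevData.B2Mono
import Cfsg.Agent.Lib.Helper3.ChevData.B2Hdec
import Cfsg.Agent.Lib.Helper3.ChevData.B2CommData
set_option autoImplicit false
set_option maxRecDepth 1000000
open Cfsg Cfsg.Lie

/-! Two generators for the Chevalley group of type B2: the data of the derivation. -/

namespace Cfsg.Agent.Lib.Helper3.ChevM

/-- The parameters of the derivation for type B2. -/
def tgParB2 : TGParams where
  l := [0, 1]
  s := 2
  lam := fun i => ([1, 1] : List ℤ).getD i 0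
  P := []
  two := true

/-- The steps of the derivation for type B2. -/
def tgStepsB2 : List TGStep := [
  .tor 2, .orb 2, .orb 4, .unlock, .tor 0, .orb 0, .orb 1, .orb 3,
  .orb 5, .orb 7]

theorem tgOKB2 : tgOK cdB2.D relB2.refl tgParB2 tgStepsB2 ⟨[4, 2], [], false⟩ = true := by
  decide +kernel

theorem two_gen_B2 {F : Type*} [Field F] [Finite F] (hF : ∃ x : F, x ≠ 0 ∧ x ≠ 1) :
    ∃ a b : ↥(Cfsg.Lie.chevB2.group F), Subgroup.closure ({a, b} : Set ↥(Cfsg.Lie.chevB2.group F)) = ⊤ :=
  two_gen_C (C := cdB2) monoB2 commB2 (of_pairRange (m := 8) (n := 8) b2Hdec) hF tgParB2 4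
    (by decide) (by decide) (by decide) (by decide +kernel) rfl (by decide +kernel) (by decide +kernel)
    tgStepsB2 tgOKB2

end Cfsg.Agent.Lib.Helper3.ChevM
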