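import Mathlib
set_option autoImplicit false

namespace Cfsg.Agent.Lib.Helper3.ChevM

/-- Words mapping the pairs of roots of type B2 not reduced by a fundamental reflection to pairs of positive roots. -/
def bwB2 (r s : ℕ) : List ℕ :=
  if r = 6 ∧ s = 3 then [1] else
  if r = 7 ∧ s = 2 then [0] else
  []

end Cfsg.Agent.Lib.Helper3.ChevM
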