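import Cfsg.Prelude.Def_ChevB2
set_option autoImplicit false
set_option maxRecDepth 1000000

namespace Cfsg.Agent.Lib.Helper3.ChevM

/-- Position of the positive roots of type B2 in an order compatible with heights. -/
def hposB2 (r : ℕ) : ℕ := (#[0, 0, 0, 0, 0, 1, 2, 3] : Array ℕ).getD r 0

/-- Level of the coordinates of type B2. -/
def hfB2 (c : ℕ) : ℕ := (#[17, 17, 0, 8, 9, 16, 18, 25, 26, 34] : Array ℕ).getD c 0

/-- Level of the positive roots of type B2. -/
def frB2 (r : ℕ) : ℕ := (#[0, 0, 0, 0, 1, 8, 9, 17] : Array ℕ).getD r 0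

/-- Column of the witness entry. -/
def wjB2 (r : ℕ) : ℕ := (#[0, 0, 0, 0, 3, 1, 1, 2] : Array ℕ).getD r 0

/-- Row of the witness entry. -/
def wiB2 (r : ℕ) : ℕ := (#[0, 0, 0, 0, 4, 7, 8, 0] : Array ℕ).getD r 0

end Cfsg.Agent.Lib.Helper3.ChevM
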