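import Cfsg.Prelude.Def_ChevB2
import Cfsg.Agent.Lib.Helper3.ChevData.B2Uni
import Cfsg.Agent.Lib.Helper3.ChevU3
set_option autoImplicit false
set_option maxRecDepth 1000000
set_option Elab.async false

namespace Cfsg.Agent.Lib.Helper3.ChevM

theorem b2Ucol_0_0 : allRange 0 64 ((fun k => collectCheck Cfsg.Lie.chevB2 hposB2 (k / 8) (k % 8))) = true := by decide +kernel

/-- The terms of the commutator formula of type B2 lie higher (roots 0 to 63). -/
theorem b2Ucol_0 : ∀ r, 0 ≤ r → r < 64 → ((fun k => collectCheck Cfsg.Lie.chevB2 hposB2 (k / 8) (k % 8))) r = true := by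
  intro r h1 h2
  exact allRange_spec b2Ucol_0_0 r (by omega) h2

end Cfsg.Agent.Lib.Helper3.ChevM
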