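import Cfsg.Agent.Lib.Helper3.ChevData.B2Datum
import Cfsg.Agent.Lib.Helper3.ChevData.B2Uni
import Cfsg.Agent.Lib.Helper3.ChevU3
set_option autoImplicit false
set_option maxRecDepth 1000000
set_option Elab.async false

namespace Cfsg.Agent.Lib.Helper3.ChevM

theorem b2Uwit_0_0 : allRange 0 8 ((fun r => witCheck cdB2 hfB2 frB2 wjB2 wiB2 r)) = true := by decide +kernel

/-- Witness entries for the root elements of type B2 (roots 0 to 7). -/
theorem b2Uwit_0 : ∀ r, 0 ≤ r → r < 8 → ((fun r => witCheck cdB2 hfB2 frB2 wjB2 wiB2 r)) r = true := by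
  intro r h1 h2
  exact allRange_spec b2Uwit_0_0 r (by omega) h2

end Cfsg.Agent.Lib.Helper3.ChevM
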