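import Cfsg.Prelude.Def_ChevB2
import Cfsg.Agent.Lib.Helper3.StV11
set_option autoImplicit false
set_option maxRecDepth 1000000
set_option Elab.async false

namespace Cfsg.Agent.Lib.Helper3.ChevM
open Cfsg.Agent.Lib.Helper3.StB Cfsg.Agent.Lib.Helper3.StU Cfsg.Agent.Lib.Helper3.StV

theorem b2Vsepc_0_0 : allRange 0 64 ((fun k => posSepOK 3 Cfsg.Lie.chevB2 (k / 8) (k % 8))) = true := by decide +kernel

/-- Torus elements of order 3 separating the pairs of positive roots of type B2 (roots 0 to 63). -/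
theorem b2Vsepc_0 : ∀ r, 0 ≤ r → r < 64 → ((fun k => posSepOK 3 Cfsg.Lie.chevB2 (k / 8) (k % 8))) r = true := by
  intro r h1 h2
  exact allRange_spec b2Vsepc_0_0 r (by omega) h2

end Cfsg.Agent.Lib.Helper3.ChevM
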