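import Cfsg.Agent.Lib.Helper3.ChevData.B2WtA
set_option autoImplicit false

namespace Cfsg.Agent.Lib.Helper3.ChevM

/-- The entries of the root elements of type B2 raise the weights. -/
theorem b2Wt : ∀ r < 8, (fun r => wtCheck cdB2 vecB2 r) r = true := by
  intro r hr
  exact b2Wt_0 r (by omega) hr

end Cfsg.Agent.Lib.Helper3.ChevM
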