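import Cfsg.Agent.Lib.Helper3.ChevData.D4ColsA
set_option autoImplicit false

namespace Cfsg.Agent.Lib.Helper3.ChevM

/-- Compiled columns of the root elements of type D4. -/
def colsD4 (r c : ℕ) : List CEnt :=
  cond (Nat.blt r 12) (cond (Nat.blt r 6) (cond (Nat.blt r 3) (cond (Nat.blt r 1) (cond (Nat.beq r 0) (colsD4_0 c) []) (cond (Nat.blt r 2) (cond (Nat.beq r 1) (colsD4_1 c) []) (cond (Nat.beq r 2) (colsD4_2 c) []))) (cond (Nat.blt r 4) (cond (Nat.beq r 3) (colsD4_3 c) []) (cond (Nat.blt r 5) (cond (Nat.beq r 4) (colsD4_4 c) []) (cond (Nat.beq r 5) (colsD4_5 c) [])))) (cond (Nat.blt r 9) (cond (Nat.blt r 7) (cond (Nat.beq r 6) (colsD4_6 c) []) (cond (Nat.blt r 8) (cond (Nat.beq r 7) (colsD4_7 c) []) (cond (Nat.beq r 8) (colsD4_8 c) []))) (cond (Nat.blt r 10) (cond (Nat.beq r 9) (colsD4_9 c) []) (cond (Nat.blt r 11) (cond (Nat.beq r 10) (colsD4_10 c) []) (cond (Nat.beq r 11) (colsD4_11 c)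 []))))) (cond (Nat.blt r 18) (cond (Nat.blt r 15) (cond (Nat.blt r 13) (cond (Nat.beq r 12) (colsD4_12 c) []) (cond (Nat.blt r 14) (cond (Nat.beq r 13) (colsD4_13 c) []) (cond (Nat.beq r 14) (colsD4_14 c) []))) (cond (Nat.blt r 16) (cond (Nat.beq r 15) (colsD4_15 c) []) (cond (Nat.blt r 17) (cond (Nat.beq r 16) (colsD4_16 c) []) (cond (Nat.beq r 17) (colsD4_17 c) [])))) (cond (Nat.blt r 21) (cond (Nat.blt r 19) (cond (Nat.beq r 18) (colsD4_18 c) []) (cond (Nat.blt r 20) (cond (Nat.beq r 19) (colsD4_19 c) []) (cond (Nat.beq r 20) (colsD4_20 c) []))) (cond (Nat.blt r 22) (cond (Nat.beq r 21) (colsD4_21 c) []) (cond (Nat.blt r 23) (cond (Nat.beq r 22) (colsD4_22 c) []) (cond (Nat.beq r 23) (colsD4_23 c) [])))))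

end Cfsg.Agent.Lib.Helper3.ChevM
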