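import Cfsg.Agent.Lib.Helper3.ChevM2
set_option autoImplicit false
set_option maxRecDepth 100000

namespace Cfsg.Agent.Lib.Helper3.ChevM

/-- Compiled columns of `x_0` for type D4. -/
def colsD4_0 (c : ℕ) : List CEnt :=
  cond (Nat.blt c 20) (cond (Nat.blt c 3) (cond (Nat.blt c 1) (cond (Nat.beq c 0) [⟨4, 0, 1⟩] []) (cond (Nat.blt c 2) (cond (Nat.beq c 1) [⟨4, 1, 1⟩] []) (cond (Nat.beq c 2) [⟨4, 0, 1⟩] []))) (cond (Nat.blt c 18) (cond (Nat.beq c 3) [⟨4, 0, 1⟩] []) (cond (Nat.blt c 19) (cond (Nat.beq c 18) [⟨5, 1, 1⟩] []) (cond (Nat.beq c 19) [⟨6, -1, 1⟩] [])))) (cond (Nat.blt c 24) (cond (Nat.blt c 21) (cond (Nat.beq c 20) [⟨7, -1, 1⟩] []) (cond (Nat.blt c 23) (cond (Nat.beq c 21) [⟨8, 1, 1⟩] []) (cond (Nat.beq c 23) [⟨10, -1, 1⟩] []))) (cond (Nat.blt c 26) (cond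 (Nat.blt c 25) (cond (Nat.beq c 24) [⟨11, 1, 1⟩] []) (cond (Nat.beq c 25) [⟨12, 1, 1⟩] [])) (cond (Nat.blt c 27) (cond (Nat.beq c 26) [⟨13, -1, 1⟩] []) (cond (Nat.beq c 27) [⟨4, -1, 2⟩, ⟨0, -1, 1⟩, ⟨1, -2, 1⟩, ⟨2, -1, 1⟩, ⟨3, -1, 1⟩] []))))

/-- Compiled columns of `x_1` for type D4. -/
def colsD4_1 (c : ℕ) : List CEnt :=
  cond (Nat.blt c 17) (cond (Nat.blt c 3) (cond (Nat.blt c 1) (cond (Nat.beq c 0) [⟨5, 1, 1⟩] []) (cond (Nat.blt c 2) (cond (Nat.beq c 1) [⟨5, -1, 1⟩] []) (cond (Nat.beq c 2) [⟨5, 1, 1⟩] []))) (cond (Nat.blt c 13) (cond (Nat.beq c 3) [⟨5, 1, 1⟩] []) (cond (Nat.blt c 16) (cond (Nat.beq c 13) [⟨4, 1, 1⟩] []) (cond (Nat.beq c 16) [⟨6, 1, 1⟩] [])))) (cond (Nat.blt c 24) (cond (Nat.blt c 21) (cond (Nat.beq c 17) [⟨7, 1, 1⟩] []) (cond (Nat.blt c 22)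 (cond (Nat.beq c 21) [⟨9, 1, 1⟩] []) (cond (Nat.beq c 22) [⟨10, -1, 1⟩] []))) (cond (Nat.blt c 26) (cond (Nat.blt c 25) (cond (Nat.beq c 24) [⟨14, -1, 1⟩] []) (cond (Nat.beq c 25) [⟨15, -1, 1⟩] [])) (cond (Nat.blt c 27) (cond (Nat.beq c 26) [⟨5, -1, 2⟩, ⟨0, -1, 1⟩, ⟨1, -1, 1⟩, ⟨2, -1, 1⟩, ⟨3, -1, 1⟩] []) (cond (Nat.beq c 27) [⟨18, -1, 1⟩] []))))

/-- Compiled columns of `x_2` for type D4. -/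
def colsD4_2 (c : ℕ) : List CEnt :=
  cond (Nat.blt c 17) (cond (Nat.blt c 3) (cond (Nat.blt c 1) (cond (Nat.beq c 0) [⟨6, 1, 1⟩] []) (cond (Nat.blt c 2) (cond (Nat.beq c 1) [⟨6, 0, 1⟩] []) (cond (Nat.beq c 2) [⟨6, 1, 1⟩] []))) (cond (Nat.blt c 12) (cond (Nat.beq c 3) [⟨6, -1, 1⟩] []) (cond (Nat.blt c 15) (cond (Nat.beq c 12) [⟨4, -1, 1⟩] []) (cond (Nat.beq c 15) [⟨5, 1, 1⟩] [])))) (cond (Nat.blt c 23) (cond (Nat.blt c 20) (cond (Nat.beq c 17) [⟨8, 1, 1⟩] []) (cond (Nat.blt c 22) (cond (Nat.beq c 20) [⟨9, 1, 1⟩] []) (cond (Nat.beq c 22) [⟨11, -1, 1⟩] []))) (cond (Nat.blt c 26) (cond (Nat.blt c 25) (cond (Nat.beq c 23) [⟨14, -1, 1⟩] []) (cond (Nat.beq c 25) [⟨6, -1, 2⟩, ⟨0, -1, 1⟩, ⟨1, -1, 1⟩, ⟨2, -1, 1⟩, ⟨3, 0, 1⟩] [])) (cond (Nat.blt c 27) (cond (Nat.beq c 26)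 [⟨16, -1, 1⟩] []) (cond (Nat.beq c 27) [⟨19, 1, 1⟩] []))))

/-- Compiled columns of `x_3` for type D4. -/
def colsD4_3 (c : ℕ) : List CEnt :=
  cond (Nat.blt c 16) (cond (Nat.blt c 3) (cond (Nat.blt c 1) (cond (Nat.beq c 0) [⟨7, 1, 1⟩] []) (cond (Nat.blt c 2) (cond (Nat.beq c 1) [⟨7, 0, 1⟩] []) (cond (Nat.beq c 2) [⟨7, -1, 1⟩] []))) (cond (Nat.blt c 11) (cond (Nat.beq c 3) [⟨7, 1, 1⟩] []) (cond (Nat.blt c 14) (cond (Nat.beq c 11) [⟨4, -1, 1⟩] []) (cond (Nat.beq c 14) [⟨5, 1, 1⟩] [])))) (cond (Nat.blt c 23) (cond (Nat.blt c 19) (cond (Nat.beq c 16) [⟨8, 1, 1⟩] []) (cond (Nat.blt c 22) (cond (Nat.beq c 19) [⟨9, 1, 1⟩] []) (cond (Nat.beq c 22) [⟨12, -1, 1⟩] []))) (cond (Nat.blt c 26) (cond (Nat.blt c 24) (cond (Nat.beq c 23) [⟨15, -1, 1⟩] []) (cond (Nat.beq c 24)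 [⟨7, -1, 2⟩, ⟨0, -1, 1⟩, ⟨1, -1, 1⟩, ⟨2, 0, 1⟩, ⟨3, -1, 1⟩] [])) (cond (Nat.blt c 27) (cond (Nat.beq c 26) [⟨17, -1, 1⟩] []) (cond (Nat.beq c 27) [⟨20, 1, 1⟩] []))))

/-- Compiled columns of `x_4` for type D4. -/
def colsD4_4 (c : ℕ) : List CEnt :=
  cond (Nat.blt c 15) (cond (Nat.blt c 3) (cond (Nat.blt c 1) (cond (Nat.beq c 0) [⟨8, 1, 1⟩] []) (cond (Nat.blt c 2) (cond (Nat.beq c 1) [⟨8, 1, 1⟩] []) (cond (Nat.beq c 2) [⟨8, -1, 1⟩] []))) (cond (Nat.blt c 10) (cond (Nat.beq c 3) [⟨8, -1, 1⟩] []) (cond (Nat.blt c 14) (cond (Nat.beq c 10) [⟨4, 1, 1⟩] []) (cond (Nat.beq c 14) [⟨6, 1, 1⟩] [])))) (cond (Nat.blt c 23) (cond (Nat.blt c 18) (cond (Nat.beq c 15) [⟨7, 1, 1⟩] []) (cond (Nat.blt c 22) (cond (Nat.beq c 18) [⟨9, 1, 1⟩] []) (cond (Nat.beq c 22) [⟨13, -1, 1⟩] [])))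 (cond (Nat.blt c 25) (cond (Nat.blt c 24) (cond (Nat.beq c 23) [⟨8, -1, 2⟩, ⟨0, -1, 1⟩, ⟨1, -1, 1⟩, ⟨2, 0, 1⟩, ⟨3, 0, 1⟩] []) (cond (Nat.beq c 24) [⟨16, -1, 1⟩] [])) (cond (Nat.blt c 27) (cond (Nat.beq c 25) [⟨17, -1, 1⟩] []) (cond (Nat.beq c 27) [⟨21, -1, 1⟩] []))))

/-- Compiled columns of `x_5` for type D4. -/
def colsD4_5 (c : ℕ) : List CEnt :=
  cond (Nat.blt c 12) (cond (Nat.blt c 3) (cond (Nat.blt c 1) (cond (Nat.beq c 0) [⟨9, 2, 1⟩] []) (cond (Nat.blt c 2) (cond (Nat.beq c 1) [⟨9, -1, 1⟩] []) (cond (Nat.beq c 2) [⟨9, 0, 1⟩] []))) (cond (Nat.blt c 10) (cond (Nat.beq c 3) [⟨9, 0, 1⟩] []) (cond (Nat.blt c 11) (cond (Nat.beq c 10) [⟨5, 1, 1⟩] []) (cond (Nat.beq c 11) [⟨6, 1, 1⟩] [])))) (cond (Nat.blt c 23) (cond (Nat.blt c 13) (cond (Nat.beq c 12) [⟨7, 1, 1⟩]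 []) (cond (Nat.blt c 22) (cond (Nat.beq c 13) [⟨8, 1, 1⟩] []) (cond (Nat.beq c 22) [⟨9, -1, 2⟩, ⟨0, -1, 1⟩, ⟨1, 0, 1⟩, ⟨2, 0, 1⟩, ⟨3, 0, 1⟩] []))) (cond (Nat.blt c 25) (cond (Nat.blt c 24) (cond (Nat.beq c 23) [⟨18, -1, 1⟩] []) (cond (Nat.beq c 24) [⟨19, -1, 1⟩] [])) (cond (Nat.blt c 26) (cond (Nat.beq c 25) [⟨20, -1, 1⟩] []) (cond (Nat.beq c 26) [⟨21, -1, 1⟩] []))))

/-- Compiled columns of `x_6` for type D4. -/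
def colsD4_6 (c : ℕ) : List CEnt :=
  cond (Nat.blt c 16) (cond (Nat.blt c 3) (cond (Nat.blt c 1) (cond (Nat.beq c 0) [⟨10, -1, 1⟩] []) (cond (Nat.blt c 2) (cond (Nat.beq c 1) [⟨10, 0, 1⟩] []) (cond (Nat.beq c 2) [⟨10, 1, 1⟩] []))) (cond (Nat.blt c 8) (cond (Nat.beq c 3) [⟨10, 1, 1⟩] []) (cond (Nat.blt c 9) (cond (Nat.beq c 8) [⟨4, -1, 1⟩] []) (cond (Nat.beq c 9) [⟨5, -1, 1⟩] [])))) (cond (Nat.blt c 20) (cond (Nat.blt c 17) (cond (Nat.beq c 16) [⟨11, 1, 1⟩] []) (cond (Nat.blt c 19) (cond (Nat.beq c 17) [⟨12, 1, 1⟩] []) (cond (Nat.beq c 19) [⟨14, -1, 1⟩] []))) (cond (Nat.blt c 26) (cond (Nat.blt c 21) (cond (Nat.beq c 20) [⟨15, -1, 1⟩] []) (cond (Nat.beq c 21) [⟨10, -1, 2⟩, ⟨0, 0, 1⟩, ⟨1, -1, 1⟩, ⟨2, -1, 1⟩, ⟨3, -1, 1⟩] [])) (cond (Nat.blt c 27) (cond (Nat.beq c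 26) [⟨22, 1, 1⟩] []) (cond (Nat.beq c 27) [⟨23, 1, 1⟩] []))))

/-- Compiled columns of `x_7` for type D4. -/
def colsD4_7 (c : ℕ) : List CEnt :=
  cond (Nat.blt c 15) (cond (Nat.blt c 3) (cond (Nat.blt c 1) (cond (Nat.beq c 0) [⟨11, -1, 1⟩] []) (cond (Nat.blt c 2) (cond (Nat.beq c 1) [⟨11, 1, 1⟩] []) (cond (Nat.beq c 2) [⟨11, 1, 1⟩] []))) (cond (Nat.blt c 7) (cond (Nat.beq c 3) [⟨11, -1, 1⟩] []) (cond (Nat.blt c 9) (cond (Nat.beq c 7) [⟨4, 1, 1⟩] []) (cond (Nat.beq c 9) [⟨6, -1, 1⟩] [])))) (cond (Nat.blt c 20) (cond (Nat.blt c 17) (cond (Nat.beq c 15) [⟨10, 1, 1⟩] []) (cond (Nat.blt c 18) (cond (Nat.beq c 17) [⟨13, 1, 1⟩] []) (cond (Nat.beq c 18) [⟨14, -1, 1⟩] []))) (cond (Nat.blt c 25) (cond (Nat.blt c 21) (cond (Nat.beq c 20) [⟨11, -1, 2⟩, ⟨0, 0, 1⟩, ⟨1, -1,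 1⟩, ⟨2, -1, 1⟩, ⟨3, 0, 1⟩] []) (cond (Nat.beq c 21) [⟨16, -1, 1⟩] [])) (cond (Nat.blt c 27) (cond (Nat.beq c 25) [⟨22, 1, 1⟩] []) (cond (Nat.beq c 27) [⟨24, -1, 1⟩] []))))

/-- Compiled columns of `x_8` for type D4. -/
def colsD4_8 (c : ℕ) : List CEnt :=
  cond (Nat.blt c 14) (cond (Nat.blt c 3) (cond (Nat.blt c 1) (cond (Nat.beq c 0) [⟨12, -1, 1⟩] []) (cond (Nat.blt c 2) (cond (Nat.beq c 1) [⟨12, 1, 1⟩] []) (cond (Nat.beq c 2) [⟨12, -1, 1⟩] []))) (cond (Nat.blt c 6) (cond (Nat.beq c 3) [⟨12, 1, 1⟩] []) (cond (Nat.blt c 9) (cond (Nat.beq c 6) [⟨4, 1, 1⟩] []) (cond (Nat.beq c 9) [⟨7, -1, 1⟩] [])))) (cond (Nat.blt c 19) (cond (Nat.blt c 16) (cond (Nat.beq c 14) [⟨10, 1, 1⟩] []) (cond (Nat.blt c 18) (cond (Nat.beq c 16) [⟨13, 1, 1⟩] []) (cond (Nat.beq c 18) [⟨15,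 -1, 1⟩] []))) (cond (Nat.blt c 24) (cond (Nat.blt c 21) (cond (Nat.beq c 19) [⟨12, -1, 2⟩, ⟨0, 0, 1⟩, ⟨1, -1, 1⟩, ⟨2, 0, 1⟩, ⟨3, -1, 1⟩] []) (cond (Nat.beq c 21) [⟨17, -1, 1⟩] [])) (cond (Nat.blt c 27) (cond (Nat.beq c 24) [⟨22, 1, 1⟩] []) (cond (Nat.beq c 27) [⟨25, -1, 1⟩] []))))

/-- Compiled columns of `x_9` for type D4. -/
def colsD4_9 (c : ℕ) : List CEnt :=
  cond (Nat.blt c 14) (cond (Nat.blt c 3) (cond (Nat.blt c 1) (cond (Nat.beq c 0) [⟨13, -1, 1⟩] []) (cond (Nat.blt c 2) (cond (Nat.beq c 1) [⟨13, 2, 1⟩] []) (cond (Nat.beq c 2) [⟨13, -1, 1⟩] []))) (cond (Nat.blt c 5) (cond (Nat.beq c 3) [⟨13, -1, 1⟩] []) (cond (Nat.blt c 9) (cond (Nat.beq c 5) [⟨4, -1, 1⟩] []) (cond (Nat.beq c 9) [⟨8, -1, 1⟩] [])))) (cond (Nat.blt c 19) (cond (Nat.blt c 15) (cond (Nat.beq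 c 14) [⟨11, 1, 1⟩] []) (cond (Nat.blt c 18) (cond (Nat.beq c 15) [⟨12, 1, 1⟩] []) (cond (Nat.beq c 18) [⟨13, -1, 2⟩, ⟨0, 0, 1⟩, ⟨1, -1, 1⟩, ⟨2, 0, 1⟩, ⟨3, 0, 1⟩] []))) (cond (Nat.blt c 23) (cond (Nat.blt c 20) (cond (Nat.beq c 19) [⟨16, -1, 1⟩] []) (cond (Nat.beq c 20) [⟨17, -1, 1⟩] [])) (cond (Nat.blt c 27) (cond (Nat.beq c 23) [⟨22, 1, 1⟩] []) (cond (Nat.beq c 27) [⟨26, 1, 1⟩] []))))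

/-- Compiled columns of `x_10` for type D4. -/
def colsD4_10 (c : ℕ) : List CEnt :=
  cond (Nat.blt c 12) (cond (Nat.blt c 3) (cond (Nat.blt c 1) (cond (Nat.beq c 0) [⟨14, 0, 1⟩] []) (cond (Nat.blt c 2) (cond (Nat.beq c 1) [⟨14, -1, 1⟩] []) (cond (Nat.beq c 2) [⟨14, 2, 1⟩] []))) (cond (Nat.blt c 7) (cond (Nat.beq c 3) [⟨14, 0, 1⟩] []) (cond (Nat.blt c 8) (cond (Nat.beq c 7) [⟨5, -1, 1⟩] []) (cond (Nat.beq c 8) [⟨6, -1, 1⟩] [])))) (cond (Nat.blt c 20) (cond (Nat.blt c 13) (cond (Nat.beq c 12) [⟨10, -1, 1⟩] []) (cond (Nat.blt c 17) (cond (Nat.beq c 13) [⟨11, -1, 1⟩] []) (cond (Nat.beq c 17) [⟨14, -1, 2⟩, ⟨0, 0, 1⟩, ⟨1, 0, 1⟩, ⟨2, -1, 1⟩, ⟨3, 0, 1⟩] []))) (cond (Nat.blt c 25) (cond (Nat.blt c 21) (cond (Nat.beq c 20) [⟨18, 1, 1⟩] []) (cond (Nat.beq c 21) [⟨19, 1,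 1⟩] [])) (cond (Nat.blt c 26) (cond (Nat.beq c 25) [⟨23, 1, 1⟩] []) (cond (Nat.beq c 26) [⟨24, 1, 1⟩] []))))

/-- Compiled columns of `x_11` for type D4. -/
def colsD4_11 (c : ℕ) : List CEnt :=
  cond (Nat.blt c 11) (cond (Nat.blt c 3) (cond (Nat.blt c 1) (cond (Nat.beq c 0) [⟨15, 0, 1⟩] []) (cond (Nat.blt c 2) (cond (Nat.beq c 1) [⟨15, -1, 1⟩] []) (cond (Nat.beq c 2) [⟨15, 0, 1⟩] []))) (cond (Nat.blt c 6) (cond (Nat.beq c 3) [⟨15, 2, 1⟩] []) (cond (Nat.blt c 8) (cond (Nat.beq c 6) [⟨5, -1, 1⟩] []) (cond (Nat.beq c 8) [⟨7, -1, 1⟩] [])))) (cond (Nat.blt c 19) (cond (Nat.blt c 13) (cond (Nat.beq c 11) [⟨10, -1, 1⟩] []) (cond (Nat.blt c 16) (cond (Nat.beq c 13) [⟨12, -1, 1⟩] []) (cond (Nat.beq c 16) [⟨15, -1, 2⟩, ⟨0, 0, 1⟩, ⟨1, 0, 1⟩, ⟨2, 0, 1⟩, ⟨3, -1, 1⟩] [])))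 (cond (Nat.blt c 24) (cond (Nat.blt c 21) (cond (Nat.beq c 19) [⟨18, 1, 1⟩] []) (cond (Nat.beq c 21) [⟨20, 1, 1⟩] [])) (cond (Nat.blt c 26) (cond (Nat.beq c 24) [⟨23, 1, 1⟩] []) (cond (Nat.beq c 26) [⟨25, 1, 1⟩] []))))

/-- Compiled columns of `x_12` for type D4. -/
def colsD4_12 (c : ℕ) : List CEnt :=
  cond (Nat.blt c 10) (cond (Nat.blt c 3) (cond (Nat.blt c 1) (cond (Nat.beq c 0) [⟨16, 0, 1⟩] []) (cond (Nat.blt c 2) (cond (Nat.beq c 1) [⟨16, 1, 1⟩] []) (cond (Nat.beq c 2) [⟨16, 0, 1⟩] []))) (cond (Nat.blt c 5) (cond (Nat.beq c 3) [⟨16, -2, 1⟩] []) (cond (Nat.blt c 7) (cond (Nat.beq c 5) [⟨6, -1, 1⟩] []) (cond (Nat.beq c 7) [⟨8, -1, 1⟩] [])))) (cond (Nat.blt c 18) (cond (Nat.blt c 12) (cond (Nat.beq c 10) [⟨11, -1, 1⟩] []) (cond (Nat.blt c 15) (cond (Nat.beq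 c 12) [⟨13, -1, 1⟩] []) (cond (Nat.beq c 15) [⟨16, -1, 2⟩, ⟨0, 0, 1⟩, ⟨1, 0, 1⟩, ⟨2, 0, 1⟩, ⟨3, 1, 1⟩] []))) (cond (Nat.blt c 23) (cond (Nat.blt c 20) (cond (Nat.beq c 18) [⟨19, 1, 1⟩] []) (cond (Nat.beq c 20) [⟨21, 1, 1⟩] [])) (cond (Nat.blt c 25) (cond (Nat.beq c 23) [⟨24, 1, 1⟩] []) (cond (Nat.beq c 25) [⟨26, 1, 1⟩] []))))

/-- Compiled columns of `x_13` for type D4. -/
def colsD4_13 (c : ℕ) : List CEnt :=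
  cond (Nat.blt c 10) (cond (Nat.blt c 3) (cond (Nat.blt c 1) (cond (Nat.beq c 0) [⟨17, 0, 1⟩] []) (cond (Nat.blt c 2) (cond (Nat.beq c 1) [⟨17, 1, 1⟩] []) (cond (Nat.beq c 2) [⟨17, -2, 1⟩] []))) (cond (Nat.blt c 5) (cond (Nat.beq c 3) [⟨17, 0, 1⟩] []) (cond (Nat.blt c 6) (cond (Nat.beq c 5) [⟨7, -1, 1⟩] []) (cond (Nat.beq c 6) [⟨8, -1, 1⟩] [])))) (cond (Nat.blt c 18) (cond (Nat.blt c 11) (cond (Nat.beq c 10) [⟨12, -1, 1⟩] []) (cond (Nat.blt c 14) (cond (Nat.beq c 11) [⟨13, -1, 1⟩] []) (cond (Nat.beq c 14) [⟨17, -1, 2⟩, ⟨0, 0, 1⟩, ⟨1, 0, 1⟩, ⟨2, 1, 1⟩, ⟨3, 0, 1⟩] []))) (cond (Nat.blt c 23) (cond (Nat.blt c 19) (cond (Nat.beq c 18) [⟨20, 1, 1⟩] []) (cond (Nat.beq c 19) [⟨21, 1, 1⟩] [])) (cond (Nat.blt c 24) (cond (Nat.beq c 23) [⟨25, 1, 1⟩] []) (cond (Nat.beq c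 24) [⟨26, 1, 1⟩] []))))

/-- Compiled columns of `x_14` for type D4. -/
def colsD4_14 (c : ℕ) : List CEnt :=
  cond (Nat.blt c 11) (cond (Nat.blt c 3) (cond (Nat.blt c 1) (cond (Nat.beq c 0) [⟨18, 1, 1⟩] []) (cond (Nat.blt c 2) (cond (Nat.beq c 1) [⟨18, -2, 1⟩] []) (cond (Nat.beq c 2) [⟨18, 1, 1⟩] []))) (cond (Nat.blt c 4) (cond (Nat.beq c 3) [⟨18, 1, 1⟩] []) (cond (Nat.blt c 8) (cond (Nat.beq c 4) [⟨5, -1, 1⟩] []) (cond (Nat.beq c 8) [⟨9, -1, 1⟩] [])))) (cond (Nat.blt c 16) (cond (Nat.blt c 12) (cond (Nat.beq c 11) [⟨14, 1, 1⟩] []) (cond (Nat.blt c 13) (cond (Nat.beq c 12) [⟨15, 1, 1⟩] []) (cond (Nat.beq c 13) [⟨18, -1, 2⟩, ⟨0, 0, 1⟩, ⟨1, 1, 1⟩, ⟨2, 0, 1⟩, ⟨3, 0, 1⟩] []))) (cond (Nat.blt c 22) (cond (Nat.blt c 17) (cond (Nat.beq c 16) [⟨19, -1, 1⟩] []) (cond (Nat.beq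 c 17) [⟨20, -1, 1⟩] [])) (cond (Nat.blt c 26) (cond (Nat.beq c 22) [⟨23, 1, 1⟩] []) (cond (Nat.beq c 26) [⟨27, 1, 1⟩] []))))

/-- Compiled columns of `x_15` for type D4. -/
def colsD4_15 (c : ℕ) : List CEnt :=
  cond (Nat.blt c 10) (cond (Nat.blt c 3) (cond (Nat.blt c 1) (cond (Nat.beq c 0) [⟨19, 1, 1⟩] []) (cond (Nat.blt c 2) (cond (Nat.beq c 1) [⟨19, -1, 1⟩] []) (cond (Nat.beq c 2) [⟨19, 1, 1⟩] []))) (cond (Nat.blt c 4) (cond (Nat.beq c 3) [⟨19, -1, 1⟩] []) (cond (Nat.blt c 7) (cond (Nat.beq c 4) [⟨6, 1, 1⟩] []) (cond (Nat.beq c 7) [⟨9, -1, 1⟩] [])))) (cond (Nat.blt c 15) (cond (Nat.blt c 12) (cond (Nat.beq c 10) [⟨14, 1, 1⟩] []) (cond (Nat.blt c 13) (cond (Nat.beq c 12) [⟨19, -1, 2⟩, ⟨0, 0, 1⟩, ⟨1, 1, 1⟩, ⟨2, 0, 1⟩, ⟨3, 1, 1⟩] []) (cond (Nat.beq c 13) [⟨16,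 1, 1⟩] []))) (cond (Nat.blt c 22) (cond (Nat.blt c 17) (cond (Nat.beq c 15) [⟨18, -1, 1⟩] []) (cond (Nat.beq c 17) [⟨21, -1, 1⟩] [])) (cond (Nat.blt c 25) (cond (Nat.beq c 22) [⟨24, 1, 1⟩] []) (cond (Nat.beq c 25) [⟨27, -1, 1⟩] []))))

/-- Compiled columns of `x_16` for type D4. -/
def colsD4_16 (c : ℕ) : List CEnt :=
  cond (Nat.blt c 10) (cond (Nat.blt c 3) (cond (Nat.blt c 1) (cond (Nat.beq c 0) [⟨20, 1, 1⟩] []) (cond (Nat.blt c 2) (cond (Nat.beq c 1) [⟨20, -1, 1⟩] []) (cond (Nat.beq c 2) [⟨20, -1, 1⟩] []))) (cond (Nat.blt c 4) (cond (Nat.beq c 3) [⟨20, 1, 1⟩] []) (cond (Nat.blt c 6) (cond (Nat.beq c 4) [⟨7, 1, 1⟩] []) (cond (Nat.beq c 6) [⟨9, -1, 1⟩] [])))) (cond (Nat.blt c 14) (cond (Nat.blt c 11) (cond (Nat.beq c 10) [⟨15, 1, 1⟩] []) (cond (Nat.blt c 13)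 (cond (Nat.beq c 11) [⟨20, -1, 2⟩, ⟨0, 0, 1⟩, ⟨1, 1, 1⟩, ⟨2, 1, 1⟩, ⟨3, 0, 1⟩] []) (cond (Nat.beq c 13) [⟨17, 1, 1⟩] []))) (cond (Nat.blt c 22) (cond (Nat.blt c 16) (cond (Nat.beq c 14) [⟨18, -1, 1⟩] []) (cond (Nat.beq c 16) [⟨21, -1, 1⟩] [])) (cond (Nat.blt c 24) (cond (Nat.beq c 22) [⟨25, 1, 1⟩] []) (cond (Nat.beq c 24) [⟨27, -1, 1⟩] []))))

/-- Compiled columns of `x_17` for type D4. -/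
def colsD4_17 (c : ℕ) : List CEnt :=
  cond (Nat.blt c 10) (cond (Nat.blt c 3) (cond (Nat.blt c 1) (cond (Nat.beq c 0) [⟨21, 1, 1⟩] []) (cond (Nat.blt c 2) (cond (Nat.beq c 1) [⟨21, 0, 1⟩] []) (cond (Nat.beq c 2) [⟨21, -1, 1⟩] []))) (cond (Nat.blt c 4) (cond (Nat.beq c 3) [⟨21, -1, 1⟩] []) (cond (Nat.blt c 5) (cond (Nat.beq c 4) [⟨8, -1, 1⟩] []) (cond (Nat.beq c 5) [⟨9, -1, 1⟩] [])))) (cond (Nat.blt c 14) (cond (Nat.blt c 11) (cond (Nat.beq c 10) [⟨21, -1, 2⟩, ⟨0, 0, 1⟩, ⟨1, 1, 1⟩, ⟨2, 1, 1⟩, ⟨3, 1, 1⟩] []) (cond (Nat.blt c 12) (cond (Nat.beq c 11) [⟨16, 1, 1⟩] []) (cond (Nat.beq c 12) [⟨17, 1, 1⟩] []))) (cond (Nat.blt c 22) (cond (Nat.blt c 15) (cond (Nat.beq c 14) [⟨19, -1, 1⟩] []) (cond (Nat.beq c 15) [⟨20, -1, 1⟩] [])) (cond (Nat.blt c 23) (cond (Nat.beq c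 22) [⟨26, 1, 1⟩] []) (cond (Nat.beq c 23) [⟨27, 1, 1⟩] []))))

/-- Compiled columns of `x_18` for type D4. -/
def colsD4_18 (c : ℕ) : List CEnt :=
  cond (Nat.blt c 7) (cond (Nat.blt c 3) (cond (Nat.blt c 1) (cond (Nat.beq c 0) [⟨22, -2, 1⟩] []) (cond (Nat.blt c 2) (cond (Nat.beq c 1) [⟨22, 1, 1⟩] []) (cond (Nat.beq c 2) [⟨22, 0, 1⟩] []))) (cond (Nat.blt c 5) (cond (Nat.beq c 3) [⟨22, 0, 1⟩] []) (cond (Nat.blt c 6) (cond (Nat.beq c 5) [⟨10, 1, 1⟩] []) (cond (Nat.beq c 6) [⟨11, 1, 1⟩] [])))) (cond (Nat.blt c 18) (cond (Nat.blt c 8) (cond (Nat.beq c 7) [⟨12, 1, 1⟩] []) (cond (Nat.blt c 9) (cond (Nat.beq c 8) [⟨13, 1, 1⟩] []) (cond (Nat.beq c 9) [⟨22, -1, 2⟩, ⟨0, 1, 1⟩, ⟨1, 0, 1⟩, ⟨2, 0, 1⟩, ⟨3, 0, 1⟩] []))) (cond (Nat.blt c 20) (cond (Nat.blt c 19) (cond (Nat.beq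 c 18) [⟨23, -1, 1⟩] []) (cond (Nat.beq c 19) [⟨24, -1, 1⟩] [])) (cond (Nat.blt c 21) (cond (Nat.beq c 20) [⟨25, -1, 1⟩] []) (cond (Nat.beq c 21) [⟨26, -1, 1⟩] []))))

/-- Compiled columns of `x_19` for type D4. -/
def colsD4_19 (c : ℕ) : List CEnt :=
  cond (Nat.blt c 7) (cond (Nat.blt c 3) (cond (Nat.blt c 1) (cond (Nat.beq c 0) [⟨23, -1, 1⟩] []) (cond (Nat.blt c 2) (cond (Nat.beq c 1) [⟨23, -1, 1⟩] []) (cond (Nat.beq c 2) [⟨23, 1, 1⟩] []))) (cond (Nat.blt c 4) (cond (Nat.beq c 3) [⟨23, 1, 1⟩] []) (cond (Nat.blt c 6) (cond (Nat.beq c 4) [⟨10, 1, 1⟩] []) (cond (Nat.beq c 6) [⟨14, 1, 1⟩] [])))) (cond (Nat.blt c 13) (cond (Nat.blt c 8) (cond (Nat.beq c 7) [⟨15, 1, 1⟩] []) (cond (Nat.blt c 9) (cond (Nat.beq c 8) [⟨23, -1, 2⟩, ⟨0, 1, 1⟩, ⟨1, 1, 1⟩, ⟨2, 0, 1⟩, ⟨3, 0,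 1⟩] []) (cond (Nat.beq c 9) [⟨18, 1, 1⟩] []))) (cond (Nat.blt c 17) (cond (Nat.blt c 16) (cond (Nat.beq c 13) [⟨22, -1, 1⟩] []) (cond (Nat.beq c 16) [⟨24, -1, 1⟩] [])) (cond (Nat.blt c 21) (cond (Nat.beq c 17) [⟨25, -1, 1⟩] []) (cond (Nat.beq c 21) [⟨27, -1, 1⟩] []))))

/-- Compiled columns of `x_20` for type D4. -/
def colsD4_20 (c : ℕ) : List CEnt :=
  cond (Nat.blt c 7) (cond (Nat.blt c 3) (cond (Nat.blt c 1) (cond (Nat.beq c 0) [⟨24, -1, 1⟩] []) (cond (Nat.blt c 2) (cond (Nat.beq c 1) [⟨24, 0, 1⟩] []) (cond (Nat.beq c 2) [⟨24, 1, 1⟩] []))) (cond (Nat.blt c 4) (cond (Nat.beq c 3) [⟨24, -1, 1⟩] []) (cond (Nat.blt c 5) (cond (Nat.beq c 4) [⟨11, -1, 1⟩] []) (cond (Nat.beq c 5) [⟨14, 1, 1⟩] [])))) (cond (Nat.blt c 12) (cond (Nat.blt c 8) (cond (Nat.beq c 7) [⟨24,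 -1, 2⟩, ⟨0, 1, 1⟩, ⟨1, 1, 1⟩, ⟨2, 0, 1⟩, ⟨3, 1, 1⟩] []) (cond (Nat.blt c 9) (cond (Nat.beq c 8) [⟨16, 1, 1⟩] []) (cond (Nat.beq c 9) [⟨19, 1, 1⟩] []))) (cond (Nat.blt c 17) (cond (Nat.blt c 15) (cond (Nat.beq c 12) [⟨22, -1, 1⟩] []) (cond (Nat.beq c 15) [⟨23, -1, 1⟩] [])) (cond (Nat.blt c 20) (cond (Nat.beq c 17) [⟨26, -1, 1⟩] []) (cond (Nat.beq c 20) [⟨27, 1, 1⟩] []))))

/-- Compiled columns of `x_21` for type D4. -/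
def colsD4_21 (c : ℕ) : List CEnt :=
  cond (Nat.blt c 6) (cond (Nat.blt c 3) (cond (Nat.blt c 1) (cond (Nat.beq c 0) [⟨25, -1, 1⟩] []) (cond (Nat.blt c 2) (cond (Nat.beq c 1) [⟨25, 0, 1⟩] []) (cond (Nat.beq c 2) [⟨25, -1, 1⟩] []))) (cond (Nat.blt c 4) (cond (Nat.beq c 3) [⟨25, 1, 1⟩] []) (cond (Nat.blt c 5) (cond (Nat.beq c 4) [⟨12, -1, 1⟩] []) (cond (Nat.beq c 5) [⟨15, 1, 1⟩] [])))) (cond (Nat.blt c 11) (cond (Nat.blt c 8) (cond (Nat.beq c 6) [⟨25, -1, 2⟩, ⟨0, 1, 1⟩, ⟨1, 1, 1⟩, ⟨2, 1, 1⟩, ⟨3, 0, 1⟩] []) (cond (Nat.blt c 9) (cond (Nat.beq c 8) [⟨17, 1, 1⟩] []) (cond (Nat.beq c 9) [⟨20, 1, 1⟩] []))) (cond (Nat.blt c 16) (cond (Nat.blt c 14) (cond (Nat.beq c 11) [⟨22, -1, 1⟩] []) (cond (Nat.beq c 14) [⟨23, -1, 1⟩] [])) (cond (Nat.blt c 19) (cond (Nat.beq c 16) [⟨26,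 -1, 1⟩] []) (cond (Nat.beq c 19) [⟨27, 1, 1⟩] []))))

/-- Compiled columns of `x_22` for type D4. -/
def colsD4_22 (c : ℕ) : List CEnt :=
  cond (Nat.blt c 6) (cond (Nat.blt c 3) (cond (Nat.blt c 1) (cond (Nat.beq c 0) [⟨26, -1, 1⟩] []) (cond (Nat.blt c 2) (cond (Nat.beq c 1) [⟨26, 1, 1⟩] []) (cond (Nat.beq c 2) [⟨26, -1, 1⟩] []))) (cond (Nat.blt c 4) (cond (Nat.beq c 3) [⟨26, -1, 1⟩] []) (cond (Nat.blt c 5) (cond (Nat.beq c 4) [⟨13, 1, 1⟩] []) (cond (Nat.beq c 5) [⟨26, -1, 2⟩, ⟨0, 1, 1⟩, ⟨1, 1, 1⟩, ⟨2, 1, 1⟩, ⟨3, 1, 1⟩] [])))) (cond (Nat.blt c 10) (cond (Nat.blt c 7) (cond (Nat.beq c 6) [⟨16, 1, 1⟩] []) (cond (Nat.blt c 9) (cond (Nat.beq c 7) [⟨17, 1, 1⟩] []) (cond (Nat.beq c 9) [⟨21, 1, 1⟩] []))) (cond (Nat.blt c 15) (cond (Nat.blt c 14) (cond (Nat.beq c 10)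 [⟨22, -1, 1⟩] []) (cond (Nat.beq c 14) [⟨24, -1, 1⟩] [])) (cond (Nat.blt c 18) (cond (Nat.beq c 15) [⟨25, -1, 1⟩] []) (cond (Nat.beq c 18) [⟨27, -1, 1⟩] []))))

/-- Compiled columns of `x_23` for type D4. -/
def colsD4_23 (c : ℕ) : List CEnt :=
  cond (Nat.blt c 6) (cond (Nat.blt c 3) (cond (Nat.blt c 1) (cond (Nat.beq c 0) [⟨27, 0, 1⟩] []) (cond (Nat.blt c 2) (cond (Nat.beq c 1) [⟨27, -1, 1⟩] []) (cond (Nat.beq c 2) [⟨27, 0, 1⟩] []))) (cond (Nat.blt c 4) (cond (Nat.beq c 3) [⟨27, 0, 1⟩] []) (cond (Nat.blt c 5) (cond (Nat.beq c 4) [⟨27, -1, 2⟩, ⟨0, 1, 1⟩, ⟨1, 2, 1⟩, ⟨2, 1, 1⟩, ⟨3, 1, 1⟩] []) (cond (Nat.beq c 5) [⟨18, 1, 1⟩] [])))) (cond (Nat.blt c 10) (cond (Nat.blt c 7) (cond (Nat.beq c 6) [⟨19, -1, 1⟩] []) (cond (Nat.blt c 8) (cond (Nat.beq c 7) [⟨20, -1, 1⟩]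 []) (cond (Nat.beq c 8) [⟨21, 1, 1⟩] []))) (cond (Nat.blt c 12) (cond (Nat.blt c 11) (cond (Nat.beq c 10) [⟨23, -1, 1⟩] []) (cond (Nat.beq c 11) [⟨24, 1, 1⟩] [])) (cond (Nat.blt c 13) (cond (Nat.beq c 12) [⟨25, 1, 1⟩] []) (cond (Nat.beq c 13) [⟨26, -1, 1⟩] []))))

end Cfsg.Agent.Lib.Helper3.ChevM
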