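import Cfsg.Agent.Lib.Helper3.ChevData.D4Rel
import Cfsg.Agent.Lib.Helper3.ChevData.D4Wit
set_option autoImplicit false
set_option maxRecDepth 1000000
set_option Elab.async false

namespace Cfsg.Agent.Lib.Helper3.ChevM

theorem d4Comm_0_0 : allRange 0 400 ((fun k => commOKk cdD4 reflD4 etaD4 witD4 (k / 24) (k % 24))) = true := by decide +kernel
theorem d4Comm_0_400 : allRange 400 576 ((fun k => commOKk cdD4 reflD4 etaD4 witD4 (k / 24) (k % 24))) = true := by decide +kernel

/-- Steps of the derivation of the commutator formula of type D4 (roots 0 to 575). -/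
theorem d4Comm_0 : ∀ r, 0 ≤ r → r < 576 → ((fun k => commOKk cdD4 reflD4 etaD4 witD4 (k / 24) (k % 24))) r = true := by
  intro r h1 h2
  by_cases c0 : r < 400
  · exact allRange_spec d4Comm_0_0 r (by omega) c0
  exact allRange_spec d4Comm_0_400 r (by omega) h2

end Cfsg.Agent.Lib.Helper3.ChevM
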