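import Cfsg.Agent.Lib.Helper3.ChevData.D4Comm
set_option autoImplicit false

namespace Cfsg.Agent.Lib.Helper3.ChevM

/-- The commutator data of type D4. -/
def commD4 : CommData cdD4 relD4 where
  wit := witD4
  ok := of_pairRange (m := 24) (n := 24) d4Comm

end Cfsg.Agent.Lib.Helper3.ChevM
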