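import Cfsg.Agent.Lib.Helper3.Cox4
import Cfsg.Agent.Lib.Helper3.ChevData.D4Cox
set_option autoImplicit false
set_option maxRecDepth 1000000
open Cfsg Cfsg.Lie

namespace Cfsg.Agent.Lib.Helper3.ChevM

/-- Reflections of type D4 (as a conjugating word and a fundamental reflection) generating the Weyl group together with the Coxeter element. -/
def tsgD4 : List (List ℕ × ℕ) := [([2, 1], 1), ([1], 1)]

/-- The words of the reflections `tsgD4`. -/
def tswD4 : List (List ℕ) := tsgD4.map fun p => p.1 ++ [p.2] ++ p.1.reverse

/-- Words in the Coxeter element, its inverse and the reflections `tsgD4` for the fundamental reflections of type D4. -/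
def progD4 (i : ℕ) : List ℕ :=
  (#[[1, 3, 0], [3], [3, 2, 3], [0, 2, 1]] : Array (List ℕ)).getD i []

theorem d4GenW : genWeylCheck cdD4.D relD4.refl (List.range 4) tswD4 progD4 = true := by
  decide +kernel

theorem d4GenWne : reflW relD4.refl (tswD4.getD 0 []) 0 ≠ reflW relD4.refl (tswD4.getD 1 []) 0 := by
  decide +kernel

end Cfsg.Agent.Lib.Helper3.ChevM
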