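import Cfsg.Prelude.Def_ChevD4
import Cfsg.Agent.Lib.Helper3.ChevData.D4Hd2
import Cfsg.Agent.Lib.Helper3.ChevL2
set_option autoImplicit false
set_option maxRecDepth 1000000
set_option Elab.async false

namespace Cfsg.Agent.Lib.Helper3.ChevM

theorem d4Cv_0_0 : allRange 0 24 (fun k => commVecCheck Cfsg.Lie.chevD4 vecD4 (k / 24) (k % 24)) = true := by decide +kernel
theorem d4Cv_0_24 : allRange 24 48 (fun k => commVecCheck Cfsg.Lie.chevD4 vecD4 (k / 24) (k % 24)) = true := by decide +kernel
theorem d4Cv_0_48 : allRange 48 72 (fun k => commVecCheck Cfsg.Lie.chevD4 vecD4 (k / 24) (k % 24)) = true := by decide +kernel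
theorem d4Cv_0_72 : allRange 72 96 (fun k => commVecCheck Cfsg.Lie.chevD4 vecD4 (k / 24) (k % 24)) = true := by decide +kernel
theorem d4Cv_0_96 : allRange 96 120 (fun k => commVecCheck Cfsg.Lie.chevD4 vecD4 (k / 24) (k % 24)) = true := by decide +kernel
theorem d4Cv_0_120 : allRange 120 144 (fun k => commVecCheck Cfsg.Lie.chevD4 vecD4 (k / 24) (k % 24)) = true := by decide +kernel
theorem d4Cv_0_144 : allRange 144 168 (fun k => commVecCheck Cfsg.Lie.chevD4 vecD4 (k / 24) (k % 24)) = true := by decide +kernel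
theorem d4Cv_0_168 : allRange 168 192 (fun k => commVecCheck Cfsg.Lie.chevD4 vecD4 (k / 24) (k % 24)) = true := by decide +kernel
theorem d4Cv_0_192 : allRange 192 216 (fun k => commVecCheck Cfsg.Lie.chevD4 vecD4 (k / 24) (k % 24)) = true := by decide +kernel
theorem d4Cv_0_216 : allRange 216 240 (fun k => commVecCheck Cfsg.Lie.chevD4 vecD4 (k / 24) (k % 24)) = true := by decide +kernel
theorem d4Cv_0_240 : allRange 240 264 (fun k => commVecCheck Cfsg.Lie.chevD4 vecD4 (k / 24) (k % 24)) = true := by decide +kernel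
theorem d4Cv_0_264 : allRange 264 288 (fun k => commVecCheck Cfsg.Lie.chevD4 vecD4 (k / 24) (k % 24)) = true := by decide +kernel

/-- The roots of the commutator formula of type D4 are the expected combinations (roots 0 to 287). -/
theorem d4Cv_0 : ∀ r, 0 ≤ r → r < 288 → (fun k => commVecCheck Cfsg.Lie.chevD4 vecD4 (k / 24) (k % 24)) r = true := by
  intro r h1 h2
  by_cases c0 : r < 24
  · exact allRange_spec d4Cv_0_0 r (by omega) c0
  by_cases c1 : r < 48
  · exact allRange_spec d4Cv_0_24 r (by omega) c1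
  by_cases c2 : r < 72
  · exact allRange_spec d4Cv_0_48 r (by omega) c2
  by_cases c3 : r < 96
  · exact allRange_spec d4Cv_0_72 r (by omega) c3
  by_cases c4 : r < 120
  · exact allRange_spec d4Cv_0_96 r (by omega) c4
  by_cases c5 : r < 144
  · exact allRange_spec d4Cv_0_120 r (by omega) c5
  by_cases c6 : r < 168
  · exact allRange_spec d4Cv_0_144 r (by omega) c6
  by_cases c7 : r < 192
  · exact allRange_spec d4Cv_0_168 r (by omega) c7
  by_cases c8 : r < 216
  · exact allRange_spec d4Cv_0_192 r (by omega) c8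
  by_cases c9 : r < 240
  · exact allRange_spec d4Cv_0_216 r (by omega) c9
  by_cases c10 : r < 264
  · exact allRange_spec d4Cv_0_240 r (by omega) c10
  exact allRange_spec d4Cv_0_264 r (by omega) h2

end Cfsg.Agent.Lib.Helper3.ChevM
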