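import Cfsg.Agent.Lib.Helper3.ChevData.D4Datum
import Cfsg.Agent.Lib.Helper3.ChevData.D4Tabs
import Cfsg.Agent.Lib.Helper3.ChevM7
set_option autoImplicit false
set_option maxRecDepth 1000000
set_option Elab.async false

namespace Cfsg.Agent.Lib.Helper3.ChevM

theorem d4Dx_0_0 : allRange 0 40 ((fun k => cdD4.checkDX (cdD4.expo pairD4 (Cfsg.Lie.chevD4.simple (k / 24))) (pairD4 (Cfsg.Lie.chevD4.simple (k / 24)) (k % 24)) (k % 24))) = true := by decide +kernel
theorem d4Dx_0_40 : allRange 40 80 ((fun k => cdD4.checkDX (cdD4.expo pairD4 (Cfsg.Lie.chevD4.simple (k / 24))) (pairD4 (Cfsg.Lie.chevD4.simple (k / 24)) (k % 24)) (k % 24))) = true := by decide +kernel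
theorem d4Dx_0_80 : allRange 80 96 ((fun k => cdD4.checkDX (cdD4.expo pairD4 (Cfsg.Lie.chevD4.simple (k / 24))) (pairD4 (Cfsg.Lie.chevD4.simple (k / 24)) (k % 24)) (k % 24))) = true := by decide +kernel

/-- Conjugation of root elements by the `h_p(c)` of type D4 (roots 0 to 95). -/
theorem d4Dx_0 : ∀ r, 0 ≤ r → r < 96 → ((fun k => cdD4.checkDX (cdD4.expo pairD4 (Cfsg.Lie.chevD4.simple (k / 24))) (pairD4 (Cfsg.Lie.chevD4.simple (k / 24)) (k % 24)) (k % 24))) r = true := by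
  intro r h1 h2
  by_cases c0 : r < 40
  · exact allRange_spec d4Dx_0_0 r (by omega) c0
  by_cases c1 : r < 80
  · exact allRange_spec d4Dx_0_40 r (by omega) c1
  exact allRange_spec d4Dx_0_80 r (by omega) h2

end Cfsg.Agent.Lib.Helper3.ChevM
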