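import Cfsg.Prelude.Def_ChevAutomorphisms
import Cfsg.Agent.Lib.Helper3.ChevGen1
import Cfsg.Agent.Lib.Helper3.ChevData.D4Mono
import Cfsg.Agent.Lib.Helper3.ChevData.D4Hdec
import Cfsg.Agent.Lib.Helper3.ChevData.D4CommData
set_option autoImplicit false
set_option maxRecDepth 1000000
open Cfsg Cfsg.Lie

namespace Cfsg.Agent.Lib.Helper3.ChevM

/-- For each root of type D4 conjugate to the first fundamental root, a word of fundamental reflections mapping that root to it. -/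
def wt0D4 (r : ℕ) : List ℕ :=
  (#[[1, 3, 2, 1, 0], [3, 2, 1, 0], [2, 1, 0], [3, 1, 0], [1, 0], [0], [3, 2, 0, 1, 0], [2, 0, 1, 0], [3, 0, 1, 0], [0, 1, 0], [1, 2, 0, 1, 0], [1, 3, 0, 1, 0], [1, 3, 0, 1], [1, 2, 0, 1], [0, 1], [3, 0, 1], [2, 0, 1], [3, 2, 0, 1], [], [1], [3, 1], [2, 1], [3, 2, 1], [1, 3, 2, 1]] : Array (List ℕ)).getD r []

/-- For each remaining root of type D4, two roots whose commutator it is, with the constant. -/
def abD4 (r : ℕ) : ℕ × ℕ × ℤ :=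
  (#[(0, 0, 0), (0, 0, 0), (0, 0, 0), (0, 0, 0), (0, 0, 0), (0, 0, 0), (0, 0, 0), (0, 0, 0), (0, 0, 0), (0, 0, 0), (0, 0, 0), (0, 0, 0), (0, 0, 0), (0, 0, 0), (0, 0, 0), (0, 0, 0), (0, 0, 0), (0, 0, 0), (0, 0, 0), (0, 0, 0), (0, 0, 0), (0, 0, 0), (0, 0, 0), (0, 0, 0)] : Array (ℕ × ℕ × ℤ)).getD r (0, 0, 0)

/-- For each short fundamental root of type D4, a word mapping it to the first fundamental root. -/
def wsD4 (i : ℕ) : List ℕ :=
  (#[[], [1, 0], [1, 2, 0, 1], [1, 3, 0, 1]] : Array (List ℕ)).getD i []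

theorem d4Gen2 : ∀ r < 24, gen2Check cdD4.D relD4.refl 18 1 wt0D4 abD4 r = true := by
  decide +kernel

theorem d4GenWs : ∀ i < 4, cdD4.D.isLong (cdD4.D.simple i) = false →
    ((wsD4 i).all fun j => decide (j < 4)) = true ∧ reflW relD4.refl (wsD4 i) (cdD4.D.simple i) = 18 := by
  decide +kernel

end Cfsg.Agent.Lib.Helper3.ChevM
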