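import Cfsg.Agent.Lib.Helper3.ChevData.D4GrTabA
set_option autoImplicit false
set_option maxRecDepth 1000000
set_option Elab.async false

namespace Cfsg.Agent.Lib.Helper3.ChevM

theorem d4GrColA_2_336 : allRange 336 364 (fun k => graphColCheck cdD4 grPD4A grRhoD4A grEpsD4A (k / 28) (k % 28)) = true := by decide +kernel
theorem d4GrColA_2_364 : allRange 364 392 (fun k => graphColCheck cdD4 grPD4A grRhoD4A grEpsD4A (k / 28) (k % 28)) = true := by decide +kernel
theorem d4GrColA_2_392 : allRange 392 420 (fun k => graphColCheck cdD4 grPD4A grRhoD4A grEpsD4A (k / 28) (k % 28)) = true := by decide +kernel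
theorem d4GrColA_2_420 : allRange 420 448 (fun k => graphColCheck cdD4 grPD4A grRhoD4A grEpsD4A (k / 28) (k % 28)) = true := by decide +kernel
theorem d4GrColA_2_448 : allRange 448 476 (fun k => graphColCheck cdD4 grPD4A grRhoD4A grEpsD4A (k / 28) (k % 28)) = true := by decide +kernel
theorem d4GrColA_2_476 : allRange 476 504 (fun k => graphColCheck cdD4 grPD4A grRhoD4A grEpsD4A (k / 28) (k % 28)) = true := by decide +kernel

/-- The columns of the root elements of type D4 are permuted by the symmetry (A) (roots 336 to 503). -/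
theorem d4GrColA_2 : ∀ r, 336 ≤ r → r < 504 → (fun k => graphColCheck cdD4 grPD4A grRhoD4A grEpsD4A (k / 28) (k % 28)) r = true := by
  intro r h1 h2
  by_cases c0 : r < 364
  · exact allRange_spec d4GrColA_2_336 r (by omega) c0
  by_cases c1 : r < 392
  · exact allRange_spec d4GrColA_2_364 r (by omega) c1
  by_cases c2 : r < 420
  · exact allRange_spec d4GrColA_2_392 r (by omega) c2
  by_cases c3 : r < 448
  · exact allRange_spec d4GrColA_2_420 r (by omega) c3
  by_cases c4 : r < 476
  · exact allRange_spec d4GrColA_2_448 r (by omega) c4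
  exact allRange_spec d4GrColA_2_476 r (by omega) h2

end Cfsg.Agent.Lib.Helper3.ChevM
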