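import Cfsg.Agent.Lib.Helper3.ChevData.D4GrColDA
import Cfsg.Agent.Lib.Helper3.ChevData.D4GrColDB
import Cfsg.Agent.Lib.Helper3.ChevData.D4GrColDC
import Cfsg.Agent.Lib.Helper3.ChevData.D4GrColDD
set_option autoImplicit false

namespace Cfsg.Agent.Lib.Helper3.ChevM

/-- The columns of the root elements of type D4 are permuted by the symmetry (D). -/
theorem d4GrColD : ∀ r < 672, (fun k => graphColCheck cdD4 grPD4D grRhoD4D grEpsD4D (k / 28) (k % 28)) r = true := by
  intro r hr
  by_cases h0 : r < 168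
  · exact d4GrColD_0 r (by omega) h0
  by_cases h1 : r < 336
  · exact d4GrColD_1 r (by omega) h1
  by_cases h2 : r < 504
  · exact d4GrColD_2 r (by omega) h2
  exact d4GrColD_3 r (by omega) hr

end Cfsg.Agent.Lib.Helper3.ChevM
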