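import Cfsg.Agent.Lib.Helper3.ChevData.D4GrTabE
set_option autoImplicit false
set_option maxRecDepth 1000000
set_option Elab.async false

namespace Cfsg.Agent.Lib.Helper3.ChevM

theorem d4GrColE_3_504 : allRange 504 532 (fun k => graphColCheck cdD4 grPD4E grRhoD4E grEpsD4E (k / 28) (k % 28)) = true := by decide +kernel
theorem d4GrColE_3_532 : allRange 532 560 (fun k => graphColCheck cdD4 grPD4E grRhoD4E grEpsD4E (k / 28) (k % 28)) = true := by decide +kernel
theorem d4GrColE_3_560 : allRange 560 588 (fun k => graphColCheck cdD4 grPD4E grRhoD4E grEpsD4E (k / 28) (k % 28)) = true := by decide +kernel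
theorem d4GrColE_3_588 : allRange 588 616 (fun k => graphColCheck cdD4 grPD4E grRhoD4E grEpsD4E (k / 28) (k % 28)) = true := by decide +kernel
theorem d4GrColE_3_616 : allRange 616 644 (fun k => graphColCheck cdD4 grPD4E grRhoD4E grEpsD4E (k / 28) (k % 28)) = true := by decide +kernel
theorem d4GrColE_3_644 : allRange 644 672 (fun k => graphColCheck cdD4 grPD4E grRhoD4E grEpsD4E (k / 28) (k % 28)) = true := by decide +kernel

/-- The columns of the root elements of type D4 are permuted by the symmetry (E) (roots 504 to 671). -/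
theorem d4GrColE_3 : ∀ r, 504 ≤ r → r < 672 → (fun k => graphColCheck cdD4 grPD4E grRhoD4E grEpsD4E (k / 28) (k % 28)) r = true := by
  intro r h1 h2
  by_cases c0 : r < 532
  · exact allRange_spec d4GrColE_3_504 r (by omega) c0
  by_cases c1 : r < 560
  · exact allRange_spec d4GrColE_3_532 r (by omega) c1
  by_cases c2 : r < 588
  · exact allRange_spec d4GrColE_3_560 r (by omega) c2
  by_cases c3 : r < 616
  · exact allRange_spec d4GrColE_3_588 r (by omega) c3
  by_cases c4 : r < 644
  · exact allRange_spec d4GrColE_3_616 r (by omega) c4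
  exact allRange_spec d4GrColE_3_644 r (by omega) h2

end Cfsg.Agent.Lib.Helper3.ChevM
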