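import Mathlib
import Cfsg.Agent.Lib.Helper3.ChevData.D4Datum
import Cfsg.Agent.Lib.Helper3.ChevA2
set_option autoImplicit false
set_option maxRecDepth 1000000

namespace Cfsg.Agent.Lib.Helper3.ChevM

/-- The symmetry of the diagram of type D4 (A). -/
def grPD4A (i : ℕ) : ℕ := ((#[2, 1, 3, 0] : Array ℕ)).getD i 0

/-- Its inverse. -/
def grPInvD4A (i : ℕ) : ℕ := ((#[3, 1, 0, 2] : Array ℕ)).getD i 0

/-- The induced permutation of the roots. -/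
def grRhoD4A (r : ℕ) : ℕ := ((#[0, 1, 6, 2, 7, 10, 3, 8, 4, 9, 11, 5, 18, 12, 14, 19, 15, 20, 13, 16, 21, 17, 22, 23] : Array ℕ)).getD r 0

/-- Its inverse. -/
def grRhoInvD4A (r : ℕ) : ℕ := ((#[0, 1, 3, 6, 8, 11, 2, 4, 7, 9, 5, 10, 13, 18, 14, 16, 19, 21, 12, 15, 17, 20, 22, 23] : Array ℕ)).getD r 0

/-- The signs of the graph automorphism. -/
def grEpsD4A (r : ℕ) : ℤ := ((#[1, 1, -1, 1, -1, 1, -1, 1, -1, 1, 1, 1, 1, 1, 1, -1, 1, -1, 1, -1, 1, -1, 1, 1] : Array ℤ)).getD r 0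

end Cfsg.Agent.Lib.Helper3.ChevM
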