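import Cfsg.Agent.Lib.Helper3.ChevGraph1
import Cfsg.Agent.Lib.Helper3.ChevData.D4Mono
set_option autoImplicit false
set_option maxRecDepth 1000000
open Cfsg Cfsg.Lie

namespace Cfsg.Agent.Lib.Helper3.ChevM

/-- The symmetries of the Dynkin diagram of type D4, as lists of images of the nodes. -/
def symLD4 : List (List ℕ) := [[0, 1, 2, 3], [0, 1, 3, 2], [2, 1, 0, 3], [2, 1, 3, 0], [3, 1, 0, 2], [3, 1, 2, 0]]

theorem d4SymExt : symExt cdD4.D symLD4 4 [] = true := by
  decide +kernel

theorem d4GraphCheck : symLD4.all (fun l => graphCheck cdD4.D relD4.refl (fun i => l.getD i 0)) = true := by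
  decide +kernel

end Cfsg.Agent.Lib.Helper3.ChevM
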