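import Cfsg.Agent.Lib.Helper3.ChevData.D4Datum
import Cfsg.Agent.Lib.Helper3.ChevData.D4Tabs
import Cfsg.Agent.Lib.Helper3.ChevM7
set_option autoImplicit false
set_option maxRecDepth 1000000
set_option Elab.async false

namespace Cfsg.Agent.Lib.Helper3.ChevM

theorem d4Hd_0_0 : allRange 0 9 ((fun r => cdD4.checkHDiag r (cdD4.expo pairD4 r))) = true := by decide +kernel
theorem d4Hd_0_9 : allRange 9 18 ((fun r => cdD4.checkHDiag r (cdD4.expo pairD4 r))) = true := by decide +kernel
theorem d4Hd_0_18 : allRange 18 24 ((fun r => cdD4.checkHDiag r (cdD4.expo pairD4 r))) = true := by decide +kernel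

/-- Diagonal form of the `h_r(c)` of type D4 (roots 0 to 23). -/
theorem d4Hd_0 : ∀ r, 0 ≤ r → r < 24 → ((fun r => cdD4.checkHDiag r (cdD4.expo pairD4 r))) r = true := by
  intro r h1 h2
  by_cases c0 : r < 9
  · exact allRange_spec d4Hd_0_0 r (by omega) c0
  by_cases c1 : r < 18
  · exact allRange_spec d4Hd_0_9 r (by omega) c1
  exact allRange_spec d4Hd_0_18 r (by omega) h2

end Cfsg.Agent.Lib.Helper3.ChevM
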