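import Cfsg.Prelude.Def_ChevD4
import Cfsg.Agent.Lib.Helper3.ChevData.D4Tabs
import Cfsg.Agent.Lib.Helper3.ChevG2
set_option autoImplicit false
set_option maxRecDepth 1000000
set_option Elab.async false

namespace Cfsg.Agent.Lib.Helper3.ChevM

theorem d4Hdec_0_0 : allRange 0 576 ((fun k => hdecCheck Cfsg.Lie.chevD4 pairD4 (k / 24) (k % 24))) = true := by decide +kernel

/-- Decomposition of the coroots along the fundamental coroots of type D4 (roots 0 to 575). -/
theorem d4Hdec_0 : ∀ r, 0 ≤ r → r < 576 → ((fun k => hdecCheck Cfsg.Lie.chevD4 pairD4 (k / 24) (k % 24))) r = true := by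
  intro r h1 h2
  exact allRange_spec d4Hdec_0_0 r (by omega) h2

end Cfsg.Agent.Lib.Helper3.ChevM
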