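import Cfsg.Agent.Lib.Helper3.ChevData.D4Datum
import Cfsg.Agent.Lib.Helper3.ChevData.D4Tabs
import Cfsg.Agent.Lib.Helper3.ChevM7
set_option autoImplicit false
set_option maxRecDepth 1000000
set_option Elab.async false

namespace Cfsg.Agent.Lib.Helper3.ChevM

theorem d4Nd_0_0 : allRange 0 16 ((fun k => cdD4.checkND (k / 4) (cdD4.cartI pairD4 (k / 4)) (reflD4 (k / 4)) (etaD4 (k / 4)) (cdD4.expo pairD4 (Cfsg.Lie.chevD4.simple (k % 4))) (cdD4.expo pairD4 (reflD4 (k / 4) (Cfsg.Lie.chevD4.simple (k % 4)))))) = true := by decide +kernel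

/-- Conjugation of the `h_p(c)` by the `n_p` of type D4 (roots 0 to 15). -/
theorem d4Nd_0 : ∀ r, 0 ≤ r → r < 16 → ((fun k => cdD4.checkND (k / 4) (cdD4.cartI pairD4 (k / 4)) (reflD4 (k / 4)) (etaD4 (k / 4)) (cdD4.expo pairD4 (Cfsg.Lie.chevD4.simple (k % 4))) (cdD4.expo pairD4 (reflD4 (k / 4) (Cfsg.Lie.chevD4.simple (k % 4)))))) r = true := by
  intro r h1 h2
  exact allRange_spec d4Nd_0_0 r (by omega) h2

end Cfsg.Agent.Lib.Helper3.ChevM
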