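import Cfsg.Prelude.Def_ChevD4
import Cfsg.Agent.Lib.Helper3.ChevM4
import Cfsg.Agent.Lib.Helper3.ChevData.D4Cols
set_option autoImplicit false
set_option maxRecDepth 1000000
set_option Elab.async false

namespace Cfsg.Agent.Lib.Helper3.ChevM

theorem d4Ok_0_0 : allRange 0 1 (colsCheck Cfsg.Lie.chevD4 colsD4) = true := by decide +kernel
theorem d4Ok_0_1 : allRange 1 2 (colsCheck Cfsg.Lie.chevD4 colsD4) = true := by decide +kernel
theorem d4Ok_0_2 : allRange 2 3 (colsCheck Cfsg.Lie.chevD4 colsD4) = true := by decide +kernel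
theorem d4Ok_0_3 : allRange 3 4 (colsCheck Cfsg.Lie.chevD4 colsD4) = true := by decide +kernel
theorem d4Ok_0_4 : allRange 4 5 (colsCheck Cfsg.Lie.chevD4 colsD4) = true := by decide +kernel
theorem d4Ok_0_5 : allRange 5 6 (colsCheck Cfsg.Lie.chevD4 colsD4) = true := by decide +kernel
theorem d4Ok_0_6 : allRange 6 7 (colsCheck Cfsg.Lie.chevD4 colsD4) = true := by decide +kernel
theorem d4Ok_0_7 : allRange 7 8 (colsCheck Cfsg.Lie.chevD4 colsD4) = true := by decide +kernel
theorem d4Ok_0_8 : allRange 8 9 (colsCheck Cfsg.Lie.chevD4 colsD4) = true := by decide +kernel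
theorem d4Ok_0_9 : allRange 9 10 (colsCheck Cfsg.Lie.chevD4 colsD4) = true := by decide +kernel
theorem d4Ok_0_10 : allRange 10 11 (colsCheck Cfsg.Lie.chevD4 colsD4) = true := by decide +kernel
theorem d4Ok_0_11 : allRange 11 12 (colsCheck Cfsg.Lie.chevD4 colsD4) = true := by decide +kernel
theorem d4Ok_0_12 : allRange 12 13 (colsCheck Cfsg.Lie.chevD4 colsD4) = true := by decide +kernel
theorem d4Ok_0_13 : allRange 13 14 (colsCheck Cfsg.Lie.chevD4 colsD4) = true := by decide +kernel
theorem d4Ok_0_14 : allRange 14 15 (colsCheck Cfsg.Lie.chevD4 colsD4) = true := by decide +kernel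
theorem d4Ok_0_15 : allRange 15 16 (colsCheck Cfsg.Lie.chevD4 colsD4) = true := by decide +kernel
theorem d4Ok_0_16 : allRange 16 17 (colsCheck Cfsg.Lie.chevD4 colsD4) = true := by decide +kernel
theorem d4Ok_0_17 : allRange 17 18 (colsCheck Cfsg.Lie.chevD4 colsD4) = true := by decide +kernel
theorem d4Ok_0_18 : allRange 18 19 (colsCheck Cfsg.Lie.chevD4 colsD4) = true := by decide +kernel
theorem d4Ok_0_19 : allRange 19 20 (colsCheck Cfsg.Lie.chevD4 colsD4) = true := by decide +kernel
theorem d4Ok_0_20 : allRange 20 21 (colsCheck Cfsg.Lie.chevD4 colsD4) = true := by decide +kernel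
theorem d4Ok_0_21 : allRange 21 22 (colsCheck Cfsg.Lie.chevD4 colsD4) = true := by decide +kernel
theorem d4Ok_0_22 : allRange 22 23 (colsCheck Cfsg.Lie.chevD4 colsD4) = true := by decide +kernel
theorem d4Ok_0_23 : allRange 23 24 (colsCheck Cfsg.Lie.chevD4 colsD4) = true := by decide +kernel

/-- The compiled columns of type D4 agree with the tables (roots 0 to 23). -/
theorem d4Ok_0 : ∀ r, 0 ≤ r → r < 24 → (colsCheck Cfsg.Lie.chevD4 colsD4) r = true := by
  intro r h1 h2
  by_cases c0 : r < 1
  · exact allRange_spec d4Ok_0_0 r (by omega) c0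
  by_cases c1 : r < 2
  · exact allRange_spec d4Ok_0_1 r (by omega) c1
  by_cases c2 : r < 3
  · exact allRange_spec d4Ok_0_2 r (by omega) c2
  by_cases c3 : r < 4
  · exact allRange_spec d4Ok_0_3 r (by omega) c3
  by_cases c4 : r < 5
  · exact allRange_spec d4Ok_0_4 r (by omega) c4
  by_cases c5 : r < 6
  · exact allRange_spec d4Ok_0_5 r (by omega) c5
  by_cases c6 : r < 7
  · exact allRange_spec d4Ok_0_6 r (by omega) c6
  by_cases c7 : r < 8
  · exact allRange_spec d4Ok_0_7 r (by omega) c7
  by_cases c8 : r < 9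
  · exact allRange_spec d4Ok_0_8 r (by omega) c8
  by_cases c9 : r < 10
  · exact allRange_spec d4Ok_0_9 r (by omega) c9
  by_cases c10 : r < 11
  · exact allRange_spec d4Ok_0_10 r (by omega) c10
  by_cases c11 : r < 12
  · exact allRange_spec d4Ok_0_11 r (by omega) c11
  by_cases c12 : r < 13
  · exact allRange_spec d4Ok_0_12 r (by omega) c12
  by_cases c13 : r < 14
  · exact allRange_spec d4Ok_0_13 r (by omega) c13
  by_cases c14 : r < 15
  · exact allRange_spec d4Ok_0_14 r (by omega) c14
  by_cases c15 : r < 16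
  · exact allRange_spec d4Ok_0_15 r (by omega) c15
  by_cases c16 : r < 17
  · exact allRange_spec d4Ok_0_16 r (by omega) c16
  by_cases c17 : r < 18
  · exact allRange_spec d4Ok_0_17 r (by omega) c17
  by_cases c18 : r < 19
  · exact allRange_spec d4Ok_0_18 r (by omega) c18
  by_cases c19 : r < 20
  · exact allRange_spec d4Ok_0_19 r (by omega) c19
  by_cases c20 : r < 21
  · exact allRange_spec d4Ok_0_20 r (by omega) c20
  by_cases c21 : r < 22
  · exact allRange_spec d4Ok_0_21 r (by omega) c21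
  by_cases c22 : r < 23
  · exact allRange_spec d4Ok_0_22 r (by omega) c22
  exact allRange_spec d4Ok_0_23 r (by omega) h2

end Cfsg.Agent.Lib.Helper3.ChevM
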