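import Cfsg.Prelude.Def_ChevD4
set_option autoImplicit false
set_option maxRecDepth 1000000

namespace Cfsg.Agent.Lib.Helper3.ChevM

/-- A word for the longest element of the Weyl group of type D4. -/
def w0D4 : List ℕ := [0, 1, 0, 2, 1, 0, 3, 1, 0, 2, 1, 3]

/-- The reversed word. -/
def w0rD4 : List ℕ := [3, 1, 2, 0, 1, 3, 0, 1, 2, 0, 1, 0]

theorem w0D4_lt : ∀ i ∈ w0D4, i < Cfsg.Lie.chevD4.rank := by decide +kernel

end Cfsg.Agent.Lib.Helper3.ChevM
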