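import Cfsg.Prelude.Def_ChevD4
set_option autoImplicit false
set_option maxRecDepth 1000000

namespace Cfsg.Agent.Lib.Helper3.ChevM

/-- Coset representatives of the first 0 reflections in the group of the first 1, type D4. -/
def dlD40 : List (List ℕ) := [[], [0]]

/-- The left multiplication table of these representatives. -/
def nxtD40 (a i : ℕ) : ℕ := ((#[#[1], #[0]] : Array (Array ℕ)).getD a #[]).getD i 0

/-- Coset representatives of the first 1 reflections in the group of the first 2, type D4. -/
def dlD41 : List (List ℕ) := [[], [1], [0, 1]]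

/-- The left multiplication table of these representatives. -/
def nxtD41 (a i : ℕ) : ℕ := ((#[#[3, 1], #[2, 0], #[1, 3]] : Array (Array ℕ)).getD a #[]).getD i 0

/-- Coset representatives of the first 2 reflections in the group of the first 3, type D4. -/
def dlD42 : List (List ℕ) := [[], [2], [1, 2], [0, 1, 2]]

/-- The left multiplication table of these representatives. -/
def nxtD42 (a i : ℕ) : ℕ := ((#[#[4, 5, 1], #[4, 2, 0], #[3, 1, 5], #[2, 4, 5]] : Array (Array ℕ)).getD a #[]).getD i 0

/-- Coset representatives of the first 3 reflections in the group of the first 4, type D4. -/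
def dlD43 : List (List ℕ) := [[], [3], [1, 3], [0, 1, 3], [2, 1, 3], [2, 0, 1, 3], [1, 2, 0, 1, 3], [3, 1, 2, 0, 1, 3]]

/-- The left multiplication table of these representatives. -/
def nxtD43 (a i : ℕ) : ℕ := ((#[#[8, 9, 10, 1], #[8, 2, 10, 0], #[3, 1, 4, 9], #[2, 8, 5, 9], #[5, 10, 2, 9], #[4, 6, 3, 9], #[10, 5, 8, 7], #[10, 9, 8, 6]] : Array (Array ℕ)).getD a #[]).getD i 0

end Cfsg.Agent.Lib.Helper3.ChevM
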