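import Cfsg.Prelude.Def_ChevD4
import Cfsg.Agent.Lib.Helper3.ChevData.D4Tabs
import Cfsg.Agent.Lib.Helper3.ChevData.D4OrdTab
import Cfsg.Agent.Lib.Helper3.ChevO2
set_option autoImplicit false
set_option maxRecDepth 1000000
set_option Elab.async false

namespace Cfsg.Agent.Lib.Helper3.ChevM

theorem d4Or2_0_0 : allRange 0 4 ((fun a => repCheck Cfsg.Lie.chevD4 reflD4 2 dlD42 a)) = true := by decide +kernel

/-- The representatives of step 2 of type D4 keep the subsystem positive (roots 0 to 3). -/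
theorem d4Or2_0 : ∀ r, 0 ≤ r → r < 4 → ((fun a => repCheck Cfsg.Lie.chevD4 reflD4 2 dlD42 a)) r = true := by
  intro r h1 h2
  exact allRange_spec d4Or2_0_0 r (by omega) h2

end Cfsg.Agent.Lib.Helper3.ChevM
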