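import Cfsg.Agent.Lib.Helper3.ChevData.D4Mono
import Cfsg.Agent.Lib.Helper3.ChevData.D4Hdec
import Cfsg.Agent.Lib.Helper3.ChevData.D4Sign
import Cfsg.Agent.Lib.Helper3.ChevData.D4Os0
import Cfsg.Agent.Lib.Helper3.ChevData.D4Or0
import Cfsg.Agent.Lib.Helper3.ChevData.D4Ot0
set_option autoImplicit false
set_option maxRecDepth 1000000

namespace Cfsg.Agent.Lib.Helper3.ChevM

theorem d4Od0 : distinctCheck Cfsg.Lie.chevD4 reflD4 dlD40 = true := by decide +kernel

theorem d4On0 : dlD40.map (Nw Cfsg.Lie.chevD4 reflD4) = [0, 1] := by decide +kernel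

/-- Step 0 of the factorisation of the Poincaré sum of type D4. -/
theorem d4Poin0 (q : ℕ) : poin cdD4.D relD4.refl (Set.Iio 1) q =
    ([0, 1].map fun e => q ^ e).sum * poin cdD4.D relD4.refl (Set.Iio 0) q := by
  have h := monoD4.poin_step (of_pairRange (m := 24) (n := 24) d4Hdec) d4Sign 0 d4Os0 dlD40 d4Or0 nxtD40
    (by decide +kernel) (of_pairRange (m := 2) (n := 1) d4Ot0) d4Od0 (by decide +kernel) q
  show poin cdD4.D relD4.refl (Set.Iio (0 + 1)) q = _
  have e : (dlD40.map fun d => q ^ Nw cdD4.D relD4.refl d) = (dlD40.map (Nw Cfsg.Lie.chevD4 reflD4)).map fun e => q ^ e := by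
    rw [List.map_map]; rfl
  rw [h, e, d4On0]

end Cfsg.Agent.Lib.Helper3.ChevM
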