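import Cfsg.Prelude.Def_ChevD4
import Cfsg.Agent.Lib.Helper3.ChevData.D4Hd2
import Cfsg.Agent.Lib.Helper3.ChevData.D4Tabs
import Cfsg.Agent.Lib.Helper3.ChevL3
set_option autoImplicit false
set_option maxRecDepth 1000000
set_option Elab.async false

namespace Cfsg.Agent.Lib.Helper3.ChevM

theorem d4Rv_3_72 : allRange 72 78 (fun k => reflVecCheck Cfsg.Lie.chevD4 reflD4 vecD4 (k / 24) (k % 24)) = true := by decide +kernel
theorem d4Rv_3_78 : allRange 78 84 (fun k => reflVecCheck Cfsg.Lie.chevD4 reflD4 vecD4 (k / 24) (k % 24)) = true := by decide +kernel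
theorem d4Rv_3_84 : allRange 84 90 (fun k => reflVecCheck Cfsg.Lie.chevD4 reflD4 vecD4 (k / 24) (k % 24)) = true := by decide +kernel
theorem d4Rv_3_90 : allRange 90 96 (fun k => reflVecCheck Cfsg.Lie.chevD4 reflD4 vecD4 (k / 24) (k % 24)) = true := by decide +kernel

/-- The fundamental reflections of type D4 change one coefficient (roots 72 to 95). -/
theorem d4Rv_3 : ∀ r, 72 ≤ r → r < 96 → (fun k => reflVecCheck Cfsg.Lie.chevD4 reflD4 vecD4 (k / 24) (k % 24)) r = true := by
  intro r h1 h2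
  by_cases c0 : r < 78
  · exact allRange_spec d4Rv_3_72 r (by omega) c0
  by_cases c1 : r < 84
  · exact allRange_spec d4Rv_3_78 r (by omega) c1
  by_cases c2 : r < 90
  · exact allRange_spec d4Rv_3_84 r (by omega) c2
  exact allRange_spec d4Rv_3_90 r (by omega) h2

end Cfsg.Agent.Lib.Helper3.ChevM
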