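import Cfsg.Agent.Lib.Helper3.ChevData.D4RvA
import Cfsg.Agent.Lib.Helper3.ChevData.D4RvB
import Cfsg.Agent.Lib.Helper3.ChevData.D4RvC
import Cfsg.Agent.Lib.Helper3.ChevData.D4RvD
set_option autoImplicit false

namespace Cfsg.Agent.Lib.Helper3.ChevM

/-- The fundamental reflections of type D4 change one coefficient. -/
theorem d4Rv : ∀ r < 96, (fun k => reflVecCheck Cfsg.Lie.chevD4 reflD4 vecD4 (k / 24) (k % 24)) r = true := by
  intro r hr
  by_cases h0 : r < 24
  · exact d4Rv_0 r (by omega) h0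
  by_cases h1 : r < 48
  · exact d4Rv_1 r (by omega) h1
  by_cases h2 : r < 72
  · exact d4Rv_2 r (by omega) h2
  exact d4Rv_3 r (by omega) hr

end Cfsg.Agent.Lib.Helper3.ChevM
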