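import Cfsg.Prelude.Def_ChevD4
import Cfsg.Agent.Lib.Helper3.ChevData.D4Hd2
import Cfsg.Agent.Lib.Helper3.ChevData.D4Tabs
import Cfsg.Agent.Lib.Helper3.ChevL3
set_option autoImplicit false
set_option maxRecDepth 1000000
set_option Elab.async false

namespace Cfsg.Agent.Lib.Helper3.ChevM

theorem d4Rv_0_0 : allRange 0 6 (fun k => reflVecCheck Cfsg.Lie.chevD4 reflD4 vecD4 (k / 24) (k % 24)) = true := by decide +kernel
theorem d4Rv_0_6 : allRange 6 12 (fun k => reflVecCheck Cfsg.Lie.chevD4 reflD4 vecD4 (k / 24) (k % 24)) = true := by decide +kernel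
theorem d4Rv_0_12 : allRange 12 18 (fun k => reflVecCheck Cfsg.Lie.chevD4 reflD4 vecD4 (k / 24) (k % 24)) = true := by decide +kernel
theorem d4Rv_0_18 : allRange 18 24 (fun k => reflVecCheck Cfsg.Lie.chevD4 reflD4 vecD4 (k / 24) (k % 24)) = true := by decide +kernel

/-- The fundamental reflections of type D4 change one coefficient (roots 0 to 23). -/
theorem d4Rv_0 : ∀ r, 0 ≤ r → r < 24 → (fun k => reflVecCheck Cfsg.Lie.chevD4 reflD4 vecD4 (k / 24) (k % 24)) r = true := by
  intro r h1 h2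
  by_cases c0 : r < 6
  · exact allRange_spec d4Rv_0_0 r (by omega) c0
  by_cases c1 : r < 12
  · exact allRange_spec d4Rv_0_6 r (by omega) c1
  by_cases c2 : r < 18
  · exact allRange_spec d4Rv_0_12 r (by omega) c2
  exact allRange_spec d4Rv_0_18 r (by omega) h2

end Cfsg.Agent.Lib.Helper3.ChevM
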