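import Cfsg.Agent.Lib.Helper3.ChevData.D4UHyp
import Cfsg.Agent.Lib.Helper3.ChevData.D4Bn
import Cfsg.Agent.Lib.Helper3.ChevData.D4Sign
import Cfsg.Agent.Lib.Helper3.ChevData.D4Theta
import Cfsg.Agent.Lib.Helper3.ChevData.D4Cneg
import Cfsg.Agent.Lib.Helper3.StB12
set_option autoImplicit false
set_option maxRecDepth 1000000

namespace Cfsg.Agent.Lib.Helper3.ChevM
open Cfsg.Agent.Lib.Helper3.StB

/-- Pairs of roots whose commutator formula contains the simple roots of type D4. -/
def abD4 (i : ℕ) : ℕ × ℕ := (#[(6, 22), (1, 23), (3, 22), (2, 22)] : Array (ℕ × ℕ)).getD i (0, 0)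

theorem d4Self : allRange 0 4 (fun i => selfCheck Cfsg.Lie.chevD4 relD4.refl abD4 i) = true := by decide +kernel

theorem d4Pneg : allRange 0 16 (fun k => pairNegCheck Cfsg.Lie.chevD4 relD4.pair (k / 4) (k % 4)) = true := by decide +kernel

/-- The table checks for the presentation of type D4. -/
def stHypD4 : StHyp cdD4 relD4 where
  U := uhypD4
  B := bnD4
  sign := d4Sign
  theta := d4Theta
  cneg := of_pairRange (m := 24) (n := 24) d4Cneg
  ab := abD4
  self := fun i hi => allRange_spec d4Self i (Nat.zero_le i) hi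
  pneg := of_pairRange (m := 4) (n := 4) (fun k hk => allRange_spec d4Pneg k (Nat.zero_le k) hk)

end Cfsg.Agent.Lib.Helper3.ChevM
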