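import Cfsg.Agent.Lib.Helper3.ChevData.D4GraphA
import Cfsg.Agent.Lib.Helper3.ChevData.D4UHyp
import Cfsg.Agent.Lib.Helper3.ChevData.D4Bn
import Cfsg.Agent.Lib.Helper3.ChevData.D4Sign
import Cfsg.Agent.Lib.Helper3.ChevTw10
set_option autoImplicit false
set_option maxRecDepth 1000000

namespace Cfsg.Agent.Lib.Helper3.ChevM

/-- The classes of fundamental roots of the twisted group of type D4 (A). -/
def twClsD4A : List (List ℕ) := [[1], [0, 2, 3]]

/-- The classes of positive roots. -/
def twCLD4A : List (List ℕ) := [[12, 13, 18], [14], [15, 16, 19], [17, 20, 21], [22], [23]]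

/-- Representatives of the classes of positive roots. -/
def twIsRepD4A (r : ℕ) : Bool := ((#[false, false, false, false, false, false, false, false, false, false, false, false, true, false, true, true, false, true, false, false, false, false, true, true] : Array Bool)).getD r false

/-- The lengths of the classes. -/
def twMlenD4A (r : ℕ) : ℕ := ((#[0, 0, 0, 0, 0, 0, 0, 0, 0, 0, 0, 0, 3, 0, 1, 3, 0, 3, 0, 0, 0, 0, 1, 1] : Array ℕ)).getD r 0

/-- The representative of the class of a root. -/
def twRepD4A (r : ℕ) : ℕ := ((#[0, 0, 0, 0, 0, 0, 0, 0, 0, 0, 0, 0, 12, 12, 14, 15, 15, 17, 12, 15, 17, 17, 22, 23] : Array ℕ)).getD r 0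

/-- The position of a root in its class. -/
def twKkD4A (r : ℕ) : ℕ := ((#[0, 0, 0, 0, 0, 0, 0, 0, 0, 0, 0, 0, 0, 2, 0, 0, 2, 0, 1, 1, 1, 2, 0, 0] : Array ℕ)).getD r 0

/-- The accumulated sign of a root in its class. -/
def twEeD4A (r : ℕ) : ℤ := ((#[1, 1, 1, 1, 1, 1, 1, 1, 1, 1, 1, 1, 1, 1, 1, 1, 1, 1, 1, -1, -1, -1, 1, 1] : Array ℤ)).getD r 0

/-- The chain of classes. -/
def twChainD4A : List (List ℕ × ℕ × ℕ) := [([14], 0, 0), ([18, 13, 12], 1, 1), ([12, 13, 18], 2, 1), ([15, 16, 19], 0, 2), ([17, 20, 21], 1, 3), ([22], 1, 0), ([23], 0, 5)]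

/-- The class tables of the twisted group of type D4 (A). -/
def twRepDataD4A : TwRep cdD4.D graphD4A.rhoInv graphD4A.eps 3 where
  isRep := twIsRepD4A
  mlen := twMlenD4A
  rep := twRepD4A
  kk := twKkD4A
  ee := twEeD4A
  chk := by decide +kernel

/-- The data of the twisted group of type D4 (A). -/
def twD4A : TwHyp cdD4 relD4 where
  U := uhypD4
  B := bnD4
  G := graphD4A
  sign := d4Sign
  len := by decide +kernel
  tab := by decide +kernel
  rf := by decide +kernel
  cls := twClsD4A
  clsOk := by decide +kernel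
  shape := by decide +kernel
  CL := twCLD4A
  clOk := by decide +kernel
  d := 3
  T := twRepDataD4A
  sum := by decide +kernel
  chain := twChainD4A
  chainOk := by decide +kernel

end Cfsg.Agent.Lib.Helper3.ChevM
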