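import Cfsg.Agent.Lib.Helper3.ChevData.D4TwB
import Cfsg.Agent.Lib.Helper3.ChevData.D4Vec
import Cfsg.Agent.Lib.Helper3.ChevTw14
set_option autoImplicit false
set_option maxRecDepth 1000000
open Cfsg Cfsg.Lie

namespace Cfsg.Agent.Lib.Helper3.ChevM

/-- Still more data of the twisted group of type D4. -/
def twD4C : TwHyp3 cdD4 relD4 where
  toTwHyp2 := twD4B
  w0 := (List.replicate 3 twClsD4A).flatten
  w0cls := by decide +kernel
  opp := by decide +kernel
  vec := vecD4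
  hvec := of_pairRange (m := 4) (n := 24) d4Vec

theorem twistedD4_eq'' (K : Type*) [Field K] (q : ℕ) (φ : K →+* K) (hφ : ∀ t, φ t = t ^ q)
    (hφ3 : ∀ t, φ (φ (φ t)) = t) : Cfsg.Lie.twistedD4 K q = twD4C.grp φ :=
  twistedD4_eq K q φ hφ hφ3

end Cfsg.Agent.Lib.Helper3.ChevM
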