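import Cfsg.Agent.Lib.Helper3.ChevData.D4TwC
import Cfsg.Agent.Lib.Helper3.ChevTw16
set_option autoImplicit false
set_option maxRecDepth 1000000
open Cfsg Cfsg.Lie

namespace Cfsg.Agent.Lib.Helper3.ChevM

/-- First summands of the fixed fundamental roots. -/
def twFsD4 (r : ℕ) : ℕ := ((#[0, 0, 0, 0, 0, 0, 0, 0, 0, 0, 0, 0, 0, 0, 1, 0, 0, 0, 0, 0, 0, 0, 0, 0] : Array ℕ)).getD r 0

/-- Second summands of the fixed fundamental roots. -/
def twFs2D4 (r : ℕ) : ℕ := ((#[0, 0, 0, 0, 0, 0, 0, 0, 0, 22, 0, 0, 0, 0, 23, 0, 0, 0, 0, 0, 0, 0, 0, 0] : Array ℕ)).getD r 0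

/-- The data for the perfectness of the twisted group of type D4. -/
def twD4D : TwHyp4 cdD4 relD4 where
  toTwHyp3 := twD4C
  tor := by decide +kernel
  fs := twFsD4
  fs' := twFs2D4
  perf := by decide +kernel

end Cfsg.Agent.Lib.Helper3.ChevM
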