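import Cfsg.Agent.Lib.Helper3.ChevData.D4TwA
import Cfsg.Prelude.Def_LieTwisted
set_option autoImplicit false
set_option maxRecDepth 1000000
open Cfsg Cfsg.Lie

namespace Cfsg.Agent.Lib.Helper3.ChevM

theorem d4_sgnRoot_vals :
    sgnRoot cdD4.D false 1 = d4p2 ∧ sgnRoot cdD4.D true 1 = d4m2 ∧ sgnRoot cdD4.D false 0 = d4p1 ∧
    sgnRoot cdD4.D false 2 = d4p3 ∧ sgnRoot cdD4.D false 3 = d4p4 ∧ sgnRoot cdD4.D true 0 = d4m1 ∧
    sgnRoot cdD4.D true 2 = d4m3 ∧ sgnRoot cdD4.D true 3 = d4m4 := by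
  decide +kernel

/-- The twisted group of type D4 of the statements is the twisted group of the data. -/
theorem twistedD4_eq (K : Type*) [Field K] (q : ℕ) (φ : K →+* K) (hφ : ∀ t, φ t = t ^ q)
    (hφ3 : ∀ t, φ (φ (φ t)) = t) : Cfsg.Lie.twistedD4 K q = twD4A.grp φ := by
  obtain ⟨v1, v2, v3, v4, v5, v6, v7, v8⟩ := d4_sgnRoot_vals
  have hsq : ∀ t : K, (t ^ q) ^ q = t ^ (q ^ 2) := fun t => by rw [← pow_mul, sq]
  unfold Cfsg.Lie.twistedD4 ChevalleyDatum.genSubgroup TwHyp.grp RelData.twGroup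
  congr 1
  ext g
  simp only [Set.mem_setOf_eq, RelData.twGens]
  constructor
  · rintro ⟨w, hw, hg⟩
    have hg' : g = relD4.wordU w := Units.ext (by rw [hg, relD4.wordU_val]; rfl)
    rcases hw with ⟨t, ht, r, hr, rfl⟩ | ⟨t, rs, hrs, rfl⟩
    · simp only [List.mem_cons, List.not_mem_nil, or_false] at hr
      rcases hr with rfl | rfl
      · exact ⟨[1], by decide, false, t, by simpa [hφ] using ht, by rw [hg']; simp [clsWord, List.zipIdx, v1]⟩
      · exact ⟨[1], by decide, true, t, by simpa [hφ] using ht, by rw [hg']; simp [clsWord, List.zipIdx, v2]⟩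
    · simp only [List.mem_cons, List.not_mem_nil, or_false] at hrs
      rcases hrs with rfl | rfl
      · exact ⟨[0, 2, 3], by decide, false, t, hφ3 t, by
          rw [hg']; simp [clsWord, List.zipIdx, v3, v4, v5, hφ, hsq]⟩
      · exact ⟨[0, 2, 3], by decide, true, t, hφ3 t, by
          rw [hg']; simp [clsWord, List.zipIdx, v6, v7, v8, hφ, hsq]⟩
  · rintro ⟨J, hJ, neg, t, ht, rfl⟩
    have hJ' : J = [1] ∨ J = [0, 2, 3] := by
      simpa [twD4A, twClsD4A] using hJ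
    rcases hJ' with rfl | rfl
    · have ht' : t ^ q = t := by simpa [hφ] using ht
      cases neg
      · exact ⟨[(d4p2, t)], Or.inl ⟨t, ht', d4p2, by simp, rfl⟩, by
          rw [relD4.wordU_val]; simp [clsWord, List.zipIdx, v1]; rfl⟩
      · exact ⟨[(d4m2, t)], Or.inl ⟨t, ht', d4m2, by simp, rfl⟩, by
          rw [relD4.wordU_val]; simp [clsWord, List.zipIdx, v2]; rfl⟩
    · cases neg
      · exact ⟨[(d4p1, t), (d4p3, t ^ q), (d4p4, t ^ (q ^ 2))], Or.inr ⟨t, (d4p1, d4p3, d4p4), by simp, rfl⟩, by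
          rw [relD4.wordU_val]; simp [clsWord, List.zipIdx, v3, v4, v5, hφ, hsq]; rfl⟩
      · exact ⟨[(d4m1, t), (d4m3, t ^ q), (d4m4, t ^ (q ^ 2))], Or.inr ⟨t, (d4m1, d4m3, d4m4), by simp, rfl⟩, by
          rw [relD4.wordU_val]; simp [clsWord, List.zipIdx, v6, v7, v8, hφ, hsq]; rfl⟩

end Cfsg.Agent.Lib.Helper3.ChevM
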