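import Cfsg.Agent.Lib.Helper3.ChevData.D4TwF
import Cfsg.Agent.Lib.Helper3.ChevData.D4TwGrp
import Cfsg.Agent.Lib.Helper3.TwGen5
set_option autoImplicit false
set_option maxRecDepth 1000000
open Cfsg Cfsg.Lie

/-! Two generators for the twisted groups of type D4. -/

namespace Cfsg.Agent.Lib.Helper3.ChevM

open ChevU ChevT ChevH Cfsg.Agent.Lib.Helper3.ChevAut Cfsg.Agent.Lib.Helper3.ChevGen2

/-- The exponents of the three conjugates of the generator in the torus element. -/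
def d4TwLam (m : ℕ) (i : ℕ) : ℤ := if i = ([0, 2, 3] : List ℕ).getD m 4 then 1 else 0

theorem d4_tw_orb :
    twOrbCheck cdD4.D relD4.refl twD4F.cls [1, 0, 2, 3] (([0, 2, 3] : List ℕ).map cdD4.D.simple) (cdD4.D.simple 1) 6 =
      true := by
  decide +kernel

theorem d4_tw_expo :
    (tgExpo cdD4.D (d4TwLam 0) 23 = 0 ∧ tgExpo cdD4.D (d4TwLam 1) 23 = 0 ∧ tgExpo cdD4.D (d4TwLam 2) 23 = 0) ∧
    (tgExpo cdD4.D (d4TwLam 0) (cdD4.D.simple (([0, 2, 3] : List ℕ).headD 0)) = 2 ∧ tgExpo cdD4.D (d4TwLam 1) (cdD4.D.simple (([0, 2, 3] : List ℕ).headD 0)) = 0 ∧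
      tgExpo cdD4.D (d4TwLam 2) (cdD4.D.simple (([0, 2, 3] : List ℕ).headD 0)) = 0) ∧
    (tgExpo cdD4.D (d4TwLam 0) (reflW relD4.refl ([[1], [0, 2, 3]] : List (List ℕ)).flatten (cdD4.D.simple (([0, 2, 3] : List ℕ).headD 0))) = -1 ∧
      tgExpo cdD4.D (d4TwLam 1) (reflW relD4.refl ([[1], [0, 2, 3]] : List (List ℕ)).flatten (cdD4.D.simple (([0, 2, 3] : List ℕ).headD 0))) = 1 ∧
      tgExpo cdD4.D (d4TwLam 2) (reflW relD4.refl ([[1], [0, 2, 3]] : List (List ℕ)).flatten (cdD4.D.simple (([0, 2, 3] : List ℕ).headD 0))) = 1) ∧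
    (tgExpo cdD4.D (d4TwLam 0) (cdD4.D.simple 1) = -1 ∧ tgExpo cdD4.D (d4TwLam 1) (cdD4.D.simple 1) = -1 ∧
      tgExpo cdD4.D (d4TwLam 2) (cdD4.D.simple 1) = -1) := by
  decide +kernel

theorem d4_tw_misc :
    (∀ J ∈ ([[1], [0, 2, 3]] : List (List ℕ)), J ∈ twD4F.cls) ∧ ([0, 2, 3] : List ℕ) ∈ twD4F.cls ∧
    ([1] : List ℕ) ∈ twD4F.cls ∧ 23 < cdD4.D.nroots ∧ twD4F.G.rho 23 = 23 ∧ twD4F.G.eps 23 = 1 ∧
    (reflW relD4.refl ([[1], [0, 2, 3]] : List (List ℕ)).flatten)^[5] 23 = cdD4.D.simple 1 := by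
  decide +kernel

/-- The twisted groups of type D4 are generated by two elements. -/
theorem d4_tw_two_gen {K : Type*} [Field K] [Fintype K] (q : ℕ) (hq : 2 ≤ q) (hK : Fintype.card K = q ^ 3)
    (φ : K →+* K) (hφ : ∀ t, φ t = t ^ q) (hφd : ∀ t, φ^[3] t = t) :
    ∃ a b : ↥(twD4F.grp φ), Subgroup.closure ({a, b} : Set ↥(twD4F.grp φ)) = ⊤ := by
  obtain ⟨ζ, hζ⟩ := IsCyclic.exists_generator (α := Kˣ)
  set Φ : Kˣ →* Kˣ := Units.map φ.toMonoidHom with hΦ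
  have hΦpow : ∀ x : Kˣ, Φ x = x ^ q := fun x => Units.ext (hφ x)
  have hΦ3 : Φ (Φ (Φ ζ)) = ζ := Units.ext (hφd ζ)
  have hord : orderOf ζ = q ^ 3 - 1 := by rw [orderOf_generator ζ hζ, hK]
  have hq3 : q ^ 2 + q + 2 ≤ q ^ 3 := by nlinarith [hq, sq_nonneg q]
  set c : Fin cdD4.D.rank → Kˣ := (fun i => ζ ^ d4TwLam 0 i.val) * (fun i => (Φ ζ) ^ d4TwLam 1 i.val) *
    (fun i => (Φ (Φ ζ)) ^ d4TwLam 2 i.val) with hcdef
  have hrc : ∀ s (hs : s < cdD4.D.nroots), rootChar cdD4.D K c ⟨s, hs⟩ =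
      ζ ^ tgExpo cdD4.D (d4TwLam 0) s * (Φ ζ) ^ tgExpo cdD4.D (d4TwLam 1) s *
        (Φ (Φ ζ)) ^ tgExpo cdD4.D (d4TwLam 2) s := by
    intro s hs
    rw [hcdef, map_mul, map_mul]
    simp only [Pi.mul_apply]
    rw [rootChar_zpow, rootChar_zpow, rootChar_zpow]
  obtain ⟨⟨r0, r1, r2⟩, ⟨a0, a1, a2⟩, ⟨b0, b1, b2⟩, ⟨d0, d1, d2⟩⟩ := d4_tw_expo
  obtain ⟨m1, m2, m3, m4, m5, m6, m7⟩ := d4_tw_misc
  have hc : twD4F.G.sigT φ c = c := by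
    have hpinv : ∀ j : Fin cdD4.D.rank, (twD4F.G.pInvF j).val = ([3, 1, 0, 2] : List ℕ).getD j.val 0 := d4_pInvF'
    have hcval : ∀ j : Fin cdD4.D.rank, c j = ζ ^ d4TwLam 0 j.val * (Φ ζ) ^ d4TwLam 1 j.val *
        (Φ (Φ ζ)) ^ d4TwLam 2 j.val := fun j => rfl
    funext j
    show Φ (c (twD4F.G.pInvF j)) = c j
    rw [hcval, hcval, hpinv]
    obtain ⟨j, hj⟩ := j
    have hj4 : j < 4 := hj
    interval_cases j <;> simp [d4TwLam, hΦ3]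
  have hμne : ζ ^ (2 : ℤ) ≠ 1 := by
    intro h
    have h' : ζ ^ 2 = 1 := by rw [← zpow_natCast]; exact h
    have := Nat.le_of_dvd (by norm_num) (orderOf_dvd_of_pow_eq_one h')
    rw [hord] at this
    omega
  have hνne : ζ⁻¹ * Φ ζ * Φ (Φ ζ) ≠ 1 := by
    intro h
    rw [hΦpow (Φ ζ), hΦpow ζ] at h
    have h' : ζ ^ (q + q ^ 2) = ζ ^ 1 := by
      rw [pow_add, pow_one, sq, pow_mul]
      calc ζ ^ q * (ζ ^ q) ^ q = ζ * (ζ⁻¹ * ζ ^ q * (ζ ^ q) ^ q) := by group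
        _ = ζ := by rw [h, mul_one]
    have hmod := pow_eq_pow_iff_modEq.mp h'
    rw [hord] at hmod
    have := Nat.ModEq.eq_of_lt_of_lt hmod (by omega) (by omega)
    nlinarith
  refine twD4F.two_gen φ [[1], [0, 2, 3]] m1 [0, 2, 3] m2 1 m3 23 m4 m5 m6 c hc ?_ (ζ ^ (2 : ℤ))
    (ζ⁻¹ * Φ ζ * Φ (Φ ζ)) ((ζ ^ (∑ i ∈ Finset.range 3, q ^ i))⁻¹) ?_ ?_ ?_ hμne hνne ?_ ?_ 5 m7 ?_
  · rw [hrc, r0, r1, r2]
    simp
  · intro hs
    rw [hrc, a0, a1, a2]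
    simp
  · intro hs
    rw [hrc, b0, b1, b2]
    simp
  · intro hs
    rw [hrc, d0, d1, d2, hΦpow (Φ ζ), hΦpow ζ]
    simp only [Finset.sum_range_succ, Finset.sum_range_zero, zero_add, pow_zero, pow_one, zpow_neg, zpow_one]
    rw [pow_add, pow_add, pow_one, sq, pow_mul]
    simp only [mul_inv, mul_assoc]
  · intro S hS ⟨x0, hx0S, hx0⟩ x
    exact addSubgroup_eq_top S ζ hζ 2 (by simp) hS x0 hx0 hx0S x
  · intro x hx0 hx
    obtain ⟨k, hk⟩ := exists_zpow_of_fixed ζ hζ q 3 hq hK x hx0 (by rw [← hφ]; exact hx)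
    refine ⟨-k, ?_⟩
    rw [inv_zpow, zpow_neg, inv_inv]
    exact hk
  · intro J hJ neg
    exact twOrbCheck_spec d4_tw_orb J hJ neg

end Cfsg.Agent.Lib.Helper3.ChevM
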