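import Cfsg.Prelude.Def_ChevD4
set_option autoImplicit false
set_option maxRecDepth 1000000

namespace Cfsg.Agent.Lib.Helper3.ChevM

/-- Coset representatives of step 0 of the chain of class reflections, type D4. -/
def dlcD40 : List (List (List ℕ)) := [[], [[1]]]

/-- The left multiplication table of these representatives. -/
def nxtcD40 (a i : ℕ) : ℕ := ((#[#[1], #[0]] : Array (Array ℕ)).getD a #[]).getD i 0

/-- Coset representatives of step 1 of the chain of class reflections, type D4. -/
def dlcD41 : List (List (List ℕ)) := [[], [[0, 2, 3]], [[1], [0, 2, 3]], [[0, 2, 3], [1], [0, 2, 3]], [[1], [0, 2, 3], [1], [0, 2, 3]], [[0, 2, 3], [1], [0, 2, 3], [1], [0, 2, 3]]]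

/-- The left multiplication table of these representatives. -/
def nxtcD41 (a i : ℕ) : ℕ := ((#[#[1, 6], #[0, 2], #[3, 1], #[2, 4], #[5, 3], #[4, 6]] : Array (Array ℕ)).getD a #[]).getD i 0

end Cfsg.Agent.Lib.Helper3.ChevM
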