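import Cfsg.Agent.Lib.Helper3.ChevData.D4Mono
import Cfsg.Agent.Lib.Helper3.ChevData.D4Hdec
import Cfsg.Agent.Lib.Helper3.ChevData.D4Sign
import Cfsg.Agent.Lib.Helper3.ChevData.D4TwOrdTab
import Cfsg.Agent.Lib.Helper3.ChevTw23
set_option autoImplicit false
set_option maxRecDepth 1000000

namespace Cfsg.Agent.Lib.Helper3.ChevM

theorem d4TwOs1 : ∀ r < 24, suppCheckL Cfsg.Lie.chevD4 reflD4 ([[1]] : List (List ℕ)).flatten r = true := by decide +kernel

theorem d4TwOr1 : ∀ a < 6, repCheckC Cfsg.Lie.chevD4 reflD4 ([[1]] : List (List ℕ)).flatten ([0, 2, 3] :: [[1]]) dlcD41 a = true := by decide +kernel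

theorem d4TwOt1 : ∀ a < 6, ∀ i < 2, stepCheckC Cfsg.Lie.chevD4 reflD4 [[1]] [0, 2, 3] dlcD41 nxtcD41 a i = true := by decide +kernel

theorem d4TwOd1 : distinctCheckC Cfsg.Lie.chevD4 reflD4 dlcD41 = true := by decide +kernel

theorem d4TwOn1 : dlcD41.map (fun d => Nw Cfsg.Lie.chevD4 reflD4 d.flatten) = [0, 3, 4, 7, 8, 11] := by decide +kernel

/-- Step 1 of the factorisation of the Poincaré sum of the class reflections of type D4. -/
theorem d4TwPoin1 (q : ℕ) : poinC cdD4.D relD4.refl ([0, 2, 3] :: [[1]]) q =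
    ([0, 3, 4, 7, 8, 11].map fun e => q ^ e).sum * poinC cdD4.D relD4.refl [[1]] q := by
  have h := monoD4.poin_stepC (of_pairRange (m := 24) (n := 24) d4Hdec) d4Sign [[1]] [0, 2, 3] (by decide)
    d4TwOs1 dlcD41 d4TwOr1 nxtcD41 (by decide +kernel) d4TwOt1 d4TwOd1 q
  have e : (dlcD41.map fun d => q ^ Nw cdD4.D relD4.refl d.flatten) = (dlcD41.map (fun d => Nw Cfsg.Lie.chevD4 reflD4 d.flatten)).map fun e => q ^ e := by
    rw [List.map_map]; rfl
  rw [h, e, d4TwOn1]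

end Cfsg.Agent.Lib.Helper3.ChevM
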