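import Cfsg.Agent.Lib.Helper3.ChevData.D4TwOrd0
import Cfsg.Agent.Lib.Helper3.ChevData.D4TwOrd1
set_option autoImplicit false
set_option maxRecDepth 1000000

namespace Cfsg.Agent.Lib.Helper3.ChevM

/-- The Poincaré sum of the group generated by the class reflections of type D4. -/
theorem d4TwPoin (q : ℕ) : poinC cdD4.D relD4.refl [[1], [0, 2, 3]] q =
    ([0, 3, 4, 7, 8, 11].map fun e => q ^ e).sum *
    ([0, 1].map fun e => q ^ e).sum := by
  rw [poinC_congr cdD4.D relD4.refl [[1], [0, 2, 3]] [[0, 2, 3], [1]] (by intro J; simp; tauto)]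
  rw [d4TwPoin1, d4TwPoin0, poinC_nil _ _ d4Sign]
  ring

end Cfsg.Agent.Lib.Helper3.ChevM
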