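import Cfsg.Agent.Lib.Helper3.ChevData.D4TwF
import Cfsg.Agent.Lib.Helper3.ChevData.D4TwPoin
set_option autoImplicit false
set_option maxRecDepth 1000000
open Cfsg Cfsg.Lie

namespace Cfsg.Agent.Lib.Helper3.ChevM

theorem d4TwFib : twFiberCheck cdD4.D twD4G.T.isRep twD4G.T.mlen twD4G.T.rep = true := by decide +kernel

/-- The order of the twisted group of type D4 as a product. -/
theorem d4_tw_card {K : Type*} [Field K] [Fintype K] (φ : K →+* K) (q : ℕ)
    (hφ1 : Nat.card {x : K // φ x = x} = q) (hφd : ∀ x : K, φ^[3] x = x) (hK : Fintype.card K = q ^ 3) :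
    Nat.card ↥(twD4C.grp φ) =
      q ^ 12 * ((q - 1) * (q ^ 3 - 1)) *
      (([0, 3, 4, 7, 8, 11].map fun e => q ^ e).sum * ([0, 1].map fun e => q ^ e).sum) := by
  have hKc : Nat.card K = q ^ 3 := by rw [Nat.card_eq_fintype_card, hK]
  have h1 : Nat.card ↥(twD4C.grp φ) =
      Nat.card ↥(cdD4.D.posUnipotent K ⊓ twD4C.grp φ) * Nat.card ↥(cdD4.D.diagonalSubgroup K ⊓ twD4C.grp φ) *
        poinC cdD4.D relD4.refl twClsD4A q := twD4G.card_grp φ d4TwFib q hφ1 hφd hKc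
  have h2 : Nat.card ↥(cdD4.D.posUnipotent K ⊓ twD4C.grp φ) = q ^ 12 :=
    twD4A.card_posUnipotent_inf φ q hφ1 hφd hKc
  have h3 : Nat.card ↥(cdD4.D.diagonalSubgroup K ⊓ twD4C.grp φ) =
      (twD4G.cls.map fun J => q ^ J.length - 1).prod := by
    have key := twD4G.card_diagonal_inf' φ q hφ1 hφd hKc
    rw [d4_kerFix_eq_bot φ, Subgroup.card_bot, one_mul] at key
    exact key
  have e : (twD4G.cls.map fun J => q ^ J.length - 1).prod = (q - 1) * (q ^ 3 - 1) := by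
    show (q ^ 1 - 1) * ((q ^ 3 - 1) * 1) = _
    rw [pow_one, mul_one]
  rw [e] at h3
  have h4 : poinC cdD4.D relD4.refl twClsD4A q = _ := d4TwPoin q
  rw [h1, h2, h4, h3]

end Cfsg.Agent.Lib.Helper3.ChevM
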