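import Cfsg.Agent.Lib.Helper3.ChevData.D4Mono
import Cfsg.Agent.Lib.Helper3.ChevData.D4Hdec
import Cfsg.Agent.Lib.Helper3.ChevData.D4Sign
import Cfsg.Agent.Lib.Helper3.ChevData.D4TwOrdTab
import Cfsg.Agent.Lib.Helper3.ChevTw23
set_option autoImplicit false
set_option maxRecDepth 1000000

namespace Cfsg.Agent.Lib.Helper3.ChevM

theorem d4TwOs0 : ∀ r < 24, suppCheckL Cfsg.Lie.chevD4 reflD4 ([] : List (List ℕ)).flatten r = true := by decide +kernel

theorem d4TwOr0 : ∀ a < 2, repCheckC Cfsg.Lie.chevD4 reflD4 ([] : List (List ℕ)).flatten ([1] :: []) dlcD40 a = true := by decide +kernel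

theorem d4TwOt0 : ∀ a < 2, ∀ i < 1, stepCheckC Cfsg.Lie.chevD4 reflD4 [] [1] dlcD40 nxtcD40 a i = true := by decide +kernel

theorem d4TwOd0 : distinctCheckC Cfsg.Lie.chevD4 reflD4 dlcD40 = true := by decide +kernel

theorem d4TwOn0 : dlcD40.map (fun d => Nw Cfsg.Lie.chevD4 reflD4 d.flatten) = [0, 1] := by decide +kernel

/-- Step 0 of the factorisation of the Poincaré sum of the class reflections of type D4. -/
theorem d4TwPoin0 (q : ℕ) : poinC cdD4.D relD4.refl ([1] :: []) q =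
    ([0, 1].map fun e => q ^ e).sum * poinC cdD4.D relD4.refl [] q := by
  have h := monoD4.poin_stepC (of_pairRange (m := 24) (n := 24) d4Hdec) d4Sign [] [1] (by decide)
    d4TwOs0 dlcD40 d4TwOr0 nxtcD40 (by decide +kernel) d4TwOt0 d4TwOd0 q
  have e : (dlcD40.map fun d => q ^ Nw cdD4.D relD4.refl d.flatten) = (dlcD40.map (fun d => Nw Cfsg.Lie.chevD4 reflD4 d.flatten)).map fun e => q ^ e := by
    rw [List.map_map]; rfl
  rw [h, e, d4TwOn0]

end Cfsg.Agent.Lib.Helper3.ChevM
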