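import Cfsg.Agent.Lib.Helper3.ChevData.D4TwB
import Cfsg.Agent.Lib.Helper3.ChevData.D4TwPoin
import Cfsg.Agent.Lib.Helper3.ChevData.G2Cox
import Cfsg.Agent.Lib.Helper3.ChevTw24
set_option autoImplicit false
set_option maxRecDepth 1000000
open Cfsg Cfsg.Lie

namespace Cfsg.Agent.Lib.Helper3.ChevM

/-- The classes of fundamental roots of type D4 in the order of the diagram of type G2. -/
def d4TwCs (k : Fin 2) : List (Fin cdD4.D.rank) :=
  (![[1], [0, 2, 3]] : Fin 2 → List (Fin 4)) k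

theorem d4TwCoxOrd : ∀ i j : Fin 2,
    wordOrdCheck cdD4.D relD4.refl (lw (d4TwCs i ++ d4TwCs j)) ((CoxeterMatrix.G₂ : CoxeterMatrix (Fin 2)) i j) = true := by
  decide +kernel

/-- The homomorphism from `N ∩ G¹` onto the Coxeter group of type G2, with kernel `H ∩ G¹`. -/
theorem d4_tw_weylHom {K : Type*} [Field K] [Fintype K] (φ : K →+* K) :
    ∃ f : ↥(cdD4.D.monomialSubgroup K ⊓ twD4B.grp φ) →* (CoxeterMatrix.G₂ : CoxeterMatrix (Fin 2)).Group,
      Function.Surjective f ∧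
      f.ker = (cdD4.D.diagonalSubgroup K ⊓ twD4B.grp φ).subgroupOf (cdD4.D.monomialSubgroup K ⊓ twD4B.grp φ) := by
  refine twD4B.exists_weylHom_tw φ (CoxeterMatrix.G₂) d4TwCs (by decide) (by decide) d4TwCoxOrd ?_
  rw [g2CoxCard]
  have h : poinC cdD4.D relD4.refl twD4B.cls 1 = _ := d4TwPoin 1
  rw [h]
  rfl

end Cfsg.Agent.Lib.Helper3.ChevM
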