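import Cfsg.Agent.Lib.Helper3.ChevGen2c
import Cfsg.Agent.Lib.Helper3.ChevData.D4Mono
import Cfsg.Agent.Lib.Helper3.ChevData.D4Hdec
import Cfsg.Agent.Lib.Helper3.ChevData.D4CommData
set_option autoImplicit false
set_option maxRecDepth 1000000
open Cfsg Cfsg.Lie

/-! Two generators for the Chevalley group of type D4: the data of the derivation. -/

namespace Cfsg.Agent.Lib.Helper3.ChevM

/-- The parameters of the derivation for type D4. -/
def tgParD4 : TGParams where
  l := [0, 1, 2, 3]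
  s := 12
  lam := fun i => ([0, 1, 0, 1] : List ℤ).getD i 0
  P := []
  two := true

/-- The steps of the derivation for type D4. -/
def tgStepsD4 : List TGStep := [
  .orbInv 9, .tor 9, .orb 9, .orbInv 5, .orbInv 22, .sum 1 9 0 (1), .sum 5 22 17 (-1), .sum 5 9 4 (1),
  .orb 0, .orbInv 23, .sum 1 23 14 (-1), .sum 6 23 19 (1), .sum 6 22 18 (1), .orb2 1 2 (1), .orb2 6 7 (1), .orb2 14 15 (-1),
  .orb2 19 20 (-1), .orbInv2 1 2 (1), .orbInv2 6 7 (1), .orbInv2 14 15 (-1), .orbInv2 19 20 (-1), .sum 0 16 3 (-1), .sum 1 20 10 (-1), .sum 2 22 12 (-1),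
  .sum 8 23 21 (-1)]

theorem tgOKD4 : tgOK cdD4.D relD4.refl tgParD4 tgStepsD4 ⟨[1], [], false⟩ = true := by
  decide +kernel

theorem two_gen_D4 {F : Type*} [Field F] [Finite F] :
    ∃ a b : ↥(Cfsg.Lie.chevD4.group F), Subgroup.closure ({a, b} : Set ↥(Cfsg.Lie.chevD4.group F)) = ⊤ :=
  two_gen_N (C := cdD4) monoD4 commD4 (of_pairRange (m := 24) (n := 24) d4Hdec) tgParD4 1
    (by decide) (by decide) (by decide) (by decide +kernel) rfl tgStepsD4 tgOKD4

end Cfsg.Agent.Lib.Helper3.ChevM
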