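import Cfsg.Prelude.Def_ChevD4
set_option autoImplicit false
set_option maxRecDepth 1000000

namespace Cfsg.Agent.Lib.Helper3.ChevM

/-- Position of the positive roots of type D4 in an order compatible with heights. -/
def hposD4 (r : ℕ) : ℕ := (#[0, 0, 0, 0, 0, 0, 0, 0, 0, 0, 0, 0, 0, 1, 2, 4, 5, 7, 3, 6, 8, 9, 10, 11] : Array ℕ).getD r 0

/-- Level of the coordinates of type D4. -/
def hfD4 (c : ℕ) : ℕ := (#[649, 649, 649, 649, 0, 64, 65, 72, 73, 137, 576, 577, 584, 585, 641, 648, 650, 657, 713, 714, 721, 722, 1161, 1225, 1226, 1233, 1234, 1298] : Array ℕ).getD c 0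

/-- Level of the positive roots of type D4. -/
def frD4 (r : ℕ) : ℕ := (#[0, 0, 0, 0, 0, 0, 0, 0, 0, 0, 0, 0, 1, 8, 64, 65, 72, 73, 512, 576, 577, 584, 585, 649] : Array ℕ).getD r 0

/-- Column of the witness entry. -/
def wjD4 (r : ℕ) : ℕ := (#[0, 0, 0, 0, 0, 0, 0, 0, 0, 0, 0, 0, 1, 1, 0, 0, 0, 0, 1, 0, 0, 0, 0, 1] : Array ℕ).getD r 0

/-- Row of the witness entry. -/
def wiD4 (r : ℕ) : ℕ := (#[0, 0, 0, 0, 0, 0, 0, 0, 0, 0, 0, 0, 16, 17, 18, 19, 20, 21, 22, 23, 24, 25, 26, 27] : Array ℕ).getD r 0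

end Cfsg.Agent.Lib.Helper3.ChevM
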