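import Cfsg.Prelude.Def_ChevD4
import Cfsg.Agent.Lib.Helper3.ChevData.D4Uni
import Cfsg.Agent.Lib.Helper3.StU10
set_option autoImplicit false
set_option maxRecDepth 1000000
set_option Elab.async false

namespace Cfsg.Agent.Lib.Helper3.ChevM
open Cfsg.Agent.Lib.Helper3.StB Cfsg.Agent.Lib.Helper3.StU

theorem d4Ucolb_0_0 : allRange 0 555 ((fun k => col2OK Cfsg.Lie.chevD4 hposD4 (k / 24) (k % 24))) = true := by decide +kernel
theorem d4Ucolb_0_555 : allRange 555 576 ((fun k => col2OK Cfsg.Lie.chevD4 hposD4 (k / 24) (k % 24))) = true := by decide +kernel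

/-- The terms of the commutator formula of type D4 lie higher than the second root (roots 0 to 575). -/
theorem d4Ucolb_0 : ∀ r, 0 ≤ r → r < 576 → ((fun k => col2OK Cfsg.Lie.chevD4 hposD4 (k / 24) (k % 24))) r = true := by
  intro r h1 h2
  by_cases c0 : r < 555
  · exact allRange_spec d4Ucolb_0_0 r (by omega) c0
  exact allRange_spec d4Ucolb_0_555 r (by omega) h2

end Cfsg.Agent.Lib.Helper3.ChevM
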