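import Cfsg.Prelude.Def_ChevD4
import Cfsg.Agent.Lib.Helper3.ChevData.D4Uni
import Cfsg.Agent.Lib.Helper3.ChevU3
set_option autoImplicit false
set_option maxRecDepth 1000000
set_option Elab.async false

namespace Cfsg.Agent.Lib.Helper3.ChevM

theorem d4Uinj_0_0 : allRange 0 24 ((fun r => hposCheck Cfsg.Lie.chevD4 hposD4 r)) = true := by decide +kernel

/-- The positions of the positive roots of type D4 are distinct (roots 0 to 23). -/
theorem d4Uinj_0 : ∀ r, 0 ≤ r → r < 24 → ((fun r => hposCheck Cfsg.Lie.chevD4 hposD4 r)) r = true := by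
  intro r h1 h2
  exact allRange_spec d4Uinj_0_0 r (by omega) h2

end Cfsg.Agent.Lib.Helper3.ChevM
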