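import Cfsg.Agent.Lib.Helper3.ChevData.D4St
import Cfsg.Agent.Lib.Helper3.ChevData.D4Uself
import Cfsg.Agent.Lib.Helper3.ChevData.D4Utex
import Cfsg.Agent.Lib.Helper3.ChevData.D4Utor
import Cfsg.Agent.Lib.Helper3.ChevData.D4Ucolb
import Cfsg.Agent.Lib.Helper3.ChevData.D4Ubase
set_option autoImplicit false

namespace Cfsg.Agent.Lib.Helper3.ChevM
open Cfsg.Agent.Lib.Helper3.StB Cfsg.Agent.Lib.Helper3.StU

/-- The table checks for the splitting of the central extensions of the Steinberg group of type D4. -/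
def univHypD4 : UnivHyp cdD4 relD4 where
  Y := stHypD4
  self := d4Uself
  torEx := d4Utex
  tor := of_pairRange (m := 24) (n := 24) d4Utor
  col2 := of_pairRange (m := 24) (n := 24) d4Ucolb
  bw := bwD4
  base := of_pairRange (m := 24) (n := 24) d4Ubase

end Cfsg.Agent.Lib.Helper3.ChevM
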