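import Cfsg.Agent.Lib.Helper3.ChevData.D4VselfA
set_option autoImplicit false

namespace Cfsg.Agent.Lib.Helper3.ChevM
open Cfsg.Agent.Lib.Helper3.StB Cfsg.Agent.Lib.Helper3.StU Cfsg.Agent.Lib.Helper3.StV

/-- The lifts of the elements of a root subgroup of type D4 commute, over the field with four elements. -/
theorem d4Vself : ∀ r < 24, ((fun r => selfOK1 3 2 Cfsg.Lie.chevD4 r)) r = true := by
  intro r hr
  exact d4Vself_0 r (by omega) hr

end Cfsg.Agent.Lib.Helper3.ChevM
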