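import Cfsg.Agent.Lib.Helper3.ChevData.D4VtexcA
set_option autoImplicit false

namespace Cfsg.Agent.Lib.Helper3.ChevM
open Cfsg.Agent.Lib.Helper3.StB Cfsg.Agent.Lib.Helper3.StU Cfsg.Agent.Lib.Helper3.StV

/-- Torus elements of order 3 acting non-trivially on the root subgroups of type D4. -/
theorem d4Vtexc : ∀ r < 24, ((fun r => torExBy 3 Cfsg.Lie.chevD4 r)) r = true := by
  intro r hr
  exact d4Vtexc_0 r (by omega) hr

end Cfsg.Agent.Lib.Helper3.ChevM
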