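import Cfsg.Agent.Lib.Helper3.ChevData.D4Univ
import Cfsg.Agent.Lib.Helper3.ChevData.D4Vself
import Cfsg.Agent.Lib.Helper3.ChevData.D4Vtexc
import Cfsg.Agent.Lib.Helper3.ChevData.D4Vsepc
import Cfsg.Agent.Lib.Helper3.ChevData.D4Vtexb
import Cfsg.Agent.Lib.Helper3.ChevData.D4Vorth
set_option autoImplicit false
set_option maxRecDepth 1000000

namespace Cfsg.Agent.Lib.Helper3.ChevM
open Cfsg.Agent.Lib.Helper3.StB Cfsg.Agent.Lib.Helper3.StU Cfsg.Agent.Lib.Helper3.StV

/-- The table checks for the splitting of the central extensions of the Steinberg group of type D4 over the field with four elements. -/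
def sepHypCD4 : SepHyp 3 2 cdD4 relD4 where
  H := univHypD4
  self := d4Vself
  torEx := d4Vtexc
  sep := of_pairRange (m := 24) (n := 24) d4Vsepc

/-- The table checks for the splitting of the central extensions of the Steinberg group of type D4 over the field with three elements. -/
def orthHypD4 : OrthHyp cdD4 relD4 where
  H := univHypD4
  torEx := d4Vtexb
  wit := witVD4
  sep := of_pairRange (m := 24) (n := 24) d4Vorth

end Cfsg.Agent.Lib.Helper3.ChevM
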