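import Mathlib
set_option autoImplicit false

namespace Cfsg.Agent.Lib.Helper3.ChevM

/-- Decompositions for the pairs of orthogonal positive roots of type D4 not separated by torus elements of order 2. -/
def witVD4 (r s : ℕ) : ℕ × ℕ × ℕ × ℕ :=
  if r = 12 ∧ s = 13 then (4, 20, 22, 2) else
  if r = 12 ∧ s = 18 then (7, 17, 22, 2) else
  if r = 12 ∧ s = 23 then (15, 9, 22, 2) else
  if r = 13 ∧ s = 12 then (4, 21, 22, 3) else
  if r = 13 ∧ s = 18 then (8, 17, 22, 3) else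
  if r = 13 ∧ s = 23 then (16, 9, 22, 3) else
  if r = 14 ∧ s = 17 then (5, 19, 23, 1) else
  if r = 14 ∧ s = 20 then (10, 16, 23, 1) else
  if r = 14 ∧ s = 21 then (11, 15, 23, 1) else
  if r = 15 ∧ s = 16 then (5, 20, 23, 2) else
  if r = 15 ∧ s = 19 then (10, 17, 23, 2) else
  if r = 15 ∧ s = 22 then (12, 14, 23, 2) else
  if r = 16 ∧ s = 15 then (5, 21, 23, 3) else
  if r = 16 ∧ s = 19 then (11, 17, 23, 3) else
  if r = 16 ∧ s = 22 then (13, 14, 23, 3) else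
  if r = 17 ∧ s = 14 then (5, 22, 23, 4) else
  if r = 17 ∧ s = 20 then (12, 16, 23, 4) else
  if r = 17 ∧ s = 21 then (13, 15, 23, 4) else
  if r = 18 ∧ s = 12 then (7, 21, 22, 6) else
  if r = 18 ∧ s = 13 then (8, 20, 22, 6) else
  if r = 18 ∧ s = 23 then (19, 9, 22, 6) else
  if r = 19 ∧ s = 15 then (10, 21, 23, 6) else
  if r = 19 ∧ s = 16 then (11, 20, 23, 6) else
  if r = 19 ∧ s = 22 then (18, 14, 23, 6) else
  if r = 20 ∧ s = 14 then (10, 22, 23, 7) else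
  if r = 20 ∧ s = 17 then (12, 19, 23, 7) else
  if r = 20 ∧ s = 21 then (18, 15, 23, 7) else
  if r = 21 ∧ s = 14 then (11, 22, 23, 8) else
  if r = 21 ∧ s = 17 then (13, 19, 23, 8) else
  if r = 21 ∧ s = 20 then (18, 16, 23, 8) else
  if r = 22 ∧ s = 15 then (12, 21, 23, 9) else
  if r = 22 ∧ s = 16 then (13, 20, 23, 9) else
  if r = 22 ∧ s = 19 then (18, 17, 23, 9) else
  if r = 23 ∧ s = 12 then (15, 21, 22, 14) else
  if r = 23 ∧ s = 13 then (16, 20, 22, 14) else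
  if r = 23 ∧ s = 18 then (19, 17, 22, 14) else
  (0, 0, 0, 0)

end Cfsg.Agent.Lib.Helper3.ChevM
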