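import Cfsg.Prelude.Def_ChevD4
import Cfsg.Agent.Lib.Helper3.ChevData.D4Hd2
import Cfsg.Agent.Lib.Helper3.ChevL2
set_option autoImplicit false
set_option maxRecDepth 1000000
set_option Elab.async false

namespace Cfsg.Agent.Lib.Helper3.ChevM

theorem d4Vs_0_0 : allRange 0 24 (fun r => vecSignCheck Cfsg.Lie.chevD4 vecD4 r) = true := by decide +kernel

/-- The coefficients of the roots and coroots of type D4 have the same signs (roots 0 to 23). -/
theorem d4Vs_0 : ∀ r, 0 ≤ r → r < 24 → (fun r => vecSignCheck Cfsg.Lie.chevD4 vecD4 r) r = true := by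
  intro r h1 h2
  exact allRange_spec d4Vs_0_0 r (by omega) h2

end Cfsg.Agent.Lib.Helper3.ChevM
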