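import Cfsg.Agent.Lib.Helper3.ChevData.E6AddA
import Cfsg.Agent.Lib.Helper3.ChevData.E6AddB
set_option autoImplicit false

namespace Cfsg.Agent.Lib.Helper3.ChevM

/-- Additivity check for the root elements of type E6. -/
theorem e6Add : ∀ r < 72, (cdE6.checkAdd) r = true := by
  intro r hr
  by_cases h0 : r < 36
  · exact e6Add_0 r (by omega) h0
  exact e6Add_1 r (by omega) hr

end Cfsg.Agent.Lib.Helper3.ChevM
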