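import Cfsg.Prelude.Def_ChevE6
import Cfsg.Agent.Lib.Helper3.StB5
set_option autoImplicit false
set_option maxRecDepth 1000000
set_option Elab.async false

namespace Cfsg.Agent.Lib.Helper3.ChevM
open Cfsg.Agent.Lib.Helper3.StB

theorem e6Cneg_1_2479 : allRange 2479 2546 ((fun k => commNegCheck Cfsg.Lie.chevE6 (k / 72) (k % 72))) = true := by decide +kernel
theorem e6Cneg_1_2546 : allRange 2546 2613 ((fun k => commNegCheck Cfsg.Lie.chevE6 (k / 72) (k % 72))) = true := by decide +kernel
theorem e6Cneg_1_2613 : allRange 2613 2680 ((fun k => commNegCheck Cfsg.Lie.chevE6 (k / 72) (k % 72))) = true := by decide +kernel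
theorem e6Cneg_1_2680 : allRange 2680 2747 ((fun k => commNegCheck Cfsg.Lie.chevE6 (k / 72) (k % 72))) = true := by decide +kernel
theorem e6Cneg_1_2747 : allRange 2747 2814 ((fun k => commNegCheck Cfsg.Lie.chevE6 (k / 72) (k % 72))) = true := by decide +kernel
theorem e6Cneg_1_2814 : allRange 2814 2881 ((fun k => commNegCheck Cfsg.Lie.chevE6 (k / 72) (k % 72))) = true := by decide +kernel
theorem e6Cneg_1_2881 : allRange 2881 2948 ((fun k => commNegCheck Cfsg.Lie.chevE6 (k / 72) (k % 72))) = true := by decide +kernel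
theorem e6Cneg_1_2948 : allRange 2948 3015 ((fun k => commNegCheck Cfsg.Lie.chevE6 (k / 72) (k % 72))) = true := by decide +kernel
theorem e6Cneg_1_3015 : allRange 3015 3082 ((fun k => commNegCheck Cfsg.Lie.chevE6 (k / 72) (k % 72))) = true := by decide +kernel
theorem e6Cneg_1_3082 : allRange 3082 3149 ((fun k => commNegCheck Cfsg.Lie.chevE6 (k / 72) (k % 72))) = true := by decide +kernel
theorem e6Cneg_1_3149 : allRange 3149 3216 ((fun k => commNegCheck Cfsg.Lie.chevE6 (k / 72) (k % 72))) = true := by decide +kernel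
theorem e6Cneg_1_3216 : allRange 3216 3283 ((fun k => commNegCheck Cfsg.Lie.chevE6 (k / 72) (k % 72))) = true := by decide +kernel
theorem e6Cneg_1_3283 : allRange 3283 3350 ((fun k => commNegCheck Cfsg.Lie.chevE6 (k / 72) (k % 72))) = true := by decide +kernel
theorem e6Cneg_1_3350 : allRange 3350 3417 ((fun k => commNegCheck Cfsg.Lie.chevE6 (k / 72) (k % 72))) = true := by decide +kernel
theorem e6Cneg_1_3417 : allRange 3417 3484 ((fun k => commNegCheck Cfsg.Lie.chevE6 (k / 72) (k % 72))) = true := by decide +kernel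
theorem e6Cneg_1_3484 : allRange 3484 3551 ((fun k => commNegCheck Cfsg.Lie.chevE6 (k / 72) (k % 72))) = true := by decide +kernel
theorem e6Cneg_1_3551 : allRange 3551 3618 ((fun k => commNegCheck Cfsg.Lie.chevE6 (k / 72) (k % 72))) = true := by decide +kernel
theorem e6Cneg_1_3618 : allRange 3618 3685 ((fun k => commNegCheck Cfsg.Lie.chevE6 (k / 72) (k % 72))) = true := by decide +kernel
theorem e6Cneg_1_3685 : allRange 3685 3752 ((fun k => commNegCheck Cfsg.Lie.chevE6 (k / 72) (k % 72))) = true := by decide +kernel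
theorem e6Cneg_1_3752 : allRange 3752 3819 ((fun k => commNegCheck Cfsg.Lie.chevE6 (k / 72) (k % 72))) = true := by decide +kernel
theorem e6Cneg_1_3819 : allRange 3819 3886 ((fun k => commNegCheck Cfsg.Lie.chevE6 (k / 72) (k % 72))) = true := by decide +kernel
theorem e6Cneg_1_3886 : allRange 3886 3953 ((fun k => commNegCheck Cfsg.Lie.chevE6 (k / 72) (k % 72))) = true := by decide +kernel
theorem e6Cneg_1_3953 : allRange 3953 4020 ((fun k => commNegCheck Cfsg.Lie.chevE6 (k / 72) (k % 72))) = true := by decide +kernel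
theorem e6Cneg_1_4020 : allRange 4020 4087 ((fun k => commNegCheck Cfsg.Lie.chevE6 (k / 72) (k % 72))) = true := by decide +kernel
theorem e6Cneg_1_4087 : allRange 4087 4154 ((fun k => commNegCheck Cfsg.Lie.chevE6 (k / 72) (k % 72))) = true := by decide +kernel
theorem e6Cneg_1_4154 : allRange 4154 4221 ((fun k => commNegCheck Cfsg.Lie.chevE6 (k / 72) (k % 72))) = true := by decide +kernel
theorem e6Cneg_1_4221 : allRange 4221 4288 ((fun k => commNegCheck Cfsg.Lie.chevE6 (k / 72) (k % 72))) = true := by decide +kernel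
theorem e6Cneg_1_4288 : allRange 4288 4355 ((fun k => commNegCheck Cfsg.Lie.chevE6 (k / 72) (k % 72))) = true := by decide +kernel
theorem e6Cneg_1_4355 : allRange 4355 4422 ((fun k => commNegCheck Cfsg.Lie.chevE6 (k / 72) (k % 72))) = true := by decide +kernel
theorem e6Cneg_1_4422 : allRange 4422 4489 ((fun k => commNegCheck Cfsg.Lie.chevE6 (k / 72) (k % 72))) = true := by decide +kernel
theorem e6Cneg_1_4489 : allRange 4489 4556 ((fun k => commNegCheck Cfsg.Lie.chevE6 (k / 72) (k % 72))) = true := by decide +kernel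
theorem e6Cneg_1_4556 : allRange 4556 4623 ((fun k => commNegCheck Cfsg.Lie.chevE6 (k / 72) (k % 72))) = true := by decide +kernel
theorem e6Cneg_1_4623 : allRange 4623 4690 ((fun k => commNegCheck Cfsg.Lie.chevE6 (k / 72) (k % 72))) = true := by decide +kernel
theorem e6Cneg_1_4690 : allRange 4690 4757 ((fun k => commNegCheck Cfsg.Lie.chevE6 (k / 72) (k % 72))) = true := by decide +kernel
theorem e6Cneg_1_4757 : allRange 4757 4824 ((fun k => commNegCheck Cfsg.Lie.chevE6 (k / 72) (k % 72))) = true := by decide +kernel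
theorem e6Cneg_1_4824 : allRange 4824 4891 ((fun k => commNegCheck Cfsg.Lie.chevE6 (k / 72) (k % 72))) = true := by decide +kernel
theorem e6Cneg_1_4891 : allRange 4891 4958 ((fun k => commNegCheck Cfsg.Lie.chevE6 (k / 72) (k % 72))) = true := by decide +kernel

/-- The commutator formula of type E6 for opposite roots (roots 2479 to 4957). -/
theorem e6Cneg_1 : ∀ r, 2479 ≤ r → r < 4958 → ((fun k => commNegCheck Cfsg.Lie.chevE6 (k / 72) (k % 72))) r = true := by
  intro r h1 h2
  by_cases c0 : r < 2546
  · exact allRange_spec e6Cneg_1_2479 r (by omega) c0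
  by_cases c1 : r < 2613
  · exact allRange_spec e6Cneg_1_2546 r (by omega) c1
  by_cases c2 : r < 2680
  · exact allRange_spec e6Cneg_1_2613 r (by omega) c2
  by_cases c3 : r < 2747
  · exact allRange_spec e6Cneg_1_2680 r (by omega) c3
  by_cases c4 : r < 2814
  · exact allRange_spec e6Cneg_1_2747 r (by omega) c4
  by_cases c5 : r < 2881
  · exact allRange_spec e6Cneg_1_2814 r (by omega) c5
  by_cases c6 : r < 2948
  · exact allRange_spec e6Cneg_1_2881 r (by omega) c6
  by_cases c7 : r < 3015
  · exact allRange_spec e6Cneg_1_2948 r (by omega) c7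
  by_cases c8 : r < 3082
  · exact allRange_spec e6Cneg_1_3015 r (by omega) c8
  by_cases c9 : r < 3149
  · exact allRange_spec e6Cneg_1_3082 r (by omega) c9
  by_cases c10 : r < 3216
  · exact allRange_spec e6Cneg_1_3149 r (by omega) c10
  by_cases c11 : r < 3283
  · exact allRange_spec e6Cneg_1_3216 r (by omega) c11
  by_cases c12 : r < 3350
  · exact allRange_spec e6Cneg_1_3283 r (by omega) c12
  by_cases c13 : r < 3417
  · exact allRange_spec e6Cneg_1_3350 r (by omega) c13
  by_cases c14 : r < 3484
  · exact allRange_spec e6Cneg_1_3417 r (by omega) c14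
  by_cases c15 : r < 3551
  · exact allRange_spec e6Cneg_1_3484 r (by omega) c15
  by_cases c16 : r < 3618
  · exact allRange_spec e6Cneg_1_3551 r (by omega) c16
  by_cases c17 : r < 3685
  · exact allRange_spec e6Cneg_1_3618 r (by omega) c17
  by_cases c18 : r < 3752
  · exact allRange_spec e6Cneg_1_3685 r (by omega) c18
  by_cases c19 : r < 3819
  · exact allRange_spec e6Cneg_1_3752 r (by omega) c19
  by_cases c20 : r < 3886
  · exact allRange_spec e6Cneg_1_3819 r (by omega) c20
  by_cases c21 : r < 3953
  · exact allRange_spec e6Cneg_1_3886 r (by omega) c21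
  by_cases c22 : r < 4020
  · exact allRange_spec e6Cneg_1_3953 r (by omega) c22
  by_cases c23 : r < 4087
  · exact allRange_spec e6Cneg_1_4020 r (by omega) c23
  by_cases c24 : r < 4154
  · exact allRange_spec e6Cneg_1_4087 r (by omega) c24
  by_cases c25 : r < 4221
  · exact allRange_spec e6Cneg_1_4154 r (by omega) c25
  by_cases c26 : r < 4288
  · exact allRange_spec e6Cneg_1_4221 r (by omega) c26
  by_cases c27 : r < 4355
  · exact allRange_spec e6Cneg_1_4288 r (by omega) c27
  by_cases c28 : r < 4422
  · exact allRange_spec e6Cneg_1_4355 r (by omega) c28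
  by_cases c29 : r < 4489
  · exact allRange_spec e6Cneg_1_4422 r (by omega) c29
  by_cases c30 : r < 4556
  · exact allRange_spec e6Cneg_1_4489 r (by omega) c30
  by_cases c31 : r < 4623
  · exact allRange_spec e6Cneg_1_4556 r (by omega) c31
  by_cases c32 : r < 4690
  · exact allRange_spec e6Cneg_1_4623 r (by omega) c32
  by_cases c33 : r < 4757
  · exact allRange_spec e6Cneg_1_4690 r (by omega) c33
  by_cases c34 : r < 4824
  · exact allRange_spec e6Cneg_1_4757 r (by omega) c34
  by_cases c35 : r < 4891
  · exact allRange_spec e6Cneg_1_4824 r (by omega) c35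
  exact allRange_spec e6Cneg_1_4891 r (by omega) h2

end Cfsg.Agent.Lib.Helper3.ChevM
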