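import Cfsg.Prelude.Def_ChevE6
import Cfsg.Agent.Lib.Helper3.StB5
set_option autoImplicit false
set_option maxRecDepth 1000000
set_option Elab.async false

namespace Cfsg.Agent.Lib.Helper3.ChevM
open Cfsg.Agent.Lib.Helper3.StB

theorem e6Cneg_2_4958 : allRange 4958 5025 ((fun k => commNegCheck Cfsg.Lie.chevE6 (k / 72) (k % 72))) = true := by decide +kernel
theorem e6Cneg_2_5025 : allRange 5025 5092 ((fun k => commNegCheck Cfsg.Lie.chevE6 (k / 72) (k % 72))) = true := by decide +kernel
theorem e6Cneg_2_5092 : allRange 5092 5159 ((fun k => commNegCheck Cfsg.Lie.chevE6 (k / 72) (k % 72))) = true := by decide +kernel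
theorem e6Cneg_2_5159 : allRange 5159 5184 ((fun k => commNegCheck Cfsg.Lie.chevE6 (k / 72) (k % 72))) = true := by decide +kernel

/-- The commutator formula of type E6 for opposite roots (roots 4958 to 5183). -/
theorem e6Cneg_2 : ∀ r, 4958 ≤ r → r < 5184 → ((fun k => commNegCheck Cfsg.Lie.chevE6 (k / 72) (k % 72))) r = true := by
  intro r h1 h2
  by_cases c0 : r < 5025
  · exact allRange_spec e6Cneg_2_4958 r (by omega) c0
  by_cases c1 : r < 5092
  · exact allRange_spec e6Cneg_2_5025 r (by omega) c1
  by_cases c2 : r < 5159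
  · exact allRange_spec e6Cneg_2_5092 r (by omega) c2
  exact allRange_spec e6Cneg_2_5159 r (by omega) h2

end Cfsg.Agent.Lib.Helper3.ChevM
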