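import Cfsg.Agent.Lib.Helper3.ChevData.E6CnegA
import Cfsg.Agent.Lib.Helper3.ChevData.E6CnegB
import Cfsg.Agent.Lib.Helper3.ChevData.E6CnegC
set_option autoImplicit false

namespace Cfsg.Agent.Lib.Helper3.ChevM
open Cfsg.Agent.Lib.Helper3.StB

/-- The commutator formula of type E6 for opposite roots. -/
theorem e6Cneg : ∀ r < 5184, ((fun k => commNegCheck Cfsg.Lie.chevE6 (k / 72) (k % 72))) r = true := by
  intro r hr
  by_cases h0 : r < 2479
  · exact e6Cneg_0 r (by omega) h0
  by_cases h1 : r < 4958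
  · exact e6Cneg_1 r (by omega) h1
  exact e6Cneg_2 r (by omega) hr

end Cfsg.Agent.Lib.Helper3.ChevM
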