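import Cfsg.Prelude.Def_ChevE6
import Cfsg.Agent.Lib.Helper3.StB5
set_option autoImplicit false
set_option maxRecDepth 1000000
set_option Elab.async false

namespace Cfsg.Agent.Lib.Helper3.ChevM
open Cfsg.Agent.Lib.Helper3.StB

theorem e6Cneg_0_0 : allRange 0 67 ((fun k => commNegCheck Cfsg.Lie.chevE6 (k / 72) (k % 72))) = true := by decide +kernel
theorem e6Cneg_0_67 : allRange 67 134 ((fun k => commNegCheck Cfsg.Lie.chevE6 (k / 72) (k % 72))) = true := by decide +kernel
theorem e6Cneg_0_134 : allRange 134 201 ((fun k => commNegCheck Cfsg.Lie.chevE6 (k / 72) (k % 72))) = true := by decide +kernel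
theorem e6Cneg_0_201 : allRange 201 268 ((fun k => commNegCheck Cfsg.Lie.chevE6 (k / 72) (k % 72))) = true := by decide +kernel
theorem e6Cneg_0_268 : allRange 268 335 ((fun k => commNegCheck Cfsg.Lie.chevE6 (k / 72) (k % 72))) = true := by decide +kernel
theorem e6Cneg_0_335 : allRange 335 402 ((fun k => commNegCheck Cfsg.Lie.chevE6 (k / 72) (k % 72))) = true := by decide +kernel
theorem e6Cneg_0_402 : allRange 402 469 ((fun k => commNegCheck Cfsg.Lie.chevE6 (k / 72) (k % 72))) = true := by decide +kernel
theorem e6Cneg_0_469 : allRange 469 536 ((fun k => commNegCheck Cfsg.Lie.chevE6 (k / 72) (k % 72))) = true := by decide +kernel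
theorem e6Cneg_0_536 : allRange 536 603 ((fun k => commNegCheck Cfsg.Lie.chevE6 (k / 72) (k % 72))) = true := by decide +kernel
theorem e6Cneg_0_603 : allRange 603 670 ((fun k => commNegCheck Cfsg.Lie.chevE6 (k / 72) (k % 72))) = true := by decide +kernel
theorem e6Cneg_0_670 : allRange 670 737 ((fun k => commNegCheck Cfsg.Lie.chevE6 (k / 72) (k % 72))) = true := by decide +kernel
theorem e6Cneg_0_737 : allRange 737 804 ((fun k => commNegCheck Cfsg.Lie.chevE6 (k / 72) (k % 72))) = true := by decide +kernel
theorem e6Cneg_0_804 : allRange 804 871 ((fun k => commNegCheck Cfsg.Lie.chevE6 (k / 72) (k % 72))) = true := by decide +kernel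
theorem e6Cneg_0_871 : allRange 871 938 ((fun k => commNegCheck Cfsg.Lie.chevE6 (k / 72) (k % 72))) = true := by decide +kernel
theorem e6Cneg_0_938 : allRange 938 1005 ((fun k => commNegCheck Cfsg.Lie.chevE6 (k / 72) (k % 72))) = true := by decide +kernel
theorem e6Cneg_0_1005 : allRange 1005 1072 ((fun k => commNegCheck Cfsg.Lie.chevE6 (k / 72) (k % 72))) = true := by decide +kernel
theorem e6Cneg_0_1072 : allRange 1072 1139 ((fun k => commNegCheck Cfsg.Lie.chevE6 (k / 72) (k % 72))) = true := by decide +kernel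
theorem e6Cneg_0_1139 : allRange 1139 1206 ((fun k => commNegCheck Cfsg.Lie.chevE6 (k / 72) (k % 72))) = true := by decide +kernel
theorem e6Cneg_0_1206 : allRange 1206 1273 ((fun k => commNegCheck Cfsg.Lie.chevE6 (k / 72) (k % 72))) = true := by decide +kernel
theorem e6Cneg_0_1273 : allRange 1273 1340 ((fun k => commNegCheck Cfsg.Lie.chevE6 (k / 72) (k % 72))) = true := by decide +kernel
theorem e6Cneg_0_1340 : allRange 1340 1407 ((fun k => commNegCheck Cfsg.Lie.chevE6 (k / 72) (k % 72))) = true := by decide +kernel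
theorem e6Cneg_0_1407 : allRange 1407 1474 ((fun k => commNegCheck Cfsg.Lie.chevE6 (k / 72) (k % 72))) = true := by decide +kernel
theorem e6Cneg_0_1474 : allRange 1474 1541 ((fun k => commNegCheck Cfsg.Lie.chevE6 (k / 72) (k % 72))) = true := by decide +kernel
theorem e6Cneg_0_1541 : allRange 1541 1608 ((fun k => commNegCheck Cfsg.Lie.chevE6 (k / 72) (k % 72))) = true := by decide +kernel
theorem e6Cneg_0_1608 : allRange 1608 1675 ((fun k => commNegCheck Cfsg.Lie.chevE6 (k / 72) (k % 72))) = true := by decide +kernel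
theorem e6Cneg_0_1675 : allRange 1675 1742 ((fun k => commNegCheck Cfsg.Lie.chevE6 (k / 72) (k % 72))) = true := by decide +kernel
theorem e6Cneg_0_1742 : allRange 1742 1809 ((fun k => commNegCheck Cfsg.Lie.chevE6 (k / 72) (k % 72))) = true := by decide +kernel
theorem e6Cneg_0_1809 : allRange 1809 1876 ((fun k => commNegCheck Cfsg.Lie.chevE6 (k / 72) (k % 72))) = true := by decide +kernel
theorem e6Cneg_0_1876 : allRange 1876 1943 ((fun k => commNegCheck Cfsg.Lie.chevE6 (k / 72) (k % 72))) = true := by decide +kernel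
theorem e6Cneg_0_1943 : allRange 1943 2010 ((fun k => commNegCheck Cfsg.Lie.chevE6 (k / 72) (k % 72))) = true := by decide +kernel
theorem e6Cneg_0_2010 : allRange 2010 2077 ((fun k => commNegCheck Cfsg.Lie.chevE6 (k / 72) (k % 72))) = true := by decide +kernel
theorem e6Cneg_0_2077 : allRange 2077 2144 ((fun k => commNegCheck Cfsg.Lie.chevE6 (k / 72) (k % 72))) = true := by decide +kernel
theorem e6Cneg_0_2144 : allRange 2144 2211 ((fun k => commNegCheck Cfsg.Lie.chevE6 (k / 72) (k % 72))) = true := by decide +kernel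
theorem e6Cneg_0_2211 : allRange 2211 2278 ((fun k => commNegCheck Cfsg.Lie.chevE6 (k / 72) (k % 72))) = true := by decide +kernel
theorem e6Cneg_0_2278 : allRange 2278 2345 ((fun k => commNegCheck Cfsg.Lie.chevE6 (k / 72) (k % 72))) = true := by decide +kernel
theorem e6Cneg_0_2345 : allRange 2345 2412 ((fun k => commNegCheck Cfsg.Lie.chevE6 (k / 72) (k % 72))) = true := by decide +kernel
theorem e6Cneg_0_2412 : allRange 2412 2479 ((fun k => commNegCheck Cfsg.Lie.chevE6 (k / 72) (k % 72))) = true := by decide +kernel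

/-- The commutator formula of type E6 for opposite roots (roots 0 to 2478). -/
theorem e6Cneg_0 : ∀ r, 0 ≤ r → r < 2479 → ((fun k => commNegCheck Cfsg.Lie.chevE6 (k / 72) (k % 72))) r = true := by
  intro r h1 h2
  by_cases c0 : r < 67
  · exact allRange_spec e6Cneg_0_0 r (by omega) c0
  by_cases c1 : r < 134
  · exact allRange_spec e6Cneg_0_67 r (by omega) c1
  by_cases c2 : r < 201
  · exact allRange_spec e6Cneg_0_134 r (by omega) c2
  by_cases c3 : r < 268
  · exact allRange_spec e6Cneg_0_201 r (by omega) c3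
  by_cases c4 : r < 335
  · exact allRange_spec e6Cneg_0_268 r (by omega) c4
  by_cases c5 : r < 402
  · exact allRange_spec e6Cneg_0_335 r (by omega) c5
  by_cases c6 : r < 469
  · exact allRange_spec e6Cneg_0_402 r (by omega) c6
  by_cases c7 : r < 536
  · exact allRange_spec e6Cneg_0_469 r (by omega) c7
  by_cases c8 : r < 603
  · exact allRange_spec e6Cneg_0_536 r (by omega) c8
  by_cases c9 : r < 670
  · exact allRange_spec e6Cneg_0_603 r (by omega) c9
  by_cases c10 : r < 737
  · exact allRange_spec e6Cneg_0_670 r (by omega) c10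
  by_cases c11 : r < 804
  · exact allRange_spec e6Cneg_0_737 r (by omega) c11
  by_cases c12 : r < 871
  · exact allRange_spec e6Cneg_0_804 r (by omega) c12
  by_cases c13 : r < 938
  · exact allRange_spec e6Cneg_0_871 r (by omega) c13
  by_cases c14 : r < 1005
  · exact allRange_spec e6Cneg_0_938 r (by omega) c14
  by_cases c15 : r < 1072
  · exact allRange_spec e6Cneg_0_1005 r (by omega) c15
  by_cases c16 : r < 1139
  · exact allRange_spec e6Cneg_0_1072 r (by omega) c16
  by_cases c17 : r < 1206
  · exact allRange_spec e6Cneg_0_1139 r (by omega) c17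
  by_cases c18 : r < 1273
  · exact allRange_spec e6Cneg_0_1206 r (by omega) c18
  by_cases c19 : r < 1340
  · exact allRange_spec e6Cneg_0_1273 r (by omega) c19
  by_cases c20 : r < 1407
  · exact allRange_spec e6Cneg_0_1340 r (by omega) c20
  by_cases c21 : r < 1474
  · exact allRange_spec e6Cneg_0_1407 r (by omega) c21
  by_cases c22 : r < 1541
  · exact allRange_spec e6Cneg_0_1474 r (by omega) c22
  by_cases c23 : r < 1608
  · exact allRange_spec e6Cneg_0_1541 r (by omega) c23
  by_cases c24 : r < 1675
  · exact allRange_spec e6Cneg_0_1608 r (by omega) c24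
  by_cases c25 : r < 1742
  · exact allRange_spec e6Cneg_0_1675 r (by omega) c25
  by_cases c26 : r < 1809
  · exact allRange_spec e6Cneg_0_1742 r (by omega) c26
  by_cases c27 : r < 1876
  · exact allRange_spec e6Cneg_0_1809 r (by omega) c27
  by_cases c28 : r < 1943
  · exact allRange_spec e6Cneg_0_1876 r (by omega) c28
  by_cases c29 : r < 2010
  · exact allRange_spec e6Cneg_0_1943 r (by omega) c29
  by_cases c30 : r < 2077
  · exact allRange_spec e6Cneg_0_2010 r (by omega) c30
  by_cases c31 : r < 2144
  · exact allRange_spec e6Cneg_0_2077 r (by omega) c31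
  by_cases c32 : r < 2211
  · exact allRange_spec e6Cneg_0_2144 r (by omega) c32
  by_cases c33 : r < 2278
  · exact allRange_spec e6Cneg_0_2211 r (by omega) c33
  by_cases c34 : r < 2345
  · exact allRange_spec e6Cneg_0_2278 r (by omega) c34
  by_cases c35 : r < 2412
  · exact allRange_spec e6Cneg_0_2345 r (by omega) c35
  exact allRange_spec e6Cneg_0_2412 r (by omega) h2

end Cfsg.Agent.Lib.Helper3.ChevM
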