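import Cfsg.Agent.Lib.Helper3.ChevM2
set_option autoImplicit false
set_option maxRecDepth 100000

namespace Cfsg.Agent.Lib.Helper3.ChevM

/-- Compiled columns of `x_36` for type E6. -/
def colsE6_36 (c : ℕ) : List CEnt :=
  cond (Nat.blt c 32) (cond (Nat.blt c 9) (cond (Nat.blt c 3) (cond (Nat.blt c 1) (cond (Nat.beq c 0) [⟨42, 0, 1⟩] []) (cond (Nat.blt c 2) (cond (Nat.beq c 1) [⟨42, 0, 1⟩] []) (cond (Nat.beq c 2) [⟨42, 0, 1⟩] []))) (cond (Nat.blt c 4) (cond (Nat.beq c 3) [⟨42, 0, 1⟩] []) (cond (Nat.blt c 5) (cond (Nat.beq c 4) [⟨42, 1, 1⟩] []) (cond (Nat.beq c 5) [⟨42, -2, 1⟩] [])))) (cond (Nat.blt c 17) (cond (Nat.blt c 12) (cond (Nat.beq c 9) [⟨10, -1, 1⟩] []) (cond (Nat.blt c 14) (cond (Nat.beq c 12) [⟨13, -1, 1⟩] []) (cond (Nat.beq c 14) [⟨15, -1, 1⟩] []))) (cond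 (Nat.blt c 25) (cond (Nat.blt c 23) (cond (Nat.beq c 17) [⟨18, -1, 1⟩] []) (cond (Nat.beq c 23) [⟨24, -1, 1⟩] [])) (cond (Nat.blt c 28) (cond (Nat.beq c 25) [⟨26, -1, 1⟩] []) (cond (Nat.beq c 28) [⟨29, -1, 1⟩] []))))) (cond (Nat.blt c 54) (cond (Nat.blt c 41) (cond (Nat.blt c 36) (cond (Nat.beq c 32) [⟨33, -1, 1⟩] []) (cond (Nat.blt c 39) (cond (Nat.beq c 36) [⟨37, -1, 1⟩] []) (cond (Nat.beq c 39) [⟨40, -1, 1⟩] []))) (cond (Nat.blt c 46) (cond (Nat.blt c 43) (cond (Nat.beq c 41) [⟨42, -1, 2⟩, ⟨0, 0, 1⟩, ⟨1, 0, 1⟩, ⟨2, 0, 1⟩, ⟨3, 0, 1⟩, ⟨4, 0, 1⟩, ⟨5, 1, 1⟩] []) (cond (Nat.beq c 43) [⟨44, 1, 1⟩] [])) (cond (Nat.blt c 50) (cond (Nat.beq c 46) [⟨47, 1, 1⟩] []) (cond (Nat.beq c 50) [⟨51, 1, 1⟩] [])))) (cond (Nat.blt c 65) (cond (Nat.blt c 57) (cond (Nat.beq c 54) [⟨55,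 1, 1⟩] []) (cond (Nat.blt c 59) (cond (Nat.beq c 57) [⟨58, 1, 1⟩] []) (cond (Nat.beq c 59) [⟨60, 1, 1⟩] []))) (cond (Nat.blt c 70) (cond (Nat.blt c 68) (cond (Nat.beq c 65) [⟨66, 1, 1⟩] []) (cond (Nat.beq c 68) [⟨69, 1, 1⟩] [])) (cond (Nat.blt c 73) (cond (Nat.beq c 70) [⟨71, 1, 1⟩] []) (cond (Nat.beq c 73) [⟨74, 1, 1⟩] [])))))

/-- Compiled columns of `x_37` for type E6. -/
def colsE6_37 (c : ℕ) : List CEnt :=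
  cond (Nat.blt c 33) (cond (Nat.blt c 8) (cond (Nat.blt c 3) (cond (Nat.blt c 1) (cond (Nat.beq c 0) [⟨43, 0, 1⟩] []) (cond (Nat.blt c 2) (cond (Nat.beq c 1) [⟨43, 0, 1⟩] []) (cond (Nat.beq c 2) [⟨43, 0, 1⟩] []))) (cond (Nat.blt c 4) (cond (Nat.beq c 3) [⟨43, 1, 1⟩] []) (cond (Nat.blt c 5) (cond (Nat.beq c 4) [⟨43, -2, 1⟩] []) (cond (Nat.beq c 5) [⟨43, 1, 1⟩] [])))) (cond (Nat.blt c 18) (cond (Nat.blt c 11) (cond (Nat.beq c 8) [⟨9, -1, 1⟩] []) (cond (Nat.blt c 15) (cond (Nat.beq c 11) [⟨12, -1, 1⟩] []) (cond (Nat.beq c 15) [⟨16, -1, 1⟩] []))) (cond (Nat.blt c 26) (cond (Nat.blt c 22) (cond (Nat.beq c 18) [⟨19, -1, 1⟩] []) (cond (Nat.beq c 22) [⟨23, -1, 1⟩] [])) (cond (Nat.blt c 29) (cond (Nat.beq c 26) [⟨27, -1, 1⟩] []) (cond (Nat.beq c 29) [⟨30, -1, 1⟩] [])))))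 (cond (Nat.blt c 53) (cond (Nat.blt c 40) (cond (Nat.blt c 37) (cond (Nat.beq c 33) [⟨34, -1, 1⟩] []) (cond (Nat.blt c 39) (cond (Nat.beq c 37) [⟨38, -1, 1⟩] []) (cond (Nat.beq c 39) [⟨41, 1, 1⟩] []))) (cond (Nat.blt c 45) (cond (Nat.blt c 42) (cond (Nat.beq c 40) [⟨43, -1, 2⟩, ⟨0, 0, 1⟩, ⟨1, 0, 1⟩, ⟨2, 0, 1⟩, ⟨3, 0, 1⟩, ⟨4, 1, 1⟩, ⟨5, 0, 1⟩] []) (cond (Nat.beq c 42) [⟨44, -1, 1⟩] [])) (cond (Nat.blt c 49) (cond (Nat.beq c 45) [⟨46, 1, 1⟩] []) (cond (Nat.beq c 49) [⟨50, 1, 1⟩] [])))) (cond (Nat.blt c 64) (cond (Nat.blt c 56) (cond (Nat.beq c 53) [⟨54, 1, 1⟩] []) (cond (Nat.blt c 60) (cond (Nat.beq c 56) [⟨57, 1, 1⟩] []) (cond (Nat.beq c 60) [⟨61, 1, 1⟩] []))) (cond (Nat.blt c 71) (cond (Nat.blt c 67) (cond (Nat.beq c 64) [⟨65, 1, 1⟩] []) (cond (Nat.beq c 67) [⟨68,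 1, 1⟩] [])) (cond (Nat.blt c 74) (cond (Nat.beq c 71) [⟨72, 1, 1⟩] []) (cond (Nat.beq c 74) [⟨75, 1, 1⟩] [])))))

/-- Compiled columns of `x_38` for type E6. -/
def colsE6_38 (c : ℕ) : List CEnt :=
  cond (Nat.blt c 32) (cond (Nat.blt c 8) (cond (Nat.blt c 3) (cond (Nat.blt c 1) (cond (Nat.beq c 0) [⟨44, 0, 1⟩] []) (cond (Nat.blt c 2) (cond (Nat.beq c 1) [⟨44, 0, 1⟩] []) (cond (Nat.beq c 2) [⟨44, 0, 1⟩] []))) (cond (Nat.blt c 4) (cond (Nat.beq c 3) [⟨44, 1, 1⟩] []) (cond (Nat.blt c 5) (cond (Nat.beq c 4) [⟨44, -1, 1⟩] []) (cond (Nat.beq c 5) [⟨44, -1, 1⟩] [])))) (cond (Nat.blt c 17) (cond (Nat.blt c 11) (cond (Nat.beq c 8) [⟨10, 1, 1⟩] []) (cond (Nat.blt c 14) (cond (Nat.beq c 11) [⟨13, 1, 1⟩] []) (cond (Nat.beq c 14) [⟨16, -1, 1⟩] []))) (cond (Nat.blt c 25) (cond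 (Nat.blt c 22) (cond (Nat.beq c 17) [⟨19, -1, 1⟩] []) (cond (Nat.beq c 22) [⟨24, 1, 1⟩] [])) (cond (Nat.blt c 28) (cond (Nat.beq c 25) [⟨27, -1, 1⟩] []) (cond (Nat.beq c 28) [⟨30, -1, 1⟩] []))))) (cond (Nat.blt c 53) (cond (Nat.blt c 40) (cond (Nat.blt c 36) (cond (Nat.beq c 32) [⟨34, -1, 1⟩] []) (cond (Nat.blt c 39) (cond (Nat.beq c 36) [⟨38, -1, 1⟩] []) (cond (Nat.beq c 39) [⟨44, -1, 2⟩, ⟨0, 0, 1⟩, ⟨1, 0, 1⟩, ⟨2, 0, 1⟩, ⟨3, 0, 1⟩, ⟨4, 1, 1⟩, ⟨5, 1, 1⟩] []))) (cond (Nat.blt c 45) (cond (Nat.blt c 41) (cond (Nat.beq c 40) [⟨42, 1, 1⟩] []) (cond (Nat.beq c 41) [⟨43, -1, 1⟩] [])) (cond (Nat.blt c 49) (cond (Nat.beq c 45) [⟨47, 1, 1⟩] []) (cond (Nat.beq c 49) [⟨51, 1, 1⟩] [])))) (cond (Nat.blt c 64) (cond (Nat.blt c 56) (cond (Nat.beq c 53) [⟨55, 1, 1⟩] []) (cond (Nat.blt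 c 59) (cond (Nat.beq c 56) [⟨58, 1, 1⟩] []) (cond (Nat.beq c 59) [⟨61, -1, 1⟩] []))) (cond (Nat.blt c 70) (cond (Nat.blt c 67) (cond (Nat.beq c 64) [⟨66, 1, 1⟩] []) (cond (Nat.beq c 67) [⟨69, 1, 1⟩] [])) (cond (Nat.blt c 73) (cond (Nat.beq c 70) [⟨72, -1, 1⟩] []) (cond (Nat.beq c 73) [⟨75, -1, 1⟩] [])))))

/-- Compiled columns of `x_39` for type E6. -/
def colsE6_39 (c : ℕ) : List CEnt :=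
  cond (Nat.blt c 34) (cond (Nat.blt c 7) (cond (Nat.blt c 3) (cond (Nat.blt c 1) (cond (Nat.beq c 0) [⟨45, 0, 1⟩] []) (cond (Nat.blt c 2) (cond (Nat.beq c 1) [⟨45, 1, 1⟩] []) (cond (Nat.beq c 2) [⟨45, 1, 1⟩] []))) (cond (Nat.blt c 4) (cond (Nat.beq c 3) [⟨45, -2, 1⟩] []) (cond (Nat.blt c 5) (cond (Nat.beq c 4) [⟨45, 1, 1⟩] []) (cond (Nat.beq c 5) [⟨45, 0, 1⟩] [])))) (cond (Nat.blt c 19) (cond (Nat.blt c 12) (cond (Nat.beq c 7) [⟨8, -1, 1⟩] []) (cond (Nat.blt c 13) (cond (Nat.beq c 12) [⟨14, -1, 1⟩] []) (cond (Nat.beq c 13) [⟨15, -1, 1⟩] []))) (cond (Nat.blt c 24) (cond (Nat.blt c 23) (cond (Nat.beq c 19) [⟨20, -1, 1⟩] []) (cond (Nat.beq c 23) [⟨25, -1, 1⟩] [])) (cond (Nat.blt c 30) (cond (Nat.beq c 24) [⟨26, -1, 1⟩] []) (cond (Nat.beq c 30) [⟨31, -1, 1⟩] [])))))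 (cond (Nat.blt c 52) (cond (Nat.blt c 38) (cond (Nat.blt c 36) (cond (Nat.beq c 34) [⟨35, -1, 1⟩] []) (cond (Nat.blt c 37) (cond (Nat.beq c 36) [⟨39, 1, 1⟩] []) (cond (Nat.beq c 37) [⟨40, 1, 1⟩] []))) (cond (Nat.blt c 44) (cond (Nat.blt c 43) (cond (Nat.beq c 38) [⟨45, -1, 2⟩, ⟨0, 0, 1⟩, ⟨1, 0, 1⟩, ⟨2, 0, 1⟩, ⟨3, 1, 1⟩, ⟨4, 0, 1⟩, ⟨5, 0, 1⟩] []) (cond (Nat.beq c 43) [⟨46, -1, 1⟩] [])) (cond (Nat.blt c 48) (cond (Nat.beq c 44) [⟨47, -1, 1⟩] []) (cond (Nat.beq c 48) [⟨49, 1, 1⟩] [])))) (cond (Nat.blt c 63) (cond (Nat.blt c 57) (cond (Nat.beq c 52) [⟨53, 1, 1⟩] []) (cond (Nat.blt c 58) (cond (Nat.beq c 57) [⟨59, 1, 1⟩] []) (cond (Nat.beq c 58) [⟨60, 1, 1⟩] []))) (cond (Nat.blt c 69) (cond (Nat.blt c 68) (cond (Nat.beq c 63) [⟨64, 1, 1⟩] []) (cond (Nat.beq c 68) [⟨70,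 1, 1⟩] [])) (cond (Nat.blt c 75) (cond (Nat.beq c 69) [⟨71, 1, 1⟩] []) (cond (Nat.beq c 75) [⟨76, 1, 1⟩] [])))))

/-- Compiled columns of `x_40` for type E6. -/
def colsE6_40 (c : ℕ) : List CEnt :=
  cond (Nat.blt c 33) (cond (Nat.blt c 7) (cond (Nat.blt c 3) (cond (Nat.blt c 1) (cond (Nat.beq c 0) [⟨46, 0, 1⟩] []) (cond (Nat.blt c 2) (cond (Nat.beq c 1) [⟨46, 1, 1⟩] []) (cond (Nat.beq c 2) [⟨46, 1, 1⟩] []))) (cond (Nat.blt c 4) (cond (Nat.beq c 3) [⟨46, -1, 1⟩] []) (cond (Nat.blt c 5) (cond (Nat.beq c 4) [⟨46, -1, 1⟩] []) (cond (Nat.beq c 5) [⟨46, 1, 1⟩] [])))) (cond (Nat.blt c 18) (cond (Nat.blt c 11) (cond (Nat.beq c 7) [⟨9, 1, 1⟩] []) (cond (Nat.blt c 13) (cond (Nat.beq c 11) [⟨14, -1, 1⟩] []) (cond (Nat.beq c 13) [⟨16, 1, 1⟩] []))) (cond (Nat.blt c 24) (cond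 (Nat.blt c 22) (cond (Nat.beq c 18) [⟨20, -1, 1⟩] []) (cond (Nat.beq c 22) [⟨25, -1, 1⟩] [])) (cond (Nat.blt c 29) (cond (Nat.beq c 24) [⟨27, 1, 1⟩] []) (cond (Nat.beq c 29) [⟨31, -1, 1⟩] []))))) (cond (Nat.blt c 52) (cond (Nat.blt c 38) (cond (Nat.blt c 36) (cond (Nat.beq c 33) [⟨35, -1, 1⟩] []) (cond (Nat.blt c 37) (cond (Nat.beq c 36) [⟨41, 1, 1⟩] []) (cond (Nat.beq c 37) [⟨46, -1, 2⟩, ⟨0, 0, 1⟩, ⟨1, 0, 1⟩, ⟨2, 0, 1⟩, ⟨3, 1, 1⟩, ⟨4, 1, 1⟩, ⟨5, 0, 1⟩] []))) (cond (Nat.blt c 42) (cond (Nat.blt c 40) (cond (Nat.beq c 38) [⟨43, 1, 1⟩] []) (cond (Nat.beq c 40) [⟨45, -1, 1⟩] [])) (cond (Nat.blt c 48) (cond (Nat.beq c 42) [⟨47, -1, 1⟩] []) (cond (Nat.beq c 48) [⟨50, 1, 1⟩] [])))) (cond (Nat.blt c 63) (cond (Nat.blt c 56) (cond (Nat.beq c 52) [⟨54, 1, 1⟩] []) (cond (Nat.blt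 c 58) (cond (Nat.beq c 56) [⟨59, -1, 1⟩] []) (cond (Nat.beq c 58) [⟨61, 1, 1⟩] []))) (cond (Nat.blt c 69) (cond (Nat.blt c 67) (cond (Nat.beq c 63) [⟨65, 1, 1⟩] []) (cond (Nat.beq c 67) [⟨70, -1, 1⟩] [])) (cond (Nat.blt c 74) (cond (Nat.beq c 69) [⟨72, 1, 1⟩] []) (cond (Nat.beq c 74) [⟨76, -1, 1⟩] [])))))

/-- Compiled columns of `x_41` for type E6. -/
def colsE6_41 (c : ℕ) : List CEnt :=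
  cond (Nat.blt c 32) (cond (Nat.blt c 7) (cond (Nat.blt c 3) (cond (Nat.blt c 1) (cond (Nat.beq c 0) [⟨47, 0, 1⟩] []) (cond (Nat.blt c 2) (cond (Nat.beq c 1) [⟨47, 1, 1⟩] []) (cond (Nat.beq c 2) [⟨47, 1, 1⟩] []))) (cond (Nat.blt c 4) (cond (Nat.beq c 3) [⟨47, -1, 1⟩] []) (cond (Nat.blt c 5) (cond (Nat.beq c 4) [⟨47, 0, 1⟩] []) (cond (Nat.beq c 5) [⟨47, -1, 1⟩] [])))) (cond (Nat.blt c 17) (cond (Nat.blt c 11) (cond (Nat.beq c 7) [⟨10, -1, 1⟩] []) (cond (Nat.blt c 12) (cond (Nat.beq c 11) [⟨15, 1, 1⟩] []) (cond (Nat.beq c 12) [⟨16, 1, 1⟩] []))) (cond (Nat.blt c 23) (cond (Nat.blt c 22) (cond (Nat.beq c 17) [⟨20, -1, 1⟩] []) (cond (Nat.beq c 22) [⟨26, 1, 1⟩] [])) (cond (Nat.blt c 28) (cond (Nat.beq c 23) [⟨27, 1, 1⟩] []) (cond (Nat.beq c 28) [⟨31, -1, 1⟩] []))))) (cond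 (Nat.blt c 52) (cond (Nat.blt c 38) (cond (Nat.blt c 36) (cond (Nat.beq c 32) [⟨35, -1, 1⟩] []) (cond (Nat.blt c 37) (cond (Nat.beq c 36) [⟨47, -1, 2⟩, ⟨0, 0, 1⟩, ⟨1, 0, 1⟩, ⟨2, 0, 1⟩, ⟨3, 1, 1⟩, ⟨4, 1, 1⟩, ⟨5, 1, 1⟩] []) (cond (Nat.beq c 37) [⟨42, 1, 1⟩] []))) (cond (Nat.blt c 41) (cond (Nat.blt c 39) (cond (Nat.beq c 38) [⟨44, 1, 1⟩] []) (cond (Nat.beq c 39) [⟨45, -1, 1⟩] [])) (cond (Nat.blt c 48) (cond (Nat.beq c 41) [⟨46, -1, 1⟩] []) (cond (Nat.beq c 48) [⟨51, 1, 1⟩] [])))) (cond (Nat.blt c 63) (cond (Nat.blt c 56) (cond (Nat.beq c 52) [⟨55, 1, 1⟩] []) (cond (Nat.blt c 57) (cond (Nat.beq c 56) [⟨60, -1, 1⟩] []) (cond (Nat.beq c 57) [⟨61, -1, 1⟩] []))) (cond (Nat.blt c 68) (cond (Nat.blt c 67) (cond (Nat.beq c 63) [⟨66, 1, 1⟩] []) (cond (Nat.beq c 67) [⟨71, -1,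 1⟩] [])) (cond (Nat.blt c 73) (cond (Nat.beq c 68) [⟨72, -1, 1⟩] []) (cond (Nat.beq c 73) [⟨76, 1, 1⟩] [])))))

/-- Compiled columns of `x_42` for type E6. -/
def colsE6_42 (c : ℕ) : List CEnt :=
  cond (Nat.blt c 32) (cond (Nat.blt c 8) (cond (Nat.blt c 3) (cond (Nat.blt c 1) (cond (Nat.beq c 0) [⟨48, 1, 1⟩] []) (cond (Nat.blt c 2) (cond (Nat.beq c 1) [⟨48, 0, 1⟩] []) (cond (Nat.beq c 2) [⟨48, -2, 1⟩] []))) (cond (Nat.blt c 4) (cond (Nat.beq c 3) [⟨48, 1, 1⟩] []) (cond (Nat.blt c 5) (cond (Nat.beq c 4) [⟨48, 0, 1⟩] []) (cond (Nat.beq c 5) [⟨48, 0, 1⟩] [])))) (cond (Nat.blt c 20) (cond (Nat.blt c 9) (cond (Nat.beq c 8) [⟨11, -1, 1⟩] []) (cond (Nat.blt c 10) (cond (Nat.beq c 9) [⟨12, -1, 1⟩] []) (cond (Nat.beq c 10) [⟨13, -1, 1⟩] []))) (cond (Nat.blt c 26) (cond (Nat.blt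 c 25) (cond (Nat.beq c 20) [⟨21, -1, 1⟩] []) (cond (Nat.beq c 25) [⟨28, -1, 1⟩] [])) (cond (Nat.blt c 27) (cond (Nat.beq c 26) [⟨29, -1, 1⟩] []) (cond (Nat.beq c 27) [⟨30, -1, 1⟩] []))))) (cond (Nat.blt c 53) (cond (Nat.blt c 35) (cond (Nat.blt c 33) (cond (Nat.beq c 32) [⟨36, 1, 1⟩] []) (cond (Nat.blt c 34) (cond (Nat.beq c 33) [⟨37, 1, 1⟩] []) (cond (Nat.beq c 34) [⟨38, 1, 1⟩] []))) (cond (Nat.blt c 46) (cond (Nat.blt c 45) (cond (Nat.beq c 35) [⟨48, -1, 2⟩, ⟨0, 0, 1⟩, ⟨1, 0, 1⟩, ⟨2, 1, 1⟩, ⟨3, 0, 1⟩, ⟨4, 0, 1⟩, ⟨5, 0, 1⟩] []) (cond (Nat.beq c 45) [⟨49, -1, 1⟩] [])) (cond (Nat.blt c 47) (cond (Nat.beq c 46) [⟨50, -1, 1⟩] []) (cond (Nat.beq c 47) [⟨51, -1, 1⟩] [])))) (cond (Nat.blt c 62) (cond (Nat.blt c 54) (cond (Nat.beq c 53) [⟨56, 1, 1⟩] []) (cond (Nat.blt c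 55) (cond (Nat.beq c 54) [⟨57, 1, 1⟩] []) (cond (Nat.beq c 55) [⟨58, 1, 1⟩] []))) (cond (Nat.blt c 71) (cond (Nat.blt c 70) (cond (Nat.beq c 62) [⟨63, 1, 1⟩] []) (cond (Nat.beq c 70) [⟨73, 1, 1⟩] [])) (cond (Nat.blt c 72) (cond (Nat.beq c 71) [⟨74, 1, 1⟩] []) (cond (Nat.beq c 72) [⟨75, 1, 1⟩] [])))))

/-- Compiled columns of `x_43` for type E6. -/
def colsE6_43 (c : ℕ) : List CEnt :=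
  cond (Nat.blt c 32) (cond (Nat.blt c 7) (cond (Nat.blt c 3) (cond (Nat.blt c 1) (cond (Nat.beq c 0) [⟨49, 1, 1⟩] []) (cond (Nat.blt c 2) (cond (Nat.beq c 1) [⟨49, 1, 1⟩] []) (cond (Nat.beq c 2) [⟨49, -1, 1⟩] []))) (cond (Nat.blt c 4) (cond (Nat.beq c 3) [⟨49, -1, 1⟩] []) (cond (Nat.blt c 5) (cond (Nat.beq c 4) [⟨49, 1, 1⟩] []) (cond (Nat.beq c 5) [⟨49, 0, 1⟩] [])))) (cond (Nat.blt c 19) (cond (Nat.blt c 9) (cond (Nat.beq c 7) [⟨11, -1, 1⟩] []) (cond (Nat.blt c 10) (cond (Nat.beq c 9) [⟨14, 1, 1⟩] []) (cond (Nat.beq c 10) [⟨15, 1, 1⟩] []))) (cond (Nat.blt c 24) (cond (Nat.blt c 23) (cond (Nat.beq c 19) [⟨21, -1, 1⟩] []) (cond (Nat.beq c 23) [⟨28, -1, 1⟩] [])) (cond (Nat.blt c 27) (cond (Nat.beq c 24) [⟨29, -1, 1⟩] []) (cond (Nat.beq c 27) [⟨31, 1, 1⟩] []))))) (cond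 (Nat.blt c 52) (cond (Nat.blt c 35) (cond (Nat.blt c 33) (cond (Nat.beq c 32) [⟨39, 1, 1⟩] []) (cond (Nat.blt c 34) (cond (Nat.beq c 33) [⟨40, 1, 1⟩] []) (cond (Nat.beq c 34) [⟨49, -1, 2⟩, ⟨0, 0, 1⟩, ⟨1, 0, 1⟩, ⟨2, 1, 1⟩, ⟨3, 1, 1⟩, ⟨4, 0, 1⟩, ⟨5, 0, 1⟩] []))) (cond (Nat.blt c 43) (cond (Nat.blt c 38) (cond (Nat.beq c 35) [⟨45, 1, 1⟩] []) (cond (Nat.beq c 38) [⟨48, -1, 1⟩] [])) (cond (Nat.blt c 44) (cond (Nat.beq c 43) [⟨50, -1, 1⟩] []) (cond (Nat.beq c 44) [⟨51, -1, 1⟩] [])))) (cond (Nat.blt c 62) (cond (Nat.blt c 54) (cond (Nat.beq c 52) [⟨56, -1, 1⟩] []) (cond (Nat.blt c 55) (cond (Nat.beq c 54) [⟨59, 1, 1⟩] []) (cond (Nat.beq c 55) [⟨60, 1, 1⟩] []))) (cond (Nat.blt c 69) (cond (Nat.blt c 68) (cond (Nat.beq c 62) [⟨64, 1, 1⟩] []) (cond (Nat.beq c 68) [⟨73, -1,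 1⟩] [])) (cond (Nat.blt c 72) (cond (Nat.beq c 69) [⟨74, -1, 1⟩] []) (cond (Nat.beq c 72) [⟨76, 1, 1⟩] [])))))

/-- Compiled columns of `x_44` for type E6. -/
def colsE6_44 (c : ℕ) : List CEnt :=
  cond (Nat.blt c 32) (cond (Nat.blt c 7) (cond (Nat.blt c 3) (cond (Nat.blt c 1) (cond (Nat.beq c 0) [⟨50, 1, 1⟩] []) (cond (Nat.blt c 2) (cond (Nat.beq c 1) [⟨50, 1, 1⟩] []) (cond (Nat.beq c 2) [⟨50, -1, 1⟩] []))) (cond (Nat.blt c 4) (cond (Nat.beq c 3) [⟨50, 0, 1⟩] []) (cond (Nat.blt c 5) (cond (Nat.beq c 4) [⟨50, -1, 1⟩] []) (cond (Nat.beq c 5) [⟨50, 1, 1⟩] [])))) (cond (Nat.blt c 18) (cond (Nat.blt c 8) (cond (Nat.beq c 7) [⟨12, 1, 1⟩] []) (cond (Nat.blt c 10) (cond (Nat.beq c 8) [⟨14, 1, 1⟩] []) (cond (Nat.beq c 10) [⟨16, -1, 1⟩] []))) (cond (Nat.blt c 24) (cond (Nat.blt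 c 22) (cond (Nat.beq c 18) [⟨21, -1, 1⟩] []) (cond (Nat.beq c 22) [⟨28, -1, 1⟩] [])) (cond (Nat.blt c 26) (cond (Nat.beq c 24) [⟨30, 1, 1⟩] []) (cond (Nat.beq c 26) [⟨31, 1, 1⟩] []))))) (cond (Nat.blt c 52) (cond (Nat.blt c 35) (cond (Nat.blt c 33) (cond (Nat.beq c 32) [⟨41, 1, 1⟩] []) (cond (Nat.blt c 34) (cond (Nat.beq c 33) [⟨50, -1, 2⟩, ⟨0, 0, 1⟩, ⟨1, 0, 1⟩, ⟨2, 1, 1⟩, ⟨3, 1, 1⟩, ⟨4, 1, 1⟩, ⟨5, 0, 1⟩] []) (cond (Nat.beq c 34) [⟨43, 1, 1⟩] []))) (cond (Nat.blt c 40) (cond (Nat.blt c 37) (cond (Nat.beq c 35) [⟨46, 1, 1⟩] []) (cond (Nat.beq c 37) [⟨48, -1, 1⟩] [])) (cond (Nat.blt c 42) (cond (Nat.beq c 40) [⟨49, -1, 1⟩] []) (cond (Nat.beq c 42) [⟨51, -1, 1⟩] [])))) (cond (Nat.blt c 62) (cond (Nat.blt c 53) (cond (Nat.beq c 52) [⟨57, -1, 1⟩] []) (cond (Nat.blt c 55)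 (cond (Nat.beq c 53) [⟨59, -1, 1⟩] []) (cond (Nat.beq c 55) [⟨61, 1, 1⟩] []))) (cond (Nat.blt c 69) (cond (Nat.blt c 67) (cond (Nat.beq c 62) [⟨65, 1, 1⟩] []) (cond (Nat.beq c 67) [⟨73, 1, 1⟩] [])) (cond (Nat.blt c 71) (cond (Nat.beq c 69) [⟨75, -1, 1⟩] []) (cond (Nat.beq c 71) [⟨76, -1, 1⟩] [])))))

/-- Compiled columns of `x_45` for type E6. -/
def colsE6_45 (c : ℕ) : List CEnt :=
  cond (Nat.blt c 32) (cond (Nat.blt c 7) (cond (Nat.blt c 3) (cond (Nat.blt c 1) (cond (Nat.beq c 0) [⟨51, 1, 1⟩] []) (cond (Nat.blt c 2) (cond (Nat.beq c 1) [⟨51, 1, 1⟩] []) (cond (Nat.beq c 2) [⟨51, -1, 1⟩] []))) (cond (Nat.blt c 4) (cond (Nat.beq c 3) [⟨51, 0, 1⟩] []) (cond (Nat.blt c 5) (cond (Nat.beq c 4) [⟨51, 0, 1⟩] []) (cond (Nat.beq c 5) [⟨51, -1, 1⟩] [])))) (cond (Nat.blt c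 17) (cond (Nat.blt c 8) (cond (Nat.beq c 7) [⟨13, -1, 1⟩] []) (cond (Nat.blt c 9) (cond (Nat.beq c 8) [⟨15, -1, 1⟩] []) (cond (Nat.beq c 9) [⟨16, -1, 1⟩] []))) (cond (Nat.blt c 23) (cond (Nat.blt c 22) (cond (Nat.beq c 17) [⟨21, -1, 1⟩] []) (cond (Nat.beq c 22) [⟨29, 1, 1⟩] [])) (cond (Nat.blt c 25) (cond (Nat.beq c 23) [⟨30, 1, 1⟩] []) (cond (Nat.beq c 25) [⟨31, 1, 1⟩] []))))) (cond (Nat.blt c 52) (cond (Nat.blt c 35) (cond (Nat.blt c 33) (cond (Nat.beq c 32) [⟨51, -1, 2⟩, ⟨0, 0, 1⟩, ⟨1, 0, 1⟩, ⟨2, 1, 1⟩, ⟨3, 1, 1⟩, ⟨4, 1, 1⟩, ⟨5, 1, 1⟩] []) (cond (Nat.blt c 34) (cond (Nat.beq c 33) [⟨42, 1, 1⟩] []) (cond (Nat.beq c 34) [⟨44, 1, 1⟩] []))) (cond (Nat.blt c 39) (cond (Nat.blt c 36) (cond (Nat.beq c 35) [⟨47, 1, 1⟩] []) (cond (Nat.beq c 36) [⟨48, -1, 1⟩] [])) (cond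 (Nat.blt c 41) (cond (Nat.beq c 39) [⟨49, -1, 1⟩] []) (cond (Nat.beq c 41) [⟨50, -1, 1⟩] [])))) (cond (Nat.blt c 62) (cond (Nat.blt c 53) (cond (Nat.beq c 52) [⟨58, -1, 1⟩] []) (cond (Nat.blt c 54) (cond (Nat.beq c 53) [⟨60, -1, 1⟩] []) (cond (Nat.beq c 54) [⟨61, -1, 1⟩] []))) (cond (Nat.blt c 68) (cond (Nat.blt c 67) (cond (Nat.beq c 62) [⟨66, 1, 1⟩] []) (cond (Nat.beq c 67) [⟨74, 1, 1⟩] [])) (cond (Nat.blt c 70) (cond (Nat.beq c 68) [⟨75, 1, 1⟩] []) (cond (Nat.beq c 70) [⟨76, 1, 1⟩] [])))))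

/-- Compiled columns of `x_46` for type E6. -/
def colsE6_46 (c : ℕ) : List CEnt :=
  cond (Nat.blt c 28) (cond (Nat.blt c 6) (cond (Nat.blt c 3) (cond (Nat.blt c 1) (cond (Nat.beq c 0) [⟨52, 0, 1⟩] []) (cond (Nat.blt c 2) (cond (Nat.beq c 1) [⟨52, -2, 1⟩] []) (cond (Nat.beq c 2) [⟨52, 0, 1⟩] []))) (cond (Nat.blt c 4) (cond (Nat.beq c 3) [⟨52, 1, 1⟩] []) (cond (Nat.blt c 5) (cond (Nat.beq c 4) [⟨52, 0, 1⟩] []) (cond (Nat.beq c 5) [⟨52, 0, 1⟩] [])))) (cond (Nat.blt c 16) (cond (Nat.blt c 14) (cond (Nat.beq c 6) [⟨7, -1, 1⟩] []) (cond (Nat.blt c 15) (cond (Nat.beq c 14) [⟨17, -1, 1⟩] []) (cond (Nat.beq c 15) [⟨18, -1, 1⟩] []))) (cond (Nat.blt c 26) (cond (Nat.blt c 25) (cond (Nat.beq c 16) [⟨19, -1, 1⟩] []) (cond (Nat.beq c 25) [⟨32, -1, 1⟩] [])) (cond (Nat.blt c 27)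 (cond (Nat.beq c 26) [⟨33, -1, 1⟩] []) (cond (Nat.beq c 27) [⟨34, -1, 1⟩] []))))) (cond (Nat.blt c 49) (cond (Nat.blt c 31) (cond (Nat.blt c 29) (cond (Nat.beq c 28) [⟨36, 1, 1⟩] []) (cond (Nat.blt c 30) (cond (Nat.beq c 29) [⟨37, 1, 1⟩] []) (cond (Nat.beq c 30) [⟨38, 1, 1⟩] []))) (cond (Nat.blt c 46) (cond (Nat.blt c 45) (cond (Nat.beq c 31) [⟨52, -1, 2⟩, ⟨0, 0, 1⟩, ⟨1, 1, 1⟩, ⟨2, 0, 1⟩, ⟨3, 0, 1⟩, ⟨4, 0, 1⟩, ⟨5, 0, 1⟩] []) (cond (Nat.beq c 45) [⟨53, -1, 1⟩] [])) (cond (Nat.blt c 47) (cond (Nat.beq c 46) [⟨54, -1, 1⟩] []) (cond (Nat.beq c 47) [⟨55, -1, 1⟩] [])))) (cond (Nat.blt c 64) (cond (Nat.blt c 50) (cond (Nat.beq c 49) [⟨56, 1, 1⟩] []) (cond (Nat.blt c 51) (cond (Nat.beq c 50) [⟨57, 1, 1⟩] []) (cond (Nat.beq c 51) [⟨58, 1, 1⟩] []))) (cond (Nat.blt c 66) (cond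 (Nat.blt c 65) (cond (Nat.beq c 64) [⟨67, 1, 1⟩] []) (cond (Nat.beq c 65) [⟨68, 1, 1⟩] [])) (cond (Nat.blt c 76) (cond (Nat.beq c 66) [⟨69, 1, 1⟩] []) (cond (Nat.beq c 76) [⟨77, 1, 1⟩] [])))))

/-- Compiled columns of `x_47` for type E6. -/
def colsE6_47 (c : ℕ) : List CEnt :=
  cond (Nat.blt c 28) (cond (Nat.blt c 6) (cond (Nat.blt c 3) (cond (Nat.blt c 1) (cond (Nat.beq c 0) [⟨53, 0, 1⟩] []) (cond (Nat.blt c 2) (cond (Nat.beq c 1) [⟨53, -1, 1⟩] []) (cond (Nat.beq c 2) [⟨53, 1, 1⟩] []))) (cond (Nat.blt c 4) (cond (Nat.beq c 3) [⟨53, -1, 1⟩] []) (cond (Nat.blt c 5) (cond (Nat.beq c 4) [⟨53, 1, 1⟩] []) (cond (Nat.beq c 5) [⟨53, 0, 1⟩] [])))) (cond (Nat.blt c 16) (cond (Nat.blt c 12) (cond (Nat.beq c 6) [⟨8, 1, 1⟩] []) (cond (Nat.blt c 13) (cond (Nat.beq c 12) [⟨17,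 -1, 1⟩] []) (cond (Nat.beq c 13) [⟨18, -1, 1⟩] []))) (cond (Nat.blt c 24) (cond (Nat.blt c 23) (cond (Nat.beq c 16) [⟨20, 1, 1⟩] []) (cond (Nat.beq c 23) [⟨32, -1, 1⟩] [])) (cond (Nat.blt c 27) (cond (Nat.beq c 24) [⟨33, -1, 1⟩] []) (cond (Nat.beq c 27) [⟨35, 1, 1⟩] []))))) (cond (Nat.blt c 48) (cond (Nat.blt c 31) (cond (Nat.blt c 29) (cond (Nat.beq c 28) [⟨39, 1, 1⟩] []) (cond (Nat.blt c 30) (cond (Nat.beq c 29) [⟨40, 1, 1⟩] []) (cond (Nat.beq c 30) [⟨53, -1, 2⟩, ⟨0, 0, 1⟩, ⟨1, 1, 1⟩, ⟨2, 0, 1⟩, ⟨3, 1, 1⟩, ⟨4, 0, 1⟩, ⟨5, 0, 1⟩] []))) (cond (Nat.blt c 43) (cond (Nat.blt c 38) (cond (Nat.beq c 31) [⟨45, 1, 1⟩] []) (cond (Nat.beq c 38) [⟨52, -1, 1⟩] [])) (cond (Nat.blt c 44) (cond (Nat.beq c 43) [⟨54, -1, 1⟩] []) (cond (Nat.beq c 44) [⟨55, -1, 1⟩] [])))) (cond (Nat.blt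 c 63) (cond (Nat.blt c 50) (cond (Nat.beq c 48) [⟨56, -1, 1⟩] []) (cond (Nat.blt c 51) (cond (Nat.beq c 50) [⟨59, 1, 1⟩] []) (cond (Nat.beq c 51) [⟨60, 1, 1⟩] []))) (cond (Nat.blt c 66) (cond (Nat.blt c 65) (cond (Nat.beq c 63) [⟨67, -1, 1⟩] []) (cond (Nat.beq c 65) [⟨70, 1, 1⟩] [])) (cond (Nat.blt c 75) (cond (Nat.beq c 66) [⟨71, 1, 1⟩] []) (cond (Nat.beq c 75) [⟨77, -1, 1⟩] [])))))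

/-- Compiled columns of `x_48` for type E6. -/
def colsE6_48 (c : ℕ) : List CEnt :=
  cond (Nat.blt c 28) (cond (Nat.blt c 6) (cond (Nat.blt c 3) (cond (Nat.blt c 1) (cond (Nat.beq c 0) [⟨54, 0, 1⟩] []) (cond (Nat.blt c 2) (cond (Nat.beq c 1) [⟨54, -1, 1⟩] []) (cond (Nat.beq c 2) [⟨54, 1, 1⟩] []))) (cond (Nat.blt c 4) (cond (Nat.beq c 3) [⟨54, 0, 1⟩] []) (cond (Nat.blt c 5) (cond (Nat.beq c 4) [⟨54, -1, 1⟩] []) (cond (Nat.beq c 5) [⟨54, 1, 1⟩] [])))) (cond (Nat.blt c 15) (cond (Nat.blt c 11) (cond (Nat.beq c 6) [⟨9, -1, 1⟩] []) (cond (Nat.blt c 13) (cond (Nat.beq c 11) [⟨17, -1, 1⟩] []) (cond (Nat.beq c 13) [⟨19, 1, 1⟩] []))) (cond (Nat.blt c 24) (cond (Nat.blt c 22) (cond (Nat.beq c 15) [⟨20, 1, 1⟩] []) (cond (Nat.beq c 22) [⟨32, -1, 1⟩] [])) (cond (Nat.blt c 26)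 (cond (Nat.beq c 24) [⟨34, 1, 1⟩] []) (cond (Nat.beq c 26) [⟨35, 1, 1⟩] []))))) (cond (Nat.blt c 48) (cond (Nat.blt c 31) (cond (Nat.blt c 29) (cond (Nat.beq c 28) [⟨41, 1, 1⟩] []) (cond (Nat.blt c 30) (cond (Nat.beq c 29) [⟨54, -1, 2⟩, ⟨0, 0, 1⟩, ⟨1, 1, 1⟩, ⟨2, 0, 1⟩, ⟨3, 1, 1⟩, ⟨4, 1, 1⟩, ⟨5, 0, 1⟩] []) (cond (Nat.beq c 30) [⟨43, 1, 1⟩] []))) (cond (Nat.blt c 40) (cond (Nat.blt c 37) (cond (Nat.beq c 31) [⟨46, 1, 1⟩] []) (cond (Nat.beq c 37) [⟨52, -1, 1⟩] [])) (cond (Nat.blt c 42) (cond (Nat.beq c 40) [⟨53, -1, 1⟩] []) (cond (Nat.beq c 42) [⟨55, -1, 1⟩] [])))) (cond (Nat.blt c 63) (cond (Nat.blt c 49) (cond (Nat.beq c 48) [⟨57, -1, 1⟩] []) (cond (Nat.blt c 51) (cond (Nat.beq c 49) [⟨59, -1, 1⟩] []) (cond (Nat.beq c 51) [⟨61, 1, 1⟩] []))) (cond (Nat.blt c 66) (cond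 (Nat.blt c 64) (cond (Nat.beq c 63) [⟨68, -1, 1⟩] []) (cond (Nat.beq c 64) [⟨70, -1, 1⟩] [])) (cond (Nat.blt c 74) (cond (Nat.beq c 66) [⟨72, 1, 1⟩] []) (cond (Nat.beq c 74) [⟨77, 1, 1⟩] [])))))

/-- Compiled columns of `x_49` for type E6. -/
def colsE6_49 (c : ℕ) : List CEnt :=
  cond (Nat.blt c 28) (cond (Nat.blt c 6) (cond (Nat.blt c 3) (cond (Nat.blt c 1) (cond (Nat.beq c 0) [⟨55, 0, 1⟩] []) (cond (Nat.blt c 2) (cond (Nat.beq c 1) [⟨55, -1, 1⟩] []) (cond (Nat.beq c 2) [⟨55, 1, 1⟩] []))) (cond (Nat.blt c 4) (cond (Nat.beq c 3) [⟨55, 0, 1⟩] []) (cond (Nat.blt c 5) (cond (Nat.beq c 4) [⟨55, 0, 1⟩] []) (cond (Nat.beq c 5) [⟨55, -1, 1⟩] [])))) (cond (Nat.blt c 14) (cond (Nat.blt c 11) (cond (Nat.beq c 6) [⟨10, 1, 1⟩] []) (cond (Nat.blt c 12) (cond (Nat.beq c 11) [⟨18,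 1, 1⟩] []) (cond (Nat.beq c 12) [⟨19, 1, 1⟩] []))) (cond (Nat.blt c 23) (cond (Nat.blt c 22) (cond (Nat.beq c 14) [⟨20, 1, 1⟩] []) (cond (Nat.beq c 22) [⟨33, 1, 1⟩] [])) (cond (Nat.blt c 25) (cond (Nat.beq c 23) [⟨34, 1, 1⟩] []) (cond (Nat.beq c 25) [⟨35, 1, 1⟩] []))))) (cond (Nat.blt c 48) (cond (Nat.blt c 31) (cond (Nat.blt c 29) (cond (Nat.beq c 28) [⟨55, -1, 2⟩, ⟨0, 0, 1⟩, ⟨1, 1, 1⟩, ⟨2, 0, 1⟩, ⟨3, 1, 1⟩, ⟨4, 1, 1⟩, ⟨5, 1, 1⟩] []) (cond (Nat.blt c 30) (cond (Nat.beq c 29) [⟨42, 1, 1⟩] []) (cond (Nat.beq c 30) [⟨44, 1, 1⟩] []))) (cond (Nat.blt c 39) (cond (Nat.blt c 36) (cond (Nat.beq c 31) [⟨47, 1, 1⟩] []) (cond (Nat.beq c 36) [⟨52, -1, 1⟩] [])) (cond (Nat.blt c 41) (cond (Nat.beq c 39) [⟨53, -1, 1⟩] []) (cond (Nat.beq c 41) [⟨54, -1, 1⟩] [])))) (cond (Nat.blt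 c 63) (cond (Nat.blt c 49) (cond (Nat.beq c 48) [⟨58, -1, 1⟩] []) (cond (Nat.blt c 50) (cond (Nat.beq c 49) [⟨60, -1, 1⟩] []) (cond (Nat.beq c 50) [⟨61, -1, 1⟩] []))) (cond (Nat.blt c 65) (cond (Nat.blt c 64) (cond (Nat.beq c 63) [⟨69, -1, 1⟩] []) (cond (Nat.beq c 64) [⟨71, -1, 1⟩] [])) (cond (Nat.blt c 73) (cond (Nat.beq c 65) [⟨72, -1, 1⟩] []) (cond (Nat.beq c 73) [⟨77, -1, 1⟩] [])))))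

/-- Compiled columns of `x_50` for type E6. -/
def colsE6_50 (c : ℕ) : List CEnt :=
  cond (Nat.blt c 26) (cond (Nat.blt c 6) (cond (Nat.blt c 3) (cond (Nat.blt c 1) (cond (Nat.beq c 0) [⟨56, 1, 1⟩] []) (cond (Nat.blt c 2) (cond (Nat.beq c 1) [⟨56, -1, 1⟩] []) (cond (Nat.beq c 2) [⟨56, -1, 1⟩] []))) (cond (Nat.blt c 4) (cond (Nat.beq c 3) [⟨56, 0, 1⟩] []) (cond (Nat.blt c 5) (cond (Nat.beq c 4) [⟨56, 1, 1⟩] []) (cond (Nat.beq c 5) [⟨56, 0, 1⟩] [])))) (cond (Nat.blt c 16) (cond (Nat.blt c 9) (cond (Nat.beq c 6) [⟨11, -1, 1⟩] []) (cond (Nat.blt c 10) (cond (Nat.beq c 9) [⟨17, -1, 1⟩] []) (cond (Nat.beq c 10) [⟨18, -1, 1⟩] []))) (cond (Nat.blt c 24) (cond (Nat.blt c 23) (cond (Nat.beq c 16) [⟨21, -1, 1⟩] []) (cond (Nat.beq c 23) [⟨36, -1, 1⟩] [])) (cond (Nat.blt c 25)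 (cond (Nat.beq c 24) [⟨37, -1, 1⟩] []) (cond (Nat.beq c 25) [⟨39, 1, 1⟩] []))))) (cond (Nat.blt c 44) (cond (Nat.blt c 31) (cond (Nat.blt c 27) (cond (Nat.beq c 26) [⟨40, 1, 1⟩] []) (cond (Nat.blt c 30) (cond (Nat.beq c 27) [⟨56, -1, 2⟩, ⟨0, 0, 1⟩, ⟨1, 1, 1⟩, ⟨2, 1, 1⟩, ⟨3, 1, 1⟩, ⟨4, 0, 1⟩, ⟨5, 0, 1⟩] []) (cond (Nat.beq c 30) [⟨48, 1, 1⟩] []))) (cond (Nat.blt c 35) (cond (Nat.blt c 34) (cond (Nat.beq c 31) [⟨49, -1, 1⟩] []) (cond (Nat.beq c 34) [⟨52, 1, 1⟩] [])) (cond (Nat.blt c 43) (cond (Nat.beq c 35) [⟨53, -1, 1⟩] []) (cond (Nat.beq c 43) [⟨57, -1, 1⟩] [])))) (cond (Nat.blt c 62) (cond (Nat.blt c 46) (cond (Nat.beq c 44) [⟨58, -1, 1⟩] []) (cond (Nat.blt c 47) (cond (Nat.beq c 46) [⟨59, 1, 1⟩] []) (cond (Nat.beq c 47) [⟨60, 1, 1⟩] []))) (cond (Nat.blt c 66) (cond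 (Nat.blt c 65) (cond (Nat.beq c 62) [⟨67, 1, 1⟩] []) (cond (Nat.beq c 65) [⟨73, 1, 1⟩] [])) (cond (Nat.blt c 72) (cond (Nat.beq c 66) [⟨74, 1, 1⟩] []) (cond (Nat.beq c 72) [⟨77, 1, 1⟩] [])))))

/-- Compiled columns of `x_51` for type E6. -/
def colsE6_51 (c : ℕ) : List CEnt :=
  cond (Nat.blt c 26) (cond (Nat.blt c 6) (cond (Nat.blt c 3) (cond (Nat.blt c 1) (cond (Nat.beq c 0) [⟨57, 1, 1⟩] []) (cond (Nat.blt c 2) (cond (Nat.beq c 1) [⟨57, -1, 1⟩] []) (cond (Nat.beq c 2) [⟨57, -1, 1⟩] []))) (cond (Nat.blt c 4) (cond (Nat.beq c 3) [⟨57, 1, 1⟩] []) (cond (Nat.blt c 5) (cond (Nat.beq c 4) [⟨57, -1, 1⟩] []) (cond (Nat.beq c 5) [⟨57, 1, 1⟩] [])))) (cond (Nat.blt c 15) (cond (Nat.blt c 8) (cond (Nat.beq c 6) [⟨12, 1, 1⟩] []) (cond (Nat.blt c 10) (cond (Nat.beq c 8) [⟨17,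 -1, 1⟩] []) (cond (Nat.beq c 10) [⟨19, 1, 1⟩] []))) (cond (Nat.blt c 24) (cond (Nat.blt c 22) (cond (Nat.beq c 15) [⟨21, -1, 1⟩] []) (cond (Nat.beq c 22) [⟨36, -1, 1⟩] [])) (cond (Nat.blt c 25) (cond (Nat.beq c 24) [⟨38, 1, 1⟩] []) (cond (Nat.beq c 25) [⟨41, 1, 1⟩] []))))) (cond (Nat.blt c 42) (cond (Nat.blt c 31) (cond (Nat.blt c 27) (cond (Nat.beq c 26) [⟨57, -1, 2⟩, ⟨0, 0, 1⟩, ⟨1, 1, 1⟩, ⟨2, 1, 1⟩, ⟨3, 1, 1⟩, ⟨4, 1, 1⟩, ⟨5, 0, 1⟩] []) (cond (Nat.blt c 29) (cond (Nat.beq c 27) [⟨43, 1, 1⟩] []) (cond (Nat.beq c 29) [⟨48, 1, 1⟩] []))) (cond (Nat.blt c 35) (cond (Nat.blt c 33) (cond (Nat.beq c 31) [⟨50, -1, 1⟩] []) (cond (Nat.beq c 33) [⟨52, 1, 1⟩] [])) (cond (Nat.blt c 40) (cond (Nat.beq c 35) [⟨54, -1, 1⟩] []) (cond (Nat.beq c 40) [⟨56, -1, 1⟩] [])))) (cond (Nat.blt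 c 62) (cond (Nat.blt c 45) (cond (Nat.beq c 42) [⟨58, -1, 1⟩] []) (cond (Nat.blt c 47) (cond (Nat.beq c 45) [⟨59, -1, 1⟩] []) (cond (Nat.beq c 47) [⟨61, 1, 1⟩] []))) (cond (Nat.blt c 66) (cond (Nat.blt c 64) (cond (Nat.beq c 62) [⟨68, 1, 1⟩] []) (cond (Nat.beq c 64) [⟨73, -1, 1⟩] [])) (cond (Nat.blt c 71) (cond (Nat.beq c 66) [⟨75, 1, 1⟩] []) (cond (Nat.beq c 71) [⟨77, -1, 1⟩] [])))))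

/-- Compiled columns of `x_52` for type E6. -/
def colsE6_52 (c : ℕ) : List CEnt :=
  cond (Nat.blt c 26) (cond (Nat.blt c 6) (cond (Nat.blt c 3) (cond (Nat.blt c 1) (cond (Nat.beq c 0) [⟨58, 1, 1⟩] []) (cond (Nat.blt c 2) (cond (Nat.beq c 1) [⟨58, -1, 1⟩] []) (cond (Nat.beq c 2) [⟨58, -1, 1⟩] []))) (cond (Nat.blt c 4) (cond (Nat.beq c 3) [⟨58, 1, 1⟩] []) (cond (Nat.blt c 5) (cond (Nat.beq c 4) [⟨58, 0, 1⟩] []) (cond (Nat.beq c 5) [⟨58, -1, 1⟩] [])))) (cond (Nat.blt c 14) (cond (Nat.blt c 8) (cond (Nat.beq c 6) [⟨13, -1, 1⟩] []) (cond (Nat.blt c 9) (cond (Nat.beq c 8) [⟨18, 1, 1⟩] []) (cond (Nat.beq c 9) [⟨19, 1, 1⟩] []))) (cond (Nat.blt c 23) (cond (Nat.blt c 22) (cond (Nat.beq c 14) [⟨21, -1, 1⟩] []) (cond (Nat.beq c 22) [⟨37, 1, 1⟩] [])) (cond (Nat.blt c 25) (cond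 (Nat.beq c 23) [⟨38, 1, 1⟩] []) (cond (Nat.beq c 25) [⟨58, -1, 2⟩, ⟨0, 0, 1⟩, ⟨1, 1, 1⟩, ⟨2, 1, 1⟩, ⟨3, 1, 1⟩, ⟨4, 1, 1⟩, ⟨5, 1, 1⟩] []))))) (cond (Nat.blt c 41) (cond (Nat.blt c 31) (cond (Nat.blt c 27) (cond (Nat.beq c 26) [⟨42, 1, 1⟩] []) (cond (Nat.blt c 28) (cond (Nat.beq c 27) [⟨44, 1, 1⟩] []) (cond (Nat.beq c 28) [⟨48, 1, 1⟩] []))) (cond (Nat.blt c 35) (cond (Nat.blt c 32) (cond (Nat.beq c 31) [⟨51, -1, 1⟩] []) (cond (Nat.beq c 32) [⟨52, 1, 1⟩] [])) (cond (Nat.blt c 39) (cond (Nat.beq c 35) [⟨55, -1, 1⟩] []) (cond (Nat.beq c 39) [⟨56, -1, 1⟩] [])))) (cond (Nat.blt c 62) (cond (Nat.blt c 45) (cond (Nat.beq c 41) [⟨57, -1, 1⟩] []) (cond (Nat.blt c 46) (cond (Nat.beq c 45) [⟨60, -1, 1⟩] []) (cond (Nat.beq c 46) [⟨61, -1, 1⟩] []))) (cond (Nat.blt c 65) (cond (Nat.blt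 c 64) (cond (Nat.beq c 62) [⟨69, 1, 1⟩] []) (cond (Nat.beq c 64) [⟨74, -1, 1⟩] [])) (cond (Nat.blt c 70) (cond (Nat.beq c 65) [⟨75, -1, 1⟩] []) (cond (Nat.beq c 70) [⟨77, 1, 1⟩] [])))))

/-- Compiled columns of `x_53` for type E6. -/
def colsE6_53 (c : ℕ) : List CEnt :=
  cond (Nat.blt c 26) (cond (Nat.blt c 6) (cond (Nat.blt c 3) (cond (Nat.blt c 1) (cond (Nat.beq c 0) [⟨59, 1, 1⟩] []) (cond (Nat.blt c 2) (cond (Nat.beq c 1) [⟨59, 0, 1⟩] []) (cond (Nat.beq c 2) [⟨59, 0, 1⟩] []))) (cond (Nat.blt c 4) (cond (Nat.beq c 3) [⟨59, -1, 1⟩] []) (cond (Nat.blt c 5) (cond (Nat.beq c 4) [⟨59, 0, 1⟩] []) (cond (Nat.beq c 5) [⟨59, 1, 1⟩] [])))) (cond (Nat.blt c 13) (cond (Nat.blt c 7) (cond (Nat.beq c 6) [⟨14, -1, 1⟩] []) (cond (Nat.blt c 10) (cond (Nat.beq c 7) [⟨17, -1, 1⟩]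 []) (cond (Nat.beq c 10) [⟨20, -1, 1⟩] []))) (cond (Nat.blt c 23) (cond (Nat.blt c 22) (cond (Nat.beq c 13) [⟨21, -1, 1⟩] []) (cond (Nat.beq c 22) [⟨39, -1, 1⟩] [])) (cond (Nat.blt c 24) (cond (Nat.beq c 23) [⟨41, 1, 1⟩] []) (cond (Nat.beq c 24) [⟨59, -1, 2⟩, ⟨0, 0, 1⟩, ⟨1, 1, 1⟩, ⟨2, 1, 1⟩, ⟨3, 2, 1⟩, ⟨4, 1, 1⟩, ⟨5, 0, 1⟩] []))))) (cond (Nat.blt c 38) (cond (Nat.blt c 30) (cond (Nat.blt c 27) (cond (Nat.beq c 26) [⟨45, 1, 1⟩] []) (cond (Nat.blt c 29) (cond (Nat.beq c 27) [⟨46, -1, 1⟩] []) (cond (Nat.beq c 29) [⟨49, 1, 1⟩] []))) (cond (Nat.blt c 34) (cond (Nat.blt c 33) (cond (Nat.beq c 30) [⟨50, -1, 1⟩] []) (cond (Nat.beq c 33) [⟨53, 1, 1⟩] [])) (cond (Nat.blt c 37) (cond (Nat.beq c 34) [⟨54, -1, 1⟩] []) (cond (Nat.beq c 37) [⟨56, 1, 1⟩] [])))) (cond (Nat.blt c 62)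 (cond (Nat.blt c 42) (cond (Nat.beq c 38) [⟨57, -1, 1⟩] []) (cond (Nat.blt c 44) (cond (Nat.beq c 42) [⟨60, -1, 1⟩] []) (cond (Nat.beq c 44) [⟨61, 1, 1⟩] []))) (cond (Nat.blt c 66) (cond (Nat.blt c 63) (cond (Nat.beq c 62) [⟨70, 1, 1⟩] []) (cond (Nat.beq c 63) [⟨73, 1, 1⟩] [])) (cond (Nat.blt c 69) (cond (Nat.beq c 66) [⟨76, 1, 1⟩] []) (cond (Nat.beq c 69) [⟨77, 1, 1⟩] [])))))

/-- Compiled columns of `x_54` for type E6. -/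
def colsE6_54 (c : ℕ) : List CEnt :=
  cond (Nat.blt c 25) (cond (Nat.blt c 6) (cond (Nat.blt c 3) (cond (Nat.blt c 1) (cond (Nat.beq c 0) [⟨60, 1, 1⟩] []) (cond (Nat.blt c 2) (cond (Nat.beq c 1) [⟨60, 0, 1⟩] []) (cond (Nat.beq c 2) [⟨60, 0, 1⟩] []))) (cond (Nat.blt c 4) (cond (Nat.beq c 3) [⟨60, -1, 1⟩] []) (cond (Nat.blt c 5) (cond (Nat.beq c 4) [⟨60, 1, 1⟩] []) (cond (Nat.beq c 5) [⟨60, -1, 1⟩] [])))) (cond (Nat.blt c 12) (cond (Nat.blt c 7) (cond (Nat.beq c 6) [⟨15, 1, 1⟩] []) (cond (Nat.blt c 9) (cond (Nat.beq c 7) [⟨18, 1, 1⟩] []) (cond (Nat.beq c 9) [⟨20, -1, 1⟩] []))) (cond (Nat.blt c 23) (cond (Nat.blt c 22) (cond (Nat.beq c 12) [⟨21, -1, 1⟩] []) (cond (Nat.beq c 22) [⟨40, 1, 1⟩] [])) (cond (Nat.blt c 24) (cond (Nat.beq c 23) [⟨60, -1, 2⟩, ⟨0, 0, 1⟩, ⟨1,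 1, 1⟩, ⟨2, 1, 1⟩, ⟨3, 2, 1⟩, ⟨4, 1, 1⟩, ⟨5, 1, 1⟩] []) (cond (Nat.beq c 24) [⟨42, 1, 1⟩] []))))) (cond (Nat.blt c 38) (cond (Nat.blt c 30) (cond (Nat.blt c 27) (cond (Nat.beq c 25) [⟨45, 1, 1⟩] []) (cond (Nat.blt c 28) (cond (Nat.beq c 27) [⟨47, -1, 1⟩] []) (cond (Nat.beq c 28) [⟨49, 1, 1⟩] []))) (cond (Nat.blt c 34) (cond (Nat.blt c 32) (cond (Nat.beq c 30) [⟨51, -1, 1⟩] []) (cond (Nat.beq c 32) [⟨53, 1, 1⟩] [])) (cond (Nat.blt c 36) (cond (Nat.beq c 34) [⟨55, -1, 1⟩] []) (cond (Nat.beq c 36) [⟨56, 1, 1⟩] [])))) (cond (Nat.blt c 62) (cond (Nat.blt c 41) (cond (Nat.beq c 38) [⟨58, -1, 1⟩] []) (cond (Nat.blt c 43) (cond (Nat.beq c 41) [⟨59, -1, 1⟩] []) (cond (Nat.beq c 43) [⟨61, -1, 1⟩] []))) (cond (Nat.blt c 65) (cond (Nat.blt c 63) (cond (Nat.beq c 62) [⟨71, 1, 1⟩]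 []) (cond (Nat.beq c 63) [⟨74, 1, 1⟩] [])) (cond (Nat.blt c 68) (cond (Nat.beq c 65) [⟨76, -1, 1⟩] []) (cond (Nat.beq c 68) [⟨77, -1, 1⟩] [])))))

/-- Compiled columns of `x_55` for type E6. -/
def colsE6_55 (c : ℕ) : List CEnt :=
  cond (Nat.blt c 25) (cond (Nat.blt c 6) (cond (Nat.blt c 3) (cond (Nat.blt c 1) (cond (Nat.beq c 0) [⟨61, 1, 1⟩] []) (cond (Nat.blt c 2) (cond (Nat.beq c 1) [⟨61, 0, 1⟩] []) (cond (Nat.beq c 2) [⟨61, 0, 1⟩] []))) (cond (Nat.blt c 4) (cond (Nat.beq c 3) [⟨61, 0, 1⟩] []) (cond (Nat.blt c 5) (cond (Nat.beq c 4) [⟨61, -1, 1⟩] []) (cond (Nat.beq c 5) [⟨61, 0, 1⟩] [])))) (cond (Nat.blt c 11) (cond (Nat.blt c 7) (cond (Nat.beq c 6) [⟨16, -1, 1⟩] []) (cond (Nat.blt c 8) (cond (Nat.beq c 7) [⟨19, -1, 1⟩] []) (cond (Nat.beq c 8) [⟨20, -1, 1⟩] [])))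 (cond (Nat.blt c 23) (cond (Nat.blt c 22) (cond (Nat.beq c 11) [⟨21, -1, 1⟩] []) (cond (Nat.beq c 22) [⟨61, -1, 2⟩, ⟨0, 0, 1⟩, ⟨1, 1, 1⟩, ⟨2, 1, 1⟩, ⟨3, 2, 1⟩, ⟨4, 2, 1⟩, ⟨5, 1, 1⟩] [])) (cond (Nat.blt c 24) (cond (Nat.beq c 23) [⟨43, 1, 1⟩] []) (cond (Nat.beq c 24) [⟨44, -1, 1⟩] []))))) (cond (Nat.blt c 37) (cond (Nat.blt c 29) (cond (Nat.blt c 26) (cond (Nat.beq c 25) [⟨46, 1, 1⟩] []) (cond (Nat.blt c 28) (cond (Nat.beq c 26) [⟨47, -1, 1⟩] []) (cond (Nat.beq c 28) [⟨50, 1, 1⟩] []))) (cond (Nat.blt c 33) (cond (Nat.blt c 32) (cond (Nat.beq c 29) [⟨51, -1, 1⟩] []) (cond (Nat.beq c 32) [⟨54, 1, 1⟩] [])) (cond (Nat.blt c 36) (cond (Nat.beq c 33) [⟨55, -1, 1⟩] []) (cond (Nat.beq c 36) [⟨57, 1, 1⟩] [])))) (cond (Nat.blt c 62) (cond (Nat.blt c 39) (cond (Nat.beq c 37)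 [⟨58, -1, 1⟩] []) (cond (Nat.blt c 40) (cond (Nat.beq c 39) [⟨59, 1, 1⟩] []) (cond (Nat.beq c 40) [⟨60, -1, 1⟩] []))) (cond (Nat.blt c 64) (cond (Nat.blt c 63) (cond (Nat.beq c 62) [⟨72, 1, 1⟩] []) (cond (Nat.beq c 63) [⟨75, 1, 1⟩] [])) (cond (Nat.blt c 67) (cond (Nat.beq c 64) [⟨76, 1, 1⟩] []) (cond (Nat.beq c 67) [⟨77, 1, 1⟩] [])))))

/-- Compiled columns of `x_56` for type E6. -/
def colsE6_56 (c : ℕ) : List CEnt :=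
  cond (Nat.blt c 18) (cond (Nat.blt c 11) (cond (Nat.blt c 3) (cond (Nat.blt c 1) (cond (Nat.beq c 0) [⟨62, -2, 1⟩] []) (cond (Nat.blt c 2) (cond (Nat.beq c 1) [⟨62, 0, 1⟩] []) (cond (Nat.beq c 2) [⟨62, 1, 1⟩] []))) (cond (Nat.blt c 4) (cond (Nat.beq c 3) [⟨62, 0, 1⟩] []) (cond (Nat.blt c 5) (cond (Nat.beq c 4) [⟨62, 0, 1⟩] []) (cond (Nat.beq c 5) [⟨62, 0, 1⟩] [])))) (cond (Nat.blt c 14) (cond (Nat.blt c 12) (cond (Nat.beq c 11) [⟨22, 1, 1⟩] []) (cond (Nat.blt c 13) (cond (Nat.beq c 12) [⟨23, 1, 1⟩] []) (cond (Nat.beq c 13) [⟨24, 1, 1⟩] []))) (cond (Nat.blt c 16) (cond (Nat.blt c 15) (cond (Nat.beq c 14) [⟨25, 1, 1⟩] []) (cond (Nat.beq c 15) [⟨26, 1, 1⟩] [])) (cond (Nat.blt c 17) (cond (Nat.beq c 16) [⟨27, 1, 1⟩] []) (cond (Nat.beq c 17) [⟨32, 1, 1⟩] []))))) (cond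 (Nat.blt c 51) (cond (Nat.blt c 21) (cond (Nat.blt c 19) (cond (Nat.beq c 18) [⟨33, 1, 1⟩] []) (cond (Nat.blt c 20) (cond (Nat.beq c 19) [⟨34, 1, 1⟩] []) (cond (Nat.beq c 20) [⟨35, 1, 1⟩] []))) (cond (Nat.blt c 49) (cond (Nat.blt c 48) (cond (Nat.beq c 21) [⟨62, -1, 2⟩, ⟨0, 1, 1⟩, ⟨1, 0, 1⟩, ⟨2, 0, 1⟩, ⟨3, 0, 1⟩, ⟨4, 0, 1⟩, ⟨5, 0, 1⟩] []) (cond (Nat.beq c 48) [⟨63, -1, 1⟩] [])) (cond (Nat.blt c 50) (cond (Nat.beq c 49) [⟨64, -1, 1⟩] []) (cond (Nat.beq c 50) [⟨65, -1, 1⟩] [])))) (cond (Nat.blt c 58) (cond (Nat.blt c 56) (cond (Nat.beq c 51) [⟨66, -1, 1⟩] []) (cond (Nat.blt c 57) (cond (Nat.beq c 56) [⟨67, -1, 1⟩] []) (cond (Nat.beq c 57) [⟨68, -1, 1⟩] []))) (cond (Nat.blt c 60) (cond (Nat.blt c 59) (cond (Nat.beq c 58) [⟨69, -1, 1⟩] []) (cond (Nat.beq c 59) [⟨70, -1,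 1⟩] [])) (cond (Nat.blt c 61) (cond (Nat.beq c 60) [⟨71, -1, 1⟩] []) (cond (Nat.beq c 61) [⟨72, -1, 1⟩] [])))))

/-- Compiled columns of `x_57` for type E6. -/
def colsE6_57 (c : ℕ) : List CEnt :=
  cond (Nat.blt c 18) (cond (Nat.blt c 8) (cond (Nat.blt c 3) (cond (Nat.blt c 1) (cond (Nat.beq c 0) [⟨63, -1, 1⟩] []) (cond (Nat.blt c 2) (cond (Nat.beq c 1) [⟨63, 0, 1⟩] []) (cond (Nat.beq c 2) [⟨63, -1, 1⟩] []))) (cond (Nat.blt c 4) (cond (Nat.beq c 3) [⟨63, 1, 1⟩] []) (cond (Nat.blt c 5) (cond (Nat.beq c 4) [⟨63, 0, 1⟩] []) (cond (Nat.beq c 5) [⟨63, 0, 1⟩] [])))) (cond (Nat.blt c 14) (cond (Nat.blt c 9) (cond (Nat.beq c 8) [⟨22, 1, 1⟩] []) (cond (Nat.blt c 10) (cond (Nat.beq c 9) [⟨23, 1, 1⟩] []) (cond (Nat.beq c 10) [⟨24, 1, 1⟩] []))) (cond (Nat.blt c 16) (cond (Nat.blt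 c 15) (cond (Nat.beq c 14) [⟨28, -1, 1⟩] []) (cond (Nat.beq c 15) [⟨29, -1, 1⟩] [])) (cond (Nat.blt c 17) (cond (Nat.beq c 16) [⟨30, -1, 1⟩] []) (cond (Nat.beq c 17) [⟨36, 1, 1⟩] []))))) (cond (Nat.blt c 47) (cond (Nat.blt c 21) (cond (Nat.blt c 19) (cond (Nat.beq c 18) [⟨37, 1, 1⟩] []) (cond (Nat.blt c 20) (cond (Nat.beq c 19) [⟨38, 1, 1⟩] []) (cond (Nat.beq c 20) [⟨63, -1, 2⟩, ⟨0, 1, 1⟩, ⟨1, 0, 1⟩, ⟨2, 1, 1⟩, ⟨3, 0, 1⟩, ⟨4, 0, 1⟩, ⟨5, 0, 1⟩] []))) (cond (Nat.blt c 45) (cond (Nat.blt c 35) (cond (Nat.beq c 21) [⟨48, 1, 1⟩] []) (cond (Nat.beq c 35) [⟨62, -1, 1⟩] [])) (cond (Nat.blt c 46) (cond (Nat.beq c 45) [⟨64, -1, 1⟩] []) (cond (Nat.beq c 46) [⟨65, -1, 1⟩] [])))) (cond (Nat.blt c 55) (cond (Nat.blt c 53) (cond (Nat.beq c 47) [⟨66, -1, 1⟩] []) (cond (Nat.blt c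 54) (cond (Nat.beq c 53) [⟨67, 1, 1⟩] []) (cond (Nat.beq c 54) [⟨68, 1, 1⟩] []))) (cond (Nat.blt c 60) (cond (Nat.blt c 59) (cond (Nat.beq c 55) [⟨69, 1, 1⟩] []) (cond (Nat.beq c 59) [⟨73, -1, 1⟩] [])) (cond (Nat.blt c 61) (cond (Nat.beq c 60) [⟨74, -1, 1⟩] []) (cond (Nat.beq c 61) [⟨75, -1, 1⟩] [])))))

/-- Compiled columns of `x_58` for type E6. -/
def colsE6_58 (c : ℕ) : List CEnt :=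
  cond (Nat.blt c 18) (cond (Nat.blt c 7) (cond (Nat.blt c 3) (cond (Nat.blt c 1) (cond (Nat.beq c 0) [⟨64, -1, 1⟩] []) (cond (Nat.blt c 2) (cond (Nat.beq c 1) [⟨64, 1, 1⟩] []) (cond (Nat.beq c 2) [⟨64, 0, 1⟩] []))) (cond (Nat.blt c 4) (cond (Nat.beq c 3) [⟨64, -1, 1⟩] []) (cond (Nat.blt c 5) (cond (Nat.beq c 4) [⟨64, 1, 1⟩] []) (cond (Nat.beq c 5) [⟨64, 0, 1⟩] [])))) (cond (Nat.blt c 12) (cond (Nat.blt c 9) (cond (Nat.beq c 7) [⟨22, 1, 1⟩] []) (cond (Nat.blt c 10) (cond (Nat.beq c 9) [⟨25, -1, 1⟩] []) (cond (Nat.beq c 10) [⟨26, -1, 1⟩] []))) (cond (Nat.blt c 16) (cond (Nat.blt c 13) (cond (Nat.beq c 12) [⟨28, -1, 1⟩] []) (cond (Nat.beq c 13) [⟨29, -1, 1⟩] [])) (cond (Nat.blt c 17) (cond (Nat.beq c 16) [⟨31, 1, 1⟩] []) (cond (Nat.beq c 17) [⟨39, 1, 1⟩] []))))) (cond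 (Nat.blt c 44) (cond (Nat.blt c 21) (cond (Nat.blt c 19) (cond (Nat.beq c 18) [⟨40, 1, 1⟩] []) (cond (Nat.blt c 20) (cond (Nat.beq c 19) [⟨64, -1, 2⟩, ⟨0, 1, 1⟩, ⟨1, 0, 1⟩, ⟨2, 1, 1⟩, ⟨3, 1, 1⟩, ⟨4, 0, 1⟩, ⟨5, 0, 1⟩] []) (cond (Nat.beq c 20) [⟨45, 1, 1⟩] []))) (cond (Nat.blt c 38) (cond (Nat.blt c 34) (cond (Nat.beq c 21) [⟨49, 1, 1⟩] []) (cond (Nat.beq c 34) [⟨62, -1, 1⟩] [])) (cond (Nat.blt c 43) (cond (Nat.beq c 38) [⟨63, -1, 1⟩] []) (cond (Nat.beq c 43) [⟨65, -1, 1⟩] [])))) (cond (Nat.blt c 55) (cond (Nat.blt c 52) (cond (Nat.beq c 44) [⟨66, -1, 1⟩] []) (cond (Nat.blt c 54) (cond (Nat.beq c 52) [⟨67, -1, 1⟩] []) (cond (Nat.beq c 54) [⟨70, 1, 1⟩] []))) (cond (Nat.blt c 58) (cond (Nat.blt c 57) (cond (Nat.beq c 55) [⟨71, 1, 1⟩] []) (cond (Nat.beq c 57) [⟨73, 1,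 1⟩] [])) (cond (Nat.blt c 61) (cond (Nat.beq c 58) [⟨74, 1, 1⟩] []) (cond (Nat.beq c 61) [⟨76, -1, 1⟩] [])))))

/-- Compiled columns of `x_59` for type E6. -/
def colsE6_59 (c : ℕ) : List CEnt :=
  cond (Nat.blt c 18) (cond (Nat.blt c 7) (cond (Nat.blt c 3) (cond (Nat.blt c 1) (cond (Nat.beq c 0) [⟨65, -1, 1⟩] []) (cond (Nat.blt c 2) (cond (Nat.beq c 1) [⟨65, 1, 1⟩] []) (cond (Nat.beq c 2) [⟨65, 0, 1⟩] []))) (cond (Nat.blt c 4) (cond (Nat.beq c 3) [⟨65, 0, 1⟩] []) (cond (Nat.blt c 5) (cond (Nat.beq c 4) [⟨65, -1, 1⟩] []) (cond (Nat.beq c 5) [⟨65, 1, 1⟩] [])))) (cond (Nat.blt c 11) (cond (Nat.blt c 8) (cond (Nat.beq c 7) [⟨23, -1, 1⟩] []) (cond (Nat.blt c 10) (cond (Nat.beq c 8) [⟨25, -1, 1⟩] []) (cond (Nat.beq c 10) [⟨27, 1, 1⟩] []))) (cond (Nat.blt c 15) (cond (Nat.blt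 c 13) (cond (Nat.beq c 11) [⟨28, -1, 1⟩] []) (cond (Nat.beq c 13) [⟨30, 1, 1⟩] [])) (cond (Nat.blt c 17) (cond (Nat.beq c 15) [⟨31, 1, 1⟩] []) (cond (Nat.beq c 17) [⟨41, 1, 1⟩] []))))) (cond (Nat.blt c 42) (cond (Nat.blt c 21) (cond (Nat.blt c 19) (cond (Nat.beq c 18) [⟨65, -1, 2⟩, ⟨0, 1, 1⟩, ⟨1, 0, 1⟩, ⟨2, 1, 1⟩, ⟨3, 1, 1⟩, ⟨4, 1, 1⟩, ⟨5, 0, 1⟩] []) (cond (Nat.blt c 20) (cond (Nat.beq c 19) [⟨43, 1, 1⟩] []) (cond (Nat.beq c 20) [⟨46, 1, 1⟩] []))) (cond (Nat.blt c 37) (cond (Nat.blt c 33) (cond (Nat.beq c 21) [⟨50, 1, 1⟩] []) (cond (Nat.beq c 33) [⟨62, -1, 1⟩] [])) (cond (Nat.blt c 40) (cond (Nat.beq c 37) [⟨63, -1, 1⟩] []) (cond (Nat.beq c 40) [⟨64, -1, 1⟩] [])))) (cond (Nat.blt c 55) (cond (Nat.blt c 52) (cond (Nat.beq c 42) [⟨66, -1, 1⟩] []) (cond (Nat.blt c 53)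 (cond (Nat.beq c 52) [⟨68, -1, 1⟩] []) (cond (Nat.beq c 53) [⟨70, -1, 1⟩] []))) (cond (Nat.blt c 58) (cond (Nat.blt c 56) (cond (Nat.beq c 55) [⟨72, 1, 1⟩] []) (cond (Nat.beq c 56) [⟨73, -1, 1⟩] [])) (cond (Nat.blt c 60) (cond (Nat.beq c 58) [⟨75, 1, 1⟩] []) (cond (Nat.beq c 60) [⟨76, 1, 1⟩] [])))))

/-- Compiled columns of `x_60` for type E6. -/
def colsE6_60 (c : ℕ) : List CEnt :=
  cond (Nat.blt c 18) (cond (Nat.blt c 7) (cond (Nat.blt c 3) (cond (Nat.blt c 1) (cond (Nat.beq c 0) [⟨66, -1, 1⟩] []) (cond (Nat.blt c 2) (cond (Nat.beq c 1) [⟨66, 1, 1⟩] []) (cond (Nat.beq c 2) [⟨66, 0, 1⟩] []))) (cond (Nat.blt c 4) (cond (Nat.beq c 3) [⟨66, 0, 1⟩] []) (cond (Nat.blt c 5) (cond (Nat.beq c 4) [⟨66, 0, 1⟩] []) (cond (Nat.beq c 5) [⟨66, -1, 1⟩] [])))) (cond (Nat.blt c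 11) (cond (Nat.blt c 8) (cond (Nat.beq c 7) [⟨24, 1, 1⟩] []) (cond (Nat.blt c 9) (cond (Nat.beq c 8) [⟨26, 1, 1⟩] []) (cond (Nat.beq c 9) [⟨27, 1, 1⟩] []))) (cond (Nat.blt c 14) (cond (Nat.blt c 12) (cond (Nat.beq c 11) [⟨29, 1, 1⟩] []) (cond (Nat.beq c 12) [⟨30, 1, 1⟩] [])) (cond (Nat.blt c 17) (cond (Nat.beq c 14) [⟨31, 1, 1⟩] []) (cond (Nat.beq c 17) [⟨66, -1, 2⟩, ⟨0, 1, 1⟩, ⟨1, 0, 1⟩, ⟨2, 1, 1⟩, ⟨3, 1, 1⟩, ⟨4, 1, 1⟩, ⟨5, 1, 1⟩] []))))) (cond (Nat.blt c 41) (cond (Nat.blt c 21) (cond (Nat.blt c 19) (cond (Nat.beq c 18) [⟨42, 1, 1⟩] []) (cond (Nat.blt c 20) (cond (Nat.beq c 19) [⟨44, 1, 1⟩] []) (cond (Nat.beq c 20) [⟨47, 1, 1⟩] []))) (cond (Nat.blt c 36) (cond (Nat.blt c 32) (cond (Nat.beq c 21) [⟨51, 1, 1⟩] []) (cond (Nat.beq c 32) [⟨62, -1, 1⟩] [])) (cond (Nat.blt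 c 39) (cond (Nat.beq c 36) [⟨63, -1, 1⟩] []) (cond (Nat.beq c 39) [⟨64, -1, 1⟩] [])))) (cond (Nat.blt c 54) (cond (Nat.blt c 52) (cond (Nat.beq c 41) [⟨65, -1, 1⟩] []) (cond (Nat.blt c 53) (cond (Nat.beq c 52) [⟨69, -1, 1⟩] []) (cond (Nat.beq c 53) [⟨71, -1, 1⟩] []))) (cond (Nat.blt c 57) (cond (Nat.blt c 56) (cond (Nat.beq c 54) [⟨72, -1, 1⟩] []) (cond (Nat.beq c 56) [⟨74, -1, 1⟩] [])) (cond (Nat.blt c 59) (cond (Nat.beq c 57) [⟨75, -1, 1⟩] []) (cond (Nat.beq c 59) [⟨76, -1, 1⟩] [])))))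

/-- Compiled columns of `x_61` for type E6. -/
def colsE6_61 (c : ℕ) : List CEnt :=
  cond (Nat.blt c 16) (cond (Nat.blt c 6) (cond (Nat.blt c 3) (cond (Nat.blt c 1) (cond (Nat.beq c 0) [⟨67, -1, 1⟩] []) (cond (Nat.blt c 2) (cond (Nat.beq c 1) [⟨67, -1, 1⟩] []) (cond (Nat.beq c 2) [⟨67, 0, 1⟩] []))) (cond (Nat.blt c 4) (cond (Nat.beq c 3) [⟨67, 0, 1⟩] []) (cond (Nat.blt c 5) (cond (Nat.beq c 4) [⟨67, 1, 1⟩] []) (cond (Nat.beq c 5) [⟨67, 0, 1⟩] [])))) (cond (Nat.blt c 12) (cond (Nat.blt c 9) (cond (Nat.beq c 6) [⟨22, 1, 1⟩] []) (cond (Nat.blt c 10) (cond (Nat.beq c 9) [⟨32, 1, 1⟩] []) (cond (Nat.beq c 10) [⟨33, 1, 1⟩] []))) (cond (Nat.blt c 14) (cond (Nat.blt c 13) (cond (Nat.beq c 12) [⟨36, -1, 1⟩] []) (cond (Nat.beq c 13) [⟨37, -1, 1⟩] [])) (cond (Nat.blt c 15)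 (cond (Nat.beq c 14) [⟨39, 1, 1⟩] []) (cond (Nat.beq c 15) [⟨40, 1, 1⟩] []))))) (cond (Nat.blt c 43) (cond (Nat.blt c 21) (cond (Nat.blt c 19) (cond (Nat.beq c 16) [⟨67, -1, 2⟩, ⟨0, 1, 1⟩, ⟨1, 1, 1⟩, ⟨2, 1, 1⟩, ⟨3, 1, 1⟩, ⟨4, 0, 1⟩, ⟨5, 0, 1⟩] []) (cond (Nat.blt c 20) (cond (Nat.beq c 19) [⟨52, 1, 1⟩] []) (cond (Nat.beq c 20) [⟨53, -1, 1⟩] []))) (cond (Nat.blt c 30) (cond (Nat.blt c 27) (cond (Nat.beq c 21) [⟨56, 1, 1⟩] []) (cond (Nat.beq c 27) [⟨62, -1, 1⟩] [])) (cond (Nat.blt c 31) (cond (Nat.beq c 30) [⟨63, 1, 1⟩] []) (cond (Nat.beq c 31) [⟨64, -1, 1⟩] [])))) (cond (Nat.blt c 47) (cond (Nat.blt c 44) (cond (Nat.beq c 43) [⟨68, -1, 1⟩] []) (cond (Nat.blt c 46) (cond (Nat.beq c 44) [⟨69, -1, 1⟩] []) (cond (Nat.beq c 46) [⟨70, 1, 1⟩] []))) (cond (Nat.blt c 51) (cond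 (Nat.blt c 50) (cond (Nat.beq c 47) [⟨71, 1, 1⟩] []) (cond (Nat.beq c 50) [⟨73, -1, 1⟩] [])) (cond (Nat.blt c 61) (cond (Nat.beq c 51) [⟨74, -1, 1⟩] []) (cond (Nat.beq c 61) [⟨77, -1, 1⟩] [])))))

/-- Compiled columns of `x_62` for type E6. -/
def colsE6_62 (c : ℕ) : List CEnt :=
  cond (Nat.blt c 16) (cond (Nat.blt c 6) (cond (Nat.blt c 3) (cond (Nat.blt c 1) (cond (Nat.beq c 0) [⟨68, -1, 1⟩] []) (cond (Nat.blt c 2) (cond (Nat.beq c 1) [⟨68, -1, 1⟩] []) (cond (Nat.beq c 2) [⟨68, 0, 1⟩] []))) (cond (Nat.blt c 4) (cond (Nat.beq c 3) [⟨68, 1, 1⟩] []) (cond (Nat.blt c 5) (cond (Nat.beq c 4) [⟨68, -1, 1⟩] []) (cond (Nat.beq c 5) [⟨68, 1, 1⟩] [])))) (cond (Nat.blt c 11) (cond (Nat.blt c 8) (cond (Nat.beq c 6) [⟨23, -1, 1⟩] []) (cond (Nat.blt c 10) (cond (Nat.beq c 8) [⟨32,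 1, 1⟩] []) (cond (Nat.beq c 10) [⟨34, -1, 1⟩] []))) (cond (Nat.blt c 14) (cond (Nat.blt c 13) (cond (Nat.beq c 11) [⟨36, -1, 1⟩] []) (cond (Nat.beq c 13) [⟨38, 1, 1⟩] [])) (cond (Nat.blt c 15) (cond (Nat.beq c 14) [⟨41, 1, 1⟩] []) (cond (Nat.beq c 15) [⟨68, -1, 2⟩, ⟨0, 1, 1⟩, ⟨1, 1, 1⟩, ⟨2, 1, 1⟩, ⟨3, 1, 1⟩, ⟨4, 1, 1⟩, ⟨5, 0, 1⟩] []))))) (cond (Nat.blt c 40) (cond (Nat.blt c 21) (cond (Nat.blt c 18) (cond (Nat.beq c 16) [⟨43, 1, 1⟩] []) (cond (Nat.blt c 20) (cond (Nat.beq c 18) [⟨52, 1, 1⟩] []) (cond (Nat.beq c 20) [⟨54, -1, 1⟩] []))) (cond (Nat.blt c 29) (cond (Nat.blt c 26) (cond (Nat.beq c 21) [⟨57, 1, 1⟩] []) (cond (Nat.beq c 26) [⟨62, -1, 1⟩] [])) (cond (Nat.blt c 31) (cond (Nat.beq c 29) [⟨63, 1, 1⟩] []) (cond (Nat.beq c 31) [⟨65, -1, 1⟩] [])))) (cond (Nat.blt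 c 47) (cond (Nat.blt c 42) (cond (Nat.beq c 40) [⟨67, -1, 1⟩] []) (cond (Nat.blt c 45) (cond (Nat.beq c 42) [⟨69, -1, 1⟩] []) (cond (Nat.beq c 45) [⟨70, -1, 1⟩] []))) (cond (Nat.blt c 51) (cond (Nat.blt c 49) (cond (Nat.beq c 47) [⟨72, 1, 1⟩] []) (cond (Nat.beq c 49) [⟨73, 1, 1⟩] [])) (cond (Nat.blt c 60) (cond (Nat.beq c 51) [⟨75, -1, 1⟩] []) (cond (Nat.beq c 60) [⟨77, 1, 1⟩] [])))))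

/-- Compiled columns of `x_63` for type E6. -/
def colsE6_63 (c : ℕ) : List CEnt :=
  cond (Nat.blt c 16) (cond (Nat.blt c 6) (cond (Nat.blt c 3) (cond (Nat.blt c 1) (cond (Nat.beq c 0) [⟨69, -1, 1⟩] []) (cond (Nat.blt c 2) (cond (Nat.beq c 1) [⟨69, -1, 1⟩] []) (cond (Nat.beq c 2) [⟨69, 0, 1⟩] []))) (cond (Nat.blt c 4) (cond (Nat.beq c 3) [⟨69, 1, 1⟩] []) (cond (Nat.blt c 5) (cond (Nat.beq c 4) [⟨69, 0, 1⟩] []) (cond (Nat.beq c 5) [⟨69, -1, 1⟩] [])))) (cond (Nat.blt c 11) (cond (Nat.blt c 8) (cond (Nat.beq c 6) [⟨24, 1, 1⟩] []) (cond (Nat.blt c 9) (cond (Nat.beq c 8) [⟨33, -1, 1⟩] []) (cond (Nat.beq c 9) [⟨34, -1, 1⟩] []))) (cond (Nat.blt c 14) (cond (Nat.blt c 12) (cond (Nat.beq c 11) [⟨37, 1, 1⟩] []) (cond (Nat.beq c 12) [⟨38, 1, 1⟩] [])) (cond (Nat.blt c 15) (cond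 (Nat.beq c 14) [⟨69, -1, 2⟩, ⟨0, 1, 1⟩, ⟨1, 1, 1⟩, ⟨2, 1, 1⟩, ⟨3, 1, 1⟩, ⟨4, 1, 1⟩, ⟨5, 1, 1⟩] []) (cond (Nat.beq c 15) [⟨42, 1, 1⟩] []))))) (cond (Nat.blt c 39) (cond (Nat.blt c 21) (cond (Nat.blt c 17) (cond (Nat.beq c 16) [⟨44, 1, 1⟩] []) (cond (Nat.blt c 20) (cond (Nat.beq c 17) [⟨52, 1, 1⟩] []) (cond (Nat.beq c 20) [⟨55, -1, 1⟩] []))) (cond (Nat.blt c 28) (cond (Nat.blt c 25) (cond (Nat.beq c 21) [⟨58, 1, 1⟩] []) (cond (Nat.beq c 25) [⟨62, -1, 1⟩] [])) (cond (Nat.blt c 31) (cond (Nat.beq c 28) [⟨63, 1, 1⟩] []) (cond (Nat.beq c 31) [⟨66, -1, 1⟩] [])))) (cond (Nat.blt c 46) (cond (Nat.blt c 41) (cond (Nat.beq c 39) [⟨67, -1, 1⟩] []) (cond (Nat.blt c 45) (cond (Nat.beq c 41) [⟨68, -1, 1⟩] []) (cond (Nat.beq c 45) [⟨71, -1, 1⟩] []))) (cond (Nat.blt c 50) (cond (Nat.blt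 c 49) (cond (Nat.beq c 46) [⟨72, -1, 1⟩] []) (cond (Nat.beq c 49) [⟨74, 1, 1⟩] [])) (cond (Nat.blt c 59) (cond (Nat.beq c 50) [⟨75, 1, 1⟩] []) (cond (Nat.beq c 59) [⟨77, -1, 1⟩] [])))))

/-- Compiled columns of `x_64` for type E6. -/
def colsE6_64 (c : ℕ) : List CEnt :=
  cond (Nat.blt c 16) (cond (Nat.blt c 6) (cond (Nat.blt c 3) (cond (Nat.blt c 1) (cond (Nat.beq c 0) [⟨70, -1, 1⟩] []) (cond (Nat.blt c 2) (cond (Nat.beq c 1) [⟨70, 0, 1⟩] []) (cond (Nat.beq c 2) [⟨70, 1, 1⟩] []))) (cond (Nat.blt c 4) (cond (Nat.beq c 3) [⟨70, -1, 1⟩] []) (cond (Nat.blt c 5) (cond (Nat.beq c 4) [⟨70, 0, 1⟩] []) (cond (Nat.beq c 5) [⟨70, 1, 1⟩] [])))) (cond (Nat.blt c 11) (cond (Nat.blt c 7) (cond (Nat.beq c 6) [⟨25, 1, 1⟩] []) (cond (Nat.blt c 10) (cond (Nat.beq c 7) [⟨32, 1, 1⟩]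 []) (cond (Nat.beq c 10) [⟨35, 1, 1⟩] []))) (cond (Nat.blt c 13) (cond (Nat.blt c 12) (cond (Nat.beq c 11) [⟨39, -1, 1⟩] []) (cond (Nat.beq c 12) [⟨41, 1, 1⟩] [])) (cond (Nat.blt c 15) (cond (Nat.beq c 13) [⟨70, -1, 2⟩, ⟨0, 1, 1⟩, ⟨1, 1, 1⟩, ⟨2, 1, 1⟩, ⟨3, 2, 1⟩, ⟨4, 1, 1⟩, ⟨5, 0, 1⟩] []) (cond (Nat.beq c 15) [⟨45, 1, 1⟩] []))))) (cond (Nat.blt c 37) (cond (Nat.blt c 21) (cond (Nat.blt c 18) (cond (Nat.beq c 16) [⟨46, -1, 1⟩] []) (cond (Nat.blt c 19) (cond (Nat.beq c 18) [⟨53, 1, 1⟩] []) (cond (Nat.beq c 19) [⟨54, -1, 1⟩] []))) (cond (Nat.blt c 29) (cond (Nat.blt c 24) (cond (Nat.beq c 21) [⟨59, 1, 1⟩] []) (cond (Nat.beq c 24) [⟨62, -1, 1⟩] [])) (cond (Nat.blt c 30) (cond (Nat.beq c 29) [⟨64, 1, 1⟩] []) (cond (Nat.beq c 30) [⟨65, -1, 1⟩] [])))) (cond (Nat.blt c 44)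 (cond (Nat.blt c 38) (cond (Nat.beq c 37) [⟨67, 1, 1⟩] []) (cond (Nat.blt c 42) (cond (Nat.beq c 38) [⟨68, -1, 1⟩] []) (cond (Nat.beq c 42) [⟨71, -1, 1⟩] []))) (cond (Nat.blt c 51) (cond (Nat.blt c 48) (cond (Nat.beq c 44) [⟨72, 1, 1⟩] []) (cond (Nat.beq c 48) [⟨73, -1, 1⟩] [])) (cond (Nat.blt c 58) (cond (Nat.beq c 51) [⟨76, -1, 1⟩] []) (cond (Nat.beq c 58) [⟨77, -1, 1⟩] [])))))

/-- Compiled columns of `x_65` for type E6. -/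
def colsE6_65 (c : ℕ) : List CEnt :=
  cond (Nat.blt c 16) (cond (Nat.blt c 6) (cond (Nat.blt c 3) (cond (Nat.blt c 1) (cond (Nat.beq c 0) [⟨71, -1, 1⟩] []) (cond (Nat.blt c 2) (cond (Nat.beq c 1) [⟨71, 0, 1⟩] []) (cond (Nat.beq c 2) [⟨71, 1, 1⟩] []))) (cond (Nat.blt c 4) (cond (Nat.beq c 3) [⟨71, -1, 1⟩] []) (cond (Nat.blt c 5) (cond (Nat.beq c 4) [⟨71, 1, 1⟩] []) (cond (Nat.beq c 5) [⟨71, -1, 1⟩] [])))) (cond (Nat.blt c 11) (cond (Nat.blt c 7) (cond (Nat.beq c 6) [⟨26, -1, 1⟩] []) (cond (Nat.blt c 9) (cond (Nat.beq c 7) [⟨33, -1, 1⟩] []) (cond (Nat.beq c 9) [⟨35, 1, 1⟩] []))) (cond (Nat.blt c 13) (cond (Nat.blt c 12) (cond (Nat.beq c 11) [⟨40, 1, 1⟩] []) (cond (Nat.beq c 12) [⟨71, -1, 2⟩, ⟨0, 1, 1⟩, ⟨1, 1, 1⟩, ⟨2, 1, 1⟩, ⟨3, 2, 1⟩, ⟨4, 1, 1⟩, ⟨5, 1, 1⟩] [])) (cond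 (Nat.blt c 14) (cond (Nat.beq c 13) [⟨42, 1, 1⟩] []) (cond (Nat.beq c 14) [⟨45, 1, 1⟩] []))))) (cond (Nat.blt c 36) (cond (Nat.blt c 21) (cond (Nat.blt c 17) (cond (Nat.beq c 16) [⟨47, -1, 1⟩] []) (cond (Nat.blt c 19) (cond (Nat.beq c 17) [⟨53, 1, 1⟩] []) (cond (Nat.beq c 19) [⟨55, -1, 1⟩] []))) (cond (Nat.blt c 28) (cond (Nat.blt c 23) (cond (Nat.beq c 21) [⟨60, 1, 1⟩] []) (cond (Nat.beq c 23) [⟨62, -1, 1⟩] [])) (cond (Nat.blt c 30) (cond (Nat.beq c 28) [⟨64, 1, 1⟩] []) (cond (Nat.beq c 30) [⟨66, -1, 1⟩] [])))) (cond (Nat.blt c 43) (cond (Nat.blt c 38) (cond (Nat.beq c 36) [⟨67, 1, 1⟩] []) (cond (Nat.blt c 41) (cond (Nat.beq c 38) [⟨69, -1, 1⟩] []) (cond (Nat.beq c 41) [⟨70, -1, 1⟩] []))) (cond (Nat.blt c 50) (cond (Nat.blt c 48) (cond (Nat.beq c 43) [⟨72, -1, 1⟩]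 []) (cond (Nat.beq c 48) [⟨74, -1, 1⟩] [])) (cond (Nat.blt c 57) (cond (Nat.beq c 50) [⟨76, 1, 1⟩] []) (cond (Nat.beq c 57) [⟨77, 1, 1⟩] [])))))

/-- Compiled columns of `x_66` for type E6. -/
def colsE6_66 (c : ℕ) : List CEnt :=
  cond (Nat.blt c 15) (cond (Nat.blt c 6) (cond (Nat.blt c 3) (cond (Nat.blt c 1) (cond (Nat.beq c 0) [⟨72, -1, 1⟩] []) (cond (Nat.blt c 2) (cond (Nat.beq c 1) [⟨72, 0, 1⟩] []) (cond (Nat.beq c 2) [⟨72, 1, 1⟩] []))) (cond (Nat.blt c 4) (cond (Nat.beq c 3) [⟨72, 0, 1⟩] []) (cond (Nat.blt c 5) (cond (Nat.beq c 4) [⟨72, -1, 1⟩] []) (cond (Nat.beq c 5) [⟨72, 0, 1⟩] [])))) (cond (Nat.blt c 11) (cond (Nat.blt c 7) (cond (Nat.beq c 6) [⟨27, 1, 1⟩] []) (cond (Nat.blt c 8) (cond (Nat.beq c 7) [⟨34, 1, 1⟩] []) (cond (Nat.beq c 8) [⟨35, 1, 1⟩] [])))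 (cond (Nat.blt c 13) (cond (Nat.blt c 12) (cond (Nat.beq c 11) [⟨72, -1, 2⟩, ⟨0, 1, 1⟩, ⟨1, 1, 1⟩, ⟨2, 1, 1⟩, ⟨3, 2, 1⟩, ⟨4, 2, 1⟩, ⟨5, 1, 1⟩] []) (cond (Nat.beq c 12) [⟨43, 1, 1⟩] [])) (cond (Nat.blt c 14) (cond (Nat.beq c 13) [⟨44, -1, 1⟩] []) (cond (Nat.beq c 14) [⟨46, 1, 1⟩] []))))) (cond (Nat.blt c 36) (cond (Nat.blt c 21) (cond (Nat.blt c 17) (cond (Nat.beq c 15) [⟨47, -1, 1⟩] []) (cond (Nat.blt c 18) (cond (Nat.beq c 17) [⟨54, 1, 1⟩] []) (cond (Nat.beq c 18) [⟨55, -1, 1⟩] []))) (cond (Nat.blt c 28) (cond (Nat.blt c 22) (cond (Nat.beq c 21) [⟨61, 1, 1⟩] []) (cond (Nat.beq c 22) [⟨62, -1, 1⟩] [])) (cond (Nat.blt c 29) (cond (Nat.beq c 28) [⟨65, 1, 1⟩] []) (cond (Nat.beq c 29) [⟨66, -1, 1⟩] [])))) (cond (Nat.blt c 40) (cond (Nat.blt c 37) (cond (Nat.beq c 36)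 [⟨68, 1, 1⟩] []) (cond (Nat.blt c 39) (cond (Nat.beq c 37) [⟨69, -1, 1⟩] []) (cond (Nat.beq c 39) [⟨70, 1, 1⟩] []))) (cond (Nat.blt c 49) (cond (Nat.blt c 48) (cond (Nat.beq c 40) [⟨71, -1, 1⟩] []) (cond (Nat.beq c 48) [⟨75, -1, 1⟩] [])) (cond (Nat.blt c 56) (cond (Nat.beq c 49) [⟨76, -1, 1⟩] []) (cond (Nat.beq c 56) [⟨77, -1, 1⟩] [])))))

/-- Compiled columns of `x_67` for type E6. -/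
def colsE6_67 (c : ℕ) : List CEnt :=
  cond (Nat.blt c 16) (cond (Nat.blt c 6) (cond (Nat.blt c 3) (cond (Nat.blt c 1) (cond (Nat.beq c 0) [⟨73, 0, 1⟩] []) (cond (Nat.blt c 2) (cond (Nat.beq c 1) [⟨73, 0, 1⟩] []) (cond (Nat.beq c 2) [⟨73, -1, 1⟩] []))) (cond (Nat.blt c 4) (cond (Nat.beq c 3) [⟨73, 0, 1⟩] []) (cond (Nat.blt c 5) (cond (Nat.beq c 4) [⟨73, 0, 1⟩] []) (cond (Nat.beq c 5) [⟨73, 1, 1⟩] [])))) (cond (Nat.blt c 9) (cond (Nat.blt c 7) (cond (Nat.beq c 6) [⟨28, -1, 1⟩] []) (cond (Nat.blt c 8) (cond (Nat.beq c 7) [⟨36, 1, 1⟩] []) (cond (Nat.beq c 8) [⟨39, -1, 1⟩] []))) (cond (Nat.blt c 13) (cond (Nat.blt c 10) (cond (Nat.beq c 9) [⟨41, 1, 1⟩] []) (cond (Nat.beq c 10) [⟨73, -1, 2⟩, ⟨0, 1, 1⟩, ⟨1, 1, 1⟩, ⟨2, 2, 1⟩, ⟨3, 2, 1⟩, ⟨4, 1, 1⟩, ⟨5, 0, 1⟩] [])) (cond (Nat.blt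 c 15) (cond (Nat.beq c 13) [⟨48, 1, 1⟩] []) (cond (Nat.beq c 15) [⟨49, -1, 1⟩] []))))) (cond (Nat.blt c 33) (cond (Nat.blt c 20) (cond (Nat.blt c 18) (cond (Nat.beq c 16) [⟨50, 1, 1⟩] []) (cond (Nat.blt c 19) (cond (Nat.beq c 18) [⟨56, 1, 1⟩] []) (cond (Nat.beq c 19) [⟨57, -1, 1⟩] []))) (cond (Nat.blt c 26) (cond (Nat.blt c 24) (cond (Nat.beq c 20) [⟨59, 1, 1⟩] []) (cond (Nat.beq c 24) [⟨63, -1, 1⟩] [])) (cond (Nat.blt c 27) (cond (Nat.beq c 26) [⟨64, 1, 1⟩] []) (cond (Nat.beq c 27) [⟨65, -1, 1⟩] [])))) (cond (Nat.blt c 42) (cond (Nat.blt c 34) (cond (Nat.beq c 33) [⟨67, -1, 1⟩] []) (cond (Nat.blt c 35) (cond (Nat.beq c 34) [⟨68, 1, 1⟩] []) (cond (Nat.beq c 35) [⟨70, -1, 1⟩] []))) (cond (Nat.blt c 47) (cond (Nat.blt c 44) (cond (Nat.beq c 42) [⟨74, -1, 1⟩] []) (cond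 (Nat.beq c 44) [⟨75, 1, 1⟩] [])) (cond (Nat.blt c 55) (cond (Nat.beq c 47) [⟨76, -1, 1⟩] []) (cond (Nat.beq c 55) [⟨77, 1, 1⟩] [])))))

/-- Compiled columns of `x_68` for type E6. -/
def colsE6_68 (c : ℕ) : List CEnt :=
  cond (Nat.blt c 16) (cond (Nat.blt c 6) (cond (Nat.blt c 3) (cond (Nat.blt c 1) (cond (Nat.beq c 0) [⟨74, 0, 1⟩] []) (cond (Nat.blt c 2) (cond (Nat.beq c 1) [⟨74, 0, 1⟩] []) (cond (Nat.beq c 2) [⟨74, -1, 1⟩] []))) (cond (Nat.blt c 4) (cond (Nat.beq c 3) [⟨74, 0, 1⟩] []) (cond (Nat.blt c 5) (cond (Nat.beq c 4) [⟨74, 1, 1⟩] []) (cond (Nat.beq c 5) [⟨74, -1, 1⟩] [])))) (cond (Nat.blt c 9) (cond (Nat.blt c 7) (cond (Nat.beq c 6) [⟨29, 1, 1⟩] []) (cond (Nat.blt c 8) (cond (Nat.beq c 7) [⟨37, -1, 1⟩] []) (cond (Nat.beq c 8) [⟨40, 1, 1⟩] []))) (cond (Nat.blt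 c 12) (cond (Nat.blt c 10) (cond (Nat.beq c 9) [⟨74, -1, 2⟩, ⟨0, 1, 1⟩, ⟨1, 1, 1⟩, ⟨2, 2, 1⟩, ⟨3, 2, 1⟩, ⟨4, 1, 1⟩, ⟨5, 1, 1⟩] []) (cond (Nat.beq c 10) [⟨42, 1, 1⟩] [])) (cond (Nat.blt c 14) (cond (Nat.beq c 12) [⟨48, 1, 1⟩] []) (cond (Nat.beq c 14) [⟨49, -1, 1⟩] []))))) (cond (Nat.blt c 32) (cond (Nat.blt c 20) (cond (Nat.blt c 17) (cond (Nat.beq c 16) [⟨51, 1, 1⟩] []) (cond (Nat.blt c 19) (cond (Nat.beq c 17) [⟨56, 1, 1⟩] []) (cond (Nat.beq c 19) [⟨58, -1, 1⟩] []))) (cond (Nat.blt c 25) (cond (Nat.blt c 23) (cond (Nat.beq c 20) [⟨60, 1, 1⟩] []) (cond (Nat.beq c 23) [⟨63, -1, 1⟩] [])) (cond (Nat.blt c 27) (cond (Nat.beq c 25) [⟨64, 1, 1⟩] []) (cond (Nat.beq c 27) [⟨66, -1, 1⟩] [])))) (cond (Nat.blt c 41) (cond (Nat.blt c 34) (cond (Nat.beq c 32) [⟨67, -1, 1⟩] [])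 (cond (Nat.blt c 35) (cond (Nat.beq c 34) [⟨69, 1, 1⟩] []) (cond (Nat.beq c 35) [⟨71, -1, 1⟩] []))) (cond (Nat.blt c 46) (cond (Nat.blt c 43) (cond (Nat.beq c 41) [⟨73, -1, 1⟩] []) (cond (Nat.beq c 43) [⟨75, -1, 1⟩] [])) (cond (Nat.blt c 54) (cond (Nat.beq c 46) [⟨76, 1, 1⟩] []) (cond (Nat.beq c 54) [⟨77, -1, 1⟩] [])))))

/-- Compiled columns of `x_69` for type E6. -/
def colsE6_69 (c : ℕ) : List CEnt :=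
  cond (Nat.blt c 15) (cond (Nat.blt c 6) (cond (Nat.blt c 3) (cond (Nat.blt c 1) (cond (Nat.beq c 0) [⟨75, 0, 1⟩] []) (cond (Nat.blt c 2) (cond (Nat.beq c 1) [⟨75, 0, 1⟩] []) (cond (Nat.beq c 2) [⟨75, -1, 1⟩] []))) (cond (Nat.blt c 4) (cond (Nat.beq c 3) [⟨75, 1, 1⟩] []) (cond (Nat.blt c 5) (cond (Nat.beq c 4) [⟨75, -1, 1⟩] []) (cond (Nat.beq c 5) [⟨75, 0, 1⟩] [])))) (cond (Nat.blt c 9) (cond (Nat.blt c 7) (cond (Nat.beq c 6) [⟨30, -1, 1⟩] []) (cond (Nat.blt c 8) (cond (Nat.beq c 7) [⟨38, 1, 1⟩] []) (cond (Nat.beq c 8) [⟨75, -1, 2⟩, ⟨0, 1, 1⟩, ⟨1, 1, 1⟩, ⟨2, 2, 1⟩, ⟨3, 2, 1⟩, ⟨4, 2, 1⟩, ⟨5, 1, 1⟩] []))) (cond (Nat.blt c 11) (cond (Nat.blt c 10) (cond (Nat.beq c 9) [⟨43, 1, 1⟩] []) (cond (Nat.beq c 10) [⟨44, -1, 1⟩] [])) (cond (Nat.blt c 14) (cond (Nat.beq c 11) [⟨48,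 1, 1⟩] []) (cond (Nat.beq c 14) [⟨50, -1, 1⟩] []))))) (cond (Nat.blt c 32) (cond (Nat.blt c 20) (cond (Nat.blt c 17) (cond (Nat.beq c 15) [⟨51, 1, 1⟩] []) (cond (Nat.blt c 18) (cond (Nat.beq c 17) [⟨57, 1, 1⟩] []) (cond (Nat.beq c 18) [⟨58, -1, 1⟩] []))) (cond (Nat.blt c 25) (cond (Nat.blt c 22) (cond (Nat.beq c 20) [⟨61, 1, 1⟩] []) (cond (Nat.beq c 22) [⟨63, -1, 1⟩] [])) (cond (Nat.blt c 26) (cond (Nat.beq c 25) [⟨65, 1, 1⟩] []) (cond (Nat.beq c 26) [⟨66, -1, 1⟩] [])))) (cond (Nat.blt c 39) (cond (Nat.blt c 33) (cond (Nat.beq c 32) [⟨68, -1, 1⟩] []) (cond (Nat.blt c 35) (cond (Nat.beq c 33) [⟨69, 1, 1⟩] []) (cond (Nat.beq c 35) [⟨72, -1, 1⟩] []))) (cond (Nat.blt c 45) (cond (Nat.blt c 40) (cond (Nat.beq c 39) [⟨73, 1, 1⟩] []) (cond (Nat.beq c 40) [⟨74, -1, 1⟩] []))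 (cond (Nat.blt c 53) (cond (Nat.beq c 45) [⟨76, -1, 1⟩] []) (cond (Nat.beq c 53) [⟨77, 1, 1⟩] [])))))

/-- Compiled columns of `x_70` for type E6. -/
def colsE6_70 (c : ℕ) : List CEnt :=
  cond (Nat.blt c 13) (cond (Nat.blt c 6) (cond (Nat.blt c 3) (cond (Nat.blt c 1) (cond (Nat.beq c 0) [⟨76, 0, 1⟩] []) (cond (Nat.blt c 2) (cond (Nat.beq c 1) [⟨76, 1, 1⟩] []) (cond (Nat.beq c 2) [⟨76, 0, 1⟩] []))) (cond (Nat.blt c 4) (cond (Nat.beq c 3) [⟨76, -1, 1⟩] []) (cond (Nat.blt c 5) (cond (Nat.beq c 4) [⟨76, 0, 1⟩] []) (cond (Nat.beq c 5) [⟨76, 0, 1⟩] [])))) (cond (Nat.blt c 9) (cond (Nat.blt c 7) (cond (Nat.beq c 6) [⟨31, 1, 1⟩] []) (cond (Nat.blt c 8) (cond (Nat.beq c 7) [⟨76, -1, 2⟩, ⟨0, 1, 1⟩, ⟨1, 1, 1⟩, ⟨2, 2, 1⟩, ⟨3, 3, 1⟩, ⟨4, 2, 1⟩, ⟨5, 1, 1⟩] []) (cond (Nat.beq c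 8) [⟨45, 1, 1⟩] []))) (cond (Nat.blt c 11) (cond (Nat.blt c 10) (cond (Nat.beq c 9) [⟨46, -1, 1⟩] []) (cond (Nat.beq c 10) [⟨47, 1, 1⟩] [])) (cond (Nat.blt c 12) (cond (Nat.beq c 11) [⟨49, 1, 1⟩] []) (cond (Nat.beq c 12) [⟨50, -1, 1⟩] []))))) (cond (Nat.blt c 32) (cond (Nat.blt c 19) (cond (Nat.blt c 17) (cond (Nat.beq c 13) [⟨51, 1, 1⟩] []) (cond (Nat.blt c 18) (cond (Nat.beq c 17) [⟨59, 1, 1⟩] []) (cond (Nat.beq c 18) [⟨60, -1, 1⟩] []))) (cond (Nat.blt c 23) (cond (Nat.blt c 22) (cond (Nat.beq c 19) [⟨61, 1, 1⟩] []) (cond (Nat.beq c 22) [⟨64, -1, 1⟩] [])) (cond (Nat.blt c 24) (cond (Nat.beq c 23) [⟨65, 1, 1⟩] []) (cond (Nat.beq c 24) [⟨66, -1, 1⟩] [])))) (cond (Nat.blt c 36) (cond (Nat.blt c 33) (cond (Nat.beq c 32) [⟨70, -1, 1⟩] []) (cond (Nat.blt c 34) (cond (Nat.beq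 c 33) [⟨71, 1, 1⟩] []) (cond (Nat.beq c 34) [⟨72, -1, 1⟩] []))) (cond (Nat.blt c 38) (cond (Nat.blt c 37) (cond (Nat.beq c 36) [⟨73, -1, 1⟩] []) (cond (Nat.beq c 37) [⟨74, 1, 1⟩] [])) (cond (Nat.blt c 52) (cond (Nat.beq c 38) [⟨75, -1, 1⟩] []) (cond (Nat.beq c 52) [⟨77, -1, 1⟩] [])))))

/-- Compiled columns of `x_71` for type E6. -/
def colsE6_71 (c : ℕ) : List CEnt :=
  cond (Nat.blt c 13) (cond (Nat.blt c 6) (cond (Nat.blt c 3) (cond (Nat.blt c 1) (cond (Nat.beq c 0) [⟨77, 0, 1⟩] []) (cond (Nat.blt c 2) (cond (Nat.beq c 1) [⟨77, -1, 1⟩] []) (cond (Nat.beq c 2) [⟨77, 0, 1⟩] []))) (cond (Nat.blt c 4) (cond (Nat.beq c 3) [⟨77, 0, 1⟩] []) (cond (Nat.blt c 5) (cond (Nat.beq c 4) [⟨77, 0, 1⟩] []) (cond (Nat.beq c 5) [⟨77, 0, 1⟩] [])))) (cond (Nat.blt c 9) (cond (Nat.blt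 c 7) (cond (Nat.beq c 6) [⟨77, -1, 2⟩, ⟨0, 1, 1⟩, ⟨1, 2, 1⟩, ⟨2, 2, 1⟩, ⟨3, 3, 1⟩, ⟨4, 2, 1⟩, ⟨5, 1, 1⟩] []) (cond (Nat.blt c 8) (cond (Nat.beq c 7) [⟨52, 1, 1⟩] []) (cond (Nat.beq c 8) [⟨53, -1, 1⟩] []))) (cond (Nat.blt c 11) (cond (Nat.blt c 10) (cond (Nat.beq c 9) [⟨54, 1, 1⟩] []) (cond (Nat.beq c 10) [⟨55, -1, 1⟩] [])) (cond (Nat.blt c 12) (cond (Nat.beq c 11) [⟨56, 1, 1⟩] []) (cond (Nat.beq c 12) [⟨57, -1, 1⟩] []))))) (cond (Nat.blt c 25) (cond (Nat.blt c 16) (cond (Nat.blt c 14) (cond (Nat.beq c 13) [⟨58, 1, 1⟩] []) (cond (Nat.blt c 15) (cond (Nat.beq c 14) [⟨59, 1, 1⟩] []) (cond (Nat.beq c 15) [⟨60, -1, 1⟩] []))) (cond (Nat.blt c 23) (cond (Nat.blt c 22) (cond (Nat.beq c 16) [⟨61, 1, 1⟩] []) (cond (Nat.beq c 22) [⟨67, -1, 1⟩] [])) (cond (Nat.blt c 24) (cond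 (Nat.beq c 23) [⟨68, 1, 1⟩] []) (cond (Nat.beq c 24) [⟨69, -1, 1⟩] [])))) (cond (Nat.blt c 28) (cond (Nat.blt c 26) (cond (Nat.beq c 25) [⟨70, -1, 1⟩] []) (cond (Nat.blt c 27) (cond (Nat.beq c 26) [⟨71, 1, 1⟩] []) (cond (Nat.beq c 27) [⟨72, -1, 1⟩] []))) (cond (Nat.blt c 30) (cond (Nat.blt c 29) (cond (Nat.beq c 28) [⟨73, 1, 1⟩] []) (cond (Nat.beq c 29) [⟨74, -1, 1⟩] [])) (cond (Nat.blt c 31) (cond (Nat.beq c 30) [⟨75, 1, 1⟩] []) (cond (Nat.beq c 31) [⟨76, -1, 1⟩] [])))))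

end Cfsg.Agent.Lib.Helper3.ChevM
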