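import Cfsg.Agent.Lib.Helper3.ChevData.E6ColsA
import Cfsg.Agent.Lib.Helper3.ChevData.E6ColsB
set_option autoImplicit false

namespace Cfsg.Agent.Lib.Helper3.ChevM

/-- Compiled columns of the root elements of type E6. -/
def colsE6 (r c : ℕ) : List CEnt :=
  cond (Nat.blt r 36) (cond (Nat.blt r 18) (cond (Nat.blt r 9) (cond (Nat.blt r 4) (cond (Nat.blt r 2) (cond (Nat.blt r 1) (cond (Nat.beq r 0) (colsE6_0 c) []) (cond (Nat.beq r 1) (colsE6_1 c) [])) (cond (Nat.blt r 3) (cond (Nat.beq r 2) (colsE6_2 c) []) (cond (Nat.beq r 3) (colsE6_3 c) []))) (cond (Nat.blt r 6) (cond (Nat.blt r 5) (cond (Nat.beq r 4) (colsE6_4 c) []) (cond (Nat.beq r 5) (colsE6_5 c) [])) (cond (Nat.blt r 7) (cond (Nat.beq r 6) (colsE6_6 c) []) (cond (Nat.blt r 8) (cond (Nat.beq r 7) (colsE6_7 c) []) (cond (Nat.beq r 8) (colsE6_8 c) []))))) (cond (Nat.blt r 13) (cond (Nat.blt r 11) (cond (Nat.blt r 10) (cond (Nat.beq r 9)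 (colsE6_9 c) []) (cond (Nat.beq r 10) (colsE6_10 c) [])) (cond (Nat.blt r 12) (cond (Nat.beq r 11) (colsE6_11 c) []) (cond (Nat.beq r 12) (colsE6_12 c) []))) (cond (Nat.blt r 15) (cond (Nat.blt r 14) (cond (Nat.beq r 13) (colsE6_13 c) []) (cond (Nat.beq r 14) (colsE6_14 c) [])) (cond (Nat.blt r 16) (cond (Nat.beq r 15) (colsE6_15 c) []) (cond (Nat.blt r 17) (cond (Nat.beq r 16) (colsE6_16 c) []) (cond (Nat.beq r 17) (colsE6_17 c) [])))))) (cond (Nat.blt r 27) (cond (Nat.blt r 22) (cond (Nat.blt r 20) (cond (Nat.blt r 19) (cond (Nat.beq r 18) (colsE6_18 c) []) (cond (Nat.beq r 19) (colsE6_19 c) [])) (cond (Nat.blt r 21) (cond (Nat.beq r 20) (colsE6_20 c) []) (cond (Nat.beq r 21) (colsE6_21 c) []))) (cond (Nat.blt r 24) (cond (Nat.blt r 23) (cond (Nat.beq r 22) (colsE6_22 c) []) (cond (Nat.beq r 23) (colsE6_23 c) [])) (cond (Nat.blt r 25) (cond (Nat.beq r 24) (colsE6_24 c) []) (cond (Nat.blt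 r 26) (cond (Nat.beq r 25) (colsE6_25 c) []) (cond (Nat.beq r 26) (colsE6_26 c) []))))) (cond (Nat.blt r 31) (cond (Nat.blt r 29) (cond (Nat.blt r 28) (cond (Nat.beq r 27) (colsE6_27 c) []) (cond (Nat.beq r 28) (colsE6_28 c) [])) (cond (Nat.blt r 30) (cond (Nat.beq r 29) (colsE6_29 c) []) (cond (Nat.beq r 30) (colsE6_30 c) []))) (cond (Nat.blt r 33) (cond (Nat.blt r 32) (cond (Nat.beq r 31) (colsE6_31 c) []) (cond (Nat.beq r 32) (colsE6_32 c) [])) (cond (Nat.blt r 34) (cond (Nat.beq r 33) (colsE6_33 c) []) (cond (Nat.blt r 35) (cond (Nat.beq r 34) (colsE6_34 c) []) (cond (Nat.beq r 35) (colsE6_35 c) []))))))) (cond (Nat.blt r 54) (cond (Nat.blt r 45) (cond (Nat.blt r 40) (cond (Nat.blt r 38) (cond (Nat.blt r 37) (cond (Nat.beq r 36) (colsE6_36 c) []) (cond (Nat.beq r 37) (colsE6_37 c) [])) (cond (Nat.blt r 39) (cond (Nat.beq r 38) (colsE6_38 c) []) (cond (Nat.beq r 39) (colsE6_39 c) [])))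 (cond (Nat.blt r 42) (cond (Nat.blt r 41) (cond (Nat.beq r 40) (colsE6_40 c) []) (cond (Nat.beq r 41) (colsE6_41 c) [])) (cond (Nat.blt r 43) (cond (Nat.beq r 42) (colsE6_42 c) []) (cond (Nat.blt r 44) (cond (Nat.beq r 43) (colsE6_43 c) []) (cond (Nat.beq r 44) (colsE6_44 c) []))))) (cond (Nat.blt r 49) (cond (Nat.blt r 47) (cond (Nat.blt r 46) (cond (Nat.beq r 45) (colsE6_45 c) []) (cond (Nat.beq r 46) (colsE6_46 c) [])) (cond (Nat.blt r 48) (cond (Nat.beq r 47) (colsE6_47 c) []) (cond (Nat.beq r 48) (colsE6_48 c) []))) (cond (Nat.blt r 51) (cond (Nat.blt r 50) (cond (Nat.beq r 49) (colsE6_49 c) []) (cond (Nat.beq r 50) (colsE6_50 c) [])) (cond (Nat.blt r 52) (cond (Nat.beq r 51) (colsE6_51 c) []) (cond (Nat.blt r 53) (cond (Nat.beq r 52) (colsE6_52 c) []) (cond (Nat.beq r 53) (colsE6_53 c) [])))))) (cond (Nat.blt r 63) (cond (Nat.blt r 58) (cond (Nat.blt r 56) (cond (Nat.blt r 55) (cond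 (Nat.beq r 54) (colsE6_54 c) []) (cond (Nat.beq r 55) (colsE6_55 c) [])) (cond (Nat.blt r 57) (cond (Nat.beq r 56) (colsE6_56 c) []) (cond (Nat.beq r 57) (colsE6_57 c) []))) (cond (Nat.blt r 60) (cond (Nat.blt r 59) (cond (Nat.beq r 58) (colsE6_58 c) []) (cond (Nat.beq r 59) (colsE6_59 c) [])) (cond (Nat.blt r 61) (cond (Nat.beq r 60) (colsE6_60 c) []) (cond (Nat.blt r 62) (cond (Nat.beq r 61) (colsE6_61 c) []) (cond (Nat.beq r 62) (colsE6_62 c) []))))) (cond (Nat.blt r 67) (cond (Nat.blt r 65) (cond (Nat.blt r 64) (cond (Nat.beq r 63) (colsE6_63 c) []) (cond (Nat.beq r 64) (colsE6_64 c) [])) (cond (Nat.blt r 66) (cond (Nat.beq r 65) (colsE6_65 c) []) (cond (Nat.beq r 66) (colsE6_66 c) []))) (cond (Nat.blt r 69) (cond (Nat.blt r 68) (cond (Nat.beq r 67) (colsE6_67 c) []) (cond (Nat.beq r 68) (colsE6_68 c) [])) (cond (Nat.blt r 70) (cond (Nat.beq r 69) (colsE6_69 c) []) (cond (Nat.blt r 71)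 (cond (Nat.beq r 70) (colsE6_70 c) []) (cond (Nat.beq r 71) (colsE6_71 c) [])))))))

end Cfsg.Agent.Lib.Helper3.ChevM
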