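import Cfsg.Agent.Lib.Helper3.ChevM2
set_option autoImplicit false
set_option maxRecDepth 100000

namespace Cfsg.Agent.Lib.Helper3.ChevM

/-- Compiled columns of `x_0` for type E6. -/
def colsE6_0 (c : ℕ) : List CEnt :=
  cond (Nat.blt c 59) (cond (Nat.blt c 52) (cond (Nat.blt c 3) (cond (Nat.blt c 1) (cond (Nat.beq c 0) [⟨6, 0, 1⟩] []) (cond (Nat.blt c 2) (cond (Nat.beq c 1) [⟨6, 1, 1⟩] []) (cond (Nat.beq c 2) [⟨6, 0, 1⟩] []))) (cond (Nat.blt c 4) (cond (Nat.beq c 3) [⟨6, 0, 1⟩] []) (cond (Nat.blt c 5) (cond (Nat.beq c 4) [⟨6, 0, 1⟩] []) (cond (Nat.beq c 5) [⟨6, 0, 1⟩] [])))) (cond (Nat.blt c 55) (cond (Nat.blt c 53) (cond (Nat.beq c 52) [⟨7, 1, 1⟩] []) (cond (Nat.blt c 54) (cond (Nat.beq c 53) [⟨8, -1, 1⟩] []) (cond (Nat.beq c 54) [⟨9, 1, 1⟩] []))) (cond (Nat.blt c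 57) (cond (Nat.blt c 56) (cond (Nat.beq c 55) [⟨10, -1, 1⟩] []) (cond (Nat.beq c 56) [⟨11, 1, 1⟩] [])) (cond (Nat.blt c 58) (cond (Nat.beq c 57) [⟨12, -1, 1⟩] []) (cond (Nat.beq c 58) [⟨13, 1, 1⟩] []))))) (cond (Nat.blt c 71) (cond (Nat.blt c 67) (cond (Nat.blt c 60) (cond (Nat.beq c 59) [⟨14, 1, 1⟩] []) (cond (Nat.blt c 61) (cond (Nat.beq c 60) [⟨15, -1, 1⟩] []) (cond (Nat.beq c 61) [⟨16, 1, 1⟩] []))) (cond (Nat.blt c 69) (cond (Nat.blt c 68) (cond (Nat.beq c 67) [⟨22, -1, 1⟩] []) (cond (Nat.beq c 68) [⟨23, 1, 1⟩] [])) (cond (Nat.blt c 70) (cond (Nat.beq c 69) [⟨24, -1, 1⟩] []) (cond (Nat.beq c 70) [⟨25, -1, 1⟩] [])))) (cond (Nat.blt c 74) (cond (Nat.blt c 72) (cond (Nat.beq c 71) [⟨26, 1, 1⟩] []) (cond (Nat.blt c 73) (cond (Nat.beq c 72) [⟨27, -1, 1⟩] []) (cond (Nat.beq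 c 73) [⟨28, 1, 1⟩] []))) (cond (Nat.blt c 76) (cond (Nat.blt c 75) (cond (Nat.beq c 74) [⟨29, -1, 1⟩] []) (cond (Nat.beq c 75) [⟨30, 1, 1⟩] [])) (cond (Nat.blt c 77) (cond (Nat.beq c 76) [⟨31, -1, 1⟩] []) (cond (Nat.beq c 77) [⟨6, -1, 2⟩, ⟨0, -1, 1⟩, ⟨1, -2, 1⟩, ⟨2, -2, 1⟩, ⟨3, -3, 1⟩, ⟨4, -2, 1⟩, ⟨5, -1, 1⟩] [])))))

/-- Compiled columns of `x_1` for type E6. -/
def colsE6_1 (c : ℕ) : List CEnt :=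
  cond (Nat.blt c 59) (cond (Nat.blt c 31) (cond (Nat.blt c 3) (cond (Nat.blt c 1) (cond (Nat.beq c 0) [⟨7, 0, 1⟩] []) (cond (Nat.blt c 2) (cond (Nat.beq c 1) [⟨7, -1, 1⟩] []) (cond (Nat.beq c 2) [⟨7, 0, 1⟩] []))) (cond (Nat.blt c 4) (cond (Nat.beq c 3) [⟨7, 1, 1⟩] []) (cond (Nat.blt c 5) (cond (Nat.beq c 4) [⟨7, 0, 1⟩] []) (cond (Nat.beq c 5) [⟨7, 0, 1⟩] [])))) (cond (Nat.blt c 47) (cond (Nat.blt c 45) (cond (Nat.beq c 31) [⟨6, 1, 1⟩] []) (cond (Nat.blt c 46) (cond (Nat.beq c 45) [⟨8, 1, 1⟩] []) (cond (Nat.beq c 46) [⟨9, -1, 1⟩] []))) (cond (Nat.blt c 50) (cond (Nat.blt c 49) (cond (Nat.beq c 47) [⟨10, 1, 1⟩] []) (cond (Nat.beq c 49) [⟨11, 1, 1⟩] [])) (cond (Nat.blt c 51) (cond (Nat.beq c 50) [⟨12, -1, 1⟩] []) (cond (Nat.beq c 51) [⟨13, 1, 1⟩] []))))) (cond (Nat.blt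 c 71) (cond (Nat.blt c 64) (cond (Nat.blt c 60) (cond (Nat.beq c 59) [⟨17, 1, 1⟩] []) (cond (Nat.blt c 61) (cond (Nat.beq c 60) [⟨18, -1, 1⟩] []) (cond (Nat.beq c 61) [⟨19, 1, 1⟩] []))) (cond (Nat.blt c 66) (cond (Nat.blt c 65) (cond (Nat.beq c 64) [⟨22, -1, 1⟩] []) (cond (Nat.beq c 65) [⟨23, 1, 1⟩] [])) (cond (Nat.blt c 70) (cond (Nat.beq c 66) [⟨24, -1, 1⟩] []) (cond (Nat.beq c 70) [⟨32, -1, 1⟩] [])))) (cond (Nat.blt c 74) (cond (Nat.blt c 72) (cond (Nat.beq c 71) [⟨33, 1, 1⟩] []) (cond (Nat.blt c 73) (cond (Nat.beq c 72) [⟨34, -1, 1⟩] []) (cond (Nat.beq c 73) [⟨36, -1, 1⟩] []))) (cond (Nat.blt c 76) (cond (Nat.blt c 75) (cond (Nat.beq c 74) [⟨37, 1, 1⟩] []) (cond (Nat.beq c 75) [⟨38, -1, 1⟩] [])) (cond (Nat.blt c 77) (cond (Nat.beq c 76) [⟨7, -1, 2⟩, ⟨0, -1, 1⟩,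 ⟨1, -1, 1⟩, ⟨2, -2, 1⟩, ⟨3, -3, 1⟩, ⟨4, -2, 1⟩, ⟨5, -1, 1⟩] []) (cond (Nat.beq c 77) [⟨52, -1, 1⟩] [])))))

/-- Compiled columns of `x_2` for type E6. -/
def colsE6_2 (c : ℕ) : List CEnt :=
  cond (Nat.blt c 57) (cond (Nat.blt c 30) (cond (Nat.blt c 3) (cond (Nat.blt c 1) (cond (Nat.beq c 0) [⟨8, 0, 1⟩] []) (cond (Nat.blt c 2) (cond (Nat.beq c 1) [⟨8, 0, 1⟩] []) (cond (Nat.beq c 2) [⟨8, 1, 1⟩] []))) (cond (Nat.blt c 4) (cond (Nat.beq c 3) [⟨8, -1, 1⟩] []) (cond (Nat.blt c 5) (cond (Nat.beq c 4) [⟨8, 1, 1⟩] []) (cond (Nat.beq c 5) [⟨8, 0, 1⟩] [])))) (cond (Nat.blt c 44) (cond (Nat.blt c 38) (cond (Nat.beq c 30) [⟨6, -1, 1⟩] []) (cond (Nat.blt c 43) (cond (Nat.beq c 38) [⟨7, 1, 1⟩] []) (cond (Nat.beq c 43) [⟨9, 1, 1⟩] []))) (cond (Nat.blt c 50) (cond (Nat.blt c 48) (cond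 (Nat.beq c 44) [⟨10, -1, 1⟩] []) (cond (Nat.beq c 48) [⟨11, 1, 1⟩] [])) (cond (Nat.blt c 51) (cond (Nat.beq c 50) [⟨14, -1, 1⟩] []) (cond (Nat.beq c 51) [⟨15, 1, 1⟩] []))))) (cond (Nat.blt c 69) (cond (Nat.blt c 63) (cond (Nat.blt c 58) (cond (Nat.beq c 57) [⟨17, 1, 1⟩] []) (cond (Nat.blt c 61) (cond (Nat.beq c 58) [⟨18, -1, 1⟩] []) (cond (Nat.beq c 61) [⟨20, 1, 1⟩] []))) (cond (Nat.blt c 66) (cond (Nat.blt c 65) (cond (Nat.beq c 63) [⟨22, -1, 1⟩] []) (cond (Nat.beq c 65) [⟨25, 1, 1⟩] [])) (cond (Nat.blt c 68) (cond (Nat.beq c 66) [⟨26, -1, 1⟩] []) (cond (Nat.beq c 68) [⟨32, -1, 1⟩] [])))) (cond (Nat.blt c 74) (cond (Nat.blt c 72) (cond (Nat.beq c 69) [⟨33, 1, 1⟩] []) (cond (Nat.blt c 73) (cond (Nat.beq c 72) [⟨35, -1, 1⟩] []) (cond (Nat.beq c 73) [⟨39, 1, 1⟩] [])))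 (cond (Nat.blt c 76) (cond (Nat.blt c 75) (cond (Nat.beq c 74) [⟨40, -1, 1⟩] []) (cond (Nat.beq c 75) [⟨8, -1, 2⟩, ⟨0, -1, 1⟩, ⟨1, -1, 1⟩, ⟨2, -2, 1⟩, ⟨3, -2, 1⟩, ⟨4, -2, 1⟩, ⟨5, -1, 1⟩] [])) (cond (Nat.blt c 77) (cond (Nat.beq c 76) [⟨45, -1, 1⟩] []) (cond (Nat.beq c 77) [⟨53, 1, 1⟩] [])))))

/-- Compiled columns of `x_3` for type E6. -/
def colsE6_3 (c : ℕ) : List CEnt :=
  cond (Nat.blt c 56) (cond (Nat.blt c 29) (cond (Nat.blt c 3) (cond (Nat.blt c 1) (cond (Nat.beq c 0) [⟨9, 0, 1⟩] []) (cond (Nat.blt c 2) (cond (Nat.beq c 1) [⟨9, 0, 1⟩] []) (cond (Nat.beq c 2) [⟨9, 1, 1⟩] []))) (cond (Nat.blt c 4) (cond (Nat.beq c 3) [⟨9, 0, 1⟩] []) (cond (Nat.blt c 5) (cond (Nat.beq c 4) [⟨9, -1, 1⟩] []) (cond (Nat.beq c 5) [⟨9, 1, 1⟩] [])))) (cond (Nat.blt c 42) (cond (Nat.blt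 c 37) (cond (Nat.beq c 29) [⟨6, 1, 1⟩] []) (cond (Nat.blt c 40) (cond (Nat.beq c 37) [⟨7, -1, 1⟩] []) (cond (Nat.beq c 40) [⟨8, 1, 1⟩] []))) (cond (Nat.blt c 49) (cond (Nat.blt c 48) (cond (Nat.beq c 42) [⟨10, 1, 1⟩] []) (cond (Nat.beq c 48) [⟨12, 1, 1⟩] [])) (cond (Nat.blt c 51) (cond (Nat.beq c 49) [⟨14, -1, 1⟩] []) (cond (Nat.beq c 51) [⟨16, 1, 1⟩] []))))) (cond (Nat.blt c 69) (cond (Nat.blt c 63) (cond (Nat.blt c 58) (cond (Nat.beq c 56) [⟨17, 1, 1⟩] []) (cond (Nat.blt c 60) (cond (Nat.beq c 58) [⟨19, -1, 1⟩] []) (cond (Nat.beq c 60) [⟨20, 1, 1⟩] []))) (cond (Nat.blt c 66) (cond (Nat.blt c 64) (cond (Nat.beq c 63) [⟨23, -1, 1⟩] []) (cond (Nat.beq c 64) [⟨25, 1, 1⟩] [])) (cond (Nat.blt c 67) (cond (Nat.beq c 66) [⟨27, -1, 1⟩] []) (cond (Nat.beq c 67) [⟨32, -1, 1⟩]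 [])))) (cond (Nat.blt c 74) (cond (Nat.blt c 71) (cond (Nat.beq c 69) [⟨34, 1, 1⟩] []) (cond (Nat.blt c 73) (cond (Nat.beq c 71) [⟨35, -1, 1⟩] []) (cond (Nat.beq c 73) [⟨41, -1, 1⟩] []))) (cond (Nat.blt c 76) (cond (Nat.blt c 75) (cond (Nat.beq c 74) [⟨9, -1, 2⟩, ⟨0, -1, 1⟩, ⟨1, -1, 1⟩, ⟨2, -2, 1⟩, ⟨3, -2, 1⟩, ⟨4, -1, 1⟩, ⟨5, -1, 1⟩] []) (cond (Nat.beq c 75) [⟨43, -1, 1⟩] [])) (cond (Nat.blt c 77) (cond (Nat.beq c 76) [⟨46, 1, 1⟩] []) (cond (Nat.beq c 77) [⟨54, -1, 1⟩] [])))))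

/-- Compiled columns of `x_4` for type E6. -/
def colsE6_4 (c : ℕ) : List CEnt :=
  cond (Nat.blt c 56) (cond (Nat.blt c 28) (cond (Nat.blt c 3) (cond (Nat.blt c 1) (cond (Nat.beq c 0) [⟨10, 0, 1⟩] []) (cond (Nat.blt c 2) (cond (Nat.beq c 1) [⟨10, 0, 1⟩] []) (cond (Nat.beq c 2) [⟨10, 1, 1⟩] []))) (cond (Nat.blt c 4) (cond (Nat.beq c 3) [⟨10, 0, 1⟩] []) (cond (Nat.blt c 5) (cond (Nat.beq c 4) [⟨10, 0, 1⟩] []) (cond (Nat.beq c 5) [⟨10, -1, 1⟩] [])))) (cond (Nat.blt c 41) (cond (Nat.blt c 36) (cond (Nat.beq c 28) [⟨6, -1, 1⟩] []) (cond (Nat.blt c 39) (cond (Nat.beq c 36) [⟨7, 1, 1⟩] []) (cond (Nat.beq c 39) [⟨8, -1, 1⟩] []))) (cond (Nat.blt c 49) (cond (Nat.blt c 48) (cond (Nat.beq c 41) [⟨9, 1, 1⟩] []) (cond (Nat.beq c 48) [⟨13, 1, 1⟩] [])) (cond (Nat.blt c 50) (cond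 (Nat.beq c 49) [⟨15, -1, 1⟩] []) (cond (Nat.beq c 50) [⟨16, 1, 1⟩] []))))) (cond (Nat.blt c 68) (cond (Nat.blt c 63) (cond (Nat.blt c 57) (cond (Nat.beq c 56) [⟨18, 1, 1⟩] []) (cond (Nat.blt c 59) (cond (Nat.beq c 57) [⟨19, -1, 1⟩] []) (cond (Nat.beq c 59) [⟨20, 1, 1⟩] []))) (cond (Nat.blt c 65) (cond (Nat.blt c 64) (cond (Nat.beq c 63) [⟨24, -1, 1⟩] []) (cond (Nat.beq c 64) [⟨26, 1, 1⟩] [])) (cond (Nat.blt c 67) (cond (Nat.beq c 65) [⟨27, -1, 1⟩] []) (cond (Nat.beq c 67) [⟨33, -1, 1⟩] [])))) (cond (Nat.blt c 74) (cond (Nat.blt c 70) (cond (Nat.beq c 68) [⟨34, 1, 1⟩] []) (cond (Nat.blt c 73) (cond (Nat.beq c 70) [⟨35, -1, 1⟩] []) (cond (Nat.beq c 73) [⟨10, -1, 2⟩, ⟨0, -1, 1⟩, ⟨1, -1, 1⟩, ⟨2, -2, 1⟩, ⟨3, -2, 1⟩, ⟨4, -1, 1⟩, ⟨5, 0, 1⟩] []))) (cond (Nat.blt c 76) (cond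 (Nat.blt c 75) (cond (Nat.beq c 74) [⟨42, -1, 1⟩] []) (cond (Nat.beq c 75) [⟨44, 1, 1⟩] [])) (cond (Nat.blt c 77) (cond (Nat.beq c 76) [⟨47, -1, 1⟩] []) (cond (Nat.beq c 77) [⟨55, 1, 1⟩] [])))))

/-- Compiled columns of `x_5` for type E6. -/
def colsE6_5 (c : ℕ) : List CEnt :=
  cond (Nat.blt c 54) (cond (Nat.blt c 27) (cond (Nat.blt c 3) (cond (Nat.blt c 1) (cond (Nat.beq c 0) [⟨11, 1, 1⟩] []) (cond (Nat.blt c 2) (cond (Nat.beq c 1) [⟨11, 0, 1⟩] []) (cond (Nat.beq c 2) [⟨11, -1, 1⟩] []))) (cond (Nat.blt c 4) (cond (Nat.beq c 3) [⟨11, 0, 1⟩] []) (cond (Nat.blt c 5) (cond (Nat.beq c 4) [⟨11, 1, 1⟩] []) (cond (Nat.beq c 5) [⟨11, 0, 1⟩] [])))) (cond (Nat.blt c 43) (cond (Nat.blt c 34) (cond (Nat.beq c 27) [⟨6, 1, 1⟩] []) (cond (Nat.blt c 35) (cond (Nat.beq c 34) [⟨7, 1,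 1⟩] []) (cond (Nat.beq c 35) [⟨8, 1, 1⟩] []))) (cond (Nat.blt c 46) (cond (Nat.blt c 44) (cond (Nat.beq c 43) [⟨12, 1, 1⟩] []) (cond (Nat.beq c 44) [⟨13, -1, 1⟩] [])) (cond (Nat.blt c 47) (cond (Nat.beq c 46) [⟨14, 1, 1⟩] []) (cond (Nat.beq c 47) [⟨15, -1, 1⟩] []))))) (cond (Nat.blt c 69) (cond (Nat.blt c 62) (cond (Nat.blt c 55) (cond (Nat.beq c 54) [⟨17, 1, 1⟩] []) (cond (Nat.blt c 61) (cond (Nat.beq c 55) [⟨18, -1, 1⟩] []) (cond (Nat.beq c 61) [⟨21, 1, 1⟩] []))) (cond (Nat.blt c 66) (cond (Nat.blt c 65) (cond (Nat.beq c 62) [⟨22, -1, 1⟩] []) (cond (Nat.beq c 65) [⟨28, 1, 1⟩] [])) (cond (Nat.blt c 68) (cond (Nat.beq c 66) [⟨29, -1, 1⟩] []) (cond (Nat.beq c 68) [⟨36, 1, 1⟩] [])))) (cond (Nat.blt c 72) (cond (Nat.blt c 70) (cond (Nat.beq c 69) [⟨37, -1, 1⟩] []) (cond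 (Nat.blt c 71) (cond (Nat.beq c 70) [⟨39, 1, 1⟩] []) (cond (Nat.beq c 71) [⟨40, -1, 1⟩] []))) (cond (Nat.blt c 76) (cond (Nat.blt c 75) (cond (Nat.beq c 72) [⟨11, -1, 2⟩, ⟨0, -1, 1⟩, ⟨1, -1, 1⟩, ⟨2, -1, 1⟩, ⟨3, -2, 1⟩, ⟨4, -2, 1⟩, ⟨5, -1, 1⟩] []) (cond (Nat.beq c 75) [⟨48, -1, 1⟩] [])) (cond (Nat.blt c 77) (cond (Nat.beq c 76) [⟨49, -1, 1⟩] []) (cond (Nat.beq c 77) [⟨56, -1, 1⟩] [])))))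

/-- Compiled columns of `x_6` for type E6. -/
def colsE6_6 (c : ℕ) : List CEnt :=
  cond (Nat.blt c 53) (cond (Nat.blt c 26) (cond (Nat.blt c 3) (cond (Nat.blt c 1) (cond (Nat.beq c 0) [⟨12, 1, 1⟩] []) (cond (Nat.blt c 2) (cond (Nat.beq c 1) [⟨12, 0, 1⟩] []) (cond (Nat.beq c 2) [⟨12, -1, 1⟩] []))) (cond (Nat.blt c 4) (cond (Nat.beq c 3) [⟨12, 1, 1⟩] []) (cond (Nat.blt c 5) (cond (Nat.beq c 4) [⟨12, -1, 1⟩] []) (cond (Nat.beq c 5) [⟨12, 1, 1⟩] [])))) (cond (Nat.blt c 40) (cond (Nat.blt c 33) (cond (Nat.beq c 26) [⟨6, -1, 1⟩] []) (cond (Nat.blt c 35) (cond (Nat.beq c 33) [⟨7, -1, 1⟩] []) (cond (Nat.beq c 35) [⟨9, 1, 1⟩] []))) (cond (Nat.blt c 45) (cond (Nat.blt c 42) (cond (Nat.beq c 40) [⟨11, 1, 1⟩] []) (cond (Nat.beq c 42) [⟨13, 1, 1⟩] [])) (cond (Nat.blt c 47) (cond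 (Nat.beq c 45) [⟨14, 1, 1⟩] []) (cond (Nat.beq c 47) [⟨16, -1, 1⟩] []))))) (cond (Nat.blt c 69) (cond (Nat.blt c 62) (cond (Nat.blt c 55) (cond (Nat.beq c 53) [⟨17, 1, 1⟩] []) (cond (Nat.blt c 60) (cond (Nat.beq c 55) [⟨19, -1, 1⟩] []) (cond (Nat.beq c 60) [⟨21, 1, 1⟩] []))) (cond (Nat.blt c 66) (cond (Nat.blt c 64) (cond (Nat.beq c 62) [⟨23, -1, 1⟩] []) (cond (Nat.beq c 64) [⟨28, 1, 1⟩] [])) (cond (Nat.blt c 67) (cond (Nat.beq c 66) [⟨30, -1, 1⟩] []) (cond (Nat.beq c 67) [⟨36, 1, 1⟩] [])))) (cond (Nat.blt c 72) (cond (Nat.blt c 70) (cond (Nat.beq c 69) [⟨38, -1, 1⟩] []) (cond (Nat.blt c 71) (cond (Nat.beq c 70) [⟨41, -1, 1⟩] []) (cond (Nat.beq c 71) [⟨12, -1, 2⟩, ⟨0, -1, 1⟩, ⟨1, -1, 1⟩, ⟨2, -1, 1⟩, ⟨3, -2, 1⟩, ⟨4, -1, 1⟩, ⟨5, -1, 1⟩] []))) (cond (Nat.blt c 76) (cond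 (Nat.blt c 74) (cond (Nat.beq c 72) [⟨43, -1, 1⟩] []) (cond (Nat.beq c 74) [⟨48, -1, 1⟩] [])) (cond (Nat.blt c 77) (cond (Nat.beq c 76) [⟨50, 1, 1⟩] []) (cond (Nat.beq c 77) [⟨57, 1, 1⟩] [])))))

/-- Compiled columns of `x_7` for type E6. -/
def colsE6_7 (c : ℕ) : List CEnt :=
  cond (Nat.blt c 53) (cond (Nat.blt c 25) (cond (Nat.blt c 3) (cond (Nat.blt c 1) (cond (Nat.beq c 0) [⟨13, 1, 1⟩] []) (cond (Nat.blt c 2) (cond (Nat.beq c 1) [⟨13, 0, 1⟩] []) (cond (Nat.beq c 2) [⟨13, -1, 1⟩] []))) (cond (Nat.blt c 4) (cond (Nat.beq c 3) [⟨13, 1, 1⟩] []) (cond (Nat.blt c 5) (cond (Nat.beq c 4) [⟨13, 0, 1⟩] []) (cond (Nat.beq c 5) [⟨13, -1, 1⟩] [])))) (cond (Nat.blt c 39) (cond (Nat.blt c 32) (cond (Nat.beq c 25) [⟨6, 1, 1⟩] []) (cond (Nat.blt c 35) (cond (Nat.beq c 32) [⟨7,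 1, 1⟩] []) (cond (Nat.beq c 35) [⟨10, 1, 1⟩] []))) (cond (Nat.blt c 45) (cond (Nat.blt c 41) (cond (Nat.beq c 39) [⟨11, -1, 1⟩] []) (cond (Nat.beq c 41) [⟨12, 1, 1⟩] [])) (cond (Nat.blt c 46) (cond (Nat.beq c 45) [⟨15, 1, 1⟩] []) (cond (Nat.beq c 46) [⟨16, -1, 1⟩] []))))) (cond (Nat.blt c 68) (cond (Nat.blt c 62) (cond (Nat.blt c 54) (cond (Nat.beq c 53) [⟨18, 1, 1⟩] []) (cond (Nat.blt c 59) (cond (Nat.beq c 54) [⟨19, -1, 1⟩] []) (cond (Nat.beq c 59) [⟨21, 1, 1⟩] []))) (cond (Nat.blt c 65) (cond (Nat.blt c 64) (cond (Nat.beq c 62) [⟨24, -1, 1⟩] []) (cond (Nat.beq c 64) [⟨29, 1, 1⟩] [])) (cond (Nat.blt c 67) (cond (Nat.beq c 65) [⟨30, -1, 1⟩] []) (cond (Nat.beq c 67) [⟨37, 1, 1⟩] [])))) (cond (Nat.blt c 72) (cond (Nat.blt c 70) (cond (Nat.beq c 68) [⟨38, -1, 1⟩] [])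 (cond (Nat.blt c 71) (cond (Nat.beq c 70) [⟨13, -1, 2⟩, ⟨0, -1, 1⟩, ⟨1, -1, 1⟩, ⟨2, -1, 1⟩, ⟨3, -2, 1⟩, ⟨4, -1, 1⟩, ⟨5, 0, 1⟩] []) (cond (Nat.beq c 71) [⟨42, -1, 1⟩] []))) (cond (Nat.blt c 76) (cond (Nat.blt c 73) (cond (Nat.beq c 72) [⟨44, 1, 1⟩] []) (cond (Nat.beq c 73) [⟨48, -1, 1⟩] [])) (cond (Nat.blt c 77) (cond (Nat.beq c 76) [⟨51, -1, 1⟩] []) (cond (Nat.beq c 77) [⟨58, -1, 1⟩] [])))))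

/-- Compiled columns of `x_8` for type E6. -/
def colsE6_8 (c : ℕ) : List CEnt :=
  cond (Nat.blt c 52) (cond (Nat.blt c 24) (cond (Nat.blt c 3) (cond (Nat.blt c 1) (cond (Nat.beq c 0) [⟨14, 1, 1⟩] []) (cond (Nat.blt c 2) (cond (Nat.beq c 1) [⟨14, 1, 1⟩] []) (cond (Nat.beq c 2) [⟨14, 0, 1⟩] []))) (cond (Nat.blt c 4) (cond (Nat.beq c 3) [⟨14, -1, 1⟩] []) (cond (Nat.blt c 5) (cond (Nat.beq c 4) [⟨14, 0, 1⟩] []) (cond (Nat.beq c 5) [⟨14, 1, 1⟩] [])))) (cond (Nat.blt c 37) (cond (Nat.blt c 33) (cond (Nat.beq c 24) [⟨6, 1, 1⟩] []) (cond (Nat.blt c 34) (cond (Nat.beq c 33) [⟨8, -1, 1⟩] []) (cond (Nat.beq c 34) [⟨9, -1, 1⟩] []))) (cond (Nat.blt c 42) (cond (Nat.blt c 38) (cond (Nat.beq c 37) [⟨11, 1, 1⟩] []) (cond (Nat.beq c 38) [⟨12, 1, 1⟩] [])) (cond (Nat.blt c 44) (cond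 (Nat.beq c 42) [⟨15, 1, 1⟩] []) (cond (Nat.beq c 44) [⟨16, 1, 1⟩] []))))) (cond (Nat.blt c 68) (cond (Nat.blt c 62) (cond (Nat.blt c 55) (cond (Nat.beq c 52) [⟨17, 1, 1⟩] []) (cond (Nat.blt c 58) (cond (Nat.beq c 55) [⟨20, -1, 1⟩] []) (cond (Nat.beq c 58) [⟨21, 1, 1⟩] []))) (cond (Nat.blt c 66) (cond (Nat.blt c 63) (cond (Nat.beq c 62) [⟨25, -1, 1⟩] []) (cond (Nat.beq c 63) [⟨28, 1, 1⟩] [])) (cond (Nat.blt c 67) (cond (Nat.beq c 66) [⟨31, -1, 1⟩] []) (cond (Nat.beq c 67) [⟨39, -1, 1⟩] [])))) (cond (Nat.blt c 72) (cond (Nat.blt c 69) (cond (Nat.beq c 68) [⟨41, -1, 1⟩] []) (cond (Nat.blt c 71) (cond (Nat.beq c 69) [⟨14, -1, 2⟩, ⟨0, -1, 1⟩, ⟨1, -1, 1⟩, ⟨2, -1, 1⟩, ⟨3, -1, 1⟩, ⟨4, -1, 1⟩, ⟨5, -1, 1⟩] []) (cond (Nat.beq c 71) [⟨45, -1, 1⟩] []))) (cond (Nat.blt c 75) (cond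 (Nat.blt c 74) (cond (Nat.beq c 72) [⟨46, -1, 1⟩] []) (cond (Nat.beq c 74) [⟨49, 1, 1⟩] [])) (cond (Nat.blt c 77) (cond (Nat.beq c 75) [⟨50, 1, 1⟩] []) (cond (Nat.beq c 77) [⟨59, -1, 1⟩] [])))))

/-- Compiled columns of `x_9` for type E6. -/
def colsE6_9 (c : ℕ) : List CEnt :=
  cond (Nat.blt c 52) (cond (Nat.blt c 23) (cond (Nat.blt c 3) (cond (Nat.blt c 1) (cond (Nat.beq c 0) [⟨15, 1, 1⟩] []) (cond (Nat.blt c 2) (cond (Nat.beq c 1) [⟨15, 1, 1⟩] []) (cond (Nat.beq c 2) [⟨15, 0, 1⟩] []))) (cond (Nat.blt c 4) (cond (Nat.beq c 3) [⟨15, -1, 1⟩] []) (cond (Nat.blt c 5) (cond (Nat.beq c 4) [⟨15, 1, 1⟩] []) (cond (Nat.beq c 5) [⟨15, -1, 1⟩] [])))) (cond (Nat.blt c 36) (cond (Nat.blt c 32) (cond (Nat.beq c 23) [⟨6, -1, 1⟩] []) (cond (Nat.blt c 34) (cond (Nat.beq c 32) [⟨8,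 1, 1⟩] []) (cond (Nat.beq c 34) [⟨10, -1, 1⟩] []))) (cond (Nat.blt c 41) (cond (Nat.blt c 38) (cond (Nat.beq c 36) [⟨11, -1, 1⟩] []) (cond (Nat.beq c 38) [⟨13, 1, 1⟩] [])) (cond (Nat.blt c 43) (cond (Nat.beq c 41) [⟨14, 1, 1⟩] []) (cond (Nat.beq c 43) [⟨16, 1, 1⟩] []))))) (cond (Nat.blt c 68) (cond (Nat.blt c 62) (cond (Nat.blt c 54) (cond (Nat.beq c 52) [⟨18, 1, 1⟩] []) (cond (Nat.blt c 57) (cond (Nat.beq c 54) [⟨20, -1, 1⟩] []) (cond (Nat.beq c 57) [⟨21, 1, 1⟩] []))) (cond (Nat.blt c 65) (cond (Nat.blt c 63) (cond (Nat.beq c 62) [⟨26, -1, 1⟩] []) (cond (Nat.beq c 63) [⟨29, 1, 1⟩] [])) (cond (Nat.blt c 67) (cond (Nat.beq c 65) [⟨31, -1, 1⟩] []) (cond (Nat.beq c 67) [⟨40, -1, 1⟩] [])))) (cond (Nat.blt c 72) (cond (Nat.blt c 69) (cond (Nat.beq c 68) [⟨15, -1, 2⟩, ⟨0,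 -1, 1⟩, ⟨1, -1, 1⟩, ⟨2, -1, 1⟩, ⟨3, -1, 1⟩, ⟨4, -1, 1⟩, ⟨5, 0, 1⟩] []) (cond (Nat.blt c 70) (cond (Nat.beq c 69) [⟨42, -1, 1⟩] []) (cond (Nat.beq c 70) [⟨45, -1, 1⟩] []))) (cond (Nat.blt c 75) (cond (Nat.blt c 73) (cond (Nat.beq c 72) [⟨47, 1, 1⟩] []) (cond (Nat.beq c 73) [⟨49, 1, 1⟩] [])) (cond (Nat.blt c 77) (cond (Nat.beq c 75) [⟨51, -1, 1⟩] []) (cond (Nat.beq c 77) [⟨60, 1, 1⟩] [])))))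

/-- Compiled columns of `x_10` for type E6. -/
def colsE6_10 (c : ℕ) : List CEnt :=
  cond (Nat.blt c 52) (cond (Nat.blt c 22) (cond (Nat.blt c 3) (cond (Nat.blt c 1) (cond (Nat.beq c 0) [⟨16, 1, 1⟩] []) (cond (Nat.blt c 2) (cond (Nat.beq c 1) [⟨16, 1, 1⟩] []) (cond (Nat.beq c 2) [⟨16, 0, 1⟩] []))) (cond (Nat.blt c 4) (cond (Nat.beq c 3) [⟨16, 0, 1⟩] []) (cond (Nat.blt c 5) (cond (Nat.beq c 4) [⟨16, -1, 1⟩] []) (cond (Nat.beq c 5) [⟨16, 0, 1⟩] [])))) (cond (Nat.blt c 36) (cond (Nat.blt c 32) (cond (Nat.beq c 22) [⟨6, 1, 1⟩] []) (cond (Nat.blt c 33) (cond (Nat.beq c 32) [⟨9, 1, 1⟩] []) (cond (Nat.beq c 33) [⟨10, 1, 1⟩] []))) (cond (Nat.blt c 39) (cond (Nat.blt c 37) (cond (Nat.beq c 36) [⟨12, -1, 1⟩] []) (cond (Nat.beq c 37) [⟨13, -1, 1⟩] [])) (cond (Nat.blt c 40) (cond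 (Nat.beq c 39) [⟨14, 1, 1⟩] []) (cond (Nat.beq c 40) [⟨15, 1, 1⟩] []))))) (cond (Nat.blt c 68) (cond (Nat.blt c 62) (cond (Nat.blt c 53) (cond (Nat.beq c 52) [⟨19, 1, 1⟩] []) (cond (Nat.blt c 56) (cond (Nat.beq c 53) [⟨20, -1, 1⟩] []) (cond (Nat.beq c 56) [⟨21, 1, 1⟩] []))) (cond (Nat.blt c 64) (cond (Nat.blt c 63) (cond (Nat.beq c 62) [⟨27, -1, 1⟩] []) (cond (Nat.beq c 63) [⟨30, 1, 1⟩] [])) (cond (Nat.blt c 67) (cond (Nat.beq c 64) [⟨31, -1, 1⟩] []) (cond (Nat.beq c 67) [⟨16, -1, 2⟩, ⟨0, -1, 1⟩, ⟨1, -1, 1⟩, ⟨2, -1, 1⟩, ⟨3, -1, 1⟩, ⟨4, 0, 1⟩, ⟨5, 0, 1⟩] [])))) (cond (Nat.blt c 71) (cond (Nat.blt c 69) (cond (Nat.beq c 68) [⟨43, -1, 1⟩] []) (cond (Nat.blt c 70) (cond (Nat.beq c 69) [⟨44, -1, 1⟩] []) (cond (Nat.beq c 70) [⟨46, 1, 1⟩] []))) (cond (Nat.blt c 74) (cond (Nat.blt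 c 73) (cond (Nat.beq c 71) [⟨47, 1, 1⟩] []) (cond (Nat.beq c 73) [⟨50, -1, 1⟩] [])) (cond (Nat.blt c 77) (cond (Nat.beq c 74) [⟨51, -1, 1⟩] []) (cond (Nat.beq c 77) [⟨61, -1, 1⟩] [])))))

/-- Compiled columns of `x_11` for type E6. -/
def colsE6_11 (c : ℕ) : List CEnt :=
  cond (Nat.blt c 44) (cond (Nat.blt c 24) (cond (Nat.blt c 3) (cond (Nat.blt c 1) (cond (Nat.beq c 0) [⟨17, 1, 1⟩] []) (cond (Nat.blt c 2) (cond (Nat.beq c 1) [⟨17, -1, 1⟩] []) (cond (Nat.beq c 2) [⟨17, 0, 1⟩] []))) (cond (Nat.blt c 4) (cond (Nat.beq c 3) [⟨17, 0, 1⟩] []) (cond (Nat.blt c 5) (cond (Nat.beq c 4) [⟨17, 0, 1⟩] []) (cond (Nat.beq c 5) [⟨17, 1, 1⟩] [])))) (cond (Nat.blt c 29) (cond (Nat.blt c 26) (cond (Nat.beq c 24) [⟨7, 1, 1⟩] []) (cond (Nat.blt c 27) (cond (Nat.beq c 26) [⟨8, 1, 1⟩]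 []) (cond (Nat.beq c 27) [⟨9, 1, 1⟩] []))) (cond (Nat.blt c 31) (cond (Nat.blt c 30) (cond (Nat.beq c 29) [⟨11, 1, 1⟩] []) (cond (Nat.beq c 30) [⟨12, 1, 1⟩] [])) (cond (Nat.blt c 42) (cond (Nat.beq c 31) [⟨14, 1, 1⟩] []) (cond (Nat.beq c 42) [⟨18, 1, 1⟩] []))))) (cond (Nat.blt c 66) (cond (Nat.blt c 62) (cond (Nat.blt c 47) (cond (Nat.beq c 44) [⟨19, 1, 1⟩] []) (cond (Nat.blt c 51) (cond (Nat.beq c 47) [⟨20, 1, 1⟩] []) (cond (Nat.beq c 51) [⟨21, 1, 1⟩] []))) (cond (Nat.blt c 64) (cond (Nat.blt c 63) (cond (Nat.beq c 62) [⟨32, -1, 1⟩] []) (cond (Nat.beq c 63) [⟨36, -1, 1⟩] [])) (cond (Nat.blt c 65) (cond (Nat.beq c 64) [⟨39, -1, 1⟩] []) (cond (Nat.beq c 65) [⟨41, -1, 1⟩] [])))) (cond (Nat.blt c 72) (cond (Nat.blt c 69) (cond (Nat.beq c 66) [⟨17, -1, 2⟩, ⟨0, -1, 1⟩, ⟨1,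 0, 1⟩, ⟨2, -1, 1⟩, ⟨3, -1, 1⟩, ⟨4, -1, 1⟩, ⟨5, -1, 1⟩] []) (cond (Nat.blt c 71) (cond (Nat.beq c 69) [⟨52, -1, 1⟩] []) (cond (Nat.beq c 71) [⟨53, -1, 1⟩] []))) (cond (Nat.blt c 75) (cond (Nat.blt c 74) (cond (Nat.beq c 72) [⟨54, -1, 1⟩] []) (cond (Nat.beq c 74) [⟨56, -1, 1⟩] [])) (cond (Nat.blt c 76) (cond (Nat.beq c 75) [⟨57, -1, 1⟩] []) (cond (Nat.beq c 76) [⟨59, -1, 1⟩] [])))))

/-- Compiled columns of `x_12` for type E6. -/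
def colsE6_12 (c : ℕ) : List CEnt :=
  cond (Nat.blt c 43) (cond (Nat.blt c 23) (cond (Nat.blt c 3) (cond (Nat.blt c 1) (cond (Nat.beq c 0) [⟨18, 1, 1⟩] []) (cond (Nat.blt c 2) (cond (Nat.beq c 1) [⟨18, -1, 1⟩] []) (cond (Nat.beq c 2) [⟨18, 0, 1⟩] []))) (cond (Nat.blt c 4) (cond (Nat.beq c 3) [⟨18, 0, 1⟩] []) (cond (Nat.blt c 5) (cond (Nat.beq c 4) [⟨18, 1, 1⟩] []) (cond (Nat.beq c 5) [⟨18, -1, 1⟩] [])))) (cond (Nat.blt c 28) (cond (Nat.blt c 25) (cond (Nat.beq c 23) [⟨7, -1, 1⟩] []) (cond (Nat.blt c 27) (cond (Nat.beq c 25) [⟨8, -1, 1⟩] []) (cond (Nat.beq c 27) [⟨10, 1, 1⟩] []))) (cond (Nat.blt c 31) (cond (Nat.blt c 30) (cond (Nat.beq c 28) [⟨11, -1, 1⟩] []) (cond (Nat.beq c 30) [⟨13, 1, 1⟩] [])) (cond (Nat.blt c 41) (cond (Nat.beq c 31) [⟨15, 1, 1⟩] []) (cond (Nat.beq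 c 41) [⟨17, 1, 1⟩] []))))) (cond (Nat.blt c 66) (cond (Nat.blt c 62) (cond (Nat.blt c 46) (cond (Nat.beq c 43) [⟨19, 1, 1⟩] []) (cond (Nat.blt c 50) (cond (Nat.beq c 46) [⟨20, 1, 1⟩] []) (cond (Nat.beq c 50) [⟨21, 1, 1⟩] []))) (cond (Nat.blt c 64) (cond (Nat.blt c 63) (cond (Nat.beq c 62) [⟨33, -1, 1⟩] []) (cond (Nat.beq c 63) [⟨37, -1, 1⟩] [])) (cond (Nat.blt c 65) (cond (Nat.beq c 64) [⟨40, -1, 1⟩] []) (cond (Nat.beq c 65) [⟨18, -1, 2⟩, ⟨0, -1, 1⟩, ⟨1, 0, 1⟩, ⟨2, -1, 1⟩, ⟨3, -1, 1⟩, ⟨4, -1, 1⟩, ⟨5, 0, 1⟩] [])))) (cond (Nat.blt c 72) (cond (Nat.blt c 68) (cond (Nat.beq c 66) [⟨42, -1, 1⟩] []) (cond (Nat.blt c 70) (cond (Nat.beq c 68) [⟨52, -1, 1⟩] []) (cond (Nat.beq c 70) [⟨53, -1, 1⟩] []))) (cond (Nat.blt c 75) (cond (Nat.blt c 73) (cond (Nat.beq c 72) [⟨55, 1, 1⟩]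 []) (cond (Nat.beq c 73) [⟨56, -1, 1⟩] [])) (cond (Nat.blt c 76) (cond (Nat.beq c 75) [⟨58, 1, 1⟩] []) (cond (Nat.beq c 76) [⟨60, 1, 1⟩] [])))))

/-- Compiled columns of `x_13` for type E6. -/
def colsE6_13 (c : ℕ) : List CEnt :=
  cond (Nat.blt c 40) (cond (Nat.blt c 22) (cond (Nat.blt c 3) (cond (Nat.blt c 1) (cond (Nat.beq c 0) [⟨19, 1, 1⟩] []) (cond (Nat.blt c 2) (cond (Nat.beq c 1) [⟨19, -1, 1⟩] []) (cond (Nat.beq c 2) [⟨19, 0, 1⟩] []))) (cond (Nat.blt c 4) (cond (Nat.beq c 3) [⟨19, 1, 1⟩] []) (cond (Nat.blt c 5) (cond (Nat.beq c 4) [⟨19, -1, 1⟩] []) (cond (Nat.beq c 5) [⟨19, 0, 1⟩] [])))) (cond (Nat.blt c 28) (cond (Nat.blt c 25) (cond (Nat.beq c 22) [⟨7, 1, 1⟩] []) (cond (Nat.blt c 26) (cond (Nat.beq c 25) [⟨9, -1, 1⟩] []) (cond (Nat.beq c 26) [⟨10, -1, 1⟩] [])))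 (cond (Nat.blt c 31) (cond (Nat.blt c 29) (cond (Nat.beq c 28) [⟨12, -1, 1⟩] []) (cond (Nat.beq c 29) [⟨13, -1, 1⟩] [])) (cond (Nat.blt c 39) (cond (Nat.beq c 31) [⟨16, 1, 1⟩] []) (cond (Nat.beq c 39) [⟨17, 1, 1⟩] []))))) (cond (Nat.blt c 66) (cond (Nat.blt c 62) (cond (Nat.blt c 45) (cond (Nat.beq c 40) [⟨18, 1, 1⟩] []) (cond (Nat.blt c 49) (cond (Nat.beq c 45) [⟨20, 1, 1⟩] []) (cond (Nat.beq c 49) [⟨21, 1, 1⟩] []))) (cond (Nat.blt c 64) (cond (Nat.blt c 63) (cond (Nat.beq c 62) [⟨34, -1, 1⟩] []) (cond (Nat.beq c 63) [⟨38, -1, 1⟩] [])) (cond (Nat.blt c 65) (cond (Nat.beq c 64) [⟨19, -1, 2⟩, ⟨0, -1, 1⟩, ⟨1, 0, 1⟩, ⟨2, -1, 1⟩, ⟨3, -1, 1⟩, ⟨4, 0, 1⟩, ⟨5, 0, 1⟩] []) (cond (Nat.beq c 65) [⟨43, -1, 1⟩] [])))) (cond (Nat.blt c 71) (cond (Nat.blt c 67) (cond (Nat.beq c 66)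 [⟨44, -1, 1⟩] []) (cond (Nat.blt c 70) (cond (Nat.beq c 67) [⟨52, -1, 1⟩] []) (cond (Nat.beq c 70) [⟨54, 1, 1⟩] []))) (cond (Nat.blt c 74) (cond (Nat.blt c 73) (cond (Nat.beq c 71) [⟨55, 1, 1⟩] []) (cond (Nat.beq c 73) [⟨57, 1, 1⟩] [])) (cond (Nat.blt c 76) (cond (Nat.beq c 74) [⟨58, 1, 1⟩] []) (cond (Nat.beq c 76) [⟨61, -1, 1⟩] [])))))

/-- Compiled columns of `x_14` for type E6. -/
def colsE6_14 (c : ℕ) : List CEnt :=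
  cond (Nat.blt c 37) (cond (Nat.blt c 22) (cond (Nat.blt c 3) (cond (Nat.blt c 1) (cond (Nat.beq c 0) [⟨20, 1, 1⟩] []) (cond (Nat.blt c 2) (cond (Nat.beq c 1) [⟨20, 0, 1⟩] []) (cond (Nat.beq c 2) [⟨20, 1, 1⟩] []))) (cond (Nat.blt c 4) (cond (Nat.beq c 3) [⟨20, -1, 1⟩] []) (cond (Nat.blt c 5) (cond (Nat.beq c 4) [⟨20, 0, 1⟩] []) (cond (Nat.beq c 5) [⟨20, 0, 1⟩] [])))) (cond (Nat.blt c 28) (cond (Nat.blt c 23) (cond (Nat.beq c 22) [⟨8, 1, 1⟩] []) (cond (Nat.blt c 24) (cond (Nat.beq c 23) [⟨9, 1, 1⟩] []) (cond (Nat.beq c 24) [⟨10, 1, 1⟩] []))) (cond (Nat.blt c 30) (cond (Nat.blt c 29) (cond (Nat.beq c 28) [⟨14, -1, 1⟩] []) (cond (Nat.beq c 29) [⟨15, -1, 1⟩] [])) (cond (Nat.blt c 36) (cond (Nat.beq c 30) [⟨16, -1, 1⟩] []) (cond (Nat.beq c 36) [⟨17, 1, 1⟩] []))))) (cond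 (Nat.blt c 66) (cond (Nat.blt c 62) (cond (Nat.blt c 38) (cond (Nat.beq c 37) [⟨18, 1, 1⟩] []) (cond (Nat.blt c 48) (cond (Nat.beq c 38) [⟨19, 1, 1⟩] []) (cond (Nat.beq c 48) [⟨21, 1, 1⟩] []))) (cond (Nat.blt c 64) (cond (Nat.blt c 63) (cond (Nat.beq c 62) [⟨35, -1, 1⟩] []) (cond (Nat.beq c 63) [⟨20, -1, 2⟩, ⟨0, -1, 1⟩, ⟨1, 0, 1⟩, ⟨2, -1, 1⟩, ⟨3, 0, 1⟩, ⟨4, 0, 1⟩, ⟨5, 0, 1⟩] [])) (cond (Nat.blt c 65) (cond (Nat.beq c 64) [⟨45, -1, 1⟩] []) (cond (Nat.beq c 65) [⟨46, -1, 1⟩] [])))) (cond (Nat.blt c 69) (cond (Nat.blt c 67) (cond (Nat.beq c 66) [⟨47, -1, 1⟩] []) (cond (Nat.blt c 68) (cond (Nat.beq c 67) [⟨53, 1, 1⟩] []) (cond (Nat.beq c 68) [⟨54, 1, 1⟩] []))) (cond (Nat.blt c 74) (cond (Nat.blt c 73) (cond (Nat.beq c 69) [⟨55, 1, 1⟩] []) (cond (Nat.beq c 73) [⟨59, -1,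 1⟩] [])) (cond (Nat.blt c 75) (cond (Nat.beq c 74) [⟨60, -1, 1⟩] []) (cond (Nat.beq c 75) [⟨61, -1, 1⟩] [])))))

/-- Compiled columns of `x_15` for type E6. -/
def colsE6_15 (c : ℕ) : List CEnt :=
  cond (Nat.blt c 33) (cond (Nat.blt c 22) (cond (Nat.blt c 3) (cond (Nat.blt c 1) (cond (Nat.beq c 0) [⟨21, 2, 1⟩] []) (cond (Nat.blt c 2) (cond (Nat.beq c 1) [⟨21, 0, 1⟩] []) (cond (Nat.beq c 2) [⟨21, -1, 1⟩] []))) (cond (Nat.blt c 4) (cond (Nat.beq c 3) [⟨21, 0, 1⟩] []) (cond (Nat.blt c 5) (cond (Nat.beq c 4) [⟨21, 0, 1⟩] []) (cond (Nat.beq c 5) [⟨21, 0, 1⟩] [])))) (cond (Nat.blt c 25) (cond (Nat.blt c 23) (cond (Nat.beq c 22) [⟨11, 1, 1⟩] []) (cond (Nat.blt c 24) (cond (Nat.beq c 23) [⟨12, 1, 1⟩] []) (cond (Nat.beq c 24) [⟨13, 1, 1⟩] []))) (cond (Nat.blt c 27) (cond (Nat.blt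 c 26) (cond (Nat.beq c 25) [⟨14, 1, 1⟩] []) (cond (Nat.beq c 26) [⟨15, 1, 1⟩] [])) (cond (Nat.blt c 32) (cond (Nat.beq c 27) [⟨16, 1, 1⟩] []) (cond (Nat.beq c 32) [⟨17, 1, 1⟩] []))))) (cond (Nat.blt c 66) (cond (Nat.blt c 62) (cond (Nat.blt c 34) (cond (Nat.beq c 33) [⟨18, 1, 1⟩] []) (cond (Nat.blt c 35) (cond (Nat.beq c 34) [⟨19, 1, 1⟩] []) (cond (Nat.beq c 35) [⟨20, 1, 1⟩] []))) (cond (Nat.blt c 64) (cond (Nat.blt c 63) (cond (Nat.beq c 62) [⟨21, -1, 2⟩, ⟨0, -1, 1⟩, ⟨1, 0, 1⟩, ⟨2, 0, 1⟩, ⟨3, 0, 1⟩, ⟨4, 0, 1⟩, ⟨5, 0, 1⟩] []) (cond (Nat.beq c 63) [⟨48, -1, 1⟩] [])) (cond (Nat.blt c 65) (cond (Nat.beq c 64) [⟨49, -1, 1⟩] []) (cond (Nat.beq c 65) [⟨50, -1, 1⟩] [])))) (cond (Nat.blt c 69) (cond (Nat.blt c 67) (cond (Nat.beq c 66) [⟨51, -1, 1⟩] []) (cond (Nat.blt c 68)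 (cond (Nat.beq c 67) [⟨56, -1, 1⟩] []) (cond (Nat.beq c 68) [⟨57, -1, 1⟩] []))) (cond (Nat.blt c 71) (cond (Nat.blt c 70) (cond (Nat.beq c 69) [⟨58, -1, 1⟩] []) (cond (Nat.beq c 70) [⟨59, -1, 1⟩] [])) (cond (Nat.blt c 72) (cond (Nat.beq c 71) [⟨60, -1, 1⟩] []) (cond (Nat.beq c 72) [⟨61, -1, 1⟩] [])))))

/-- Compiled columns of `x_16` for type E6. -/
def colsE6_16 (c : ℕ) : List CEnt :=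
  cond (Nat.blt c 47) (cond (Nat.blt c 16) (cond (Nat.blt c 3) (cond (Nat.blt c 1) (cond (Nat.beq c 0) [⟨22, -1, 1⟩] []) (cond (Nat.blt c 2) (cond (Nat.beq c 1) [⟨22, 0, 1⟩] []) (cond (Nat.beq c 2) [⟨22, 0, 1⟩] []))) (cond (Nat.blt c 4) (cond (Nat.beq c 3) [⟨22, 0, 1⟩] []) (cond (Nat.blt c 5) (cond (Nat.beq c 4) [⟨22, 1, 1⟩] []) (cond (Nat.beq c 5) [⟨22, 0, 1⟩] [])))) (cond (Nat.blt c 21) (cond (Nat.blt c 19) (cond (Nat.beq c 16) [⟨6, -1, 1⟩] []) (cond (Nat.blt c 20) (cond (Nat.beq c 19) [⟨7, -1, 1⟩] []) (cond (Nat.beq c 20) [⟨8, -1, 1⟩] []))) (cond (Nat.blt c 44) (cond (Nat.blt c 43) (cond (Nat.beq c 21) [⟨11, -1, 1⟩] []) (cond (Nat.beq c 43) [⟨23, 1, 1⟩] [])) (cond (Nat.blt c 46) (cond (Nat.beq c 44) [⟨24, -1, 1⟩] []) (cond (Nat.beq c 46) [⟨25, 1, 1⟩] []))))) (cond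 (Nat.blt c 59) (cond (Nat.blt c 54) (cond (Nat.blt c 50) (cond (Nat.beq c 47) [⟨26, -1, 1⟩] []) (cond (Nat.blt c 51) (cond (Nat.beq c 50) [⟨28, 1, 1⟩] []) (cond (Nat.beq c 51) [⟨29, -1, 1⟩] []))) (cond (Nat.blt c 57) (cond (Nat.blt c 55) (cond (Nat.beq c 54) [⟨32, 1, 1⟩] []) (cond (Nat.beq c 55) [⟨33, -1, 1⟩] [])) (cond (Nat.blt c 58) (cond (Nat.beq c 57) [⟨36, 1, 1⟩] []) (cond (Nat.beq c 58) [⟨37, -1, 1⟩] [])))) (cond (Nat.blt c 72) (cond (Nat.blt c 60) (cond (Nat.beq c 59) [⟨39, 1, 1⟩] []) (cond (Nat.blt c 61) (cond (Nat.beq c 60) [⟨40, -1, 1⟩] []) (cond (Nat.beq c 61) [⟨22, -1, 2⟩, ⟨0, 0, 1⟩, ⟨1, -1, 1⟩, ⟨2, -1, 1⟩, ⟨3, -2, 1⟩, ⟨4, -2, 1⟩, ⟨5, -1, 1⟩] []))) (cond (Nat.blt c 76) (cond (Nat.blt c 75) (cond (Nat.beq c 72) [⟨62, 1, 1⟩] []) (cond (Nat.beq c 75) [⟨63,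 1, 1⟩] [])) (cond (Nat.blt c 77) (cond (Nat.beq c 76) [⟨64, 1, 1⟩] []) (cond (Nat.beq c 77) [⟨67, 1, 1⟩] [])))))

/-- Compiled columns of `x_17` for type E6. -/
def colsE6_17 (c : ℕ) : List CEnt :=
  cond (Nat.blt c 47) (cond (Nat.blt c 15) (cond (Nat.blt c 3) (cond (Nat.blt c 1) (cond (Nat.beq c 0) [⟨23, -1, 1⟩] []) (cond (Nat.blt c 2) (cond (Nat.beq c 1) [⟨23, 0, 1⟩] []) (cond (Nat.beq c 2) [⟨23, 0, 1⟩] []))) (cond (Nat.blt c 4) (cond (Nat.beq c 3) [⟨23, 1, 1⟩] []) (cond (Nat.blt c 5) (cond (Nat.beq c 4) [⟨23, -1, 1⟩] []) (cond (Nat.beq c 5) [⟨23, 1, 1⟩] [])))) (cond (Nat.blt c 21) (cond (Nat.blt c 18) (cond (Nat.beq c 15) [⟨6, 1, 1⟩] []) (cond (Nat.blt c 20) (cond (Nat.beq c 18) [⟨7, 1, 1⟩] []) (cond (Nat.beq c 20) [⟨9, -1, 1⟩] []))) (cond (Nat.blt c 42) (cond (Nat.blt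 c 40) (cond (Nat.beq c 21) [⟨12, -1, 1⟩] []) (cond (Nat.beq c 40) [⟨22, 1, 1⟩] [])) (cond (Nat.blt c 45) (cond (Nat.beq c 42) [⟨24, 1, 1⟩] []) (cond (Nat.beq c 45) [⟨25, 1, 1⟩] []))))) (cond (Nat.blt c 59) (cond (Nat.blt c 53) (cond (Nat.blt c 49) (cond (Nat.beq c 47) [⟨27, -1, 1⟩] []) (cond (Nat.blt c 51) (cond (Nat.beq c 49) [⟨28, 1, 1⟩] []) (cond (Nat.beq c 51) [⟨30, -1, 1⟩] []))) (cond (Nat.blt c 56) (cond (Nat.blt c 55) (cond (Nat.beq c 53) [⟨32, 1, 1⟩] []) (cond (Nat.beq c 55) [⟨34, -1, 1⟩] [])) (cond (Nat.blt c 58) (cond (Nat.beq c 56) [⟨36, 1, 1⟩] []) (cond (Nat.beq c 58) [⟨38, -1, 1⟩] [])))) (cond (Nat.blt c 71) (cond (Nat.blt c 60) (cond (Nat.beq c 59) [⟨41, -1, 1⟩] []) (cond (Nat.blt c 61) (cond (Nat.beq c 60) [⟨23, -1, 2⟩, ⟨0, 0, 1⟩, ⟨1, -1, 1⟩, ⟨2, -1,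 1⟩, ⟨3, -2, 1⟩, ⟨4, -1, 1⟩, ⟨5, -1, 1⟩] []) (cond (Nat.beq c 61) [⟨43, -1, 1⟩] []))) (cond (Nat.blt c 76) (cond (Nat.blt c 74) (cond (Nat.beq c 71) [⟨62, 1, 1⟩] []) (cond (Nat.beq c 74) [⟨63, 1, 1⟩] [])) (cond (Nat.blt c 77) (cond (Nat.beq c 76) [⟨65, -1, 1⟩] []) (cond (Nat.beq c 77) [⟨68, -1, 1⟩] [])))))

/-- Compiled columns of `x_18` for type E6. -/
def colsE6_18 (c : ℕ) : List CEnt :=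
  cond (Nat.blt c 46) (cond (Nat.blt c 14) (cond (Nat.blt c 3) (cond (Nat.blt c 1) (cond (Nat.beq c 0) [⟨24, -1, 1⟩] []) (cond (Nat.blt c 2) (cond (Nat.beq c 1) [⟨24, 0, 1⟩] []) (cond (Nat.beq c 2) [⟨24, 0, 1⟩] []))) (cond (Nat.blt c 4) (cond (Nat.beq c 3) [⟨24, 1, 1⟩] []) (cond (Nat.blt c 5) (cond (Nat.beq c 4) [⟨24, 0, 1⟩] []) (cond (Nat.beq c 5) [⟨24, -1, 1⟩] [])))) (cond (Nat.blt c 21) (cond (Nat.blt c 17) (cond (Nat.beq c 14) [⟨6, -1, 1⟩] []) (cond (Nat.blt c 20) (cond (Nat.beq c 17) [⟨7, -1, 1⟩] []) (cond (Nat.beq c 20) [⟨10, -1, 1⟩] []))) (cond (Nat.blt c 41) (cond (Nat.blt c 39) (cond (Nat.beq c 21) [⟨13, -1, 1⟩] []) (cond (Nat.beq c 39) [⟨22, -1, 1⟩] [])) (cond (Nat.blt c 45) (cond (Nat.beq c 41) [⟨23, 1, 1⟩] []) (cond (Nat.beq c 45) [⟨26, 1, 1⟩] []))))) (cond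 (Nat.blt c 59) (cond (Nat.blt c 53) (cond (Nat.blt c 49) (cond (Nat.beq c 46) [⟨27, -1, 1⟩] []) (cond (Nat.blt c 50) (cond (Nat.beq c 49) [⟨29, 1, 1⟩] []) (cond (Nat.beq c 50) [⟨30, -1, 1⟩] []))) (cond (Nat.blt c 56) (cond (Nat.blt c 54) (cond (Nat.beq c 53) [⟨33, 1, 1⟩] []) (cond (Nat.beq c 54) [⟨34, -1, 1⟩] [])) (cond (Nat.blt c 57) (cond (Nat.beq c 56) [⟨37, 1, 1⟩] []) (cond (Nat.beq c 57) [⟨38, -1, 1⟩] [])))) (cond (Nat.blt c 70) (cond (Nat.blt c 60) (cond (Nat.beq c 59) [⟨24, -1, 2⟩, ⟨0, 0, 1⟩, ⟨1, -1, 1⟩, ⟨2, -1, 1⟩, ⟨3, -2, 1⟩, ⟨4, -1, 1⟩, ⟨5, 0, 1⟩] []) (cond (Nat.blt c 61) (cond (Nat.beq c 60) [⟨42, -1, 1⟩] []) (cond (Nat.beq c 61) [⟨44, 1, 1⟩] []))) (cond (Nat.blt c 76) (cond (Nat.blt c 73) (cond (Nat.beq c 70) [⟨62, 1, 1⟩] []) (cond (Nat.beq c 73) [⟨63, 1,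 1⟩] [])) (cond (Nat.blt c 77) (cond (Nat.beq c 76) [⟨66, 1, 1⟩] []) (cond (Nat.beq c 77) [⟨69, 1, 1⟩] [])))))

/-- Compiled columns of `x_19` for type E6. -/
def colsE6_19 (c : ℕ) : List CEnt :=
  cond (Nat.blt c 44) (cond (Nat.blt c 13) (cond (Nat.blt c 3) (cond (Nat.blt c 1) (cond (Nat.beq c 0) [⟨25, -1, 1⟩] []) (cond (Nat.blt c 2) (cond (Nat.beq c 1) [⟨25, 1, 1⟩] []) (cond (Nat.beq c 2) [⟨25, 1, 1⟩] []))) (cond (Nat.blt c 4) (cond (Nat.beq c 3) [⟨25, -1, 1⟩] []) (cond (Nat.blt c 5) (cond (Nat.beq c 4) [⟨25, 0, 1⟩] []) (cond (Nat.beq c 5) [⟨25, 1, 1⟩] [])))) (cond (Nat.blt c 21) (cond (Nat.blt c 18) (cond (Nat.beq c 13) [⟨6, -1, 1⟩] []) (cond (Nat.blt c 19) (cond (Nat.beq c 18) [⟨8, 1, 1⟩] []) (cond (Nat.beq c 19) [⟨9, 1, 1⟩] []))) (cond (Nat.blt c 38) (cond (Nat.blt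 c 37) (cond (Nat.beq c 21) [⟨14, -1, 1⟩] []) (cond (Nat.beq c 37) [⟨22, 1, 1⟩] [])) (cond (Nat.blt c 42) (cond (Nat.beq c 38) [⟨23, 1, 1⟩] []) (cond (Nat.beq c 42) [⟨26, 1, 1⟩] []))))) (cond (Nat.blt c 58) (cond (Nat.blt c 52) (cond (Nat.blt c 48) (cond (Nat.beq c 44) [⟨27, 1, 1⟩] []) (cond (Nat.blt c 51) (cond (Nat.beq c 48) [⟨28, 1, 1⟩] []) (cond (Nat.beq c 51) [⟨31, -1, 1⟩] []))) (cond (Nat.blt c 56) (cond (Nat.blt c 55) (cond (Nat.beq c 52) [⟨32, 1, 1⟩] []) (cond (Nat.beq c 55) [⟨35, -1, 1⟩] [])) (cond (Nat.blt c 57) (cond (Nat.beq c 56) [⟨39, -1, 1⟩] []) (cond (Nat.beq c 57) [⟨41, -1, 1⟩] [])))) (cond (Nat.blt c 69) (cond (Nat.blt c 60) (cond (Nat.beq c 58) [⟨25, -1, 2⟩, ⟨0, 0, 1⟩, ⟨1, -1, 1⟩, ⟨2, -1, 1⟩, ⟨3, -1, 1⟩, ⟨4, -1, 1⟩, ⟨5, -1, 1⟩] []) (cond (Nat.blt c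 61) (cond (Nat.beq c 60) [⟨45, -1, 1⟩] []) (cond (Nat.beq c 61) [⟨46, -1, 1⟩] []))) (cond (Nat.blt c 75) (cond (Nat.blt c 74) (cond (Nat.beq c 69) [⟨62, 1, 1⟩] []) (cond (Nat.beq c 74) [⟨64, -1, 1⟩] [])) (cond (Nat.blt c 77) (cond (Nat.beq c 75) [⟨65, -1, 1⟩] []) (cond (Nat.beq c 77) [⟨70, 1, 1⟩] [])))))

/-- Compiled columns of `x_20` for type E6. -/
def colsE6_20 (c : ℕ) : List CEnt :=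
  cond (Nat.blt c 43) (cond (Nat.blt c 12) (cond (Nat.blt c 3) (cond (Nat.blt c 1) (cond (Nat.beq c 0) [⟨26, -1, 1⟩] []) (cond (Nat.blt c 2) (cond (Nat.beq c 1) [⟨26, 1, 1⟩] []) (cond (Nat.beq c 2) [⟨26, 1, 1⟩] []))) (cond (Nat.blt c 4) (cond (Nat.beq c 3) [⟨26, -1, 1⟩] []) (cond (Nat.blt c 5) (cond (Nat.beq c 4) [⟨26, 1, 1⟩] []) (cond (Nat.beq c 5) [⟨26, -1, 1⟩] [])))) (cond (Nat.blt c 21) (cond (Nat.blt c 17) (cond (Nat.beq c 12) [⟨6, 1, 1⟩] []) (cond (Nat.blt c 19) (cond (Nat.beq c 17) [⟨8, -1, 1⟩] []) (cond (Nat.beq c 19) [⟨10, 1, 1⟩] []))) (cond (Nat.blt c 38) (cond (Nat.blt c 36) (cond (Nat.beq c 21) [⟨15, -1, 1⟩] []) (cond (Nat.beq c 36) [⟨22, -1, 1⟩] [])) (cond (Nat.blt c 41) (cond (Nat.beq c 38) [⟨24, 1, 1⟩] []) (cond (Nat.beq c 41) [⟨25, 1, 1⟩] []))))) (cond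 (Nat.blt c 58) (cond (Nat.blt c 52) (cond (Nat.blt c 48) (cond (Nat.beq c 43) [⟨27, 1, 1⟩] []) (cond (Nat.blt c 50) (cond (Nat.beq c 48) [⟨29, 1, 1⟩] []) (cond (Nat.beq c 50) [⟨31, -1, 1⟩] []))) (cond (Nat.blt c 56) (cond (Nat.blt c 54) (cond (Nat.beq c 52) [⟨33, 1, 1⟩] []) (cond (Nat.beq c 54) [⟨35, -1, 1⟩] [])) (cond (Nat.blt c 57) (cond (Nat.beq c 56) [⟨40, -1, 1⟩] []) (cond (Nat.beq c 57) [⟨26, -1, 2⟩, ⟨0, 0, 1⟩, ⟨1, -1, 1⟩, ⟨2, -1, 1⟩, ⟨3, -1, 1⟩, ⟨4, -1, 1⟩, ⟨5, 0, 1⟩] [])))) (cond (Nat.blt c 68) (cond (Nat.blt c 59) (cond (Nat.beq c 58) [⟨42, -1, 1⟩] []) (cond (Nat.blt c 61) (cond (Nat.beq c 59) [⟨45, -1, 1⟩] []) (cond (Nat.beq c 61) [⟨47, 1, 1⟩] []))) (cond (Nat.blt c 75) (cond (Nat.blt c 73) (cond (Nat.beq c 68) [⟨62, 1, 1⟩] []) (cond (Nat.beq c 73) [⟨64, -1,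 1⟩] [])) (cond (Nat.blt c 77) (cond (Nat.beq c 75) [⟨66, 1, 1⟩] []) (cond (Nat.beq c 77) [⟨71, -1, 1⟩] [])))))

/-- Compiled columns of `x_21` for type E6. -/
def colsE6_21 (c : ℕ) : List CEnt :=
  cond (Nat.blt c 40) (cond (Nat.blt c 11) (cond (Nat.blt c 3) (cond (Nat.blt c 1) (cond (Nat.beq c 0) [⟨27, -1, 1⟩] []) (cond (Nat.blt c 2) (cond (Nat.beq c 1) [⟨27, 1, 1⟩] []) (cond (Nat.beq c 2) [⟨27, 1, 1⟩] []))) (cond (Nat.blt c 4) (cond (Nat.beq c 3) [⟨27, 0, 1⟩] []) (cond (Nat.blt c 5) (cond (Nat.beq c 4) [⟨27, -1, 1⟩] []) (cond (Nat.beq c 5) [⟨27, 0, 1⟩] [])))) (cond (Nat.blt c 21) (cond (Nat.blt c 17) (cond (Nat.beq c 11) [⟨6, -1, 1⟩] []) (cond (Nat.blt c 18) (cond (Nat.beq c 17) [⟨9, -1, 1⟩] []) (cond (Nat.beq c 18) [⟨10, -1, 1⟩] []))) (cond (Nat.blt c 37) (cond (Nat.blt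 c 36) (cond (Nat.beq c 21) [⟨16, -1, 1⟩] []) (cond (Nat.beq c 36) [⟨23, -1, 1⟩] [])) (cond (Nat.blt c 39) (cond (Nat.beq c 37) [⟨24, -1, 1⟩] []) (cond (Nat.beq c 39) [⟨25, 1, 1⟩] []))))) (cond (Nat.blt c 58) (cond (Nat.blt c 52) (cond (Nat.blt c 48) (cond (Nat.beq c 40) [⟨26, 1, 1⟩] []) (cond (Nat.blt c 49) (cond (Nat.beq c 48) [⟨30, 1, 1⟩] []) (cond (Nat.beq c 49) [⟨31, -1, 1⟩] []))) (cond (Nat.blt c 56) (cond (Nat.blt c 53) (cond (Nat.beq c 52) [⟨34, 1, 1⟩] []) (cond (Nat.beq c 53) [⟨35, -1, 1⟩] [])) (cond (Nat.blt c 57) (cond (Nat.beq c 56) [⟨27, -1, 2⟩, ⟨0, 0, 1⟩, ⟨1, -1, 1⟩, ⟨2, -1, 1⟩, ⟨3, -1, 1⟩, ⟨4, 0, 1⟩, ⟨5, 0, 1⟩] []) (cond (Nat.beq c 57) [⟨43, -1, 1⟩] [])))) (cond (Nat.blt c 67) (cond (Nat.blt c 59) (cond (Nat.beq c 58) [⟨44, -1, 1⟩] []) (cond (Nat.blt c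 60) (cond (Nat.beq c 59) [⟨46, 1, 1⟩] []) (cond (Nat.beq c 60) [⟨47, 1, 1⟩] []))) (cond (Nat.blt c 74) (cond (Nat.blt c 73) (cond (Nat.beq c 67) [⟨62, 1, 1⟩] []) (cond (Nat.beq c 73) [⟨65, 1, 1⟩] [])) (cond (Nat.blt c 77) (cond (Nat.beq c 74) [⟨66, 1, 1⟩] []) (cond (Nat.beq c 77) [⟨72, 1, 1⟩] [])))))

/-- Compiled columns of `x_22` for type E6. -/
def colsE6_22 (c : ℕ) : List CEnt :=
  cond (Nat.blt c 42) (cond (Nat.blt c 10) (cond (Nat.blt c 3) (cond (Nat.blt c 1) (cond (Nat.beq c 0) [⟨28, 0, 1⟩] []) (cond (Nat.blt c 2) (cond (Nat.beq c 1) [⟨28, 1, 1⟩] []) (cond (Nat.beq c 2) [⟨28, -1, 1⟩] []))) (cond (Nat.blt c 4) (cond (Nat.beq c 3) [⟨28, 0, 1⟩] []) (cond (Nat.blt c 5) (cond (Nat.beq c 4) [⟨28, 0, 1⟩] []) (cond (Nat.beq c 5) [⟨28, 1, 1⟩] [])))) (cond (Nat.blt c 20)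 (cond (Nat.blt c 18) (cond (Nat.beq c 10) [⟨6, 1, 1⟩] []) (cond (Nat.blt c 19) (cond (Nat.beq c 18) [⟨11, 1, 1⟩] []) (cond (Nat.beq c 19) [⟨12, 1, 1⟩] []))) (cond (Nat.blt c 34) (cond (Nat.blt c 33) (cond (Nat.beq c 20) [⟨14, 1, 1⟩] []) (cond (Nat.beq c 33) [⟨22, 1, 1⟩] [])) (cond (Nat.blt c 35) (cond (Nat.beq c 34) [⟨23, 1, 1⟩] []) (cond (Nat.beq c 35) [⟨25, 1, 1⟩] []))))) (cond (Nat.blt c 58) (cond (Nat.blt c 52) (cond (Nat.blt c 44) (cond (Nat.beq c 42) [⟨29, 1, 1⟩] []) (cond (Nat.blt c 47) (cond (Nat.beq c 44) [⟨30, 1, 1⟩] []) (cond (Nat.beq c 47) [⟨31, 1, 1⟩] []))) (cond (Nat.blt c 54) (cond (Nat.blt c 53) (cond (Nat.beq c 52) [⟨36, -1, 1⟩] []) (cond (Nat.beq c 53) [⟨39, -1, 1⟩] [])) (cond (Nat.blt c 55) (cond (Nat.beq c 54) [⟨41, -1, 1⟩] []) (cond (Nat.beq c 55)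 [⟨28, -1, 2⟩, ⟨0, 0, 1⟩, ⟨1, -1, 1⟩, ⟨2, 0, 1⟩, ⟨3, -1, 1⟩, ⟨4, -1, 1⟩, ⟨5, -1, 1⟩] [])))) (cond (Nat.blt c 69) (cond (Nat.blt c 60) (cond (Nat.beq c 58) [⟨48, -1, 1⟩] []) (cond (Nat.blt c 61) (cond (Nat.beq c 60) [⟨49, -1, 1⟩] []) (cond (Nat.beq c 61) [⟨50, -1, 1⟩] []))) (cond (Nat.blt c 72) (cond (Nat.blt c 71) (cond (Nat.beq c 69) [⟨63, -1, 1⟩] []) (cond (Nat.beq c 71) [⟨64, -1, 1⟩] [])) (cond (Nat.blt c 77) (cond (Nat.beq c 72) [⟨65, -1, 1⟩] []) (cond (Nat.beq c 77) [⟨73, -1, 1⟩] [])))))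

/-- Compiled columns of `x_23` for type E6. -/
def colsE6_23 (c : ℕ) : List CEnt :=
  cond (Nat.blt c 41) (cond (Nat.blt c 9) (cond (Nat.blt c 3) (cond (Nat.blt c 1) (cond (Nat.beq c 0) [⟨29, 0, 1⟩] []) (cond (Nat.blt c 2) (cond (Nat.beq c 1) [⟨29, 1, 1⟩] []) (cond (Nat.beq c 2) [⟨29, -1, 1⟩] []))) (cond (Nat.blt c 4) (cond (Nat.beq c 3) [⟨29, 0, 1⟩] []) (cond (Nat.blt c 5) (cond (Nat.beq c 4) [⟨29, 1, 1⟩] []) (cond (Nat.beq c 5) [⟨29, -1, 1⟩] [])))) (cond (Nat.blt c 20) (cond (Nat.blt c 17) (cond (Nat.beq c 9) [⟨6, -1, 1⟩] []) (cond (Nat.blt c 19) (cond (Nat.beq c 17) [⟨11, -1, 1⟩] []) (cond (Nat.beq c 19) [⟨13, 1, 1⟩] []))) (cond (Nat.blt c 34) (cond (Nat.blt c 32) (cond (Nat.beq c 20) [⟨15, 1, 1⟩] []) (cond (Nat.beq c 32) [⟨22, -1, 1⟩] [])) (cond (Nat.blt c 35)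 (cond (Nat.beq c 34) [⟨24, 1, 1⟩] []) (cond (Nat.beq c 35) [⟨26, 1, 1⟩] []))))) (cond (Nat.blt c 57) (cond (Nat.blt c 52) (cond (Nat.blt c 43) (cond (Nat.beq c 41) [⟨28, 1, 1⟩] []) (cond (Nat.blt c 46) (cond (Nat.beq c 43) [⟨30, 1, 1⟩] []) (cond (Nat.beq c 46) [⟨31, 1, 1⟩] []))) (cond (Nat.blt c 54) (cond (Nat.blt c 53) (cond (Nat.beq c 52) [⟨37, -1, 1⟩] []) (cond (Nat.beq c 53) [⟨40, -1, 1⟩] [])) (cond (Nat.blt c 55) (cond (Nat.beq c 54) [⟨29, -1, 2⟩, ⟨0, 0, 1⟩, ⟨1, -1, 1⟩, ⟨2, 0, 1⟩, ⟨3, -1, 1⟩, ⟨4, -1, 1⟩, ⟨5, 0, 1⟩] []) (cond (Nat.beq c 55) [⟨42, -1, 1⟩] [])))) (cond (Nat.blt c 68) (cond (Nat.blt c 59) (cond (Nat.beq c 57) [⟨48, -1, 1⟩] []) (cond (Nat.blt c 61) (cond (Nat.beq c 59) [⟨49, -1, 1⟩] []) (cond (Nat.beq c 61) [⟨51, 1, 1⟩] []))) (cond (Nat.blt c 72) (cond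 (Nat.blt c 70) (cond (Nat.beq c 68) [⟨63, -1, 1⟩] []) (cond (Nat.beq c 70) [⟨64, -1, 1⟩] [])) (cond (Nat.blt c 77) (cond (Nat.beq c 72) [⟨66, 1, 1⟩] []) (cond (Nat.beq c 77) [⟨74, 1, 1⟩] [])))))

/-- Compiled columns of `x_24` for type E6. -/
def colsE6_24 (c : ℕ) : List CEnt :=
  cond (Nat.blt c 39) (cond (Nat.blt c 8) (cond (Nat.blt c 3) (cond (Nat.blt c 1) (cond (Nat.beq c 0) [⟨30, 0, 1⟩] []) (cond (Nat.blt c 2) (cond (Nat.beq c 1) [⟨30, 1, 1⟩] []) (cond (Nat.beq c 2) [⟨30, -1, 1⟩] []))) (cond (Nat.blt c 4) (cond (Nat.beq c 3) [⟨30, 1, 1⟩] []) (cond (Nat.blt c 5) (cond (Nat.beq c 4) [⟨30, -1, 1⟩] []) (cond (Nat.beq c 5) [⟨30, 0, 1⟩] [])))) (cond (Nat.blt c 20) (cond (Nat.blt c 17) (cond (Nat.beq c 8) [⟨6, 1, 1⟩] []) (cond (Nat.blt c 18) (cond (Nat.beq c 17) [⟨12,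 -1, 1⟩] []) (cond (Nat.beq c 18) [⟨13, -1, 1⟩] []))) (cond (Nat.blt c 33) (cond (Nat.blt c 32) (cond (Nat.beq c 20) [⟨16, 1, 1⟩] []) (cond (Nat.beq c 32) [⟨23, -1, 1⟩] [])) (cond (Nat.blt c 35) (cond (Nat.beq c 33) [⟨24, -1, 1⟩] []) (cond (Nat.beq c 35) [⟨27, 1, 1⟩] []))))) (cond (Nat.blt c 56) (cond (Nat.blt c 52) (cond (Nat.blt c 40) (cond (Nat.beq c 39) [⟨28, 1, 1⟩] []) (cond (Nat.blt c 45) (cond (Nat.beq c 40) [⟨29, 1, 1⟩] []) (cond (Nat.beq c 45) [⟨31, 1, 1⟩] []))) (cond (Nat.blt c 54) (cond (Nat.blt c 53) (cond (Nat.beq c 52) [⟨38, -1, 1⟩] []) (cond (Nat.beq c 53) [⟨30, -1, 2⟩, ⟨0, 0, 1⟩, ⟨1, -1, 1⟩, ⟨2, 0, 1⟩, ⟨3, -1, 1⟩, ⟨4, 0, 1⟩, ⟨5, 0, 1⟩] [])) (cond (Nat.blt c 55) (cond (Nat.beq c 54) [⟨43, -1, 1⟩] []) (cond (Nat.beq c 55) [⟨44, -1, 1⟩] [])))) (cond (Nat.blt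 c 67) (cond (Nat.blt c 59) (cond (Nat.beq c 56) [⟨48, -1, 1⟩] []) (cond (Nat.blt c 60) (cond (Nat.beq c 59) [⟨50, 1, 1⟩] []) (cond (Nat.beq c 60) [⟨51, 1, 1⟩] []))) (cond (Nat.blt c 71) (cond (Nat.blt c 70) (cond (Nat.beq c 67) [⟨63, -1, 1⟩] []) (cond (Nat.beq c 70) [⟨65, 1, 1⟩] [])) (cond (Nat.blt c 77) (cond (Nat.beq c 71) [⟨66, 1, 1⟩] []) (cond (Nat.beq c 77) [⟨75, -1, 1⟩] [])))))

/-- Compiled columns of `x_25` for type E6. -/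
def colsE6_25 (c : ℕ) : List CEnt :=
  cond (Nat.blt c 36) (cond (Nat.blt c 7) (cond (Nat.blt c 3) (cond (Nat.blt c 1) (cond (Nat.beq c 0) [⟨31, 0, 1⟩] []) (cond (Nat.blt c 2) (cond (Nat.beq c 1) [⟨31, 2, 1⟩] []) (cond (Nat.beq c 2) [⟨31, 0, 1⟩] []))) (cond (Nat.blt c 4) (cond (Nat.beq c 3) [⟨31, -1, 1⟩] []) (cond (Nat.blt c 5) (cond (Nat.beq c 4) [⟨31, 0, 1⟩] []) (cond (Nat.beq c 5) [⟨31, 0, 1⟩] [])))) (cond (Nat.blt c 19) (cond (Nat.blt c 17) (cond (Nat.beq c 7) [⟨6, -1, 1⟩] []) (cond (Nat.blt c 18) (cond (Nat.beq c 17) [⟨14, -1, 1⟩] []) (cond (Nat.beq c 18) [⟨15, -1, 1⟩] []))) (cond (Nat.blt c 33) (cond (Nat.blt c 32) (cond (Nat.beq c 19) [⟨16, -1, 1⟩] []) (cond (Nat.beq c 32) [⟨25, -1, 1⟩] [])) (cond (Nat.blt c 34) (cond (Nat.beq c 33) [⟨26, -1, 1⟩] []) (cond (Nat.beq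 c 34) [⟨27, -1, 1⟩] []))))) (cond (Nat.blt c 56) (cond (Nat.blt c 52) (cond (Nat.blt c 37) (cond (Nat.beq c 36) [⟨28, 1, 1⟩] []) (cond (Nat.blt c 38) (cond (Nat.beq c 37) [⟨29, 1, 1⟩] []) (cond (Nat.beq c 38) [⟨30, 1, 1⟩] []))) (cond (Nat.blt c 54) (cond (Nat.blt c 53) (cond (Nat.beq c 52) [⟨31, -1, 2⟩, ⟨0, 0, 1⟩, ⟨1, -1, 1⟩, ⟨2, 0, 1⟩, ⟨3, 0, 1⟩, ⟨4, 0, 1⟩, ⟨5, 0, 1⟩] []) (cond (Nat.beq c 53) [⟨45, -1, 1⟩] [])) (cond (Nat.blt c 55) (cond (Nat.beq c 54) [⟨46, -1, 1⟩] []) (cond (Nat.beq c 55) [⟨47, -1, 1⟩] [])))) (cond (Nat.blt c 67) (cond (Nat.blt c 57) (cond (Nat.beq c 56) [⟨49, 1, 1⟩] []) (cond (Nat.blt c 58) (cond (Nat.beq c 57) [⟨50, 1, 1⟩] []) (cond (Nat.beq c 58) [⟨51, 1, 1⟩] []))) (cond (Nat.blt c 69) (cond (Nat.blt c 68) (cond (Nat.beq c 67) [⟨64, 1, 1⟩] [])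 (cond (Nat.beq c 68) [⟨65, 1, 1⟩] [])) (cond (Nat.blt c 77) (cond (Nat.beq c 69) [⟨66, 1, 1⟩] []) (cond (Nat.beq c 77) [⟨76, 1, 1⟩] [])))))

/-- Compiled columns of `x_26` for type E6. -/
def colsE6_26 (c : ℕ) : List CEnt :=
  cond (Nat.blt c 42) (cond (Nat.blt c 13) (cond (Nat.blt c 3) (cond (Nat.blt c 1) (cond (Nat.beq c 0) [⟨32, -1, 1⟩] []) (cond (Nat.blt c 2) (cond (Nat.beq c 1) [⟨32, -1, 1⟩] []) (cond (Nat.beq c 2) [⟨32, 1, 1⟩] []))) (cond (Nat.blt c 4) (cond (Nat.beq c 3) [⟨32, 0, 1⟩] []) (cond (Nat.blt c 5) (cond (Nat.beq c 4) [⟨32, 0, 1⟩] []) (cond (Nat.beq c 5) [⟨32, 1, 1⟩] [])))) (cond (Nat.blt c 21) (cond (Nat.blt c 15) (cond (Nat.beq c 13) [⟨7, -1, 1⟩] []) (cond (Nat.blt c 16) (cond (Nat.beq c 15) [⟨8, -1, 1⟩] []) (cond (Nat.beq c 16) [⟨9, -1, 1⟩] [])))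 (cond (Nat.blt c 30) (cond (Nat.blt c 29) (cond (Nat.beq c 21) [⟨17, -1, 1⟩] []) (cond (Nat.beq c 29) [⟨22, 1, 1⟩] [])) (cond (Nat.blt c 31) (cond (Nat.beq c 30) [⟨23, 1, 1⟩] []) (cond (Nat.beq c 31) [⟨25, 1, 1⟩] []))))) (cond (Nat.blt c 58) (cond (Nat.blt c 48) (cond (Nat.blt c 44) (cond (Nat.beq c 42) [⟨33, 1, 1⟩] []) (cond (Nat.blt c 47) (cond (Nat.beq c 44) [⟨34, 1, 1⟩] []) (cond (Nat.beq c 47) [⟨35, 1, 1⟩] []))) (cond (Nat.blt c 50) (cond (Nat.blt c 49) (cond (Nat.beq c 48) [⟨36, -1, 1⟩] []) (cond (Nat.beq c 49) [⟨39, -1, 1⟩] [])) (cond (Nat.blt c 51) (cond (Nat.beq c 50) [⟨41, -1, 1⟩] []) (cond (Nat.beq c 51) [⟨32, -1, 2⟩, ⟨0, 0, 1⟩, ⟨1, 0, 1⟩, ⟨2, -1, 1⟩, ⟨3, -1, 1⟩, ⟨4, -1, 1⟩, ⟨5, -1, 1⟩] [])))) (cond (Nat.blt c 66) (cond (Nat.blt c 60) (cond (Nat.beq c 58)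 [⟨52, -1, 1⟩] []) (cond (Nat.blt c 61) (cond (Nat.beq c 60) [⟨53, -1, 1⟩] []) (cond (Nat.beq c 61) [⟨54, -1, 1⟩] []))) (cond (Nat.blt c 75) (cond (Nat.blt c 74) (cond (Nat.beq c 66) [⟨62, 1, 1⟩] []) (cond (Nat.beq c 74) [⟨67, 1, 1⟩] [])) (cond (Nat.blt c 76) (cond (Nat.beq c 75) [⟨68, 1, 1⟩] []) (cond (Nat.beq c 76) [⟨70, 1, 1⟩] [])))))

/-- Compiled columns of `x_27` for type E6. -/
def colsE6_27 (c : ℕ) : List CEnt :=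
  cond (Nat.blt c 41) (cond (Nat.blt c 12) (cond (Nat.blt c 3) (cond (Nat.blt c 1) (cond (Nat.beq c 0) [⟨33, -1, 1⟩] []) (cond (Nat.blt c 2) (cond (Nat.beq c 1) [⟨33, -1, 1⟩] []) (cond (Nat.beq c 2) [⟨33, 1, 1⟩] []))) (cond (Nat.blt c 4) (cond (Nat.beq c 3) [⟨33, 0, 1⟩] []) (cond (Nat.blt c 5) (cond (Nat.beq c 4) [⟨33, 1, 1⟩] []) (cond (Nat.beq c 5) [⟨33, -1, 1⟩] [])))) (cond (Nat.blt c 21) (cond (Nat.blt c 14) (cond (Nat.beq c 12) [⟨7, 1, 1⟩] []) (cond (Nat.blt c 16) (cond (Nat.beq c 14) [⟨8, 1, 1⟩] []) (cond (Nat.beq c 16) [⟨10, -1, 1⟩] []))) (cond (Nat.blt c 30) (cond (Nat.blt c 28) (cond (Nat.beq c 21) [⟨18, -1, 1⟩] []) (cond (Nat.beq c 28) [⟨22, -1, 1⟩] [])) (cond (Nat.blt c 31) (cond (Nat.beq c 30) [⟨24, 1, 1⟩] []) (cond (Nat.beq c 31) [⟨26, 1, 1⟩] []))))) (cond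 (Nat.blt c 57) (cond (Nat.blt c 48) (cond (Nat.blt c 43) (cond (Nat.beq c 41) [⟨32, 1, 1⟩] []) (cond (Nat.blt c 46) (cond (Nat.beq c 43) [⟨34, 1, 1⟩] []) (cond (Nat.beq c 46) [⟨35, 1, 1⟩] []))) (cond (Nat.blt c 50) (cond (Nat.blt c 49) (cond (Nat.beq c 48) [⟨37, -1, 1⟩] []) (cond (Nat.beq c 49) [⟨40, -1, 1⟩] [])) (cond (Nat.blt c 51) (cond (Nat.beq c 50) [⟨33, -1, 2⟩, ⟨0, 0, 1⟩, ⟨1, 0, 1⟩, ⟨2, -1, 1⟩, ⟨3, -1, 1⟩, ⟨4, -1, 1⟩, ⟨5, 0, 1⟩] []) (cond (Nat.beq c 51) [⟨42, -1, 1⟩] [])))) (cond (Nat.blt c 65) (cond (Nat.blt c 59) (cond (Nat.beq c 57) [⟨52, -1, 1⟩] []) (cond (Nat.blt c 61) (cond (Nat.beq c 59) [⟨53, -1, 1⟩] []) (cond (Nat.beq c 61) [⟨55, 1, 1⟩] []))) (cond (Nat.blt c 75) (cond (Nat.blt c 73) (cond (Nat.beq c 65) [⟨62, 1, 1⟩] []) (cond (Nat.beq c 73) [⟨67, 1,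 1⟩] [])) (cond (Nat.blt c 76) (cond (Nat.beq c 75) [⟨69, -1, 1⟩] []) (cond (Nat.beq c 76) [⟨71, -1, 1⟩] [])))))

/-- Compiled columns of `x_28` for type E6. -/
def colsE6_28 (c : ℕ) : List CEnt :=
  cond (Nat.blt c 39) (cond (Nat.blt c 11) (cond (Nat.blt c 3) (cond (Nat.blt c 1) (cond (Nat.beq c 0) [⟨34, -1, 1⟩] []) (cond (Nat.blt c 2) (cond (Nat.beq c 1) [⟨34, -1, 1⟩] []) (cond (Nat.beq c 2) [⟨34, 1, 1⟩] []))) (cond (Nat.blt c 4) (cond (Nat.beq c 3) [⟨34, 1, 1⟩] []) (cond (Nat.blt c 5) (cond (Nat.beq c 4) [⟨34, -1, 1⟩] []) (cond (Nat.beq c 5) [⟨34, 0, 1⟩] [])))) (cond (Nat.blt c 21) (cond (Nat.blt c 14) (cond (Nat.beq c 11) [⟨7, -1, 1⟩] []) (cond (Nat.blt c 15) (cond (Nat.beq c 14) [⟨9, 1, 1⟩] []) (cond (Nat.beq c 15) [⟨10, 1, 1⟩] []))) (cond (Nat.blt c 29) (cond (Nat.blt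 c 28) (cond (Nat.beq c 21) [⟨19, -1, 1⟩] []) (cond (Nat.beq c 28) [⟨23, -1, 1⟩] [])) (cond (Nat.blt c 31) (cond (Nat.beq c 29) [⟨24, -1, 1⟩] []) (cond (Nat.beq c 31) [⟨27, 1, 1⟩] []))))) (cond (Nat.blt c 56) (cond (Nat.blt c 48) (cond (Nat.blt c 40) (cond (Nat.beq c 39) [⟨32, 1, 1⟩] []) (cond (Nat.blt c 45) (cond (Nat.beq c 40) [⟨33, 1, 1⟩] []) (cond (Nat.beq c 45) [⟨35, 1, 1⟩] []))) (cond (Nat.blt c 50) (cond (Nat.blt c 49) (cond (Nat.beq c 48) [⟨38, -1, 1⟩] []) (cond (Nat.beq c 49) [⟨34, -1, 2⟩, ⟨0, 0, 1⟩, ⟨1, 0, 1⟩, ⟨2, -1, 1⟩, ⟨3, -1, 1⟩, ⟨4, 0, 1⟩, ⟨5, 0, 1⟩] [])) (cond (Nat.blt c 51) (cond (Nat.beq c 50) [⟨43, -1, 1⟩] []) (cond (Nat.beq c 51) [⟨44, -1, 1⟩] [])))) (cond (Nat.blt c 64) (cond (Nat.blt c 59) (cond (Nat.beq c 56) [⟨52, -1, 1⟩] []) (cond (Nat.blt c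 60) (cond (Nat.beq c 59) [⟨54, 1, 1⟩] []) (cond (Nat.beq c 60) [⟨55, 1, 1⟩] []))) (cond (Nat.blt c 74) (cond (Nat.blt c 73) (cond (Nat.beq c 64) [⟨62, 1, 1⟩] []) (cond (Nat.beq c 73) [⟨68, -1, 1⟩] [])) (cond (Nat.blt c 76) (cond (Nat.beq c 74) [⟨69, -1, 1⟩] []) (cond (Nat.beq c 76) [⟨72, 1, 1⟩] [])))))

/-- Compiled columns of `x_29` for type E6. -/
def colsE6_29 (c : ℕ) : List CEnt :=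
  cond (Nat.blt c 36) (cond (Nat.blt c 11) (cond (Nat.blt c 3) (cond (Nat.blt c 1) (cond (Nat.beq c 0) [⟨35, -1, 1⟩] []) (cond (Nat.blt c 2) (cond (Nat.beq c 1) [⟨35, 0, 1⟩] []) (cond (Nat.beq c 2) [⟨35, 2, 1⟩] []))) (cond (Nat.blt c 4) (cond (Nat.beq c 3) [⟨35, -1, 1⟩] []) (cond (Nat.blt c 5) (cond (Nat.beq c 4) [⟨35, 0, 1⟩] []) (cond (Nat.beq c 5) [⟨35, 0, 1⟩] [])))) (cond (Nat.blt c 21) (cond (Nat.blt c 12) (cond (Nat.beq c 11) [⟨8, -1, 1⟩] []) (cond (Nat.blt c 13) (cond (Nat.beq c 12) [⟨9, -1, 1⟩] []) (cond (Nat.beq c 13) [⟨10, -1, 1⟩] []))) (cond (Nat.blt c 29) (cond (Nat.blt c 28) (cond (Nat.beq c 21) [⟨20, -1, 1⟩] []) (cond (Nat.beq c 28) [⟨25, -1, 1⟩] [])) (cond (Nat.blt c 30) (cond (Nat.beq c 29) [⟨26, -1, 1⟩] []) (cond (Nat.beq c 30) [⟨27, -1, 1⟩] [])))))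 (cond (Nat.blt c 56) (cond (Nat.blt c 48) (cond (Nat.blt c 37) (cond (Nat.beq c 36) [⟨32, 1, 1⟩] []) (cond (Nat.blt c 38) (cond (Nat.beq c 37) [⟨33, 1, 1⟩] []) (cond (Nat.beq c 38) [⟨34, 1, 1⟩] []))) (cond (Nat.blt c 50) (cond (Nat.blt c 49) (cond (Nat.beq c 48) [⟨35, -1, 2⟩, ⟨0, 0, 1⟩, ⟨1, 0, 1⟩, ⟨2, -1, 1⟩, ⟨3, 0, 1⟩, ⟨4, 0, 1⟩, ⟨5, 0, 1⟩] []) (cond (Nat.beq c 49) [⟨45, -1, 1⟩] [])) (cond (Nat.blt c 51) (cond (Nat.beq c 50) [⟨46, -1, 1⟩] []) (cond (Nat.beq c 51) [⟨47, -1, 1⟩] [])))) (cond (Nat.blt c 63) (cond (Nat.blt c 57) (cond (Nat.beq c 56) [⟨53, 1, 1⟩] []) (cond (Nat.blt c 58) (cond (Nat.beq c 57) [⟨54, 1, 1⟩] []) (cond (Nat.beq c 58) [⟨55, 1, 1⟩] []))) (cond (Nat.blt c 74) (cond (Nat.blt c 73) (cond (Nat.beq c 63) [⟨62, 1, 1⟩] []) (cond (Nat.beq c 73) [⟨70,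 1, 1⟩] [])) (cond (Nat.blt c 75) (cond (Nat.beq c 74) [⟨71, 1, 1⟩] []) (cond (Nat.beq c 75) [⟨72, 1, 1⟩] [])))))

/-- Compiled columns of `x_30` for type E6. -/
def colsE6_30 (c : ℕ) : List CEnt :=
  cond (Nat.blt c 35) (cond (Nat.blt c 10) (cond (Nat.blt c 3) (cond (Nat.blt c 1) (cond (Nat.beq c 0) [⟨36, 0, 1⟩] []) (cond (Nat.blt c 2) (cond (Nat.beq c 1) [⟨36, -1, 1⟩] []) (cond (Nat.beq c 2) [⟨36, -1, 1⟩] []))) (cond (Nat.blt c 4) (cond (Nat.beq c 3) [⟨36, 1, 1⟩] []) (cond (Nat.blt c 5) (cond (Nat.beq c 4) [⟨36, 0, 1⟩] []) (cond (Nat.beq c 5) [⟨36, 1, 1⟩] [])))) (cond (Nat.blt c 20) (cond (Nat.blt c 15) (cond (Nat.beq c 10) [⟨7, -1, 1⟩] []) (cond (Nat.blt c 16) (cond (Nat.beq c 15) [⟨11, 1, 1⟩] []) (cond (Nat.beq c 16) [⟨12, 1, 1⟩] []))) (cond (Nat.blt c 27) (cond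 (Nat.blt c 26) (cond (Nat.beq c 20) [⟨17, -1, 1⟩] []) (cond (Nat.beq c 26) [⟨22, 1, 1⟩] [])) (cond (Nat.blt c 31) (cond (Nat.beq c 27) [⟨23, 1, 1⟩] []) (cond (Nat.beq c 31) [⟨28, -1, 1⟩] []))))) (cond (Nat.blt c 55) (cond (Nat.blt c 45) (cond (Nat.blt c 42) (cond (Nat.beq c 35) [⟨32, -1, 1⟩] []) (cond (Nat.blt c 44) (cond (Nat.beq c 42) [⟨37, 1, 1⟩] []) (cond (Nat.beq c 44) [⟨38, 1, 1⟩] []))) (cond (Nat.blt c 47) (cond (Nat.blt c 46) (cond (Nat.beq c 45) [⟨39, -1, 1⟩] []) (cond (Nat.beq c 46) [⟨41, -1, 1⟩] [])) (cond (Nat.blt c 51) (cond (Nat.beq c 47) [⟨36, -1, 2⟩, ⟨0, 0, 1⟩, ⟨1, 0, 1⟩, ⟨2, 0, 1⟩, ⟨3, -1, 1⟩, ⟨4, -1, 1⟩, ⟨5, -1, 1⟩] []) (cond (Nat.beq c 51) [⟨48, 1, 1⟩] [])))) (cond (Nat.blt c 66) (cond (Nat.blt c 60) (cond (Nat.beq c 55) [⟨52, 1, 1⟩] []) (cond (Nat.blt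 c 61) (cond (Nat.beq c 60) [⟨56, -1, 1⟩] []) (cond (Nat.beq c 61) [⟨57, -1, 1⟩] []))) (cond (Nat.blt c 72) (cond (Nat.blt c 71) (cond (Nat.beq c 66) [⟨63, 1, 1⟩] []) (cond (Nat.beq c 71) [⟨67, -1, 1⟩] [])) (cond (Nat.blt c 76) (cond (Nat.beq c 72) [⟨68, -1, 1⟩] []) (cond (Nat.beq c 76) [⟨73, 1, 1⟩] [])))))

/-- Compiled columns of `x_31` for type E6. -/
def colsE6_31 (c : ℕ) : List CEnt :=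
  cond (Nat.blt c 35) (cond (Nat.blt c 9) (cond (Nat.blt c 3) (cond (Nat.blt c 1) (cond (Nat.beq c 0) [⟨37, 0, 1⟩] []) (cond (Nat.blt c 2) (cond (Nat.beq c 1) [⟨37, -1, 1⟩] []) (cond (Nat.beq c 2) [⟨37, -1, 1⟩] []))) (cond (Nat.blt c 4) (cond (Nat.beq c 3) [⟨37, 1, 1⟩] []) (cond (Nat.blt c 5) (cond (Nat.beq c 4) [⟨37, 1, 1⟩] []) (cond (Nat.beq c 5) [⟨37, -1, 1⟩] [])))) (cond (Nat.blt c 20) (cond (Nat.blt c 14) (cond (Nat.beq c 9) [⟨7, 1, 1⟩] []) (cond (Nat.blt c 16) (cond (Nat.beq c 14) [⟨11, -1, 1⟩] []) (cond (Nat.beq c 16) [⟨13, 1, 1⟩] []))) (cond (Nat.blt c 27) (cond (Nat.blt c 25) (cond (Nat.beq c 20) [⟨18, -1, 1⟩] []) (cond (Nat.beq c 25) [⟨22, -1, 1⟩] [])) (cond (Nat.blt c 31) (cond (Nat.beq c 27) [⟨24, 1, 1⟩] []) (cond (Nat.beq c 31) [⟨29, -1, 1⟩] []))))) (cond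 (Nat.blt c 54) (cond (Nat.blt c 45) (cond (Nat.blt c 41) (cond (Nat.beq c 35) [⟨33, -1, 1⟩] []) (cond (Nat.blt c 43) (cond (Nat.beq c 41) [⟨36, 1, 1⟩] []) (cond (Nat.beq c 43) [⟨38, 1, 1⟩] []))) (cond (Nat.blt c 47) (cond (Nat.blt c 46) (cond (Nat.beq c 45) [⟨40, -1, 1⟩] []) (cond (Nat.beq c 46) [⟨37, -1, 2⟩, ⟨0, 0, 1⟩, ⟨1, 0, 1⟩, ⟨2, 0, 1⟩, ⟨3, -1, 1⟩, ⟨4, -1, 1⟩, ⟨5, 0, 1⟩] [])) (cond (Nat.blt c 50) (cond (Nat.beq c 47) [⟨42, -1, 1⟩] []) (cond (Nat.beq c 50) [⟨48, 1, 1⟩] [])))) (cond (Nat.blt c 65) (cond (Nat.blt c 59) (cond (Nat.beq c 54) [⟨52, 1, 1⟩] []) (cond (Nat.blt c 61) (cond (Nat.beq c 59) [⟨56, -1, 1⟩] []) (cond (Nat.beq c 61) [⟨58, 1, 1⟩] []))) (cond (Nat.blt c 72) (cond (Nat.blt c 70) (cond (Nat.beq c 65) [⟨63, 1, 1⟩] []) (cond (Nat.beq c 70) [⟨67, -1,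 1⟩] [])) (cond (Nat.blt c 76) (cond (Nat.beq c 72) [⟨69, 1, 1⟩] []) (cond (Nat.beq c 76) [⟨74, -1, 1⟩] [])))))

/-- Compiled columns of `x_32` for type E6. -/
def colsE6_32 (c : ℕ) : List CEnt :=
  cond (Nat.blt c 35) (cond (Nat.blt c 8) (cond (Nat.blt c 3) (cond (Nat.blt c 1) (cond (Nat.beq c 0) [⟨38, 0, 1⟩] []) (cond (Nat.blt c 2) (cond (Nat.beq c 1) [⟨38, -1, 1⟩] []) (cond (Nat.beq c 2) [⟨38, -1, 1⟩] []))) (cond (Nat.blt c 4) (cond (Nat.beq c 3) [⟨38, 2, 1⟩] []) (cond (Nat.blt c 5) (cond (Nat.beq c 4) [⟨38, -1, 1⟩] []) (cond (Nat.beq c 5) [⟨38, 0, 1⟩] [])))) (cond (Nat.blt c 20) (cond (Nat.blt c 14) (cond (Nat.beq c 8) [⟨7, -1, 1⟩] []) (cond (Nat.blt c 15) (cond (Nat.beq c 14) [⟨12, -1, 1⟩] []) (cond (Nat.beq c 15) [⟨13, -1, 1⟩] []))) (cond (Nat.blt c 26) (cond (Nat.blt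 c 25) (cond (Nat.beq c 20) [⟨19, -1, 1⟩] []) (cond (Nat.beq c 25) [⟨23, -1, 1⟩] [])) (cond (Nat.blt c 31) (cond (Nat.beq c 26) [⟨24, -1, 1⟩] []) (cond (Nat.beq c 31) [⟨30, -1, 1⟩] []))))) (cond (Nat.blt c 53) (cond (Nat.blt c 45) (cond (Nat.blt c 39) (cond (Nat.beq c 35) [⟨34, -1, 1⟩] []) (cond (Nat.blt c 40) (cond (Nat.beq c 39) [⟨36, 1, 1⟩] []) (cond (Nat.beq c 40) [⟨37, 1, 1⟩] []))) (cond (Nat.blt c 47) (cond (Nat.blt c 46) (cond (Nat.beq c 45) [⟨38, -1, 2⟩, ⟨0, 0, 1⟩, ⟨1, 0, 1⟩, ⟨2, 0, 1⟩, ⟨3, -1, 1⟩, ⟨4, 0, 1⟩, ⟨5, 0, 1⟩] []) (cond (Nat.beq c 46) [⟨43, -1, 1⟩] [])) (cond (Nat.blt c 49) (cond (Nat.beq c 47) [⟨44, -1, 1⟩] []) (cond (Nat.beq c 49) [⟨48, 1, 1⟩] [])))) (cond (Nat.blt c 64) (cond (Nat.blt c 59) (cond (Nat.beq c 53) [⟨52, 1, 1⟩] []) (cond (Nat.blt c 60)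 (cond (Nat.beq c 59) [⟨57, 1, 1⟩] []) (cond (Nat.beq c 60) [⟨58, 1, 1⟩] []))) (cond (Nat.blt c 71) (cond (Nat.blt c 70) (cond (Nat.beq c 64) [⟨63, 1, 1⟩] []) (cond (Nat.beq c 70) [⟨68, 1, 1⟩] [])) (cond (Nat.blt c 76) (cond (Nat.beq c 71) [⟨69, 1, 1⟩] []) (cond (Nat.beq c 76) [⟨75, 1, 1⟩] [])))))

/-- Compiled columns of `x_33` for type E6. -/
def colsE6_33 (c : ℕ) : List CEnt :=
  cond (Nat.blt c 34) (cond (Nat.blt c 10) (cond (Nat.blt c 3) (cond (Nat.blt c 1) (cond (Nat.beq c 0) [⟨39, 0, 1⟩] []) (cond (Nat.blt c 2) (cond (Nat.beq c 1) [⟨39, 0, 1⟩] []) (cond (Nat.beq c 2) [⟨39, 0, 1⟩] []))) (cond (Nat.blt c 4) (cond (Nat.beq c 3) [⟨39, -1, 1⟩] []) (cond (Nat.blt c 5) (cond (Nat.beq c 4) [⟨39, 1, 1⟩] []) (cond (Nat.beq c 5) [⟨39, 1, 1⟩] [])))) (cond (Nat.blt c 19) (cond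 (Nat.blt c 13) (cond (Nat.beq c 10) [⟨8, 1, 1⟩] []) (cond (Nat.blt c 16) (cond (Nat.beq c 13) [⟨11, 1, 1⟩] []) (cond (Nat.beq c 16) [⟨14, -1, 1⟩] []))) (cond (Nat.blt c 27) (cond (Nat.blt c 24) (cond (Nat.beq c 19) [⟨17, -1, 1⟩] []) (cond (Nat.beq c 24) [⟨22, 1, 1⟩] [])) (cond (Nat.blt c 30) (cond (Nat.beq c 27) [⟨25, -1, 1⟩] []) (cond (Nat.beq c 30) [⟨28, -1, 1⟩] []))))) (cond (Nat.blt c 55) (cond (Nat.blt c 43) (cond (Nat.blt c 38) (cond (Nat.beq c 34) [⟨32, -1, 1⟩] []) (cond (Nat.blt c 42) (cond (Nat.beq c 38) [⟨36, -1, 1⟩] []) (cond (Nat.beq c 42) [⟨40, 1, 1⟩] []))) (cond (Nat.blt c 47) (cond (Nat.blt c 44) (cond (Nat.beq c 43) [⟨41, -1, 1⟩] []) (cond (Nat.beq c 44) [⟨39, -1, 2⟩, ⟨0, 0, 1⟩, ⟨1, 0, 1⟩, ⟨2, 0, 1⟩, ⟨3, 0, 1⟩, ⟨4, -1, 1⟩, ⟨5, -1, 1⟩] [])) (cond (Nat.blt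 c 51) (cond (Nat.beq c 47) [⟨45, 1, 1⟩] []) (cond (Nat.beq c 51) [⟨49, 1, 1⟩] [])))) (cond (Nat.blt c 66) (cond (Nat.blt c 58) (cond (Nat.beq c 55) [⟨53, 1, 1⟩] []) (cond (Nat.blt c 61) (cond (Nat.beq c 58) [⟨56, 1, 1⟩] []) (cond (Nat.beq c 61) [⟨59, -1, 1⟩] []))) (cond (Nat.blt c 72) (cond (Nat.blt c 69) (cond (Nat.beq c 66) [⟨64, 1, 1⟩] []) (cond (Nat.beq c 69) [⟨67, 1, 1⟩] [])) (cond (Nat.blt c 75) (cond (Nat.beq c 72) [⟨70, -1, 1⟩] []) (cond (Nat.beq c 75) [⟨73, -1, 1⟩] [])))))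

/-- Compiled columns of `x_34` for type E6. -/
def colsE6_34 (c : ℕ) : List CEnt :=
  cond (Nat.blt c 34) (cond (Nat.blt c 9) (cond (Nat.blt c 3) (cond (Nat.blt c 1) (cond (Nat.beq c 0) [⟨40, 0, 1⟩] []) (cond (Nat.blt c 2) (cond (Nat.beq c 1) [⟨40, 0, 1⟩] []) (cond (Nat.beq c 2) [⟨40, 0, 1⟩] []))) (cond (Nat.blt c 4) (cond (Nat.beq c 3) [⟨40, -1, 1⟩] []) (cond (Nat.blt c 5) (cond (Nat.beq c 4) [⟨40, 2, 1⟩] []) (cond (Nat.beq c 5) [⟨40, -1, 1⟩] [])))) (cond (Nat.blt c 19) (cond (Nat.blt c 12) (cond (Nat.beq c 9) [⟨8, -1, 1⟩] []) (cond (Nat.blt c 16) (cond (Nat.beq c 12) [⟨11, -1, 1⟩] []) (cond (Nat.beq c 16) [⟨15, -1, 1⟩] []))) (cond (Nat.blt c 27) (cond (Nat.blt c 23) (cond (Nat.beq c 19) [⟨18, -1, 1⟩] []) (cond (Nat.beq c 23) [⟨22, -1, 1⟩] [])) (cond (Nat.blt c 30)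 (cond (Nat.beq c 27) [⟨26, -1, 1⟩] []) (cond (Nat.beq c 30) [⟨29, -1, 1⟩] []))))) (cond (Nat.blt c 54) (cond (Nat.blt c 43) (cond (Nat.blt c 38) (cond (Nat.beq c 34) [⟨33, -1, 1⟩] []) (cond (Nat.blt c 41) (cond (Nat.beq c 38) [⟨37, -1, 1⟩] []) (cond (Nat.beq c 41) [⟨39, 1, 1⟩] []))) (cond (Nat.blt c 46) (cond (Nat.blt c 44) (cond (Nat.beq c 43) [⟨40, -1, 2⟩, ⟨0, 0, 1⟩, ⟨1, 0, 1⟩, ⟨2, 0, 1⟩, ⟨3, 0, 1⟩, ⟨4, -1, 1⟩, ⟨5, 0, 1⟩] []) (cond (Nat.beq c 44) [⟨42, -1, 1⟩] [])) (cond (Nat.blt c 50) (cond (Nat.beq c 46) [⟨45, 1, 1⟩] []) (cond (Nat.beq c 50) [⟨49, 1, 1⟩] [])))) (cond (Nat.blt c 65) (cond (Nat.blt c 57) (cond (Nat.beq c 54) [⟨53, 1, 1⟩] []) (cond (Nat.blt c 61) (cond (Nat.beq c 57) [⟨56, 1, 1⟩] []) (cond (Nat.beq c 61) [⟨60, 1, 1⟩] []))) (cond (Nat.blt c 72) (cond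 (Nat.blt c 68) (cond (Nat.beq c 65) [⟨64, 1, 1⟩] []) (cond (Nat.beq c 68) [⟨67, 1, 1⟩] [])) (cond (Nat.blt c 75) (cond (Nat.beq c 72) [⟨71, 1, 1⟩] []) (cond (Nat.beq c 75) [⟨74, 1, 1⟩] [])))))

/-- Compiled columns of `x_35` for type E6. -/
def colsE6_35 (c : ℕ) : List CEnt :=
  cond (Nat.blt c 33) (cond (Nat.blt c 10) (cond (Nat.blt c 3) (cond (Nat.blt c 1) (cond (Nat.beq c 0) [⟨41, 0, 1⟩] []) (cond (Nat.blt c 2) (cond (Nat.beq c 1) [⟨41, 0, 1⟩] []) (cond (Nat.beq c 2) [⟨41, 0, 1⟩] []))) (cond (Nat.blt c 4) (cond (Nat.beq c 3) [⟨41, 0, 1⟩] []) (cond (Nat.blt c 5) (cond (Nat.beq c 4) [⟨41, -1, 1⟩] []) (cond (Nat.beq c 5) [⟨41, 2, 1⟩] [])))) (cond (Nat.blt c 18) (cond (Nat.blt c 13) (cond (Nat.beq c 10) [⟨9, -1, 1⟩] []) (cond (Nat.blt c 15) (cond (Nat.beq c 13) [⟨12,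 -1, 1⟩] []) (cond (Nat.beq c 15) [⟨14, -1, 1⟩] []))) (cond (Nat.blt c 26) (cond (Nat.blt c 24) (cond (Nat.beq c 18) [⟨17, -1, 1⟩] []) (cond (Nat.beq c 24) [⟨23, -1, 1⟩] [])) (cond (Nat.blt c 29) (cond (Nat.beq c 26) [⟨25, -1, 1⟩] []) (cond (Nat.beq c 29) [⟨28, -1, 1⟩] []))))) (cond (Nat.blt c 55) (cond (Nat.blt c 42) (cond (Nat.blt c 37) (cond (Nat.beq c 33) [⟨32, -1, 1⟩] []) (cond (Nat.blt c 40) (cond (Nat.beq c 37) [⟨36, -1, 1⟩] []) (cond (Nat.beq c 40) [⟨39, -1, 1⟩] []))) (cond (Nat.blt c 47) (cond (Nat.blt c 44) (cond (Nat.beq c 42) [⟨41, -1, 2⟩, ⟨0, 0, 1⟩, ⟨1, 0, 1⟩, ⟨2, 0, 1⟩, ⟨3, 0, 1⟩, ⟨4, 0, 1⟩, ⟨5, -1, 1⟩] []) (cond (Nat.beq c 44) [⟨43, 1, 1⟩] [])) (cond (Nat.blt c 51) (cond (Nat.beq c 47) [⟨46, 1, 1⟩] []) (cond (Nat.beq c 51) [⟨50, 1, 1⟩] [])))) (cond (Nat.blt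 c 66) (cond (Nat.blt c 58) (cond (Nat.beq c 55) [⟨54, 1, 1⟩] []) (cond (Nat.blt c 60) (cond (Nat.beq c 58) [⟨57, 1, 1⟩] []) (cond (Nat.beq c 60) [⟨59, 1, 1⟩] []))) (cond (Nat.blt c 71) (cond (Nat.blt c 69) (cond (Nat.beq c 66) [⟨65, 1, 1⟩] []) (cond (Nat.beq c 69) [⟨68, 1, 1⟩] [])) (cond (Nat.blt c 74) (cond (Nat.beq c 71) [⟨70, 1, 1⟩] []) (cond (Nat.beq c 74) [⟨73, 1, 1⟩] [])))))

end Cfsg.Agent.Lib.Helper3.ChevM
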