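import Cfsg.Agent.Lib.Helper3.ChevData.E6Rel
import Cfsg.Agent.Lib.Helper3.ChevData.E6Wit
set_option autoImplicit false
set_option maxRecDepth 1000000
set_option Elab.async false

namespace Cfsg.Agent.Lib.Helper3.ChevM

theorem e6Comm_0_0 : allRange 0 181 ((fun k => commOKk cdE6 reflE6 etaE6 witE6 (k / 72) (k % 72))) = true := by decide +kernel
theorem e6Comm_0_181 : allRange 181 362 ((fun k => commOKk cdE6 reflE6 etaE6 witE6 (k / 72) (k % 72))) = true := by decide +kernel
theorem e6Comm_0_362 : allRange 362 543 ((fun k => commOKk cdE6 reflE6 etaE6 witE6 (k / 72) (k % 72))) = true := by decide +kernel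
theorem e6Comm_0_543 : allRange 543 724 ((fun k => commOKk cdE6 reflE6 etaE6 witE6 (k / 72) (k % 72))) = true := by decide +kernel
theorem e6Comm_0_724 : allRange 724 905 ((fun k => commOKk cdE6 reflE6 etaE6 witE6 (k / 72) (k % 72))) = true := by decide +kernel
theorem e6Comm_0_905 : allRange 905 1086 ((fun k => commOKk cdE6 reflE6 etaE6 witE6 (k / 72) (k % 72))) = true := by decide +kernel
theorem e6Comm_0_1086 : allRange 1086 1267 ((fun k => commOKk cdE6 reflE6 etaE6 witE6 (k / 72) (k % 72))) = true := by decide +kernel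
theorem e6Comm_0_1267 : allRange 1267 1448 ((fun k => commOKk cdE6 reflE6 etaE6 witE6 (k / 72) (k % 72))) = true := by decide +kernel
theorem e6Comm_0_1448 : allRange 1448 1629 ((fun k => commOKk cdE6 reflE6 etaE6 witE6 (k / 72) (k % 72))) = true := by decide +kernel
theorem e6Comm_0_1629 : allRange 1629 1810 ((fun k => commOKk cdE6 reflE6 etaE6 witE6 (k / 72) (k % 72))) = true := by decide +kernel
theorem e6Comm_0_1810 : allRange 1810 1991 ((fun k => commOKk cdE6 reflE6 etaE6 witE6 (k / 72) (k % 72))) = true := by decide +kernel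
theorem e6Comm_0_1991 : allRange 1991 2172 ((fun k => commOKk cdE6 reflE6 etaE6 witE6 (k / 72) (k % 72))) = true := by decide +kernel
theorem e6Comm_0_2172 : allRange 2172 2353 ((fun k => commOKk cdE6 reflE6 etaE6 witE6 (k / 72) (k % 72))) = true := by decide +kernel
theorem e6Comm_0_2353 : allRange 2353 2534 ((fun k => commOKk cdE6 reflE6 etaE6 witE6 (k / 72) (k % 72))) = true := by decide +kernel
theorem e6Comm_0_2534 : allRange 2534 2715 ((fun k => commOKk cdE6 reflE6 etaE6 witE6 (k / 72) (k % 72))) = true := by decide +kernel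
theorem e6Comm_0_2715 : allRange 2715 2896 ((fun k => commOKk cdE6 reflE6 etaE6 witE6 (k / 72) (k % 72))) = true := by decide +kernel
theorem e6Comm_0_2896 : allRange 2896 3077 ((fun k => commOKk cdE6 reflE6 etaE6 witE6 (k / 72) (k % 72))) = true := by decide +kernel
theorem e6Comm_0_3077 : allRange 3077 3258 ((fun k => commOKk cdE6 reflE6 etaE6 witE6 (k / 72) (k % 72))) = true := by decide +kernel
theorem e6Comm_0_3258 : allRange 3258 3439 ((fun k => commOKk cdE6 reflE6 etaE6 witE6 (k / 72) (k % 72))) = true := by decide +kernel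
theorem e6Comm_0_3439 : allRange 3439 3620 ((fun k => commOKk cdE6 reflE6 etaE6 witE6 (k / 72) (k % 72))) = true := by decide +kernel
theorem e6Comm_0_3620 : allRange 3620 3801 ((fun k => commOKk cdE6 reflE6 etaE6 witE6 (k / 72) (k % 72))) = true := by decide +kernel
theorem e6Comm_0_3801 : allRange 3801 3982 ((fun k => commOKk cdE6 reflE6 etaE6 witE6 (k / 72) (k % 72))) = true := by decide +kernel
theorem e6Comm_0_3982 : allRange 3982 4163 ((fun k => commOKk cdE6 reflE6 etaE6 witE6 (k / 72) (k % 72))) = true := by decide +kernel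
theorem e6Comm_0_4163 : allRange 4163 4344 ((fun k => commOKk cdE6 reflE6 etaE6 witE6 (k / 72) (k % 72))) = true := by decide +kernel
theorem e6Comm_0_4344 : allRange 4344 4525 ((fun k => commOKk cdE6 reflE6 etaE6 witE6 (k / 72) (k % 72))) = true := by decide +kernel
theorem e6Comm_0_4525 : allRange 4525 4706 ((fun k => commOKk cdE6 reflE6 etaE6 witE6 (k / 72) (k % 72))) = true := by decide +kernel
theorem e6Comm_0_4706 : allRange 4706 4887 ((fun k => commOKk cdE6 reflE6 etaE6 witE6 (k / 72) (k % 72))) = true := by decide +kernel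
theorem e6Comm_0_4887 : allRange 4887 5068 ((fun k => commOKk cdE6 reflE6 etaE6 witE6 (k / 72) (k % 72))) = true := by decide +kernel
theorem e6Comm_0_5068 : allRange 5068 5184 ((fun k => commOKk cdE6 reflE6 etaE6 witE6 (k / 72) (k % 72))) = true := by decide +kernel

/-- Steps of the derivation of the commutator formula of type E6 (roots 0 to 5183). -/
theorem e6Comm_0 : ∀ r, 0 ≤ r → r < 5184 → ((fun k => commOKk cdE6 reflE6 etaE6 witE6 (k / 72) (k % 72))) r = true := by
  intro r h1 h2
  by_cases c0 : r < 181
  · exact allRange_spec e6Comm_0_0 r (by omega) c0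
  by_cases c1 : r < 362
  · exact allRange_spec e6Comm_0_181 r (by omega) c1
  by_cases c2 : r < 543
  · exact allRange_spec e6Comm_0_362 r (by omega) c2
  by_cases c3 : r < 724
  · exact allRange_spec e6Comm_0_543 r (by omega) c3
  by_cases c4 : r < 905
  · exact allRange_spec e6Comm_0_724 r (by omega) c4
  by_cases c5 : r < 1086
  · exact allRange_spec e6Comm_0_905 r (by omega) c5
  by_cases c6 : r < 1267
  · exact allRange_spec e6Comm_0_1086 r (by omega) c6
  by_cases c7 : r < 1448
  · exact allRange_spec e6Comm_0_1267 r (by omega) c7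
  by_cases c8 : r < 1629
  · exact allRange_spec e6Comm_0_1448 r (by omega) c8
  by_cases c9 : r < 1810
  · exact allRange_spec e6Comm_0_1629 r (by omega) c9
  by_cases c10 : r < 1991
  · exact allRange_spec e6Comm_0_1810 r (by omega) c10
  by_cases c11 : r < 2172
  · exact allRange_spec e6Comm_0_1991 r (by omega) c11
  by_cases c12 : r < 2353
  · exact allRange_spec e6Comm_0_2172 r (by omega) c12
  by_cases c13 : r < 2534
  · exact allRange_spec e6Comm_0_2353 r (by omega) c13
  by_cases c14 : r < 2715
  · exact allRange_spec e6Comm_0_2534 r (by omega) c14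
  by_cases c15 : r < 2896
  · exact allRange_spec e6Comm_0_2715 r (by omega) c15
  by_cases c16 : r < 3077
  · exact allRange_spec e6Comm_0_2896 r (by omega) c16
  by_cases c17 : r < 3258
  · exact allRange_spec e6Comm_0_3077 r (by omega) c17
  by_cases c18 : r < 3439
  · exact allRange_spec e6Comm_0_3258 r (by omega) c18
  by_cases c19 : r < 3620
  · exact allRange_spec e6Comm_0_3439 r (by omega) c19
  by_cases c20 : r < 3801
  · exact allRange_spec e6Comm_0_3620 r (by omega) c20
  by_cases c21 : r < 3982
  · exact allRange_spec e6Comm_0_3801 r (by omega) c21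
  by_cases c22 : r < 4163
  · exact allRange_spec e6Comm_0_3982 r (by omega) c22
  by_cases c23 : r < 4344
  · exact allRange_spec e6Comm_0_4163 r (by omega) c23
  by_cases c24 : r < 4525
  · exact allRange_spec e6Comm_0_4344 r (by omega) c24
  by_cases c25 : r < 4706
  · exact allRange_spec e6Comm_0_4525 r (by omega) c25
  by_cases c26 : r < 4887
  · exact allRange_spec e6Comm_0_4706 r (by omega) c26
  by_cases c27 : r < 5068
  · exact allRange_spec e6Comm_0_4887 r (by omega) c27
  exact allRange_spec e6Comm_0_5068 r (by omega) h2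

end Cfsg.Agent.Lib.Helper3.ChevM
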