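import Cfsg.Agent.Lib.Helper3.ChevData.E6Comm
set_option autoImplicit false

namespace Cfsg.Agent.Lib.Helper3.ChevM

/-- The commutator data of type E6. -/
def commE6 : CommData cdE6 relE6 where
  wit := witE6
  ok := of_pairRange (m := 72) (n := 72) e6Comm

end Cfsg.Agent.Lib.Helper3.ChevM
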