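import Cfsg.Agent.Lib.Helper3.ChevData.E6Datum
import Cfsg.Agent.Lib.Helper3.ChevData.E6Tabs
import Cfsg.Agent.Lib.Helper3.ChevM7
set_option autoImplicit false
set_option maxRecDepth 1000000
set_option Elab.async false

namespace Cfsg.Agent.Lib.Helper3.ChevM

theorem e6Conj_0_0 : allRange 0 10 ((fun k => cdE6.checkConj (k / 72) (cdE6.cartI pairE6 (k / 72)) (reflE6 (k / 72)) (etaE6 (k / 72)) (k % 72))) = true := by decide +kernel
theorem e6Conj_0_10 : allRange 10 20 ((fun k => cdE6.checkConj (k / 72) (cdE6.cartI pairE6 (k / 72)) (reflE6 (k / 72)) (etaE6 (k / 72)) (k % 72))) = true := by decide +kernel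
theorem e6Conj_0_20 : allRange 20 30 ((fun k => cdE6.checkConj (k / 72) (cdE6.cartI pairE6 (k / 72)) (reflE6 (k / 72)) (etaE6 (k / 72)) (k % 72))) = true := by decide +kernel
theorem e6Conj_0_30 : allRange 30 40 ((fun k => cdE6.checkConj (k / 72) (cdE6.cartI pairE6 (k / 72)) (reflE6 (k / 72)) (etaE6 (k / 72)) (k % 72))) = true := by decide +kernel
theorem e6Conj_0_40 : allRange 40 50 ((fun k => cdE6.checkConj (k / 72) (cdE6.cartI pairE6 (k / 72)) (reflE6 (k / 72)) (etaE6 (k / 72)) (k % 72))) = true := by decide +kernel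
theorem e6Conj_0_50 : allRange 50 60 ((fun k => cdE6.checkConj (k / 72) (cdE6.cartI pairE6 (k / 72)) (reflE6 (k / 72)) (etaE6 (k / 72)) (k % 72))) = true := by decide +kernel
theorem e6Conj_0_60 : allRange 60 70 ((fun k => cdE6.checkConj (k / 72) (cdE6.cartI pairE6 (k / 72)) (reflE6 (k / 72)) (etaE6 (k / 72)) (k % 72))) = true := by decide +kernel
theorem e6Conj_0_70 : allRange 70 80 ((fun k => cdE6.checkConj (k / 72) (cdE6.cartI pairE6 (k / 72)) (reflE6 (k / 72)) (etaE6 (k / 72)) (k % 72))) = true := by decide +kernel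
theorem e6Conj_0_80 : allRange 80 90 ((fun k => cdE6.checkConj (k / 72) (cdE6.cartI pairE6 (k / 72)) (reflE6 (k / 72)) (etaE6 (k / 72)) (k % 72))) = true := by decide +kernel
theorem e6Conj_0_90 : allRange 90 100 ((fun k => cdE6.checkConj (k / 72) (cdE6.cartI pairE6 (k / 72)) (reflE6 (k / 72)) (etaE6 (k / 72)) (k % 72))) = true := by decide +kernel
theorem e6Conj_0_100 : allRange 100 110 ((fun k => cdE6.checkConj (k / 72) (cdE6.cartI pairE6 (k / 72)) (reflE6 (k / 72)) (etaE6 (k / 72)) (k % 72))) = true := by decide +kernel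
theorem e6Conj_0_110 : allRange 110 120 ((fun k => cdE6.checkConj (k / 72) (cdE6.cartI pairE6 (k / 72)) (reflE6 (k / 72)) (etaE6 (k / 72)) (k % 72))) = true := by decide +kernel
theorem e6Conj_0_120 : allRange 120 130 ((fun k => cdE6.checkConj (k / 72) (cdE6.cartI pairE6 (k / 72)) (reflE6 (k / 72)) (etaE6 (k / 72)) (k % 72))) = true := by decide +kernel
theorem e6Conj_0_130 : allRange 130 140 ((fun k => cdE6.checkConj (k / 72) (cdE6.cartI pairE6 (k / 72)) (reflE6 (k / 72)) (etaE6 (k / 72)) (k % 72))) = true := by decide +kernel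
theorem e6Conj_0_140 : allRange 140 150 ((fun k => cdE6.checkConj (k / 72) (cdE6.cartI pairE6 (k / 72)) (reflE6 (k / 72)) (etaE6 (k / 72)) (k % 72))) = true := by decide +kernel
theorem e6Conj_0_150 : allRange 150 160 ((fun k => cdE6.checkConj (k / 72) (cdE6.cartI pairE6 (k / 72)) (reflE6 (k / 72)) (etaE6 (k / 72)) (k % 72))) = true := by decide +kernel
theorem e6Conj_0_160 : allRange 160 170 ((fun k => cdE6.checkConj (k / 72) (cdE6.cartI pairE6 (k / 72)) (reflE6 (k / 72)) (etaE6 (k / 72)) (k % 72))) = true := by decide +kernel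
theorem e6Conj_0_170 : allRange 170 180 ((fun k => cdE6.checkConj (k / 72) (cdE6.cartI pairE6 (k / 72)) (reflE6 (k / 72)) (etaE6 (k / 72)) (k % 72))) = true := by decide +kernel
theorem e6Conj_0_180 : allRange 180 190 ((fun k => cdE6.checkConj (k / 72) (cdE6.cartI pairE6 (k / 72)) (reflE6 (k / 72)) (etaE6 (k / 72)) (k % 72))) = true := by decide +kernel
theorem e6Conj_0_190 : allRange 190 200 ((fun k => cdE6.checkConj (k / 72) (cdE6.cartI pairE6 (k / 72)) (reflE6 (k / 72)) (etaE6 (k / 72)) (k % 72))) = true := by decide +kernel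
theorem e6Conj_0_200 : allRange 200 210 ((fun k => cdE6.checkConj (k / 72) (cdE6.cartI pairE6 (k / 72)) (reflE6 (k / 72)) (etaE6 (k / 72)) (k % 72))) = true := by decide +kernel
theorem e6Conj_0_210 : allRange 210 220 ((fun k => cdE6.checkConj (k / 72) (cdE6.cartI pairE6 (k / 72)) (reflE6 (k / 72)) (etaE6 (k / 72)) (k % 72))) = true := by decide +kernel
theorem e6Conj_0_220 : allRange 220 230 ((fun k => cdE6.checkConj (k / 72) (cdE6.cartI pairE6 (k / 72)) (reflE6 (k / 72)) (etaE6 (k / 72)) (k % 72))) = true := by decide +kernel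
theorem e6Conj_0_230 : allRange 230 240 ((fun k => cdE6.checkConj (k / 72) (cdE6.cartI pairE6 (k / 72)) (reflE6 (k / 72)) (etaE6 (k / 72)) (k % 72))) = true := by decide +kernel
theorem e6Conj_0_240 : allRange 240 250 ((fun k => cdE6.checkConj (k / 72) (cdE6.cartI pairE6 (k / 72)) (reflE6 (k / 72)) (etaE6 (k / 72)) (k % 72))) = true := by decide +kernel
theorem e6Conj_0_250 : allRange 250 260 ((fun k => cdE6.checkConj (k / 72) (cdE6.cartI pairE6 (k / 72)) (reflE6 (k / 72)) (etaE6 (k / 72)) (k % 72))) = true := by decide +kernel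
theorem e6Conj_0_260 : allRange 260 270 ((fun k => cdE6.checkConj (k / 72) (cdE6.cartI pairE6 (k / 72)) (reflE6 (k / 72)) (etaE6 (k / 72)) (k % 72))) = true := by decide +kernel
theorem e6Conj_0_270 : allRange 270 280 ((fun k => cdE6.checkConj (k / 72) (cdE6.cartI pairE6 (k / 72)) (reflE6 (k / 72)) (etaE6 (k / 72)) (k % 72))) = true := by decide +kernel
theorem e6Conj_0_280 : allRange 280 290 ((fun k => cdE6.checkConj (k / 72) (cdE6.cartI pairE6 (k / 72)) (reflE6 (k / 72)) (etaE6 (k / 72)) (k % 72))) = true := by decide +kernel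
theorem e6Conj_0_290 : allRange 290 300 ((fun k => cdE6.checkConj (k / 72) (cdE6.cartI pairE6 (k / 72)) (reflE6 (k / 72)) (etaE6 (k / 72)) (k % 72))) = true := by decide +kernel
theorem e6Conj_0_300 : allRange 300 310 ((fun k => cdE6.checkConj (k / 72) (cdE6.cartI pairE6 (k / 72)) (reflE6 (k / 72)) (etaE6 (k / 72)) (k % 72))) = true := by decide +kernel
theorem e6Conj_0_310 : allRange 310 320 ((fun k => cdE6.checkConj (k / 72) (cdE6.cartI pairE6 (k / 72)) (reflE6 (k / 72)) (etaE6 (k / 72)) (k % 72))) = true := by decide +kernel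
theorem e6Conj_0_320 : allRange 320 330 ((fun k => cdE6.checkConj (k / 72) (cdE6.cartI pairE6 (k / 72)) (reflE6 (k / 72)) (etaE6 (k / 72)) (k % 72))) = true := by decide +kernel
theorem e6Conj_0_330 : allRange 330 340 ((fun k => cdE6.checkConj (k / 72) (cdE6.cartI pairE6 (k / 72)) (reflE6 (k / 72)) (etaE6 (k / 72)) (k % 72))) = true := by decide +kernel
theorem e6Conj_0_340 : allRange 340 350 ((fun k => cdE6.checkConj (k / 72) (cdE6.cartI pairE6 (k / 72)) (reflE6 (k / 72)) (etaE6 (k / 72)) (k % 72))) = true := by decide +kernel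
theorem e6Conj_0_350 : allRange 350 360 ((fun k => cdE6.checkConj (k / 72) (cdE6.cartI pairE6 (k / 72)) (reflE6 (k / 72)) (etaE6 (k / 72)) (k % 72))) = true := by decide +kernel
theorem e6Conj_0_360 : allRange 360 370 ((fun k => cdE6.checkConj (k / 72) (cdE6.cartI pairE6 (k / 72)) (reflE6 (k / 72)) (etaE6 (k / 72)) (k % 72))) = true := by decide +kernel
theorem e6Conj_0_370 : allRange 370 380 ((fun k => cdE6.checkConj (k / 72) (cdE6.cartI pairE6 (k / 72)) (reflE6 (k / 72)) (etaE6 (k / 72)) (k % 72))) = true := by decide +kernel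

/-- Conjugation of root elements by the `n_p` of type E6 (roots 0 to 379). -/
theorem e6Conj_0 : ∀ r, 0 ≤ r → r < 380 → ((fun k => cdE6.checkConj (k / 72) (cdE6.cartI pairE6 (k / 72)) (reflE6 (k / 72)) (etaE6 (k / 72)) (k % 72))) r = true := by
  intro r h1 h2
  by_cases c0 : r < 10
  · exact allRange_spec e6Conj_0_0 r (by omega) c0
  by_cases c1 : r < 20
  · exact allRange_spec e6Conj_0_10 r (by omega) c1
  by_cases c2 : r < 30
  · exact allRange_spec e6Conj_0_20 r (by omega) c2
  by_cases c3 : r < 40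
  · exact allRange_spec e6Conj_0_30 r (by omega) c3
  by_cases c4 : r < 50
  · exact allRange_spec e6Conj_0_40 r (by omega) c4
  by_cases c5 : r < 60
  · exact allRange_spec e6Conj_0_50 r (by omega) c5
  by_cases c6 : r < 70
  · exact allRange_spec e6Conj_0_60 r (by omega) c6
  by_cases c7 : r < 80
  · exact allRange_spec e6Conj_0_70 r (by omega) c7
  by_cases c8 : r < 90
  · exact allRange_spec e6Conj_0_80 r (by omega) c8
  by_cases c9 : r < 100
  · exact allRange_spec e6Conj_0_90 r (by omega) c9
  by_cases c10 : r < 110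
  · exact allRange_spec e6Conj_0_100 r (by omega) c10
  by_cases c11 : r < 120
  · exact allRange_spec e6Conj_0_110 r (by omega) c11
  by_cases c12 : r < 130
  · exact allRange_spec e6Conj_0_120 r (by omega) c12
  by_cases c13 : r < 140
  · exact allRange_spec e6Conj_0_130 r (by omega) c13
  by_cases c14 : r < 150
  · exact allRange_spec e6Conj_0_140 r (by omega) c14
  by_cases c15 : r < 160
  · exact allRange_spec e6Conj_0_150 r (by omega) c15
  by_cases c16 : r < 170
  · exact allRange_spec e6Conj_0_160 r (by omega) c16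
  by_cases c17 : r < 180
  · exact allRange_spec e6Conj_0_170 r (by omega) c17
  by_cases c18 : r < 190
  · exact allRange_spec e6Conj_0_180 r (by omega) c18
  by_cases c19 : r < 200
  · exact allRange_spec e6Conj_0_190 r (by omega) c19
  by_cases c20 : r < 210
  · exact allRange_spec e6Conj_0_200 r (by omega) c20
  by_cases c21 : r < 220
  · exact allRange_spec e6Conj_0_210 r (by omega) c21
  by_cases c22 : r < 230
  · exact allRange_spec e6Conj_0_220 r (by omega) c22
  by_cases c23 : r < 240
  · exact allRange_spec e6Conj_0_230 r (by omega) c23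
  by_cases c24 : r < 250
  · exact allRange_spec e6Conj_0_240 r (by omega) c24
  by_cases c25 : r < 260
  · exact allRange_spec e6Conj_0_250 r (by omega) c25
  by_cases c26 : r < 270
  · exact allRange_spec e6Conj_0_260 r (by omega) c26
  by_cases c27 : r < 280
  · exact allRange_spec e6Conj_0_270 r (by omega) c27
  by_cases c28 : r < 290
  · exact allRange_spec e6Conj_0_280 r (by omega) c28
  by_cases c29 : r < 300
  · exact allRange_spec e6Conj_0_290 r (by omega) c29
  by_cases c30 : r < 310
  · exact allRange_spec e6Conj_0_300 r (by omega) c30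
  by_cases c31 : r < 320
  · exact allRange_spec e6Conj_0_310 r (by omega) c31
  by_cases c32 : r < 330
  · exact allRange_spec e6Conj_0_320 r (by omega) c32
  by_cases c33 : r < 340
  · exact allRange_spec e6Conj_0_330 r (by omega) c33
  by_cases c34 : r < 350
  · exact allRange_spec e6Conj_0_340 r (by omega) c34
  by_cases c35 : r < 360
  · exact allRange_spec e6Conj_0_350 r (by omega) c35
  by_cases c36 : r < 370
  · exact allRange_spec e6Conj_0_360 r (by omega) c36
  exact allRange_spec e6Conj_0_370 r (by omega) h2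

end Cfsg.Agent.Lib.Helper3.ChevM
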