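import Cfsg.Agent.Lib.Helper3.ChevData.E6Bn
import Cfsg.Agent.Lib.Helper3.ChevData.E6Sign
import Cfsg.Agent.Lib.Helper3.ChevData.E6Poin
import Cfsg.Agent.Lib.Helper3.Cox3
set_option autoImplicit false
set_option maxRecDepth 1000000
open Cfsg Cfsg.Lie

namespace Cfsg.Agent.Lib.Helper3.ChevM

/-- The orders of the products of two fundamental reflections of type E6. -/
theorem e6CoxOrd : ∀ i j : Fin cdE6.D.rank,
    wordOrdCheck cdE6.D relE6.refl [i.val, j.val] ((CoxeterMatrix.E₆ : CoxeterMatrix (Fin 6)) i j) = true := by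
  decide +kernel

/-- The order of the Coxeter group of type E6. -/
theorem e6CoxCard : Nat.card (CoxeterMatrix.E₆ : CoxeterMatrix (Fin 6)).Group = 51840 := by
  refine (monoE6.card_coxeter bnE6.dec e6Sign (CoxeterMatrix.E₆) e6CoxOrd).trans ?_
  rw [e6Poin]
  rfl

/-- The order of the Coxeter element of type E6. -/
theorem e6CoxEl : orderOf ((List.finRange 6).map (CoxeterMatrix.E₆ : CoxeterMatrix (Fin 6)).simple).prod = 12 :=
  monoE6.orderOf_coxeter bnE6.dec e6Sign (CoxeterMatrix.E₆) e6CoxOrd (List.finRange 6) 12 (by decide +kernel)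

/-- The homomorphism from `N` onto the Coxeter group of type E6, with kernel `H`. -/
theorem e6WeylHom {F : Type*} [Field F] :
    ∃ φ : ↥(cdE6.D.monomialSubgroup F) →* (CoxeterMatrix.E₆ : CoxeterMatrix (Fin 6)).Group, Function.Surjective φ ∧
      φ.ker = (cdE6.D.diagonalSubgroup F).subgroupOf (cdE6.D.monomialSubgroup F) ∧
      ∀ (i : Fin 6) (g : ↥(cdE6.D.monomialSubgroup F)),
        ((g : GL cdE6.D.Idx F) : Matrix cdE6.D.Idx cdE6.D.Idx F) = cdE6.D.nMat F (cdE6.D.simple i.val) 1 →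
          φ g = (CoxeterMatrix.E₆ : CoxeterMatrix (Fin 6)).simple i := by
  obtain ⟨φ, h1, h2, h3⟩ := monoE6.exists_weylHom (F := F) bnE6.dec
  let e : monoE6.weyl ≃* (CoxeterMatrix.E₆ : CoxeterMatrix (Fin 6)).Group :=
    monoE6.coxEquiv bnE6.dec e6Sign (CoxeterMatrix.E₆) e6CoxOrd
  refine ⟨e.toMonoidHom.comp φ, e.surjective.comp h1, ?_, ?_⟩
  · rw [← h2]
    ext g
    rw [MonoidHom.mem_ker, MonoidHom.mem_ker, MonoidHom.comp_apply]
    exact (MulEquiv.map_eq_one_iff e)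
  · intro i g hg
    rw [MonoidHom.comp_apply, h3 i g hg]
    exact monoE6.coxEquiv_apply bnE6.dec e6Sign (CoxeterMatrix.E₆) e6CoxOrd i

end Cfsg.Agent.Lib.Helper3.ChevM
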