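import Cfsg.Agent.Lib.Helper3.Cox6
import Cfsg.Agent.Lib.Helper3.ChevData.E6Cox
set_option autoImplicit false
set_option maxRecDepth 1000000
open Cfsg Cfsg.Lie

namespace Cfsg.Agent.Lib.Helper3.ChevM

theorem e6CoxT1 : ∀ i < 6, ∀ s < 72, reflNegCheck cdE6.D relE6.refl i s = true := by
  decide +kernel

theorem e6CoxT2_0 : ((List.range 72).all fun r => (List.range 72).all fun s =>
    pairInvCheck relE6.pair relE6.refl 0 r s) = true := by
  decide +kernel

theorem e6CoxT2_1 : ((List.range 72).all fun r => (List.range 72).all fun s =>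
    pairInvCheck relE6.pair relE6.refl 1 r s) = true := by
  decide +kernel

theorem e6CoxT2_2 : ((List.range 72).all fun r => (List.range 72).all fun s =>
    pairInvCheck relE6.pair relE6.refl 2 r s) = true := by
  decide +kernel

theorem e6CoxT2_3 : ((List.range 72).all fun r => (List.range 72).all fun s =>
    pairInvCheck relE6.pair relE6.refl 3 r s) = true := by
  decide +kernel

theorem e6CoxT2_4 : ((List.range 72).all fun r => (List.range 72).all fun s =>
    pairInvCheck relE6.pair relE6.refl 4 r s) = true := by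
  decide +kernel

theorem e6CoxT2_5 : ((List.range 72).all fun r => (List.range 72).all fun s =>
    pairInvCheck relE6.pair relE6.refl 5 r s) = true := by
  decide +kernel

theorem e6CoxT2 : ∀ i < 6, ∀ r < 72, ∀ s < 72, pairInvCheck relE6.pair relE6.refl i r s = true := by
  intro i hi
  interval_cases i
  · exact all_range2 _ _ e6CoxT2_0
  · exact all_range2 _ _ e6CoxT2_1
  · exact all_range2 _ _ e6CoxT2_2
  · exact all_range2 _ _ e6CoxT2_3
  · exact all_range2 _ _ e6CoxT2_4
  · exact all_range2 _ _ e6CoxT2_5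

theorem e6CoxT3 : ∀ i < 6, ∀ j < 6, pairNegCheck cdE6.D relE6.pair i j = true := by
  decide +kernel

theorem e6CoxT4 : connCheck cdE6.D relE6.pair = true := by
  decide +kernel

/-- A word for the longest element of the Weyl group of type E6. -/
def longWE6 : List ℕ := [0, 1, 2, 0, 3, 1, 2, 0, 3, 2, 4, 3, 1, 2, 0, 3, 2, 4, 3, 1, 5, 4, 3, 1, 2, 0, 3, 2, 4, 3, 1, 5, 4, 3, 2, 0]

theorem e6CoxNoNeg : noNegCheck cdE6.D relE6.refl longWE6 = true := by
  decide +kernel

end Cfsg.Agent.Lib.Helper3.ChevM
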