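import Cfsg.Agent.Lib.Helper3.Cox4
import Cfsg.Agent.Lib.Helper3.ChevData.E6Cox
set_option autoImplicit false
set_option maxRecDepth 1000000
open Cfsg Cfsg.Lie

namespace Cfsg.Agent.Lib.Helper3.ChevM

/-- Reflections of type E6 (as a conjugating word and a fundamental reflection) generating the Weyl group together with the Coxeter element. -/
def tsgE6 : List (List ℕ × ℕ) := [([3], 3)]

/-- The words of the reflections `tsgE6`. -/
def tswE6 : List (List ℕ) := tsgE6.map fun p => p.1 ++ [p.2] ++ p.1.reverse

/-- Words in the Coxeter element, its inverse and the reflections `tsgE6` for the fundamental reflections of type E6. -/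
def progE6 (i : ℕ) : List ℕ :=
  (#[[1, 1, 1, 1, 1, 2, 0, 0, 0, 0, 0], [2, 1, 1, 1, 2, 0, 0, 0, 2], [1, 1, 1, 1, 2, 0, 0, 0, 0], [2], [0, 2, 1], [0, 0, 2, 1, 1]] : Array (List ℕ)).getD i []

theorem e6GenW : genWeylCheck cdE6.D relE6.refl (List.range 6) tswE6 progE6 = true := by
  decide +kernel

end Cfsg.Agent.Lib.Helper3.ChevM
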