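import Cfsg.Prelude.Def_ChevE6
import Cfsg.Agent.Lib.Helper3.ChevData.E6Hd2
import Cfsg.Agent.Lib.Helper3.ChevL2
set_option autoImplicit false
set_option maxRecDepth 1000000
set_option Elab.async false

namespace Cfsg.Agent.Lib.Helper3.ChevM

theorem e6Cv_0_0 : allRange 0 72 (fun k => commVecCheck Cfsg.Lie.chevE6 vecE6 (k / 72) (k % 72)) = true := by decide +kernel
theorem e6Cv_0_72 : allRange 72 144 (fun k => commVecCheck Cfsg.Lie.chevE6 vecE6 (k / 72) (k % 72)) = true := by decide +kernel
theorem e6Cv_0_144 : allRange 144 216 (fun k => commVecCheck Cfsg.Lie.chevE6 vecE6 (k / 72) (k % 72)) = true := by decide +kernel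
theorem e6Cv_0_216 : allRange 216 288 (fun k => commVecCheck Cfsg.Lie.chevE6 vecE6 (k / 72) (k % 72)) = true := by decide +kernel
theorem e6Cv_0_288 : allRange 288 360 (fun k => commVecCheck Cfsg.Lie.chevE6 vecE6 (k / 72) (k % 72)) = true := by decide +kernel
theorem e6Cv_0_360 : allRange 360 432 (fun k => commVecCheck Cfsg.Lie.chevE6 vecE6 (k / 72) (k % 72)) = true := by decide +kernel
theorem e6Cv_0_432 : allRange 432 504 (fun k => commVecCheck Cfsg.Lie.chevE6 vecE6 (k / 72) (k % 72)) = true := by decide +kernel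
theorem e6Cv_0_504 : allRange 504 576 (fun k => commVecCheck Cfsg.Lie.chevE6 vecE6 (k / 72) (k % 72)) = true := by decide +kernel
theorem e6Cv_0_576 : allRange 576 648 (fun k => commVecCheck Cfsg.Lie.chevE6 vecE6 (k / 72) (k % 72)) = true := by decide +kernel
theorem e6Cv_0_648 : allRange 648 720 (fun k => commVecCheck Cfsg.Lie.chevE6 vecE6 (k / 72) (k % 72)) = true := by decide +kernel
theorem e6Cv_0_720 : allRange 720 792 (fun k => commVecCheck Cfsg.Lie.chevE6 vecE6 (k / 72) (k % 72)) = true := by decide +kernel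
theorem e6Cv_0_792 : allRange 792 864 (fun k => commVecCheck Cfsg.Lie.chevE6 vecE6 (k / 72) (k % 72)) = true := by decide +kernel

/-- The roots of the commutator formula of type E6 are the expected combinations (roots 0 to 863). -/
theorem e6Cv_0 : ∀ r, 0 ≤ r → r < 864 → (fun k => commVecCheck Cfsg.Lie.chevE6 vecE6 (k / 72) (k % 72)) r = true := by
  intro r h1 h2
  by_cases c0 : r < 72
  · exact allRange_spec e6Cv_0_0 r (by omega) c0
  by_cases c1 : r < 144
  · exact allRange_spec e6Cv_0_72 r (by omega) c1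
  by_cases c2 : r < 216
  · exact allRange_spec e6Cv_0_144 r (by omega) c2
  by_cases c3 : r < 288
  · exact allRange_spec e6Cv_0_216 r (by omega) c3
  by_cases c4 : r < 360
  · exact allRange_spec e6Cv_0_288 r (by omega) c4
  by_cases c5 : r < 432
  · exact allRange_spec e6Cv_0_360 r (by omega) c5
  by_cases c6 : r < 504
  · exact allRange_spec e6Cv_0_432 r (by omega) c6
  by_cases c7 : r < 576
  · exact allRange_spec e6Cv_0_504 r (by omega) c7
  by_cases c8 : r < 648
  · exact allRange_spec e6Cv_0_576 r (by omega) c8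
  by_cases c9 : r < 720
  · exact allRange_spec e6Cv_0_648 r (by omega) c9
  by_cases c10 : r < 792
  · exact allRange_spec e6Cv_0_720 r (by omega) c10
  exact allRange_spec e6Cv_0_792 r (by omega) h2

end Cfsg.Agent.Lib.Helper3.ChevM
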