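import Cfsg.Agent.Lib.Helper3.ChevData.E6Datum
import Cfsg.Agent.Lib.Helper3.ChevData.E6Tabs
import Cfsg.Agent.Lib.Helper3.ChevM7
set_option autoImplicit false
set_option maxRecDepth 1000000
set_option Elab.async false

namespace Cfsg.Agent.Lib.Helper3.ChevM

theorem e6Dx_0_0 : allRange 0 14 ((fun k => cdE6.checkDX (cdE6.expo pairE6 (Cfsg.Lie.chevE6.simple (k / 72))) (pairE6 (Cfsg.Lie.chevE6.simple (k / 72)) (k % 72)) (k % 72))) = true := by decide +kernel
theorem e6Dx_0_14 : allRange 14 28 ((fun k => cdE6.checkDX (cdE6.expo pairE6 (Cfsg.Lie.chevE6.simple (k / 72))) (pairE6 (Cfsg.Lie.chevE6.simple (k / 72)) (k % 72)) (k % 72))) = true := by decide +kernel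
theorem e6Dx_0_28 : allRange 28 42 ((fun k => cdE6.checkDX (cdE6.expo pairE6 (Cfsg.Lie.chevE6.simple (k / 72))) (pairE6 (Cfsg.Lie.chevE6.simple (k / 72)) (k % 72)) (k % 72))) = true := by decide +kernel
theorem e6Dx_0_42 : allRange 42 56 ((fun k => cdE6.checkDX (cdE6.expo pairE6 (Cfsg.Lie.chevE6.simple (k / 72))) (pairE6 (Cfsg.Lie.chevE6.simple (k / 72)) (k % 72)) (k % 72))) = true := by decide +kernel
theorem e6Dx_0_56 : allRange 56 70 ((fun k => cdE6.checkDX (cdE6.expo pairE6 (Cfsg.Lie.chevE6.simple (k / 72))) (pairE6 (Cfsg.Lie.chevE6.simple (k / 72)) (k % 72)) (k % 72))) = true := by decide +kernel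
theorem e6Dx_0_70 : allRange 70 84 ((fun k => cdE6.checkDX (cdE6.expo pairE6 (Cfsg.Lie.chevE6.simple (k / 72))) (pairE6 (Cfsg.Lie.chevE6.simple (k / 72)) (k % 72)) (k % 72))) = true := by decide +kernel
theorem e6Dx_0_84 : allRange 84 98 ((fun k => cdE6.checkDX (cdE6.expo pairE6 (Cfsg.Lie.chevE6.simple (k / 72))) (pairE6 (Cfsg.Lie.chevE6.simple (k / 72)) (k % 72)) (k % 72))) = true := by decide +kernel
theorem e6Dx_0_98 : allRange 98 112 ((fun k => cdE6.checkDX (cdE6.expo pairE6 (Cfsg.Lie.chevE6.simple (k / 72))) (pairE6 (Cfsg.Lie.chevE6.simple (k / 72)) (k % 72)) (k % 72))) = true := by decide +kernel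
theorem e6Dx_0_112 : allRange 112 126 ((fun k => cdE6.checkDX (cdE6.expo pairE6 (Cfsg.Lie.chevE6.simple (k / 72))) (pairE6 (Cfsg.Lie.chevE6.simple (k / 72)) (k % 72)) (k % 72))) = true := by decide +kernel
theorem e6Dx_0_126 : allRange 126 140 ((fun k => cdE6.checkDX (cdE6.expo pairE6 (Cfsg.Lie.chevE6.simple (k / 72))) (pairE6 (Cfsg.Lie.chevE6.simple (k / 72)) (k % 72)) (k % 72))) = true := by decide +kernel
theorem e6Dx_0_140 : allRange 140 154 ((fun k => cdE6.checkDX (cdE6.expo pairE6 (Cfsg.Lie.chevE6.simple (k / 72))) (pairE6 (Cfsg.Lie.chevE6.simple (k / 72)) (k % 72)) (k % 72))) = true := by decide +kernel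
theorem e6Dx_0_154 : allRange 154 168 ((fun k => cdE6.checkDX (cdE6.expo pairE6 (Cfsg.Lie.chevE6.simple (k / 72))) (pairE6 (Cfsg.Lie.chevE6.simple (k / 72)) (k % 72)) (k % 72))) = true := by decide +kernel
theorem e6Dx_0_168 : allRange 168 182 ((fun k => cdE6.checkDX (cdE6.expo pairE6 (Cfsg.Lie.chevE6.simple (k / 72))) (pairE6 (Cfsg.Lie.chevE6.simple (k / 72)) (k % 72)) (k % 72))) = true := by decide +kernel
theorem e6Dx_0_182 : allRange 182 196 ((fun k => cdE6.checkDX (cdE6.expo pairE6 (Cfsg.Lie.chevE6.simple (k / 72))) (pairE6 (Cfsg.Lie.chevE6.simple (k / 72)) (k % 72)) (k % 72))) = true := by decide +kernel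
theorem e6Dx_0_196 : allRange 196 210 ((fun k => cdE6.checkDX (cdE6.expo pairE6 (Cfsg.Lie.chevE6.simple (k / 72))) (pairE6 (Cfsg.Lie.chevE6.simple (k / 72)) (k % 72)) (k % 72))) = true := by decide +kernel
theorem e6Dx_0_210 : allRange 210 224 ((fun k => cdE6.checkDX (cdE6.expo pairE6 (Cfsg.Lie.chevE6.simple (k / 72))) (pairE6 (Cfsg.Lie.chevE6.simple (k / 72)) (k % 72)) (k % 72))) = true := by decide +kernel
theorem e6Dx_0_224 : allRange 224 238 ((fun k => cdE6.checkDX (cdE6.expo pairE6 (Cfsg.Lie.chevE6.simple (k / 72))) (pairE6 (Cfsg.Lie.chevE6.simple (k / 72)) (k % 72)) (k % 72))) = true := by decide +kernel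
theorem e6Dx_0_238 : allRange 238 252 ((fun k => cdE6.checkDX (cdE6.expo pairE6 (Cfsg.Lie.chevE6.simple (k / 72))) (pairE6 (Cfsg.Lie.chevE6.simple (k / 72)) (k % 72)) (k % 72))) = true := by decide +kernel
theorem e6Dx_0_252 : allRange 252 266 ((fun k => cdE6.checkDX (cdE6.expo pairE6 (Cfsg.Lie.chevE6.simple (k / 72))) (pairE6 (Cfsg.Lie.chevE6.simple (k / 72)) (k % 72)) (k % 72))) = true := by decide +kernel
theorem e6Dx_0_266 : allRange 266 280 ((fun k => cdE6.checkDX (cdE6.expo pairE6 (Cfsg.Lie.chevE6.simple (k / 72))) (pairE6 (Cfsg.Lie.chevE6.simple (k / 72)) (k % 72)) (k % 72))) = true := by decide +kernel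
theorem e6Dx_0_280 : allRange 280 294 ((fun k => cdE6.checkDX (cdE6.expo pairE6 (Cfsg.Lie.chevE6.simple (k / 72))) (pairE6 (Cfsg.Lie.chevE6.simple (k / 72)) (k % 72)) (k % 72))) = true := by decide +kernel
theorem e6Dx_0_294 : allRange 294 308 ((fun k => cdE6.checkDX (cdE6.expo pairE6 (Cfsg.Lie.chevE6.simple (k / 72))) (pairE6 (Cfsg.Lie.chevE6.simple (k / 72)) (k % 72)) (k % 72))) = true := by decide +kernel
theorem e6Dx_0_308 : allRange 308 322 ((fun k => cdE6.checkDX (cdE6.expo pairE6 (Cfsg.Lie.chevE6.simple (k / 72))) (pairE6 (Cfsg.Lie.chevE6.simple (k / 72)) (k % 72)) (k % 72))) = true := by decide +kernel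
theorem e6Dx_0_322 : allRange 322 336 ((fun k => cdE6.checkDX (cdE6.expo pairE6 (Cfsg.Lie.chevE6.simple (k / 72))) (pairE6 (Cfsg.Lie.chevE6.simple (k / 72)) (k % 72)) (k % 72))) = true := by decide +kernel
theorem e6Dx_0_336 : allRange 336 350 ((fun k => cdE6.checkDX (cdE6.expo pairE6 (Cfsg.Lie.chevE6.simple (k / 72))) (pairE6 (Cfsg.Lie.chevE6.simple (k / 72)) (k % 72)) (k % 72))) = true := by decide +kernel
theorem e6Dx_0_350 : allRange 350 364 ((fun k => cdE6.checkDX (cdE6.expo pairE6 (Cfsg.Lie.chevE6.simple (k / 72))) (pairE6 (Cfsg.Lie.chevE6.simple (k / 72)) (k % 72)) (k % 72))) = true := by decide +kernel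
theorem e6Dx_0_364 : allRange 364 378 ((fun k => cdE6.checkDX (cdE6.expo pairE6 (Cfsg.Lie.chevE6.simple (k / 72))) (pairE6 (Cfsg.Lie.chevE6.simple (k / 72)) (k % 72)) (k % 72))) = true := by decide +kernel
theorem e6Dx_0_378 : allRange 378 392 ((fun k => cdE6.checkDX (cdE6.expo pairE6 (Cfsg.Lie.chevE6.simple (k / 72))) (pairE6 (Cfsg.Lie.chevE6.simple (k / 72)) (k % 72)) (k % 72))) = true := by decide +kernel
theorem e6Dx_0_392 : allRange 392 406 ((fun k => cdE6.checkDX (cdE6.expo pairE6 (Cfsg.Lie.chevE6.simple (k / 72))) (pairE6 (Cfsg.Lie.chevE6.simple (k / 72)) (k % 72)) (k % 72))) = true := by decide +kernel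
theorem e6Dx_0_406 : allRange 406 420 ((fun k => cdE6.checkDX (cdE6.expo pairE6 (Cfsg.Lie.chevE6.simple (k / 72))) (pairE6 (Cfsg.Lie.chevE6.simple (k / 72)) (k % 72)) (k % 72))) = true := by decide +kernel
theorem e6Dx_0_420 : allRange 420 432 ((fun k => cdE6.checkDX (cdE6.expo pairE6 (Cfsg.Lie.chevE6.simple (k / 72))) (pairE6 (Cfsg.Lie.chevE6.simple (k / 72)) (k % 72)) (k % 72))) = true := by decide +kernel

/-- Conjugation of root elements by the `h_p(c)` of type E6 (roots 0 to 431). -/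
theorem e6Dx_0 : ∀ r, 0 ≤ r → r < 432 → ((fun k => cdE6.checkDX (cdE6.expo pairE6 (Cfsg.Lie.chevE6.simple (k / 72))) (pairE6 (Cfsg.Lie.chevE6.simple (k / 72)) (k % 72)) (k % 72))) r = true := by
  intro r h1 h2
  by_cases c0 : r < 14
  · exact allRange_spec e6Dx_0_0 r (by omega) c0
  by_cases c1 : r < 28
  · exact allRange_spec e6Dx_0_14 r (by omega) c1
  by_cases c2 : r < 42
  · exact allRange_spec e6Dx_0_28 r (by omega) c2
  by_cases c3 : r < 56
  · exact allRange_spec e6Dx_0_42 r (by omega) c3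
  by_cases c4 : r < 70
  · exact allRange_spec e6Dx_0_56 r (by omega) c4
  by_cases c5 : r < 84
  · exact allRange_spec e6Dx_0_70 r (by omega) c5
  by_cases c6 : r < 98
  · exact allRange_spec e6Dx_0_84 r (by omega) c6
  by_cases c7 : r < 112
  · exact allRange_spec e6Dx_0_98 r (by omega) c7
  by_cases c8 : r < 126
  · exact allRange_spec e6Dx_0_112 r (by omega) c8
  by_cases c9 : r < 140
  · exact allRange_spec e6Dx_0_126 r (by omega) c9
  by_cases c10 : r < 154
  · exact allRange_spec e6Dx_0_140 r (by omega) c10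
  by_cases c11 : r < 168
  · exact allRange_spec e6Dx_0_154 r (by omega) c11
  by_cases c12 : r < 182
  · exact allRange_spec e6Dx_0_168 r (by omega) c12
  by_cases c13 : r < 196
  · exact allRange_spec e6Dx_0_182 r (by omega) c13
  by_cases c14 : r < 210
  · exact allRange_spec e6Dx_0_196 r (by omega) c14
  by_cases c15 : r < 224
  · exact allRange_spec e6Dx_0_210 r (by omega) c15
  by_cases c16 : r < 238
  · exact allRange_spec e6Dx_0_224 r (by omega) c16
  by_cases c17 : r < 252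
  · exact allRange_spec e6Dx_0_238 r (by omega) c17
  by_cases c18 : r < 266
  · exact allRange_spec e6Dx_0_252 r (by omega) c18
  by_cases c19 : r < 280
  · exact allRange_spec e6Dx_0_266 r (by omega) c19
  by_cases c20 : r < 294
  · exact allRange_spec e6Dx_0_280 r (by omega) c20
  by_cases c21 : r < 308
  · exact allRange_spec e6Dx_0_294 r (by omega) c21
  by_cases c22 : r < 322
  · exact allRange_spec e6Dx_0_308 r (by omega) c22
  by_cases c23 : r < 336
  · exact allRange_spec e6Dx_0_322 r (by omega) c23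
  by_cases c24 : r < 350
  · exact allRange_spec e6Dx_0_336 r (by omega) c24
  by_cases c25 : r < 364
  · exact allRange_spec e6Dx_0_350 r (by omega) c25
  by_cases c26 : r < 378
  · exact allRange_spec e6Dx_0_364 r (by omega) c26
  by_cases c27 : r < 392
  · exact allRange_spec e6Dx_0_378 r (by omega) c27
  by_cases c28 : r < 406
  · exact allRange_spec e6Dx_0_392 r (by omega) c28
  by_cases c29 : r < 420
  · exact allRange_spec e6Dx_0_406 r (by omega) c29
  exact allRange_spec e6Dx_0_420 r (by omega) h2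

end Cfsg.Agent.Lib.Helper3.ChevM
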