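import Mathlib
set_option autoImplicit false

namespace Cfsg.Agent.Lib.Helper3.ChevM

/-- The roots of type E6 among the roots of type E8. -/
def iotaE6E8Arr : Array ℕ := #[35, 45, 51, 54, 55, 61, 64, 65, 68, 69, 70, 73, 74, 75, 76, 77, 83, 86, 87, 90, 91, 92, 95, 96, 97, 98, 101, 102, 103, 104, 107, 108, 109, 112, 113, 116, 123, 126, 127, 130, 131, 132, 135, 136, 137, 138, 141, 142, 143, 144, 147, 148, 149, 152, 153, 156, 162, 163, 164, 165, 166, 169, 170, 171, 174, 175, 178, 184, 185, 188, 194, 204]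

/-- The roots of type E6 among the roots of type E8. -/
def iotaE6E8 (r : ℕ) : ℕ := iotaE6E8Arr.getD r 0

/-- A left inverse of `iotaE6E8`. -/
def kappaE6E8Arr : Array ℕ := #[0, 0, 0, 0, 0, 0, 0, 0, 0, 0, 0, 0, 0, 0, 0, 0, 0, 0, 0, 0, 0, 0, 0, 0, 0, 0, 0, 0, 0, 0, 0, 0, 0, 0, 0, 0, 0, 0, 0, 0, 0, 0, 0, 0, 0, 1, 0, 0, 0, 0, 0, 2, 0, 0, 3, 4, 0, 0, 0, 0, 0, 5, 0, 0, 6, 7, 0, 0, 8, 9, 10, 0, 0, 11, 12, 13, 14, 15, 0, 0, 0, 0, 0, 16, 0, 0, 17, 18, 0, 0, 19, 20, 21, 0, 0, 22, 23, 24, 25, 0, 0, 26, 27, 28, 29, 0, 0, 30, 31, 32, 0, 0, 33, 34, 0, 0, 35, 0, 0, 0, 0, 0, 0, 36, 0, 0, 37, 38, 0, 0, 39, 40, 41, 0, 0, 42, 43, 44, 45, 0, 0, 46, 47, 48, 49, 0, 0, 50, 51, 52, 0, 0, 53, 54, 0, 0, 55, 0, 0, 0, 0, 0, 56, 57, 58, 59, 60, 0, 0, 61, 62, 63, 0, 0, 64, 65, 0, 0, 66, 0, 0, 0, 0, 0,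 67, 68, 0, 0, 69, 0, 0, 0, 0, 0, 70, 0, 0, 0, 0, 0, 0, 0, 0, 0, 71, 0, 0, 0, 0, 0, 0, 0, 0, 0, 0, 0, 0, 0, 0, 0, 0, 0, 0, 0, 0, 0, 0, 0, 0, 0, 0, 0, 0, 0, 0, 0, 0, 0, 0, 0]

/-- A left inverse of `iotaE6E8`. -/
def kappaE6E8 (r : ℕ) : ℕ := kappaE6E8Arr.getD r 0

end Cfsg.Agent.Lib.Helper3.ChevM
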