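import Cfsg.Prelude.Def_ChevE6
import Cfsg.Prelude.Def_ChevE8
import Cfsg.Agent.Lib.Helper3.ChevData.E6EmbDef
import Cfsg.Agent.Lib.Helper3.StEmb1
set_option autoImplicit false
set_option maxRecDepth 1000000
set_option Elab.async false

namespace Cfsg.Agent.Lib.Helper3.ChevM
open Cfsg.Agent.Lib.Helper3.StEmb

theorem e6EmbComm_2_4884 : allRange 4884 4950 ((fun k => embCommOK Cfsg.Lie.chevE6 Cfsg.Lie.chevE8 iotaE6E8 (k / 72) (k % 72))) = true := by decide +kernel
theorem e6EmbComm_2_4950 : allRange 4950 5016 ((fun k => embCommOK Cfsg.Lie.chevE6 Cfsg.Lie.chevE8 iotaE6E8 (k / 72) (k % 72))) = true := by decide +kernel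
theorem e6EmbComm_2_5016 : allRange 5016 5082 ((fun k => embCommOK Cfsg.Lie.chevE6 Cfsg.Lie.chevE8 iotaE6E8 (k / 72) (k % 72))) = true := by decide +kernel
theorem e6EmbComm_2_5082 : allRange 5082 5148 ((fun k => embCommOK Cfsg.Lie.chevE6 Cfsg.Lie.chevE8 iotaE6E8 (k / 72) (k % 72))) = true := by decide +kernel
theorem e6EmbComm_2_5148 : allRange 5148 5184 ((fun k => embCommOK Cfsg.Lie.chevE6 Cfsg.Lie.chevE8 iotaE6E8 (k / 72) (k % 72))) = true := by decide +kernel

/-- The embedding of the roots of type E6 into the roots of type E8 preserves the commutator formula (roots 4884 to 5183). -/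
theorem e6EmbComm_2 : ∀ r, 4884 ≤ r → r < 5184 → ((fun k => embCommOK Cfsg.Lie.chevE6 Cfsg.Lie.chevE8 iotaE6E8 (k / 72) (k % 72))) r = true := by
  intro r h1 h2
  by_cases c0 : r < 4950
  · exact allRange_spec e6EmbComm_2_4884 r (by omega) c0
  by_cases c1 : r < 5016
  · exact allRange_spec e6EmbComm_2_4950 r (by omega) c1
  by_cases c2 : r < 5082
  · exact allRange_spec e6EmbComm_2_5016 r (by omega) c2
  by_cases c3 : r < 5148
  · exact allRange_spec e6EmbComm_2_5082 r (by omega) c3
  exact allRange_spec e6EmbComm_2_5148 r (by omega) h2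

end Cfsg.Agent.Lib.Helper3.ChevM
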