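import Cfsg.Agent.Lib.Helper3.ChevData.E6EmbCommA
import Cfsg.Agent.Lib.Helper3.ChevData.E6EmbCommB
import Cfsg.Agent.Lib.Helper3.ChevData.E6EmbCommC
set_option autoImplicit false

namespace Cfsg.Agent.Lib.Helper3.ChevM
open Cfsg.Agent.Lib.Helper3.StEmb

/-- The embedding of the roots of type E6 into the roots of type E8 preserves the commutator formula. -/
theorem e6EmbComm : ∀ r < 5184, ((fun k => embCommOK Cfsg.Lie.chevE6 Cfsg.Lie.chevE8 iotaE6E8 (k / 72) (k % 72))) r = true := by
  intro r hr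
  by_cases h0 : r < 2442
  · exact e6EmbComm_0 r (by omega) h0
  by_cases h1 : r < 4884
  · exact e6EmbComm_1 r (by omega) h1
  exact e6EmbComm_2 r (by omega) hr

end Cfsg.Agent.Lib.Helper3.ChevM
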