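import Cfsg.Agent.Lib.Helper3.ChevData.E6EmbOkA
set_option autoImplicit false

namespace Cfsg.Agent.Lib.Helper3.ChevM
open Cfsg.Agent.Lib.Helper3.StEmb

/-- The embedding of the roots of type E6 into the roots of type E8 commutes with the opposition. -/
theorem e6EmbOk : ∀ r < 72, ((fun r => embOK Cfsg.Lie.chevE6 Cfsg.Lie.chevE8 iotaE6E8 kappaE6E8 r)) r = true := by
  intro r hr
  exact e6EmbOk_0 r (by omega) hr

end Cfsg.Agent.Lib.Helper3.ChevM
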