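import Cfsg.Agent.Lib.Helper3.ChevData.E6Datum
import Cfsg.Agent.Lib.Helper3.ChevData.E6Tabs
import Cfsg.Agent.Lib.Helper3.ChevM7
set_option autoImplicit false
set_option maxRecDepth 1000000
set_option Elab.async false

namespace Cfsg.Agent.Lib.Helper3.ChevM

theorem e6Eta_0_0 : allRange 0 162 ((fun k => etaCheck Cfsg.Lie.chevE6 etaE6 (k / 72) (k % 72))) = true := by decide +kernel
theorem e6Eta_0_162 : allRange 162 324 ((fun k => etaCheck Cfsg.Lie.chevE6 etaE6 (k / 72) (k % 72))) = true := by decide +kernel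
theorem e6Eta_0_324 : allRange 324 432 ((fun k => etaCheck Cfsg.Lie.chevE6 etaE6 (k / 72) (k % 72))) = true := by decide +kernel

/-- Sign table of type E6 (roots 0 to 431). -/
theorem e6Eta_0 : ∀ r, 0 ≤ r → r < 432 → ((fun k => etaCheck Cfsg.Lie.chevE6 etaE6 (k / 72) (k % 72))) r = true := by
  intro r h1 h2
  by_cases c0 : r < 162
  · exact allRange_spec e6Eta_0_0 r (by omega) c0
  by_cases c1 : r < 324
  · exact allRange_spec e6Eta_0_162 r (by omega) c1
  exact allRange_spec e6Eta_0_324 r (by omega) h2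

end Cfsg.Agent.Lib.Helper3.ChevM
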