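import Cfsg.Agent.Lib.Helper3.ChevData.F4Ok
set_option autoImplicit false

namespace Cfsg.Agent.Lib.Helper3.ChevM

/-- The datum of type F4 with its compiled columns. -/
def cdF4 : CDatum where
  D := Cfsg.Lie.chevF4
  cols := colsF4
  ok := isCols_of_check _ _ f4Ok

end Cfsg.Agent.Lib.Helper3.ChevM
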