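import Cfsg.Prelude.Def_ChevAutomorphisms
import Cfsg.Agent.Lib.Helper3.ChevGen1
import Cfsg.Agent.Lib.Helper3.ChevData.E6Mono
import Cfsg.Agent.Lib.Helper3.ChevData.E6Hdec
import Cfsg.Agent.Lib.Helper3.ChevData.E6CommData
set_option autoImplicit false
set_option maxRecDepth 1000000
open Cfsg Cfsg.Lie

namespace Cfsg.Agent.Lib.Helper3.ChevM

/-- For each root of type E6 conjugate to the first fundamental root, a word of fundamental reflections mapping that root to it. -/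
def wt0E6 (r : ℕ) : List ℕ :=
  (#[[1, 3, 4, 5, 2, 3, 4, 1, 3, 2, 0], [3, 4, 5, 2, 3, 4, 1, 3, 2, 0], [4, 5, 2, 3, 4, 1, 3, 2, 0], [5, 2, 3, 4, 1, 3, 2, 0], [2, 3, 4, 1, 3, 2, 0], [4, 5, 3, 4, 1, 3, 2, 0], [5, 3, 4, 1, 3, 2, 0], [3, 4, 1, 3, 2, 0], [5, 4, 1, 3, 2, 0], [4, 1, 3, 2, 0], [1, 3, 2, 0], [5, 4, 3, 2, 0], [4, 3, 2, 0], [3, 2, 0], [2, 0], [0], [4, 5, 3, 4, 1, 3, 0, 2, 0], [5, 3, 4, 1, 3, 0, 2, 0], [3, 4, 1, 3, 0, 2, 0], [5, 4, 1, 3, 0, 2, 0], [4, 1, 3, 0, 2, 0], [1, 3, 0, 2, 0], [5, 4, 2, 1, 3, 0, 2, 0], [4, 2, 1, 3, 0, 2, 0], [2, 1, 3, 0, 2, 0], [3, 2, 1, 3, 0, 2, 0], [5, 4, 3, 0, 2, 0], [4, 3, 0, 2, 0], [3, 0, 2, 0], [0, 2, 0], [5, 4, 2, 3, 0, 2, 0], [4, 2, 3, 0, 2, 0], [2, 3, 0, 2, 0], [5, 3, 4, 2, 3, 0, 2, 0], [3, 4, 2, 3, 0, 2, 0], [4, 5, 3, 4, 2, 3, 0, 2, 0],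 [4, 5, 3, 4, 2, 3, 0, 2], [3, 4, 2, 3, 0, 2], [5, 3, 4, 2, 3, 0, 2], [2, 3, 0, 2], [4, 2, 3, 0, 2], [5, 4, 2, 3, 0, 2], [0, 2], [3, 0, 2], [4, 3, 0, 2], [5, 4, 3, 0, 2], [3, 2, 1, 3, 0, 2], [2, 1, 3, 0, 2], [4, 2, 1, 3, 0, 2], [5, 4, 2, 1, 3, 0, 2], [1, 3, 0, 2], [4, 1, 3, 0, 2], [5, 4, 1, 3, 0, 2], [3, 4, 1, 3, 0, 2], [5, 3, 4, 1, 3, 0, 2], [4, 5, 3, 4, 1, 3, 0, 2], [], [2], [3, 2], [4, 3, 2], [5, 4, 3, 2], [1, 3, 2], [4, 1, 3, 2], [5, 4, 1, 3, 2], [3, 4, 1, 3, 2], [5, 3, 4, 1, 3, 2], [4, 5, 3, 4, 1, 3, 2], [2, 3, 4, 1, 3, 2], [5, 2, 3, 4, 1, 3, 2], [4, 5, 2, 3, 4, 1, 3, 2], [3, 4, 5, 2, 3, 4, 1, 3, 2], [1, 3, 4, 5, 2, 3, 4, 1, 3, 2]] : Array (List ℕ)).getD r []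

/-- For each remaining root of type E6, two roots whose commutator it is, with the constant. -/
def abE6 (r : ℕ) : ℕ × ℕ × ℤ :=
  (#[(0, 0, 0), (0, 0, 0), (0, 0, 0), (0, 0, 0), (0, 0, 0), (0, 0, 0), (0, 0, 0), (0, 0, 0), (0, 0, 0), (0, 0, 0), (0, 0, 0), (0, 0, 0), (0, 0, 0), (0, 0, 0), (0, 0, 0), (0, 0, 0), (0, 0, 0), (0, 0, 0), (0, 0, 0), (0, 0, 0), (0, 0, 0), (0, 0, 0), (0, 0, 0), (0, 0, 0), (0, 0, 0), (0, 0, 0), (0, 0, 0), (0, 0, 0), (0, 0, 0), (0, 0, 0), (0, 0, 0), (0, 0, 0), (0, 0, 0), (0, 0, 0), (0, 0, 0), (0, 0, 0), (0, 0, 0), (0, 0, 0), (0, 0, 0), (0, 0, 0), (0, 0, 0), (0, 0, 0), (0, 0, 0), (0, 0, 0), (0, 0, 0), (0, 0, 0), (0, 0, 0), (0, 0, 0), (0, 0, 0), (0, 0, 0), (0, 0, 0), (0, 0, 0), (0, 0, 0), (0, 0, 0), (0, 0, 0), (0, 0, 0), (0, 0, 0), (0, 0, 0), (0, 0, 0),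 (0, 0, 0), (0, 0, 0), (0, 0, 0), (0, 0, 0), (0, 0, 0), (0, 0, 0), (0, 0, 0), (0, 0, 0), (0, 0, 0), (0, 0, 0), (0, 0, 0), (0, 0, 0), (0, 0, 0)] : Array (ℕ × ℕ × ℤ)).getD r (0, 0, 0)

/-- For each short fundamental root of type E6, a word mapping it to the first fundamental root. -/
def wsE6 (i : ℕ) : List ℕ :=
  (#[[], [2, 3, 0, 2, 1, 3], [2, 0], [2, 3, 0, 2], [2, 3, 4, 0, 2, 3], [2, 3, 4, 5, 0, 2, 3, 4]] : Array (List ℕ)).getD i []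

theorem e6Gen2 : ∀ r < 72, gen2Check cdE6.D relE6.refl 56 1 wt0E6 abE6 r = true := by
  decide +kernel

theorem e6GenWs : ∀ i < 6, cdE6.D.isLong (cdE6.D.simple i) = false →
    ((wsE6 i).all fun j => decide (j < 6)) = true ∧ reflW relE6.refl (wsE6 i) (cdE6.D.simple i) = 56 := by
  decide +kernel

end Cfsg.Agent.Lib.Helper3.ChevM
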