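import Cfsg.Agent.Lib.Helper3.ChevData.E6GrTabA
set_option autoImplicit false
set_option maxRecDepth 1000000
set_option Elab.async false

namespace Cfsg.Agent.Lib.Helper3.ChevM

theorem e6GrColA_1_468 : allRange 468 546 (fun k => graphColCheck cdE6 grPE6A grRhoE6A grEpsE6A (k / 78) (k % 78)) = true := by decide +kernel
theorem e6GrColA_1_546 : allRange 546 624 (fun k => graphColCheck cdE6 grPE6A grRhoE6A grEpsE6A (k / 78) (k % 78)) = true := by decide +kernel
theorem e6GrColA_1_624 : allRange 624 702 (fun k => graphColCheck cdE6 grPE6A grRhoE6A grEpsE6A (k / 78) (k % 78)) = true := by decide +kernel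
theorem e6GrColA_1_702 : allRange 702 780 (fun k => graphColCheck cdE6 grPE6A grRhoE6A grEpsE6A (k / 78) (k % 78)) = true := by decide +kernel
theorem e6GrColA_1_780 : allRange 780 858 (fun k => graphColCheck cdE6 grPE6A grRhoE6A grEpsE6A (k / 78) (k % 78)) = true := by decide +kernel
theorem e6GrColA_1_858 : allRange 858 936 (fun k => graphColCheck cdE6 grPE6A grRhoE6A grEpsE6A (k / 78) (k % 78)) = true := by decide +kernel

/-- The columns of the root elements of type E6 are permuted by the symmetry (A) (roots 468 to 935). -/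
theorem e6GrColA_1 : ∀ r, 468 ≤ r → r < 936 → (fun k => graphColCheck cdE6 grPE6A grRhoE6A grEpsE6A (k / 78) (k % 78)) r = true := by
  intro r h1 h2
  by_cases c0 : r < 546
  · exact allRange_spec e6GrColA_1_468 r (by omega) c0
  by_cases c1 : r < 624
  · exact allRange_spec e6GrColA_1_546 r (by omega) c1
  by_cases c2 : r < 702
  · exact allRange_spec e6GrColA_1_624 r (by omega) c2
  by_cases c3 : r < 780
  · exact allRange_spec e6GrColA_1_702 r (by omega) c3
  by_cases c4 : r < 858
  · exact allRange_spec e6GrColA_1_780 r (by omega) c4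
  exact allRange_spec e6GrColA_1_858 r (by omega) h2

end Cfsg.Agent.Lib.Helper3.ChevM
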