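import Cfsg.Agent.Lib.Helper3.ChevData.E6GrTabA
set_option autoImplicit false
set_option maxRecDepth 1000000
set_option Elab.async false

namespace Cfsg.Agent.Lib.Helper3.ChevM

theorem e6GrColA_2_936 : allRange 936 1014 (fun k => graphColCheck cdE6 grPE6A grRhoE6A grEpsE6A (k / 78) (k % 78)) = true := by decide +kernel
theorem e6GrColA_2_1014 : allRange 1014 1092 (fun k => graphColCheck cdE6 grPE6A grRhoE6A grEpsE6A (k / 78) (k % 78)) = true := by decide +kernel
theorem e6GrColA_2_1092 : allRange 1092 1170 (fun k => graphColCheck cdE6 grPE6A grRhoE6A grEpsE6A (k / 78) (k % 78)) = true := by decide +kernel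
theorem e6GrColA_2_1170 : allRange 1170 1248 (fun k => graphColCheck cdE6 grPE6A grRhoE6A grEpsE6A (k / 78) (k % 78)) = true := by decide +kernel
theorem e6GrColA_2_1248 : allRange 1248 1326 (fun k => graphColCheck cdE6 grPE6A grRhoE6A grEpsE6A (k / 78) (k % 78)) = true := by decide +kernel
theorem e6GrColA_2_1326 : allRange 1326 1404 (fun k => graphColCheck cdE6 grPE6A grRhoE6A grEpsE6A (k / 78) (k % 78)) = true := by decide +kernel

/-- The columns of the root elements of type E6 are permuted by the symmetry (A) (roots 936 to 1403). -/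
theorem e6GrColA_2 : ∀ r, 936 ≤ r → r < 1404 → (fun k => graphColCheck cdE6 grPE6A grRhoE6A grEpsE6A (k / 78) (k % 78)) r = true := by
  intro r h1 h2
  by_cases c0 : r < 1014
  · exact allRange_spec e6GrColA_2_936 r (by omega) c0
  by_cases c1 : r < 1092
  · exact allRange_spec e6GrColA_2_1014 r (by omega) c1
  by_cases c2 : r < 1170
  · exact allRange_spec e6GrColA_2_1092 r (by omega) c2
  by_cases c3 : r < 1248
  · exact allRange_spec e6GrColA_2_1170 r (by omega) c3
  by_cases c4 : r < 1326
  · exact allRange_spec e6GrColA_2_1248 r (by omega) c4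
  exact allRange_spec e6GrColA_2_1326 r (by omega) h2

end Cfsg.Agent.Lib.Helper3.ChevM
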