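import Cfsg.Agent.Lib.Helper3.ChevData.E6GrTabA
set_option autoImplicit false
set_option maxRecDepth 1000000
set_option Elab.async false

namespace Cfsg.Agent.Lib.Helper3.ChevM

theorem e6GrColA_3_1404 : allRange 1404 1482 (fun k => graphColCheck cdE6 grPE6A grRhoE6A grEpsE6A (k / 78) (k % 78)) = true := by decide +kernel
theorem e6GrColA_3_1482 : allRange 1482 1560 (fun k => graphColCheck cdE6 grPE6A grRhoE6A grEpsE6A (k / 78) (k % 78)) = true := by decide +kernel
theorem e6GrColA_3_1560 : allRange 1560 1638 (fun k => graphColCheck cdE6 grPE6A grRhoE6A grEpsE6A (k / 78) (k % 78)) = true := by decide +kernel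
theorem e6GrColA_3_1638 : allRange 1638 1716 (fun k => graphColCheck cdE6 grPE6A grRhoE6A grEpsE6A (k / 78) (k % 78)) = true := by decide +kernel
theorem e6GrColA_3_1716 : allRange 1716 1794 (fun k => graphColCheck cdE6 grPE6A grRhoE6A grEpsE6A (k / 78) (k % 78)) = true := by decide +kernel
theorem e6GrColA_3_1794 : allRange 1794 1872 (fun k => graphColCheck cdE6 grPE6A grRhoE6A grEpsE6A (k / 78) (k % 78)) = true := by decide +kernel

/-- The columns of the root elements of type E6 are permuted by the symmetry (A) (roots 1404 to 1871). -/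
theorem e6GrColA_3 : ∀ r, 1404 ≤ r → r < 1872 → (fun k => graphColCheck cdE6 grPE6A grRhoE6A grEpsE6A (k / 78) (k % 78)) r = true := by
  intro r h1 h2
  by_cases c0 : r < 1482
  · exact allRange_spec e6GrColA_3_1404 r (by omega) c0
  by_cases c1 : r < 1560
  · exact allRange_spec e6GrColA_3_1482 r (by omega) c1
  by_cases c2 : r < 1638
  · exact allRange_spec e6GrColA_3_1560 r (by omega) c2
  by_cases c3 : r < 1716
  · exact allRange_spec e6GrColA_3_1638 r (by omega) c3
  by_cases c4 : r < 1794
  · exact allRange_spec e6GrColA_3_1716 r (by omega) c4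
  exact allRange_spec e6GrColA_3_1794 r (by omega) h2

end Cfsg.Agent.Lib.Helper3.ChevM
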