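import Cfsg.Agent.Lib.Helper3.ChevData.E6GrTabA
set_option autoImplicit false
set_option maxRecDepth 1000000
set_option Elab.async false

namespace Cfsg.Agent.Lib.Helper3.ChevM

theorem e6GrColA_4_1872 : allRange 1872 1950 (fun k => graphColCheck cdE6 grPE6A grRhoE6A grEpsE6A (k / 78) (k % 78)) = true := by decide +kernel
theorem e6GrColA_4_1950 : allRange 1950 2028 (fun k => graphColCheck cdE6 grPE6A grRhoE6A grEpsE6A (k / 78) (k % 78)) = true := by decide +kernel
theorem e6GrColA_4_2028 : allRange 2028 2106 (fun k => graphColCheck cdE6 grPE6A grRhoE6A grEpsE6A (k / 78) (k % 78)) = true := by decide +kernel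
theorem e6GrColA_4_2106 : allRange 2106 2184 (fun k => graphColCheck cdE6 grPE6A grRhoE6A grEpsE6A (k / 78) (k % 78)) = true := by decide +kernel
theorem e6GrColA_4_2184 : allRange 2184 2262 (fun k => graphColCheck cdE6 grPE6A grRhoE6A grEpsE6A (k / 78) (k % 78)) = true := by decide +kernel
theorem e6GrColA_4_2262 : allRange 2262 2340 (fun k => graphColCheck cdE6 grPE6A grRhoE6A grEpsE6A (k / 78) (k % 78)) = true := by decide +kernel

/-- The columns of the root elements of type E6 are permuted by the symmetry (A) (roots 1872 to 2339). -/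
theorem e6GrColA_4 : ∀ r, 1872 ≤ r → r < 2340 → (fun k => graphColCheck cdE6 grPE6A grRhoE6A grEpsE6A (k / 78) (k % 78)) r = true := by
  intro r h1 h2
  by_cases c0 : r < 1950
  · exact allRange_spec e6GrColA_4_1872 r (by omega) c0
  by_cases c1 : r < 2028
  · exact allRange_spec e6GrColA_4_1950 r (by omega) c1
  by_cases c2 : r < 2106
  · exact allRange_spec e6GrColA_4_2028 r (by omega) c2
  by_cases c3 : r < 2184
  · exact allRange_spec e6GrColA_4_2106 r (by omega) c3
  by_cases c4 : r < 2262
  · exact allRange_spec e6GrColA_4_2184 r (by omega) c4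
  exact allRange_spec e6GrColA_4_2262 r (by omega) h2

end Cfsg.Agent.Lib.Helper3.ChevM
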