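import Cfsg.Agent.Lib.Helper3.ChevData.E6GrTabA
set_option autoImplicit false
set_option maxRecDepth 1000000
set_option Elab.async false

namespace Cfsg.Agent.Lib.Helper3.ChevM

theorem e6GrColA_5_2340 : allRange 2340 2418 (fun k => graphColCheck cdE6 grPE6A grRhoE6A grEpsE6A (k / 78) (k % 78)) = true := by decide +kernel
theorem e6GrColA_5_2418 : allRange 2418 2496 (fun k => graphColCheck cdE6 grPE6A grRhoE6A grEpsE6A (k / 78) (k % 78)) = true := by decide +kernel
theorem e6GrColA_5_2496 : allRange 2496 2574 (fun k => graphColCheck cdE6 grPE6A grRhoE6A grEpsE6A (k / 78) (k % 78)) = true := by decide +kernel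
theorem e6GrColA_5_2574 : allRange 2574 2652 (fun k => graphColCheck cdE6 grPE6A grRhoE6A grEpsE6A (k / 78) (k % 78)) = true := by decide +kernel
theorem e6GrColA_5_2652 : allRange 2652 2730 (fun k => graphColCheck cdE6 grPE6A grRhoE6A grEpsE6A (k / 78) (k % 78)) = true := by decide +kernel
theorem e6GrColA_5_2730 : allRange 2730 2808 (fun k => graphColCheck cdE6 grPE6A grRhoE6A grEpsE6A (k / 78) (k % 78)) = true := by decide +kernel

/-- The columns of the root elements of type E6 are permuted by the symmetry (A) (roots 2340 to 2807). -/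
theorem e6GrColA_5 : ∀ r, 2340 ≤ r → r < 2808 → (fun k => graphColCheck cdE6 grPE6A grRhoE6A grEpsE6A (k / 78) (k % 78)) r = true := by
  intro r h1 h2
  by_cases c0 : r < 2418
  · exact allRange_spec e6GrColA_5_2340 r (by omega) c0
  by_cases c1 : r < 2496
  · exact allRange_spec e6GrColA_5_2418 r (by omega) c1
  by_cases c2 : r < 2574
  · exact allRange_spec e6GrColA_5_2496 r (by omega) c2
  by_cases c3 : r < 2652
  · exact allRange_spec e6GrColA_5_2574 r (by omega) c3
  by_cases c4 : r < 2730
  · exact allRange_spec e6GrColA_5_2652 r (by omega) c4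
  exact allRange_spec e6GrColA_5_2730 r (by omega) h2

end Cfsg.Agent.Lib.Helper3.ChevM
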