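import Cfsg.Agent.Lib.Helper3.ChevData.E6GrTabA
set_option autoImplicit false
set_option maxRecDepth 1000000
set_option Elab.async false

namespace Cfsg.Agent.Lib.Helper3.ChevM

theorem e6GrColA_6_2808 : allRange 2808 2886 (fun k => graphColCheck cdE6 grPE6A grRhoE6A grEpsE6A (k / 78) (k % 78)) = true := by decide +kernel
theorem e6GrColA_6_2886 : allRange 2886 2964 (fun k => graphColCheck cdE6 grPE6A grRhoE6A grEpsE6A (k / 78) (k % 78)) = true := by decide +kernel
theorem e6GrColA_6_2964 : allRange 2964 3042 (fun k => graphColCheck cdE6 grPE6A grRhoE6A grEpsE6A (k / 78) (k % 78)) = true := by decide +kernel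
theorem e6GrColA_6_3042 : allRange 3042 3120 (fun k => graphColCheck cdE6 grPE6A grRhoE6A grEpsE6A (k / 78) (k % 78)) = true := by decide +kernel
theorem e6GrColA_6_3120 : allRange 3120 3198 (fun k => graphColCheck cdE6 grPE6A grRhoE6A grEpsE6A (k / 78) (k % 78)) = true := by decide +kernel
theorem e6GrColA_6_3198 : allRange 3198 3276 (fun k => graphColCheck cdE6 grPE6A grRhoE6A grEpsE6A (k / 78) (k % 78)) = true := by decide +kernel

/-- The columns of the root elements of type E6 are permuted by the symmetry (A) (roots 2808 to 3275). -/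
theorem e6GrColA_6 : ∀ r, 2808 ≤ r → r < 3276 → (fun k => graphColCheck cdE6 grPE6A grRhoE6A grEpsE6A (k / 78) (k % 78)) r = true := by
  intro r h1 h2
  by_cases c0 : r < 2886
  · exact allRange_spec e6GrColA_6_2808 r (by omega) c0
  by_cases c1 : r < 2964
  · exact allRange_spec e6GrColA_6_2886 r (by omega) c1
  by_cases c2 : r < 3042
  · exact allRange_spec e6GrColA_6_2964 r (by omega) c2
  by_cases c3 : r < 3120
  · exact allRange_spec e6GrColA_6_3042 r (by omega) c3
  by_cases c4 : r < 3198
  · exact allRange_spec e6GrColA_6_3120 r (by omega) c4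
  exact allRange_spec e6GrColA_6_3198 r (by omega) h2

end Cfsg.Agent.Lib.Helper3.ChevM
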