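import Cfsg.Agent.Lib.Helper3.ChevData.E6GrTabA
set_option autoImplicit false
set_option maxRecDepth 1000000
set_option Elab.async false

namespace Cfsg.Agent.Lib.Helper3.ChevM

theorem e6GrColA_7_3276 : allRange 3276 3354 (fun k => graphColCheck cdE6 grPE6A grRhoE6A grEpsE6A (k / 78) (k % 78)) = true := by decide +kernel
theorem e6GrColA_7_3354 : allRange 3354 3432 (fun k => graphColCheck cdE6 grPE6A grRhoE6A grEpsE6A (k / 78) (k % 78)) = true := by decide +kernel
theorem e6GrColA_7_3432 : allRange 3432 3510 (fun k => graphColCheck cdE6 grPE6A grRhoE6A grEpsE6A (k / 78) (k % 78)) = true := by decide +kernel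
theorem e6GrColA_7_3510 : allRange 3510 3588 (fun k => graphColCheck cdE6 grPE6A grRhoE6A grEpsE6A (k / 78) (k % 78)) = true := by decide +kernel
theorem e6GrColA_7_3588 : allRange 3588 3666 (fun k => graphColCheck cdE6 grPE6A grRhoE6A grEpsE6A (k / 78) (k % 78)) = true := by decide +kernel
theorem e6GrColA_7_3666 : allRange 3666 3744 (fun k => graphColCheck cdE6 grPE6A grRhoE6A grEpsE6A (k / 78) (k % 78)) = true := by decide +kernel

/-- The columns of the root elements of type E6 are permuted by the symmetry (A) (roots 3276 to 3743). -/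
theorem e6GrColA_7 : ∀ r, 3276 ≤ r → r < 3744 → (fun k => graphColCheck cdE6 grPE6A grRhoE6A grEpsE6A (k / 78) (k % 78)) r = true := by
  intro r h1 h2
  by_cases c0 : r < 3354
  · exact allRange_spec e6GrColA_7_3276 r (by omega) c0
  by_cases c1 : r < 3432
  · exact allRange_spec e6GrColA_7_3354 r (by omega) c1
  by_cases c2 : r < 3510
  · exact allRange_spec e6GrColA_7_3432 r (by omega) c2
  by_cases c3 : r < 3588
  · exact allRange_spec e6GrColA_7_3510 r (by omega) c3
  by_cases c4 : r < 3666
  · exact allRange_spec e6GrColA_7_3588 r (by omega) c4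
  exact allRange_spec e6GrColA_7_3666 r (by omega) h2

end Cfsg.Agent.Lib.Helper3.ChevM
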