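import Cfsg.Agent.Lib.Helper3.ChevData.E6GrTabA
set_option autoImplicit false
set_option maxRecDepth 1000000
set_option Elab.async false

namespace Cfsg.Agent.Lib.Helper3.ChevM

theorem e6GrColA_8_3744 : allRange 3744 3822 (fun k => graphColCheck cdE6 grPE6A grRhoE6A grEpsE6A (k / 78) (k % 78)) = true := by decide +kernel
theorem e6GrColA_8_3822 : allRange 3822 3900 (fun k => graphColCheck cdE6 grPE6A grRhoE6A grEpsE6A (k / 78) (k % 78)) = true := by decide +kernel
theorem e6GrColA_8_3900 : allRange 3900 3978 (fun k => graphColCheck cdE6 grPE6A grRhoE6A grEpsE6A (k / 78) (k % 78)) = true := by decide +kernel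
theorem e6GrColA_8_3978 : allRange 3978 4056 (fun k => graphColCheck cdE6 grPE6A grRhoE6A grEpsE6A (k / 78) (k % 78)) = true := by decide +kernel
theorem e6GrColA_8_4056 : allRange 4056 4134 (fun k => graphColCheck cdE6 grPE6A grRhoE6A grEpsE6A (k / 78) (k % 78)) = true := by decide +kernel
theorem e6GrColA_8_4134 : allRange 4134 4212 (fun k => graphColCheck cdE6 grPE6A grRhoE6A grEpsE6A (k / 78) (k % 78)) = true := by decide +kernel

/-- The columns of the root elements of type E6 are permuted by the symmetry (A) (roots 3744 to 4211). -/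
theorem e6GrColA_8 : ∀ r, 3744 ≤ r → r < 4212 → (fun k => graphColCheck cdE6 grPE6A grRhoE6A grEpsE6A (k / 78) (k % 78)) r = true := by
  intro r h1 h2
  by_cases c0 : r < 3822
  · exact allRange_spec e6GrColA_8_3744 r (by omega) c0
  by_cases c1 : r < 3900
  · exact allRange_spec e6GrColA_8_3822 r (by omega) c1
  by_cases c2 : r < 3978
  · exact allRange_spec e6GrColA_8_3900 r (by omega) c2
  by_cases c3 : r < 4056
  · exact allRange_spec e6GrColA_8_3978 r (by omega) c3
  by_cases c4 : r < 4134
  · exact allRange_spec e6GrColA_8_4056 r (by omega) c4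
  exact allRange_spec e6GrColA_8_4134 r (by omega) h2

end Cfsg.Agent.Lib.Helper3.ChevM
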