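import Cfsg.Agent.Lib.Helper3.ChevData.E6GrTabA
set_option autoImplicit false
set_option maxRecDepth 1000000
set_option Elab.async false

namespace Cfsg.Agent.Lib.Helper3.ChevM

theorem e6GrColA_9_4212 : allRange 4212 4290 (fun k => graphColCheck cdE6 grPE6A grRhoE6A grEpsE6A (k / 78) (k % 78)) = true := by decide +kernel
theorem e6GrColA_9_4290 : allRange 4290 4368 (fun k => graphColCheck cdE6 grPE6A grRhoE6A grEpsE6A (k / 78) (k % 78)) = true := by decide +kernel
theorem e6GrColA_9_4368 : allRange 4368 4446 (fun k => graphColCheck cdE6 grPE6A grRhoE6A grEpsE6A (k / 78) (k % 78)) = true := by decide +kernel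
theorem e6GrColA_9_4446 : allRange 4446 4524 (fun k => graphColCheck cdE6 grPE6A grRhoE6A grEpsE6A (k / 78) (k % 78)) = true := by decide +kernel
theorem e6GrColA_9_4524 : allRange 4524 4602 (fun k => graphColCheck cdE6 grPE6A grRhoE6A grEpsE6A (k / 78) (k % 78)) = true := by decide +kernel
theorem e6GrColA_9_4602 : allRange 4602 4680 (fun k => graphColCheck cdE6 grPE6A grRhoE6A grEpsE6A (k / 78) (k % 78)) = true := by decide +kernel

/-- The columns of the root elements of type E6 are permuted by the symmetry (A) (roots 4212 to 4679). -/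
theorem e6GrColA_9 : ∀ r, 4212 ≤ r → r < 4680 → (fun k => graphColCheck cdE6 grPE6A grRhoE6A grEpsE6A (k / 78) (k % 78)) r = true := by
  intro r h1 h2
  by_cases c0 : r < 4290
  · exact allRange_spec e6GrColA_9_4212 r (by omega) c0
  by_cases c1 : r < 4368
  · exact allRange_spec e6GrColA_9_4290 r (by omega) c1
  by_cases c2 : r < 4446
  · exact allRange_spec e6GrColA_9_4368 r (by omega) c2
  by_cases c3 : r < 4524
  · exact allRange_spec e6GrColA_9_4446 r (by omega) c3
  by_cases c4 : r < 4602
  · exact allRange_spec e6GrColA_9_4524 r (by omega) c4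
  exact allRange_spec e6GrColA_9_4602 r (by omega) h2

end Cfsg.Agent.Lib.Helper3.ChevM
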