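import Cfsg.Agent.Lib.Helper3.ChevData.E6GrTabA
set_option autoImplicit false
set_option maxRecDepth 1000000
set_option Elab.async false

namespace Cfsg.Agent.Lib.Helper3.ChevM

theorem e6GrColA_11_5148 : allRange 5148 5226 (fun k => graphColCheck cdE6 grPE6A grRhoE6A grEpsE6A (k / 78) (k % 78)) = true := by decide +kernel
theorem e6GrColA_11_5226 : allRange 5226 5304 (fun k => graphColCheck cdE6 grPE6A grRhoE6A grEpsE6A (k / 78) (k % 78)) = true := by decide +kernel
theorem e6GrColA_11_5304 : allRange 5304 5382 (fun k => graphColCheck cdE6 grPE6A grRhoE6A grEpsE6A (k / 78) (k % 78)) = true := by decide +kernel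
theorem e6GrColA_11_5382 : allRange 5382 5460 (fun k => graphColCheck cdE6 grPE6A grRhoE6A grEpsE6A (k / 78) (k % 78)) = true := by decide +kernel
theorem e6GrColA_11_5460 : allRange 5460 5538 (fun k => graphColCheck cdE6 grPE6A grRhoE6A grEpsE6A (k / 78) (k % 78)) = true := by decide +kernel
theorem e6GrColA_11_5538 : allRange 5538 5616 (fun k => graphColCheck cdE6 grPE6A grRhoE6A grEpsE6A (k / 78) (k % 78)) = true := by decide +kernel

/-- The columns of the root elements of type E6 are permuted by the symmetry (A) (roots 5148 to 5615). -/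
theorem e6GrColA_11 : ∀ r, 5148 ≤ r → r < 5616 → (fun k => graphColCheck cdE6 grPE6A grRhoE6A grEpsE6A (k / 78) (k % 78)) r = true := by
  intro r h1 h2
  by_cases c0 : r < 5226
  · exact allRange_spec e6GrColA_11_5148 r (by omega) c0
  by_cases c1 : r < 5304
  · exact allRange_spec e6GrColA_11_5226 r (by omega) c1
  by_cases c2 : r < 5382
  · exact allRange_spec e6GrColA_11_5304 r (by omega) c2
  by_cases c3 : r < 5460
  · exact allRange_spec e6GrColA_11_5382 r (by omega) c3
  by_cases c4 : r < 5538
  · exact allRange_spec e6GrColA_11_5460 r (by omega) c4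
  exact allRange_spec e6GrColA_11_5538 r (by omega) h2

end Cfsg.Agent.Lib.Helper3.ChevM
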