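import Cfsg.Agent.Lib.Helper3.ChevData.E6GrColAA
import Cfsg.Agent.Lib.Helper3.ChevData.E6GrColAB
import Cfsg.Agent.Lib.Helper3.ChevData.E6GrColAC
import Cfsg.Agent.Lib.Helper3.ChevData.E6GrColAD
import Cfsg.Agent.Lib.Helper3.ChevData.E6GrColAE
import Cfsg.Agent.Lib.Helper3.ChevData.E6GrColAF
import Cfsg.Agent.Lib.Helper3.ChevData.E6GrColAG
import Cfsg.Agent.Lib.Helper3.ChevData.E6GrColAH
import Cfsg.Agent.Lib.Helper3.ChevData.E6GrColAI
import Cfsg.Agent.Lib.Helper3.ChevData.E6GrColAJ
import Cfsg.Agent.Lib.Helper3.ChevData.E6GrColAK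
import Cfsg.Agent.Lib.Helper3.ChevData.E6GrColAL
set_option autoImplicit false

namespace Cfsg.Agent.Lib.Helper3.ChevM

/-- The columns of the root elements of type E6 are permuted by the symmetry (A). -/
theorem e6GrColA : ∀ r < 5616, (fun k => graphColCheck cdE6 grPE6A grRhoE6A grEpsE6A (k / 78) (k % 78)) r = true := by
  intro r hr
  by_cases h0 : r < 468
  · exact e6GrColA_0 r (by omega) h0
  by_cases h1 : r < 936
  · exact e6GrColA_1 r (by omega) h1
  by_cases h2 : r < 1404
  · exact e6GrColA_2 r (by omega) h2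
  by_cases h3 : r < 1872
  · exact e6GrColA_3 r (by omega) h3
  by_cases h4 : r < 2340
  · exact e6GrColA_4 r (by omega) h4
  by_cases h5 : r < 2808
  · exact e6GrColA_5 r (by omega) h5
  by_cases h6 : r < 3276
  · exact e6GrColA_6 r (by omega) h6
  by_cases h7 : r < 3744
  · exact e6GrColA_7 r (by omega) h7
  by_cases h8 : r < 4212
  · exact e6GrColA_8 r (by omega) h8
  by_cases h9 : r < 4680
  · exact e6GrColA_9 r (by omega) h9
  by_cases h10 : r < 5148
  · exact e6GrColA_10 r (by omega) h10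
  exact e6GrColA_11 r (by omega) hr

end Cfsg.Agent.Lib.Helper3.ChevM
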