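import Cfsg.Agent.Lib.Helper3.ChevData.E6GrTabA
set_option autoImplicit false
set_option maxRecDepth 1000000
set_option Elab.async false

namespace Cfsg.Agent.Lib.Helper3.ChevM

theorem e6GrColA_0_0 : allRange 0 78 (fun k => graphColCheck cdE6 grPE6A grRhoE6A grEpsE6A (k / 78) (k % 78)) = true := by decide +kernel
theorem e6GrColA_0_78 : allRange 78 156 (fun k => graphColCheck cdE6 grPE6A grRhoE6A grEpsE6A (k / 78) (k % 78)) = true := by decide +kernel
theorem e6GrColA_0_156 : allRange 156 234 (fun k => graphColCheck cdE6 grPE6A grRhoE6A grEpsE6A (k / 78) (k % 78)) = true := by decide +kernel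
theorem e6GrColA_0_234 : allRange 234 312 (fun k => graphColCheck cdE6 grPE6A grRhoE6A grEpsE6A (k / 78) (k % 78)) = true := by decide +kernel
theorem e6GrColA_0_312 : allRange 312 390 (fun k => graphColCheck cdE6 grPE6A grRhoE6A grEpsE6A (k / 78) (k % 78)) = true := by decide +kernel
theorem e6GrColA_0_390 : allRange 390 468 (fun k => graphColCheck cdE6 grPE6A grRhoE6A grEpsE6A (k / 78) (k % 78)) = true := by decide +kernel

/-- The columns of the root elements of type E6 are permuted by the symmetry (A) (roots 0 to 467). -/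
theorem e6GrColA_0 : ∀ r, 0 ≤ r → r < 468 → (fun k => graphColCheck cdE6 grPE6A grRhoE6A grEpsE6A (k / 78) (k % 78)) r = true := by
  intro r h1 h2
  by_cases c0 : r < 78
  · exact allRange_spec e6GrColA_0_0 r (by omega) c0
  by_cases c1 : r < 156
  · exact allRange_spec e6GrColA_0_78 r (by omega) c1
  by_cases c2 : r < 234
  · exact allRange_spec e6GrColA_0_156 r (by omega) c2
  by_cases c3 : r < 312
  · exact allRange_spec e6GrColA_0_234 r (by omega) c3
  by_cases c4 : r < 390
  · exact allRange_spec e6GrColA_0_312 r (by omega) c4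
  exact allRange_spec e6GrColA_0_390 r (by omega) h2

end Cfsg.Agent.Lib.Helper3.ChevM
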