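import Cfsg.Agent.Lib.Helper3.ChevData.E6GrTabA
set_option autoImplicit false
set_option maxRecDepth 1000000
set_option Elab.async false

namespace Cfsg.Agent.Lib.Helper3.ChevM

theorem e6GrColA_10_4680 : allRange 4680 4758 (fun k => graphColCheck cdE6 grPE6A grRhoE6A grEpsE6A (k / 78) (k % 78)) = true := by decide +kernel
theorem e6GrColA_10_4758 : allRange 4758 4836 (fun k => graphColCheck cdE6 grPE6A grRhoE6A grEpsE6A (k / 78) (k % 78)) = true := by decide +kernel
theorem e6GrColA_10_4836 : allRange 4836 4914 (fun k => graphColCheck cdE6 grPE6A grRhoE6A grEpsE6A (k / 78) (k % 78)) = true := by decide +kernel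
theorem e6GrColA_10_4914 : allRange 4914 4992 (fun k => graphColCheck cdE6 grPE6A grRhoE6A grEpsE6A (k / 78) (k % 78)) = true := by decide +kernel
theorem e6GrColA_10_4992 : allRange 4992 5070 (fun k => graphColCheck cdE6 grPE6A grRhoE6A grEpsE6A (k / 78) (k % 78)) = true := by decide +kernel
theorem e6GrColA_10_5070 : allRange 5070 5148 (fun k => graphColCheck cdE6 grPE6A grRhoE6A grEpsE6A (k / 78) (k % 78)) = true := by decide +kernel

/-- The columns of the root elements of type E6 are permuted by the symmetry (A) (roots 4680 to 5147). -/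
theorem e6GrColA_10 : ∀ r, 4680 ≤ r → r < 5148 → (fun k => graphColCheck cdE6 grPE6A grRhoE6A grEpsE6A (k / 78) (k % 78)) r = true := by
  intro r h1 h2
  by_cases c0 : r < 4758
  · exact allRange_spec e6GrColA_10_4680 r (by omega) c0
  by_cases c1 : r < 4836
  · exact allRange_spec e6GrColA_10_4758 r (by omega) c1
  by_cases c2 : r < 4914
  · exact allRange_spec e6GrColA_10_4836 r (by omega) c2
  by_cases c3 : r < 4992
  · exact allRange_spec e6GrColA_10_4914 r (by omega) c3
  by_cases c4 : r < 5070
  · exact allRange_spec e6GrColA_10_4992 r (by omega) c4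
  exact allRange_spec e6GrColA_10_5070 r (by omega) h2

end Cfsg.Agent.Lib.Helper3.ChevM
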