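import Mathlib
import Cfsg.Agent.Lib.Helper3.ChevData.E6Datum
import Cfsg.Agent.Lib.Helper3.ChevA2
set_option autoImplicit false
set_option maxRecDepth 1000000

namespace Cfsg.Agent.Lib.Helper3.ChevM

/-- The symmetry of the diagram of type E6 (A). -/
def grPE6A (i : ℕ) : ℕ := ((#[5, 1, 4, 3, 2, 0] : Array ℕ)).getD i 0

/-- Its inverse. -/
def grPInvE6A (i : ℕ) : ℕ := ((#[5, 1, 4, 3, 2, 0] : Array ℕ)).getD i 0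

/-- The induced permutation of the roots. -/
def grRhoE6A (r : ℕ) : ℕ := ((#[0, 1, 2, 5, 16, 3, 6, 17, 8, 19, 22, 11, 26, 30, 33, 35, 4, 7, 18, 9, 20, 23, 10, 21, 24, 25, 12, 27, 31, 34, 13, 28, 32, 14, 29, 15, 56, 42, 57, 39, 43, 58, 37, 40, 44, 59, 46, 47, 50, 61, 48, 51, 62, 53, 64, 67, 36, 38, 41, 45, 60, 49, 52, 63, 54, 65, 68, 55, 66, 69, 70, 71] : Array ℕ)).getD r 0

/-- Its inverse. -/
def grRhoInvE6A (r : ℕ) : ℕ := ((#[0, 1, 2, 5, 16, 3, 6, 17, 8, 19, 22, 11, 26, 30, 33, 35, 4, 7, 18, 9, 20, 23, 10, 21, 24, 25, 12, 27, 31, 34, 13, 28, 32, 14, 29, 15, 56, 42, 57, 39, 43, 58, 37, 40, 44, 59, 46, 47, 50, 61, 48, 51, 62, 53, 64, 67, 36, 38, 41, 45, 60, 49, 52, 63, 54, 65, 68, 55, 66, 69, 70, 71] : Array ℕ)).getD r 0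

/-- The signs of the graph automorphism. -/
def grEpsE6A (r : ℕ) : ℤ := ((#[1, 1, 1, 1, -1, 1, 1, -1, 1, -1, -1, 1, -1, 1, -1, 1, -1, -1, 1, -1, 1, 1, -1, 1, 1, 1, -1, 1, -1, 1, 1, -1, 1, -1, 1, 1, 1, 1, -1, 1, -1, 1, 1, -1, 1, -1, 1, 1, 1, -1, 1, 1, -1, 1, -1, -1, 1, -1, 1, -1, 1, -1, -1, 1, -1, 1, 1, -1, 1, 1, 1, 1] : Array ℤ)).getD r 0

end Cfsg.Agent.Lib.Helper3.ChevM
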