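import Cfsg.Agent.Lib.Helper3.ChevGraph1
import Cfsg.Agent.Lib.Helper3.ChevData.E6Mono
set_option autoImplicit false
set_option maxRecDepth 1000000
open Cfsg Cfsg.Lie

namespace Cfsg.Agent.Lib.Helper3.ChevM

/-- The symmetries of the Dynkin diagram of type E6, as lists of images of the nodes. -/
def symLE6 : List (List ℕ) := [[0, 1, 2, 3, 4, 5], [5, 1, 4, 3, 2, 0]]

theorem e6SymExt : symExt cdE6.D symLE6 6 [] = true := by
  decide +kernel

theorem e6GraphCheck : symLE6.all (fun l => graphCheck cdE6.D relE6.refl (fun i => l.getD i 0)) = true := by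
  decide +kernel

end Cfsg.Agent.Lib.Helper3.ChevM
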