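import Cfsg.Agent.Lib.Helper3.ChevData.E6Datum
import Cfsg.Agent.Lib.Helper3.ChevData.E6Tabs
import Cfsg.Agent.Lib.Helper3.ChevM7
set_option autoImplicit false
set_option maxRecDepth 1000000
set_option Elab.async false

namespace Cfsg.Agent.Lib.Helper3.ChevM

theorem e6Hd_0_0 : allRange 0 3 ((fun r => cdE6.checkHDiag r (cdE6.expo pairE6 r))) = true := by decide +kernel
theorem e6Hd_0_3 : allRange 3 6 ((fun r => cdE6.checkHDiag r (cdE6.expo pairE6 r))) = true := by decide +kernel
theorem e6Hd_0_6 : allRange 6 9 ((fun r => cdE6.checkHDiag r (cdE6.expo pairE6 r))) = true := by decide +kernel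
theorem e6Hd_0_9 : allRange 9 12 ((fun r => cdE6.checkHDiag r (cdE6.expo pairE6 r))) = true := by decide +kernel
theorem e6Hd_0_12 : allRange 12 15 ((fun r => cdE6.checkHDiag r (cdE6.expo pairE6 r))) = true := by decide +kernel
theorem e6Hd_0_15 : allRange 15 18 ((fun r => cdE6.checkHDiag r (cdE6.expo pairE6 r))) = true := by decide +kernel
theorem e6Hd_0_18 : allRange 18 21 ((fun r => cdE6.checkHDiag r (cdE6.expo pairE6 r))) = true := by decide +kernel
theorem e6Hd_0_21 : allRange 21 24 ((fun r => cdE6.checkHDiag r (cdE6.expo pairE6 r))) = true := by decide +kernel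
theorem e6Hd_0_24 : allRange 24 27 ((fun r => cdE6.checkHDiag r (cdE6.expo pairE6 r))) = true := by decide +kernel
theorem e6Hd_0_27 : allRange 27 30 ((fun r => cdE6.checkHDiag r (cdE6.expo pairE6 r))) = true := by decide +kernel
theorem e6Hd_0_30 : allRange 30 33 ((fun r => cdE6.checkHDiag r (cdE6.expo pairE6 r))) = true := by decide +kernel
theorem e6Hd_0_33 : allRange 33 36 ((fun r => cdE6.checkHDiag r (cdE6.expo pairE6 r))) = true := by decide +kernel
theorem e6Hd_0_36 : allRange 36 39 ((fun r => cdE6.checkHDiag r (cdE6.expo pairE6 r))) = true := by decide +kernel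
theorem e6Hd_0_39 : allRange 39 42 ((fun r => cdE6.checkHDiag r (cdE6.expo pairE6 r))) = true := by decide +kernel
theorem e6Hd_0_42 : allRange 42 45 ((fun r => cdE6.checkHDiag r (cdE6.expo pairE6 r))) = true := by decide +kernel
theorem e6Hd_0_45 : allRange 45 48 ((fun r => cdE6.checkHDiag r (cdE6.expo pairE6 r))) = true := by decide +kernel
theorem e6Hd_0_48 : allRange 48 51 ((fun r => cdE6.checkHDiag r (cdE6.expo pairE6 r))) = true := by decide +kernel
theorem e6Hd_0_51 : allRange 51 54 ((fun r => cdE6.checkHDiag r (cdE6.expo pairE6 r))) = true := by decide +kernel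
theorem e6Hd_0_54 : allRange 54 57 ((fun r => cdE6.checkHDiag r (cdE6.expo pairE6 r))) = true := by decide +kernel
theorem e6Hd_0_57 : allRange 57 60 ((fun r => cdE6.checkHDiag r (cdE6.expo pairE6 r))) = true := by decide +kernel
theorem e6Hd_0_60 : allRange 60 63 ((fun r => cdE6.checkHDiag r (cdE6.expo pairE6 r))) = true := by decide +kernel
theorem e6Hd_0_63 : allRange 63 66 ((fun r => cdE6.checkHDiag r (cdE6.expo pairE6 r))) = true := by decide +kernel
theorem e6Hd_0_66 : allRange 66 69 ((fun r => cdE6.checkHDiag r (cdE6.expo pairE6 r))) = true := by decide +kernel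
theorem e6Hd_0_69 : allRange 69 72 ((fun r => cdE6.checkHDiag r (cdE6.expo pairE6 r))) = true := by decide +kernel

/-- Diagonal form of the `h_r(c)` of type E6 (roots 0 to 71). -/
theorem e6Hd_0 : ∀ r, 0 ≤ r → r < 72 → ((fun r => cdE6.checkHDiag r (cdE6.expo pairE6 r))) r = true := by
  intro r h1 h2
  by_cases c0 : r < 3
  · exact allRange_spec e6Hd_0_0 r (by omega) c0
  by_cases c1 : r < 6
  · exact allRange_spec e6Hd_0_3 r (by omega) c1
  by_cases c2 : r < 9
  · exact allRange_spec e6Hd_0_6 r (by omega) c2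
  by_cases c3 : r < 12
  · exact allRange_spec e6Hd_0_9 r (by omega) c3
  by_cases c4 : r < 15
  · exact allRange_spec e6Hd_0_12 r (by omega) c4
  by_cases c5 : r < 18
  · exact allRange_spec e6Hd_0_15 r (by omega) c5
  by_cases c6 : r < 21
  · exact allRange_spec e6Hd_0_18 r (by omega) c6
  by_cases c7 : r < 24
  · exact allRange_spec e6Hd_0_21 r (by omega) c7
  by_cases c8 : r < 27
  · exact allRange_spec e6Hd_0_24 r (by omega) c8
  by_cases c9 : r < 30
  · exact allRange_spec e6Hd_0_27 r (by omega) c9
  by_cases c10 : r < 33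
  · exact allRange_spec e6Hd_0_30 r (by omega) c10
  by_cases c11 : r < 36
  · exact allRange_spec e6Hd_0_33 r (by omega) c11
  by_cases c12 : r < 39
  · exact allRange_spec e6Hd_0_36 r (by omega) c12
  by_cases c13 : r < 42
  · exact allRange_spec e6Hd_0_39 r (by omega) c13
  by_cases c14 : r < 45
  · exact allRange_spec e6Hd_0_42 r (by omega) c14
  by_cases c15 : r < 48
  · exact allRange_spec e6Hd_0_45 r (by omega) c15
  by_cases c16 : r < 51
  · exact allRange_spec e6Hd_0_48 r (by omega) c16
  by_cases c17 : r < 54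
  · exact allRange_spec e6Hd_0_51 r (by omega) c17
  by_cases c18 : r < 57
  · exact allRange_spec e6Hd_0_54 r (by omega) c18
  by_cases c19 : r < 60
  · exact allRange_spec e6Hd_0_57 r (by omega) c19
  by_cases c20 : r < 63
  · exact allRange_spec e6Hd_0_60 r (by omega) c20
  by_cases c21 : r < 66
  · exact allRange_spec e6Hd_0_63 r (by omega) c21
  by_cases c22 : r < 69
  · exact allRange_spec e6Hd_0_66 r (by omega) c22
  exact allRange_spec e6Hd_0_69 r (by omega) h2

end Cfsg.Agent.Lib.Helper3.ChevM
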