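import Cfsg.Agent.Lib.Helper3.ChevData.E6Datum
import Cfsg.Agent.Lib.Helper3.ChevData.E6Tabs
import Cfsg.Agent.Lib.Helper3.ChevM7
set_option autoImplicit false
set_option maxRecDepth 1000000
set_option Elab.async false

namespace Cfsg.Agent.Lib.Helper3.ChevM

theorem e6Nd_0_0 : allRange 0 17 ((fun k => cdE6.checkND (k / 6) (cdE6.cartI pairE6 (k / 6)) (reflE6 (k / 6)) (etaE6 (k / 6)) (cdE6.expo pairE6 (Cfsg.Lie.chevE6.simple (k % 6))) (cdE6.expo pairE6 (reflE6 (k / 6) (Cfsg.Lie.chevE6.simple (k % 6)))))) = true := by decide +kernel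
theorem e6Nd_0_17 : allRange 17 34 ((fun k => cdE6.checkND (k / 6) (cdE6.cartI pairE6 (k / 6)) (reflE6 (k / 6)) (etaE6 (k / 6)) (cdE6.expo pairE6 (Cfsg.Lie.chevE6.simple (k % 6))) (cdE6.expo pairE6 (reflE6 (k / 6) (Cfsg.Lie.chevE6.simple (k % 6)))))) = true := by decide +kernel
theorem e6Nd_0_34 : allRange 34 36 ((fun k => cdE6.checkND (k / 6) (cdE6.cartI pairE6 (k / 6)) (reflE6 (k / 6)) (etaE6 (k / 6)) (cdE6.expo pairE6 (Cfsg.Lie.chevE6.simple (k % 6))) (cdE6.expo pairE6 (reflE6 (k / 6) (Cfsg.Lie.chevE6.simple (k % 6)))))) = true := by decide +kernel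

/-- Conjugation of the `h_p(c)` by the `n_p` of type E6 (roots 0 to 35). -/
theorem e6Nd_0 : ∀ r, 0 ≤ r → r < 36 → ((fun k => cdE6.checkND (k / 6) (cdE6.cartI pairE6 (k / 6)) (reflE6 (k / 6)) (etaE6 (k / 6)) (cdE6.expo pairE6 (Cfsg.Lie.chevE6.simple (k % 6))) (cdE6.expo pairE6 (reflE6 (k / 6) (Cfsg.Lie.chevE6.simple (k % 6)))))) r = true := by
  intro r h1 h2
  by_cases c0 : r < 17
  · exact allRange_spec e6Nd_0_0 r (by omega) c0
  by_cases c1 : r < 34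
  · exact allRange_spec e6Nd_0_17 r (by omega) c1
  exact allRange_spec e6Nd_0_34 r (by omega) h2

end Cfsg.Agent.Lib.Helper3.ChevM
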