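import Cfsg.Prelude.Def_ChevE6
import Cfsg.Agent.Lib.Helper3.ChevM4
import Cfsg.Agent.Lib.Helper3.ChevData.E6Cols
set_option autoImplicit false
set_option maxRecDepth 1000000
set_option Elab.async false

namespace Cfsg.Agent.Lib.Helper3.ChevM

theorem e6Ok_1_36 : allRange 36 37 (colsCheck Cfsg.Lie.chevE6 colsE6) = true := by decide +kernel
theorem e6Ok_1_37 : allRange 37 38 (colsCheck Cfsg.Lie.chevE6 colsE6) = true := by decide +kernel
theorem e6Ok_1_38 : allRange 38 39 (colsCheck Cfsg.Lie.chevE6 colsE6) = true := by decide +kernel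
theorem e6Ok_1_39 : allRange 39 40 (colsCheck Cfsg.Lie.chevE6 colsE6) = true := by decide +kernel
theorem e6Ok_1_40 : allRange 40 41 (colsCheck Cfsg.Lie.chevE6 colsE6) = true := by decide +kernel
theorem e6Ok_1_41 : allRange 41 42 (colsCheck Cfsg.Lie.chevE6 colsE6) = true := by decide +kernel
theorem e6Ok_1_42 : allRange 42 43 (colsCheck Cfsg.Lie.chevE6 colsE6) = true := by decide +kernel
theorem e6Ok_1_43 : allRange 43 44 (colsCheck Cfsg.Lie.chevE6 colsE6) = true := by decide +kernel
theorem e6Ok_1_44 : allRange 44 45 (colsCheck Cfsg.Lie.chevE6 colsE6) = true := by decide +kernel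
theorem e6Ok_1_45 : allRange 45 46 (colsCheck Cfsg.Lie.chevE6 colsE6) = true := by decide +kernel
theorem e6Ok_1_46 : allRange 46 47 (colsCheck Cfsg.Lie.chevE6 colsE6) = true := by decide +kernel
theorem e6Ok_1_47 : allRange 47 48 (colsCheck Cfsg.Lie.chevE6 colsE6) = true := by decide +kernel
theorem e6Ok_1_48 : allRange 48 49 (colsCheck Cfsg.Lie.chevE6 colsE6) = true := by decide +kernel
theorem e6Ok_1_49 : allRange 49 50 (colsCheck Cfsg.Lie.chevE6 colsE6) = true := by decide +kernel
theorem e6Ok_1_50 : allRange 50 51 (colsCheck Cfsg.Lie.chevE6 colsE6) = true := by decide +kernel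
theorem e6Ok_1_51 : allRange 51 52 (colsCheck Cfsg.Lie.chevE6 colsE6) = true := by decide +kernel
theorem e6Ok_1_52 : allRange 52 53 (colsCheck Cfsg.Lie.chevE6 colsE6) = true := by decide +kernel
theorem e6Ok_1_53 : allRange 53 54 (colsCheck Cfsg.Lie.chevE6 colsE6) = true := by decide +kernel
theorem e6Ok_1_54 : allRange 54 55 (colsCheck Cfsg.Lie.chevE6 colsE6) = true := by decide +kernel
theorem e6Ok_1_55 : allRange 55 56 (colsCheck Cfsg.Lie.chevE6 colsE6) = true := by decide +kernel
theorem e6Ok_1_56 : allRange 56 57 (colsCheck Cfsg.Lie.chevE6 colsE6) = true := by decide +kernel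
theorem e6Ok_1_57 : allRange 57 58 (colsCheck Cfsg.Lie.chevE6 colsE6) = true := by decide +kernel
theorem e6Ok_1_58 : allRange 58 59 (colsCheck Cfsg.Lie.chevE6 colsE6) = true := by decide +kernel
theorem e6Ok_1_59 : allRange 59 60 (colsCheck Cfsg.Lie.chevE6 colsE6) = true := by decide +kernel
theorem e6Ok_1_60 : allRange 60 61 (colsCheck Cfsg.Lie.chevE6 colsE6) = true := by decide +kernel
theorem e6Ok_1_61 : allRange 61 62 (colsCheck Cfsg.Lie.chevE6 colsE6) = true := by decide +kernel
theorem e6Ok_1_62 : allRange 62 63 (colsCheck Cfsg.Lie.chevE6 colsE6) = true := by decide +kernel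
theorem e6Ok_1_63 : allRange 63 64 (colsCheck Cfsg.Lie.chevE6 colsE6) = true := by decide +kernel
theorem e6Ok_1_64 : allRange 64 65 (colsCheck Cfsg.Lie.chevE6 colsE6) = true := by decide +kernel
theorem e6Ok_1_65 : allRange 65 66 (colsCheck Cfsg.Lie.chevE6 colsE6) = true := by decide +kernel
theorem e6Ok_1_66 : allRange 66 67 (colsCheck Cfsg.Lie.chevE6 colsE6) = true := by decide +kernel
theorem e6Ok_1_67 : allRange 67 68 (colsCheck Cfsg.Lie.chevE6 colsE6) = true := by decide +kernel
theorem e6Ok_1_68 : allRange 68 69 (colsCheck Cfsg.Lie.chevE6 colsE6) = true := by decide +kernel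
theorem e6Ok_1_69 : allRange 69 70 (colsCheck Cfsg.Lie.chevE6 colsE6) = true := by decide +kernel
theorem e6Ok_1_70 : allRange 70 71 (colsCheck Cfsg.Lie.chevE6 colsE6) = true := by decide +kernel
theorem e6Ok_1_71 : allRange 71 72 (colsCheck Cfsg.Lie.chevE6 colsE6) = true := by decide +kernel

/-- The compiled columns of type E6 agree with the tables (roots 36 to 71). -/
theorem e6Ok_1 : ∀ r, 36 ≤ r → r < 72 → (colsCheck Cfsg.Lie.chevE6 colsE6) r = true := by
  intro r h1 h2
  by_cases c0 : r < 37
  · exact allRange_spec e6Ok_1_36 r (by omega) c0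
  by_cases c1 : r < 38
  · exact allRange_spec e6Ok_1_37 r (by omega) c1
  by_cases c2 : r < 39
  · exact allRange_spec e6Ok_1_38 r (by omega) c2
  by_cases c3 : r < 40
  · exact allRange_spec e6Ok_1_39 r (by omega) c3
  by_cases c4 : r < 41
  · exact allRange_spec e6Ok_1_40 r (by omega) c4
  by_cases c5 : r < 42
  · exact allRange_spec e6Ok_1_41 r (by omega) c5
  by_cases c6 : r < 43
  · exact allRange_spec e6Ok_1_42 r (by omega) c6
  by_cases c7 : r < 44
  · exact allRange_spec e6Ok_1_43 r (by omega) c7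
  by_cases c8 : r < 45
  · exact allRange_spec e6Ok_1_44 r (by omega) c8
  by_cases c9 : r < 46
  · exact allRange_spec e6Ok_1_45 r (by omega) c9
  by_cases c10 : r < 47
  · exact allRange_spec e6Ok_1_46 r (by omega) c10
  by_cases c11 : r < 48
  · exact allRange_spec e6Ok_1_47 r (by omega) c11
  by_cases c12 : r < 49
  · exact allRange_spec e6Ok_1_48 r (by omega) c12
  by_cases c13 : r < 50
  · exact allRange_spec e6Ok_1_49 r (by omega) c13
  by_cases c14 : r < 51
  · exact allRange_spec e6Ok_1_50 r (by omega) c14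
  by_cases c15 : r < 52
  · exact allRange_spec e6Ok_1_51 r (by omega) c15
  by_cases c16 : r < 53
  · exact allRange_spec e6Ok_1_52 r (by omega) c16
  by_cases c17 : r < 54
  · exact allRange_spec e6Ok_1_53 r (by omega) c17
  by_cases c18 : r < 55
  · exact allRange_spec e6Ok_1_54 r (by omega) c18
  by_cases c19 : r < 56
  · exact allRange_spec e6Ok_1_55 r (by omega) c19
  by_cases c20 : r < 57
  · exact allRange_spec e6Ok_1_56 r (by omega) c20
  by_cases c21 : r < 58
  · exact allRange_spec e6Ok_1_57 r (by omega) c21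
  by_cases c22 : r < 59
  · exact allRange_spec e6Ok_1_58 r (by omega) c22
  by_cases c23 : r < 60
  · exact allRange_spec e6Ok_1_59 r (by omega) c23
  by_cases c24 : r < 61
  · exact allRange_spec e6Ok_1_60 r (by omega) c24
  by_cases c25 : r < 62
  · exact allRange_spec e6Ok_1_61 r (by omega) c25
  by_cases c26 : r < 63
  · exact allRange_spec e6Ok_1_62 r (by omega) c26
  by_cases c27 : r < 64
  · exact allRange_spec e6Ok_1_63 r (by omega) c27
  by_cases c28 : r < 65
  · exact allRange_spec e6Ok_1_64 r (by omega) c28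
  by_cases c29 : r < 66
  · exact allRange_spec e6Ok_1_65 r (by omega) c29
  by_cases c30 : r < 67
  · exact allRange_spec e6Ok_1_66 r (by omega) c30
  by_cases c31 : r < 68
  · exact allRange_spec e6Ok_1_67 r (by omega) c31
  by_cases c32 : r < 69
  · exact allRange_spec e6Ok_1_68 r (by omega) c32
  by_cases c33 : r < 70
  · exact allRange_spec e6Ok_1_69 r (by omega) c33
  by_cases c34 : r < 71
  · exact allRange_spec e6Ok_1_70 r (by omega) c34
  exact allRange_spec e6Ok_1_71 r (by omega) h2

end Cfsg.Agent.Lib.Helper3.ChevM
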