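import Cfsg.Prelude.Def_ChevE6
set_option autoImplicit false
set_option maxRecDepth 1000000

namespace Cfsg.Agent.Lib.Helper3.ChevM

/-- Coset representatives of the first 0 reflections in the group of the first 1, type E6. -/
def dlE60 : List (List ℕ) := [[], [0]]

/-- The left multiplication table of these representatives. -/
def nxtE60 (a i : ℕ) : ℕ := ((#[#[1], #[0]] : Array (Array ℕ)).getD a #[]).getD i 0

/-- Coset representatives of the first 1 reflections in the group of the first 2, type E6. -/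
def dlE61 : List (List ℕ) := [[], [1]]

/-- The left multiplication table of these representatives. -/
def nxtE61 (a i : ℕ) : ℕ := ((#[#[2, 1], #[2, 0]] : Array (Array ℕ)).getD a #[]).getD i 0

/-- Coset representatives of the first 2 reflections in the group of the first 3, type E6. -/
def dlE62 : List (List ℕ) := [[], [2], [0, 2]]

/-- The left multiplication table of these representatives. -/
def nxtE62 (a i : ℕ) : ℕ := ((#[#[3, 4, 1], #[2, 4, 0], #[1, 4, 3]] : Array (Array ℕ)).getD a #[]).getD i 0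

/-- Coset representatives of the first 3 reflections in the group of the first 4, type E6. -/
def dlE63 : List (List ℕ) := [[], [3], [1, 3], [2, 3], [2, 1, 3], [0, 2, 3], [0, 2, 1, 3], [3, 2, 1, 3], [3, 0, 2, 1, 3], [2, 3, 0, 2, 1, 3]]

/-- The left multiplication table of these representatives. -/
def nxtE63 (a i : ℕ) : ℕ := ((#[#[10, 11, 12, 1], #[10, 2, 3, 0], #[10, 1, 4, 11], #[5, 4, 1, 12], #[6, 3, 2, 7], #[3, 6, 10, 12], #[4, 5, 10, 8], #[8, 12, 11, 4], #[7, 12, 9, 6], #[11, 12, 8, 10]] : Array (Array ℕ)).getD a #[]).getD i 0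

/-- Coset representatives of the first 4 reflections in the group of the first 5, type E6. -/
def dlE64 : List (List ℕ) := [[], [4], [3, 4], [1, 3, 4], [2, 3, 4], [2, 1, 3, 4], [0, 2, 3, 4], [0, 2, 1, 3, 4], [3, 2, 1, 3, 4], [3, 0, 2, 1, 3, 4], [4, 3, 2, 1, 3, 4], [2, 3, 0, 2, 1, 3, 4], [4, 3, 0, 2, 1, 3, 4], [4, 2, 3, 0, 2, 1, 3, 4], [3, 4, 2, 3, 0, 2, 1, 3, 4], [1, 3, 4, 2, 3, 0, 2, 1, 3, 4]]

/-- The left multiplication table of these representatives. -/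
def nxtE64 (a i : ℕ) : ℕ := ((#[#[16, 17, 18, 19, 1], #[16, 17, 18, 2, 0], #[16, 3, 4, 1, 19], #[16, 2, 5, 17, 19], #[6, 5, 2, 18, 19], #[7, 4, 3, 8, 19], #[4, 7, 16, 18, 19], #[5, 6, 16, 9, 19], #[9, 18, 17, 5, 10], #[8, 18, 11, 7, 12], #[12, 18, 17, 19, 8], #[17, 18, 9, 16, 13], #[10, 18, 13, 19, 9], #[17, 18, 12, 14, 11], #[17, 15, 19, 13, 16], #[17, 14, 19, 18, 16]] : Array (Array ℕ)).getD a #[]).getD i 0

/-- Coset representatives of the first 5 reflections in the group of the first 6, type E6. -/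
def dlE65 : List (List ℕ) := [[], [5], [4, 5], [3, 4, 5], [1, 3, 4, 5], [2, 3, 4, 5], [2, 1, 3, 4, 5], [0, 2, 3, 4, 5], [0, 2, 1, 3, 4, 5], [3, 2, 1, 3, 4, 5], [3, 0, 2, 1, 3, 4, 5], [4, 3, 2, 1, 3, 4, 5], [2, 3, 0, 2, 1, 3, 4, 5], [4, 3, 0, 2, 1, 3, 4, 5], [5, 4, 3, 2, 1, 3, 4, 5], [4, 2, 3, 0, 2, 1, 3, 4, 5], [5, 4, 3, 0, 2, 1, 3, 4, 5], [3, 4, 2, 3, 0, 2, 1, 3, 4, 5], [5, 4, 2, 3, 0, 2, 1, 3, 4, 5], [1, 3, 4, 2, 3, 0, 2, 1, 3, 4, 5], [5, 3, 4, 2, 3, 0, 2, 1, 3, 4, 5], [5, 1, 3, 4, 2, 3, 0, 2, 1, 3, 4, 5], [4, 5, 3, 4, 2, 3, 0, 2, 1, 3, 4, 5], [4, 5, 1, 3, 4, 2, 3, 0, 2, 1, 3, 4, 5], [3, 4, 5, 1, 3, 4, 2, 3, 0, 2, 1, 3, 4, 5], [2, 3, 4, 5, 1, 3, 4, 2, 3, 0, 2, 1, 3, 4, 5], [0, 2, 3, 4, 5, 1, 3, 4, 2, 3, 0, 2, 1, 3, 4, 5]]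

/-- The left multiplication table of these representatives. -/
def nxtE65 (a i : ℕ) : ℕ := ((#[#[27, 28, 29, 30, 31, 1], #[27, 28, 29, 30, 2, 0], #[27, 28, 29, 3, 1, 31], #[27, 4, 5, 2, 30, 31], #[27, 3, 6, 28, 30, 31], #[7, 6, 3, 29, 30, 31], #[8, 5, 4, 9, 30, 31], #[5, 8, 27, 29, 30, 31], #[6, 7, 27, 10, 30, 31], #[10, 29, 28, 6, 11, 31], #[9, 29, 12, 8, 13, 31], #[13, 29, 28, 30, 9, 14], #[28, 29, 10, 27, 15, 31], #[11, 29, 15, 30, 10, 16], #[16, 29, 28, 30, 31, 11], #[28, 29, 13, 17, 12, 18], #[14, 29, 18, 30, 31, 13], #[28, 19, 30, 15, 27, 20], #[28, 29, 16, 20, 31, 15], #[28, 17, 30, 29, 27, 21], #[28, 21, 30, 18, 22, 17], #[28, 20, 30, 29, 23, 19], #[28, 23, 30, 31, 20, 27], #[28, 22, 30, 24, 21, 27], #[28, 31, 25, 23, 29, 27], #[26, 31, 24, 30, 29, 27], #[25, 31, 28, 30, 29, 27]] : Array (Array ℕ)).getD a #[]).getD i 0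

end Cfsg.Agent.Lib.Helper3.ChevM
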