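import Cfsg.Agent.Lib.Helper3.ChevData.E6Mono
import Cfsg.Agent.Lib.Helper3.ChevData.E6Hdec
import Cfsg.Agent.Lib.Helper3.ChevData.E6Sign
import Cfsg.Agent.Lib.Helper3.ChevData.E6Os0
import Cfsg.Agent.Lib.Helper3.ChevData.E6Or0
import Cfsg.Agent.Lib.Helper3.ChevData.E6Ot0
set_option autoImplicit false
set_option maxRecDepth 1000000

namespace Cfsg.Agent.Lib.Helper3.ChevM

theorem e6Od0 : distinctCheck Cfsg.Lie.chevE6 reflE6 dlE60 = true := by decide +kernel

theorem e6On0 : dlE60.map (Nw Cfsg.Lie.chevE6 reflE6) = [0, 1] := by decide +kernel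

/-- Step 0 of the factorisation of the Poincaré sum of type E6. -/
theorem e6Poin0 (q : ℕ) : poin cdE6.D relE6.refl (Set.Iio 1) q =
    ([0, 1].map fun e => q ^ e).sum * poin cdE6.D relE6.refl (Set.Iio 0) q := by
  have h := monoE6.poin_step (of_pairRange (m := 72) (n := 72) e6Hdec) e6Sign 0 e6Os0 dlE60 e6Or0 nxtE60
    (by decide +kernel) (of_pairRange (m := 2) (n := 1) e6Ot0) e6Od0 (by decide +kernel) q
  show poin cdE6.D relE6.refl (Set.Iio (0 + 1)) q = _
  have e : (dlE60.map fun d => q ^ Nw cdE6.D relE6.refl d) = (dlE60.map (Nw Cfsg.Lie.chevE6 reflE6)).map fun e => q ^ e := by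
    rw [List.map_map]; rfl
  rw [h, e, e6On0]

end Cfsg.Agent.Lib.Helper3.ChevM
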