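import Cfsg.Prelude.Def_ChevE6
import Cfsg.Agent.Lib.Helper3.ChevData.E6Hd2
import Cfsg.Agent.Lib.Helper3.ChevData.E6Tabs
import Cfsg.Agent.Lib.Helper3.ChevL3
set_option autoImplicit false
set_option maxRecDepth 1000000
set_option Elab.async false

namespace Cfsg.Agent.Lib.Helper3.ChevM

theorem e6Rv_2_144 : allRange 144 162 (fun k => reflVecCheck Cfsg.Lie.chevE6 reflE6 vecE6 (k / 72) (k % 72)) = true := by decide +kernel
theorem e6Rv_2_162 : allRange 162 180 (fun k => reflVecCheck Cfsg.Lie.chevE6 reflE6 vecE6 (k / 72) (k % 72)) = true := by decide +kernel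
theorem e6Rv_2_180 : allRange 180 198 (fun k => reflVecCheck Cfsg.Lie.chevE6 reflE6 vecE6 (k / 72) (k % 72)) = true := by decide +kernel
theorem e6Rv_2_198 : allRange 198 216 (fun k => reflVecCheck Cfsg.Lie.chevE6 reflE6 vecE6 (k / 72) (k % 72)) = true := by decide +kernel

/-- The fundamental reflections of type E6 change one coefficient (roots 144 to 215). -/
theorem e6Rv_2 : ∀ r, 144 ≤ r → r < 216 → (fun k => reflVecCheck Cfsg.Lie.chevE6 reflE6 vecE6 (k / 72) (k % 72)) r = true := by
  intro r h1 h2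
  by_cases c0 : r < 162
  · exact allRange_spec e6Rv_2_144 r (by omega) c0
  by_cases c1 : r < 180
  · exact allRange_spec e6Rv_2_162 r (by omega) c1
  by_cases c2 : r < 198
  · exact allRange_spec e6Rv_2_180 r (by omega) c2
  exact allRange_spec e6Rv_2_198 r (by omega) h2

end Cfsg.Agent.Lib.Helper3.ChevM
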