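import Cfsg.Prelude.Def_ChevE6
import Cfsg.Agent.Lib.Helper3.ChevData.E6Hd2
import Cfsg.Agent.Lib.Helper3.ChevData.E6Tabs
import Cfsg.Agent.Lib.Helper3.ChevL3
set_option autoImplicit false
set_option maxRecDepth 1000000
set_option Elab.async false

namespace Cfsg.Agent.Lib.Helper3.ChevM

theorem e6Rv_5_360 : allRange 360 378 (fun k => reflVecCheck Cfsg.Lie.chevE6 reflE6 vecE6 (k / 72) (k % 72)) = true := by decide +kernel
theorem e6Rv_5_378 : allRange 378 396 (fun k => reflVecCheck Cfsg.Lie.chevE6 reflE6 vecE6 (k / 72) (k % 72)) = true := by decide +kernel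
theorem e6Rv_5_396 : allRange 396 414 (fun k => reflVecCheck Cfsg.Lie.chevE6 reflE6 vecE6 (k / 72) (k % 72)) = true := by decide +kernel
theorem e6Rv_5_414 : allRange 414 432 (fun k => reflVecCheck Cfsg.Lie.chevE6 reflE6 vecE6 (k / 72) (k % 72)) = true := by decide +kernel

/-- The fundamental reflections of type E6 change one coefficient (roots 360 to 431). -/
theorem e6Rv_5 : ∀ r, 360 ≤ r → r < 432 → (fun k => reflVecCheck Cfsg.Lie.chevE6 reflE6 vecE6 (k / 72) (k % 72)) r = true := by
  intro r h1 h2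
  by_cases c0 : r < 378
  · exact allRange_spec e6Rv_5_360 r (by omega) c0
  by_cases c1 : r < 396
  · exact allRange_spec e6Rv_5_378 r (by omega) c1
  by_cases c2 : r < 414
  · exact allRange_spec e6Rv_5_396 r (by omega) c2
  exact allRange_spec e6Rv_5_414 r (by omega) h2

end Cfsg.Agent.Lib.Helper3.ChevM
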