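import Cfsg.Agent.Lib.Helper3.ChevData.E6RvA
import Cfsg.Agent.Lib.Helper3.ChevData.E6RvB
import Cfsg.Agent.Lib.Helper3.ChevData.E6RvC
import Cfsg.Agent.Lib.Helper3.ChevData.E6RvD
import Cfsg.Agent.Lib.Helper3.ChevData.E6RvE
import Cfsg.Agent.Lib.Helper3.ChevData.E6RvF
set_option autoImplicit false

namespace Cfsg.Agent.Lib.Helper3.ChevM

/-- The fundamental reflections of type E6 change one coefficient. -/
theorem e6Rv : ∀ r < 432, (fun k => reflVecCheck Cfsg.Lie.chevE6 reflE6 vecE6 (k / 72) (k % 72)) r = true := by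
  intro r hr
  by_cases h0 : r < 72
  · exact e6Rv_0 r (by omega) h0
  by_cases h1 : r < 144
  · exact e6Rv_1 r (by omega) h1
  by_cases h2 : r < 216
  · exact e6Rv_2 r (by omega) h2
  by_cases h3 : r < 288
  · exact e6Rv_3 r (by omega) h3
  by_cases h4 : r < 360
  · exact e6Rv_4 r (by omega) h4
  exact e6Rv_5 r (by omega) hr

end Cfsg.Agent.Lib.Helper3.ChevM
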