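import Cfsg.Prelude.Def_ChevE6
import Cfsg.Agent.Lib.Helper3.ChevData.E6Hd2
import Cfsg.Agent.Lib.Helper3.ChevData.E6Tabs
import Cfsg.Agent.Lib.Helper3.ChevL3
set_option autoImplicit false
set_option maxRecDepth 1000000
set_option Elab.async false

namespace Cfsg.Agent.Lib.Helper3.ChevM

theorem e6Rv_0_0 : allRange 0 18 (fun k => reflVecCheck Cfsg.Lie.chevE6 reflE6 vecE6 (k / 72) (k % 72)) = true := by decide +kernel
theorem e6Rv_0_18 : allRange 18 36 (fun k => reflVecCheck Cfsg.Lie.chevE6 reflE6 vecE6 (k / 72) (k % 72)) = true := by decide +kernel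
theorem e6Rv_0_36 : allRange 36 54 (fun k => reflVecCheck Cfsg.Lie.chevE6 reflE6 vecE6 (k / 72) (k % 72)) = true := by decide +kernel
theorem e6Rv_0_54 : allRange 54 72 (fun k => reflVecCheck Cfsg.Lie.chevE6 reflE6 vecE6 (k / 72) (k % 72)) = true := by decide +kernel

/-- The fundamental reflections of type E6 change one coefficient (roots 0 to 71). -/
theorem e6Rv_0 : ∀ r, 0 ≤ r → r < 72 → (fun k => reflVecCheck Cfsg.Lie.chevE6 reflE6 vecE6 (k / 72) (k % 72)) r = true := by
  intro r h1 h2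
  by_cases c0 : r < 18
  · exact allRange_spec e6Rv_0_0 r (by omega) c0
  by_cases c1 : r < 36
  · exact allRange_spec e6Rv_0_18 r (by omega) c1
  by_cases c2 : r < 54
  · exact allRange_spec e6Rv_0_36 r (by omega) c2
  exact allRange_spec e6Rv_0_54 r (by omega) h2

end Cfsg.Agent.Lib.Helper3.ChevM
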