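import Cfsg.Prelude.Def_ChevE6
set_option autoImplicit false
set_option maxRecDepth 1000000

namespace Cfsg.Agent.Lib.Helper3.ChevM

/-- For each root of type E6, a word of fundamental reflections and a fundamental root it maps to the root. -/
def rwE6 (r : ℕ) : List ℕ × ℕ :=
  (#[([1, 3, 4, 5, 2, 3, 4, 1, 3, 2, 0], 0), ([3, 4, 5, 2, 3, 4, 1, 3, 2, 0], 0), ([4, 5, 2, 3, 4, 1, 3, 2, 0], 0), ([5, 2, 3, 4, 1, 3, 2, 0], 0), ([2, 3, 4, 1, 3, 2, 0], 0), ([4, 5, 3, 4, 1, 3, 2, 0], 0), ([5, 3, 4, 1, 3, 2, 0], 0), ([3, 4, 1, 3, 2, 0], 0), ([5, 4, 1, 3, 2, 0], 0), ([4, 1, 3, 2, 0], 0), ([1, 3, 2, 0], 0), ([5, 4, 3, 2, 0], 0), ([4, 3, 2, 0], 0), ([3, 2, 0], 0), ([2, 0], 0), ([0], 0), ([4, 5, 3, 4, 2, 3, 1], 1), ([5, 3, 4, 2, 3, 1], 1), ([3, 4, 2, 3, 1], 1), ([5, 4, 2, 3,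 1], 1), ([4, 2, 3, 1], 1), ([2, 3, 1], 1), ([5, 4, 3, 1], 1), ([4, 3, 1], 1), ([3, 1], 1), ([1], 1), ([5, 4, 3, 2], 2), ([4, 3, 2], 2), ([3, 2], 2), ([2], 2), ([5, 4, 3], 3), ([4, 3], 3), ([3], 3), ([5, 4], 4), ([4], 4), ([5], 5), ([], 5), ([], 4), ([5], 4), ([], 3), ([4], 3), ([5, 4], 3), ([], 2), ([3], 2), ([4, 3], 2), ([5, 4, 3], 2), ([], 1), ([3], 1), ([4, 3], 1), ([5, 4, 3], 1), ([2, 3], 1), ([4, 2, 3], 1), ([5, 4, 2, 3], 1), ([3, 4, 2, 3], 1), ([5, 3, 4, 2, 3], 1), ([4, 5, 3, 4, 2, 3], 1), ([], 0), ([2], 0), ([3, 2], 0), ([4, 3, 2], 0), ([5, 4, 3, 2], 0), ([1, 3, 2], 0), ([4, 1, 3, 2], 0), ([5, 4, 1, 3, 2], 0), ([3, 4, 1, 3, 2], 0), ([5, 3, 4, 1, 3, 2], 0), ([4, 5, 3, 4, 1, 3, 2], 0), ([2, 3, 4, 1, 3, 2], 0), ([5, 2, 3, 4, 1, 3, 2], 0), ([4, 5, 2, 3, 4,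 1, 3, 2], 0), ([3, 4, 5, 2, 3, 4, 1, 3, 2], 0), ([1, 3, 4, 5, 2, 3, 4, 1, 3, 2], 0)] : Array (List ℕ × ℕ)).getD r ([], 0)

end Cfsg.Agent.Lib.Helper3.ChevM
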