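import Cfsg.Agent.Lib.Helper3.ChevData.E6SlbaseA
set_option autoImplicit false

namespace Cfsg.Agent.Lib.Helper3.ChevM
open Cfsg.Agent.Lib.Helper3.StS

/-- The base decompositions of the roots of type E6. -/
theorem e6Slbase : ∀ r < 72, ((fun r => baseOK Cfsg.Lie.chevE6 sctE6 sbaseE6 r)) r = true := by
  intro r hr
  exact e6Slbase_0 r (by omega) hr

end Cfsg.Agent.Lib.Helper3.ChevM
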