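import Cfsg.Prelude.Def_ChevE6
import Cfsg.Agent.Lib.Helper3.ChevData.E6Slct
import Cfsg.Agent.Lib.Helper3.StS3
set_option autoImplicit false
set_option maxRecDepth 1000000
set_option Elab.async false

namespace Cfsg.Agent.Lib.Helper3.ChevM
open Cfsg.Agent.Lib.Helper3.StS

theorem e6Slctok_1_4921 : allRange 4921 5054 ((fun k => ctOK Cfsg.Lie.chevE6 sctE6 (k / 72) (k % 72))) = true := by decide +kernel
theorem e6Slctok_1_5054 : allRange 5054 5184 ((fun k => ctOK Cfsg.Lie.chevE6 sctE6 (k / 72) (k % 72))) = true := by decide +kernel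

/-- The compiled table of sums of roots of type E6 agrees with the terms of the commutator formula (roots 4921 to 5183). -/
theorem e6Slctok_1 : ∀ r, 4921 ≤ r → r < 5184 → ((fun k => ctOK Cfsg.Lie.chevE6 sctE6 (k / 72) (k % 72))) r = true := by
  intro r h1 h2
  by_cases c0 : r < 5054
  · exact allRange_spec e6Slctok_1_4921 r (by omega) c0
  exact allRange_spec e6Slctok_1_5054 r (by omega) h2

end Cfsg.Agent.Lib.Helper3.ChevM
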