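import Cfsg.Agent.Lib.Helper3.ChevData.E6SlctokA
import Cfsg.Agent.Lib.Helper3.ChevData.E6SlctokB
set_option autoImplicit false

namespace Cfsg.Agent.Lib.Helper3.ChevM
open Cfsg.Agent.Lib.Helper3.StS

/-- The compiled table of sums of roots of type E6 agrees with the terms of the commutator formula. -/
theorem e6Slctok : ∀ r < 5184, ((fun k => ctOK Cfsg.Lie.chevE6 sctE6 (k / 72) (k % 72))) r = true := by
  intro r hr
  by_cases h0 : r < 4921
  · exact e6Slctok_0 r (by omega) h0
  exact e6Slctok_1 r (by omega) hr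

end Cfsg.Agent.Lib.Helper3.ChevM
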