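import Cfsg.Prelude.Def_ChevE6
import Cfsg.Agent.Lib.Helper3.ChevData.E6Slct
import Cfsg.Agent.Lib.Helper3.StS3
set_option autoImplicit false
set_option maxRecDepth 1000000
set_option Elab.async false

namespace Cfsg.Agent.Lib.Helper3.ChevM
open Cfsg.Agent.Lib.Helper3.StS

theorem e6Slctok_0_0 : allRange 0 133 ((fun k => ctOK Cfsg.Lie.chevE6 sctE6 (k / 72) (k % 72))) = true := by decide +kernel
theorem e6Slctok_0_133 : allRange 133 266 ((fun k => ctOK Cfsg.Lie.chevE6 sctE6 (k / 72) (k % 72))) = true := by decide +kernel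
theorem e6Slctok_0_266 : allRange 266 399 ((fun k => ctOK Cfsg.Lie.chevE6 sctE6 (k / 72) (k % 72))) = true := by decide +kernel
theorem e6Slctok_0_399 : allRange 399 532 ((fun k => ctOK Cfsg.Lie.chevE6 sctE6 (k / 72) (k % 72))) = true := by decide +kernel
theorem e6Slctok_0_532 : allRange 532 665 ((fun k => ctOK Cfsg.Lie.chevE6 sctE6 (k / 72) (k % 72))) = true := by decide +kernel
theorem e6Slctok_0_665 : allRange 665 798 ((fun k => ctOK Cfsg.Lie.chevE6 sctE6 (k / 72) (k % 72))) = true := by decide +kernel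
theorem e6Slctok_0_798 : allRange 798 931 ((fun k => ctOK Cfsg.Lie.chevE6 sctE6 (k / 72) (k % 72))) = true := by decide +kernel
theorem e6Slctok_0_931 : allRange 931 1064 ((fun k => ctOK Cfsg.Lie.chevE6 sctE6 (k / 72) (k % 72))) = true := by decide +kernel
theorem e6Slctok_0_1064 : allRange 1064 1197 ((fun k => ctOK Cfsg.Lie.chevE6 sctE6 (k / 72) (k % 72))) = true := by decide +kernel
theorem e6Slctok_0_1197 : allRange 1197 1330 ((fun k => ctOK Cfsg.Lie.chevE6 sctE6 (k / 72) (k % 72))) = true := by decide +kernel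
theorem e6Slctok_0_1330 : allRange 1330 1463 ((fun k => ctOK Cfsg.Lie.chevE6 sctE6 (k / 72) (k % 72))) = true := by decide +kernel
theorem e6Slctok_0_1463 : allRange 1463 1596 ((fun k => ctOK Cfsg.Lie.chevE6 sctE6 (k / 72) (k % 72))) = true := by decide +kernel
theorem e6Slctok_0_1596 : allRange 1596 1729 ((fun k => ctOK Cfsg.Lie.chevE6 sctE6 (k / 72) (k % 72))) = true := by decide +kernel
theorem e6Slctok_0_1729 : allRange 1729 1862 ((fun k => ctOK Cfsg.Lie.chevE6 sctE6 (k / 72) (k % 72))) = true := by decide +kernel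
theorem e6Slctok_0_1862 : allRange 1862 1995 ((fun k => ctOK Cfsg.Lie.chevE6 sctE6 (k / 72) (k % 72))) = true := by decide +kernel
theorem e6Slctok_0_1995 : allRange 1995 2128 ((fun k => ctOK Cfsg.Lie.chevE6 sctE6 (k / 72) (k % 72))) = true := by decide +kernel
theorem e6Slctok_0_2128 : allRange 2128 2261 ((fun k => ctOK Cfsg.Lie.chevE6 sctE6 (k / 72) (k % 72))) = true := by decide +kernel
theorem e6Slctok_0_2261 : allRange 2261 2394 ((fun k => ctOK Cfsg.Lie.chevE6 sctE6 (k / 72) (k % 72))) = true := by decide +kernel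
theorem e6Slctok_0_2394 : allRange 2394 2527 ((fun k => ctOK Cfsg.Lie.chevE6 sctE6 (k / 72) (k % 72))) = true := by decide +kernel
theorem e6Slctok_0_2527 : allRange 2527 2660 ((fun k => ctOK Cfsg.Lie.chevE6 sctE6 (k / 72) (k % 72))) = true := by decide +kernel
theorem e6Slctok_0_2660 : allRange 2660 2793 ((fun k => ctOK Cfsg.Lie.chevE6 sctE6 (k / 72) (k % 72))) = true := by decide +kernel
theorem e6Slctok_0_2793 : allRange 2793 2926 ((fun k => ctOK Cfsg.Lie.chevE6 sctE6 (k / 72) (k % 72))) = true := by decide +kernel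
theorem e6Slctok_0_2926 : allRange 2926 3059 ((fun k => ctOK Cfsg.Lie.chevE6 sctE6 (k / 72) (k % 72))) = true := by decide +kernel
theorem e6Slctok_0_3059 : allRange 3059 3192 ((fun k => ctOK Cfsg.Lie.chevE6 sctE6 (k / 72) (k % 72))) = true := by decide +kernel
theorem e6Slctok_0_3192 : allRange 3192 3325 ((fun k => ctOK Cfsg.Lie.chevE6 sctE6 (k / 72) (k % 72))) = true := by decide +kernel
theorem e6Slctok_0_3325 : allRange 3325 3458 ((fun k => ctOK Cfsg.Lie.chevE6 sctE6 (k / 72) (k % 72))) = true := by decide +kernel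
theorem e6Slctok_0_3458 : allRange 3458 3591 ((fun k => ctOK Cfsg.Lie.chevE6 sctE6 (k / 72) (k % 72))) = true := by decide +kernel
theorem e6Slctok_0_3591 : allRange 3591 3724 ((fun k => ctOK Cfsg.Lie.chevE6 sctE6 (k / 72) (k % 72))) = true := by decide +kernel
theorem e6Slctok_0_3724 : allRange 3724 3857 ((fun k => ctOK Cfsg.Lie.chevE6 sctE6 (k / 72) (k % 72))) = true := by decide +kernel
theorem e6Slctok_0_3857 : allRange 3857 3990 ((fun k => ctOK Cfsg.Lie.chevE6 sctE6 (k / 72) (k % 72))) = true := by decide +kernel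
theorem e6Slctok_0_3990 : allRange 3990 4123 ((fun k => ctOK Cfsg.Lie.chevE6 sctE6 (k / 72) (k % 72))) = true := by decide +kernel
theorem e6Slctok_0_4123 : allRange 4123 4256 ((fun k => ctOK Cfsg.Lie.chevE6 sctE6 (k / 72) (k % 72))) = true := by decide +kernel
theorem e6Slctok_0_4256 : allRange 4256 4389 ((fun k => ctOK Cfsg.Lie.chevE6 sctE6 (k / 72) (k % 72))) = true := by decide +kernel
theorem e6Slctok_0_4389 : allRange 4389 4522 ((fun k => ctOK Cfsg.Lie.chevE6 sctE6 (k / 72) (k % 72))) = true := by decide +kernel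
theorem e6Slctok_0_4522 : allRange 4522 4655 ((fun k => ctOK Cfsg.Lie.chevE6 sctE6 (k / 72) (k % 72))) = true := by decide +kernel
theorem e6Slctok_0_4655 : allRange 4655 4788 ((fun k => ctOK Cfsg.Lie.chevE6 sctE6 (k / 72) (k % 72))) = true := by decide +kernel
theorem e6Slctok_0_4788 : allRange 4788 4921 ((fun k => ctOK Cfsg.Lie.chevE6 sctE6 (k / 72) (k % 72))) = true := by decide +kernel

/-- The compiled table of sums of roots of type E6 agrees with the terms of the commutator formula (roots 0 to 4920). -/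
theorem e6Slctok_0 : ∀ r, 0 ≤ r → r < 4921 → ((fun k => ctOK Cfsg.Lie.chevE6 sctE6 (k / 72) (k % 72))) r = true := by
  intro r h1 h2
  by_cases c0 : r < 133
  · exact allRange_spec e6Slctok_0_0 r (by omega) c0
  by_cases c1 : r < 266
  · exact allRange_spec e6Slctok_0_133 r (by omega) c1
  by_cases c2 : r < 399
  · exact allRange_spec e6Slctok_0_266 r (by omega) c2
  by_cases c3 : r < 532
  · exact allRange_spec e6Slctok_0_399 r (by omega) c3
  by_cases c4 : r < 665
  · exact allRange_spec e6Slctok_0_532 r (by omega) c4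
  by_cases c5 : r < 798
  · exact allRange_spec e6Slctok_0_665 r (by omega) c5
  by_cases c6 : r < 931
  · exact allRange_spec e6Slctok_0_798 r (by omega) c6
  by_cases c7 : r < 1064
  · exact allRange_spec e6Slctok_0_931 r (by omega) c7
  by_cases c8 : r < 1197
  · exact allRange_spec e6Slctok_0_1064 r (by omega) c8
  by_cases c9 : r < 1330
  · exact allRange_spec e6Slctok_0_1197 r (by omega) c9
  by_cases c10 : r < 1463
  · exact allRange_spec e6Slctok_0_1330 r (by omega) c10
  by_cases c11 : r < 1596
  · exact allRange_spec e6Slctok_0_1463 r (by omega) c11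
  by_cases c12 : r < 1729
  · exact allRange_spec e6Slctok_0_1596 r (by omega) c12
  by_cases c13 : r < 1862
  · exact allRange_spec e6Slctok_0_1729 r (by omega) c13
  by_cases c14 : r < 1995
  · exact allRange_spec e6Slctok_0_1862 r (by omega) c14
  by_cases c15 : r < 2128
  · exact allRange_spec e6Slctok_0_1995 r (by omega) c15
  by_cases c16 : r < 2261
  · exact allRange_spec e6Slctok_0_2128 r (by omega) c16
  by_cases c17 : r < 2394
  · exact allRange_spec e6Slctok_0_2261 r (by omega) c17
  by_cases c18 : r < 2527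
  · exact allRange_spec e6Slctok_0_2394 r (by omega) c18
  by_cases c19 : r < 2660
  · exact allRange_spec e6Slctok_0_2527 r (by omega) c19
  by_cases c20 : r < 2793
  · exact allRange_spec e6Slctok_0_2660 r (by omega) c20
  by_cases c21 : r < 2926
  · exact allRange_spec e6Slctok_0_2793 r (by omega) c21
  by_cases c22 : r < 3059
  · exact allRange_spec e6Slctok_0_2926 r (by omega) c22
  by_cases c23 : r < 3192
  · exact allRange_spec e6Slctok_0_3059 r (by omega) c23
  by_cases c24 : r < 3325
  · exact allRange_spec e6Slctok_0_3192 r (by omega) c24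
  by_cases c25 : r < 3458
  · exact allRange_spec e6Slctok_0_3325 r (by omega) c25
  by_cases c26 : r < 3591
  · exact allRange_spec e6Slctok_0_3458 r (by omega) c26
  by_cases c27 : r < 3724
  · exact allRange_spec e6Slctok_0_3591 r (by omega) c27
  by_cases c28 : r < 3857
  · exact allRange_spec e6Slctok_0_3724 r (by omega) c28
  by_cases c29 : r < 3990
  · exact allRange_spec e6Slctok_0_3857 r (by omega) c29
  by_cases c30 : r < 4123
  · exact allRange_spec e6Slctok_0_3990 r (by omega) c30
  by_cases c31 : r < 4256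
  · exact allRange_spec e6Slctok_0_4123 r (by omega) c31
  by_cases c32 : r < 4389
  · exact allRange_spec e6Slctok_0_4256 r (by omega) c32
  by_cases c33 : r < 4522
  · exact allRange_spec e6Slctok_0_4389 r (by omega) c33
  by_cases c34 : r < 4655
  · exact allRange_spec e6Slctok_0_4522 r (by omega) c34
  by_cases c35 : r < 4788
  · exact allRange_spec e6Slctok_0_4655 r (by omega) c35
  exact allRange_spec e6Slctok_0_4788 r (by omega) h2

end Cfsg.Agent.Lib.Helper3.ChevM
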