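import Cfsg.Agent.Lib.Helper3.ChevData.E6SlhopA
set_option autoImplicit false

namespace Cfsg.Agent.Lib.Helper3.ChevM
open Cfsg.Agent.Lib.Helper3.StS

/-- Decompositions of the roots of type E6: paths to the base decompositions. -/
theorem e6Slhop : ∀ r < 5184, ((fun k => hopOK Cfsg.Lie.chevE6 sctE6 snbE6 sbaseE6 shsE6 sdistE6 (k / 72) (k % 72))) r = true := by
  intro r hr
  exact e6Slhop_0 r (by omega) hr

end Cfsg.Agent.Lib.Helper3.ChevM
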