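import Cfsg.Prelude.Def_ChevE6
import Cfsg.Agent.Lib.Helper3.ChevData.E6Slct
import Cfsg.Agent.Lib.Helper3.ChevData.E6Slwa
import Cfsg.Agent.Lib.Helper3.StS3
set_option autoImplicit false
set_option maxRecDepth 1000000
set_option Elab.async false

namespace Cfsg.Agent.Lib.Helper3.ChevM
open Cfsg.Agent.Lib.Helper3.StS

theorem e6Sllema_0_0 : allRange 0 800 ((fun k => lemAOK Cfsg.Lie.chevE6 sctE6 swaE6 (k / 72) (k % 72))) = true := by decide +kernel
theorem e6Sllema_0_800 : allRange 800 1600 ((fun k => lemAOK Cfsg.Lie.chevE6 sctE6 swaE6 (k / 72) (k % 72))) = true := by decide +kernel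
theorem e6Sllema_0_1600 : allRange 1600 2400 ((fun k => lemAOK Cfsg.Lie.chevE6 sctE6 swaE6 (k / 72) (k % 72))) = true := by decide +kernel
theorem e6Sllema_0_2400 : allRange 2400 3200 ((fun k => lemAOK Cfsg.Lie.chevE6 sctE6 swaE6 (k / 72) (k % 72))) = true := by decide +kernel
theorem e6Sllema_0_3200 : allRange 3200 4000 ((fun k => lemAOK Cfsg.Lie.chevE6 sctE6 swaE6 (k / 72) (k % 72))) = true := by decide +kernel
theorem e6Sllema_0_4000 : allRange 4000 4800 ((fun k => lemAOK Cfsg.Lie.chevE6 sctE6 swaE6 (k / 72) (k % 72))) = true := by decide +kernel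
theorem e6Sllema_0_4800 : allRange 4800 5184 ((fun k => lemAOK Cfsg.Lie.chevE6 sctE6 swaE6 (k / 72) (k % 72))) = true := by decide +kernel

/-- Commuting roots of type E6: decompositions commuting with the second root (roots 0 to 5183). -/
theorem e6Sllema_0 : ∀ r, 0 ≤ r → r < 5184 → ((fun k => lemAOK Cfsg.Lie.chevE6 sctE6 swaE6 (k / 72) (k % 72))) r = true := by
  intro r h1 h2
  by_cases c0 : r < 800
  · exact allRange_spec e6Sllema_0_0 r (by omega) c0
  by_cases c1 : r < 1600
  · exact allRange_spec e6Sllema_0_800 r (by omega) c1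
  by_cases c2 : r < 2400
  · exact allRange_spec e6Sllema_0_1600 r (by omega) c2
  by_cases c3 : r < 3200
  · exact allRange_spec e6Sllema_0_2400 r (by omega) c3
  by_cases c4 : r < 4000
  · exact allRange_spec e6Sllema_0_3200 r (by omega) c4
  by_cases c5 : r < 4800
  · exact allRange_spec e6Sllema_0_4000 r (by omega) c5
  exact allRange_spec e6Sllema_0_4800 r (by omega) h2

end Cfsg.Agent.Lib.Helper3.ChevM
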