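import Cfsg.Agent.Lib.Helper3.ChevM7
import Cfsg.Agent.Lib.Helper3.ChevData.E6Slctok
import Cfsg.Agent.Lib.Helper3.ChevData.E6Sllema
import Cfsg.Agent.Lib.Helper3.ChevData.E6Sldec
import Cfsg.Agent.Lib.Helper3.ChevData.E6Slhop
import Cfsg.Agent.Lib.Helper3.ChevData.E6Slshape
import Cfsg.Agent.Lib.Helper3.ChevData.E6Slbase
set_option autoImplicit false
set_option maxRecDepth 1000000

namespace Cfsg.Agent.Lib.Helper3.ChevM
open Cfsg.Agent.Lib.Helper3.StS

/-- The table checks for the splitting of the central extensions of the Steinberg group of type E6 over an arbitrary field. -/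
def slHypE6 : SLHyp Cfsg.Lie.chevE6 where
  ct := sctE6
  wa := swaE6
  nb := snbE6
  base := sbaseE6
  hs := shsE6
  dist := sdistE6
  hct := of_pairRange (m := 72) (n := 72) e6Slctok
  hA := of_pairRange (m := 72) (n := 72) e6Sllema
  hdec := of_pairRange (m := 72) (n := 72) e6Sldec
  hhop := of_pairRange (m := 72) (n := 72) e6Slhop
  hbase := e6Slbase
  hshape := of_pairRange (m := 72) (n := 72) e6Slshape

end Cfsg.Agent.Lib.Helper3.ChevM
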