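import Cfsg.Agent.Lib.Helper3.ChevData.E6UHyp
import Cfsg.Agent.Lib.Helper3.ChevData.E6Bn
import Cfsg.Agent.Lib.Helper3.ChevData.E6Sign
import Cfsg.Agent.Lib.Helper3.ChevData.E6Theta
import Cfsg.Agent.Lib.Helper3.ChevData.E6Cneg
import Cfsg.Agent.Lib.Helper3.StB12
set_option autoImplicit false
set_option maxRecDepth 1000000

namespace Cfsg.Agent.Lib.Helper3.ChevM
open Cfsg.Agent.Lib.Helper3.StB

/-- Pairs of roots whose commutator formula contains the simple roots of type E6. -/
def abE6 (i : ℕ) : ℕ × ℕ := (#[(16, 66), (1, 71), (5, 69), (2, 70), (3, 69), (4, 68)] : Array (ℕ × ℕ)).getD i (0, 0)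

theorem e6Self : allRange 0 6 (fun i => selfCheck Cfsg.Lie.chevE6 relE6.refl abE6 i) = true := by decide +kernel

theorem e6Pneg : allRange 0 36 (fun k => pairNegCheck Cfsg.Lie.chevE6 relE6.pair (k / 6) (k % 6)) = true := by decide +kernel

/-- The table checks for the presentation of type E6. -/
def stHypE6 : StHyp cdE6 relE6 where
  U := uhypE6
  B := bnE6
  sign := e6Sign
  theta := e6Theta
  cneg := of_pairRange (m := 72) (n := 72) e6Cneg
  ab := abE6
  self := fun i hi => allRange_spec e6Self i (Nat.zero_le i) hi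
  pneg := of_pairRange (m := 6) (n := 6) (fun k hk => allRange_spec e6Pneg k (Nat.zero_le k) hk)

end Cfsg.Agent.Lib.Helper3.ChevM
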