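import Cfsg.Agent.Lib.Helper3.ChevData.E6Datum
import Cfsg.Agent.Lib.Helper3.StB4
set_option autoImplicit false
set_option maxRecDepth 1000000
set_option Elab.async false

namespace Cfsg.Agent.Lib.Helper3.ChevM
open Cfsg.Agent.Lib.Helper3.StB

theorem e6Theta_0_0 : allRange 0 6 ((fun r => thetaCheck cdE6 r)) = true := by decide +kernel
theorem e6Theta_0_6 : allRange 6 12 ((fun r => thetaCheck cdE6 r)) = true := by decide +kernel
theorem e6Theta_0_12 : allRange 12 18 ((fun r => thetaCheck cdE6 r)) = true := by decide +kernel
theorem e6Theta_0_18 : allRange 18 24 ((fun r => thetaCheck cdE6 r)) = true := by decide +kernel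
theorem e6Theta_0_24 : allRange 24 30 ((fun r => thetaCheck cdE6 r)) = true := by decide +kernel
theorem e6Theta_0_30 : allRange 30 36 ((fun r => thetaCheck cdE6 r)) = true := by decide +kernel
theorem e6Theta_0_36 : allRange 36 42 ((fun r => thetaCheck cdE6 r)) = true := by decide +kernel
theorem e6Theta_0_42 : allRange 42 48 ((fun r => thetaCheck cdE6 r)) = true := by decide +kernel
theorem e6Theta_0_48 : allRange 48 54 ((fun r => thetaCheck cdE6 r)) = true := by decide +kernel
theorem e6Theta_0_54 : allRange 54 60 ((fun r => thetaCheck cdE6 r)) = true := by decide +kernel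
theorem e6Theta_0_60 : allRange 60 66 ((fun r => thetaCheck cdE6 r)) = true := by decide +kernel
theorem e6Theta_0_66 : allRange 66 72 ((fun r => thetaCheck cdE6 r)) = true := by decide +kernel

/-- The permutation matrix exchanging opposite roots of type E6 conjugates root elements to root elements (roots 0 to 71). -/
theorem e6Theta_0 : ∀ r, 0 ≤ r → r < 72 → ((fun r => thetaCheck cdE6 r)) r = true := by
  intro r h1 h2
  by_cases c0 : r < 6
  · exact allRange_spec e6Theta_0_0 r (by omega) c0
  by_cases c1 : r < 12
  · exact allRange_spec e6Theta_0_6 r (by omega) c1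
  by_cases c2 : r < 18
  · exact allRange_spec e6Theta_0_12 r (by omega) c2
  by_cases c3 : r < 24
  · exact allRange_spec e6Theta_0_18 r (by omega) c3
  by_cases c4 : r < 30
  · exact allRange_spec e6Theta_0_24 r (by omega) c4
  by_cases c5 : r < 36
  · exact allRange_spec e6Theta_0_30 r (by omega) c5
  by_cases c6 : r < 42
  · exact allRange_spec e6Theta_0_36 r (by omega) c6
  by_cases c7 : r < 48
  · exact allRange_spec e6Theta_0_42 r (by omega) c7
  by_cases c8 : r < 54
  · exact allRange_spec e6Theta_0_48 r (by omega) c8
  by_cases c9 : r < 60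
  · exact allRange_spec e6Theta_0_54 r (by omega) c9
  by_cases c10 : r < 66
  · exact allRange_spec e6Theta_0_60 r (by omega) c10
  exact allRange_spec e6Theta_0_66 r (by omega) h2

end Cfsg.Agent.Lib.Helper3.ChevM
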