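import Cfsg.Agent.Lib.Helper3.ChevData.E6GraphA
import Cfsg.Agent.Lib.Helper3.ChevData.E6UHyp
import Cfsg.Agent.Lib.Helper3.ChevData.E6Bn
import Cfsg.Agent.Lib.Helper3.ChevData.E6Sign
import Cfsg.Agent.Lib.Helper3.ChevTw10
set_option autoImplicit false
set_option maxRecDepth 1000000

namespace Cfsg.Agent.Lib.Helper3.ChevM

/-- The classes of fundamental roots of the twisted group of type E6 (A). -/
def twClsE6A : List (List ℕ) := [[1], [3], [0, 5], [2, 4]]

/-- The classes of positive roots. -/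
def twCLE6A : List (List ℕ) := [[36, 56], [37, 42], [38, 57], [39], [40, 43], [41, 58], [44], [45, 59], [46], [47], [48, 50], [49, 61], [51], [52, 62], [53], [54, 64], [55, 67], [60], [63], [65], [66, 68], [69], [70], [71]]

/-- Representatives of the classes of positive roots. -/
def twIsRepE6A (r : ℕ) : Bool := ((#[false, false, false, false, false, false, false, false, false, false, false, false, false, false, false, false, false, false, false, false, false, false, false, false, false, false, false, false, false, false, false, false, false, false, false, false, true, true, true, true, true, true, false, false, true, true, true, true, true, true, false, true, true, true, true, true, false, false, false, false, true, false, false, true, false, true, true, false, false, true, true, true] : Array Bool)).getD r false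

/-- The lengths of the classes. -/
def twMlenE6A (r : ℕ) : ℕ := ((#[0, 0, 0, 0, 0, 0, 0, 0, 0, 0, 0, 0, 0, 0, 0, 0, 0, 0, 0, 0, 0, 0, 0, 0, 0, 0, 0, 0, 0, 0, 0, 0, 0, 0, 0, 0, 2, 2, 2, 1, 2, 2, 0, 0, 1, 2, 1, 1, 2, 2, 0, 1, 2, 1, 2, 2, 0, 0, 0, 0, 1, 0, 0, 1, 0, 1, 2, 0, 0, 1, 1, 1] : Array ℕ)).getD r 0

/-- The representative of the class of a root. -/
def twRepE6A (r : ℕ) : ℕ := ((#[0, 0, 0, 0, 0, 0, 0, 0, 0, 0, 0, 0, 0, 0, 0, 0, 0, 0, 0, 0, 0, 0, 0, 0, 0, 0, 0, 0, 0, 0, 0, 0, 0, 0, 0, 0, 36, 37, 38, 39, 40, 41, 37, 40, 44, 45, 46, 47, 48, 49, 48, 51, 52, 53, 54, 55, 36, 38, 41, 45, 60, 49, 52, 63, 54, 65, 66, 55, 66, 69, 70, 71] : Array ℕ)).getD r 0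

/-- The position of a root in its class. -/
def twKkE6A (r : ℕ) : ℕ := ((#[0, 0, 0, 0, 0, 0, 0, 0, 0, 0, 0, 0, 0, 0, 0, 0, 0, 0, 0, 0, 0, 0, 0, 0, 0, 0, 0, 0, 0, 0, 0, 0, 0, 0, 0, 0, 0, 0, 0, 0, 0, 0, 1, 1, 0, 0, 0, 0, 0, 0, 1, 0, 0, 0, 0, 0, 1, 1, 1, 1, 0, 1, 1, 0, 1, 0, 0, 1, 1, 0, 0, 0] : Array ℕ)).getD r 0

/-- The accumulated sign of a root in its class. -/
def twEeE6A (r : ℕ) : ℤ := ((#[1, 1, 1, 1, 1, 1, 1, 1, 1, 1, 1, 1, 1, 1, 1, 1, 1, 1, 1, 1, 1, 1, 1, 1, 1, 1, 1, 1, 1, 1, 1, 1, 1, 1, 1, 1, 1, 1, 1, 1, 1, 1, 1, -1, 1, 1, 1, 1, 1, 1, 1, 1, 1, 1, 1, 1, 1, -1, 1, -1, 1, -1, -1, 1, -1, 1, 1, -1, 1, 1, 1, 1] : Array ℤ)).getD r 0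

/-- The chain of classes. -/
def twChainE6A : List (List ℕ × ℕ × ℕ) := [([46], 0, 0), ([39], 1, 1), ([56, 36], 2, 2), ([42, 37], 3, 3), ([36, 56], 4, 2), ([37, 42], 4, 3), ([38, 57], 2, 5), ([40, 43], 1, 5), ([41, 58], 1, 6), ([44], 3, 1), ([45, 59], 3, 8), ([47], 0, 1), ([48, 50], 0, 7), ([49, 61], 0, 8), ([51], 0, 9), ([52, 62], 0, 10), ([53], 1, 14), ([54, 64], 1, 15), ([55, 67], 3, 17), ([60], 2, 9), ([63], 0, 19), ([65], 1, 20), ([66, 68], 2, 18), ([69], 3, 21), ([70], 1, 23), ([71], 0, 24)]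

/-- The class tables of the twisted group of type E6 (A). -/
def twRepDataE6A : TwRep cdE6.D graphE6A.rhoInv graphE6A.eps 2 where
  isRep := twIsRepE6A
  mlen := twMlenE6A
  rep := twRepE6A
  kk := twKkE6A
  ee := twEeE6A
  chk := by decide +kernel

/-- The data of the twisted group of type E6 (A). -/
def twE6A : TwHyp cdE6 relE6 where
  U := uhypE6
  B := bnE6
  G := graphE6A
  sign := e6Sign
  len := by decide +kernel
  tab := by decide +kernel
  rf := by decide +kernel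
  cls := twClsE6A
  clsOk := by decide +kernel
  shape := by decide +kernel
  CL := twCLE6A
  clOk := by decide +kernel
  d := 2
  T := twRepDataE6A
  sum := by decide +kernel
  chain := twChainE6A
  chainOk := by decide +kernel

end Cfsg.Agent.Lib.Helper3.ChevM
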