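import Cfsg.Agent.Lib.Helper3.ChevData.E6TwGrp
import Cfsg.Agent.Lib.Helper3.ChevData.E6NegTri
import Cfsg.Agent.Lib.Helper3.ChevTw13
set_option autoImplicit false
set_option maxRecDepth 1000000
open Cfsg Cfsg.Lie

namespace Cfsg.Agent.Lib.Helper3.ChevM

/-- More data of the twisted group of type E6. -/
def twE6B : TwHyp2 cdE6 relE6 where
  toTwHyp := twE6A
  ntri := e6NegTri
  sub := by decide +kernel
  inj := by decide +kernel
  pos := by decide +kernel
  negc := by decide +kernel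

theorem twistedE6_eq' (K : Type*) [Field K] (q : ℕ) (φ : K →+* K) (hφ : ∀ t, φ t = t ^ q)
    (hφ2 : ∀ t, φ (φ t) = t) : Cfsg.Lie.twistedE6 K q = twE6B.grp φ :=
  twistedE6_eq K q φ hφ hφ2

end Cfsg.Agent.Lib.Helper3.ChevM
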