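import Cfsg.Agent.Lib.Helper3.ChevData.E6TwB
import Cfsg.Agent.Lib.Helper3.ChevData.E6Vec
import Cfsg.Agent.Lib.Helper3.ChevTw14
set_option autoImplicit false
set_option maxRecDepth 1000000
open Cfsg Cfsg.Lie

namespace Cfsg.Agent.Lib.Helper3.ChevM

/-- Still more data of the twisted group of type E6. -/
def twE6C : TwHyp3 cdE6 relE6 where
  toTwHyp2 := twE6B
  w0 := (List.replicate 6 twClsE6A).flatten
  w0cls := by decide +kernel
  opp := by decide +kernel
  vec := vecE6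
  hvec := of_pairRange (m := 6) (n := 72) e6Vec

theorem twistedE6_eq'' (K : Type*) [Field K] (q : ℕ) (φ : K →+* K) (hφ : ∀ t, φ t = t ^ q)
    (hφ2 : ∀ t, φ (φ t) = t) : Cfsg.Lie.twistedE6 K q = twE6C.grp φ :=
  twistedE6_eq K q φ hφ hφ2

end Cfsg.Agent.Lib.Helper3.ChevM
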