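import Cfsg.Agent.Lib.Helper3.ChevData.E6TwC
import Cfsg.Agent.Lib.Helper3.ChevTw16
set_option autoImplicit false
set_option maxRecDepth 1000000
open Cfsg Cfsg.Lie

namespace Cfsg.Agent.Lib.Helper3.ChevM

/-- First summands of the fixed fundamental roots. -/
def twFsE6 (r : ℕ) : ℕ := ((#[0, 0, 0, 0, 0, 0, 0, 0, 0, 0, 0, 0, 0, 0, 0, 0, 0, 0, 0, 0, 0, 0, 0, 0, 0, 0, 0, 0, 0, 0, 0, 0, 1, 0, 0, 0, 0, 0, 0, 2, 0, 0, 0, 0, 0, 0, 1, 0, 0, 0, 0, 0, 0, 0, 0, 0, 0, 0, 0, 0, 0, 0, 0, 0, 0, 0, 0, 0, 0, 0, 0, 0] : Array ℕ)).getD r 0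

/-- Second summands of the fixed fundamental roots. -/
def twFs2E6 (r : ℕ) : ℕ := ((#[0, 0, 0, 0, 0, 0, 0, 0, 0, 0, 0, 0, 0, 0, 0, 0, 0, 0, 0, 0, 0, 0, 0, 0, 0, 70, 0, 0, 0, 0, 0, 0, 69, 0, 0, 0, 0, 0, 0, 70, 0, 0, 0, 0, 0, 0, 71, 0, 0, 0, 0, 0, 0, 0, 0, 0, 0, 0, 0, 0, 0, 0, 0, 0, 0, 0, 0, 0, 0, 0, 0, 0] : Array ℕ)).getD r 0

/-- The data for the perfectness of the twisted group of type E6. -/
def twE6D : TwHyp4 cdE6 relE6 where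
  toTwHyp3 := twE6C
  tor := by decide +kernel
  fs := twFsE6
  fs' := twFs2E6
  perf := by decide +kernel

end Cfsg.Agent.Lib.Helper3.ChevM
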