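import Cfsg.Agent.Lib.Helper3.ChevData.E6TwA
import Cfsg.Prelude.Def_LieTwisted
set_option autoImplicit false
set_option maxRecDepth 1000000
open Cfsg Cfsg.Lie

namespace Cfsg.Agent.Lib.Helper3.ChevM

theorem e6_sgnRoot_vals :
    sgnRoot cdE6.D false 1 = e6p2 ∧ sgnRoot cdE6.D true 1 = e6m2 ∧ sgnRoot cdE6.D false 3 = e6p4 ∧
    sgnRoot cdE6.D true 3 = e6m4 ∧ sgnRoot cdE6.D false 0 = e6p1 ∧ sgnRoot cdE6.D false 5 = e6p6 ∧
    sgnRoot cdE6.D true 0 = e6m1 ∧ sgnRoot cdE6.D true 5 = e6m6 ∧ sgnRoot cdE6.D false 2 = e6p3 ∧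
    sgnRoot cdE6.D false 4 = e6p5 ∧ sgnRoot cdE6.D true 2 = e6m3 ∧ sgnRoot cdE6.D true 4 = e6m5 := by
  decide +kernel

/-- The twisted group of type E6 of the statements is the twisted group of the data. -/
theorem twistedE6_eq (K : Type*) [Field K] (q : ℕ) (φ : K →+* K) (hφ : ∀ t, φ t = t ^ q)
    (hφ2 : ∀ t, φ (φ t) = t) : Cfsg.Lie.twistedE6 K q = twE6A.grp φ := by
  obtain ⟨v1, v2, v3, v4, v5, v6, v7, v8, v9, v10, v11, v12⟩ := e6_sgnRoot_vals
  unfold Cfsg.Lie.twistedE6 ChevalleyDatum.genSubgroup TwHyp.grp RelData.twGroup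
  congr 1
  ext g
  simp only [Set.mem_setOf_eq, RelData.twGens]
  constructor
  · rintro ⟨w, hw, hg⟩
    have hg' : g = relE6.wordU w := Units.ext (by rw [hg, relE6.wordU_val]; rfl)
    rcases hw with ⟨t, ht, r, hr, rfl⟩ | ⟨t, rs, hrs, rfl⟩
    · simp only [List.mem_cons, List.not_mem_nil, or_false] at hr
      rcases hr with rfl | rfl | rfl | rfl
      · exact ⟨[1], by decide, false, t, by simpa [hφ] using ht, by rw [hg']; simp [clsWord, List.zipIdx, v1]⟩
      · exact ⟨[1], by decide, true, t, by simpa [hφ] using ht, by rw [hg']; simp [clsWord, List.zipIdx, v2]⟩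
      · exact ⟨[3], by decide, false, t, by simpa [hφ] using ht, by rw [hg']; simp [clsWord, List.zipIdx, v3]⟩
      · exact ⟨[3], by decide, true, t, by simpa [hφ] using ht, by rw [hg']; simp [clsWord, List.zipIdx, v4]⟩
    · simp only [List.mem_cons, List.not_mem_nil, or_false] at hrs
      rcases hrs with rfl | rfl | rfl | rfl
      · exact ⟨[0, 5], by decide, false, t, hφ2 t, by rw [hg']; simp [clsWord, List.zipIdx, v5, v6, hφ]⟩
      · exact ⟨[0, 5], by decide, true, t, hφ2 t, by rw [hg']; simp [clsWord, List.zipIdx, v7, v8, hφ]⟩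
      · exact ⟨[2, 4], by decide, false, t, hφ2 t, by rw [hg']; simp [clsWord, List.zipIdx, v9, v10, hφ]⟩
      · exact ⟨[2, 4], by decide, true, t, hφ2 t, by rw [hg']; simp [clsWord, List.zipIdx, v11, v12, hφ]⟩
  · rintro ⟨J, hJ, neg, t, ht, rfl⟩
    have hJ' : J = [1] ∨ J = [3] ∨ J = [0, 5] ∨ J = [2, 4] := by
      simpa [twE6A, twClsE6A] using hJ
    rcases hJ' with rfl | rfl | rfl | rfl
    · have ht' : t ^ q = t := by simpa [hφ] using ht
      cases neg
      · exact ⟨[(e6p2, t)], Or.inl ⟨t, ht', e6p2, by simp, rfl⟩, by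
          rw [relE6.wordU_val]; simp [clsWord, List.zipIdx, v1]; rfl⟩
      · exact ⟨[(e6m2, t)], Or.inl ⟨t, ht', e6m2, by simp, rfl⟩, by
          rw [relE6.wordU_val]; simp [clsWord, List.zipIdx, v2]; rfl⟩
    · have ht' : t ^ q = t := by simpa [hφ] using ht
      cases neg
      · exact ⟨[(e6p4, t)], Or.inl ⟨t, ht', e6p4, by simp, rfl⟩, by
          rw [relE6.wordU_val]; simp [clsWord, List.zipIdx, v3]; rfl⟩
      · exact ⟨[(e6m4, t)], Or.inl ⟨t, ht', e6m4, by simp, rfl⟩, by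
          rw [relE6.wordU_val]; simp [clsWord, List.zipIdx, v4]; rfl⟩
    · cases neg
      · exact ⟨[(e6p1, t), (e6p6, t ^ q)], Or.inr ⟨t, (e6p1, e6p6), by simp, rfl⟩, by
          rw [relE6.wordU_val]; simp [clsWord, List.zipIdx, v5, v6, hφ]; rfl⟩
      · exact ⟨[(e6m1, t), (e6m6, t ^ q)], Or.inr ⟨t, (e6m1, e6m6), by simp, rfl⟩, by
          rw [relE6.wordU_val]; simp [clsWord, List.zipIdx, v7, v8, hφ]; rfl⟩
    · cases neg
      · exact ⟨[(e6p3, t), (e6p5, t ^ q)], Or.inr ⟨t, (e6p3, e6p5), by simp, rfl⟩, by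
          rw [relE6.wordU_val]; simp [clsWord, List.zipIdx, v9, v10, hφ]; rfl⟩
      · exact ⟨[(e6m3, t), (e6m5, t ^ q)], Or.inr ⟨t, (e6m3, e6m5), by simp, rfl⟩, by
          rw [relE6.wordU_val]; simp [clsWord, List.zipIdx, v11, v12, hφ]; rfl⟩

end Cfsg.Agent.Lib.Helper3.ChevM
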