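import Cfsg.Agent.Lib.Helper3.ChevData.E6TwF
import Cfsg.Agent.Lib.Helper3.ChevData.E6TwGrp
import Cfsg.Agent.Lib.Helper3.TwGen5
set_option autoImplicit false
set_option maxRecDepth 1000000
open Cfsg Cfsg.Lie

/-! Two generators for the twisted groups of type E6. -/

namespace Cfsg.Agent.Lib.Helper3.ChevM

open ChevU ChevT ChevH Cfsg.Agent.Lib.Helper3.ChevAut Cfsg.Agent.Lib.Helper3.ChevGen2

/-- The exponents of the two conjugates of the generator in the torus element. -/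
def e6TwLam (m : ℕ) (i : ℕ) : ℤ := if i = ([2, 4] : List ℕ).getD m 6 then 1 else 0

theorem e6_tw_orb :
    twOrbCheck cdE6.D relE6.refl twE6F.cls [1, 3, 2, 4, 0, 5] (([0, 5] : List ℕ).map cdE6.D.simple)
      (cdE6.D.simple 3) 12 = true := by
  decide +kernel

theorem e6_tw_expo :
    (tgExpo cdE6.D (e6TwLam 0) 46 = 0 ∧ tgExpo cdE6.D (e6TwLam 1) 46 = 0) ∧
    (tgExpo cdE6.D (e6TwLam 0) (cdE6.D.simple (([0, 5] : List ℕ).headD 0)) = -1 ∧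
      tgExpo cdE6.D (e6TwLam 1) (cdE6.D.simple (([0, 5] : List ℕ).headD 0)) = 0) ∧
    (tgExpo cdE6.D (e6TwLam 0) (reflW relE6.refl ([[1], [3], [2, 4], [0, 5]] : List (List ℕ)).flatten
        (cdE6.D.simple (([0, 5] : List ℕ).headD 0))) = 0 ∧
      tgExpo cdE6.D (e6TwLam 1) (reflW relE6.refl ([[1], [3], [2, 4], [0, 5]] : List (List ℕ)).flatten
        (cdE6.D.simple (([0, 5] : List ℕ).headD 0))) = 1) ∧
    (tgExpo cdE6.D (e6TwLam 0) (cdE6.D.simple 3) = -1 ∧ tgExpo cdE6.D (e6TwLam 1) (cdE6.D.simple 3) = -1) := by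
  decide +kernel

theorem e6_tw_misc :
    (∀ J ∈ ([[1], [3], [2, 4], [0, 5]] : List (List ℕ)), J ∈ twE6F.cls) ∧ ([0, 5] : List ℕ) ∈ twE6F.cls ∧
    ([3] : List ℕ) ∈ twE6F.cls ∧ 46 < cdE6.D.nroots ∧ twE6F.G.rho 46 = 46 ∧ twE6F.G.eps 46 = 1 ∧
    (reflW relE6.refl ([[1], [3], [2, 4], [0, 5]] : List (List ℕ)).flatten)^[1] 46 = cdE6.D.simple 3 := by
  decide +kernel

/-- The twisted groups of type E6 are generated by two elements. -/
theorem e6_tw_two_gen {K : Type*} [Field K] [Fintype K] (q : ℕ) (hq : 2 ≤ q) (hK : Fintype.card K = q ^ 2)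
    (φ : K →+* K) (hφ : ∀ t, φ t = t ^ q) (hφd : ∀ t, φ^[2] t = t) :
    ∃ a b : ↥(twE6F.grp φ), Subgroup.closure ({a, b} : Set ↥(twE6F.grp φ)) = ⊤ := by
  obtain ⟨ζ, hζ⟩ := IsCyclic.exists_generator (α := Kˣ)
  set Φ : Kˣ →* Kˣ := Units.map φ.toMonoidHom with hΦ
  have hΦpow : ∀ x : Kˣ, Φ x = x ^ q := fun x => Units.ext (hφ x)
  have hΦ2 : Φ (Φ ζ) = ζ := Units.ext (hφd ζ)
  have hord : orderOf ζ = q ^ 2 - 1 := by rw [orderOf_generator ζ hζ, hK]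
  have hq2 : 4 ≤ q ^ 2 := by nlinarith [hq]
  have hζ1 : ζ ≠ 1 := by
    intro h
    rw [h, orderOf_one] at hord
    omega
  set c : Fin cdE6.D.rank → Kˣ := (fun i => ζ ^ e6TwLam 0 i.val) * (fun i => (Φ ζ) ^ e6TwLam 1 i.val) with hcdef
  have hrc : ∀ s (hs : s < cdE6.D.nroots), rootChar cdE6.D K c ⟨s, hs⟩ =
      ζ ^ tgExpo cdE6.D (e6TwLam 0) s * (Φ ζ) ^ tgExpo cdE6.D (e6TwLam 1) s := by
    intro s hs
    rw [hcdef, map_mul]
    simp only [Pi.mul_apply]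
    rw [rootChar_zpow, rootChar_zpow]
  obtain ⟨⟨r0, r1⟩, ⟨a0, a1⟩, ⟨b0, b1⟩, ⟨d0, d1⟩⟩ := e6_tw_expo
  obtain ⟨m1, m2, m3, m4, m5, m6, m7⟩ := e6_tw_misc
  have hc : twE6F.G.sigT φ c = c := by
    have hpinv : ∀ j : Fin cdE6.D.rank, (twE6F.G.pInvF j).val = ([5, 1, 4, 3, 2, 0] : List ℕ).getD j.val 0 :=
      e6_pInvF'
    have hcval : ∀ j : Fin cdE6.D.rank, c j = ζ ^ e6TwLam 0 j.val * (Φ ζ) ^ e6TwLam 1 j.val := fun j => rfl
    funext j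
    show Φ (c (twE6F.G.pInvF j)) = c j
    rw [hcval, hcval, hpinv]
    obtain ⟨j, hj⟩ := j
    have hj6 : j < 6 := hj
    interval_cases j <;> simp [e6TwLam, hΦ2]
  have hμne : ζ ^ (-1 : ℤ) ≠ 1 := by
    intro h
    apply hζ1
    rw [zpow_neg, zpow_one, inv_eq_one] at h
    exact h
  have hνne : Φ ζ ≠ 1 := by
    intro h
    apply hζ1
    rw [← hΦ2, h, map_one]
  refine twE6F.two_gen φ [[1], [3], [2, 4], [0, 5]] m1 [0, 5] m2 3 m3 46 m4 m5 m6 c hc ?_ (ζ ^ (-1 : ℤ))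
    (Φ ζ) ((ζ ^ (∑ i ∈ Finset.range 2, q ^ i))⁻¹) ?_ ?_ ?_ hμne hνne ?_ ?_ 1 m7 ?_
  · rw [hrc, r0, r1]
    simp
  · intro hs
    rw [hrc, a0, a1]
    simp
  · intro hs
    rw [hrc, b0, b1]
    simp
  · intro hs
    rw [hrc, d0, d1, hΦpow ζ]
    simp only [Finset.sum_range_succ, Finset.sum_range_zero, zero_add, pow_zero, pow_one, zpow_neg, zpow_one]
    rw [pow_add, pow_one]
    simp only [mul_inv, mul_assoc]
  · intro S hS ⟨x0, hx0S, hx0⟩ x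
    exact addSubgroup_eq_top S ζ hζ (-1) (by simp) hS x0 hx0 hx0S x
  · intro x hx0 hx
    obtain ⟨k, hk⟩ := exists_zpow_of_fixed ζ hζ q 2 hq hK x hx0 (by rw [← hφ]; exact hx)
    refine ⟨-k, ?_⟩
    rw [inv_zpow, zpow_neg, inv_inv]
    exact hk
  · intro J hJ neg
    exact twOrbCheck_spec e6_tw_orb J hJ neg

end Cfsg.Agent.Lib.Helper3.ChevM
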