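import Cfsg.Prelude.Def_ChevE6
set_option autoImplicit false
set_option maxRecDepth 1000000

namespace Cfsg.Agent.Lib.Helper3.ChevM

/-- Coset representatives of step 0 of the chain of class reflections, type E6. -/
def dlcE60 : List (List (List ℕ)) := [[], [[1]]]

/-- The left multiplication table of these representatives. -/
def nxtcE60 (a i : ℕ) : ℕ := ((#[#[1], #[0]] : Array (Array ℕ)).getD a #[]).getD i 0

/-- Coset representatives of step 1 of the chain of class reflections, type E6. -/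
def dlcE61 : List (List (List ℕ)) := [[], [[3]], [[1], [3]]]

/-- The left multiplication table of these representatives. -/
def nxtcE61 (a i : ℕ) : ℕ := ((#[#[1, 3], #[0, 2], #[3, 1]] : Array (Array ℕ)).getD a #[]).getD i 0

/-- Coset representatives of step 2 of the chain of class reflections, type E6. -/
def dlcE62 : List (List (List ℕ)) := [[], [[2, 4]], [[3], [2, 4]], [[2, 4], [3], [2, 4]], [[1], [3], [2, 4]], [[1], [2, 4], [3], [2, 4]], [[3], [1], [2, 4], [3], [2, 4]], [[2, 4], [3], [1], [2, 4], [3], [2, 4]]]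

/-- The left multiplication table of these representatives. -/
def nxtcE62 (a i : ℕ) : ℕ := ((#[#[1, 8, 9], #[0, 2, 9], #[3, 1, 4], #[2, 8, 5], #[5, 9, 2], #[4, 6, 3], #[7, 5, 8], #[6, 9, 8]] : Array (Array ℕ)).getD a #[]).getD i 0

/-- Coset representatives of step 3 of the chain of class reflections, type E6. -/
def dlcE63 : List (List (List ℕ)) := [[], [[0, 5]], [[2, 4], [0, 5]], [[3], [2, 4], [0, 5]], [[2, 4], [3], [2, 4], [0, 5]], [[1], [3], [2, 4], [0, 5]], [[0, 5], [2, 4], [3], [2, 4], [0, 5]], [[1], [2, 4], [3], [2, 4], [0, 5]], [[1], [0, 5], [2, 4], [3], [2, 4], [0, 5]], [[3], [1], [2, 4], [3], [2, 4], [0, 5]], [[3], [1], [0, 5], [2, 4], [3], [2, 4], [0, 5]], [[2, 4], [3], [1], [2, 4], [3], [2, 4], [0, 5]], [[2, 4], [3], [1], [0, 5], [2, 4], [3], [2, 4], [0, 5]], [[0, 5], [2, 4], [3], [1], [2, 4], [3], [2, 4], [0, 5]], [[0, 5], [2, 4], [3], [1], [0, 5], [2, 4], [3], [2, 4], [0, 5]], [[3], [2, 4], [3], [1], [0, 5],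 [2, 4], [3], [2, 4], [0, 5]], [[3], [0, 5], [2, 4], [3], [1], [0, 5], [2, 4], [3], [2, 4], [0, 5]], [[1], [3], [2, 4], [3], [1], [0, 5], [2, 4], [3], [2, 4], [0, 5]], [[2, 4], [3], [0, 5], [2, 4], [3], [1], [0, 5], [2, 4], [3], [2, 4], [0, 5]], [[1], [3], [0, 5], [2, 4], [3], [1], [0, 5], [2, 4], [3], [2, 4], [0, 5]], [[1], [2, 4], [3], [0, 5], [2, 4], [3], [1], [0, 5], [2, 4], [3], [2, 4], [0, 5]], [[3], [1], [2, 4], [3], [0, 5], [2, 4], [3], [1], [0, 5], [2, 4], [3], [2, 4], [0, 5]], [[2, 4], [3], [1], [2, 4], [3], [0, 5], [2, 4], [3], [1], [0, 5], [2, 4], [3], [2, 4], [0, 5]], [[0, 5], [2, 4], [3], [1], [2, 4], [3], [0, 5], [2, 4], [3], [1], [0, 5], [2, 4], [3], [2, 4], [0, 5]]]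

/-- The left multiplication table of these representatives. -/
def nxtcE63 (a i : ℕ) : ℕ := ((#[#[1, 24, 25, 26], #[0, 2, 25, 26], #[24, 1, 3, 26], #[24, 4, 2, 5], #[6, 3, 25, 7], #[24, 7, 26, 3], #[4, 24, 25, 8], #[8, 5, 9, 4], #[7, 24, 10, 6], #[10, 11, 7, 25], #[9, 12, 8, 25], #[13, 9, 26, 25], #[14, 10, 15, 25], #[11, 14, 26, 25], #[12, 13, 16, 25], #[16, 24, 12, 17], #[15, 18, 14, 19], #[19, 24, 25, 15], #[24, 16, 26, 20], #[17, 20, 25, 16], #[24, 19, 21, 18], #[24, 22, 20, 26], #[23, 21, 25, 26], #[22, 24, 25, 26]] : Array (Array ℕ)).getD a #[]).getD i 0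

end Cfsg.Agent.Lib.Helper3.ChevM
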