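import Cfsg.Agent.Lib.Helper3.ChevData.E6Mono
import Cfsg.Agent.Lib.Helper3.ChevData.E6Hdec
import Cfsg.Agent.Lib.Helper3.ChevData.E6Sign
import Cfsg.Agent.Lib.Helper3.ChevData.E6TwOrdTab
import Cfsg.Agent.Lib.Helper3.ChevTw23
set_option autoImplicit false
set_option maxRecDepth 1000000

namespace Cfsg.Agent.Lib.Helper3.ChevM

theorem e6TwOs1 : ∀ r < 72, suppCheckL Cfsg.Lie.chevE6 reflE6 ([[1]] : List (List ℕ)).flatten r = true := by decide +kernel

theorem e6TwOr1 : ∀ a < 3, repCheckC Cfsg.Lie.chevE6 reflE6 ([[1]] : List (List ℕ)).flatten ([3] :: [[1]]) dlcE61 a = true := by decide +kernel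

theorem e6TwOt1 : ∀ a < 3, ∀ i < 2, stepCheckC Cfsg.Lie.chevE6 reflE6 [[1]] [3] dlcE61 nxtcE61 a i = true := by decide +kernel

theorem e6TwOd1 : distinctCheckC Cfsg.Lie.chevE6 reflE6 dlcE61 = true := by decide +kernel

theorem e6TwOn1 : dlcE61.map (fun d => Nw Cfsg.Lie.chevE6 reflE6 d.flatten) = [0, 1, 2] := by decide +kernel

/-- Step 1 of the factorisation of the Poincaré sum of the class reflections of type E6. -/
theorem e6TwPoin1 (q : ℕ) : poinC cdE6.D relE6.refl ([3] :: [[1]]) q =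
    ([0, 1, 2].map fun e => q ^ e).sum * poinC cdE6.D relE6.refl [[1]] q := by
  have h := monoE6.poin_stepC (of_pairRange (m := 72) (n := 72) e6Hdec) e6Sign [[1]] [3] (by decide)
    e6TwOs1 dlcE61 e6TwOr1 nxtcE61 (by decide +kernel) e6TwOt1 e6TwOd1 q
  have e : (dlcE61.map fun d => q ^ Nw cdE6.D relE6.refl d.flatten) = (dlcE61.map (fun d => Nw Cfsg.Lie.chevE6 reflE6 d.flatten)).map fun e => q ^ e := by
    rw [List.map_map]; rfl
  rw [h, e, e6TwOn1]

end Cfsg.Agent.Lib.Helper3.ChevM
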