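import Cfsg.Agent.Lib.Helper3.ChevData.E6Mono
import Cfsg.Agent.Lib.Helper3.ChevData.E6Hdec
import Cfsg.Agent.Lib.Helper3.ChevData.E6Sign
import Cfsg.Agent.Lib.Helper3.ChevData.E6TwOrdTab
import Cfsg.Agent.Lib.Helper3.ChevTw23
set_option autoImplicit false
set_option maxRecDepth 1000000

namespace Cfsg.Agent.Lib.Helper3.ChevM

theorem e6TwOs2 : ∀ r < 72, suppCheckL Cfsg.Lie.chevE6 reflE6 ([[3], [1]] : List (List ℕ)).flatten r = true := by decide +kernel

theorem e6TwOr2 : ∀ a < 8, repCheckC Cfsg.Lie.chevE6 reflE6 ([[3], [1]] : List (List ℕ)).flatten ([2, 4] :: [[3], [1]]) dlcE62 a = true := by decide +kernel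

theorem e6TwOt2 : ∀ a < 8, ∀ i < 3, stepCheckC Cfsg.Lie.chevE6 reflE6 [[3], [1]] [2, 4] dlcE62 nxtcE62 a i = true := by decide +kernel

theorem e6TwOd2 : distinctCheckC Cfsg.Lie.chevE6 reflE6 dlcE62 = true := by decide +kernel

theorem e6TwOn2 : dlcE62.map (fun d => Nw Cfsg.Lie.chevE6 reflE6 d.flatten) = [0, 2, 3, 5, 4, 6, 7, 9] := by decide +kernel

/-- Step 2 of the factorisation of the Poincaré sum of the class reflections of type E6. -/
theorem e6TwPoin2 (q : ℕ) : poinC cdE6.D relE6.refl ([2, 4] :: [[3], [1]]) q =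
    ([0, 2, 3, 5, 4, 6, 7, 9].map fun e => q ^ e).sum * poinC cdE6.D relE6.refl [[3], [1]] q := by
  have h := monoE6.poin_stepC (of_pairRange (m := 72) (n := 72) e6Hdec) e6Sign [[3], [1]] [2, 4] (by decide)
    e6TwOs2 dlcE62 e6TwOr2 nxtcE62 (by decide +kernel) e6TwOt2 e6TwOd2 q
  have e : (dlcE62.map fun d => q ^ Nw cdE6.D relE6.refl d.flatten) = (dlcE62.map (fun d => Nw Cfsg.Lie.chevE6 reflE6 d.flatten)).map fun e => q ^ e := by
    rw [List.map_map]; rfl
  rw [h, e, e6TwOn2]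

end Cfsg.Agent.Lib.Helper3.ChevM
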