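import Cfsg.Agent.Lib.Helper3.ChevData.E6Mono
import Cfsg.Agent.Lib.Helper3.ChevData.E6Hdec
import Cfsg.Agent.Lib.Helper3.ChevData.E6Sign
import Cfsg.Agent.Lib.Helper3.ChevData.E6TwOrdTab
import Cfsg.Agent.Lib.Helper3.ChevTw23
set_option autoImplicit false
set_option maxRecDepth 1000000

namespace Cfsg.Agent.Lib.Helper3.ChevM

theorem e6TwOs3 : ∀ r < 72, suppCheckL Cfsg.Lie.chevE6 reflE6 ([[2, 4], [3], [1]] : List (List ℕ)).flatten r = true := by decide +kernel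

theorem e6TwOr3 : ∀ a < 24, repCheckC Cfsg.Lie.chevE6 reflE6 ([[2, 4], [3], [1]] : List (List ℕ)).flatten ([0, 5] :: [[2, 4], [3], [1]]) dlcE63 a = true := by decide +kernel

theorem e6TwOt3 : ∀ a < 24, ∀ i < 4, stepCheckC Cfsg.Lie.chevE6 reflE6 [[2, 4], [3], [1]] [0, 5] dlcE63 nxtcE63 a i = true := by decide +kernel

theorem e6TwOd3 : distinctCheckC Cfsg.Lie.chevE6 reflE6 dlcE63 = true := by decide +kernel

theorem e6TwOn3 : dlcE63.map (fun d => Nw Cfsg.Lie.chevE6 reflE6 d.flatten) = [0, 2, 4, 5, 7, 6, 9, 8, 10, 9, 11, 11, 13, 13, 15, 14, 16, 15, 18, 17, 19, 20, 22, 24] := by decide +kernel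

/-- Step 3 of the factorisation of the Poincaré sum of the class reflections of type E6. -/
theorem e6TwPoin3 (q : ℕ) : poinC cdE6.D relE6.refl ([0, 5] :: [[2, 4], [3], [1]]) q =
    ([0, 2, 4, 5, 7, 6, 9, 8, 10, 9, 11, 11, 13, 13, 15, 14, 16, 15, 18, 17, 19, 20, 22, 24].map fun e => q ^ e).sum * poinC cdE6.D relE6.refl [[2, 4], [3], [1]] q := by
  have h := monoE6.poin_stepC (of_pairRange (m := 72) (n := 72) e6Hdec) e6Sign [[2, 4], [3], [1]] [0, 5] (by decide)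
    e6TwOs3 dlcE63 e6TwOr3 nxtcE63 (by decide +kernel) e6TwOt3 e6TwOd3 q
  have e : (dlcE63.map fun d => q ^ Nw cdE6.D relE6.refl d.flatten) = (dlcE63.map (fun d => Nw Cfsg.Lie.chevE6 reflE6 d.flatten)).map fun e => q ^ e := by
    rw [List.map_map]; rfl
  rw [h, e, e6TwOn3]

end Cfsg.Agent.Lib.Helper3.ChevM
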