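import Cfsg.Agent.Lib.Helper3.ChevData.E6TwOrd0
import Cfsg.Agent.Lib.Helper3.ChevData.E6TwOrd1
import Cfsg.Agent.Lib.Helper3.ChevData.E6TwOrd2
import Cfsg.Agent.Lib.Helper3.ChevData.E6TwOrd3
set_option autoImplicit false
set_option maxRecDepth 1000000

namespace Cfsg.Agent.Lib.Helper3.ChevM

/-- The Poincaré sum of the group generated by the class reflections of type E6. -/
theorem e6TwPoin (q : ℕ) : poinC cdE6.D relE6.refl [[1], [3], [0, 5], [2, 4]] q =
    ([0, 2, 4, 5, 7, 6, 9, 8, 10, 9, 11, 11, 13, 13, 15, 14, 16, 15, 18, 17, 19, 20, 22, 24].map fun e => q ^ e).sum *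
    ([0, 2, 3, 5, 4, 6, 7, 9].map fun e => q ^ e).sum *
    ([0, 1, 2].map fun e => q ^ e).sum *
    ([0, 1].map fun e => q ^ e).sum := by
  rw [poinC_congr cdE6.D relE6.refl [[1], [3], [0, 5], [2, 4]] [[0, 5], [2, 4], [3], [1]] (by intro J; simp; tauto)]
  rw [e6TwPoin3, e6TwPoin2, e6TwPoin1, e6TwPoin0, poinC_nil _ _ e6Sign]
  ring

end Cfsg.Agent.Lib.Helper3.ChevM
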