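import Cfsg.Agent.Lib.Helper3.ChevData.E6TwF
import Cfsg.Agent.Lib.Helper3.ChevData.E6TwPoin
set_option autoImplicit false
set_option maxRecDepth 1000000
open Cfsg Cfsg.Lie

namespace Cfsg.Agent.Lib.Helper3.ChevM

theorem e6TwFib : twFiberCheck cdE6.D twE6G.T.isRep twE6G.T.mlen twE6G.T.rep = true := by decide +kernel

/-- The order of the twisted group of type E6 as a product. -/
theorem e6_tw_card {K : Type*} [Field K] [Fintype K] (φ : K →+* K) (q : ℕ) (hφ : ∀ t, φ t = t ^ q)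
    (hφ1 : Nat.card {x : K // φ x = x} = q) (hφd : ∀ x : K, φ^[2] x = x) (hK : Fintype.card K = q ^ 2) :
    Nat.gcd 3 (q + 1) * Nat.card ↥(twE6C.grp φ) =
      q ^ 36 * ((q - 1) ^ 4 * (q + 1) ^ 2) *
      (([0, 2, 4, 5, 7, 6, 9, 8, 10, 9, 11, 11, 13, 13, 15, 14, 16, 15, 18, 17, 19, 20, 22, 24].map fun e => q ^ e).sum *
        ([0, 2, 3, 5, 4, 6, 7, 9].map fun e => q ^ e).sum *
        ([0, 1, 2].map fun e => q ^ e).sum *
        ([0, 1].map fun e => q ^ e).sum) := by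
  have hKc : Nat.card K = q ^ 2 := by rw [Nat.card_eq_fintype_card, hK]
  have h1 : Nat.card ↥(twE6C.grp φ) =
      Nat.card ↥(cdE6.D.posUnipotent K ⊓ twE6C.grp φ) * Nat.card ↥(cdE6.D.diagonalSubgroup K ⊓ twE6C.grp φ) *
        poinC cdE6.D relE6.refl twClsE6A q := twE6G.card_grp φ e6TwFib q hφ1 hφd hKc
  have h2 : Nat.card ↥(cdE6.D.posUnipotent K ⊓ twE6C.grp φ) = q ^ 36 :=
    twE6A.card_posUnipotent_inf φ q hφ1 hφd hKc
  have h3 : Nat.gcd 3 (q + 1) * Nat.card ↥(cdE6.D.diagonalSubgroup K ⊓ twE6C.grp φ) =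
      (twE6G.cls.map fun J => q ^ J.length - 1).prod := by
    have key := twE6G.card_diagonal_inf' φ q hφ1 hφd hKc
    rw [e6_card_kerFix φ q hφ hK] at key
    exact key
  have e : (twE6G.cls.map fun J => q ^ J.length - 1).prod = (q - 1) ^ 4 * (q + 1) ^ 2 := by
    have h22 : q ^ 2 - 1 = (q - 1) * (q + 1) := by
      rw [mul_comm, ← Nat.sq_sub_sq]
    show (q ^ 1 - 1) * ((q ^ 1 - 1) * ((q ^ 2 - 1) * ((q ^ 2 - 1) * 1))) = _
    rw [h22, pow_one]
    ring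
  rw [e] at h3
  have h4 : poinC cdE6.D relE6.refl twClsE6A q = _ := e6TwPoin q
  rw [h1, h2, h4, ← h3]
  ring

end Cfsg.Agent.Lib.Helper3.ChevM
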