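import Cfsg.Agent.Lib.Helper3.ChevData.E6Mono
import Cfsg.Agent.Lib.Helper3.ChevData.E6Hdec
import Cfsg.Agent.Lib.Helper3.ChevData.E6Sign
import Cfsg.Agent.Lib.Helper3.ChevData.E6TwOrdTab
import Cfsg.Agent.Lib.Helper3.ChevTw23
set_option autoImplicit false
set_option maxRecDepth 1000000

namespace Cfsg.Agent.Lib.Helper3.ChevM

theorem e6TwOs0 : ∀ r < 72, suppCheckL Cfsg.Lie.chevE6 reflE6 ([] : List (List ℕ)).flatten r = true := by decide +kernel

theorem e6TwOr0 : ∀ a < 2, repCheckC Cfsg.Lie.chevE6 reflE6 ([] : List (List ℕ)).flatten ([1] :: []) dlcE60 a = true := by decide +kernel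

theorem e6TwOt0 : ∀ a < 2, ∀ i < 1, stepCheckC Cfsg.Lie.chevE6 reflE6 [] [1] dlcE60 nxtcE60 a i = true := by decide +kernel

theorem e6TwOd0 : distinctCheckC Cfsg.Lie.chevE6 reflE6 dlcE60 = true := by decide +kernel

theorem e6TwOn0 : dlcE60.map (fun d => Nw Cfsg.Lie.chevE6 reflE6 d.flatten) = [0, 1] := by decide +kernel

/-- Step 0 of the factorisation of the Poincaré sum of the class reflections of type E6. -/
theorem e6TwPoin0 (q : ℕ) : poinC cdE6.D relE6.refl ([1] :: []) q =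
    ([0, 1].map fun e => q ^ e).sum * poinC cdE6.D relE6.refl [] q := by
  have h := monoE6.poin_stepC (of_pairRange (m := 72) (n := 72) e6Hdec) e6Sign [] [1] (by decide)
    e6TwOs0 dlcE60 e6TwOr0 nxtcE60 (by decide +kernel) e6TwOt0 e6TwOd0 q
  have e : (dlcE60.map fun d => q ^ Nw cdE6.D relE6.refl d.flatten) = (dlcE60.map (fun d => Nw Cfsg.Lie.chevE6 reflE6 d.flatten)).map fun e => q ^ e := by
    rw [List.map_map]; rfl
  rw [h, e, e6TwOn0]

end Cfsg.Agent.Lib.Helper3.ChevM
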