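import Cfsg.Agent.Lib.Helper3.ChevData.F4Bn
import Cfsg.Agent.Lib.Helper3.ChevData.F4Sign
import Cfsg.Agent.Lib.Helper3.ChevData.F4Poin
import Cfsg.Agent.Lib.Helper3.Cox3
set_option autoImplicit false
set_option maxRecDepth 1000000
open Cfsg Cfsg.Lie

namespace Cfsg.Agent.Lib.Helper3.ChevM

/-- The orders of the products of two fundamental reflections of type F4. -/
theorem f4CoxOrd : ∀ i j : Fin cdF4.D.rank,
    wordOrdCheck cdF4.D relF4.refl [i.val, j.val] ((CoxeterMatrix.F₄ : CoxeterMatrix (Fin 4)) i j) = true := by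
  decide +kernel

/-- The order of the Coxeter group of type F4. -/
theorem f4CoxCard : Nat.card (CoxeterMatrix.F₄ : CoxeterMatrix (Fin 4)).Group = 1152 := by
  refine (monoF4.card_coxeter bnF4.dec f4Sign (CoxeterMatrix.F₄) f4CoxOrd).trans ?_
  rw [f4Poin]
  rfl

/-- The order of the Coxeter element of type F4. -/
theorem f4CoxEl : orderOf ((List.finRange 4).map (CoxeterMatrix.F₄ : CoxeterMatrix (Fin 4)).simple).prod = 12 :=
  monoF4.orderOf_coxeter bnF4.dec f4Sign (CoxeterMatrix.F₄) f4CoxOrd (List.finRange 4) 12 (by decide +kernel)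

/-- The homomorphism from `N` onto the Coxeter group of type F4, with kernel `H`. -/
theorem f4WeylHom {F : Type*} [Field F] :
    ∃ φ : ↥(cdF4.D.monomialSubgroup F) →* (CoxeterMatrix.F₄ : CoxeterMatrix (Fin 4)).Group, Function.Surjective φ ∧
      φ.ker = (cdF4.D.diagonalSubgroup F).subgroupOf (cdF4.D.monomialSubgroup F) ∧
      ∀ (i : Fin 4) (g : ↥(cdF4.D.monomialSubgroup F)),
        ((g : GL cdF4.D.Idx F) : Matrix cdF4.D.Idx cdF4.D.Idx F) = cdF4.D.nMat F (cdF4.D.simple i.val) 1 →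
          φ g = (CoxeterMatrix.F₄ : CoxeterMatrix (Fin 4)).simple i := by
  obtain ⟨φ, h1, h2, h3⟩ := monoF4.exists_weylHom (F := F) bnF4.dec
  let e : monoF4.weyl ≃* (CoxeterMatrix.F₄ : CoxeterMatrix (Fin 4)).Group :=
    monoF4.coxEquiv bnF4.dec f4Sign (CoxeterMatrix.F₄) f4CoxOrd
  refine ⟨e.toMonoidHom.comp φ, e.surjective.comp h1, ?_, ?_⟩
  · rw [← h2]
    ext g
    rw [MonoidHom.mem_ker, MonoidHom.mem_ker, MonoidHom.comp_apply]
    exact (MulEquiv.map_eq_one_iff e)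
  · intro i g hg
    rw [MonoidHom.comp_apply, h3 i g hg]
    exact monoF4.coxEquiv_apply bnF4.dec f4Sign (CoxeterMatrix.F₄) f4CoxOrd i

end Cfsg.Agent.Lib.Helper3.ChevM
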