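import Cfsg.Agent.Lib.Helper3.ChevData.E6TwB
import Cfsg.Agent.Lib.Helper3.ChevData.E6TwPoin
import Cfsg.Agent.Lib.Helper3.ChevData.F4Cox
import Cfsg.Agent.Lib.Helper3.ChevTw24
set_option autoImplicit false
set_option maxRecDepth 1000000
open Cfsg Cfsg.Lie

namespace Cfsg.Agent.Lib.Helper3.ChevM

/-- The classes of fundamental roots of type E6 in the order of the diagram of type F4. -/
def e6TwCs (k : Fin 4) : List (Fin cdE6.D.rank) :=
  (![[1], [3], [2, 4], [0, 5]] : Fin 4 → List (Fin 6)) k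

theorem e6TwCoxOrd : ∀ i j : Fin 4,
    wordOrdCheck cdE6.D relE6.refl (lw (e6TwCs i ++ e6TwCs j)) ((CoxeterMatrix.F₄ : CoxeterMatrix (Fin 4)) i j) = true := by
  decide +kernel

/-- The homomorphism from `N ∩ G¹` onto the Coxeter group of type F4, with kernel `H ∩ G¹`. -/
theorem e6_tw_weylHom {K : Type*} [Field K] [Fintype K] (φ : K →+* K) :
    ∃ f : ↥(cdE6.D.monomialSubgroup K ⊓ twE6B.grp φ) →* (CoxeterMatrix.F₄ : CoxeterMatrix (Fin 4)).Group,
      Function.Surjective f ∧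
      f.ker = (cdE6.D.diagonalSubgroup K ⊓ twE6B.grp φ).subgroupOf (cdE6.D.monomialSubgroup K ⊓ twE6B.grp φ) := by
  refine twE6B.exists_weylHom_tw φ (CoxeterMatrix.F₄) e6TwCs (by decide) (by decide) e6TwCoxOrd ?_
  rw [f4CoxCard]
  have h : poinC cdE6.D relE6.refl twE6B.cls 1 = _ := e6TwPoin 1
  rw [h]
  rfl

end Cfsg.Agent.Lib.Helper3.ChevM
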