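import Cfsg.Agent.Lib.Helper3.ChevGen2c
import Cfsg.Agent.Lib.Helper3.ChevData.E6Mono
import Cfsg.Agent.Lib.Helper3.ChevData.E6Hdec
import Cfsg.Agent.Lib.Helper3.ChevData.E6CommData
set_option autoImplicit false
set_option maxRecDepth 1000000
open Cfsg Cfsg.Lie

/-! Two generators for the Chevalley group of type E6: the data of the derivation. -/

namespace Cfsg.Agent.Lib.Helper3.ChevM

/-- The parameters of the derivation for type E6. -/
def tgParE6 : TGParams where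
  l := [0, 1, 2, 3, 4, 5]
  s := 0
  lam := fun i => ([0, 0, 0, 0, 1, 0] : List ℤ).getD i 0
  P := []
  two := false

/-- The steps of the derivation for type E6. -/
def tgStepsE6 : List TGStep := [
  .orb 7, .orbInv 21, .tor 21, .tor 2, .orb 2, .orb 17, .orb 21, .orb 31,
  .orb 33, .orb 62, .orb 68, .orbInv 14, .orbInv 45, .orbInv 66, .sum 2 66 29 (-1), .sum 2 45 9 (1),
  .sum 2 68 34 (-1), .sum 2 62 26 (-1), .sum 7 26 1 (1), .sum 7 29 4 (1), .sum 7 66 38 (1), .sum 7 53 15 (1), .sum 7 62 32 (-1), .sum 7 33 5 (-1),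
  .sum 9 66 41 (1), .sum 9 17 0 (-1), .sum 14 32 13 (1), .sum 14 68 54 (-1), .sum 14 62 48 (1), .sum 14 31 12 (1), .sum 14 17 3 (1), .sum 15 26 11 (1),
  .sum 15 66 55 (-1), .sum 15 62 51 (-1), .sum 15 17 6 (1), .sum 15 21 10 (1), .sum 17 55 37 (-1), .sum 17 34 16 (1), .sum 17 45 24 (-1), .sum 17 53 35 (-1),
  .sum 17 68 57 (1), .sum 21 34 20 (1), .sum 21 53 40 (1), .sum 21 68 60 (1), .sum 21 33 19 (1), .sum 21 31 18 (-1), .sum 24 34 23 (1), .sum 24 53 44 (1),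
  .sum 24 33 22 (1), .sum 26 60 56 (1), .sum 26 54 47 (-1), .sum 26 38 28 (1), .sum 26 68 61 (1), .sum 28 54 49 (1), .sum 28 34 27 (1), .sum 28 68 63 (-1),
  .sum 29 68 65 (1), .sum 31 44 42 (1), .sum 31 35 30 (1), .sum 31 55 52 (1), .sum 31 48 46 (1), .sum 31 41 36 (-1), .sum 31 53 50 (-1), .sum 33 60 58 (1),
  .sum 33 10 8 (-1), .sum 33 41 39 (1), .sum 33 66 64 (-1), .sum 33 45 43 (1), .sum 35 60 59 (1), .sum 35 68 67 (1), .sum 37 68 69 (1), .sum 39 69 70 (1),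
  .sum 39 24 25 (-1), .sum 46 70 71 (1)]

theorem tgOKE6 : tgOK cdE6.D relE6.refl tgParE6 tgStepsE6 ⟨[7], [], true⟩ = true := by
  decide +kernel

theorem two_gen_E6 {F : Type*} [Field F] [Finite F] :
    ∃ a b : ↥(Cfsg.Lie.chevE6.group F), Subgroup.closure ({a, b} : Set ↥(Cfsg.Lie.chevE6.group F)) = ⊤ :=
  two_gen_A (C := cdE6) monoE6 commE6 (of_pairRange (m := 72) (n := 72) e6Hdec) tgParE6 7
    (by decide) (by decide) (by decide) (by decide +kernel) rfl rfl tgStepsE6 tgOKE6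

end Cfsg.Agent.Lib.Helper3.ChevM
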