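import Cfsg.Agent.Lib.Helper3.ChevData.E6UbaseA
set_option autoImplicit false

namespace Cfsg.Agent.Lib.Helper3.ChevM
open Cfsg.Agent.Lib.Helper3.StB Cfsg.Agent.Lib.Helper3.StU

/-- The pairs of roots of type E6 not reduced by a fundamental reflection. -/
theorem e6Ubase : ∀ r < 5184, ((fun k => baseOK Cfsg.Lie.chevE6 reflE6 witE6 bwE6 (k / 72) (k % 72))) r = true := by
  intro r hr
  exact e6Ubase_0 r (by omega) hr

end Cfsg.Agent.Lib.Helper3.ChevM
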