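import Cfsg.Prelude.Def_ChevE6
import Cfsg.Agent.Lib.Helper3.ChevData.E6Tabs
import Cfsg.Agent.Lib.Helper3.ChevData.E6Wit
import Cfsg.Agent.Lib.Helper3.ChevData.E6Ubw
import Cfsg.Agent.Lib.Helper3.StU10
set_option autoImplicit false
set_option maxRecDepth 1000000
set_option Elab.async false

namespace Cfsg.Agent.Lib.Helper3.ChevM
open Cfsg.Agent.Lib.Helper3.StB Cfsg.Agent.Lib.Helper3.StU

theorem e6Ubase_0_0 : allRange 0 2000 ((fun k => baseOK Cfsg.Lie.chevE6 reflE6 witE6 bwE6 (k / 72) (k % 72))) = true := by decide +kernel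
theorem e6Ubase_0_2000 : allRange 2000 4000 ((fun k => baseOK Cfsg.Lie.chevE6 reflE6 witE6 bwE6 (k / 72) (k % 72))) = true := by decide +kernel
theorem e6Ubase_0_4000 : allRange 4000 5184 ((fun k => baseOK Cfsg.Lie.chevE6 reflE6 witE6 bwE6 (k / 72) (k % 72))) = true := by decide +kernel

/-- The pairs of roots of type E6 not reduced by a fundamental reflection (roots 0 to 5183). -/
theorem e6Ubase_0 : ∀ r, 0 ≤ r → r < 5184 → ((fun k => baseOK Cfsg.Lie.chevE6 reflE6 witE6 bwE6 (k / 72) (k % 72))) r = true := by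
  intro r h1 h2
  by_cases c0 : r < 2000
  · exact allRange_spec e6Ubase_0_0 r (by omega) c0
  by_cases c1 : r < 4000
  · exact allRange_spec e6Ubase_0_2000 r (by omega) c1
  exact allRange_spec e6Ubase_0_4000 r (by omega) h2

end Cfsg.Agent.Lib.Helper3.ChevM
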