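import Cfsg.Prelude.Def_ChevE6
set_option autoImplicit false
set_option maxRecDepth 1000000

namespace Cfsg.Agent.Lib.Helper3.ChevM

/-- Position of the positive roots of type E6 in an order compatible with heights. -/
def hposE6 (r : ℕ) : ℕ := (#[0, 0, 0, 0, 0, 0, 0, 0, 0, 0, 0, 0, 0, 0, 0, 0, 0, 0, 0, 0, 0, 0, 0, 0, 0, 0, 0, 0, 0, 0, 0, 0, 0, 0, 0, 0, 0, 1, 6, 2, 7, 11, 3, 8, 12, 16, 4, 9, 13, 17, 14, 18, 21, 22, 25, 28, 5, 10, 15, 19, 23, 20, 24, 26, 27, 29, 31, 30, 32, 33, 34, 35] : Array ℕ).getD r 0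

/-- Level of the coordinates of type E6. -/
def hfE6 (c : ℕ) : ℕ := (#[42193, 42193, 42193, 42193, 42193, 42193, 0, 4096, 4160, 4168, 4169, 4672, 4680, 4681, 4744, 4745, 4753, 8840, 8841, 8849, 8913, 9425, 37440, 37448, 37449, 37512, 37513, 37521, 38024, 38025, 38033, 38097, 41608, 41609, 41617, 41681, 42120, 42121, 42129, 42184, 42185, 42192, 42194, 42201, 42202, 42257, 42265, 42266, 42705, 42769, 42777, 42778, 46289, 46353, 46361, 46362, 46865, 46873, 46874, 46937, 46938, 46946, 74961, 75473, 75537, 75545, 75546, 79633, 79641, 79642, 79705, 79706, 79714, 80217, 80218, 80226, 80290, 84386] : Array ℕ).getD c 0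

/-- Level of the positive roots of type E6. -/
def frE6 (r : ℕ) : ℕ := (#[0, 0, 0, 0, 0, 0, 0, 0, 0, 0, 0, 0, 0, 0, 0, 0, 0, 0, 0, 0, 0, 0, 0, 0, 0, 0, 0, 0, 0, 0, 0, 0, 0, 0, 0, 0, 1, 8, 9, 64, 72, 73, 512, 576, 584, 585, 4096, 4160, 4168, 4169, 4672, 4680, 4681, 4744, 4745, 4753, 32768, 33280, 33344, 33352, 33353, 37440, 37448, 37449, 37512, 37513, 37521, 38024, 38025, 38033, 38097, 42193] : Array ℕ).getD r 0

/-- Column of the witness entry. -/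
def wjE6 (r : ℕ) : ℕ := (#[0, 0, 0, 0, 0, 0, 0, 0, 0, 0, 0, 0, 0, 0, 0, 0, 0, 0, 0, 0, 0, 0, 0, 0, 0, 0, 0, 0, 0, 0, 0, 0, 0, 0, 0, 0, 4, 3, 3, 1, 1, 1, 0, 0, 0, 0, 3, 1, 1, 1, 0, 0, 0, 0, 0, 0, 2, 0, 0, 0, 0, 0, 0, 0, 0, 0, 0, 2, 2, 2, 1, 1] : Array ℕ).getD r 0

/-- Row of the witness entry. -/
def wiE6 (r : ℕ) : ℕ := (#[0, 0, 0, 0, 0, 0, 0, 0, 0, 0, 0, 0, 0, 0, 0, 0, 0, 0, 0, 0, 0, 0, 0, 0, 0, 0, 0, 0, 0, 0, 0, 0, 0, 0, 0, 0, 42, 43, 44, 45, 46, 47, 48, 49, 50, 51, 52, 53, 54, 55, 56, 57, 58, 59, 60, 61, 62, 63, 64, 65, 66, 67, 68, 69, 70, 71, 72, 73, 74, 75, 76, 77] : Array ℕ).getD r 0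

end Cfsg.Agent.Lib.Helper3.ChevM
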