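import Cfsg.Prelude.Def_ChevE6
import Cfsg.Agent.Lib.Helper3.ChevData.E6Uni
import Cfsg.Agent.Lib.Helper3.ChevU3
set_option autoImplicit false
set_option maxRecDepth 1000000
set_option Elab.async false

namespace Cfsg.Agent.Lib.Helper3.ChevM

theorem e6Ucol_0_0 : allRange 0 3571 ((fun k => collectCheck Cfsg.Lie.chevE6 hposE6 (k / 72) (k % 72))) = true := by decide +kernel
theorem e6Ucol_0_3571 : allRange 3571 5184 ((fun k => collectCheck Cfsg.Lie.chevE6 hposE6 (k / 72) (k % 72))) = true := by decide +kernel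

/-- The terms of the commutator formula of type E6 lie higher (roots 0 to 5183). -/
theorem e6Ucol_0 : ∀ r, 0 ≤ r → r < 5184 → ((fun k => collectCheck Cfsg.Lie.chevE6 hposE6 (k / 72) (k % 72))) r = true := by
  intro r h1 h2
  by_cases c0 : r < 3571
  · exact allRange_spec e6Ucol_0_0 r (by omega) c0
  exact allRange_spec e6Ucol_0_3571 r (by omega) h2

end Cfsg.Agent.Lib.Helper3.ChevM
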