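import Cfsg.Prelude.Def_ChevE6
import Cfsg.Agent.Lib.Helper3.ChevData.E6Uni
import Cfsg.Agent.Lib.Helper3.StU10
set_option autoImplicit false
set_option maxRecDepth 1000000
set_option Elab.async false

namespace Cfsg.Agent.Lib.Helper3.ChevM
open Cfsg.Agent.Lib.Helper3.StB Cfsg.Agent.Lib.Helper3.StU

theorem e6Ucolb_0_0 : allRange 0 185 ((fun k => col2OK Cfsg.Lie.chevE6 hposE6 (k / 72) (k % 72))) = true := by decide +kernel
theorem e6Ucolb_0_185 : allRange 185 370 ((fun k => col2OK Cfsg.Lie.chevE6 hposE6 (k / 72) (k % 72))) = true := by decide +kernel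
theorem e6Ucolb_0_370 : allRange 370 555 ((fun k => col2OK Cfsg.Lie.chevE6 hposE6 (k / 72) (k % 72))) = true := by decide +kernel
theorem e6Ucolb_0_555 : allRange 555 740 ((fun k => col2OK Cfsg.Lie.chevE6 hposE6 (k / 72) (k % 72))) = true := by decide +kernel
theorem e6Ucolb_0_740 : allRange 740 925 ((fun k => col2OK Cfsg.Lie.chevE6 hposE6 (k / 72) (k % 72))) = true := by decide +kernel
theorem e6Ucolb_0_925 : allRange 925 1110 ((fun k => col2OK Cfsg.Lie.chevE6 hposE6 (k / 72) (k % 72))) = true := by decide +kernel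
theorem e6Ucolb_0_1110 : allRange 1110 1295 ((fun k => col2OK Cfsg.Lie.chevE6 hposE6 (k / 72) (k % 72))) = true := by decide +kernel
theorem e6Ucolb_0_1295 : allRange 1295 1480 ((fun k => col2OK Cfsg.Lie.chevE6 hposE6 (k / 72) (k % 72))) = true := by decide +kernel
theorem e6Ucolb_0_1480 : allRange 1480 1665 ((fun k => col2OK Cfsg.Lie.chevE6 hposE6 (k / 72) (k % 72))) = true := by decide +kernel
theorem e6Ucolb_0_1665 : allRange 1665 1850 ((fun k => col2OK Cfsg.Lie.chevE6 hposE6 (k / 72) (k % 72))) = true := by decide +kernel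
theorem e6Ucolb_0_1850 : allRange 1850 2035 ((fun k => col2OK Cfsg.Lie.chevE6 hposE6 (k / 72) (k % 72))) = true := by decide +kernel
theorem e6Ucolb_0_2035 : allRange 2035 2220 ((fun k => col2OK Cfsg.Lie.chevE6 hposE6 (k / 72) (k % 72))) = true := by decide +kernel
theorem e6Ucolb_0_2220 : allRange 2220 2405 ((fun k => col2OK Cfsg.Lie.chevE6 hposE6 (k / 72) (k % 72))) = true := by decide +kernel
theorem e6Ucolb_0_2405 : allRange 2405 2590 ((fun k => col2OK Cfsg.Lie.chevE6 hposE6 (k / 72) (k % 72))) = true := by decide +kernel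
theorem e6Ucolb_0_2590 : allRange 2590 2775 ((fun k => col2OK Cfsg.Lie.chevE6 hposE6 (k / 72) (k % 72))) = true := by decide +kernel
theorem e6Ucolb_0_2775 : allRange 2775 2960 ((fun k => col2OK Cfsg.Lie.chevE6 hposE6 (k / 72) (k % 72))) = true := by decide +kernel
theorem e6Ucolb_0_2960 : allRange 2960 3145 ((fun k => col2OK Cfsg.Lie.chevE6 hposE6 (k / 72) (k % 72))) = true := by decide +kernel
theorem e6Ucolb_0_3145 : allRange 3145 3330 ((fun k => col2OK Cfsg.Lie.chevE6 hposE6 (k / 72) (k % 72))) = true := by decide +kernel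
theorem e6Ucolb_0_3330 : allRange 3330 3515 ((fun k => col2OK Cfsg.Lie.chevE6 hposE6 (k / 72) (k % 72))) = true := by decide +kernel
theorem e6Ucolb_0_3515 : allRange 3515 3700 ((fun k => col2OK Cfsg.Lie.chevE6 hposE6 (k / 72) (k % 72))) = true := by decide +kernel
theorem e6Ucolb_0_3700 : allRange 3700 3885 ((fun k => col2OK Cfsg.Lie.chevE6 hposE6 (k / 72) (k % 72))) = true := by decide +kernel
theorem e6Ucolb_0_3885 : allRange 3885 4070 ((fun k => col2OK Cfsg.Lie.chevE6 hposE6 (k / 72) (k % 72))) = true := by decide +kernel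
theorem e6Ucolb_0_4070 : allRange 4070 4255 ((fun k => col2OK Cfsg.Lie.chevE6 hposE6 (k / 72) (k % 72))) = true := by decide +kernel
theorem e6Ucolb_0_4255 : allRange 4255 4440 ((fun k => col2OK Cfsg.Lie.chevE6 hposE6 (k / 72) (k % 72))) = true := by decide +kernel
theorem e6Ucolb_0_4440 : allRange 4440 4625 ((fun k => col2OK Cfsg.Lie.chevE6 hposE6 (k / 72) (k % 72))) = true := by decide +kernel
theorem e6Ucolb_0_4625 : allRange 4625 4810 ((fun k => col2OK Cfsg.Lie.chevE6 hposE6 (k / 72) (k % 72))) = true := by decide +kernel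
theorem e6Ucolb_0_4810 : allRange 4810 4995 ((fun k => col2OK Cfsg.Lie.chevE6 hposE6 (k / 72) (k % 72))) = true := by decide +kernel
theorem e6Ucolb_0_4995 : allRange 4995 5180 ((fun k => col2OK Cfsg.Lie.chevE6 hposE6 (k / 72) (k % 72))) = true := by decide +kernel
theorem e6Ucolb_0_5180 : allRange 5180 5184 ((fun k => col2OK Cfsg.Lie.chevE6 hposE6 (k / 72) (k % 72))) = true := by decide +kernel

/-- The terms of the commutator formula of type E6 lie higher than the second root (roots 0 to 5183). -/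
theorem e6Ucolb_0 : ∀ r, 0 ≤ r → r < 5184 → ((fun k => col2OK Cfsg.Lie.chevE6 hposE6 (k / 72) (k % 72))) r = true := by
  intro r h1 h2
  by_cases c0 : r < 185
  · exact allRange_spec e6Ucolb_0_0 r (by omega) c0
  by_cases c1 : r < 370
  · exact allRange_spec e6Ucolb_0_185 r (by omega) c1
  by_cases c2 : r < 555
  · exact allRange_spec e6Ucolb_0_370 r (by omega) c2
  by_cases c3 : r < 740
  · exact allRange_spec e6Ucolb_0_555 r (by omega) c3
  by_cases c4 : r < 925
  · exact allRange_spec e6Ucolb_0_740 r (by omega) c4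
  by_cases c5 : r < 1110
  · exact allRange_spec e6Ucolb_0_925 r (by omega) c5
  by_cases c6 : r < 1295
  · exact allRange_spec e6Ucolb_0_1110 r (by omega) c6
  by_cases c7 : r < 1480
  · exact allRange_spec e6Ucolb_0_1295 r (by omega) c7
  by_cases c8 : r < 1665
  · exact allRange_spec e6Ucolb_0_1480 r (by omega) c8
  by_cases c9 : r < 1850
  · exact allRange_spec e6Ucolb_0_1665 r (by omega) c9
  by_cases c10 : r < 2035
  · exact allRange_spec e6Ucolb_0_1850 r (by omega) c10
  by_cases c11 : r < 2220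
  · exact allRange_spec e6Ucolb_0_2035 r (by omega) c11
  by_cases c12 : r < 2405
  · exact allRange_spec e6Ucolb_0_2220 r (by omega) c12
  by_cases c13 : r < 2590
  · exact allRange_spec e6Ucolb_0_2405 r (by omega) c13
  by_cases c14 : r < 2775
  · exact allRange_spec e6Ucolb_0_2590 r (by omega) c14
  by_cases c15 : r < 2960
  · exact allRange_spec e6Ucolb_0_2775 r (by omega) c15
  by_cases c16 : r < 3145
  · exact allRange_spec e6Ucolb_0_2960 r (by omega) c16
  by_cases c17 : r < 3330
  · exact allRange_spec e6Ucolb_0_3145 r (by omega) c17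
  by_cases c18 : r < 3515
  · exact allRange_spec e6Ucolb_0_3330 r (by omega) c18
  by_cases c19 : r < 3700
  · exact allRange_spec e6Ucolb_0_3515 r (by omega) c19
  by_cases c20 : r < 3885
  · exact allRange_spec e6Ucolb_0_3700 r (by omega) c20
  by_cases c21 : r < 4070
  · exact allRange_spec e6Ucolb_0_3885 r (by omega) c21
  by_cases c22 : r < 4255
  · exact allRange_spec e6Ucolb_0_4070 r (by omega) c22
  by_cases c23 : r < 4440
  · exact allRange_spec e6Ucolb_0_4255 r (by omega) c23
  by_cases c24 : r < 4625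
  · exact allRange_spec e6Ucolb_0_4440 r (by omega) c24
  by_cases c25 : r < 4810
  · exact allRange_spec e6Ucolb_0_4625 r (by omega) c25
  by_cases c26 : r < 4995
  · exact allRange_spec e6Ucolb_0_4810 r (by omega) c26
  by_cases c27 : r < 5180
  · exact allRange_spec e6Ucolb_0_4995 r (by omega) c27
  exact allRange_spec e6Ucolb_0_5180 r (by omega) h2

end Cfsg.Agent.Lib.Helper3.ChevM
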