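import Cfsg.Agent.Lib.Helper3.ChevData.E6UselfA
set_option autoImplicit false

namespace Cfsg.Agent.Lib.Helper3.ChevM
open Cfsg.Agent.Lib.Helper3.StB Cfsg.Agent.Lib.Helper3.StU

/-- The lifts of the elements of a root subgroup of type E6 commute. -/
theorem e6Uself : ∀ r < 72, ((fun r => selfOK Cfsg.Lie.chevE6 r)) r = true := by
  intro r hr
  exact e6Uself_0 r (by omega) hr

end Cfsg.Agent.Lib.Helper3.ChevM
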