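import Cfsg.Agent.Lib.Helper3.ChevData.E6St
import Cfsg.Agent.Lib.Helper3.ChevData.E6Uself
import Cfsg.Agent.Lib.Helper3.ChevData.E6Utex
import Cfsg.Agent.Lib.Helper3.ChevData.E6Utor
import Cfsg.Agent.Lib.Helper3.ChevData.E6Ucolb
import Cfsg.Agent.Lib.Helper3.ChevData.E6Ubase
set_option autoImplicit false

namespace Cfsg.Agent.Lib.Helper3.ChevM
open Cfsg.Agent.Lib.Helper3.StB Cfsg.Agent.Lib.Helper3.StU

/-- The table checks for the splitting of the central extensions of the Steinberg group of type E6. -/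
def univHypE6 : UnivHyp cdE6 relE6 where
  Y := stHypE6
  self := e6Uself
  torEx := e6Utex
  tor := of_pairRange (m := 72) (n := 72) e6Utor
  col2 := of_pairRange (m := 72) (n := 72) e6Ucolb
  bw := bwE6
  base := of_pairRange (m := 72) (n := 72) e6Ubase

end Cfsg.Agent.Lib.Helper3.ChevM
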