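import Cfsg.Prelude.Def_ChevE6
import Cfsg.Agent.Lib.Helper3.ChevData.E6Tabs
import Cfsg.Agent.Lib.Helper3.ChevG5
set_option autoImplicit false
set_option maxRecDepth 1000000
set_option Elab.async false

namespace Cfsg.Agent.Lib.Helper3.ChevM

theorem e6Wp_0_0 : allRange 0 392 ((fun k => wpCheck Cfsg.Lie.chevE6 reflE6 (k / 72) (k % 72))) = true := by decide +kernel
theorem e6Wp_0_392 : allRange 392 432 ((fun k => wpCheck Cfsg.Lie.chevE6 reflE6 (k / 72) (k % 72))) = true := by decide +kernel

/-- The fundamental reflections of type E6 permute the other positive roots (roots 0 to 431). -/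
theorem e6Wp_0 : ∀ r, 0 ≤ r → r < 432 → ((fun k => wpCheck Cfsg.Lie.chevE6 reflE6 (k / 72) (k % 72))) r = true := by
  intro r h1 h2
  by_cases c0 : r < 392
  · exact allRange_spec e6Wp_0_0 r (by omega) c0
  exact allRange_spec e6Wp_0_392 r (by omega) h2

end Cfsg.Agent.Lib.Helper3.ChevM
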