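import Cfsg.Prelude.Def_ChevE6
import Cfsg.Agent.Lib.Helper3.ChevData.E6Hd2
import Cfsg.Agent.Lib.Helper3.ChevData.E6Datum
import Cfsg.Agent.Lib.Helper3.ChevL2
set_option autoImplicit false
set_option maxRecDepth 1000000
set_option Elab.async false

namespace Cfsg.Agent.Lib.Helper3.ChevM

theorem e6Wt_1_24 : allRange 24 30 (fun r => wtCheck cdE6 vecE6 r) = true := by decide +kernel
theorem e6Wt_1_30 : allRange 30 36 (fun r => wtCheck cdE6 vecE6 r) = true := by decide +kernel
theorem e6Wt_1_36 : allRange 36 42 (fun r => wtCheck cdE6 vecE6 r) = true := by decide +kernel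
theorem e6Wt_1_42 : allRange 42 48 (fun r => wtCheck cdE6 vecE6 r) = true := by decide +kernel

/-- The entries of the root elements of type E6 raise the weights (roots 24 to 47). -/
theorem e6Wt_1 : ∀ r, 24 ≤ r → r < 48 → (fun r => wtCheck cdE6 vecE6 r) r = true := by
  intro r h1 h2
  by_cases c0 : r < 30
  · exact allRange_spec e6Wt_1_24 r (by omega) c0
  by_cases c1 : r < 36
  · exact allRange_spec e6Wt_1_30 r (by omega) c1
  by_cases c2 : r < 42
  · exact allRange_spec e6Wt_1_36 r (by omega) c2
  exact allRange_spec e6Wt_1_42 r (by omega) h2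

end Cfsg.Agent.Lib.Helper3.ChevM
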