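import Cfsg.Agent.Lib.Helper3.ChevData.E6WtA
import Cfsg.Agent.Lib.Helper3.ChevData.E6WtB
import Cfsg.Agent.Lib.Helper3.ChevData.E6WtC
set_option autoImplicit false

namespace Cfsg.Agent.Lib.Helper3.ChevM

/-- The entries of the root elements of type E6 raise the weights. -/
theorem e6Wt : ∀ r < 72, (fun r => wtCheck cdE6 vecE6 r) r = true := by
  intro r hr
  by_cases h0 : r < 24
  · exact e6Wt_0 r (by omega) h0
  by_cases h1 : r < 48
  · exact e6Wt_1 r (by omega) h1
  exact e6Wt_2 r (by omega) hr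

end Cfsg.Agent.Lib.Helper3.ChevM
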