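import Cfsg.Agent.Lib.Helper3.ChevData.E7AddA
import Cfsg.Agent.Lib.Helper3.ChevData.E7AddB
import Cfsg.Agent.Lib.Helper3.ChevData.E7AddC
set_option autoImplicit false

namespace Cfsg.Agent.Lib.Helper3.ChevM

/-- Additivity check for the root elements of type E7. -/
theorem e7Add : ∀ r < 126, (cdE7.checkAdd) r = true := by
  intro r hr
  by_cases h0 : r < 42
  · exact e7Add_0 r (by omega) h0
  by_cases h1 : r < 84
  · exact e7Add_1 r (by omega) h1
  exact e7Add_2 r (by omega) hr

end Cfsg.Agent.Lib.Helper3.ChevM
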