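import Cfsg.Agent.Lib.Helper3.ChevData.E7Datum
set_option autoImplicit false
set_option maxRecDepth 1000000
set_option Elab.async false

namespace Cfsg.Agent.Lib.Helper3.ChevM

theorem e7Add_0_0 : allRange 0 1 (cdE7.checkAdd) = true := by decide +kernel
theorem e7Add_0_1 : allRange 1 2 (cdE7.checkAdd) = true := by decide +kernel
theorem e7Add_0_2 : allRange 2 3 (cdE7.checkAdd) = true := by decide +kernel
theorem e7Add_0_3 : allRange 3 4 (cdE7.checkAdd) = true := by decide +kernel
theorem e7Add_0_4 : allRange 4 5 (cdE7.checkAdd) = true := by decide +kernel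
theorem e7Add_0_5 : allRange 5 6 (cdE7.checkAdd) = true := by decide +kernel
theorem e7Add_0_6 : allRange 6 7 (cdE7.checkAdd) = true := by decide +kernel
theorem e7Add_0_7 : allRange 7 8 (cdE7.checkAdd) = true := by decide +kernel
theorem e7Add_0_8 : allRange 8 9 (cdE7.checkAdd) = true := by decide +kernel
theorem e7Add_0_9 : allRange 9 10 (cdE7.checkAdd) = true := by decide +kernel
theorem e7Add_0_10 : allRange 10 11 (cdE7.checkAdd) = true := by decide +kernel
theorem e7Add_0_11 : allRange 11 12 (cdE7.checkAdd) = true := by decide +kernel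
theorem e7Add_0_12 : allRange 12 13 (cdE7.checkAdd) = true := by decide +kernel
theorem e7Add_0_13 : allRange 13 14 (cdE7.checkAdd) = true := by decide +kernel
theorem e7Add_0_14 : allRange 14 15 (cdE7.checkAdd) = true := by decide +kernel
theorem e7Add_0_15 : allRange 15 16 (cdE7.checkAdd) = true := by decide +kernel
theorem e7Add_0_16 : allRange 16 17 (cdE7.checkAdd) = true := by decide +kernel
theorem e7Add_0_17 : allRange 17 18 (cdE7.checkAdd) = true := by decide +kernel
theorem e7Add_0_18 : allRange 18 19 (cdE7.checkAdd) = true := by decide +kernel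
theorem e7Add_0_19 : allRange 19 20 (cdE7.checkAdd) = true := by decide +kernel
theorem e7Add_0_20 : allRange 20 21 (cdE7.checkAdd) = true := by decide +kernel
theorem e7Add_0_21 : allRange 21 22 (cdE7.checkAdd) = true := by decide +kernel
theorem e7Add_0_22 : allRange 22 23 (cdE7.checkAdd) = true := by decide +kernel
theorem e7Add_0_23 : allRange 23 24 (cdE7.checkAdd) = true := by decide +kernel
theorem e7Add_0_24 : allRange 24 25 (cdE7.checkAdd) = true := by decide +kernel
theorem e7Add_0_25 : allRange 25 26 (cdE7.checkAdd) = true := by decide +kernel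
theorem e7Add_0_26 : allRange 26 27 (cdE7.checkAdd) = true := by decide +kernel
theorem e7Add_0_27 : allRange 27 28 (cdE7.checkAdd) = true := by decide +kernel
theorem e7Add_0_28 : allRange 28 29 (cdE7.checkAdd) = true := by decide +kernel
theorem e7Add_0_29 : allRange 29 30 (cdE7.checkAdd) = true := by decide +kernel
theorem e7Add_0_30 : allRange 30 31 (cdE7.checkAdd) = true := by decide +kernel
theorem e7Add_0_31 : allRange 31 32 (cdE7.checkAdd) = true := by decide +kernel
theorem e7Add_0_32 : allRange 32 33 (cdE7.checkAdd) = true := by decide +kernel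
theorem e7Add_0_33 : allRange 33 34 (cdE7.checkAdd) = true := by decide +kernel
theorem e7Add_0_34 : allRange 34 35 (cdE7.checkAdd) = true := by decide +kernel
theorem e7Add_0_35 : allRange 35 36 (cdE7.checkAdd) = true := by decide +kernel
theorem e7Add_0_36 : allRange 36 37 (cdE7.checkAdd) = true := by decide +kernel
theorem e7Add_0_37 : allRange 37 38 (cdE7.checkAdd) = true := by decide +kernel
theorem e7Add_0_38 : allRange 38 39 (cdE7.checkAdd) = true := by decide +kernel
theorem e7Add_0_39 : allRange 39 40 (cdE7.checkAdd) = true := by decide +kernel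
theorem e7Add_0_40 : allRange 40 41 (cdE7.checkAdd) = true := by decide +kernel
theorem e7Add_0_41 : allRange 41 42 (cdE7.checkAdd) = true := by decide +kernel

/-- Additivity check for the root elements of type E7 (roots 0 to 41). -/
theorem e7Add_0 : ∀ r, 0 ≤ r → r < 42 → (cdE7.checkAdd) r = true := by
  intro r h1 h2
  by_cases c0 : r < 1
  · exact allRange_spec e7Add_0_0 r (by omega) c0
  by_cases c1 : r < 2
  · exact allRange_spec e7Add_0_1 r (by omega) c1
  by_cases c2 : r < 3
  · exact allRange_spec e7Add_0_2 r (by omega) c2
  by_cases c3 : r < 4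
  · exact allRange_spec e7Add_0_3 r (by omega) c3
  by_cases c4 : r < 5
  · exact allRange_spec e7Add_0_4 r (by omega) c4
  by_cases c5 : r < 6
  · exact allRange_spec e7Add_0_5 r (by omega) c5
  by_cases c6 : r < 7
  · exact allRange_spec e7Add_0_6 r (by omega) c6
  by_cases c7 : r < 8
  · exact allRange_spec e7Add_0_7 r (by omega) c7
  by_cases c8 : r < 9
  · exact allRange_spec e7Add_0_8 r (by omega) c8
  by_cases c9 : r < 10
  · exact allRange_spec e7Add_0_9 r (by omega) c9
  by_cases c10 : r < 11
  · exact allRange_spec e7Add_0_10 r (by omega) c10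
  by_cases c11 : r < 12
  · exact allRange_spec e7Add_0_11 r (by omega) c11
  by_cases c12 : r < 13
  · exact allRange_spec e7Add_0_12 r (by omega) c12
  by_cases c13 : r < 14
  · exact allRange_spec e7Add_0_13 r (by omega) c13
  by_cases c14 : r < 15
  · exact allRange_spec e7Add_0_14 r (by omega) c14
  by_cases c15 : r < 16
  · exact allRange_spec e7Add_0_15 r (by omega) c15
  by_cases c16 : r < 17
  · exact allRange_spec e7Add_0_16 r (by omega) c16
  by_cases c17 : r < 18
  · exact allRange_spec e7Add_0_17 r (by omega) c17
  by_cases c18 : r < 19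
  · exact allRange_spec e7Add_0_18 r (by omega) c18
  by_cases c19 : r < 20
  · exact allRange_spec e7Add_0_19 r (by omega) c19
  by_cases c20 : r < 21
  · exact allRange_spec e7Add_0_20 r (by omega) c20
  by_cases c21 : r < 22
  · exact allRange_spec e7Add_0_21 r (by omega) c21
  by_cases c22 : r < 23
  · exact allRange_spec e7Add_0_22 r (by omega) c22
  by_cases c23 : r < 24
  · exact allRange_spec e7Add_0_23 r (by omega) c23
  by_cases c24 : r < 25
  · exact allRange_spec e7Add_0_24 r (by omega) c24
  by_cases c25 : r < 26
  · exact allRange_spec e7Add_0_25 r (by omega) c25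
  by_cases c26 : r < 27
  · exact allRange_spec e7Add_0_26 r (by omega) c26
  by_cases c27 : r < 28
  · exact allRange_spec e7Add_0_27 r (by omega) c27
  by_cases c28 : r < 29
  · exact allRange_spec e7Add_0_28 r (by omega) c28
  by_cases c29 : r < 30
  · exact allRange_spec e7Add_0_29 r (by omega) c29
  by_cases c30 : r < 31
  · exact allRange_spec e7Add_0_30 r (by omega) c30
  by_cases c31 : r < 32
  · exact allRange_spec e7Add_0_31 r (by omega) c31
  by_cases c32 : r < 33
  · exact allRange_spec e7Add_0_32 r (by omega) c32
  by_cases c33 : r < 34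
  · exact allRange_spec e7Add_0_33 r (by omega) c33
  by_cases c34 : r < 35
  · exact allRange_spec e7Add_0_34 r (by omega) c34
  by_cases c35 : r < 36
  · exact allRange_spec e7Add_0_35 r (by omega) c35
  by_cases c36 : r < 37
  · exact allRange_spec e7Add_0_36 r (by omega) c36
  by_cases c37 : r < 38
  · exact allRange_spec e7Add_0_37 r (by omega) c37
  by_cases c38 : r < 39
  · exact allRange_spec e7Add_0_38 r (by omega) c38
  by_cases c39 : r < 40
  · exact allRange_spec e7Add_0_39 r (by omega) c39
  by_cases c40 : r < 41
  · exact allRange_spec e7Add_0_40 r (by omega) c40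
  exact allRange_spec e7Add_0_41 r (by omega) h2

end Cfsg.Agent.Lib.Helper3.ChevM
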