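import Cfsg.Prelude.Def_ChevE7
import Cfsg.Agent.Lib.Helper3.StB5
set_option autoImplicit false
set_option maxRecDepth 1000000
set_option Elab.async false

namespace Cfsg.Agent.Lib.Helper3.ChevM
open Cfsg.Agent.Lib.Helper3.StB

theorem e7Cneg_1_1444 : allRange 1444 1482 ((fun k => commNegCheck Cfsg.Lie.chevE7 (k / 126) (k % 126))) = true := by decide +kernel
theorem e7Cneg_1_1482 : allRange 1482 1520 ((fun k => commNegCheck Cfsg.Lie.chevE7 (k / 126) (k % 126))) = true := by decide +kernel
theorem e7Cneg_1_1520 : allRange 1520 1558 ((fun k => commNegCheck Cfsg.Lie.chevE7 (k / 126) (k % 126))) = true := by decide +kernel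
theorem e7Cneg_1_1558 : allRange 1558 1596 ((fun k => commNegCheck Cfsg.Lie.chevE7 (k / 126) (k % 126))) = true := by decide +kernel
theorem e7Cneg_1_1596 : allRange 1596 1634 ((fun k => commNegCheck Cfsg.Lie.chevE7 (k / 126) (k % 126))) = true := by decide +kernel
theorem e7Cneg_1_1634 : allRange 1634 1672 ((fun k => commNegCheck Cfsg.Lie.chevE7 (k / 126) (k % 126))) = true := by decide +kernel
theorem e7Cneg_1_1672 : allRange 1672 1710 ((fun k => commNegCheck Cfsg.Lie.chevE7 (k / 126) (k % 126))) = true := by decide +kernel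
theorem e7Cneg_1_1710 : allRange 1710 1748 ((fun k => commNegCheck Cfsg.Lie.chevE7 (k / 126) (k % 126))) = true := by decide +kernel
theorem e7Cneg_1_1748 : allRange 1748 1786 ((fun k => commNegCheck Cfsg.Lie.chevE7 (k / 126) (k % 126))) = true := by decide +kernel
theorem e7Cneg_1_1786 : allRange 1786 1824 ((fun k => commNegCheck Cfsg.Lie.chevE7 (k / 126) (k % 126))) = true := by decide +kernel
theorem e7Cneg_1_1824 : allRange 1824 1862 ((fun k => commNegCheck Cfsg.Lie.chevE7 (k / 126) (k % 126))) = true := by decide +kernel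
theorem e7Cneg_1_1862 : allRange 1862 1900 ((fun k => commNegCheck Cfsg.Lie.chevE7 (k / 126) (k % 126))) = true := by decide +kernel
theorem e7Cneg_1_1900 : allRange 1900 1938 ((fun k => commNegCheck Cfsg.Lie.chevE7 (k / 126) (k % 126))) = true := by decide +kernel
theorem e7Cneg_1_1938 : allRange 1938 1976 ((fun k => commNegCheck Cfsg.Lie.chevE7 (k / 126) (k % 126))) = true := by decide +kernel
theorem e7Cneg_1_1976 : allRange 1976 2014 ((fun k => commNegCheck Cfsg.Lie.chevE7 (k / 126) (k % 126))) = true := by decide +kernel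
theorem e7Cneg_1_2014 : allRange 2014 2052 ((fun k => commNegCheck Cfsg.Lie.chevE7 (k / 126) (k % 126))) = true := by decide +kernel
theorem e7Cneg_1_2052 : allRange 2052 2090 ((fun k => commNegCheck Cfsg.Lie.chevE7 (k / 126) (k % 126))) = true := by decide +kernel
theorem e7Cneg_1_2090 : allRange 2090 2128 ((fun k => commNegCheck Cfsg.Lie.chevE7 (k / 126) (k % 126))) = true := by decide +kernel
theorem e7Cneg_1_2128 : allRange 2128 2166 ((fun k => commNegCheck Cfsg.Lie.chevE7 (k / 126) (k % 126))) = true := by decide +kernel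
theorem e7Cneg_1_2166 : allRange 2166 2204 ((fun k => commNegCheck Cfsg.Lie.chevE7 (k / 126) (k % 126))) = true := by decide +kernel
theorem e7Cneg_1_2204 : allRange 2204 2242 ((fun k => commNegCheck Cfsg.Lie.chevE7 (k / 126) (k % 126))) = true := by decide +kernel
theorem e7Cneg_1_2242 : allRange 2242 2280 ((fun k => commNegCheck Cfsg.Lie.chevE7 (k / 126) (k % 126))) = true := by decide +kernel
theorem e7Cneg_1_2280 : allRange 2280 2318 ((fun k => commNegCheck Cfsg.Lie.chevE7 (k / 126) (k % 126))) = true := by decide +kernel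
theorem e7Cneg_1_2318 : allRange 2318 2356 ((fun k => commNegCheck Cfsg.Lie.chevE7 (k / 126) (k % 126))) = true := by decide +kernel
theorem e7Cneg_1_2356 : allRange 2356 2394 ((fun k => commNegCheck Cfsg.Lie.chevE7 (k / 126) (k % 126))) = true := by decide +kernel
theorem e7Cneg_1_2394 : allRange 2394 2432 ((fun k => commNegCheck Cfsg.Lie.chevE7 (k / 126) (k % 126))) = true := by decide +kernel
theorem e7Cneg_1_2432 : allRange 2432 2470 ((fun k => commNegCheck Cfsg.Lie.chevE7 (k / 126) (k % 126))) = true := by decide +kernel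
theorem e7Cneg_1_2470 : allRange 2470 2508 ((fun k => commNegCheck Cfsg.Lie.chevE7 (k / 126) (k % 126))) = true := by decide +kernel
theorem e7Cneg_1_2508 : allRange 2508 2546 ((fun k => commNegCheck Cfsg.Lie.chevE7 (k / 126) (k % 126))) = true := by decide +kernel
theorem e7Cneg_1_2546 : allRange 2546 2584 ((fun k => commNegCheck Cfsg.Lie.chevE7 (k / 126) (k % 126))) = true := by decide +kernel
theorem e7Cneg_1_2584 : allRange 2584 2622 ((fun k => commNegCheck Cfsg.Lie.chevE7 (k / 126) (k % 126))) = true := by decide +kernel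
theorem e7Cneg_1_2622 : allRange 2622 2660 ((fun k => commNegCheck Cfsg.Lie.chevE7 (k / 126) (k % 126))) = true := by decide +kernel
theorem e7Cneg_1_2660 : allRange 2660 2698 ((fun k => commNegCheck Cfsg.Lie.chevE7 (k / 126) (k % 126))) = true := by decide +kernel
theorem e7Cneg_1_2698 : allRange 2698 2736 ((fun k => commNegCheck Cfsg.Lie.chevE7 (k / 126) (k % 126))) = true := by decide +kernel
theorem e7Cneg_1_2736 : allRange 2736 2774 ((fun k => commNegCheck Cfsg.Lie.chevE7 (k / 126) (k % 126))) = true := by decide +kernel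
theorem e7Cneg_1_2774 : allRange 2774 2812 ((fun k => commNegCheck Cfsg.Lie.chevE7 (k / 126) (k % 126))) = true := by decide +kernel
theorem e7Cneg_1_2812 : allRange 2812 2850 ((fun k => commNegCheck Cfsg.Lie.chevE7 (k / 126) (k % 126))) = true := by decide +kernel
theorem e7Cneg_1_2850 : allRange 2850 2888 ((fun k => commNegCheck Cfsg.Lie.chevE7 (k / 126) (k % 126))) = true := by decide +kernel

/-- The commutator formula of type E7 for opposite roots (roots 1444 to 2887). -/
theorem e7Cneg_1 : ∀ r, 1444 ≤ r → r < 2888 → ((fun k => commNegCheck Cfsg.Lie.chevE7 (k / 126) (k % 126))) r = true := by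
  intro r h1 h2
  by_cases c0 : r < 1482
  · exact allRange_spec e7Cneg_1_1444 r (by omega) c0
  by_cases c1 : r < 1520
  · exact allRange_spec e7Cneg_1_1482 r (by omega) c1
  by_cases c2 : r < 1558
  · exact allRange_spec e7Cneg_1_1520 r (by omega) c2
  by_cases c3 : r < 1596
  · exact allRange_spec e7Cneg_1_1558 r (by omega) c3
  by_cases c4 : r < 1634
  · exact allRange_spec e7Cneg_1_1596 r (by omega) c4
  by_cases c5 : r < 1672
  · exact allRange_spec e7Cneg_1_1634 r (by omega) c5
  by_cases c6 : r < 1710
  · exact allRange_spec e7Cneg_1_1672 r (by omega) c6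
  by_cases c7 : r < 1748
  · exact allRange_spec e7Cneg_1_1710 r (by omega) c7
  by_cases c8 : r < 1786
  · exact allRange_spec e7Cneg_1_1748 r (by omega) c8
  by_cases c9 : r < 1824
  · exact allRange_spec e7Cneg_1_1786 r (by omega) c9
  by_cases c10 : r < 1862
  · exact allRange_spec e7Cneg_1_1824 r (by omega) c10
  by_cases c11 : r < 1900
  · exact allRange_spec e7Cneg_1_1862 r (by omega) c11
  by_cases c12 : r < 1938
  · exact allRange_spec e7Cneg_1_1900 r (by omega) c12
  by_cases c13 : r < 1976
  · exact allRange_spec e7Cneg_1_1938 r (by omega) c13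
  by_cases c14 : r < 2014
  · exact allRange_spec e7Cneg_1_1976 r (by omega) c14
  by_cases c15 : r < 2052
  · exact allRange_spec e7Cneg_1_2014 r (by omega) c15
  by_cases c16 : r < 2090
  · exact allRange_spec e7Cneg_1_2052 r (by omega) c16
  by_cases c17 : r < 2128
  · exact allRange_spec e7Cneg_1_2090 r (by omega) c17
  by_cases c18 : r < 2166
  · exact allRange_spec e7Cneg_1_2128 r (by omega) c18
  by_cases c19 : r < 2204
  · exact allRange_spec e7Cneg_1_2166 r (by omega) c19
  by_cases c20 : r < 2242
  · exact allRange_spec e7Cneg_1_2204 r (by omega) c20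
  by_cases c21 : r < 2280
  · exact allRange_spec e7Cneg_1_2242 r (by omega) c21
  by_cases c22 : r < 2318
  · exact allRange_spec e7Cneg_1_2280 r (by omega) c22
  by_cases c23 : r < 2356
  · exact allRange_spec e7Cneg_1_2318 r (by omega) c23
  by_cases c24 : r < 2394
  · exact allRange_spec e7Cneg_1_2356 r (by omega) c24
  by_cases c25 : r < 2432
  · exact allRange_spec e7Cneg_1_2394 r (by omega) c25
  by_cases c26 : r < 2470
  · exact allRange_spec e7Cneg_1_2432 r (by omega) c26
  by_cases c27 : r < 2508
  · exact allRange_spec e7Cneg_1_2470 r (by omega) c27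
  by_cases c28 : r < 2546
  · exact allRange_spec e7Cneg_1_2508 r (by omega) c28
  by_cases c29 : r < 2584
  · exact allRange_spec e7Cneg_1_2546 r (by omega) c29
  by_cases c30 : r < 2622
  · exact allRange_spec e7Cneg_1_2584 r (by omega) c30
  by_cases c31 : r < 2660
  · exact allRange_spec e7Cneg_1_2622 r (by omega) c31
  by_cases c32 : r < 2698
  · exact allRange_spec e7Cneg_1_2660 r (by omega) c32
  by_cases c33 : r < 2736
  · exact allRange_spec e7Cneg_1_2698 r (by omega) c33
  by_cases c34 : r < 2774
  · exact allRange_spec e7Cneg_1_2736 r (by omega) c34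
  by_cases c35 : r < 2812
  · exact allRange_spec e7Cneg_1_2774 r (by omega) c35
  by_cases c36 : r < 2850
  · exact allRange_spec e7Cneg_1_2812 r (by omega) c36
  exact allRange_spec e7Cneg_1_2850 r (by omega) h2

end Cfsg.Agent.Lib.Helper3.ChevM
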