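import Cfsg.Prelude.Def_ChevE7
import Cfsg.Agent.Lib.Helper3.StB5
set_option autoImplicit false
set_option maxRecDepth 1000000
set_option Elab.async false

namespace Cfsg.Agent.Lib.Helper3.ChevM
open Cfsg.Agent.Lib.Helper3.StB

theorem e7Cneg_2_2888 : allRange 2888 2926 ((fun k => commNegCheck Cfsg.Lie.chevE7 (k / 126) (k % 126))) = true := by decide +kernel
theorem e7Cneg_2_2926 : allRange 2926 2964 ((fun k => commNegCheck Cfsg.Lie.chevE7 (k / 126) (k % 126))) = true := by decide +kernel
theorem e7Cneg_2_2964 : allRange 2964 3002 ((fun k => commNegCheck Cfsg.Lie.chevE7 (k / 126) (k % 126))) = true := by decide +kernel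
theorem e7Cneg_2_3002 : allRange 3002 3040 ((fun k => commNegCheck Cfsg.Lie.chevE7 (k / 126) (k % 126))) = true := by decide +kernel
theorem e7Cneg_2_3040 : allRange 3040 3078 ((fun k => commNegCheck Cfsg.Lie.chevE7 (k / 126) (k % 126))) = true := by decide +kernel
theorem e7Cneg_2_3078 : allRange 3078 3116 ((fun k => commNegCheck Cfsg.Lie.chevE7 (k / 126) (k % 126))) = true := by decide +kernel
theorem e7Cneg_2_3116 : allRange 3116 3154 ((fun k => commNegCheck Cfsg.Lie.chevE7 (k / 126) (k % 126))) = true := by decide +kernel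
theorem e7Cneg_2_3154 : allRange 3154 3192 ((fun k => commNegCheck Cfsg.Lie.chevE7 (k / 126) (k % 126))) = true := by decide +kernel
theorem e7Cneg_2_3192 : allRange 3192 3230 ((fun k => commNegCheck Cfsg.Lie.chevE7 (k / 126) (k % 126))) = true := by decide +kernel
theorem e7Cneg_2_3230 : allRange 3230 3268 ((fun k => commNegCheck Cfsg.Lie.chevE7 (k / 126) (k % 126))) = true := by decide +kernel
theorem e7Cneg_2_3268 : allRange 3268 3306 ((fun k => commNegCheck Cfsg.Lie.chevE7 (k / 126) (k % 126))) = true := by decide +kernel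
theorem e7Cneg_2_3306 : allRange 3306 3344 ((fun k => commNegCheck Cfsg.Lie.chevE7 (k / 126) (k % 126))) = true := by decide +kernel
theorem e7Cneg_2_3344 : allRange 3344 3382 ((fun k => commNegCheck Cfsg.Lie.chevE7 (k / 126) (k % 126))) = true := by decide +kernel
theorem e7Cneg_2_3382 : allRange 3382 3420 ((fun k => commNegCheck Cfsg.Lie.chevE7 (k / 126) (k % 126))) = true := by decide +kernel
theorem e7Cneg_2_3420 : allRange 3420 3458 ((fun k => commNegCheck Cfsg.Lie.chevE7 (k / 126) (k % 126))) = true := by decide +kernel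
theorem e7Cneg_2_3458 : allRange 3458 3496 ((fun k => commNegCheck Cfsg.Lie.chevE7 (k / 126) (k % 126))) = true := by decide +kernel
theorem e7Cneg_2_3496 : allRange 3496 3534 ((fun k => commNegCheck Cfsg.Lie.chevE7 (k / 126) (k % 126))) = true := by decide +kernel
theorem e7Cneg_2_3534 : allRange 3534 3572 ((fun k => commNegCheck Cfsg.Lie.chevE7 (k / 126) (k % 126))) = true := by decide +kernel
theorem e7Cneg_2_3572 : allRange 3572 3610 ((fun k => commNegCheck Cfsg.Lie.chevE7 (k / 126) (k % 126))) = true := by decide +kernel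
theorem e7Cneg_2_3610 : allRange 3610 3648 ((fun k => commNegCheck Cfsg.Lie.chevE7 (k / 126) (k % 126))) = true := by decide +kernel
theorem e7Cneg_2_3648 : allRange 3648 3686 ((fun k => commNegCheck Cfsg.Lie.chevE7 (k / 126) (k % 126))) = true := by decide +kernel
theorem e7Cneg_2_3686 : allRange 3686 3724 ((fun k => commNegCheck Cfsg.Lie.chevE7 (k / 126) (k % 126))) = true := by decide +kernel
theorem e7Cneg_2_3724 : allRange 3724 3762 ((fun k => commNegCheck Cfsg.Lie.chevE7 (k / 126) (k % 126))) = true := by decide +kernel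
theorem e7Cneg_2_3762 : allRange 3762 3800 ((fun k => commNegCheck Cfsg.Lie.chevE7 (k / 126) (k % 126))) = true := by decide +kernel
theorem e7Cneg_2_3800 : allRange 3800 3838 ((fun k => commNegCheck Cfsg.Lie.chevE7 (k / 126) (k % 126))) = true := by decide +kernel
theorem e7Cneg_2_3838 : allRange 3838 3876 ((fun k => commNegCheck Cfsg.Lie.chevE7 (k / 126) (k % 126))) = true := by decide +kernel
theorem e7Cneg_2_3876 : allRange 3876 3914 ((fun k => commNegCheck Cfsg.Lie.chevE7 (k / 126) (k % 126))) = true := by decide +kernel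
theorem e7Cneg_2_3914 : allRange 3914 3952 ((fun k => commNegCheck Cfsg.Lie.chevE7 (k / 126) (k % 126))) = true := by decide +kernel
theorem e7Cneg_2_3952 : allRange 3952 3990 ((fun k => commNegCheck Cfsg.Lie.chevE7 (k / 126) (k % 126))) = true := by decide +kernel
theorem e7Cneg_2_3990 : allRange 3990 4028 ((fun k => commNegCheck Cfsg.Lie.chevE7 (k / 126) (k % 126))) = true := by decide +kernel
theorem e7Cneg_2_4028 : allRange 4028 4066 ((fun k => commNegCheck Cfsg.Lie.chevE7 (k / 126) (k % 126))) = true := by decide +kernel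
theorem e7Cneg_2_4066 : allRange 4066 4104 ((fun k => commNegCheck Cfsg.Lie.chevE7 (k / 126) (k % 126))) = true := by decide +kernel
theorem e7Cneg_2_4104 : allRange 4104 4142 ((fun k => commNegCheck Cfsg.Lie.chevE7 (k / 126) (k % 126))) = true := by decide +kernel
theorem e7Cneg_2_4142 : allRange 4142 4180 ((fun k => commNegCheck Cfsg.Lie.chevE7 (k / 126) (k % 126))) = true := by decide +kernel
theorem e7Cneg_2_4180 : allRange 4180 4218 ((fun k => commNegCheck Cfsg.Lie.chevE7 (k / 126) (k % 126))) = true := by decide +kernel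
theorem e7Cneg_2_4218 : allRange 4218 4256 ((fun k => commNegCheck Cfsg.Lie.chevE7 (k / 126) (k % 126))) = true := by decide +kernel
theorem e7Cneg_2_4256 : allRange 4256 4294 ((fun k => commNegCheck Cfsg.Lie.chevE7 (k / 126) (k % 126))) = true := by decide +kernel
theorem e7Cneg_2_4294 : allRange 4294 4332 ((fun k => commNegCheck Cfsg.Lie.chevE7 (k / 126) (k % 126))) = true := by decide +kernel

/-- The commutator formula of type E7 for opposite roots (roots 2888 to 4331). -/
theorem e7Cneg_2 : ∀ r, 2888 ≤ r → r < 4332 → ((fun k => commNegCheck Cfsg.Lie.chevE7 (k / 126) (k % 126))) r = true := by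
  intro r h1 h2
  by_cases c0 : r < 2926
  · exact allRange_spec e7Cneg_2_2888 r (by omega) c0
  by_cases c1 : r < 2964
  · exact allRange_spec e7Cneg_2_2926 r (by omega) c1
  by_cases c2 : r < 3002
  · exact allRange_spec e7Cneg_2_2964 r (by omega) c2
  by_cases c3 : r < 3040
  · exact allRange_spec e7Cneg_2_3002 r (by omega) c3
  by_cases c4 : r < 3078
  · exact allRange_spec e7Cneg_2_3040 r (by omega) c4
  by_cases c5 : r < 3116
  · exact allRange_spec e7Cneg_2_3078 r (by omega) c5
  by_cases c6 : r < 3154
  · exact allRange_spec e7Cneg_2_3116 r (by omega) c6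
  by_cases c7 : r < 3192
  · exact allRange_spec e7Cneg_2_3154 r (by omega) c7
  by_cases c8 : r < 3230
  · exact allRange_spec e7Cneg_2_3192 r (by omega) c8
  by_cases c9 : r < 3268
  · exact allRange_spec e7Cneg_2_3230 r (by omega) c9
  by_cases c10 : r < 3306
  · exact allRange_spec e7Cneg_2_3268 r (by omega) c10
  by_cases c11 : r < 3344
  · exact allRange_spec e7Cneg_2_3306 r (by omega) c11
  by_cases c12 : r < 3382
  · exact allRange_spec e7Cneg_2_3344 r (by omega) c12
  by_cases c13 : r < 3420
  · exact allRange_spec e7Cneg_2_3382 r (by omega) c13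
  by_cases c14 : r < 3458
  · exact allRange_spec e7Cneg_2_3420 r (by omega) c14
  by_cases c15 : r < 3496
  · exact allRange_spec e7Cneg_2_3458 r (by omega) c15
  by_cases c16 : r < 3534
  · exact allRange_spec e7Cneg_2_3496 r (by omega) c16
  by_cases c17 : r < 3572
  · exact allRange_spec e7Cneg_2_3534 r (by omega) c17
  by_cases c18 : r < 3610
  · exact allRange_spec e7Cneg_2_3572 r (by omega) c18
  by_cases c19 : r < 3648
  · exact allRange_spec e7Cneg_2_3610 r (by omega) c19
  by_cases c20 : r < 3686
  · exact allRange_spec e7Cneg_2_3648 r (by omega) c20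
  by_cases c21 : r < 3724
  · exact allRange_spec e7Cneg_2_3686 r (by omega) c21
  by_cases c22 : r < 3762
  · exact allRange_spec e7Cneg_2_3724 r (by omega) c22
  by_cases c23 : r < 3800
  · exact allRange_spec e7Cneg_2_3762 r (by omega) c23
  by_cases c24 : r < 3838
  · exact allRange_spec e7Cneg_2_3800 r (by omega) c24
  by_cases c25 : r < 3876
  · exact allRange_spec e7Cneg_2_3838 r (by omega) c25
  by_cases c26 : r < 3914
  · exact allRange_spec e7Cneg_2_3876 r (by omega) c26
  by_cases c27 : r < 3952
  · exact allRange_spec e7Cneg_2_3914 r (by omega) c27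
  by_cases c28 : r < 3990
  · exact allRange_spec e7Cneg_2_3952 r (by omega) c28
  by_cases c29 : r < 4028
  · exact allRange_spec e7Cneg_2_3990 r (by omega) c29
  by_cases c30 : r < 4066
  · exact allRange_spec e7Cneg_2_4028 r (by omega) c30
  by_cases c31 : r < 4104
  · exact allRange_spec e7Cneg_2_4066 r (by omega) c31
  by_cases c32 : r < 4142
  · exact allRange_spec e7Cneg_2_4104 r (by omega) c32
  by_cases c33 : r < 4180
  · exact allRange_spec e7Cneg_2_4142 r (by omega) c33
  by_cases c34 : r < 4218
  · exact allRange_spec e7Cneg_2_4180 r (by omega) c34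
  by_cases c35 : r < 4256
  · exact allRange_spec e7Cneg_2_4218 r (by omega) c35
  by_cases c36 : r < 4294
  · exact allRange_spec e7Cneg_2_4256 r (by omega) c36
  exact allRange_spec e7Cneg_2_4294 r (by omega) h2

end Cfsg.Agent.Lib.Helper3.ChevM
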