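import Cfsg.Prelude.Def_ChevE7
import Cfsg.Agent.Lib.Helper3.StB5
set_option autoImplicit false
set_option maxRecDepth 1000000
set_option Elab.async false

namespace Cfsg.Agent.Lib.Helper3.ChevM
open Cfsg.Agent.Lib.Helper3.StB

theorem e7Cneg_3_4332 : allRange 4332 4370 ((fun k => commNegCheck Cfsg.Lie.chevE7 (k / 126) (k % 126))) = true := by decide +kernel
theorem e7Cneg_3_4370 : allRange 4370 4408 ((fun k => commNegCheck Cfsg.Lie.chevE7 (k / 126) (k % 126))) = true := by decide +kernel
theorem e7Cneg_3_4408 : allRange 4408 4446 ((fun k => commNegCheck Cfsg.Lie.chevE7 (k / 126) (k % 126))) = true := by decide +kernel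
theorem e7Cneg_3_4446 : allRange 4446 4484 ((fun k => commNegCheck Cfsg.Lie.chevE7 (k / 126) (k % 126))) = true := by decide +kernel
theorem e7Cneg_3_4484 : allRange 4484 4522 ((fun k => commNegCheck Cfsg.Lie.chevE7 (k / 126) (k % 126))) = true := by decide +kernel
theorem e7Cneg_3_4522 : allRange 4522 4560 ((fun k => commNegCheck Cfsg.Lie.chevE7 (k / 126) (k % 126))) = true := by decide +kernel
theorem e7Cneg_3_4560 : allRange 4560 4598 ((fun k => commNegCheck Cfsg.Lie.chevE7 (k / 126) (k % 126))) = true := by decide +kernel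
theorem e7Cneg_3_4598 : allRange 4598 4636 ((fun k => commNegCheck Cfsg.Lie.chevE7 (k / 126) (k % 126))) = true := by decide +kernel
theorem e7Cneg_3_4636 : allRange 4636 4674 ((fun k => commNegCheck Cfsg.Lie.chevE7 (k / 126) (k % 126))) = true := by decide +kernel
theorem e7Cneg_3_4674 : allRange 4674 4712 ((fun k => commNegCheck Cfsg.Lie.chevE7 (k / 126) (k % 126))) = true := by decide +kernel
theorem e7Cneg_3_4712 : allRange 4712 4750 ((fun k => commNegCheck Cfsg.Lie.chevE7 (k / 126) (k % 126))) = true := by decide +kernel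
theorem e7Cneg_3_4750 : allRange 4750 4788 ((fun k => commNegCheck Cfsg.Lie.chevE7 (k / 126) (k % 126))) = true := by decide +kernel
theorem e7Cneg_3_4788 : allRange 4788 4826 ((fun k => commNegCheck Cfsg.Lie.chevE7 (k / 126) (k % 126))) = true := by decide +kernel
theorem e7Cneg_3_4826 : allRange 4826 4864 ((fun k => commNegCheck Cfsg.Lie.chevE7 (k / 126) (k % 126))) = true := by decide +kernel
theorem e7Cneg_3_4864 : allRange 4864 4902 ((fun k => commNegCheck Cfsg.Lie.chevE7 (k / 126) (k % 126))) = true := by decide +kernel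
theorem e7Cneg_3_4902 : allRange 4902 4940 ((fun k => commNegCheck Cfsg.Lie.chevE7 (k / 126) (k % 126))) = true := by decide +kernel
theorem e7Cneg_3_4940 : allRange 4940 4978 ((fun k => commNegCheck Cfsg.Lie.chevE7 (k / 126) (k % 126))) = true := by decide +kernel
theorem e7Cneg_3_4978 : allRange 4978 5016 ((fun k => commNegCheck Cfsg.Lie.chevE7 (k / 126) (k % 126))) = true := by decide +kernel
theorem e7Cneg_3_5016 : allRange 5016 5054 ((fun k => commNegCheck Cfsg.Lie.chevE7 (k / 126) (k % 126))) = true := by decide +kernel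
theorem e7Cneg_3_5054 : allRange 5054 5092 ((fun k => commNegCheck Cfsg.Lie.chevE7 (k / 126) (k % 126))) = true := by decide +kernel
theorem e7Cneg_3_5092 : allRange 5092 5130 ((fun k => commNegCheck Cfsg.Lie.chevE7 (k / 126) (k % 126))) = true := by decide +kernel
theorem e7Cneg_3_5130 : allRange 5130 5168 ((fun k => commNegCheck Cfsg.Lie.chevE7 (k / 126) (k % 126))) = true := by decide +kernel
theorem e7Cneg_3_5168 : allRange 5168 5206 ((fun k => commNegCheck Cfsg.Lie.chevE7 (k / 126) (k % 126))) = true := by decide +kernel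
theorem e7Cneg_3_5206 : allRange 5206 5244 ((fun k => commNegCheck Cfsg.Lie.chevE7 (k / 126) (k % 126))) = true := by decide +kernel
theorem e7Cneg_3_5244 : allRange 5244 5282 ((fun k => commNegCheck Cfsg.Lie.chevE7 (k / 126) (k % 126))) = true := by decide +kernel
theorem e7Cneg_3_5282 : allRange 5282 5320 ((fun k => commNegCheck Cfsg.Lie.chevE7 (k / 126) (k % 126))) = true := by decide +kernel
theorem e7Cneg_3_5320 : allRange 5320 5358 ((fun k => commNegCheck Cfsg.Lie.chevE7 (k / 126) (k % 126))) = true := by decide +kernel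
theorem e7Cneg_3_5358 : allRange 5358 5396 ((fun k => commNegCheck Cfsg.Lie.chevE7 (k / 126) (k % 126))) = true := by decide +kernel
theorem e7Cneg_3_5396 : allRange 5396 5434 ((fun k => commNegCheck Cfsg.Lie.chevE7 (k / 126) (k % 126))) = true := by decide +kernel
theorem e7Cneg_3_5434 : allRange 5434 5472 ((fun k => commNegCheck Cfsg.Lie.chevE7 (k / 126) (k % 126))) = true := by decide +kernel
theorem e7Cneg_3_5472 : allRange 5472 5510 ((fun k => commNegCheck Cfsg.Lie.chevE7 (k / 126) (k % 126))) = true := by decide +kernel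
theorem e7Cneg_3_5510 : allRange 5510 5548 ((fun k => commNegCheck Cfsg.Lie.chevE7 (k / 126) (k % 126))) = true := by decide +kernel
theorem e7Cneg_3_5548 : allRange 5548 5586 ((fun k => commNegCheck Cfsg.Lie.chevE7 (k / 126) (k % 126))) = true := by decide +kernel
theorem e7Cneg_3_5586 : allRange 5586 5624 ((fun k => commNegCheck Cfsg.Lie.chevE7 (k / 126) (k % 126))) = true := by decide +kernel
theorem e7Cneg_3_5624 : allRange 5624 5662 ((fun k => commNegCheck Cfsg.Lie.chevE7 (k / 126) (k % 126))) = true := by decide +kernel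
theorem e7Cneg_3_5662 : allRange 5662 5700 ((fun k => commNegCheck Cfsg.Lie.chevE7 (k / 126) (k % 126))) = true := by decide +kernel
theorem e7Cneg_3_5700 : allRange 5700 5738 ((fun k => commNegCheck Cfsg.Lie.chevE7 (k / 126) (k % 126))) = true := by decide +kernel
theorem e7Cneg_3_5738 : allRange 5738 5776 ((fun k => commNegCheck Cfsg.Lie.chevE7 (k / 126) (k % 126))) = true := by decide +kernel

/-- The commutator formula of type E7 for opposite roots (roots 4332 to 5775). -/
theorem e7Cneg_3 : ∀ r, 4332 ≤ r → r < 5776 → ((fun k => commNegCheck Cfsg.Lie.chevE7 (k / 126) (k % 126))) r = true := by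
  intro r h1 h2
  by_cases c0 : r < 4370
  · exact allRange_spec e7Cneg_3_4332 r (by omega) c0
  by_cases c1 : r < 4408
  · exact allRange_spec e7Cneg_3_4370 r (by omega) c1
  by_cases c2 : r < 4446
  · exact allRange_spec e7Cneg_3_4408 r (by omega) c2
  by_cases c3 : r < 4484
  · exact allRange_spec e7Cneg_3_4446 r (by omega) c3
  by_cases c4 : r < 4522
  · exact allRange_spec e7Cneg_3_4484 r (by omega) c4
  by_cases c5 : r < 4560
  · exact allRange_spec e7Cneg_3_4522 r (by omega) c5
  by_cases c6 : r < 4598
  · exact allRange_spec e7Cneg_3_4560 r (by omega) c6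
  by_cases c7 : r < 4636
  · exact allRange_spec e7Cneg_3_4598 r (by omega) c7
  by_cases c8 : r < 4674
  · exact allRange_spec e7Cneg_3_4636 r (by omega) c8
  by_cases c9 : r < 4712
  · exact allRange_spec e7Cneg_3_4674 r (by omega) c9
  by_cases c10 : r < 4750
  · exact allRange_spec e7Cneg_3_4712 r (by omega) c10
  by_cases c11 : r < 4788
  · exact allRange_spec e7Cneg_3_4750 r (by omega) c11
  by_cases c12 : r < 4826
  · exact allRange_spec e7Cneg_3_4788 r (by omega) c12
  by_cases c13 : r < 4864
  · exact allRange_spec e7Cneg_3_4826 r (by omega) c13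
  by_cases c14 : r < 4902
  · exact allRange_spec e7Cneg_3_4864 r (by omega) c14
  by_cases c15 : r < 4940
  · exact allRange_spec e7Cneg_3_4902 r (by omega) c15
  by_cases c16 : r < 4978
  · exact allRange_spec e7Cneg_3_4940 r (by omega) c16
  by_cases c17 : r < 5016
  · exact allRange_spec e7Cneg_3_4978 r (by omega) c17
  by_cases c18 : r < 5054
  · exact allRange_spec e7Cneg_3_5016 r (by omega) c18
  by_cases c19 : r < 5092
  · exact allRange_spec e7Cneg_3_5054 r (by omega) c19
  by_cases c20 : r < 5130
  · exact allRange_spec e7Cneg_3_5092 r (by omega) c20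
  by_cases c21 : r < 5168
  · exact allRange_spec e7Cneg_3_5130 r (by omega) c21
  by_cases c22 : r < 5206
  · exact allRange_spec e7Cneg_3_5168 r (by omega) c22
  by_cases c23 : r < 5244
  · exact allRange_spec e7Cneg_3_5206 r (by omega) c23
  by_cases c24 : r < 5282
  · exact allRange_spec e7Cneg_3_5244 r (by omega) c24
  by_cases c25 : r < 5320
  · exact allRange_spec e7Cneg_3_5282 r (by omega) c25
  by_cases c26 : r < 5358
  · exact allRange_spec e7Cneg_3_5320 r (by omega) c26
  by_cases c27 : r < 5396
  · exact allRange_spec e7Cneg_3_5358 r (by omega) c27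
  by_cases c28 : r < 5434
  · exact allRange_spec e7Cneg_3_5396 r (by omega) c28
  by_cases c29 : r < 5472
  · exact allRange_spec e7Cneg_3_5434 r (by omega) c29
  by_cases c30 : r < 5510
  · exact allRange_spec e7Cneg_3_5472 r (by omega) c30
  by_cases c31 : r < 5548
  · exact allRange_spec e7Cneg_3_5510 r (by omega) c31
  by_cases c32 : r < 5586
  · exact allRange_spec e7Cneg_3_5548 r (by omega) c32
  by_cases c33 : r < 5624
  · exact allRange_spec e7Cneg_3_5586 r (by omega) c33
  by_cases c34 : r < 5662
  · exact allRange_spec e7Cneg_3_5624 r (by omega) c34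
  by_cases c35 : r < 5700
  · exact allRange_spec e7Cneg_3_5662 r (by omega) c35
  by_cases c36 : r < 5738
  · exact allRange_spec e7Cneg_3_5700 r (by omega) c36
  exact allRange_spec e7Cneg_3_5738 r (by omega) h2

end Cfsg.Agent.Lib.Helper3.ChevM
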