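import Cfsg.Prelude.Def_ChevE7
import Cfsg.Agent.Lib.Helper3.StB5
set_option autoImplicit false
set_option maxRecDepth 1000000
set_option Elab.async false

namespace Cfsg.Agent.Lib.Helper3.ChevM
open Cfsg.Agent.Lib.Helper3.StB

theorem e7Cneg_4_5776 : allRange 5776 5814 ((fun k => commNegCheck Cfsg.Lie.chevE7 (k / 126) (k % 126))) = true := by decide +kernel
theorem e7Cneg_4_5814 : allRange 5814 5852 ((fun k => commNegCheck Cfsg.Lie.chevE7 (k / 126) (k % 126))) = true := by decide +kernel
theorem e7Cneg_4_5852 : allRange 5852 5890 ((fun k => commNegCheck Cfsg.Lie.chevE7 (k / 126) (k % 126))) = true := by decide +kernel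
theorem e7Cneg_4_5890 : allRange 5890 5928 ((fun k => commNegCheck Cfsg.Lie.chevE7 (k / 126) (k % 126))) = true := by decide +kernel
theorem e7Cneg_4_5928 : allRange 5928 5966 ((fun k => commNegCheck Cfsg.Lie.chevE7 (k / 126) (k % 126))) = true := by decide +kernel
theorem e7Cneg_4_5966 : allRange 5966 6004 ((fun k => commNegCheck Cfsg.Lie.chevE7 (k / 126) (k % 126))) = true := by decide +kernel
theorem e7Cneg_4_6004 : allRange 6004 6042 ((fun k => commNegCheck Cfsg.Lie.chevE7 (k / 126) (k % 126))) = true := by decide +kernel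
theorem e7Cneg_4_6042 : allRange 6042 6080 ((fun k => commNegCheck Cfsg.Lie.chevE7 (k / 126) (k % 126))) = true := by decide +kernel
theorem e7Cneg_4_6080 : allRange 6080 6118 ((fun k => commNegCheck Cfsg.Lie.chevE7 (k / 126) (k % 126))) = true := by decide +kernel
theorem e7Cneg_4_6118 : allRange 6118 6156 ((fun k => commNegCheck Cfsg.Lie.chevE7 (k / 126) (k % 126))) = true := by decide +kernel
theorem e7Cneg_4_6156 : allRange 6156 6194 ((fun k => commNegCheck Cfsg.Lie.chevE7 (k / 126) (k % 126))) = true := by decide +kernel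
theorem e7Cneg_4_6194 : allRange 6194 6232 ((fun k => commNegCheck Cfsg.Lie.chevE7 (k / 126) (k % 126))) = true := by decide +kernel
theorem e7Cneg_4_6232 : allRange 6232 6270 ((fun k => commNegCheck Cfsg.Lie.chevE7 (k / 126) (k % 126))) = true := by decide +kernel
theorem e7Cneg_4_6270 : allRange 6270 6308 ((fun k => commNegCheck Cfsg.Lie.chevE7 (k / 126) (k % 126))) = true := by decide +kernel
theorem e7Cneg_4_6308 : allRange 6308 6346 ((fun k => commNegCheck Cfsg.Lie.chevE7 (k / 126) (k % 126))) = true := by decide +kernel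
theorem e7Cneg_4_6346 : allRange 6346 6384 ((fun k => commNegCheck Cfsg.Lie.chevE7 (k / 126) (k % 126))) = true := by decide +kernel
theorem e7Cneg_4_6384 : allRange 6384 6422 ((fun k => commNegCheck Cfsg.Lie.chevE7 (k / 126) (k % 126))) = true := by decide +kernel
theorem e7Cneg_4_6422 : allRange 6422 6460 ((fun k => commNegCheck Cfsg.Lie.chevE7 (k / 126) (k % 126))) = true := by decide +kernel
theorem e7Cneg_4_6460 : allRange 6460 6498 ((fun k => commNegCheck Cfsg.Lie.chevE7 (k / 126) (k % 126))) = true := by decide +kernel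
theorem e7Cneg_4_6498 : allRange 6498 6536 ((fun k => commNegCheck Cfsg.Lie.chevE7 (k / 126) (k % 126))) = true := by decide +kernel
theorem e7Cneg_4_6536 : allRange 6536 6574 ((fun k => commNegCheck Cfsg.Lie.chevE7 (k / 126) (k % 126))) = true := by decide +kernel
theorem e7Cneg_4_6574 : allRange 6574 6612 ((fun k => commNegCheck Cfsg.Lie.chevE7 (k / 126) (k % 126))) = true := by decide +kernel
theorem e7Cneg_4_6612 : allRange 6612 6650 ((fun k => commNegCheck Cfsg.Lie.chevE7 (k / 126) (k % 126))) = true := by decide +kernel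
theorem e7Cneg_4_6650 : allRange 6650 6688 ((fun k => commNegCheck Cfsg.Lie.chevE7 (k / 126) (k % 126))) = true := by decide +kernel
theorem e7Cneg_4_6688 : allRange 6688 6726 ((fun k => commNegCheck Cfsg.Lie.chevE7 (k / 126) (k % 126))) = true := by decide +kernel
theorem e7Cneg_4_6726 : allRange 6726 6764 ((fun k => commNegCheck Cfsg.Lie.chevE7 (k / 126) (k % 126))) = true := by decide +kernel
theorem e7Cneg_4_6764 : allRange 6764 6802 ((fun k => commNegCheck Cfsg.Lie.chevE7 (k / 126) (k % 126))) = true := by decide +kernel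
theorem e7Cneg_4_6802 : allRange 6802 6840 ((fun k => commNegCheck Cfsg.Lie.chevE7 (k / 126) (k % 126))) = true := by decide +kernel
theorem e7Cneg_4_6840 : allRange 6840 6878 ((fun k => commNegCheck Cfsg.Lie.chevE7 (k / 126) (k % 126))) = true := by decide +kernel
theorem e7Cneg_4_6878 : allRange 6878 6916 ((fun k => commNegCheck Cfsg.Lie.chevE7 (k / 126) (k % 126))) = true := by decide +kernel
theorem e7Cneg_4_6916 : allRange 6916 6954 ((fun k => commNegCheck Cfsg.Lie.chevE7 (k / 126) (k % 126))) = true := by decide +kernel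
theorem e7Cneg_4_6954 : allRange 6954 6992 ((fun k => commNegCheck Cfsg.Lie.chevE7 (k / 126) (k % 126))) = true := by decide +kernel
theorem e7Cneg_4_6992 : allRange 6992 7030 ((fun k => commNegCheck Cfsg.Lie.chevE7 (k / 126) (k % 126))) = true := by decide +kernel
theorem e7Cneg_4_7030 : allRange 7030 7068 ((fun k => commNegCheck Cfsg.Lie.chevE7 (k / 126) (k % 126))) = true := by decide +kernel
theorem e7Cneg_4_7068 : allRange 7068 7106 ((fun k => commNegCheck Cfsg.Lie.chevE7 (k / 126) (k % 126))) = true := by decide +kernel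
theorem e7Cneg_4_7106 : allRange 7106 7144 ((fun k => commNegCheck Cfsg.Lie.chevE7 (k / 126) (k % 126))) = true := by decide +kernel
theorem e7Cneg_4_7144 : allRange 7144 7182 ((fun k => commNegCheck Cfsg.Lie.chevE7 (k / 126) (k % 126))) = true := by decide +kernel
theorem e7Cneg_4_7182 : allRange 7182 7220 ((fun k => commNegCheck Cfsg.Lie.chevE7 (k / 126) (k % 126))) = true := by decide +kernel

/-- The commutator formula of type E7 for opposite roots (roots 5776 to 7219). -/
theorem e7Cneg_4 : ∀ r, 5776 ≤ r → r < 7220 → ((fun k => commNegCheck Cfsg.Lie.chevE7 (k / 126) (k % 126))) r = true := by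
  intro r h1 h2
  by_cases c0 : r < 5814
  · exact allRange_spec e7Cneg_4_5776 r (by omega) c0
  by_cases c1 : r < 5852
  · exact allRange_spec e7Cneg_4_5814 r (by omega) c1
  by_cases c2 : r < 5890
  · exact allRange_spec e7Cneg_4_5852 r (by omega) c2
  by_cases c3 : r < 5928
  · exact allRange_spec e7Cneg_4_5890 r (by omega) c3
  by_cases c4 : r < 5966
  · exact allRange_spec e7Cneg_4_5928 r (by omega) c4
  by_cases c5 : r < 6004
  · exact allRange_spec e7Cneg_4_5966 r (by omega) c5
  by_cases c6 : r < 6042
  · exact allRange_spec e7Cneg_4_6004 r (by omega) c6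
  by_cases c7 : r < 6080
  · exact allRange_spec e7Cneg_4_6042 r (by omega) c7
  by_cases c8 : r < 6118
  · exact allRange_spec e7Cneg_4_6080 r (by omega) c8
  by_cases c9 : r < 6156
  · exact allRange_spec e7Cneg_4_6118 r (by omega) c9
  by_cases c10 : r < 6194
  · exact allRange_spec e7Cneg_4_6156 r (by omega) c10
  by_cases c11 : r < 6232
  · exact allRange_spec e7Cneg_4_6194 r (by omega) c11
  by_cases c12 : r < 6270
  · exact allRange_spec e7Cneg_4_6232 r (by omega) c12
  by_cases c13 : r < 6308
  · exact allRange_spec e7Cneg_4_6270 r (by omega) c13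
  by_cases c14 : r < 6346
  · exact allRange_spec e7Cneg_4_6308 r (by omega) c14
  by_cases c15 : r < 6384
  · exact allRange_spec e7Cneg_4_6346 r (by omega) c15
  by_cases c16 : r < 6422
  · exact allRange_spec e7Cneg_4_6384 r (by omega) c16
  by_cases c17 : r < 6460
  · exact allRange_spec e7Cneg_4_6422 r (by omega) c17
  by_cases c18 : r < 6498
  · exact allRange_spec e7Cneg_4_6460 r (by omega) c18
  by_cases c19 : r < 6536
  · exact allRange_spec e7Cneg_4_6498 r (by omega) c19
  by_cases c20 : r < 6574
  · exact allRange_spec e7Cneg_4_6536 r (by omega) c20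
  by_cases c21 : r < 6612
  · exact allRange_spec e7Cneg_4_6574 r (by omega) c21
  by_cases c22 : r < 6650
  · exact allRange_spec e7Cneg_4_6612 r (by omega) c22
  by_cases c23 : r < 6688
  · exact allRange_spec e7Cneg_4_6650 r (by omega) c23
  by_cases c24 : r < 6726
  · exact allRange_spec e7Cneg_4_6688 r (by omega) c24
  by_cases c25 : r < 6764
  · exact allRange_spec e7Cneg_4_6726 r (by omega) c25
  by_cases c26 : r < 6802
  · exact allRange_spec e7Cneg_4_6764 r (by omega) c26
  by_cases c27 : r < 6840
  · exact allRange_spec e7Cneg_4_6802 r (by omega) c27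
  by_cases c28 : r < 6878
  · exact allRange_spec e7Cneg_4_6840 r (by omega) c28
  by_cases c29 : r < 6916
  · exact allRange_spec e7Cneg_4_6878 r (by omega) c29
  by_cases c30 : r < 6954
  · exact allRange_spec e7Cneg_4_6916 r (by omega) c30
  by_cases c31 : r < 6992
  · exact allRange_spec e7Cneg_4_6954 r (by omega) c31
  by_cases c32 : r < 7030
  · exact allRange_spec e7Cneg_4_6992 r (by omega) c32
  by_cases c33 : r < 7068
  · exact allRange_spec e7Cneg_4_7030 r (by omega) c33
  by_cases c34 : r < 7106
  · exact allRange_spec e7Cneg_4_7068 r (by omega) c34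
  by_cases c35 : r < 7144
  · exact allRange_spec e7Cneg_4_7106 r (by omega) c35
  by_cases c36 : r < 7182
  · exact allRange_spec e7Cneg_4_7144 r (by omega) c36
  exact allRange_spec e7Cneg_4_7182 r (by omega) h2

end Cfsg.Agent.Lib.Helper3.ChevM
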