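import Cfsg.Prelude.Def_ChevE7
import Cfsg.Agent.Lib.Helper3.StB5
set_option autoImplicit false
set_option maxRecDepth 1000000
set_option Elab.async false

namespace Cfsg.Agent.Lib.Helper3.ChevM
open Cfsg.Agent.Lib.Helper3.StB

theorem e7Cneg_5_7220 : allRange 7220 7258 ((fun k => commNegCheck Cfsg.Lie.chevE7 (k / 126) (k % 126))) = true := by decide +kernel
theorem e7Cneg_5_7258 : allRange 7258 7296 ((fun k => commNegCheck Cfsg.Lie.chevE7 (k / 126) (k % 126))) = true := by decide +kernel
theorem e7Cneg_5_7296 : allRange 7296 7334 ((fun k => commNegCheck Cfsg.Lie.chevE7 (k / 126) (k % 126))) = true := by decide +kernel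
theorem e7Cneg_5_7334 : allRange 7334 7372 ((fun k => commNegCheck Cfsg.Lie.chevE7 (k / 126) (k % 126))) = true := by decide +kernel
theorem e7Cneg_5_7372 : allRange 7372 7410 ((fun k => commNegCheck Cfsg.Lie.chevE7 (k / 126) (k % 126))) = true := by decide +kernel
theorem e7Cneg_5_7410 : allRange 7410 7448 ((fun k => commNegCheck Cfsg.Lie.chevE7 (k / 126) (k % 126))) = true := by decide +kernel
theorem e7Cneg_5_7448 : allRange 7448 7486 ((fun k => commNegCheck Cfsg.Lie.chevE7 (k / 126) (k % 126))) = true := by decide +kernel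
theorem e7Cneg_5_7486 : allRange 7486 7524 ((fun k => commNegCheck Cfsg.Lie.chevE7 (k / 126) (k % 126))) = true := by decide +kernel
theorem e7Cneg_5_7524 : allRange 7524 7562 ((fun k => commNegCheck Cfsg.Lie.chevE7 (k / 126) (k % 126))) = true := by decide +kernel
theorem e7Cneg_5_7562 : allRange 7562 7600 ((fun k => commNegCheck Cfsg.Lie.chevE7 (k / 126) (k % 126))) = true := by decide +kernel
theorem e7Cneg_5_7600 : allRange 7600 7638 ((fun k => commNegCheck Cfsg.Lie.chevE7 (k / 126) (k % 126))) = true := by decide +kernel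
theorem e7Cneg_5_7638 : allRange 7638 7676 ((fun k => commNegCheck Cfsg.Lie.chevE7 (k / 126) (k % 126))) = true := by decide +kernel
theorem e7Cneg_5_7676 : allRange 7676 7714 ((fun k => commNegCheck Cfsg.Lie.chevE7 (k / 126) (k % 126))) = true := by decide +kernel
theorem e7Cneg_5_7714 : allRange 7714 7752 ((fun k => commNegCheck Cfsg.Lie.chevE7 (k / 126) (k % 126))) = true := by decide +kernel
theorem e7Cneg_5_7752 : allRange 7752 7790 ((fun k => commNegCheck Cfsg.Lie.chevE7 (k / 126) (k % 126))) = true := by decide +kernel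
theorem e7Cneg_5_7790 : allRange 7790 7828 ((fun k => commNegCheck Cfsg.Lie.chevE7 (k / 126) (k % 126))) = true := by decide +kernel
theorem e7Cneg_5_7828 : allRange 7828 7866 ((fun k => commNegCheck Cfsg.Lie.chevE7 (k / 126) (k % 126))) = true := by decide +kernel
theorem e7Cneg_5_7866 : allRange 7866 7904 ((fun k => commNegCheck Cfsg.Lie.chevE7 (k / 126) (k % 126))) = true := by decide +kernel
theorem e7Cneg_5_7904 : allRange 7904 7942 ((fun k => commNegCheck Cfsg.Lie.chevE7 (k / 126) (k % 126))) = true := by decide +kernel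
theorem e7Cneg_5_7942 : allRange 7942 7980 ((fun k => commNegCheck Cfsg.Lie.chevE7 (k / 126) (k % 126))) = true := by decide +kernel
theorem e7Cneg_5_7980 : allRange 7980 8018 ((fun k => commNegCheck Cfsg.Lie.chevE7 (k / 126) (k % 126))) = true := by decide +kernel
theorem e7Cneg_5_8018 : allRange 8018 8056 ((fun k => commNegCheck Cfsg.Lie.chevE7 (k / 126) (k % 126))) = true := by decide +kernel
theorem e7Cneg_5_8056 : allRange 8056 8094 ((fun k => commNegCheck Cfsg.Lie.chevE7 (k / 126) (k % 126))) = true := by decide +kernel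
theorem e7Cneg_5_8094 : allRange 8094 8132 ((fun k => commNegCheck Cfsg.Lie.chevE7 (k / 126) (k % 126))) = true := by decide +kernel
theorem e7Cneg_5_8132 : allRange 8132 8170 ((fun k => commNegCheck Cfsg.Lie.chevE7 (k / 126) (k % 126))) = true := by decide +kernel
theorem e7Cneg_5_8170 : allRange 8170 8208 ((fun k => commNegCheck Cfsg.Lie.chevE7 (k / 126) (k % 126))) = true := by decide +kernel
theorem e7Cneg_5_8208 : allRange 8208 8246 ((fun k => commNegCheck Cfsg.Lie.chevE7 (k / 126) (k % 126))) = true := by decide +kernel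
theorem e7Cneg_5_8246 : allRange 8246 8284 ((fun k => commNegCheck Cfsg.Lie.chevE7 (k / 126) (k % 126))) = true := by decide +kernel
theorem e7Cneg_5_8284 : allRange 8284 8322 ((fun k => commNegCheck Cfsg.Lie.chevE7 (k / 126) (k % 126))) = true := by decide +kernel
theorem e7Cneg_5_8322 : allRange 8322 8360 ((fun k => commNegCheck Cfsg.Lie.chevE7 (k / 126) (k % 126))) = true := by decide +kernel
theorem e7Cneg_5_8360 : allRange 8360 8398 ((fun k => commNegCheck Cfsg.Lie.chevE7 (k / 126) (k % 126))) = true := by decide +kernel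
theorem e7Cneg_5_8398 : allRange 8398 8436 ((fun k => commNegCheck Cfsg.Lie.chevE7 (k / 126) (k % 126))) = true := by decide +kernel
theorem e7Cneg_5_8436 : allRange 8436 8474 ((fun k => commNegCheck Cfsg.Lie.chevE7 (k / 126) (k % 126))) = true := by decide +kernel
theorem e7Cneg_5_8474 : allRange 8474 8512 ((fun k => commNegCheck Cfsg.Lie.chevE7 (k / 126) (k % 126))) = true := by decide +kernel
theorem e7Cneg_5_8512 : allRange 8512 8550 ((fun k => commNegCheck Cfsg.Lie.chevE7 (k / 126) (k % 126))) = true := by decide +kernel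
theorem e7Cneg_5_8550 : allRange 8550 8588 ((fun k => commNegCheck Cfsg.Lie.chevE7 (k / 126) (k % 126))) = true := by decide +kernel
theorem e7Cneg_5_8588 : allRange 8588 8626 ((fun k => commNegCheck Cfsg.Lie.chevE7 (k / 126) (k % 126))) = true := by decide +kernel
theorem e7Cneg_5_8626 : allRange 8626 8664 ((fun k => commNegCheck Cfsg.Lie.chevE7 (k / 126) (k % 126))) = true := by decide +kernel

/-- The commutator formula of type E7 for opposite roots (roots 7220 to 8663). -/
theorem e7Cneg_5 : ∀ r, 7220 ≤ r → r < 8664 → ((fun k => commNegCheck Cfsg.Lie.chevE7 (k / 126) (k % 126))) r = true := by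
  intro r h1 h2
  by_cases c0 : r < 7258
  · exact allRange_spec e7Cneg_5_7220 r (by omega) c0
  by_cases c1 : r < 7296
  · exact allRange_spec e7Cneg_5_7258 r (by omega) c1
  by_cases c2 : r < 7334
  · exact allRange_spec e7Cneg_5_7296 r (by omega) c2
  by_cases c3 : r < 7372
  · exact allRange_spec e7Cneg_5_7334 r (by omega) c3
  by_cases c4 : r < 7410
  · exact allRange_spec e7Cneg_5_7372 r (by omega) c4
  by_cases c5 : r < 7448
  · exact allRange_spec e7Cneg_5_7410 r (by omega) c5
  by_cases c6 : r < 7486
  · exact allRange_spec e7Cneg_5_7448 r (by omega) c6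
  by_cases c7 : r < 7524
  · exact allRange_spec e7Cneg_5_7486 r (by omega) c7
  by_cases c8 : r < 7562
  · exact allRange_spec e7Cneg_5_7524 r (by omega) c8
  by_cases c9 : r < 7600
  · exact allRange_spec e7Cneg_5_7562 r (by omega) c9
  by_cases c10 : r < 7638
  · exact allRange_spec e7Cneg_5_7600 r (by omega) c10
  by_cases c11 : r < 7676
  · exact allRange_spec e7Cneg_5_7638 r (by omega) c11
  by_cases c12 : r < 7714
  · exact allRange_spec e7Cneg_5_7676 r (by omega) c12
  by_cases c13 : r < 7752
  · exact allRange_spec e7Cneg_5_7714 r (by omega) c13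
  by_cases c14 : r < 7790
  · exact allRange_spec e7Cneg_5_7752 r (by omega) c14
  by_cases c15 : r < 7828
  · exact allRange_spec e7Cneg_5_7790 r (by omega) c15
  by_cases c16 : r < 7866
  · exact allRange_spec e7Cneg_5_7828 r (by omega) c16
  by_cases c17 : r < 7904
  · exact allRange_spec e7Cneg_5_7866 r (by omega) c17
  by_cases c18 : r < 7942
  · exact allRange_spec e7Cneg_5_7904 r (by omega) c18
  by_cases c19 : r < 7980
  · exact allRange_spec e7Cneg_5_7942 r (by omega) c19
  by_cases c20 : r < 8018
  · exact allRange_spec e7Cneg_5_7980 r (by omega) c20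
  by_cases c21 : r < 8056
  · exact allRange_spec e7Cneg_5_8018 r (by omega) c21
  by_cases c22 : r < 8094
  · exact allRange_spec e7Cneg_5_8056 r (by omega) c22
  by_cases c23 : r < 8132
  · exact allRange_spec e7Cneg_5_8094 r (by omega) c23
  by_cases c24 : r < 8170
  · exact allRange_spec e7Cneg_5_8132 r (by omega) c24
  by_cases c25 : r < 8208
  · exact allRange_spec e7Cneg_5_8170 r (by omega) c25
  by_cases c26 : r < 8246
  · exact allRange_spec e7Cneg_5_8208 r (by omega) c26
  by_cases c27 : r < 8284
  · exact allRange_spec e7Cneg_5_8246 r (by omega) c27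
  by_cases c28 : r < 8322
  · exact allRange_spec e7Cneg_5_8284 r (by omega) c28
  by_cases c29 : r < 8360
  · exact allRange_spec e7Cneg_5_8322 r (by omega) c29
  by_cases c30 : r < 8398
  · exact allRange_spec e7Cneg_5_8360 r (by omega) c30
  by_cases c31 : r < 8436
  · exact allRange_spec e7Cneg_5_8398 r (by omega) c31
  by_cases c32 : r < 8474
  · exact allRange_spec e7Cneg_5_8436 r (by omega) c32
  by_cases c33 : r < 8512
  · exact allRange_spec e7Cneg_5_8474 r (by omega) c33
  by_cases c34 : r < 8550
  · exact allRange_spec e7Cneg_5_8512 r (by omega) c34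
  by_cases c35 : r < 8588
  · exact allRange_spec e7Cneg_5_8550 r (by omega) c35
  by_cases c36 : r < 8626
  · exact allRange_spec e7Cneg_5_8588 r (by omega) c36
  exact allRange_spec e7Cneg_5_8626 r (by omega) h2

end Cfsg.Agent.Lib.Helper3.ChevM
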