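import Cfsg.Prelude.Def_ChevE7
import Cfsg.Agent.Lib.Helper3.StB5
set_option autoImplicit false
set_option maxRecDepth 1000000
set_option Elab.async false

namespace Cfsg.Agent.Lib.Helper3.ChevM
open Cfsg.Agent.Lib.Helper3.StB

theorem e7Cneg_6_8664 : allRange 8664 8702 ((fun k => commNegCheck Cfsg.Lie.chevE7 (k / 126) (k % 126))) = true := by decide +kernel
theorem e7Cneg_6_8702 : allRange 8702 8740 ((fun k => commNegCheck Cfsg.Lie.chevE7 (k / 126) (k % 126))) = true := by decide +kernel
theorem e7Cneg_6_8740 : allRange 8740 8778 ((fun k => commNegCheck Cfsg.Lie.chevE7 (k / 126) (k % 126))) = true := by decide +kernel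
theorem e7Cneg_6_8778 : allRange 8778 8816 ((fun k => commNegCheck Cfsg.Lie.chevE7 (k / 126) (k % 126))) = true := by decide +kernel
theorem e7Cneg_6_8816 : allRange 8816 8854 ((fun k => commNegCheck Cfsg.Lie.chevE7 (k / 126) (k % 126))) = true := by decide +kernel
theorem e7Cneg_6_8854 : allRange 8854 8892 ((fun k => commNegCheck Cfsg.Lie.chevE7 (k / 126) (k % 126))) = true := by decide +kernel
theorem e7Cneg_6_8892 : allRange 8892 8930 ((fun k => commNegCheck Cfsg.Lie.chevE7 (k / 126) (k % 126))) = true := by decide +kernel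
theorem e7Cneg_6_8930 : allRange 8930 8968 ((fun k => commNegCheck Cfsg.Lie.chevE7 (k / 126) (k % 126))) = true := by decide +kernel
theorem e7Cneg_6_8968 : allRange 8968 9006 ((fun k => commNegCheck Cfsg.Lie.chevE7 (k / 126) (k % 126))) = true := by decide +kernel
theorem e7Cneg_6_9006 : allRange 9006 9044 ((fun k => commNegCheck Cfsg.Lie.chevE7 (k / 126) (k % 126))) = true := by decide +kernel
theorem e7Cneg_6_9044 : allRange 9044 9082 ((fun k => commNegCheck Cfsg.Lie.chevE7 (k / 126) (k % 126))) = true := by decide +kernel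
theorem e7Cneg_6_9082 : allRange 9082 9120 ((fun k => commNegCheck Cfsg.Lie.chevE7 (k / 126) (k % 126))) = true := by decide +kernel
theorem e7Cneg_6_9120 : allRange 9120 9158 ((fun k => commNegCheck Cfsg.Lie.chevE7 (k / 126) (k % 126))) = true := by decide +kernel
theorem e7Cneg_6_9158 : allRange 9158 9196 ((fun k => commNegCheck Cfsg.Lie.chevE7 (k / 126) (k % 126))) = true := by decide +kernel
theorem e7Cneg_6_9196 : allRange 9196 9234 ((fun k => commNegCheck Cfsg.Lie.chevE7 (k / 126) (k % 126))) = true := by decide +kernel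
theorem e7Cneg_6_9234 : allRange 9234 9272 ((fun k => commNegCheck Cfsg.Lie.chevE7 (k / 126) (k % 126))) = true := by decide +kernel
theorem e7Cneg_6_9272 : allRange 9272 9310 ((fun k => commNegCheck Cfsg.Lie.chevE7 (k / 126) (k % 126))) = true := by decide +kernel
theorem e7Cneg_6_9310 : allRange 9310 9348 ((fun k => commNegCheck Cfsg.Lie.chevE7 (k / 126) (k % 126))) = true := by decide +kernel
theorem e7Cneg_6_9348 : allRange 9348 9386 ((fun k => commNegCheck Cfsg.Lie.chevE7 (k / 126) (k % 126))) = true := by decide +kernel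
theorem e7Cneg_6_9386 : allRange 9386 9424 ((fun k => commNegCheck Cfsg.Lie.chevE7 (k / 126) (k % 126))) = true := by decide +kernel
theorem e7Cneg_6_9424 : allRange 9424 9462 ((fun k => commNegCheck Cfsg.Lie.chevE7 (k / 126) (k % 126))) = true := by decide +kernel
theorem e7Cneg_6_9462 : allRange 9462 9500 ((fun k => commNegCheck Cfsg.Lie.chevE7 (k / 126) (k % 126))) = true := by decide +kernel
theorem e7Cneg_6_9500 : allRange 9500 9538 ((fun k => commNegCheck Cfsg.Lie.chevE7 (k / 126) (k % 126))) = true := by decide +kernel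
theorem e7Cneg_6_9538 : allRange 9538 9576 ((fun k => commNegCheck Cfsg.Lie.chevE7 (k / 126) (k % 126))) = true := by decide +kernel
theorem e7Cneg_6_9576 : allRange 9576 9614 ((fun k => commNegCheck Cfsg.Lie.chevE7 (k / 126) (k % 126))) = true := by decide +kernel
theorem e7Cneg_6_9614 : allRange 9614 9652 ((fun k => commNegCheck Cfsg.Lie.chevE7 (k / 126) (k % 126))) = true := by decide +kernel
theorem e7Cneg_6_9652 : allRange 9652 9690 ((fun k => commNegCheck Cfsg.Lie.chevE7 (k / 126) (k % 126))) = true := by decide +kernel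
theorem e7Cneg_6_9690 : allRange 9690 9728 ((fun k => commNegCheck Cfsg.Lie.chevE7 (k / 126) (k % 126))) = true := by decide +kernel
theorem e7Cneg_6_9728 : allRange 9728 9766 ((fun k => commNegCheck Cfsg.Lie.chevE7 (k / 126) (k % 126))) = true := by decide +kernel
theorem e7Cneg_6_9766 : allRange 9766 9804 ((fun k => commNegCheck Cfsg.Lie.chevE7 (k / 126) (k % 126))) = true := by decide +kernel
theorem e7Cneg_6_9804 : allRange 9804 9842 ((fun k => commNegCheck Cfsg.Lie.chevE7 (k / 126) (k % 126))) = true := by decide +kernel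
theorem e7Cneg_6_9842 : allRange 9842 9880 ((fun k => commNegCheck Cfsg.Lie.chevE7 (k / 126) (k % 126))) = true := by decide +kernel
theorem e7Cneg_6_9880 : allRange 9880 9918 ((fun k => commNegCheck Cfsg.Lie.chevE7 (k / 126) (k % 126))) = true := by decide +kernel
theorem e7Cneg_6_9918 : allRange 9918 9956 ((fun k => commNegCheck Cfsg.Lie.chevE7 (k / 126) (k % 126))) = true := by decide +kernel
theorem e7Cneg_6_9956 : allRange 9956 9994 ((fun k => commNegCheck Cfsg.Lie.chevE7 (k / 126) (k % 126))) = true := by decide +kernel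
theorem e7Cneg_6_9994 : allRange 9994 10032 ((fun k => commNegCheck Cfsg.Lie.chevE7 (k / 126) (k % 126))) = true := by decide +kernel
theorem e7Cneg_6_10032 : allRange 10032 10070 ((fun k => commNegCheck Cfsg.Lie.chevE7 (k / 126) (k % 126))) = true := by decide +kernel
theorem e7Cneg_6_10070 : allRange 10070 10108 ((fun k => commNegCheck Cfsg.Lie.chevE7 (k / 126) (k % 126))) = true := by decide +kernel

/-- The commutator formula of type E7 for opposite roots (roots 8664 to 10107). -/
theorem e7Cneg_6 : ∀ r, 8664 ≤ r → r < 10108 → ((fun k => commNegCheck Cfsg.Lie.chevE7 (k / 126) (k % 126))) r = true := by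
  intro r h1 h2
  by_cases c0 : r < 8702
  · exact allRange_spec e7Cneg_6_8664 r (by omega) c0
  by_cases c1 : r < 8740
  · exact allRange_spec e7Cneg_6_8702 r (by omega) c1
  by_cases c2 : r < 8778
  · exact allRange_spec e7Cneg_6_8740 r (by omega) c2
  by_cases c3 : r < 8816
  · exact allRange_spec e7Cneg_6_8778 r (by omega) c3
  by_cases c4 : r < 8854
  · exact allRange_spec e7Cneg_6_8816 r (by omega) c4
  by_cases c5 : r < 8892
  · exact allRange_spec e7Cneg_6_8854 r (by omega) c5
  by_cases c6 : r < 8930
  · exact allRange_spec e7Cneg_6_8892 r (by omega) c6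
  by_cases c7 : r < 8968
  · exact allRange_spec e7Cneg_6_8930 r (by omega) c7
  by_cases c8 : r < 9006
  · exact allRange_spec e7Cneg_6_8968 r (by omega) c8
  by_cases c9 : r < 9044
  · exact allRange_spec e7Cneg_6_9006 r (by omega) c9
  by_cases c10 : r < 9082
  · exact allRange_spec e7Cneg_6_9044 r (by omega) c10
  by_cases c11 : r < 9120
  · exact allRange_spec e7Cneg_6_9082 r (by omega) c11
  by_cases c12 : r < 9158
  · exact allRange_spec e7Cneg_6_9120 r (by omega) c12
  by_cases c13 : r < 9196
  · exact allRange_spec e7Cneg_6_9158 r (by omega) c13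
  by_cases c14 : r < 9234
  · exact allRange_spec e7Cneg_6_9196 r (by omega) c14
  by_cases c15 : r < 9272
  · exact allRange_spec e7Cneg_6_9234 r (by omega) c15
  by_cases c16 : r < 9310
  · exact allRange_spec e7Cneg_6_9272 r (by omega) c16
  by_cases c17 : r < 9348
  · exact allRange_spec e7Cneg_6_9310 r (by omega) c17
  by_cases c18 : r < 9386
  · exact allRange_spec e7Cneg_6_9348 r (by omega) c18
  by_cases c19 : r < 9424
  · exact allRange_spec e7Cneg_6_9386 r (by omega) c19
  by_cases c20 : r < 9462
  · exact allRange_spec e7Cneg_6_9424 r (by omega) c20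
  by_cases c21 : r < 9500
  · exact allRange_spec e7Cneg_6_9462 r (by omega) c21
  by_cases c22 : r < 9538
  · exact allRange_spec e7Cneg_6_9500 r (by omega) c22
  by_cases c23 : r < 9576
  · exact allRange_spec e7Cneg_6_9538 r (by omega) c23
  by_cases c24 : r < 9614
  · exact allRange_spec e7Cneg_6_9576 r (by omega) c24
  by_cases c25 : r < 9652
  · exact allRange_spec e7Cneg_6_9614 r (by omega) c25
  by_cases c26 : r < 9690
  · exact allRange_spec e7Cneg_6_9652 r (by omega) c26
  by_cases c27 : r < 9728
  · exact allRange_spec e7Cneg_6_9690 r (by omega) c27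
  by_cases c28 : r < 9766
  · exact allRange_spec e7Cneg_6_9728 r (by omega) c28
  by_cases c29 : r < 9804
  · exact allRange_spec e7Cneg_6_9766 r (by omega) c29
  by_cases c30 : r < 9842
  · exact allRange_spec e7Cneg_6_9804 r (by omega) c30
  by_cases c31 : r < 9880
  · exact allRange_spec e7Cneg_6_9842 r (by omega) c31
  by_cases c32 : r < 9918
  · exact allRange_spec e7Cneg_6_9880 r (by omega) c32
  by_cases c33 : r < 9956
  · exact allRange_spec e7Cneg_6_9918 r (by omega) c33
  by_cases c34 : r < 9994
  · exact allRange_spec e7Cneg_6_9956 r (by omega) c34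
  by_cases c35 : r < 10032
  · exact allRange_spec e7Cneg_6_9994 r (by omega) c35
  by_cases c36 : r < 10070
  · exact allRange_spec e7Cneg_6_10032 r (by omega) c36
  exact allRange_spec e7Cneg_6_10070 r (by omega) h2

end Cfsg.Agent.Lib.Helper3.ChevM
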