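import Cfsg.Prelude.Def_ChevE7
import Cfsg.Agent.Lib.Helper3.StB5
set_option autoImplicit false
set_option maxRecDepth 1000000
set_option Elab.async false

namespace Cfsg.Agent.Lib.Helper3.ChevM
open Cfsg.Agent.Lib.Helper3.StB

theorem e7Cneg_7_10108 : allRange 10108 10146 ((fun k => commNegCheck Cfsg.Lie.chevE7 (k / 126) (k % 126))) = true := by decide +kernel
theorem e7Cneg_7_10146 : allRange 10146 10184 ((fun k => commNegCheck Cfsg.Lie.chevE7 (k / 126) (k % 126))) = true := by decide +kernel
theorem e7Cneg_7_10184 : allRange 10184 10222 ((fun k => commNegCheck Cfsg.Lie.chevE7 (k / 126) (k % 126))) = true := by decide +kernel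
theorem e7Cneg_7_10222 : allRange 10222 10260 ((fun k => commNegCheck Cfsg.Lie.chevE7 (k / 126) (k % 126))) = true := by decide +kernel
theorem e7Cneg_7_10260 : allRange 10260 10298 ((fun k => commNegCheck Cfsg.Lie.chevE7 (k / 126) (k % 126))) = true := by decide +kernel
theorem e7Cneg_7_10298 : allRange 10298 10336 ((fun k => commNegCheck Cfsg.Lie.chevE7 (k / 126) (k % 126))) = true := by decide +kernel
theorem e7Cneg_7_10336 : allRange 10336 10374 ((fun k => commNegCheck Cfsg.Lie.chevE7 (k / 126) (k % 126))) = true := by decide +kernel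
theorem e7Cneg_7_10374 : allRange 10374 10412 ((fun k => commNegCheck Cfsg.Lie.chevE7 (k / 126) (k % 126))) = true := by decide +kernel
theorem e7Cneg_7_10412 : allRange 10412 10450 ((fun k => commNegCheck Cfsg.Lie.chevE7 (k / 126) (k % 126))) = true := by decide +kernel
theorem e7Cneg_7_10450 : allRange 10450 10488 ((fun k => commNegCheck Cfsg.Lie.chevE7 (k / 126) (k % 126))) = true := by decide +kernel
theorem e7Cneg_7_10488 : allRange 10488 10526 ((fun k => commNegCheck Cfsg.Lie.chevE7 (k / 126) (k % 126))) = true := by decide +kernel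
theorem e7Cneg_7_10526 : allRange 10526 10564 ((fun k => commNegCheck Cfsg.Lie.chevE7 (k / 126) (k % 126))) = true := by decide +kernel
theorem e7Cneg_7_10564 : allRange 10564 10602 ((fun k => commNegCheck Cfsg.Lie.chevE7 (k / 126) (k % 126))) = true := by decide +kernel
theorem e7Cneg_7_10602 : allRange 10602 10640 ((fun k => commNegCheck Cfsg.Lie.chevE7 (k / 126) (k % 126))) = true := by decide +kernel
theorem e7Cneg_7_10640 : allRange 10640 10678 ((fun k => commNegCheck Cfsg.Lie.chevE7 (k / 126) (k % 126))) = true := by decide +kernel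
theorem e7Cneg_7_10678 : allRange 10678 10716 ((fun k => commNegCheck Cfsg.Lie.chevE7 (k / 126) (k % 126))) = true := by decide +kernel
theorem e7Cneg_7_10716 : allRange 10716 10754 ((fun k => commNegCheck Cfsg.Lie.chevE7 (k / 126) (k % 126))) = true := by decide +kernel
theorem e7Cneg_7_10754 : allRange 10754 10792 ((fun k => commNegCheck Cfsg.Lie.chevE7 (k / 126) (k % 126))) = true := by decide +kernel
theorem e7Cneg_7_10792 : allRange 10792 10830 ((fun k => commNegCheck Cfsg.Lie.chevE7 (k / 126) (k % 126))) = true := by decide +kernel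
theorem e7Cneg_7_10830 : allRange 10830 10868 ((fun k => commNegCheck Cfsg.Lie.chevE7 (k / 126) (k % 126))) = true := by decide +kernel
theorem e7Cneg_7_10868 : allRange 10868 10906 ((fun k => commNegCheck Cfsg.Lie.chevE7 (k / 126) (k % 126))) = true := by decide +kernel
theorem e7Cneg_7_10906 : allRange 10906 10944 ((fun k => commNegCheck Cfsg.Lie.chevE7 (k / 126) (k % 126))) = true := by decide +kernel
theorem e7Cneg_7_10944 : allRange 10944 10982 ((fun k => commNegCheck Cfsg.Lie.chevE7 (k / 126) (k % 126))) = true := by decide +kernel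
theorem e7Cneg_7_10982 : allRange 10982 11020 ((fun k => commNegCheck Cfsg.Lie.chevE7 (k / 126) (k % 126))) = true := by decide +kernel
theorem e7Cneg_7_11020 : allRange 11020 11058 ((fun k => commNegCheck Cfsg.Lie.chevE7 (k / 126) (k % 126))) = true := by decide +kernel
theorem e7Cneg_7_11058 : allRange 11058 11096 ((fun k => commNegCheck Cfsg.Lie.chevE7 (k / 126) (k % 126))) = true := by decide +kernel
theorem e7Cneg_7_11096 : allRange 11096 11134 ((fun k => commNegCheck Cfsg.Lie.chevE7 (k / 126) (k % 126))) = true := by decide +kernel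
theorem e7Cneg_7_11134 : allRange 11134 11172 ((fun k => commNegCheck Cfsg.Lie.chevE7 (k / 126) (k % 126))) = true := by decide +kernel
theorem e7Cneg_7_11172 : allRange 11172 11210 ((fun k => commNegCheck Cfsg.Lie.chevE7 (k / 126) (k % 126))) = true := by decide +kernel
theorem e7Cneg_7_11210 : allRange 11210 11248 ((fun k => commNegCheck Cfsg.Lie.chevE7 (k / 126) (k % 126))) = true := by decide +kernel
theorem e7Cneg_7_11248 : allRange 11248 11286 ((fun k => commNegCheck Cfsg.Lie.chevE7 (k / 126) (k % 126))) = true := by decide +kernel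
theorem e7Cneg_7_11286 : allRange 11286 11324 ((fun k => commNegCheck Cfsg.Lie.chevE7 (k / 126) (k % 126))) = true := by decide +kernel
theorem e7Cneg_7_11324 : allRange 11324 11362 ((fun k => commNegCheck Cfsg.Lie.chevE7 (k / 126) (k % 126))) = true := by decide +kernel
theorem e7Cneg_7_11362 : allRange 11362 11400 ((fun k => commNegCheck Cfsg.Lie.chevE7 (k / 126) (k % 126))) = true := by decide +kernel
theorem e7Cneg_7_11400 : allRange 11400 11438 ((fun k => commNegCheck Cfsg.Lie.chevE7 (k / 126) (k % 126))) = true := by decide +kernel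
theorem e7Cneg_7_11438 : allRange 11438 11476 ((fun k => commNegCheck Cfsg.Lie.chevE7 (k / 126) (k % 126))) = true := by decide +kernel
theorem e7Cneg_7_11476 : allRange 11476 11514 ((fun k => commNegCheck Cfsg.Lie.chevE7 (k / 126) (k % 126))) = true := by decide +kernel
theorem e7Cneg_7_11514 : allRange 11514 11552 ((fun k => commNegCheck Cfsg.Lie.chevE7 (k / 126) (k % 126))) = true := by decide +kernel

/-- The commutator formula of type E7 for opposite roots (roots 10108 to 11551). -/
theorem e7Cneg_7 : ∀ r, 10108 ≤ r → r < 11552 → ((fun k => commNegCheck Cfsg.Lie.chevE7 (k / 126) (k % 126))) r = true := by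
  intro r h1 h2
  by_cases c0 : r < 10146
  · exact allRange_spec e7Cneg_7_10108 r (by omega) c0
  by_cases c1 : r < 10184
  · exact allRange_spec e7Cneg_7_10146 r (by omega) c1
  by_cases c2 : r < 10222
  · exact allRange_spec e7Cneg_7_10184 r (by omega) c2
  by_cases c3 : r < 10260
  · exact allRange_spec e7Cneg_7_10222 r (by omega) c3
  by_cases c4 : r < 10298
  · exact allRange_spec e7Cneg_7_10260 r (by omega) c4
  by_cases c5 : r < 10336
  · exact allRange_spec e7Cneg_7_10298 r (by omega) c5
  by_cases c6 : r < 10374
  · exact allRange_spec e7Cneg_7_10336 r (by omega) c6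
  by_cases c7 : r < 10412
  · exact allRange_spec e7Cneg_7_10374 r (by omega) c7
  by_cases c8 : r < 10450
  · exact allRange_spec e7Cneg_7_10412 r (by omega) c8
  by_cases c9 : r < 10488
  · exact allRange_spec e7Cneg_7_10450 r (by omega) c9
  by_cases c10 : r < 10526
  · exact allRange_spec e7Cneg_7_10488 r (by omega) c10
  by_cases c11 : r < 10564
  · exact allRange_spec e7Cneg_7_10526 r (by omega) c11
  by_cases c12 : r < 10602
  · exact allRange_spec e7Cneg_7_10564 r (by omega) c12
  by_cases c13 : r < 10640
  · exact allRange_spec e7Cneg_7_10602 r (by omega) c13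
  by_cases c14 : r < 10678
  · exact allRange_spec e7Cneg_7_10640 r (by omega) c14
  by_cases c15 : r < 10716
  · exact allRange_spec e7Cneg_7_10678 r (by omega) c15
  by_cases c16 : r < 10754
  · exact allRange_spec e7Cneg_7_10716 r (by omega) c16
  by_cases c17 : r < 10792
  · exact allRange_spec e7Cneg_7_10754 r (by omega) c17
  by_cases c18 : r < 10830
  · exact allRange_spec e7Cneg_7_10792 r (by omega) c18
  by_cases c19 : r < 10868
  · exact allRange_spec e7Cneg_7_10830 r (by omega) c19
  by_cases c20 : r < 10906
  · exact allRange_spec e7Cneg_7_10868 r (by omega) c20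
  by_cases c21 : r < 10944
  · exact allRange_spec e7Cneg_7_10906 r (by omega) c21
  by_cases c22 : r < 10982
  · exact allRange_spec e7Cneg_7_10944 r (by omega) c22
  by_cases c23 : r < 11020
  · exact allRange_spec e7Cneg_7_10982 r (by omega) c23
  by_cases c24 : r < 11058
  · exact allRange_spec e7Cneg_7_11020 r (by omega) c24
  by_cases c25 : r < 11096
  · exact allRange_spec e7Cneg_7_11058 r (by omega) c25
  by_cases c26 : r < 11134
  · exact allRange_spec e7Cneg_7_11096 r (by omega) c26
  by_cases c27 : r < 11172
  · exact allRange_spec e7Cneg_7_11134 r (by omega) c27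
  by_cases c28 : r < 11210
  · exact allRange_spec e7Cneg_7_11172 r (by omega) c28
  by_cases c29 : r < 11248
  · exact allRange_spec e7Cneg_7_11210 r (by omega) c29
  by_cases c30 : r < 11286
  · exact allRange_spec e7Cneg_7_11248 r (by omega) c30
  by_cases c31 : r < 11324
  · exact allRange_spec e7Cneg_7_11286 r (by omega) c31
  by_cases c32 : r < 11362
  · exact allRange_spec e7Cneg_7_11324 r (by omega) c32
  by_cases c33 : r < 11400
  · exact allRange_spec e7Cneg_7_11362 r (by omega) c33
  by_cases c34 : r < 11438
  · exact allRange_spec e7Cneg_7_11400 r (by omega) c34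
  by_cases c35 : r < 11476
  · exact allRange_spec e7Cneg_7_11438 r (by omega) c35
  by_cases c36 : r < 11514
  · exact allRange_spec e7Cneg_7_11476 r (by omega) c36
  exact allRange_spec e7Cneg_7_11514 r (by omega) h2

end Cfsg.Agent.Lib.Helper3.ChevM
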