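import Cfsg.Prelude.Def_ChevE7
import Cfsg.Agent.Lib.Helper3.StB5
set_option autoImplicit false
set_option maxRecDepth 1000000
set_option Elab.async false

namespace Cfsg.Agent.Lib.Helper3.ChevM
open Cfsg.Agent.Lib.Helper3.StB

theorem e7Cneg_8_11552 : allRange 11552 11590 ((fun k => commNegCheck Cfsg.Lie.chevE7 (k / 126) (k % 126))) = true := by decide +kernel
theorem e7Cneg_8_11590 : allRange 11590 11628 ((fun k => commNegCheck Cfsg.Lie.chevE7 (k / 126) (k % 126))) = true := by decide +kernel
theorem e7Cneg_8_11628 : allRange 11628 11666 ((fun k => commNegCheck Cfsg.Lie.chevE7 (k / 126) (k % 126))) = true := by decide +kernel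
theorem e7Cneg_8_11666 : allRange 11666 11704 ((fun k => commNegCheck Cfsg.Lie.chevE7 (k / 126) (k % 126))) = true := by decide +kernel
theorem e7Cneg_8_11704 : allRange 11704 11742 ((fun k => commNegCheck Cfsg.Lie.chevE7 (k / 126) (k % 126))) = true := by decide +kernel
theorem e7Cneg_8_11742 : allRange 11742 11780 ((fun k => commNegCheck Cfsg.Lie.chevE7 (k / 126) (k % 126))) = true := by decide +kernel
theorem e7Cneg_8_11780 : allRange 11780 11818 ((fun k => commNegCheck Cfsg.Lie.chevE7 (k / 126) (k % 126))) = true := by decide +kernel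
theorem e7Cneg_8_11818 : allRange 11818 11856 ((fun k => commNegCheck Cfsg.Lie.chevE7 (k / 126) (k % 126))) = true := by decide +kernel
theorem e7Cneg_8_11856 : allRange 11856 11894 ((fun k => commNegCheck Cfsg.Lie.chevE7 (k / 126) (k % 126))) = true := by decide +kernel
theorem e7Cneg_8_11894 : allRange 11894 11932 ((fun k => commNegCheck Cfsg.Lie.chevE7 (k / 126) (k % 126))) = true := by decide +kernel
theorem e7Cneg_8_11932 : allRange 11932 11970 ((fun k => commNegCheck Cfsg.Lie.chevE7 (k / 126) (k % 126))) = true := by decide +kernel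
theorem e7Cneg_8_11970 : allRange 11970 12008 ((fun k => commNegCheck Cfsg.Lie.chevE7 (k / 126) (k % 126))) = true := by decide +kernel
theorem e7Cneg_8_12008 : allRange 12008 12046 ((fun k => commNegCheck Cfsg.Lie.chevE7 (k / 126) (k % 126))) = true := by decide +kernel
theorem e7Cneg_8_12046 : allRange 12046 12084 ((fun k => commNegCheck Cfsg.Lie.chevE7 (k / 126) (k % 126))) = true := by decide +kernel
theorem e7Cneg_8_12084 : allRange 12084 12122 ((fun k => commNegCheck Cfsg.Lie.chevE7 (k / 126) (k % 126))) = true := by decide +kernel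
theorem e7Cneg_8_12122 : allRange 12122 12160 ((fun k => commNegCheck Cfsg.Lie.chevE7 (k / 126) (k % 126))) = true := by decide +kernel
theorem e7Cneg_8_12160 : allRange 12160 12198 ((fun k => commNegCheck Cfsg.Lie.chevE7 (k / 126) (k % 126))) = true := by decide +kernel
theorem e7Cneg_8_12198 : allRange 12198 12236 ((fun k => commNegCheck Cfsg.Lie.chevE7 (k / 126) (k % 126))) = true := by decide +kernel
theorem e7Cneg_8_12236 : allRange 12236 12274 ((fun k => commNegCheck Cfsg.Lie.chevE7 (k / 126) (k % 126))) = true := by decide +kernel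
theorem e7Cneg_8_12274 : allRange 12274 12312 ((fun k => commNegCheck Cfsg.Lie.chevE7 (k / 126) (k % 126))) = true := by decide +kernel
theorem e7Cneg_8_12312 : allRange 12312 12350 ((fun k => commNegCheck Cfsg.Lie.chevE7 (k / 126) (k % 126))) = true := by decide +kernel
theorem e7Cneg_8_12350 : allRange 12350 12388 ((fun k => commNegCheck Cfsg.Lie.chevE7 (k / 126) (k % 126))) = true := by decide +kernel
theorem e7Cneg_8_12388 : allRange 12388 12426 ((fun k => commNegCheck Cfsg.Lie.chevE7 (k / 126) (k % 126))) = true := by decide +kernel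
theorem e7Cneg_8_12426 : allRange 12426 12464 ((fun k => commNegCheck Cfsg.Lie.chevE7 (k / 126) (k % 126))) = true := by decide +kernel
theorem e7Cneg_8_12464 : allRange 12464 12502 ((fun k => commNegCheck Cfsg.Lie.chevE7 (k / 126) (k % 126))) = true := by decide +kernel
theorem e7Cneg_8_12502 : allRange 12502 12540 ((fun k => commNegCheck Cfsg.Lie.chevE7 (k / 126) (k % 126))) = true := by decide +kernel
theorem e7Cneg_8_12540 : allRange 12540 12578 ((fun k => commNegCheck Cfsg.Lie.chevE7 (k / 126) (k % 126))) = true := by decide +kernel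
theorem e7Cneg_8_12578 : allRange 12578 12616 ((fun k => commNegCheck Cfsg.Lie.chevE7 (k / 126) (k % 126))) = true := by decide +kernel
theorem e7Cneg_8_12616 : allRange 12616 12654 ((fun k => commNegCheck Cfsg.Lie.chevE7 (k / 126) (k % 126))) = true := by decide +kernel
theorem e7Cneg_8_12654 : allRange 12654 12692 ((fun k => commNegCheck Cfsg.Lie.chevE7 (k / 126) (k % 126))) = true := by decide +kernel
theorem e7Cneg_8_12692 : allRange 12692 12730 ((fun k => commNegCheck Cfsg.Lie.chevE7 (k / 126) (k % 126))) = true := by decide +kernel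
theorem e7Cneg_8_12730 : allRange 12730 12768 ((fun k => commNegCheck Cfsg.Lie.chevE7 (k / 126) (k % 126))) = true := by decide +kernel
theorem e7Cneg_8_12768 : allRange 12768 12806 ((fun k => commNegCheck Cfsg.Lie.chevE7 (k / 126) (k % 126))) = true := by decide +kernel
theorem e7Cneg_8_12806 : allRange 12806 12844 ((fun k => commNegCheck Cfsg.Lie.chevE7 (k / 126) (k % 126))) = true := by decide +kernel
theorem e7Cneg_8_12844 : allRange 12844 12882 ((fun k => commNegCheck Cfsg.Lie.chevE7 (k / 126) (k % 126))) = true := by decide +kernel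
theorem e7Cneg_8_12882 : allRange 12882 12920 ((fun k => commNegCheck Cfsg.Lie.chevE7 (k / 126) (k % 126))) = true := by decide +kernel
theorem e7Cneg_8_12920 : allRange 12920 12958 ((fun k => commNegCheck Cfsg.Lie.chevE7 (k / 126) (k % 126))) = true := by decide +kernel
theorem e7Cneg_8_12958 : allRange 12958 12996 ((fun k => commNegCheck Cfsg.Lie.chevE7 (k / 126) (k % 126))) = true := by decide +kernel

/-- The commutator formula of type E7 for opposite roots (roots 11552 to 12995). -/
theorem e7Cneg_8 : ∀ r, 11552 ≤ r → r < 12996 → ((fun k => commNegCheck Cfsg.Lie.chevE7 (k / 126) (k % 126))) r = true := by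
  intro r h1 h2
  by_cases c0 : r < 11590
  · exact allRange_spec e7Cneg_8_11552 r (by omega) c0
  by_cases c1 : r < 11628
  · exact allRange_spec e7Cneg_8_11590 r (by omega) c1
  by_cases c2 : r < 11666
  · exact allRange_spec e7Cneg_8_11628 r (by omega) c2
  by_cases c3 : r < 11704
  · exact allRange_spec e7Cneg_8_11666 r (by omega) c3
  by_cases c4 : r < 11742
  · exact allRange_spec e7Cneg_8_11704 r (by omega) c4
  by_cases c5 : r < 11780
  · exact allRange_spec e7Cneg_8_11742 r (by omega) c5
  by_cases c6 : r < 11818
  · exact allRange_spec e7Cneg_8_11780 r (by omega) c6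
  by_cases c7 : r < 11856
  · exact allRange_spec e7Cneg_8_11818 r (by omega) c7
  by_cases c8 : r < 11894
  · exact allRange_spec e7Cneg_8_11856 r (by omega) c8
  by_cases c9 : r < 11932
  · exact allRange_spec e7Cneg_8_11894 r (by omega) c9
  by_cases c10 : r < 11970
  · exact allRange_spec e7Cneg_8_11932 r (by omega) c10
  by_cases c11 : r < 12008
  · exact allRange_spec e7Cneg_8_11970 r (by omega) c11
  by_cases c12 : r < 12046
  · exact allRange_spec e7Cneg_8_12008 r (by omega) c12
  by_cases c13 : r < 12084
  · exact allRange_spec e7Cneg_8_12046 r (by omega) c13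
  by_cases c14 : r < 12122
  · exact allRange_spec e7Cneg_8_12084 r (by omega) c14
  by_cases c15 : r < 12160
  · exact allRange_spec e7Cneg_8_12122 r (by omega) c15
  by_cases c16 : r < 12198
  · exact allRange_spec e7Cneg_8_12160 r (by omega) c16
  by_cases c17 : r < 12236
  · exact allRange_spec e7Cneg_8_12198 r (by omega) c17
  by_cases c18 : r < 12274
  · exact allRange_spec e7Cneg_8_12236 r (by omega) c18
  by_cases c19 : r < 12312
  · exact allRange_spec e7Cneg_8_12274 r (by omega) c19
  by_cases c20 : r < 12350
  · exact allRange_spec e7Cneg_8_12312 r (by omega) c20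
  by_cases c21 : r < 12388
  · exact allRange_spec e7Cneg_8_12350 r (by omega) c21
  by_cases c22 : r < 12426
  · exact allRange_spec e7Cneg_8_12388 r (by omega) c22
  by_cases c23 : r < 12464
  · exact allRange_spec e7Cneg_8_12426 r (by omega) c23
  by_cases c24 : r < 12502
  · exact allRange_spec e7Cneg_8_12464 r (by omega) c24
  by_cases c25 : r < 12540
  · exact allRange_spec e7Cneg_8_12502 r (by omega) c25
  by_cases c26 : r < 12578
  · exact allRange_spec e7Cneg_8_12540 r (by omega) c26
  by_cases c27 : r < 12616
  · exact allRange_spec e7Cneg_8_12578 r (by omega) c27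
  by_cases c28 : r < 12654
  · exact allRange_spec e7Cneg_8_12616 r (by omega) c28
  by_cases c29 : r < 12692
  · exact allRange_spec e7Cneg_8_12654 r (by omega) c29
  by_cases c30 : r < 12730
  · exact allRange_spec e7Cneg_8_12692 r (by omega) c30
  by_cases c31 : r < 12768
  · exact allRange_spec e7Cneg_8_12730 r (by omega) c31
  by_cases c32 : r < 12806
  · exact allRange_spec e7Cneg_8_12768 r (by omega) c32
  by_cases c33 : r < 12844
  · exact allRange_spec e7Cneg_8_12806 r (by omega) c33
  by_cases c34 : r < 12882
  · exact allRange_spec e7Cneg_8_12844 r (by omega) c34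
  by_cases c35 : r < 12920
  · exact allRange_spec e7Cneg_8_12882 r (by omega) c35
  by_cases c36 : r < 12958
  · exact allRange_spec e7Cneg_8_12920 r (by omega) c36
  exact allRange_spec e7Cneg_8_12958 r (by omega) h2

end Cfsg.Agent.Lib.Helper3.ChevM
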