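import Cfsg.Prelude.Def_ChevE7
import Cfsg.Agent.Lib.Helper3.StB5
set_option autoImplicit false
set_option maxRecDepth 1000000
set_option Elab.async false

namespace Cfsg.Agent.Lib.Helper3.ChevM
open Cfsg.Agent.Lib.Helper3.StB

theorem e7Cneg_9_12996 : allRange 12996 13034 ((fun k => commNegCheck Cfsg.Lie.chevE7 (k / 126) (k % 126))) = true := by decide +kernel
theorem e7Cneg_9_13034 : allRange 13034 13072 ((fun k => commNegCheck Cfsg.Lie.chevE7 (k / 126) (k % 126))) = true := by decide +kernel
theorem e7Cneg_9_13072 : allRange 13072 13110 ((fun k => commNegCheck Cfsg.Lie.chevE7 (k / 126) (k % 126))) = true := by decide +kernel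
theorem e7Cneg_9_13110 : allRange 13110 13148 ((fun k => commNegCheck Cfsg.Lie.chevE7 (k / 126) (k % 126))) = true := by decide +kernel
theorem e7Cneg_9_13148 : allRange 13148 13186 ((fun k => commNegCheck Cfsg.Lie.chevE7 (k / 126) (k % 126))) = true := by decide +kernel
theorem e7Cneg_9_13186 : allRange 13186 13224 ((fun k => commNegCheck Cfsg.Lie.chevE7 (k / 126) (k % 126))) = true := by decide +kernel
theorem e7Cneg_9_13224 : allRange 13224 13262 ((fun k => commNegCheck Cfsg.Lie.chevE7 (k / 126) (k % 126))) = true := by decide +kernel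
theorem e7Cneg_9_13262 : allRange 13262 13300 ((fun k => commNegCheck Cfsg.Lie.chevE7 (k / 126) (k % 126))) = true := by decide +kernel
theorem e7Cneg_9_13300 : allRange 13300 13338 ((fun k => commNegCheck Cfsg.Lie.chevE7 (k / 126) (k % 126))) = true := by decide +kernel
theorem e7Cneg_9_13338 : allRange 13338 13376 ((fun k => commNegCheck Cfsg.Lie.chevE7 (k / 126) (k % 126))) = true := by decide +kernel
theorem e7Cneg_9_13376 : allRange 13376 13414 ((fun k => commNegCheck Cfsg.Lie.chevE7 (k / 126) (k % 126))) = true := by decide +kernel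
theorem e7Cneg_9_13414 : allRange 13414 13452 ((fun k => commNegCheck Cfsg.Lie.chevE7 (k / 126) (k % 126))) = true := by decide +kernel
theorem e7Cneg_9_13452 : allRange 13452 13490 ((fun k => commNegCheck Cfsg.Lie.chevE7 (k / 126) (k % 126))) = true := by decide +kernel
theorem e7Cneg_9_13490 : allRange 13490 13528 ((fun k => commNegCheck Cfsg.Lie.chevE7 (k / 126) (k % 126))) = true := by decide +kernel
theorem e7Cneg_9_13528 : allRange 13528 13566 ((fun k => commNegCheck Cfsg.Lie.chevE7 (k / 126) (k % 126))) = true := by decide +kernel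
theorem e7Cneg_9_13566 : allRange 13566 13604 ((fun k => commNegCheck Cfsg.Lie.chevE7 (k / 126) (k % 126))) = true := by decide +kernel
theorem e7Cneg_9_13604 : allRange 13604 13642 ((fun k => commNegCheck Cfsg.Lie.chevE7 (k / 126) (k % 126))) = true := by decide +kernel
theorem e7Cneg_9_13642 : allRange 13642 13680 ((fun k => commNegCheck Cfsg.Lie.chevE7 (k / 126) (k % 126))) = true := by decide +kernel
theorem e7Cneg_9_13680 : allRange 13680 13718 ((fun k => commNegCheck Cfsg.Lie.chevE7 (k / 126) (k % 126))) = true := by decide +kernel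
theorem e7Cneg_9_13718 : allRange 13718 13756 ((fun k => commNegCheck Cfsg.Lie.chevE7 (k / 126) (k % 126))) = true := by decide +kernel
theorem e7Cneg_9_13756 : allRange 13756 13794 ((fun k => commNegCheck Cfsg.Lie.chevE7 (k / 126) (k % 126))) = true := by decide +kernel
theorem e7Cneg_9_13794 : allRange 13794 13832 ((fun k => commNegCheck Cfsg.Lie.chevE7 (k / 126) (k % 126))) = true := by decide +kernel
theorem e7Cneg_9_13832 : allRange 13832 13870 ((fun k => commNegCheck Cfsg.Lie.chevE7 (k / 126) (k % 126))) = true := by decide +kernel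
theorem e7Cneg_9_13870 : allRange 13870 13908 ((fun k => commNegCheck Cfsg.Lie.chevE7 (k / 126) (k % 126))) = true := by decide +kernel
theorem e7Cneg_9_13908 : allRange 13908 13946 ((fun k => commNegCheck Cfsg.Lie.chevE7 (k / 126) (k % 126))) = true := by decide +kernel
theorem e7Cneg_9_13946 : allRange 13946 13984 ((fun k => commNegCheck Cfsg.Lie.chevE7 (k / 126) (k % 126))) = true := by decide +kernel
theorem e7Cneg_9_13984 : allRange 13984 14022 ((fun k => commNegCheck Cfsg.Lie.chevE7 (k / 126) (k % 126))) = true := by decide +kernel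
theorem e7Cneg_9_14022 : allRange 14022 14060 ((fun k => commNegCheck Cfsg.Lie.chevE7 (k / 126) (k % 126))) = true := by decide +kernel
theorem e7Cneg_9_14060 : allRange 14060 14098 ((fun k => commNegCheck Cfsg.Lie.chevE7 (k / 126) (k % 126))) = true := by decide +kernel
theorem e7Cneg_9_14098 : allRange 14098 14136 ((fun k => commNegCheck Cfsg.Lie.chevE7 (k / 126) (k % 126))) = true := by decide +kernel
theorem e7Cneg_9_14136 : allRange 14136 14174 ((fun k => commNegCheck Cfsg.Lie.chevE7 (k / 126) (k % 126))) = true := by decide +kernel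
theorem e7Cneg_9_14174 : allRange 14174 14212 ((fun k => commNegCheck Cfsg.Lie.chevE7 (k / 126) (k % 126))) = true := by decide +kernel
theorem e7Cneg_9_14212 : allRange 14212 14250 ((fun k => commNegCheck Cfsg.Lie.chevE7 (k / 126) (k % 126))) = true := by decide +kernel
theorem e7Cneg_9_14250 : allRange 14250 14288 ((fun k => commNegCheck Cfsg.Lie.chevE7 (k / 126) (k % 126))) = true := by decide +kernel
theorem e7Cneg_9_14288 : allRange 14288 14326 ((fun k => commNegCheck Cfsg.Lie.chevE7 (k / 126) (k % 126))) = true := by decide +kernel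
theorem e7Cneg_9_14326 : allRange 14326 14364 ((fun k => commNegCheck Cfsg.Lie.chevE7 (k / 126) (k % 126))) = true := by decide +kernel
theorem e7Cneg_9_14364 : allRange 14364 14402 ((fun k => commNegCheck Cfsg.Lie.chevE7 (k / 126) (k % 126))) = true := by decide +kernel
theorem e7Cneg_9_14402 : allRange 14402 14440 ((fun k => commNegCheck Cfsg.Lie.chevE7 (k / 126) (k % 126))) = true := by decide +kernel

/-- The commutator formula of type E7 for opposite roots (roots 12996 to 14439). -/
theorem e7Cneg_9 : ∀ r, 12996 ≤ r → r < 14440 → ((fun k => commNegCheck Cfsg.Lie.chevE7 (k / 126) (k % 126))) r = true := by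
  intro r h1 h2
  by_cases c0 : r < 13034
  · exact allRange_spec e7Cneg_9_12996 r (by omega) c0
  by_cases c1 : r < 13072
  · exact allRange_spec e7Cneg_9_13034 r (by omega) c1
  by_cases c2 : r < 13110
  · exact allRange_spec e7Cneg_9_13072 r (by omega) c2
  by_cases c3 : r < 13148
  · exact allRange_spec e7Cneg_9_13110 r (by omega) c3
  by_cases c4 : r < 13186
  · exact allRange_spec e7Cneg_9_13148 r (by omega) c4
  by_cases c5 : r < 13224
  · exact allRange_spec e7Cneg_9_13186 r (by omega) c5
  by_cases c6 : r < 13262
  · exact allRange_spec e7Cneg_9_13224 r (by omega) c6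
  by_cases c7 : r < 13300
  · exact allRange_spec e7Cneg_9_13262 r (by omega) c7
  by_cases c8 : r < 13338
  · exact allRange_spec e7Cneg_9_13300 r (by omega) c8
  by_cases c9 : r < 13376
  · exact allRange_spec e7Cneg_9_13338 r (by omega) c9
  by_cases c10 : r < 13414
  · exact allRange_spec e7Cneg_9_13376 r (by omega) c10
  by_cases c11 : r < 13452
  · exact allRange_spec e7Cneg_9_13414 r (by omega) c11
  by_cases c12 : r < 13490
  · exact allRange_spec e7Cneg_9_13452 r (by omega) c12
  by_cases c13 : r < 13528
  · exact allRange_spec e7Cneg_9_13490 r (by omega) c13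
  by_cases c14 : r < 13566
  · exact allRange_spec e7Cneg_9_13528 r (by omega) c14
  by_cases c15 : r < 13604
  · exact allRange_spec e7Cneg_9_13566 r (by omega) c15
  by_cases c16 : r < 13642
  · exact allRange_spec e7Cneg_9_13604 r (by omega) c16
  by_cases c17 : r < 13680
  · exact allRange_spec e7Cneg_9_13642 r (by omega) c17
  by_cases c18 : r < 13718
  · exact allRange_spec e7Cneg_9_13680 r (by omega) c18
  by_cases c19 : r < 13756
  · exact allRange_spec e7Cneg_9_13718 r (by omega) c19
  by_cases c20 : r < 13794
  · exact allRange_spec e7Cneg_9_13756 r (by omega) c20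
  by_cases c21 : r < 13832
  · exact allRange_spec e7Cneg_9_13794 r (by omega) c21
  by_cases c22 : r < 13870
  · exact allRange_spec e7Cneg_9_13832 r (by omega) c22
  by_cases c23 : r < 13908
  · exact allRange_spec e7Cneg_9_13870 r (by omega) c23
  by_cases c24 : r < 13946
  · exact allRange_spec e7Cneg_9_13908 r (by omega) c24
  by_cases c25 : r < 13984
  · exact allRange_spec e7Cneg_9_13946 r (by omega) c25
  by_cases c26 : r < 14022
  · exact allRange_spec e7Cneg_9_13984 r (by omega) c26
  by_cases c27 : r < 14060
  · exact allRange_spec e7Cneg_9_14022 r (by omega) c27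
  by_cases c28 : r < 14098
  · exact allRange_spec e7Cneg_9_14060 r (by omega) c28
  by_cases c29 : r < 14136
  · exact allRange_spec e7Cneg_9_14098 r (by omega) c29
  by_cases c30 : r < 14174
  · exact allRange_spec e7Cneg_9_14136 r (by omega) c30
  by_cases c31 : r < 14212
  · exact allRange_spec e7Cneg_9_14174 r (by omega) c31
  by_cases c32 : r < 14250
  · exact allRange_spec e7Cneg_9_14212 r (by omega) c32
  by_cases c33 : r < 14288
  · exact allRange_spec e7Cneg_9_14250 r (by omega) c33
  by_cases c34 : r < 14326
  · exact allRange_spec e7Cneg_9_14288 r (by omega) c34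
  by_cases c35 : r < 14364
  · exact allRange_spec e7Cneg_9_14326 r (by omega) c35
  by_cases c36 : r < 14402
  · exact allRange_spec e7Cneg_9_14364 r (by omega) c36
  exact allRange_spec e7Cneg_9_14402 r (by omega) h2

end Cfsg.Agent.Lib.Helper3.ChevM
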