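import Cfsg.Agent.Lib.Helper3.ChevData.E7CnegA
import Cfsg.Agent.Lib.Helper3.ChevData.E7CnegB
import Cfsg.Agent.Lib.Helper3.ChevData.E7CnegC
import Cfsg.Agent.Lib.Helper3.ChevData.E7CnegD
import Cfsg.Agent.Lib.Helper3.ChevData.E7CnegE
import Cfsg.Agent.Lib.Helper3.ChevData.E7CnegF
import Cfsg.Agent.Lib.Helper3.ChevData.E7CnegG
import Cfsg.Agent.Lib.Helper3.ChevData.E7CnegH
import Cfsg.Agent.Lib.Helper3.ChevData.E7CnegI
import Cfsg.Agent.Lib.Helper3.ChevData.E7CnegJ
import Cfsg.Agent.Lib.Helper3.ChevData.E7CnegK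
set_option autoImplicit false

namespace Cfsg.Agent.Lib.Helper3.ChevM
open Cfsg.Agent.Lib.Helper3.StB

/-- The commutator formula of type E7 for opposite roots. -/
theorem e7Cneg : ∀ r < 15876, ((fun k => commNegCheck Cfsg.Lie.chevE7 (k / 126) (k % 126))) r = true := by
  intro r hr
  by_cases h0 : r < 1444
  · exact e7Cneg_0 r (by omega) h0
  by_cases h1 : r < 2888
  · exact e7Cneg_1 r (by omega) h1
  by_cases h2 : r < 4332
  · exact e7Cneg_2 r (by omega) h2
  by_cases h3 : r < 5776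
  · exact e7Cneg_3 r (by omega) h3
  by_cases h4 : r < 7220
  · exact e7Cneg_4 r (by omega) h4
  by_cases h5 : r < 8664
  · exact e7Cneg_5 r (by omega) h5
  by_cases h6 : r < 10108
  · exact e7Cneg_6 r (by omega) h6
  by_cases h7 : r < 11552
  · exact e7Cneg_7 r (by omega) h7
  by_cases h8 : r < 12996
  · exact e7Cneg_8 r (by omega) h8
  by_cases h9 : r < 14440
  · exact e7Cneg_9 r (by omega) h9
  exact e7Cneg_10 r (by omega) hr

end Cfsg.Agent.Lib.Helper3.ChevM
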