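import Cfsg.Prelude.Def_ChevE7
import Cfsg.Agent.Lib.Helper3.StB5
set_option autoImplicit false
set_option maxRecDepth 1000000
set_option Elab.async false

namespace Cfsg.Agent.Lib.Helper3.ChevM
open Cfsg.Agent.Lib.Helper3.StB

theorem e7Cneg_0_0 : allRange 0 38 ((fun k => commNegCheck Cfsg.Lie.chevE7 (k / 126) (k % 126))) = true := by decide +kernel
theorem e7Cneg_0_38 : allRange 38 76 ((fun k => commNegCheck Cfsg.Lie.chevE7 (k / 126) (k % 126))) = true := by decide +kernel
theorem e7Cneg_0_76 : allRange 76 114 ((fun k => commNegCheck Cfsg.Lie.chevE7 (k / 126) (k % 126))) = true := by decide +kernel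
theorem e7Cneg_0_114 : allRange 114 152 ((fun k => commNegCheck Cfsg.Lie.chevE7 (k / 126) (k % 126))) = true := by decide +kernel
theorem e7Cneg_0_152 : allRange 152 190 ((fun k => commNegCheck Cfsg.Lie.chevE7 (k / 126) (k % 126))) = true := by decide +kernel
theorem e7Cneg_0_190 : allRange 190 228 ((fun k => commNegCheck Cfsg.Lie.chevE7 (k / 126) (k % 126))) = true := by decide +kernel
theorem e7Cneg_0_228 : allRange 228 266 ((fun k => commNegCheck Cfsg.Lie.chevE7 (k / 126) (k % 126))) = true := by decide +kernel
theorem e7Cneg_0_266 : allRange 266 304 ((fun k => commNegCheck Cfsg.Lie.chevE7 (k / 126) (k % 126))) = true := by decide +kernel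
theorem e7Cneg_0_304 : allRange 304 342 ((fun k => commNegCheck Cfsg.Lie.chevE7 (k / 126) (k % 126))) = true := by decide +kernel
theorem e7Cneg_0_342 : allRange 342 380 ((fun k => commNegCheck Cfsg.Lie.chevE7 (k / 126) (k % 126))) = true := by decide +kernel
theorem e7Cneg_0_380 : allRange 380 418 ((fun k => commNegCheck Cfsg.Lie.chevE7 (k / 126) (k % 126))) = true := by decide +kernel
theorem e7Cneg_0_418 : allRange 418 456 ((fun k => commNegCheck Cfsg.Lie.chevE7 (k / 126) (k % 126))) = true := by decide +kernel
theorem e7Cneg_0_456 : allRange 456 494 ((fun k => commNegCheck Cfsg.Lie.chevE7 (k / 126) (k % 126))) = true := by decide +kernel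
theorem e7Cneg_0_494 : allRange 494 532 ((fun k => commNegCheck Cfsg.Lie.chevE7 (k / 126) (k % 126))) = true := by decide +kernel
theorem e7Cneg_0_532 : allRange 532 570 ((fun k => commNegCheck Cfsg.Lie.chevE7 (k / 126) (k % 126))) = true := by decide +kernel
theorem e7Cneg_0_570 : allRange 570 608 ((fun k => commNegCheck Cfsg.Lie.chevE7 (k / 126) (k % 126))) = true := by decide +kernel
theorem e7Cneg_0_608 : allRange 608 646 ((fun k => commNegCheck Cfsg.Lie.chevE7 (k / 126) (k % 126))) = true := by decide +kernel
theorem e7Cneg_0_646 : allRange 646 684 ((fun k => commNegCheck Cfsg.Lie.chevE7 (k / 126) (k % 126))) = true := by decide +kernel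
theorem e7Cneg_0_684 : allRange 684 722 ((fun k => commNegCheck Cfsg.Lie.chevE7 (k / 126) (k % 126))) = true := by decide +kernel
theorem e7Cneg_0_722 : allRange 722 760 ((fun k => commNegCheck Cfsg.Lie.chevE7 (k / 126) (k % 126))) = true := by decide +kernel
theorem e7Cneg_0_760 : allRange 760 798 ((fun k => commNegCheck Cfsg.Lie.chevE7 (k / 126) (k % 126))) = true := by decide +kernel
theorem e7Cneg_0_798 : allRange 798 836 ((fun k => commNegCheck Cfsg.Lie.chevE7 (k / 126) (k % 126))) = true := by decide +kernel
theorem e7Cneg_0_836 : allRange 836 874 ((fun k => commNegCheck Cfsg.Lie.chevE7 (k / 126) (k % 126))) = true := by decide +kernel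
theorem e7Cneg_0_874 : allRange 874 912 ((fun k => commNegCheck Cfsg.Lie.chevE7 (k / 126) (k % 126))) = true := by decide +kernel
theorem e7Cneg_0_912 : allRange 912 950 ((fun k => commNegCheck Cfsg.Lie.chevE7 (k / 126) (k % 126))) = true := by decide +kernel
theorem e7Cneg_0_950 : allRange 950 988 ((fun k => commNegCheck Cfsg.Lie.chevE7 (k / 126) (k % 126))) = true := by decide +kernel
theorem e7Cneg_0_988 : allRange 988 1026 ((fun k => commNegCheck Cfsg.Lie.chevE7 (k / 126) (k % 126))) = true := by decide +kernel
theorem e7Cneg_0_1026 : allRange 1026 1064 ((fun k => commNegCheck Cfsg.Lie.chevE7 (k / 126) (k % 126))) = true := by decide +kernel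
theorem e7Cneg_0_1064 : allRange 1064 1102 ((fun k => commNegCheck Cfsg.Lie.chevE7 (k / 126) (k % 126))) = true := by decide +kernel
theorem e7Cneg_0_1102 : allRange 1102 1140 ((fun k => commNegCheck Cfsg.Lie.chevE7 (k / 126) (k % 126))) = true := by decide +kernel
theorem e7Cneg_0_1140 : allRange 1140 1178 ((fun k => commNegCheck Cfsg.Lie.chevE7 (k / 126) (k % 126))) = true := by decide +kernel
theorem e7Cneg_0_1178 : allRange 1178 1216 ((fun k => commNegCheck Cfsg.Lie.chevE7 (k / 126) (k % 126))) = true := by decide +kernel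
theorem e7Cneg_0_1216 : allRange 1216 1254 ((fun k => commNegCheck Cfsg.Lie.chevE7 (k / 126) (k % 126))) = true := by decide +kernel
theorem e7Cneg_0_1254 : allRange 1254 1292 ((fun k => commNegCheck Cfsg.Lie.chevE7 (k / 126) (k % 126))) = true := by decide +kernel
theorem e7Cneg_0_1292 : allRange 1292 1330 ((fun k => commNegCheck Cfsg.Lie.chevE7 (k / 126) (k % 126))) = true := by decide +kernel
theorem e7Cneg_0_1330 : allRange 1330 1368 ((fun k => commNegCheck Cfsg.Lie.chevE7 (k / 126) (k % 126))) = true := by decide +kernel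
theorem e7Cneg_0_1368 : allRange 1368 1406 ((fun k => commNegCheck Cfsg.Lie.chevE7 (k / 126) (k % 126))) = true := by decide +kernel
theorem e7Cneg_0_1406 : allRange 1406 1444 ((fun k => commNegCheck Cfsg.Lie.chevE7 (k / 126) (k % 126))) = true := by decide +kernel

/-- The commutator formula of type E7 for opposite roots (roots 0 to 1443). -/
theorem e7Cneg_0 : ∀ r, 0 ≤ r → r < 1444 → ((fun k => commNegCheck Cfsg.Lie.chevE7 (k / 126) (k % 126))) r = true := by
  intro r h1 h2
  by_cases c0 : r < 38
  · exact allRange_spec e7Cneg_0_0 r (by omega) c0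
  by_cases c1 : r < 76
  · exact allRange_spec e7Cneg_0_38 r (by omega) c1
  by_cases c2 : r < 114
  · exact allRange_spec e7Cneg_0_76 r (by omega) c2
  by_cases c3 : r < 152
  · exact allRange_spec e7Cneg_0_114 r (by omega) c3
  by_cases c4 : r < 190
  · exact allRange_spec e7Cneg_0_152 r (by omega) c4
  by_cases c5 : r < 228
  · exact allRange_spec e7Cneg_0_190 r (by omega) c5
  by_cases c6 : r < 266
  · exact allRange_spec e7Cneg_0_228 r (by omega) c6
  by_cases c7 : r < 304
  · exact allRange_spec e7Cneg_0_266 r (by omega) c7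
  by_cases c8 : r < 342
  · exact allRange_spec e7Cneg_0_304 r (by omega) c8
  by_cases c9 : r < 380
  · exact allRange_spec e7Cneg_0_342 r (by omega) c9
  by_cases c10 : r < 418
  · exact allRange_spec e7Cneg_0_380 r (by omega) c10
  by_cases c11 : r < 456
  · exact allRange_spec e7Cneg_0_418 r (by omega) c11
  by_cases c12 : r < 494
  · exact allRange_spec e7Cneg_0_456 r (by omega) c12
  by_cases c13 : r < 532
  · exact allRange_spec e7Cneg_0_494 r (by omega) c13
  by_cases c14 : r < 570
  · exact allRange_spec e7Cneg_0_532 r (by omega) c14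
  by_cases c15 : r < 608
  · exact allRange_spec e7Cneg_0_570 r (by omega) c15
  by_cases c16 : r < 646
  · exact allRange_spec e7Cneg_0_608 r (by omega) c16
  by_cases c17 : r < 684
  · exact allRange_spec e7Cneg_0_646 r (by omega) c17
  by_cases c18 : r < 722
  · exact allRange_spec e7Cneg_0_684 r (by omega) c18
  by_cases c19 : r < 760
  · exact allRange_spec e7Cneg_0_722 r (by omega) c19
  by_cases c20 : r < 798
  · exact allRange_spec e7Cneg_0_760 r (by omega) c20
  by_cases c21 : r < 836
  · exact allRange_spec e7Cneg_0_798 r (by omega) c21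
  by_cases c22 : r < 874
  · exact allRange_spec e7Cneg_0_836 r (by omega) c22
  by_cases c23 : r < 912
  · exact allRange_spec e7Cneg_0_874 r (by omega) c23
  by_cases c24 : r < 950
  · exact allRange_spec e7Cneg_0_912 r (by omega) c24
  by_cases c25 : r < 988
  · exact allRange_spec e7Cneg_0_950 r (by omega) c25
  by_cases c26 : r < 1026
  · exact allRange_spec e7Cneg_0_988 r (by omega) c26
  by_cases c27 : r < 1064
  · exact allRange_spec e7Cneg_0_1026 r (by omega) c27
  by_cases c28 : r < 1102
  · exact allRange_spec e7Cneg_0_1064 r (by omega) c28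
  by_cases c29 : r < 1140
  · exact allRange_spec e7Cneg_0_1102 r (by omega) c29
  by_cases c30 : r < 1178
  · exact allRange_spec e7Cneg_0_1140 r (by omega) c30
  by_cases c31 : r < 1216
  · exact allRange_spec e7Cneg_0_1178 r (by omega) c31
  by_cases c32 : r < 1254
  · exact allRange_spec e7Cneg_0_1216 r (by omega) c32
  by_cases c33 : r < 1292
  · exact allRange_spec e7Cneg_0_1254 r (by omega) c33
  by_cases c34 : r < 1330
  · exact allRange_spec e7Cneg_0_1292 r (by omega) c34
  by_cases c35 : r < 1368
  · exact allRange_spec e7Cneg_0_1330 r (by omega) c35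
  by_cases c36 : r < 1406
  · exact allRange_spec e7Cneg_0_1368 r (by omega) c36
  exact allRange_spec e7Cneg_0_1406 r (by omega) h2

end Cfsg.Agent.Lib.Helper3.ChevM
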