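import Cfsg.Prelude.Def_ChevE7
import Cfsg.Agent.Lib.Helper3.StB5
set_option autoImplicit false
set_option maxRecDepth 1000000
set_option Elab.async false

namespace Cfsg.Agent.Lib.Helper3.ChevM
open Cfsg.Agent.Lib.Helper3.StB

theorem e7Cneg_10_14440 : allRange 14440 14478 ((fun k => commNegCheck Cfsg.Lie.chevE7 (k / 126) (k % 126))) = true := by decide +kernel
theorem e7Cneg_10_14478 : allRange 14478 14516 ((fun k => commNegCheck Cfsg.Lie.chevE7 (k / 126) (k % 126))) = true := by decide +kernel
theorem e7Cneg_10_14516 : allRange 14516 14554 ((fun k => commNegCheck Cfsg.Lie.chevE7 (k / 126) (k % 126))) = true := by decide +kernel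
theorem e7Cneg_10_14554 : allRange 14554 14592 ((fun k => commNegCheck Cfsg.Lie.chevE7 (k / 126) (k % 126))) = true := by decide +kernel
theorem e7Cneg_10_14592 : allRange 14592 14630 ((fun k => commNegCheck Cfsg.Lie.chevE7 (k / 126) (k % 126))) = true := by decide +kernel
theorem e7Cneg_10_14630 : allRange 14630 14668 ((fun k => commNegCheck Cfsg.Lie.chevE7 (k / 126) (k % 126))) = true := by decide +kernel
theorem e7Cneg_10_14668 : allRange 14668 14706 ((fun k => commNegCheck Cfsg.Lie.chevE7 (k / 126) (k % 126))) = true := by decide +kernel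
theorem e7Cneg_10_14706 : allRange 14706 14744 ((fun k => commNegCheck Cfsg.Lie.chevE7 (k / 126) (k % 126))) = true := by decide +kernel
theorem e7Cneg_10_14744 : allRange 14744 14782 ((fun k => commNegCheck Cfsg.Lie.chevE7 (k / 126) (k % 126))) = true := by decide +kernel
theorem e7Cneg_10_14782 : allRange 14782 14820 ((fun k => commNegCheck Cfsg.Lie.chevE7 (k / 126) (k % 126))) = true := by decide +kernel
theorem e7Cneg_10_14820 : allRange 14820 14858 ((fun k => commNegCheck Cfsg.Lie.chevE7 (k / 126) (k % 126))) = true := by decide +kernel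
theorem e7Cneg_10_14858 : allRange 14858 14896 ((fun k => commNegCheck Cfsg.Lie.chevE7 (k / 126) (k % 126))) = true := by decide +kernel
theorem e7Cneg_10_14896 : allRange 14896 14934 ((fun k => commNegCheck Cfsg.Lie.chevE7 (k / 126) (k % 126))) = true := by decide +kernel
theorem e7Cneg_10_14934 : allRange 14934 14972 ((fun k => commNegCheck Cfsg.Lie.chevE7 (k / 126) (k % 126))) = true := by decide +kernel
theorem e7Cneg_10_14972 : allRange 14972 15010 ((fun k => commNegCheck Cfsg.Lie.chevE7 (k / 126) (k % 126))) = true := by decide +kernel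
theorem e7Cneg_10_15010 : allRange 15010 15048 ((fun k => commNegCheck Cfsg.Lie.chevE7 (k / 126) (k % 126))) = true := by decide +kernel
theorem e7Cneg_10_15048 : allRange 15048 15086 ((fun k => commNegCheck Cfsg.Lie.chevE7 (k / 126) (k % 126))) = true := by decide +kernel
theorem e7Cneg_10_15086 : allRange 15086 15124 ((fun k => commNegCheck Cfsg.Lie.chevE7 (k / 126) (k % 126))) = true := by decide +kernel
theorem e7Cneg_10_15124 : allRange 15124 15162 ((fun k => commNegCheck Cfsg.Lie.chevE7 (k / 126) (k % 126))) = true := by decide +kernel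
theorem e7Cneg_10_15162 : allRange 15162 15200 ((fun k => commNegCheck Cfsg.Lie.chevE7 (k / 126) (k % 126))) = true := by decide +kernel
theorem e7Cneg_10_15200 : allRange 15200 15238 ((fun k => commNegCheck Cfsg.Lie.chevE7 (k / 126) (k % 126))) = true := by decide +kernel
theorem e7Cneg_10_15238 : allRange 15238 15276 ((fun k => commNegCheck Cfsg.Lie.chevE7 (k / 126) (k % 126))) = true := by decide +kernel
theorem e7Cneg_10_15276 : allRange 15276 15314 ((fun k => commNegCheck Cfsg.Lie.chevE7 (k / 126) (k % 126))) = true := by decide +kernel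
theorem e7Cneg_10_15314 : allRange 15314 15352 ((fun k => commNegCheck Cfsg.Lie.chevE7 (k / 126) (k % 126))) = true := by decide +kernel
theorem e7Cneg_10_15352 : allRange 15352 15390 ((fun k => commNegCheck Cfsg.Lie.chevE7 (k / 126) (k % 126))) = true := by decide +kernel
theorem e7Cneg_10_15390 : allRange 15390 15428 ((fun k => commNegCheck Cfsg.Lie.chevE7 (k / 126) (k % 126))) = true := by decide +kernel
theorem e7Cneg_10_15428 : allRange 15428 15466 ((fun k => commNegCheck Cfsg.Lie.chevE7 (k / 126) (k % 126))) = true := by decide +kernel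
theorem e7Cneg_10_15466 : allRange 15466 15504 ((fun k => commNegCheck Cfsg.Lie.chevE7 (k / 126) (k % 126))) = true := by decide +kernel
theorem e7Cneg_10_15504 : allRange 15504 15542 ((fun k => commNegCheck Cfsg.Lie.chevE7 (k / 126) (k % 126))) = true := by decide +kernel
theorem e7Cneg_10_15542 : allRange 15542 15580 ((fun k => commNegCheck Cfsg.Lie.chevE7 (k / 126) (k % 126))) = true := by decide +kernel
theorem e7Cneg_10_15580 : allRange 15580 15618 ((fun k => commNegCheck Cfsg.Lie.chevE7 (k / 126) (k % 126))) = true := by decide +kernel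
theorem e7Cneg_10_15618 : allRange 15618 15656 ((fun k => commNegCheck Cfsg.Lie.chevE7 (k / 126) (k % 126))) = true := by decide +kernel
theorem e7Cneg_10_15656 : allRange 15656 15694 ((fun k => commNegCheck Cfsg.Lie.chevE7 (k / 126) (k % 126))) = true := by decide +kernel
theorem e7Cneg_10_15694 : allRange 15694 15732 ((fun k => commNegCheck Cfsg.Lie.chevE7 (k / 126) (k % 126))) = true := by decide +kernel
theorem e7Cneg_10_15732 : allRange 15732 15770 ((fun k => commNegCheck Cfsg.Lie.chevE7 (k / 126) (k % 126))) = true := by decide +kernel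
theorem e7Cneg_10_15770 : allRange 15770 15808 ((fun k => commNegCheck Cfsg.Lie.chevE7 (k / 126) (k % 126))) = true := by decide +kernel
theorem e7Cneg_10_15808 : allRange 15808 15846 ((fun k => commNegCheck Cfsg.Lie.chevE7 (k / 126) (k % 126))) = true := by decide +kernel
theorem e7Cneg_10_15846 : allRange 15846 15876 ((fun k => commNegCheck Cfsg.Lie.chevE7 (k / 126) (k % 126))) = true := by decide +kernel

/-- The commutator formula of type E7 for opposite roots (roots 14440 to 15875). -/
theorem e7Cneg_10 : ∀ r, 14440 ≤ r → r < 15876 → ((fun k => commNegCheck Cfsg.Lie.chevE7 (k / 126) (k % 126))) r = true := by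
  intro r h1 h2
  by_cases c0 : r < 14478
  · exact allRange_spec e7Cneg_10_14440 r (by omega) c0
  by_cases c1 : r < 14516
  · exact allRange_spec e7Cneg_10_14478 r (by omega) c1
  by_cases c2 : r < 14554
  · exact allRange_spec e7Cneg_10_14516 r (by omega) c2
  by_cases c3 : r < 14592
  · exact allRange_spec e7Cneg_10_14554 r (by omega) c3
  by_cases c4 : r < 14630
  · exact allRange_spec e7Cneg_10_14592 r (by omega) c4
  by_cases c5 : r < 14668
  · exact allRange_spec e7Cneg_10_14630 r (by omega) c5
  by_cases c6 : r < 14706
  · exact allRange_spec e7Cneg_10_14668 r (by omega) c6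
  by_cases c7 : r < 14744
  · exact allRange_spec e7Cneg_10_14706 r (by omega) c7
  by_cases c8 : r < 14782
  · exact allRange_spec e7Cneg_10_14744 r (by omega) c8
  by_cases c9 : r < 14820
  · exact allRange_spec e7Cneg_10_14782 r (by omega) c9
  by_cases c10 : r < 14858
  · exact allRange_spec e7Cneg_10_14820 r (by omega) c10
  by_cases c11 : r < 14896
  · exact allRange_spec e7Cneg_10_14858 r (by omega) c11
  by_cases c12 : r < 14934
  · exact allRange_spec e7Cneg_10_14896 r (by omega) c12
  by_cases c13 : r < 14972
  · exact allRange_spec e7Cneg_10_14934 r (by omega) c13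
  by_cases c14 : r < 15010
  · exact allRange_spec e7Cneg_10_14972 r (by omega) c14
  by_cases c15 : r < 15048
  · exact allRange_spec e7Cneg_10_15010 r (by omega) c15
  by_cases c16 : r < 15086
  · exact allRange_spec e7Cneg_10_15048 r (by omega) c16
  by_cases c17 : r < 15124
  · exact allRange_spec e7Cneg_10_15086 r (by omega) c17
  by_cases c18 : r < 15162
  · exact allRange_spec e7Cneg_10_15124 r (by omega) c18
  by_cases c19 : r < 15200
  · exact allRange_spec e7Cneg_10_15162 r (by omega) c19
  by_cases c20 : r < 15238
  · exact allRange_spec e7Cneg_10_15200 r (by omega) c20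
  by_cases c21 : r < 15276
  · exact allRange_spec e7Cneg_10_15238 r (by omega) c21
  by_cases c22 : r < 15314
  · exact allRange_spec e7Cneg_10_15276 r (by omega) c22
  by_cases c23 : r < 15352
  · exact allRange_spec e7Cneg_10_15314 r (by omega) c23
  by_cases c24 : r < 15390
  · exact allRange_spec e7Cneg_10_15352 r (by omega) c24
  by_cases c25 : r < 15428
  · exact allRange_spec e7Cneg_10_15390 r (by omega) c25
  by_cases c26 : r < 15466
  · exact allRange_spec e7Cneg_10_15428 r (by omega) c26
  by_cases c27 : r < 15504
  · exact allRange_spec e7Cneg_10_15466 r (by omega) c27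
  by_cases c28 : r < 15542
  · exact allRange_spec e7Cneg_10_15504 r (by omega) c28
  by_cases c29 : r < 15580
  · exact allRange_spec e7Cneg_10_15542 r (by omega) c29
  by_cases c30 : r < 15618
  · exact allRange_spec e7Cneg_10_15580 r (by omega) c30
  by_cases c31 : r < 15656
  · exact allRange_spec e7Cneg_10_15618 r (by omega) c31
  by_cases c32 : r < 15694
  · exact allRange_spec e7Cneg_10_15656 r (by omega) c32
  by_cases c33 : r < 15732
  · exact allRange_spec e7Cneg_10_15694 r (by omega) c33
  by_cases c34 : r < 15770
  · exact allRange_spec e7Cneg_10_15732 r (by omega) c34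
  by_cases c35 : r < 15808
  · exact allRange_spec e7Cneg_10_15770 r (by omega) c35
  by_cases c36 : r < 15846
  · exact allRange_spec e7Cneg_10_15808 r (by omega) c36
  exact allRange_spec e7Cneg_10_15846 r (by omega) h2

end Cfsg.Agent.Lib.Helper3.ChevM
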