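import Cfsg.Agent.Lib.Helper3.ChevM2
set_option autoImplicit false
set_option maxRecDepth 100000

namespace Cfsg.Agent.Lib.Helper3.ChevM

/-- Compiled columns of `x_42` for type E7. -/
def colsE7_42 (c : ℕ) : List CEnt :=
  cond (Nat.blt c 66) (cond (Nat.blt c 26) (cond (Nat.blt c 5) (cond (Nat.blt c 2) (cond (Nat.blt c 1) (cond (Nat.beq c 0) [⟨49, -1, 1⟩] []) (cond (Nat.beq c 1) [⟨49, 1, 1⟩] [])) (cond (Nat.blt c 3) (cond (Nat.beq c 2) [⟨49, 1, 1⟩] []) (cond (Nat.blt c 4) (cond (Nat.beq c 3) [⟨49, 0, 1⟩] []) (cond (Nat.beq c 4) [⟨49, -1, 1⟩] [])))) (cond (Nat.blt c 14) (cond (Nat.blt c 6) (cond (Nat.beq c 5) [⟨49, 0, 1⟩] []) (cond (Nat.beq c 6) [⟨49, 0, 1⟩] [])) (cond (Nat.blt c 24) (cond (Nat.beq c 14) [⟨8, -1, 1⟩] []) (cond (Nat.blt c 25) (cond (Nat.beq c 24) [⟨11, -1, 1⟩]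 []) (cond (Nat.beq c 25) [⟨12, -1, 1⟩] []))))) (cond (Nat.blt c 60) (cond (Nat.blt c 35) (cond (Nat.blt c 34) (cond (Nat.beq c 26) [⟨13, -1, 1⟩] []) (cond (Nat.beq c 34) [⟨21, -1, 1⟩] [])) (cond (Nat.blt c 36) (cond (Nat.beq c 35) [⟨22, -1, 1⟩] []) (cond (Nat.blt c 39) (cond (Nat.beq c 36) [⟨23, -1, 1⟩] []) (cond (Nat.beq c 39) [⟨33, -1, 1⟩] [])))) (cond (Nat.blt c 62) (cond (Nat.blt c 61) (cond (Nat.beq c 60) [⟨43, -1, 1⟩] []) (cond (Nat.beq c 61) [⟨44, -1, 1⟩] [])) (cond (Nat.blt c 64) (cond (Nat.beq c 62) [⟨45, -1, 1⟩] []) (cond (Nat.blt c 65) (cond (Nat.beq c 64) [⟨46, 1, 1⟩] []) (cond (Nat.beq c 65) [⟨47, 1, 1⟩] [])))))) (cond (Nat.blt c 95) (cond (Nat.blt c 90) (cond (Nat.blt c 81) (cond (Nat.blt c 80) (cond (Nat.beq c 66) [⟨48, 1, 1⟩] []) (cond (Nat.beq c 80) [⟨53, 1,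 1⟩] [])) (cond (Nat.blt c 85) (cond (Nat.beq c 81) [⟨54, -1, 1⟩] []) (cond (Nat.blt c 86) (cond (Nat.beq c 85) [⟨58, 1, 1⟩] []) (cond (Nat.beq c 86) [⟨59, -1, 1⟩] [])))) (cond (Nat.blt c 92) (cond (Nat.blt c 91) (cond (Nat.beq c 90) [⟨49, -1, 2⟩, ⟨0, 0, 1⟩, ⟨1, -1, 1⟩, ⟨2, -1, 1⟩, ⟨3, -1, 1⟩, ⟨4, 0, 1⟩, ⟨5, 0, 1⟩, ⟨6, 0, 1⟩] []) (cond (Nat.beq c 91) [⟨73, -1, 1⟩] [])) (cond (Nat.blt c 93) (cond (Nat.beq c 92) [⟨74, -1, 1⟩] []) (cond (Nat.blt c 94) (cond (Nat.beq c 93) [⟨75, -1, 1⟩] []) (cond (Nat.beq c 94) [⟨77, 1, 1⟩] []))))) (cond (Nat.blt c 118) (cond (Nat.blt c 106) (cond (Nat.blt c 96) (cond (Nat.beq c 95) [⟨78, 1, 1⟩] []) (cond (Nat.beq c 96) [⟨79, 1, 1⟩] [])) (cond (Nat.blt c 116) (cond (Nat.beq c 106) [⟨100, 1, 1⟩] []) (cond (Nat.blt c 117) (cond (Nat.beq c 116) [⟨103,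 1, 1⟩] []) (cond (Nat.beq c 117) [⟨104, 1, 1⟩] [])))) (cond (Nat.blt c 127) (cond (Nat.blt c 126) (cond (Nat.beq c 118) [⟨105, 1, 1⟩] []) (cond (Nat.beq c 126) [⟨113, 1, 1⟩] [])) (cond (Nat.blt c 128) (cond (Nat.beq c 127) [⟨114, 1, 1⟩] []) (cond (Nat.blt c 131) (cond (Nat.beq c 128) [⟨115, 1, 1⟩] []) (cond (Nat.beq c 131) [⟨125, 1, 1⟩] []))))))

/-- Compiled columns of `x_43` for type E7. -/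
def colsE7_43 (c : ℕ) : List CEnt :=
  cond (Nat.blt c 72) (cond (Nat.blt c 23) (cond (Nat.blt c 5) (cond (Nat.blt c 2) (cond (Nat.blt c 1) (cond (Nat.beq c 0) [⟨50, 0, 1⟩] []) (cond (Nat.beq c 1) [⟨50, 1, 1⟩] [])) (cond (Nat.blt c 3) (cond (Nat.beq c 2) [⟨50, -1, 1⟩] []) (cond (Nat.blt c 4) (cond (Nat.beq c 3) [⟨50, 0, 1⟩] []) (cond (Nat.beq c 4) [⟨50, 0, 1⟩] [])))) (cond (Nat.blt c 17) (cond (Nat.blt c 6) (cond (Nat.beq c 5) [⟨50, 0, 1⟩] []) (cond (Nat.beq c 6) [⟨50, 1, 1⟩] [])) (cond (Nat.blt c 20) (cond (Nat.beq c 17) [⟨9, 1, 1⟩] []) (cond (Nat.blt c 22) (cond (Nat.beq c 20) [⟨10, 1, 1⟩] []) (cond (Nat.beq c 22) [⟨11, 1, 1⟩] []))))) (cond (Nat.blt c 56) (cond (Nat.blt c 36) (cond (Nat.blt c 35) (cond (Nat.beq c 23) [⟨12, 1, 1⟩] []) (cond (Nat.beq c 35) [⟨24, 1, 1⟩] [])) (cond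 (Nat.blt c 37) (cond (Nat.beq c 36) [⟨25, 1, 1⟩] []) (cond (Nat.blt c 38) (cond (Nat.beq c 37) [⟨27, 1, 1⟩] []) (cond (Nat.beq c 38) [⟨30, 1, 1⟩] [])))) (cond (Nat.blt c 58) (cond (Nat.blt c 57) (cond (Nat.beq c 56) [⟨40, 1, 1⟩] []) (cond (Nat.beq c 57) [⟨41, 1, 1⟩] [])) (cond (Nat.blt c 59) (cond (Nat.beq c 58) [⟨43, 1, 1⟩] []) (cond (Nat.blt c 70) (cond (Nat.beq c 59) [⟨46, 1, 1⟩] []) (cond (Nat.beq c 70) [⟨51, 1, 1⟩] [])))))) (cond (Nat.blt c 98) (cond (Nat.blt c 87) (cond (Nat.blt c 79) (cond (Nat.blt c 75) (cond (Nat.beq c 72) [⟨52, 1, 1⟩] []) (cond (Nat.beq c 75) [⟨53, 1, 1⟩] [])) (cond (Nat.blt c 85) (cond (Nat.beq c 79) [⟨54, 1, 1⟩] []) (cond (Nat.blt c 86) (cond (Nat.beq c 85) [⟨60, -1, 1⟩] []) (cond (Nat.beq c 86) [⟨64, -1, 1⟩] [])))) (cond (Nat.blt c 89) (cond (Nat.blt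 c 88) (cond (Nat.beq c 87) [⟨67, -1, 1⟩] []) (cond (Nat.beq c 88) [⟨69, -1, 1⟩] [])) (cond (Nat.blt c 93) (cond (Nat.beq c 89) [⟨50, -1, 2⟩, ⟨0, 0, 1⟩, ⟨1, -1, 1⟩, ⟨2, 0, 1⟩, ⟨3, -1, 1⟩, ⟨4, -1, 1⟩, ⟨5, -1, 1⟩, ⟨6, -1, 1⟩] []) (cond (Nat.blt c 96) (cond (Nat.beq c 93) [⟨80, -1, 1⟩] []) (cond (Nat.beq c 96) [⟨81, -1, 1⟩] []))))) (cond (Nat.blt c 115) (cond (Nat.blt c 109) (cond (Nat.blt c 99) (cond (Nat.beq c 98) [⟨82, -1, 1⟩] []) (cond (Nat.beq c 99) [⟨83, -1, 1⟩] [])) (cond (Nat.blt c 112) (cond (Nat.beq c 109) [⟨101, -1, 1⟩] []) (cond (Nat.blt c 114) (cond (Nat.beq c 112) [⟨102, -1, 1⟩] []) (cond (Nat.beq c 114) [⟨103, -1, 1⟩] [])))) (cond (Nat.blt c 128) (cond (Nat.blt c 127) (cond (Nat.beq c 115) [⟨104, -1, 1⟩] []) (cond (Nat.beq c 127) [⟨116, -1, 1⟩] [])) (cond (Nat.blt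 c 129) (cond (Nat.beq c 128) [⟨117, -1, 1⟩] []) (cond (Nat.blt c 130) (cond (Nat.beq c 129) [⟨119, -1, 1⟩] []) (cond (Nat.beq c 130) [⟨122, -1, 1⟩] []))))))

/-- Compiled columns of `x_44` for type E7. -/
def colsE7_44 (c : ℕ) : List CEnt :=
  cond (Nat.blt c 71) (cond (Nat.blt c 23) (cond (Nat.blt c 5) (cond (Nat.blt c 2) (cond (Nat.blt c 1) (cond (Nat.beq c 0) [⟨51, 0, 1⟩] []) (cond (Nat.beq c 1) [⟨51, 1, 1⟩] [])) (cond (Nat.blt c 3) (cond (Nat.beq c 2) [⟨51, -1, 1⟩] []) (cond (Nat.blt c 4) (cond (Nat.beq c 3) [⟨51, 0, 1⟩] []) (cond (Nat.beq c 4) [⟨51, 0, 1⟩] [])))) (cond (Nat.blt c 16) (cond (Nat.blt c 6) (cond (Nat.beq c 5) [⟨51, 1, 1⟩] []) (cond (Nat.beq c 6) [⟨51, -1, 1⟩] [])) (cond (Nat.blt c 19) (cond (Nat.beq c 16) [⟨9, -1, 1⟩] []) (cond (Nat.blt c 21) (cond (Nat.beq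 c 19) [⟨10, -1, 1⟩] []) (cond (Nat.beq c 21) [⟨11, -1, 1⟩] []))))) (cond (Nat.blt c 55) (cond (Nat.blt c 36) (cond (Nat.blt c 34) (cond (Nat.beq c 23) [⟨13, 1, 1⟩] []) (cond (Nat.beq c 34) [⟨24, -1, 1⟩] [])) (cond (Nat.blt c 37) (cond (Nat.beq c 36) [⟨26, 1, 1⟩] []) (cond (Nat.blt c 38) (cond (Nat.beq c 37) [⟨28, 1, 1⟩] []) (cond (Nat.beq c 38) [⟨31, 1, 1⟩] [])))) (cond (Nat.blt c 58) (cond (Nat.blt c 57) (cond (Nat.beq c 55) [⟨40, -1, 1⟩] []) (cond (Nat.beq c 57) [⟨42, 1, 1⟩] [])) (cond (Nat.blt c 59) (cond (Nat.beq c 58) [⟨44, 1, 1⟩] []) (cond (Nat.blt c 69) (cond (Nat.beq c 59) [⟨47, 1, 1⟩] []) (cond (Nat.beq c 69) [⟨50, 1, 1⟩] [])))))) (cond (Nat.blt c 97) (cond (Nat.blt c 87) (cond (Nat.blt c 78) (cond (Nat.blt c 74) (cond (Nat.beq c 71) [⟨52, 1, 1⟩] []) (cond (Nat.beq c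 74) [⟨53, 1, 1⟩] [])) (cond (Nat.blt c 85) (cond (Nat.beq c 78) [⟨54, 1, 1⟩] []) (cond (Nat.blt c 86) (cond (Nat.beq c 85) [⟨61, -1, 1⟩] []) (cond (Nat.beq c 86) [⟨65, -1, 1⟩] [])))) (cond (Nat.blt c 89) (cond (Nat.blt c 88) (cond (Nat.beq c 87) [⟨68, -1, 1⟩] []) (cond (Nat.beq c 88) [⟨51, -1, 2⟩, ⟨0, 0, 1⟩, ⟨1, -1, 1⟩, ⟨2, 0, 1⟩, ⟨3, -1, 1⟩, ⟨4, -1, 1⟩, ⟨5, -1, 1⟩, ⟨6, 0, 1⟩] [])) (cond (Nat.blt c 92) (cond (Nat.beq c 89) [⟨70, -1, 1⟩] []) (cond (Nat.blt c 95) (cond (Nat.beq c 92) [⟨80, -1, 1⟩] []) (cond (Nat.beq c 95) [⟨81, -1, 1⟩] []))))) (cond (Nat.blt c 115) (cond (Nat.blt c 108) (cond (Nat.blt c 99) (cond (Nat.beq c 97) [⟨82, -1, 1⟩] []) (cond (Nat.beq c 99) [⟨84, 1, 1⟩] [])) (cond (Nat.blt c 111) (cond (Nat.beq c 108) [⟨101, -1, 1⟩] []) (cond (Nat.blt c 113) (cond (Nat.beq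 c 111) [⟨102, -1, 1⟩] []) (cond (Nat.beq c 113) [⟨103, -1, 1⟩] [])))) (cond (Nat.blt c 128) (cond (Nat.blt c 126) (cond (Nat.beq c 115) [⟨105, 1, 1⟩] []) (cond (Nat.beq c 126) [⟨116, -1, 1⟩] [])) (cond (Nat.blt c 129) (cond (Nat.beq c 128) [⟨118, 1, 1⟩] []) (cond (Nat.blt c 130) (cond (Nat.beq c 129) [⟨120, 1, 1⟩] []) (cond (Nat.beq c 130) [⟨123, 1, 1⟩] []))))))

/-- Compiled columns of `x_45` for type E7. -/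
def colsE7_45 (c : ℕ) : List CEnt :=
  cond (Nat.blt c 68) (cond (Nat.blt c 22) (cond (Nat.blt c 5) (cond (Nat.blt c 2) (cond (Nat.blt c 1) (cond (Nat.beq c 0) [⟨52, 0, 1⟩] []) (cond (Nat.beq c 1) [⟨52, 1, 1⟩] [])) (cond (Nat.blt c 3) (cond (Nat.beq c 2) [⟨52, -1, 1⟩] []) (cond (Nat.blt c 4) (cond (Nat.beq c 3) [⟨52, 0, 1⟩] []) (cond (Nat.beq c 4) [⟨52, 1, 1⟩] [])))) (cond (Nat.blt c 15) (cond (Nat.blt c 6) (cond (Nat.beq c 5) [⟨52, -1, 1⟩] []) (cond (Nat.beq c 6) [⟨52, 0, 1⟩] [])) (cond (Nat.blt c 18) (cond (Nat.beq c 15) [⟨9, 1, 1⟩] []) (cond (Nat.blt c 21) (cond (Nat.beq c 18) [⟨10, 1, 1⟩] []) (cond (Nat.beq c 21) [⟨12, -1, 1⟩] []))))) (cond (Nat.blt c 55) (cond (Nat.blt c 35) (cond (Nat.blt c 34) (cond (Nat.beq c 22) [⟨13, -1, 1⟩] []) (cond (Nat.beq c 34) [⟨25, -1, 1⟩] []))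 (cond (Nat.blt c 37) (cond (Nat.beq c 35) [⟨26, -1, 1⟩] []) (cond (Nat.blt c 38) (cond (Nat.beq c 37) [⟨29, 1, 1⟩] []) (cond (Nat.beq c 38) [⟨32, 1, 1⟩] [])))) (cond (Nat.blt c 58) (cond (Nat.blt c 56) (cond (Nat.beq c 55) [⟨41, -1, 1⟩] []) (cond (Nat.beq c 56) [⟨42, -1, 1⟩] [])) (cond (Nat.blt c 59) (cond (Nat.beq c 58) [⟨45, 1, 1⟩] []) (cond (Nat.blt c 67) (cond (Nat.beq c 59) [⟨48, 1, 1⟩] []) (cond (Nat.beq c 67) [⟨50, 1, 1⟩] [])))))) (cond (Nat.blt c 97) (cond (Nat.blt c 87) (cond (Nat.blt c 77) (cond (Nat.blt c 73) (cond (Nat.beq c 68) [⟨51, 1, 1⟩] []) (cond (Nat.beq c 73) [⟨53, 1, 1⟩] [])) (cond (Nat.blt c 85) (cond (Nat.beq c 77) [⟨54, 1, 1⟩] []) (cond (Nat.blt c 86) (cond (Nat.beq c 85) [⟨62, -1, 1⟩] []) (cond (Nat.beq c 86) [⟨66, -1, 1⟩] [])))) (cond (Nat.blt c 89) (cond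 (Nat.blt c 88) (cond (Nat.beq c 87) [⟨52, -1, 2⟩, ⟨0, 0, 1⟩, ⟨1, -1, 1⟩, ⟨2, 0, 1⟩, ⟨3, -1, 1⟩, ⟨4, -1, 1⟩, ⟨5, 0, 1⟩, ⟨6, 0, 1⟩] []) (cond (Nat.beq c 88) [⟨71, -1, 1⟩] [])) (cond (Nat.blt c 91) (cond (Nat.beq c 89) [⟨72, -1, 1⟩] []) (cond (Nat.blt c 94) (cond (Nat.beq c 91) [⟨80, -1, 1⟩] []) (cond (Nat.beq c 94) [⟨81, -1, 1⟩] []))))) (cond (Nat.blt c 114) (cond (Nat.blt c 107) (cond (Nat.blt c 98) (cond (Nat.beq c 97) [⟨83, 1, 1⟩] []) (cond (Nat.beq c 98) [⟨84, 1, 1⟩] [])) (cond (Nat.blt c 110) (cond (Nat.beq c 107) [⟨101, -1, 1⟩] []) (cond (Nat.blt c 113) (cond (Nat.beq c 110) [⟨102, -1, 1⟩] []) (cond (Nat.beq c 113) [⟨104, 1, 1⟩] [])))) (cond (Nat.blt c 127) (cond (Nat.blt c 126) (cond (Nat.beq c 114) [⟨105, 1, 1⟩] []) (cond (Nat.beq c 126) [⟨117, 1, 1⟩] [])) (cond (Nat.blt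 c 129) (cond (Nat.beq c 127) [⟨118, 1, 1⟩] []) (cond (Nat.blt c 130) (cond (Nat.beq c 129) [⟨121, -1, 1⟩] []) (cond (Nat.beq c 130) [⟨124, -1, 1⟩] []))))))

/-- Compiled columns of `x_46` for type E7. -/
def colsE7_46 (c : ℕ) : List CEnt :=
  cond (Nat.blt c 65) (cond (Nat.blt c 20) (cond (Nat.blt c 5) (cond (Nat.blt c 2) (cond (Nat.blt c 1) (cond (Nat.beq c 0) [⟨53, 0, 1⟩] []) (cond (Nat.beq c 1) [⟨53, 1, 1⟩] [])) (cond (Nat.blt c 3) (cond (Nat.beq c 2) [⟨53, -1, 1⟩] []) (cond (Nat.blt c 4) (cond (Nat.beq c 3) [⟨53, 1, 1⟩] []) (cond (Nat.beq c 4) [⟨53, -1, 1⟩] [])))) (cond (Nat.blt c 14) (cond (Nat.blt c 6) (cond (Nat.beq c 5) [⟨53, 0, 1⟩] []) (cond (Nat.beq c 6) [⟨53, 0, 1⟩] [])) (cond (Nat.blt c 18) (cond (Nat.beq c 14) [⟨9, -1, 1⟩] []) (cond (Nat.blt c 19) (cond (Nat.beq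 c 18) [⟨11, 1, 1⟩] []) (cond (Nat.beq c 19) [⟨12, 1, 1⟩] []))))) (cond (Nat.blt c 55) (cond (Nat.blt c 35) (cond (Nat.blt c 34) (cond (Nat.beq c 20) [⟨13, 1, 1⟩] []) (cond (Nat.beq c 34) [⟨27, -1, 1⟩] [])) (cond (Nat.blt c 36) (cond (Nat.beq c 35) [⟨28, -1, 1⟩] []) (cond (Nat.blt c 38) (cond (Nat.beq c 36) [⟨29, -1, 1⟩] []) (cond (Nat.beq c 38) [⟨33, 1, 1⟩] [])))) (cond (Nat.blt c 57) (cond (Nat.blt c 56) (cond (Nat.beq c 55) [⟨43, -1, 1⟩] []) (cond (Nat.beq c 56) [⟨44, -1, 1⟩] [])) (cond (Nat.blt c 59) (cond (Nat.beq c 57) [⟨45, -1, 1⟩] []) (cond (Nat.blt c 64) (cond (Nat.beq c 59) [⟨49, 1, 1⟩] []) (cond (Nat.beq c 64) [⟨50, 1, 1⟩] [])))))) (cond (Nat.blt c 95) (cond (Nat.blt c 87) (cond (Nat.blt c 76) (cond (Nat.blt c 66) (cond (Nat.beq c 65) [⟨51, 1, 1⟩] []) (cond (Nat.beq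 c 66) [⟨52, 1, 1⟩] [])) (cond (Nat.blt c 85) (cond (Nat.beq c 76) [⟨54, 1, 1⟩] []) (cond (Nat.blt c 86) (cond (Nat.beq c 85) [⟨63, -1, 1⟩] []) (cond (Nat.beq c 86) [⟨53, -1, 2⟩, ⟨0, 0, 1⟩, ⟨1, -1, 1⟩, ⟨2, 0, 1⟩, ⟨3, -1, 1⟩, ⟨4, 0, 1⟩, ⟨5, 0, 1⟩, ⟨6, 0, 1⟩] [])))) (cond (Nat.blt c 89) (cond (Nat.blt c 88) (cond (Nat.beq c 87) [⟨73, -1, 1⟩] []) (cond (Nat.beq c 88) [⟨74, -1, 1⟩] [])) (cond (Nat.blt c 90) (cond (Nat.beq c 89) [⟨75, -1, 1⟩] []) (cond (Nat.blt c 94) (cond (Nat.beq c 90) [⟨80, -1, 1⟩] []) (cond (Nat.beq c 94) [⟨82, 1, 1⟩] []))))) (cond (Nat.blt c 112) (cond (Nat.blt c 106) (cond (Nat.blt c 96) (cond (Nat.beq c 95) [⟨83, 1, 1⟩] []) (cond (Nat.beq c 96) [⟨84, 1, 1⟩] [])) (cond (Nat.blt c 110) (cond (Nat.beq c 106) [⟨101, -1, 1⟩] []) (cond (Nat.blt c 111) (cond (Nat.beq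 c 110) [⟨103, 1, 1⟩] []) (cond (Nat.beq c 111) [⟨104, 1, 1⟩] [])))) (cond (Nat.blt c 127) (cond (Nat.blt c 126) (cond (Nat.beq c 112) [⟨105, 1, 1⟩] []) (cond (Nat.beq c 126) [⟨119, -1, 1⟩] [])) (cond (Nat.blt c 128) (cond (Nat.beq c 127) [⟨120, -1, 1⟩] []) (cond (Nat.blt c 130) (cond (Nat.beq c 128) [⟨121, -1, 1⟩] []) (cond (Nat.beq c 130) [⟨125, 1, 1⟩] []))))))

/-- Compiled columns of `x_47` for type E7. -/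
def colsE7_47 (c : ℕ) : List CEnt :=
  cond (Nat.blt c 61) (cond (Nat.blt c 17) (cond (Nat.blt c 5) (cond (Nat.blt c 2) (cond (Nat.blt c 1) (cond (Nat.beq c 0) [⟨54, 0, 1⟩] []) (cond (Nat.beq c 1) [⟨54, 2, 1⟩] [])) (cond (Nat.blt c 3) (cond (Nat.beq c 2) [⟨54, 0, 1⟩] []) (cond (Nat.blt c 4) (cond (Nat.beq c 3) [⟨54, -1, 1⟩] []) (cond (Nat.beq c 4) [⟨54, 0, 1⟩] [])))) (cond (Nat.blt c 14) (cond (Nat.blt c 6) (cond (Nat.beq c 5) [⟨54, 0, 1⟩] []) (cond (Nat.beq c 6) [⟨54, 0, 1⟩] [])) (cond (Nat.blt c 15) (cond (Nat.beq c 14) [⟨10, -1, 1⟩] []) (cond (Nat.blt c 16) (cond (Nat.beq c 15) [⟨11, -1, 1⟩] []) (cond (Nat.beq c 16) [⟨12, -1, 1⟩] []))))) (cond (Nat.blt c 55) (cond (Nat.blt c 35) (cond (Nat.blt c 34) (cond (Nat.beq c 17) [⟨13, -1, 1⟩] []) (cond (Nat.beq c 34) [⟨30, -1, 1⟩]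 [])) (cond (Nat.blt c 36) (cond (Nat.beq c 35) [⟨31, -1, 1⟩] []) (cond (Nat.blt c 37) (cond (Nat.beq c 36) [⟨32, -1, 1⟩] []) (cond (Nat.beq c 37) [⟨33, -1, 1⟩] [])))) (cond (Nat.blt c 57) (cond (Nat.blt c 56) (cond (Nat.beq c 55) [⟨46, -1, 1⟩] []) (cond (Nat.beq c 56) [⟨47, -1, 1⟩] [])) (cond (Nat.blt c 58) (cond (Nat.beq c 57) [⟨48, -1, 1⟩] []) (cond (Nat.blt c 60) (cond (Nat.beq c 58) [⟨49, -1, 1⟩] []) (cond (Nat.beq c 60) [⟨50, 1, 1⟩] [])))))) (cond (Nat.blt c 92) (cond (Nat.blt c 87) (cond (Nat.blt c 63) (cond (Nat.blt c 62) (cond (Nat.beq c 61) [⟨51, 1, 1⟩] []) (cond (Nat.beq c 62) [⟨52, 1, 1⟩] [])) (cond (Nat.blt c 85) (cond (Nat.beq c 63) [⟨53, 1, 1⟩] []) (cond (Nat.blt c 86) (cond (Nat.beq c 85) [⟨54, -1, 2⟩, ⟨0, 0, 1⟩, ⟨1, -1, 1⟩, ⟨2, 0, 1⟩, ⟨3, 0, 1⟩, ⟨4, 0, 1⟩, ⟨5,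 0, 1⟩, ⟨6, 0, 1⟩] []) (cond (Nat.beq c 86) [⟨76, -1, 1⟩] [])))) (cond (Nat.blt c 89) (cond (Nat.blt c 88) (cond (Nat.beq c 87) [⟨77, -1, 1⟩] []) (cond (Nat.beq c 88) [⟨78, -1, 1⟩] [])) (cond (Nat.blt c 90) (cond (Nat.beq c 89) [⟨79, -1, 1⟩] []) (cond (Nat.blt c 91) (cond (Nat.beq c 90) [⟨81, 1, 1⟩] []) (cond (Nat.beq c 91) [⟨82, 1, 1⟩] []))))) (cond (Nat.blt c 109) (cond (Nat.blt c 106) (cond (Nat.blt c 93) (cond (Nat.beq c 92) [⟨83, 1, 1⟩] []) (cond (Nat.beq c 93) [⟨84, 1, 1⟩] [])) (cond (Nat.blt c 107) (cond (Nat.beq c 106) [⟨102, 1, 1⟩] []) (cond (Nat.blt c 108) (cond (Nat.beq c 107) [⟨103, 1, 1⟩] []) (cond (Nat.beq c 108) [⟨104, 1, 1⟩] [])))) (cond (Nat.blt c 127) (cond (Nat.blt c 126) (cond (Nat.beq c 109) [⟨105, 1, 1⟩] []) (cond (Nat.beq c 126) [⟨122, 1, 1⟩] [])) (cond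 (Nat.blt c 128) (cond (Nat.beq c 127) [⟨123, 1, 1⟩] []) (cond (Nat.blt c 129) (cond (Nat.beq c 128) [⟨124, 1, 1⟩] []) (cond (Nat.beq c 129) [⟨125, 1, 1⟩] []))))))

/-- Compiled columns of `x_48` for type E7. -/
def colsE7_48 (c : ℕ) : List CEnt :=
  cond (Nat.blt c 72) (cond (Nat.blt c 29) (cond (Nat.blt c 5) (cond (Nat.blt c 2) (cond (Nat.blt c 1) (cond (Nat.beq c 0) [⟨55, -1, 1⟩] []) (cond (Nat.beq c 1) [⟨55, -1, 1⟩] [])) (cond (Nat.blt c 3) (cond (Nat.beq c 2) [⟨55, 1, 1⟩] []) (cond (Nat.blt c 4) (cond (Nat.beq c 3) [⟨55, 0, 1⟩] []) (cond (Nat.beq c 4) [⟨55, 0, 1⟩] [])))) (cond (Nat.blt c 13) (cond (Nat.blt c 6) (cond (Nat.beq c 5) [⟨55, 0, 1⟩] []) (cond (Nat.beq c 6) [⟨55, 1, 1⟩] [])) (cond (Nat.blt c 26) (cond (Nat.beq c 13) [⟨8, -1, 1⟩] []) (cond (Nat.blt c 28) (cond (Nat.beq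 c 26) [⟨14, -1, 1⟩] []) (cond (Nat.beq c 28) [⟨15, -1, 1⟩] []))))) (cond (Nat.blt c 51) (cond (Nat.blt c 32) (cond (Nat.blt c 31) (cond (Nat.beq c 29) [⟨16, -1, 1⟩] []) (cond (Nat.beq c 31) [⟨18, -1, 1⟩] [])) (cond (Nat.blt c 33) (cond (Nat.beq c 32) [⟨19, -1, 1⟩] []) (cond (Nat.blt c 39) (cond (Nat.beq c 33) [⟨21, -1, 1⟩] []) (cond (Nat.beq c 39) [⟨34, -1, 1⟩] [])))) (cond (Nat.blt c 53) (cond (Nat.blt c 52) (cond (Nat.beq c 51) [⟨40, 1, 1⟩] []) (cond (Nat.beq c 52) [⟨41, 1, 1⟩] [])) (cond (Nat.blt c 54) (cond (Nat.beq c 53) [⟨43, 1, 1⟩] []) (cond (Nat.blt c 70) (cond (Nat.beq c 54) [⟨46, 1, 1⟩] []) (cond (Nat.beq c 70) [⟨56, 1, 1⟩] [])))))) (cond (Nat.blt c 98) (cond (Nat.blt c 82) (cond (Nat.blt c 79) (cond (Nat.blt c 75) (cond (Nat.beq c 72) [⟨57, 1, 1⟩] []) (cond (Nat.beq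 c 75) [⟨58, 1, 1⟩] [])) (cond (Nat.blt c 80) (cond (Nat.beq c 79) [⟨59, 1, 1⟩] []) (cond (Nat.blt c 81) (cond (Nat.beq c 80) [⟨60, -1, 1⟩] []) (cond (Nat.beq c 81) [⟨64, -1, 1⟩] [])))) (cond (Nat.blt c 84) (cond (Nat.blt c 83) (cond (Nat.beq c 82) [⟨67, -1, 1⟩] []) (cond (Nat.beq c 83) [⟨69, -1, 1⟩] [])) (cond (Nat.blt c 93) (cond (Nat.beq c 84) [⟨55, -1, 2⟩, ⟨0, 0, 1⟩, ⟨1, 0, 1⟩, ⟨2, -1, 1⟩, ⟨3, -1, 1⟩, ⟨4, -1, 1⟩, ⟨5, -1, 1⟩, ⟨6, -1, 1⟩] []) (cond (Nat.blt c 96) (cond (Nat.beq c 93) [⟨85, -1, 1⟩] []) (cond (Nat.beq c 96) [⟨86, -1, 1⟩] []))))) (cond (Nat.blt c 121) (cond (Nat.blt c 105) (cond (Nat.blt c 99) (cond (Nat.beq c 98) [⟨87, -1, 1⟩] []) (cond (Nat.beq c 99) [⟨88, -1, 1⟩] [])) (cond (Nat.blt c 118) (cond (Nat.beq c 105) [⟨100, 1, 1⟩] []) (cond (Nat.blt c 120) (cond (Nat.beq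 c 118) [⟨106, 1, 1⟩] []) (cond (Nat.beq c 120) [⟨107, 1, 1⟩] [])))) (cond (Nat.blt c 124) (cond (Nat.blt c 123) (cond (Nat.beq c 121) [⟨108, 1, 1⟩] []) (cond (Nat.beq c 123) [⟨110, 1, 1⟩] [])) (cond (Nat.blt c 125) (cond (Nat.beq c 124) [⟨111, 1, 1⟩] []) (cond (Nat.blt c 131) (cond (Nat.beq c 125) [⟨113, 1, 1⟩] []) (cond (Nat.beq c 131) [⟨126, 1, 1⟩] []))))))

/-- Compiled columns of `x_49` for type E7. -/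
def colsE7_49 (c : ℕ) : List CEnt :=
  cond (Nat.blt c 71) (cond (Nat.blt c 29) (cond (Nat.blt c 5) (cond (Nat.blt c 2) (cond (Nat.blt c 1) (cond (Nat.beq c 0) [⟨56, -1, 1⟩] []) (cond (Nat.beq c 1) [⟨56, -1, 1⟩] [])) (cond (Nat.blt c 3) (cond (Nat.beq c 2) [⟨56, 1, 1⟩] []) (cond (Nat.blt c 4) (cond (Nat.beq c 3) [⟨56, 0, 1⟩] []) (cond (Nat.beq c 4) [⟨56, 0, 1⟩] [])))) (cond (Nat.blt c 12) (cond (Nat.blt c 6) (cond (Nat.beq c 5) [⟨56, 1, 1⟩] []) (cond (Nat.beq c 6) [⟨56, -1, 1⟩] [])) (cond (Nat.blt c 25) (cond (Nat.beq c 12) [⟨8, 1, 1⟩] []) (cond (Nat.blt c 27) (cond (Nat.beq c 25) [⟨14, 1, 1⟩] []) (cond (Nat.beq c 27) [⟨15, 1, 1⟩] []))))) (cond (Nat.blt c 50) (cond (Nat.blt c 32) (cond (Nat.blt c 30) (cond (Nat.beq c 29) [⟨17, -1, 1⟩] []) (cond (Nat.beq c 30) [⟨18, 1, 1⟩] []))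 (cond (Nat.blt c 33) (cond (Nat.beq c 32) [⟨20, -1, 1⟩] []) (cond (Nat.blt c 39) (cond (Nat.beq c 33) [⟨22, -1, 1⟩] []) (cond (Nat.beq c 39) [⟨35, -1, 1⟩] [])))) (cond (Nat.blt c 53) (cond (Nat.blt c 52) (cond (Nat.beq c 50) [⟨40, -1, 1⟩] []) (cond (Nat.beq c 52) [⟨42, 1, 1⟩] [])) (cond (Nat.blt c 54) (cond (Nat.beq c 53) [⟨44, 1, 1⟩] []) (cond (Nat.blt c 69) (cond (Nat.beq c 54) [⟨47, 1, 1⟩] []) (cond (Nat.beq c 69) [⟨55, 1, 1⟩] [])))))) (cond (Nat.blt c 97) (cond (Nat.blt c 82) (cond (Nat.blt c 78) (cond (Nat.blt c 74) (cond (Nat.beq c 71) [⟨57, 1, 1⟩] []) (cond (Nat.beq c 74) [⟨58, 1, 1⟩] [])) (cond (Nat.blt c 80) (cond (Nat.beq c 78) [⟨59, 1, 1⟩] []) (cond (Nat.blt c 81) (cond (Nat.beq c 80) [⟨61, -1, 1⟩] []) (cond (Nat.beq c 81) [⟨65, -1, 1⟩] [])))) (cond (Nat.blt c 84)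 (cond (Nat.blt c 83) (cond (Nat.beq c 82) [⟨68, -1, 1⟩] []) (cond (Nat.beq c 83) [⟨56, -1, 2⟩, ⟨0, 0, 1⟩, ⟨1, 0, 1⟩, ⟨2, -1, 1⟩, ⟨3, -1, 1⟩, ⟨4, -1, 1⟩, ⟨5, -1, 1⟩, ⟨6, 0, 1⟩] [])) (cond (Nat.blt c 92) (cond (Nat.beq c 84) [⟨70, -1, 1⟩] []) (cond (Nat.blt c 95) (cond (Nat.beq c 92) [⟨85, -1, 1⟩] []) (cond (Nat.beq c 95) [⟨86, -1, 1⟩] []))))) (cond (Nat.blt c 121) (cond (Nat.blt c 104) (cond (Nat.blt c 99) (cond (Nat.beq c 97) [⟨87, -1, 1⟩] []) (cond (Nat.beq c 99) [⟨89, 1, 1⟩] [])) (cond (Nat.blt c 117) (cond (Nat.beq c 104) [⟨100, 1, 1⟩] []) (cond (Nat.blt c 119) (cond (Nat.beq c 117) [⟨106, 1, 1⟩] []) (cond (Nat.beq c 119) [⟨107, 1, 1⟩] [])))) (cond (Nat.blt c 124) (cond (Nat.blt c 122) (cond (Nat.beq c 121) [⟨109, -1, 1⟩] []) (cond (Nat.beq c 122) [⟨110, 1, 1⟩] [])) (cond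 (Nat.blt c 125) (cond (Nat.beq c 124) [⟨112, -1, 1⟩] []) (cond (Nat.blt c 131) (cond (Nat.beq c 125) [⟨114, -1, 1⟩] []) (cond (Nat.beq c 131) [⟨127, -1, 1⟩] []))))))

/-- Compiled columns of `x_50` for type E7. -/
def colsE7_50 (c : ℕ) : List CEnt :=
  cond (Nat.blt c 68) (cond (Nat.blt c 28) (cond (Nat.blt c 5) (cond (Nat.blt c 2) (cond (Nat.blt c 1) (cond (Nat.beq c 0) [⟨57, -1, 1⟩] []) (cond (Nat.beq c 1) [⟨57, -1, 1⟩] [])) (cond (Nat.blt c 3) (cond (Nat.beq c 2) [⟨57, 1, 1⟩] []) (cond (Nat.blt c 4) (cond (Nat.beq c 3) [⟨57, 0, 1⟩] []) (cond (Nat.beq c 4) [⟨57, 1, 1⟩] [])))) (cond (Nat.blt c 11) (cond (Nat.blt c 6) (cond (Nat.beq c 5) [⟨57, -1, 1⟩] []) (cond (Nat.beq c 6) [⟨57, 0, 1⟩] [])) (cond (Nat.blt c 24) (cond (Nat.beq c 11) [⟨8, -1, 1⟩] []) (cond (Nat.blt c 27) (cond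 (Nat.beq c 24) [⟨14, -1, 1⟩] []) (cond (Nat.beq c 27) [⟨16, 1, 1⟩] []))))) (cond (Nat.blt c 50) (cond (Nat.blt c 31) (cond (Nat.blt c 30) (cond (Nat.beq c 28) [⟨17, 1, 1⟩] []) (cond (Nat.beq c 30) [⟨19, 1, 1⟩] [])) (cond (Nat.blt c 33) (cond (Nat.beq c 31) [⟨20, 1, 1⟩] []) (cond (Nat.blt c 39) (cond (Nat.beq c 33) [⟨23, -1, 1⟩] []) (cond (Nat.beq c 39) [⟨36, -1, 1⟩] [])))) (cond (Nat.blt c 53) (cond (Nat.blt c 51) (cond (Nat.beq c 50) [⟨41, -1, 1⟩] []) (cond (Nat.beq c 51) [⟨42, -1, 1⟩] [])) (cond (Nat.blt c 54) (cond (Nat.beq c 53) [⟨45, 1, 1⟩] []) (cond (Nat.blt c 67) (cond (Nat.beq c 54) [⟨48, 1, 1⟩] []) (cond (Nat.beq c 67) [⟨55, 1, 1⟩] [])))))) (cond (Nat.blt c 97) (cond (Nat.blt c 82) (cond (Nat.blt c 77) (cond (Nat.blt c 73) (cond (Nat.beq c 68) [⟨56, 1, 1⟩] []) (cond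 (Nat.beq c 73) [⟨58, 1, 1⟩] [])) (cond (Nat.blt c 80) (cond (Nat.beq c 77) [⟨59, 1, 1⟩] []) (cond (Nat.blt c 81) (cond (Nat.beq c 80) [⟨62, -1, 1⟩] []) (cond (Nat.beq c 81) [⟨66, -1, 1⟩] [])))) (cond (Nat.blt c 84) (cond (Nat.blt c 83) (cond (Nat.beq c 82) [⟨57, -1, 2⟩, ⟨0, 0, 1⟩, ⟨1, 0, 1⟩, ⟨2, -1, 1⟩, ⟨3, -1, 1⟩, ⟨4, -1, 1⟩, ⟨5, 0, 1⟩, ⟨6, 0, 1⟩] []) (cond (Nat.beq c 83) [⟨71, -1, 1⟩] [])) (cond (Nat.blt c 91) (cond (Nat.beq c 84) [⟨72, -1, 1⟩] []) (cond (Nat.blt c 94) (cond (Nat.beq c 91) [⟨85, -1, 1⟩] []) (cond (Nat.beq c 94) [⟨86, -1, 1⟩] []))))) (cond (Nat.blt c 120) (cond (Nat.blt c 103) (cond (Nat.blt c 98) (cond (Nat.beq c 97) [⟨88, 1, 1⟩] []) (cond (Nat.beq c 98) [⟨89, 1, 1⟩] [])) (cond (Nat.blt c 116) (cond (Nat.beq c 103) [⟨100, 1, 1⟩] []) (cond (Nat.blt c 119) (cond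 (Nat.beq c 116) [⟨106, 1, 1⟩] []) (cond (Nat.beq c 119) [⟨108, -1, 1⟩] [])))) (cond (Nat.blt c 123) (cond (Nat.blt c 122) (cond (Nat.beq c 120) [⟨109, -1, 1⟩] []) (cond (Nat.beq c 122) [⟨111, -1, 1⟩] [])) (cond (Nat.blt c 125) (cond (Nat.beq c 123) [⟨112, -1, 1⟩] []) (cond (Nat.blt c 131) (cond (Nat.beq c 125) [⟨115, 1, 1⟩] []) (cond (Nat.beq c 131) [⟨128, 1, 1⟩] []))))))

/-- Compiled columns of `x_51` for type E7. -/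
def colsE7_51 (c : ℕ) : List CEnt :=
  cond (Nat.blt c 65) (cond (Nat.blt c 26) (cond (Nat.blt c 5) (cond (Nat.blt c 2) (cond (Nat.blt c 1) (cond (Nat.beq c 0) [⟨58, -1, 1⟩] []) (cond (Nat.beq c 1) [⟨58, -1, 1⟩] [])) (cond (Nat.blt c 3) (cond (Nat.beq c 2) [⟨58, 1, 1⟩] []) (cond (Nat.blt c 4) (cond (Nat.beq c 3) [⟨58, 1, 1⟩] []) (cond (Nat.beq c 4) [⟨58, -1, 1⟩] [])))) (cond (Nat.blt c 10) (cond (Nat.blt c 6) (cond (Nat.beq c 5) [⟨58, 0, 1⟩] []) (cond (Nat.beq c 6) [⟨58, 0, 1⟩] [])) (cond (Nat.blt c 24) (cond (Nat.beq c 10) [⟨8, 1, 1⟩] []) (cond (Nat.blt c 25) (cond (Nat.beq c 24) [⟨15, -1, 1⟩] []) (cond (Nat.beq c 25) [⟨16, -1, 1⟩] []))))) (cond (Nat.blt c 50) (cond (Nat.blt c 31) (cond (Nat.blt c 30) (cond (Nat.beq c 26) [⟨17, -1, 1⟩] []) (cond (Nat.beq c 30) [⟨21, 1, 1⟩] []))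 (cond (Nat.blt c 32) (cond (Nat.beq c 31) [⟨22, 1, 1⟩] []) (cond (Nat.blt c 39) (cond (Nat.beq c 32) [⟨23, 1, 1⟩] []) (cond (Nat.beq c 39) [⟨37, -1, 1⟩] [])))) (cond (Nat.blt c 52) (cond (Nat.blt c 51) (cond (Nat.beq c 50) [⟨43, -1, 1⟩] []) (cond (Nat.beq c 51) [⟨44, -1, 1⟩] [])) (cond (Nat.blt c 54) (cond (Nat.beq c 52) [⟨45, -1, 1⟩] []) (cond (Nat.blt c 64) (cond (Nat.beq c 54) [⟨49, 1, 1⟩] []) (cond (Nat.beq c 64) [⟨55, 1, 1⟩] [])))))) (cond (Nat.blt c 95) (cond (Nat.blt c 82) (cond (Nat.blt c 76) (cond (Nat.blt c 66) (cond (Nat.beq c 65) [⟨56, 1, 1⟩] []) (cond (Nat.beq c 66) [⟨57, 1, 1⟩] [])) (cond (Nat.blt c 80) (cond (Nat.beq c 76) [⟨59, 1, 1⟩] []) (cond (Nat.blt c 81) (cond (Nat.beq c 80) [⟨63, -1, 1⟩] []) (cond (Nat.beq c 81) [⟨58, -1, 2⟩, ⟨0, 0, 1⟩, ⟨1, 0, 1⟩, ⟨2, -1,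 1⟩, ⟨3, -1, 1⟩, ⟨4, 0, 1⟩, ⟨5, 0, 1⟩, ⟨6, 0, 1⟩] [])))) (cond (Nat.blt c 84) (cond (Nat.blt c 83) (cond (Nat.beq c 82) [⟨73, -1, 1⟩] []) (cond (Nat.beq c 83) [⟨74, -1, 1⟩] [])) (cond (Nat.blt c 90) (cond (Nat.beq c 84) [⟨75, -1, 1⟩] []) (cond (Nat.blt c 94) (cond (Nat.beq c 90) [⟨85, -1, 1⟩] []) (cond (Nat.beq c 94) [⟨87, 1, 1⟩] []))))) (cond (Nat.blt c 118) (cond (Nat.blt c 102) (cond (Nat.blt c 96) (cond (Nat.beq c 95) [⟨88, 1, 1⟩] []) (cond (Nat.beq c 96) [⟨89, 1, 1⟩] [])) (cond (Nat.blt c 116) (cond (Nat.beq c 102) [⟨100, 1, 1⟩] []) (cond (Nat.blt c 117) (cond (Nat.beq c 116) [⟨107, -1, 1⟩] []) (cond (Nat.beq c 117) [⟨108, -1, 1⟩] [])))) (cond (Nat.blt c 123) (cond (Nat.blt c 122) (cond (Nat.beq c 118) [⟨109, -1, 1⟩] []) (cond (Nat.beq c 122) [⟨113, 1, 1⟩] [])) (cond (Nat.blt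 c 124) (cond (Nat.beq c 123) [⟨114, 1, 1⟩] []) (cond (Nat.blt c 131) (cond (Nat.beq c 124) [⟨115, 1, 1⟩] []) (cond (Nat.beq c 131) [⟨129, -1, 1⟩] []))))))

/-- Compiled columns of `x_52` for type E7. -/
def colsE7_52 (c : ℕ) : List CEnt :=
  cond (Nat.blt c 61) (cond (Nat.blt c 26) (cond (Nat.blt c 5) (cond (Nat.blt c 2) (cond (Nat.blt c 1) (cond (Nat.beq c 0) [⟨59, -1, 1⟩] []) (cond (Nat.beq c 1) [⟨59, 0, 1⟩] [])) (cond (Nat.blt c 3) (cond (Nat.beq c 2) [⟨59, 2, 1⟩] []) (cond (Nat.blt c 4) (cond (Nat.beq c 3) [⟨59, -1, 1⟩] []) (cond (Nat.beq c 4) [⟨59, 0, 1⟩] [])))) (cond (Nat.blt c 9) (cond (Nat.blt c 6) (cond (Nat.beq c 5) [⟨59, 0, 1⟩] []) (cond (Nat.beq c 6) [⟨59, 0, 1⟩] [])) (cond (Nat.blt c 24) (cond (Nat.beq c 9) [⟨8, -1, 1⟩] []) (cond (Nat.blt c 25) (cond (Nat.beq c 24)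 [⟨18, -1, 1⟩] []) (cond (Nat.beq c 25) [⟨19, -1, 1⟩] []))))) (cond (Nat.blt c 50) (cond (Nat.blt c 28) (cond (Nat.blt c 27) (cond (Nat.beq c 26) [⟨20, -1, 1⟩] []) (cond (Nat.beq c 27) [⟨21, -1, 1⟩] [])) (cond (Nat.blt c 29) (cond (Nat.beq c 28) [⟨22, -1, 1⟩] []) (cond (Nat.blt c 39) (cond (Nat.beq c 29) [⟨23, -1, 1⟩] []) (cond (Nat.beq c 39) [⟨38, -1, 1⟩] [])))) (cond (Nat.blt c 52) (cond (Nat.blt c 51) (cond (Nat.beq c 50) [⟨46, -1, 1⟩] []) (cond (Nat.beq c 51) [⟨47, -1, 1⟩] [])) (cond (Nat.blt c 53) (cond (Nat.beq c 52) [⟨48, -1, 1⟩] []) (cond (Nat.blt c 60) (cond (Nat.beq c 53) [⟨49, -1, 1⟩] []) (cond (Nat.beq c 60) [⟨55, 1, 1⟩] [])))))) (cond (Nat.blt c 92) (cond (Nat.blt c 82) (cond (Nat.blt c 63) (cond (Nat.blt c 62) (cond (Nat.beq c 61) [⟨56, 1, 1⟩] []) (cond (Nat.beq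 c 62) [⟨57, 1, 1⟩] [])) (cond (Nat.blt c 80) (cond (Nat.beq c 63) [⟨58, 1, 1⟩] []) (cond (Nat.blt c 81) (cond (Nat.beq c 80) [⟨59, -1, 2⟩, ⟨0, 0, 1⟩, ⟨1, 0, 1⟩, ⟨2, -1, 1⟩, ⟨3, 0, 1⟩, ⟨4, 0, 1⟩, ⟨5, 0, 1⟩, ⟨6, 0, 1⟩] []) (cond (Nat.beq c 81) [⟨76, -1, 1⟩] [])))) (cond (Nat.blt c 84) (cond (Nat.blt c 83) (cond (Nat.beq c 82) [⟨77, -1, 1⟩] []) (cond (Nat.beq c 83) [⟨78, -1, 1⟩] [])) (cond (Nat.blt c 90) (cond (Nat.beq c 84) [⟨79, -1, 1⟩] []) (cond (Nat.blt c 91) (cond (Nat.beq c 90) [⟨86, 1, 1⟩] []) (cond (Nat.beq c 91) [⟨87, 1, 1⟩] []))))) (cond (Nat.blt c 118) (cond (Nat.blt c 101) (cond (Nat.blt c 93) (cond (Nat.beq c 92) [⟨88, 1, 1⟩] []) (cond (Nat.beq c 93) [⟨89, 1, 1⟩] [])) (cond (Nat.blt c 116) (cond (Nat.beq c 101) [⟨100, 1, 1⟩] []) (cond (Nat.blt c 117) (cond (Nat.beq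 c 116) [⟨110, 1, 1⟩] []) (cond (Nat.beq c 117) [⟨111, 1, 1⟩] [])))) (cond (Nat.blt c 120) (cond (Nat.blt c 119) (cond (Nat.beq c 118) [⟨112, 1, 1⟩] []) (cond (Nat.beq c 119) [⟨113, 1, 1⟩] [])) (cond (Nat.blt c 121) (cond (Nat.beq c 120) [⟨114, 1, 1⟩] []) (cond (Nat.blt c 131) (cond (Nat.beq c 121) [⟨115, 1, 1⟩] []) (cond (Nat.beq c 131) [⟨130, 1, 1⟩] []))))))

/-- Compiled columns of `x_53` for type E7. -/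
def colsE7_53 (c : ℕ) : List CEnt :=
  cond (Nat.blt c 70) (cond (Nat.blt c 23) (cond (Nat.blt c 5) (cond (Nat.blt c 2) (cond (Nat.blt c 1) (cond (Nat.beq c 0) [⟨60, 0, 1⟩] []) (cond (Nat.beq c 1) [⟨60, -1, 1⟩] [])) (cond (Nat.blt c 3) (cond (Nat.beq c 2) [⟨60, -1, 1⟩] []) (cond (Nat.blt c 4) (cond (Nat.beq c 3) [⟨60, 1, 1⟩] []) (cond (Nat.beq c 4) [⟨60, 0, 1⟩] [])))) (cond (Nat.blt c 13) (cond (Nat.blt c 6) (cond (Nat.beq c 5) [⟨60, 0, 1⟩] []) (cond (Nat.beq c 6) [⟨60, 1, 1⟩] [])) (cond (Nat.blt c 20) (cond (Nat.beq c 13) [⟨9, 1, 1⟩] []) (cond (Nat.blt c 22) (cond (Nat.beq c 20) [⟨14, -1, 1⟩] []) (cond (Nat.beq c 22) [⟨15, -1, 1⟩] []))))) (cond (Nat.blt c 47) (cond (Nat.blt c 32) (cond (Nat.blt c 31) (cond (Nat.beq c 23) [⟨16, -1, 1⟩] []) (cond (Nat.beq c 31) [⟨24, 1, 1⟩] []))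 (cond (Nat.blt c 33) (cond (Nat.beq c 32) [⟨25, 1, 1⟩] []) (cond (Nat.blt c 38) (cond (Nat.beq c 33) [⟨27, 1, 1⟩] []) (cond (Nat.beq c 38) [⟨34, -1, 1⟩] [])))) (cond (Nat.blt c 49) (cond (Nat.blt c 48) (cond (Nat.beq c 47) [⟨40, 1, 1⟩] []) (cond (Nat.beq c 48) [⟨41, 1, 1⟩] [])) (cond (Nat.blt c 54) (cond (Nat.beq c 49) [⟨43, 1, 1⟩] []) (cond (Nat.blt c 59) (cond (Nat.beq c 54) [⟨50, -1, 1⟩] []) (cond (Nat.beq c 59) [⟨55, -1, 1⟩] [])))))) (cond (Nat.blt c 98) (cond (Nat.blt c 78) (cond (Nat.blt c 75) (cond (Nat.blt c 72) (cond (Nat.beq c 70) [⟨61, 1, 1⟩] []) (cond (Nat.beq c 72) [⟨62, 1, 1⟩] [])) (cond (Nat.blt c 76) (cond (Nat.beq c 75) [⟨63, 1, 1⟩] []) (cond (Nat.blt c 77) (cond (Nat.beq c 76) [⟨64, -1, 1⟩] []) (cond (Nat.beq c 77) [⟨67, -1, 1⟩] [])))) (cond (Nat.blt c 84) (cond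 (Nat.blt c 79) (cond (Nat.beq c 78) [⟨69, -1, 1⟩] []) (cond (Nat.beq c 79) [⟨60, -1, 2⟩, ⟨0, 0, 1⟩, ⟨1, 0, 1⟩, ⟨2, 0, 1⟩, ⟨3, -1, 1⟩, ⟨4, -1, 1⟩, ⟨5, -1, 1⟩, ⟨6, -1, 1⟩] [])) (cond (Nat.blt c 89) (cond (Nat.beq c 84) [⟨80, 1, 1⟩] []) (cond (Nat.blt c 96) (cond (Nat.beq c 89) [⟨85, 1, 1⟩] []) (cond (Nat.beq c 96) [⟨90, -1, 1⟩] []))))) (cond (Nat.blt c 115) (cond (Nat.blt c 105) (cond (Nat.blt c 99) (cond (Nat.beq c 98) [⟨91, -1, 1⟩] []) (cond (Nat.beq c 99) [⟨92, -1, 1⟩] [])) (cond (Nat.blt c 112) (cond (Nat.beq c 105) [⟨101, 1, 1⟩] []) (cond (Nat.blt c 114) (cond (Nat.beq c 112) [⟨106, -1, 1⟩] []) (cond (Nat.beq c 114) [⟨107, -1, 1⟩] [])))) (cond (Nat.blt c 124) (cond (Nat.blt c 123) (cond (Nat.beq c 115) [⟨108, -1, 1⟩] []) (cond (Nat.beq c 123) [⟨116, 1, 1⟩] [])) (cond (Nat.blt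 c 125) (cond (Nat.beq c 124) [⟨117, 1, 1⟩] []) (cond (Nat.blt c 130) (cond (Nat.beq c 125) [⟨119, 1, 1⟩] []) (cond (Nat.beq c 130) [⟨126, -1, 1⟩] []))))))

/-- Compiled columns of `x_54` for type E7. -/
def colsE7_54 (c : ℕ) : List CEnt :=
  cond (Nat.blt c 69) (cond (Nat.blt c 23) (cond (Nat.blt c 5) (cond (Nat.blt c 2) (cond (Nat.blt c 1) (cond (Nat.beq c 0) [⟨61, 0, 1⟩] []) (cond (Nat.beq c 1) [⟨61, -1, 1⟩] [])) (cond (Nat.blt c 3) (cond (Nat.beq c 2) [⟨61, -1, 1⟩] []) (cond (Nat.blt c 4) (cond (Nat.beq c 3) [⟨61, 1, 1⟩] []) (cond (Nat.beq c 4) [⟨61, 0, 1⟩] [])))) (cond (Nat.blt c 12) (cond (Nat.blt c 6) (cond (Nat.beq c 5) [⟨61, 1, 1⟩] []) (cond (Nat.beq c 6) [⟨61, -1, 1⟩] [])) (cond (Nat.blt c 19) (cond (Nat.beq c 12) [⟨9, -1, 1⟩] []) (cond (Nat.blt c 21) (cond (Nat.beq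 c 19) [⟨14, 1, 1⟩] []) (cond (Nat.beq c 21) [⟨15, 1, 1⟩] []))))) (cond (Nat.blt c 46) (cond (Nat.blt c 32) (cond (Nat.blt c 30) (cond (Nat.beq c 23) [⟨17, -1, 1⟩] []) (cond (Nat.beq c 30) [⟨24, -1, 1⟩] [])) (cond (Nat.blt c 33) (cond (Nat.beq c 32) [⟨26, 1, 1⟩] []) (cond (Nat.blt c 38) (cond (Nat.beq c 33) [⟨28, 1, 1⟩] []) (cond (Nat.beq c 38) [⟨35, -1, 1⟩] [])))) (cond (Nat.blt c 49) (cond (Nat.blt c 48) (cond (Nat.beq c 46) [⟨40, -1, 1⟩] []) (cond (Nat.beq c 48) [⟨42, 1, 1⟩] [])) (cond (Nat.blt c 54) (cond (Nat.beq c 49) [⟨44, 1, 1⟩] []) (cond (Nat.blt c 59) (cond (Nat.beq c 54) [⟨51, -1, 1⟩] []) (cond (Nat.beq c 59) [⟨56, -1, 1⟩] [])))))) (cond (Nat.blt c 97) (cond (Nat.blt c 78) (cond (Nat.blt c 74) (cond (Nat.blt c 71) (cond (Nat.beq c 69) [⟨60, 1, 1⟩] []) (cond (Nat.beq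 c 71) [⟨62, 1, 1⟩] [])) (cond (Nat.blt c 76) (cond (Nat.beq c 74) [⟨63, 1, 1⟩] []) (cond (Nat.blt c 77) (cond (Nat.beq c 76) [⟨65, -1, 1⟩] []) (cond (Nat.beq c 77) [⟨68, -1, 1⟩] [])))) (cond (Nat.blt c 83) (cond (Nat.blt c 79) (cond (Nat.beq c 78) [⟨61, -1, 2⟩, ⟨0, 0, 1⟩, ⟨1, 0, 1⟩, ⟨2, 0, 1⟩, ⟨3, -1, 1⟩, ⟨4, -1, 1⟩, ⟨5, -1, 1⟩, ⟨6, 0, 1⟩] []) (cond (Nat.beq c 79) [⟨70, -1, 1⟩] [])) (cond (Nat.blt c 88) (cond (Nat.beq c 83) [⟨80, 1, 1⟩] []) (cond (Nat.blt c 95) (cond (Nat.beq c 88) [⟨85, 1, 1⟩] []) (cond (Nat.beq c 95) [⟨90, -1, 1⟩] []))))) (cond (Nat.blt c 115) (cond (Nat.blt c 104) (cond (Nat.blt c 99) (cond (Nat.beq c 97) [⟨91, -1, 1⟩] []) (cond (Nat.beq c 99) [⟨93, 1, 1⟩] [])) (cond (Nat.blt c 111) (cond (Nat.beq c 104) [⟨101, 1, 1⟩] []) (cond (Nat.blt c 113) (cond (Nat.beq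 c 111) [⟨106, -1, 1⟩] []) (cond (Nat.beq c 113) [⟨107, -1, 1⟩] [])))) (cond (Nat.blt c 124) (cond (Nat.blt c 122) (cond (Nat.beq c 115) [⟨109, 1, 1⟩] []) (cond (Nat.beq c 122) [⟨116, 1, 1⟩] [])) (cond (Nat.blt c 125) (cond (Nat.beq c 124) [⟨118, -1, 1⟩] []) (cond (Nat.blt c 130) (cond (Nat.beq c 125) [⟨120, -1, 1⟩] []) (cond (Nat.beq c 130) [⟨127, 1, 1⟩] []))))))

/-- Compiled columns of `x_55` for type E7. -/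
def colsE7_55 (c : ℕ) : List CEnt :=
  cond (Nat.blt c 67) (cond (Nat.blt c 22) (cond (Nat.blt c 5) (cond (Nat.blt c 2) (cond (Nat.blt c 1) (cond (Nat.beq c 0) [⟨62, 0, 1⟩] []) (cond (Nat.beq c 1) [⟨62, -1, 1⟩] [])) (cond (Nat.blt c 3) (cond (Nat.beq c 2) [⟨62, -1, 1⟩] []) (cond (Nat.blt c 4) (cond (Nat.beq c 3) [⟨62, 1, 1⟩] []) (cond (Nat.beq c 4) [⟨62, 1, 1⟩] [])))) (cond (Nat.blt c 11) (cond (Nat.blt c 6) (cond (Nat.beq c 5) [⟨62, -1, 1⟩] []) (cond (Nat.beq c 6) [⟨62, 0, 1⟩] [])) (cond (Nat.blt c 18) (cond (Nat.beq c 11) [⟨9, 1, 1⟩] []) (cond (Nat.blt c 21) (cond (Nat.beq c 18) [⟨14, -1, 1⟩] []) (cond (Nat.beq c 21) [⟨16, 1, 1⟩] []))))) (cond (Nat.blt c 46) (cond (Nat.blt c 31) (cond (Nat.blt c 30) (cond (Nat.beq c 22) [⟨17, 1, 1⟩] []) (cond (Nat.beq c 30) [⟨25, -1, 1⟩] []))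 (cond (Nat.blt c 33) (cond (Nat.beq c 31) [⟨26, -1, 1⟩] []) (cond (Nat.blt c 38) (cond (Nat.beq c 33) [⟨29, 1, 1⟩] []) (cond (Nat.beq c 38) [⟨36, -1, 1⟩] [])))) (cond (Nat.blt c 49) (cond (Nat.blt c 47) (cond (Nat.beq c 46) [⟨41, -1, 1⟩] []) (cond (Nat.beq c 47) [⟨42, -1, 1⟩] [])) (cond (Nat.blt c 54) (cond (Nat.beq c 49) [⟨45, 1, 1⟩] []) (cond (Nat.blt c 59) (cond (Nat.beq c 54) [⟨52, -1, 1⟩] []) (cond (Nat.beq c 59) [⟨57, -1, 1⟩] [])))))) (cond (Nat.blt c 97) (cond (Nat.blt c 78) (cond (Nat.blt c 73) (cond (Nat.blt c 68) (cond (Nat.beq c 67) [⟨60, 1, 1⟩] []) (cond (Nat.beq c 68) [⟨61, 1, 1⟩] [])) (cond (Nat.blt c 76) (cond (Nat.beq c 73) [⟨63, 1, 1⟩] []) (cond (Nat.blt c 77) (cond (Nat.beq c 76) [⟨66, -1, 1⟩] []) (cond (Nat.beq c 77) [⟨62, -1, 2⟩, ⟨0, 0, 1⟩, ⟨1, 0, 1⟩, ⟨2,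 0, 1⟩, ⟨3, -1, 1⟩, ⟨4, -1, 1⟩, ⟨5, 0, 1⟩, ⟨6, 0, 1⟩] [])))) (cond (Nat.blt c 82) (cond (Nat.blt c 79) (cond (Nat.beq c 78) [⟨71, -1, 1⟩] []) (cond (Nat.beq c 79) [⟨72, -1, 1⟩] [])) (cond (Nat.blt c 87) (cond (Nat.beq c 82) [⟨80, 1, 1⟩] []) (cond (Nat.blt c 94) (cond (Nat.beq c 87) [⟨85, 1, 1⟩] []) (cond (Nat.beq c 94) [⟨90, -1, 1⟩] []))))) (cond (Nat.blt c 114) (cond (Nat.blt c 103) (cond (Nat.blt c 98) (cond (Nat.beq c 97) [⟨92, 1, 1⟩] []) (cond (Nat.beq c 98) [⟨93, 1, 1⟩] [])) (cond (Nat.blt c 110) (cond (Nat.beq c 103) [⟨101, 1, 1⟩] []) (cond (Nat.blt c 113) (cond (Nat.beq c 110) [⟨106, -1, 1⟩] []) (cond (Nat.beq c 113) [⟨108, 1, 1⟩] [])))) (cond (Nat.blt c 123) (cond (Nat.blt c 122) (cond (Nat.beq c 114) [⟨109, 1, 1⟩] []) (cond (Nat.beq c 122) [⟨117, -1, 1⟩] [])) (cond (Nat.blt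 c 125) (cond (Nat.beq c 123) [⟨118, -1, 1⟩] []) (cond (Nat.blt c 130) (cond (Nat.beq c 125) [⟨121, 1, 1⟩] []) (cond (Nat.beq c 130) [⟨128, -1, 1⟩] []))))))

/-- Compiled columns of `x_56` for type E7. -/
def colsE7_56 (c : ℕ) : List CEnt :=
  cond (Nat.blt c 64) (cond (Nat.blt c 20) (cond (Nat.blt c 5) (cond (Nat.blt c 2) (cond (Nat.blt c 1) (cond (Nat.beq c 0) [⟨63, 0, 1⟩] []) (cond (Nat.beq c 1) [⟨63, -1, 1⟩] [])) (cond (Nat.blt c 3) (cond (Nat.beq c 2) [⟨63, -1, 1⟩] []) (cond (Nat.blt c 4) (cond (Nat.beq c 3) [⟨63, 2, 1⟩] []) (cond (Nat.beq c 4) [⟨63, -1, 1⟩] [])))) (cond (Nat.blt c 10) (cond (Nat.blt c 6) (cond (Nat.beq c 5) [⟨63, 0, 1⟩] []) (cond (Nat.beq c 6) [⟨63, 0, 1⟩] [])) (cond (Nat.blt c 18) (cond (Nat.beq c 10) [⟨9, -1, 1⟩] []) (cond (Nat.blt c 19) (cond (Nat.beq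 c 18) [⟨15, -1, 1⟩] []) (cond (Nat.beq c 19) [⟨16, -1, 1⟩] []))))) (cond (Nat.blt c 46) (cond (Nat.blt c 31) (cond (Nat.blt c 30) (cond (Nat.beq c 20) [⟨17, -1, 1⟩] []) (cond (Nat.beq c 30) [⟨27, -1, 1⟩] [])) (cond (Nat.blt c 32) (cond (Nat.beq c 31) [⟨28, -1, 1⟩] []) (cond (Nat.blt c 38) (cond (Nat.beq c 32) [⟨29, -1, 1⟩] []) (cond (Nat.beq c 38) [⟨37, -1, 1⟩] [])))) (cond (Nat.blt c 48) (cond (Nat.blt c 47) (cond (Nat.beq c 46) [⟨43, -1, 1⟩] []) (cond (Nat.beq c 47) [⟨44, -1, 1⟩] [])) (cond (Nat.blt c 54) (cond (Nat.beq c 48) [⟨45, -1, 1⟩] []) (cond (Nat.blt c 59) (cond (Nat.beq c 54) [⟨53, -1, 1⟩] []) (cond (Nat.beq c 59) [⟨58, -1, 1⟩] [])))))) (cond (Nat.blt c 95) (cond (Nat.blt c 78) (cond (Nat.blt c 66) (cond (Nat.blt c 65) (cond (Nat.beq c 64) [⟨60, 1, 1⟩] []) (cond (Nat.beq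 c 65) [⟨61, 1, 1⟩] [])) (cond (Nat.blt c 76) (cond (Nat.beq c 66) [⟨62, 1, 1⟩] []) (cond (Nat.blt c 77) (cond (Nat.beq c 76) [⟨63, -1, 2⟩, ⟨0, 0, 1⟩, ⟨1, 0, 1⟩, ⟨2, 0, 1⟩, ⟨3, -1, 1⟩, ⟨4, 0, 1⟩, ⟨5, 0, 1⟩, ⟨6, 0, 1⟩] []) (cond (Nat.beq c 77) [⟨73, -1, 1⟩] [])))) (cond (Nat.blt c 81) (cond (Nat.blt c 79) (cond (Nat.beq c 78) [⟨74, -1, 1⟩] []) (cond (Nat.beq c 79) [⟨75, -1, 1⟩] [])) (cond (Nat.blt c 86) (cond (Nat.beq c 81) [⟨80, 1, 1⟩] []) (cond (Nat.blt c 94) (cond (Nat.beq c 86) [⟨85, 1, 1⟩] []) (cond (Nat.beq c 94) [⟨91, 1, 1⟩] []))))) (cond (Nat.blt c 112) (cond (Nat.blt c 102) (cond (Nat.blt c 96) (cond (Nat.beq c 95) [⟨92, 1, 1⟩] []) (cond (Nat.beq c 96) [⟨93, 1, 1⟩] [])) (cond (Nat.blt c 110) (cond (Nat.beq c 102) [⟨101, 1, 1⟩] []) (cond (Nat.blt c 111) (cond (Nat.beq c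 110) [⟨107, 1, 1⟩] []) (cond (Nat.beq c 111) [⟨108, 1, 1⟩] [])))) (cond (Nat.blt c 123) (cond (Nat.blt c 122) (cond (Nat.beq c 112) [⟨109, 1, 1⟩] []) (cond (Nat.beq c 122) [⟨119, 1, 1⟩] [])) (cond (Nat.blt c 124) (cond (Nat.beq c 123) [⟨120, 1, 1⟩] []) (cond (Nat.blt c 130) (cond (Nat.beq c 124) [⟨121, 1, 1⟩] []) (cond (Nat.beq c 130) [⟨129, 1, 1⟩] []))))))

/-- Compiled columns of `x_57` for type E7. -/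
def colsE7_57 (c : ℕ) : List CEnt :=
  cond (Nat.blt c 63) (cond (Nat.blt c 23) (cond (Nat.blt c 5) (cond (Nat.blt c 2) (cond (Nat.blt c 1) (cond (Nat.beq c 0) [⟨64, 0, 1⟩] []) (cond (Nat.beq c 1) [⟨64, 0, 1⟩] [])) (cond (Nat.blt c 3) (cond (Nat.beq c 2) [⟨64, 0, 1⟩] []) (cond (Nat.blt c 4) (cond (Nat.beq c 3) [⟨64, -1, 1⟩] []) (cond (Nat.beq c 4) [⟨64, 1, 1⟩] [])))) (cond (Nat.blt c 13) (cond (Nat.blt c 6) (cond (Nat.beq c 5) [⟨64, 0, 1⟩] []) (cond (Nat.beq c 6) [⟨64, 1, 1⟩] [])) (cond (Nat.blt c 17) (cond (Nat.beq c 13) [⟨10, -1, 1⟩] []) (cond (Nat.blt c 22) (cond (Nat.beq c 17) [⟨14, -1, 1⟩] []) (cond (Nat.beq c 22) [⟨18, 1, 1⟩] []))))) (cond (Nat.blt c 44) (cond (Nat.blt c 29) (cond (Nat.blt c 28) (cond (Nat.beq c 23) [⟨19, 1, 1⟩] []) (cond (Nat.beq c 28) [⟨24, 1, 1⟩] []))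 (cond (Nat.blt c 33) (cond (Nat.beq c 29) [⟨25, 1, 1⟩] []) (cond (Nat.blt c 37) (cond (Nat.beq c 33) [⟨30, -1, 1⟩] []) (cond (Nat.beq c 37) [⟨34, -1, 1⟩] [])))) (cond (Nat.blt c 49) (cond (Nat.blt c 45) (cond (Nat.beq c 44) [⟨40, 1, 1⟩] []) (cond (Nat.beq c 45) [⟨41, 1, 1⟩] [])) (cond (Nat.blt c 53) (cond (Nat.beq c 49) [⟨46, -1, 1⟩] []) (cond (Nat.blt c 58) (cond (Nat.beq c 53) [⟨50, -1, 1⟩] []) (cond (Nat.beq c 58) [⟨55, -1, 1⟩] [])))))) (cond (Nat.blt c 98) (cond (Nat.blt c 75) (cond (Nat.blt c 72) (cond (Nat.blt c 70) (cond (Nat.beq c 63) [⟨60, -1, 1⟩] []) (cond (Nat.beq c 70) [⟨65, 1, 1⟩] [])) (cond (Nat.blt c 73) (cond (Nat.beq c 72) [⟨66, 1, 1⟩] []) (cond (Nat.blt c 74) (cond (Nat.beq c 73) [⟨67, -1, 1⟩] []) (cond (Nat.beq c 74) [⟨69, -1, 1⟩] [])))) (cond (Nat.blt c 84)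 (cond (Nat.blt c 79) (cond (Nat.beq c 75) [⟨64, -1, 2⟩, ⟨0, 0, 1⟩, ⟨1, 0, 1⟩, ⟨2, 0, 1⟩, ⟨3, 0, 1⟩, ⟨4, -1, 1⟩, ⟨5, -1, 1⟩, ⟨6, -1, 1⟩] []) (cond (Nat.beq c 79) [⟨76, 1, 1⟩] [])) (cond (Nat.blt c 89) (cond (Nat.beq c 84) [⟨81, 1, 1⟩] []) (cond (Nat.blt c 93) (cond (Nat.beq c 89) [⟨86, 1, 1⟩] []) (cond (Nat.beq c 93) [⟨90, 1, 1⟩] []))))) (cond (Nat.blt c 115) (cond (Nat.blt c 105) (cond (Nat.blt c 99) (cond (Nat.beq c 98) [⟨94, -1, 1⟩] []) (cond (Nat.beq c 99) [⟨95, -1, 1⟩] [])) (cond (Nat.blt c 109) (cond (Nat.beq c 105) [⟨102, 1, 1⟩] []) (cond (Nat.blt c 114) (cond (Nat.beq c 109) [⟨106, 1, 1⟩] []) (cond (Nat.beq c 114) [⟨110, -1, 1⟩] [])))) (cond (Nat.blt c 121) (cond (Nat.blt c 120) (cond (Nat.beq c 115) [⟨111, -1, 1⟩] []) (cond (Nat.beq c 120) [⟨116, -1, 1⟩] [])) (cond (Nat.blt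 c 125) (cond (Nat.beq c 121) [⟨117, -1, 1⟩] []) (cond (Nat.blt c 129) (cond (Nat.beq c 125) [⟨122, 1, 1⟩] []) (cond (Nat.beq c 129) [⟨126, 1, 1⟩] []))))))

/-- Compiled columns of `x_58` for type E7. -/
def colsE7_58 (c : ℕ) : List CEnt :=
  cond (Nat.blt c 63) (cond (Nat.blt c 23) (cond (Nat.blt c 5) (cond (Nat.blt c 2) (cond (Nat.blt c 1) (cond (Nat.beq c 0) [⟨65, 0, 1⟩] []) (cond (Nat.beq c 1) [⟨65, 0, 1⟩] [])) (cond (Nat.blt c 3) (cond (Nat.beq c 2) [⟨65, 0, 1⟩] []) (cond (Nat.blt c 4) (cond (Nat.beq c 3) [⟨65, -1, 1⟩] []) (cond (Nat.beq c 4) [⟨65, 1, 1⟩] [])))) (cond (Nat.blt c 12) (cond (Nat.blt c 6) (cond (Nat.beq c 5) [⟨65, 1, 1⟩] []) (cond (Nat.beq c 6) [⟨65, -1, 1⟩] [])) (cond (Nat.blt c 16) (cond (Nat.beq c 12) [⟨10, 1, 1⟩] []) (cond (Nat.blt c 21) (cond (Nat.beq c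 16) [⟨14, 1, 1⟩] []) (cond (Nat.beq c 21) [⟨18, -1, 1⟩] []))))) (cond (Nat.blt c 43) (cond (Nat.blt c 29) (cond (Nat.blt c 27) (cond (Nat.beq c 23) [⟨20, 1, 1⟩] []) (cond (Nat.beq c 27) [⟨24, -1, 1⟩] [])) (cond (Nat.blt c 33) (cond (Nat.beq c 29) [⟨26, 1, 1⟩] []) (cond (Nat.blt c 37) (cond (Nat.beq c 33) [⟨31, -1, 1⟩] []) (cond (Nat.beq c 37) [⟨35, -1, 1⟩] [])))) (cond (Nat.blt c 49) (cond (Nat.blt c 45) (cond (Nat.beq c 43) [⟨40, -1, 1⟩] []) (cond (Nat.beq c 45) [⟨42, 1, 1⟩] [])) (cond (Nat.blt c 53) (cond (Nat.beq c 49) [⟨47, -1, 1⟩] []) (cond (Nat.blt c 58) (cond (Nat.beq c 53) [⟨51, -1, 1⟩] []) (cond (Nat.beq c 58) [⟨56, -1, 1⟩] [])))))) (cond (Nat.blt c 97) (cond (Nat.blt c 75) (cond (Nat.blt c 71) (cond (Nat.blt c 69) (cond (Nat.beq c 63) [⟨61, -1, 1⟩] []) (cond (Nat.beq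 c 69) [⟨64, 1, 1⟩] [])) (cond (Nat.blt c 73) (cond (Nat.beq c 71) [⟨66, 1, 1⟩] []) (cond (Nat.blt c 74) (cond (Nat.beq c 73) [⟨68, -1, 1⟩] []) (cond (Nat.beq c 74) [⟨65, -1, 2⟩, ⟨0, 0, 1⟩, ⟨1, 0, 1⟩, ⟨2, 0, 1⟩, ⟨3, 0, 1⟩, ⟨4, -1, 1⟩, ⟨5, -1, 1⟩, ⟨6, 0, 1⟩] [])))) (cond (Nat.blt c 83) (cond (Nat.blt c 78) (cond (Nat.beq c 75) [⟨70, -1, 1⟩] []) (cond (Nat.beq c 78) [⟨76, 1, 1⟩] [])) (cond (Nat.blt c 88) (cond (Nat.beq c 83) [⟨81, 1, 1⟩] []) (cond (Nat.blt c 92) (cond (Nat.beq c 88) [⟨86, 1, 1⟩] []) (cond (Nat.beq c 92) [⟨90, 1, 1⟩] []))))) (cond (Nat.blt c 115) (cond (Nat.blt c 104) (cond (Nat.blt c 99) (cond (Nat.beq c 97) [⟨94, -1, 1⟩] []) (cond (Nat.beq c 99) [⟨96, 1, 1⟩] [])) (cond (Nat.blt c 108) (cond (Nat.beq c 104) [⟨102, 1, 1⟩] []) (cond (Nat.blt c 113) (cond (Nat.beq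 c 108) [⟨106, 1, 1⟩] []) (cond (Nat.beq c 113) [⟨110, -1, 1⟩] [])))) (cond (Nat.blt c 121) (cond (Nat.blt c 119) (cond (Nat.beq c 115) [⟨112, 1, 1⟩] []) (cond (Nat.beq c 119) [⟨116, -1, 1⟩] [])) (cond (Nat.blt c 125) (cond (Nat.beq c 121) [⟨118, 1, 1⟩] []) (cond (Nat.blt c 129) (cond (Nat.beq c 125) [⟨123, -1, 1⟩] []) (cond (Nat.beq c 129) [⟨127, -1, 1⟩] []))))))

/-- Compiled columns of `x_59` for type E7. -/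
def colsE7_59 (c : ℕ) : List CEnt :=
  cond (Nat.blt c 63) (cond (Nat.blt c 22) (cond (Nat.blt c 5) (cond (Nat.blt c 2) (cond (Nat.blt c 1) (cond (Nat.beq c 0) [⟨66, 0, 1⟩] []) (cond (Nat.beq c 1) [⟨66, 0, 1⟩] [])) (cond (Nat.blt c 3) (cond (Nat.beq c 2) [⟨66, 0, 1⟩] []) (cond (Nat.blt c 4) (cond (Nat.beq c 3) [⟨66, -1, 1⟩] []) (cond (Nat.beq c 4) [⟨66, 2, 1⟩] [])))) (cond (Nat.blt c 11) (cond (Nat.blt c 6) (cond (Nat.beq c 5) [⟨66, -1, 1⟩] []) (cond (Nat.beq c 6) [⟨66, 0, 1⟩] [])) (cond (Nat.blt c 15) (cond (Nat.beq c 11) [⟨10, -1, 1⟩] []) (cond (Nat.blt c 21) (cond (Nat.beq c 15) [⟨14, -1, 1⟩] []) (cond (Nat.beq c 21) [⟨19, -1, 1⟩] []))))) (cond (Nat.blt c 43) (cond (Nat.blt c 28) (cond (Nat.blt c 27) (cond (Nat.beq c 22) [⟨20, -1, 1⟩] []) (cond (Nat.beq c 27) [⟨25, -1, 1⟩]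 [])) (cond (Nat.blt c 33) (cond (Nat.beq c 28) [⟨26, -1, 1⟩] []) (cond (Nat.blt c 37) (cond (Nat.beq c 33) [⟨32, -1, 1⟩] []) (cond (Nat.beq c 37) [⟨36, -1, 1⟩] [])))) (cond (Nat.blt c 49) (cond (Nat.blt c 44) (cond (Nat.beq c 43) [⟨41, -1, 1⟩] []) (cond (Nat.beq c 44) [⟨42, -1, 1⟩] [])) (cond (Nat.blt c 53) (cond (Nat.beq c 49) [⟨48, -1, 1⟩] []) (cond (Nat.blt c 58) (cond (Nat.beq c 53) [⟨52, -1, 1⟩] []) (cond (Nat.beq c 58) [⟨57, -1, 1⟩] [])))))) (cond (Nat.blt c 97) (cond (Nat.blt c 75) (cond (Nat.blt c 68) (cond (Nat.blt c 67) (cond (Nat.beq c 63) [⟨62, -1, 1⟩] []) (cond (Nat.beq c 67) [⟨64, 1, 1⟩] [])) (cond (Nat.blt c 73) (cond (Nat.beq c 68) [⟨65, 1, 1⟩] []) (cond (Nat.blt c 74) (cond (Nat.beq c 73) [⟨66, -1, 2⟩, ⟨0, 0, 1⟩, ⟨1, 0, 1⟩, ⟨2, 0, 1⟩, ⟨3, 0, 1⟩, ⟨4, -1, 1⟩, ⟨5,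 0, 1⟩, ⟨6, 0, 1⟩] []) (cond (Nat.beq c 74) [⟨71, -1, 1⟩] [])))) (cond (Nat.blt c 82) (cond (Nat.blt c 77) (cond (Nat.beq c 75) [⟨72, -1, 1⟩] []) (cond (Nat.beq c 77) [⟨76, 1, 1⟩] [])) (cond (Nat.blt c 87) (cond (Nat.beq c 82) [⟨81, 1, 1⟩] []) (cond (Nat.blt c 91) (cond (Nat.beq c 87) [⟨86, 1, 1⟩] []) (cond (Nat.beq c 91) [⟨90, 1, 1⟩] []))))) (cond (Nat.blt c 114) (cond (Nat.blt c 103) (cond (Nat.blt c 98) (cond (Nat.beq c 97) [⟨95, 1, 1⟩] []) (cond (Nat.beq c 98) [⟨96, 1, 1⟩] [])) (cond (Nat.blt c 107) (cond (Nat.beq c 103) [⟨102, 1, 1⟩] []) (cond (Nat.blt c 113) (cond (Nat.beq c 107) [⟨106, 1, 1⟩] []) (cond (Nat.beq c 113) [⟨111, 1, 1⟩] [])))) (cond (Nat.blt c 120) (cond (Nat.blt c 119) (cond (Nat.beq c 114) [⟨112, 1, 1⟩] []) (cond (Nat.beq c 119) [⟨117, 1, 1⟩] [])) (cond (Nat.blt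 c 125) (cond (Nat.beq c 120) [⟨118, 1, 1⟩] []) (cond (Nat.blt c 129) (cond (Nat.beq c 125) [⟨124, 1, 1⟩] []) (cond (Nat.beq c 129) [⟨128, 1, 1⟩] []))))))

/-- Compiled columns of `x_60` for type E7. -/
def colsE7_60 (c : ℕ) : List CEnt :=
  cond (Nat.blt c 62) (cond (Nat.blt c 23) (cond (Nat.blt c 5) (cond (Nat.blt c 2) (cond (Nat.blt c 1) (cond (Nat.beq c 0) [⟨67, 0, 1⟩] []) (cond (Nat.beq c 1) [⟨67, 0, 1⟩] [])) (cond (Nat.blt c 3) (cond (Nat.beq c 2) [⟨67, 0, 1⟩] []) (cond (Nat.blt c 4) (cond (Nat.beq c 3) [⟨67, 0, 1⟩] []) (cond (Nat.beq c 4) [⟨67, -1, 1⟩] [])))) (cond (Nat.blt c 13) (cond (Nat.blt c 6) (cond (Nat.beq c 5) [⟨67, 1, 1⟩] []) (cond (Nat.beq c 6) [⟨67, 1, 1⟩] [])) (cond (Nat.blt c 17) (cond (Nat.beq c 13) [⟨11, 1, 1⟩] []) (cond (Nat.blt c 20) (cond (Nat.beq c 17)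 [⟨15, 1, 1⟩] []) (cond (Nat.beq c 20) [⟨18, 1, 1⟩] []))))) (cond (Nat.blt c 42) (cond (Nat.blt c 29) (cond (Nat.blt c 26) (cond (Nat.beq c 23) [⟨21, -1, 1⟩] []) (cond (Nat.beq c 26) [⟨24, 1, 1⟩] [])) (cond (Nat.blt c 32) (cond (Nat.beq c 29) [⟨27, -1, 1⟩] []) (cond (Nat.blt c 36) (cond (Nat.beq c 32) [⟨30, -1, 1⟩] []) (cond (Nat.beq c 36) [⟨34, -1, 1⟩] [])))) (cond (Nat.blt c 48) (cond (Nat.blt c 45) (cond (Nat.beq c 42) [⟨40, 1, 1⟩] []) (cond (Nat.beq c 45) [⟨43, -1, 1⟩] [])) (cond (Nat.blt c 52) (cond (Nat.beq c 48) [⟨46, -1, 1⟩] []) (cond (Nat.blt c 57) (cond (Nat.beq c 52) [⟨50, -1, 1⟩] []) (cond (Nat.beq c 57) [⟨55, -1, 1⟩] [])))))) (cond (Nat.blt c 96) (cond (Nat.blt c 75) (cond (Nat.blt c 70) (cond (Nat.blt c 66) (cond (Nat.beq c 62) [⟨60, -1, 1⟩] []) (cond (Nat.beq c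 66) [⟨64, -1, 1⟩] [])) (cond (Nat.blt c 71) (cond (Nat.beq c 70) [⟨68, 1, 1⟩] []) (cond (Nat.blt c 72) (cond (Nat.beq c 71) [⟨69, -1, 1⟩] []) (cond (Nat.beq c 72) [⟨67, -1, 2⟩, ⟨0, 0, 1⟩, ⟨1, 0, 1⟩, ⟨2, 0, 1⟩, ⟨3, 0, 1⟩, ⟨4, 0, 1⟩, ⟨5, -1, 1⟩, ⟨6, -1, 1⟩] [])))) (cond (Nat.blt c 84) (cond (Nat.blt c 79) (cond (Nat.beq c 75) [⟨73, 1, 1⟩] []) (cond (Nat.beq c 79) [⟨77, 1, 1⟩] [])) (cond (Nat.blt c 89) (cond (Nat.beq c 84) [⟨82, 1, 1⟩] []) (cond (Nat.blt c 93) (cond (Nat.beq c 89) [⟨87, 1, 1⟩] []) (cond (Nat.beq c 93) [⟨91, 1, 1⟩] []))))) (cond (Nat.blt c 115) (cond (Nat.blt c 105) (cond (Nat.blt c 99) (cond (Nat.beq c 96) [⟨94, 1, 1⟩] []) (cond (Nat.beq c 99) [⟨97, -1, 1⟩] [])) (cond (Nat.blt c 109) (cond (Nat.beq c 105) [⟨103, 1, 1⟩] []) (cond (Nat.blt c 112) (cond (Nat.beq c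 109) [⟨107, 1, 1⟩] []) (cond (Nat.beq c 112) [⟨110, 1, 1⟩] [])))) (cond (Nat.blt c 121) (cond (Nat.blt c 118) (cond (Nat.beq c 115) [⟨113, -1, 1⟩] []) (cond (Nat.beq c 118) [⟨116, 1, 1⟩] [])) (cond (Nat.blt c 124) (cond (Nat.beq c 121) [⟨119, -1, 1⟩] []) (cond (Nat.blt c 128) (cond (Nat.beq c 124) [⟨122, -1, 1⟩] []) (cond (Nat.beq c 128) [⟨126, -1, 1⟩] []))))))

/-- Compiled columns of `x_61` for type E7. -/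
def colsE7_61 (c : ℕ) : List CEnt :=
  cond (Nat.blt c 62) (cond (Nat.blt c 23) (cond (Nat.blt c 5) (cond (Nat.blt c 2) (cond (Nat.blt c 1) (cond (Nat.beq c 0) [⟨68, 0, 1⟩] []) (cond (Nat.beq c 1) [⟨68, 0, 1⟩] [])) (cond (Nat.blt c 3) (cond (Nat.beq c 2) [⟨68, 0, 1⟩] []) (cond (Nat.blt c 4) (cond (Nat.beq c 3) [⟨68, 0, 1⟩] []) (cond (Nat.beq c 4) [⟨68, -1, 1⟩] [])))) (cond (Nat.blt c 12) (cond (Nat.blt c 6) (cond (Nat.beq c 5) [⟨68, 2, 1⟩] []) (cond (Nat.beq c 6) [⟨68, -1, 1⟩] [])) (cond (Nat.blt c 16) (cond (Nat.beq c 12) [⟨11, -1, 1⟩] []) (cond (Nat.blt c 19) (cond (Nat.beq c 16) [⟨15, -1, 1⟩] []) (cond (Nat.beq c 19) [⟨18, -1, 1⟩] []))))) (cond (Nat.blt c 41) (cond (Nat.blt c 29) (cond (Nat.blt c 25) (cond (Nat.beq c 23) [⟨22, -1, 1⟩] []) (cond (Nat.beq c 25) [⟨24, -1, 1⟩]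 [])) (cond (Nat.blt c 32) (cond (Nat.beq c 29) [⟨28, -1, 1⟩] []) (cond (Nat.blt c 36) (cond (Nat.beq c 32) [⟨31, -1, 1⟩] []) (cond (Nat.beq c 36) [⟨35, -1, 1⟩] [])))) (cond (Nat.blt c 48) (cond (Nat.blt c 45) (cond (Nat.beq c 41) [⟨40, -1, 1⟩] []) (cond (Nat.beq c 45) [⟨44, -1, 1⟩] [])) (cond (Nat.blt c 52) (cond (Nat.beq c 48) [⟨47, -1, 1⟩] []) (cond (Nat.blt c 57) (cond (Nat.beq c 52) [⟨51, -1, 1⟩] []) (cond (Nat.beq c 57) [⟨56, -1, 1⟩] [])))))) (cond (Nat.blt c 95) (cond (Nat.blt c 74) (cond (Nat.blt c 69) (cond (Nat.blt c 66) (cond (Nat.beq c 62) [⟨61, -1, 1⟩] []) (cond (Nat.beq c 66) [⟨65, -1, 1⟩] [])) (cond (Nat.blt c 71) (cond (Nat.beq c 69) [⟨67, 1, 1⟩] []) (cond (Nat.blt c 72) (cond (Nat.beq c 71) [⟨68, -1, 2⟩, ⟨0, 0, 1⟩, ⟨1, 0, 1⟩, ⟨2, 0, 1⟩, ⟨3, 0, 1⟩, ⟨4, 0, 1⟩, ⟨5,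 -1, 1⟩, ⟨6, 0, 1⟩] []) (cond (Nat.beq c 72) [⟨70, -1, 1⟩] [])))) (cond (Nat.blt c 83) (cond (Nat.blt c 78) (cond (Nat.beq c 74) [⟨73, 1, 1⟩] []) (cond (Nat.beq c 78) [⟨77, 1, 1⟩] [])) (cond (Nat.blt c 88) (cond (Nat.beq c 83) [⟨82, 1, 1⟩] []) (cond (Nat.blt c 92) (cond (Nat.beq c 88) [⟨87, 1, 1⟩] []) (cond (Nat.beq c 92) [⟨91, 1, 1⟩] []))))) (cond (Nat.blt c 115) (cond (Nat.blt c 104) (cond (Nat.blt c 99) (cond (Nat.beq c 95) [⟨94, 1, 1⟩] []) (cond (Nat.beq c 99) [⟨98, 1, 1⟩] [])) (cond (Nat.blt c 108) (cond (Nat.beq c 104) [⟨103, 1, 1⟩] []) (cond (Nat.blt c 111) (cond (Nat.beq c 108) [⟨107, 1, 1⟩] []) (cond (Nat.beq c 111) [⟨110, 1, 1⟩] [])))) (cond (Nat.blt c 121) (cond (Nat.blt c 117) (cond (Nat.beq c 115) [⟨114, 1, 1⟩] []) (cond (Nat.beq c 117) [⟨116, 1, 1⟩] [])) (cond (Nat.blt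 c 124) (cond (Nat.beq c 121) [⟨120, 1, 1⟩] []) (cond (Nat.blt c 128) (cond (Nat.beq c 124) [⟨123, 1, 1⟩] []) (cond (Nat.beq c 128) [⟨127, 1, 1⟩] []))))))

/-- Compiled columns of `x_62` for type E7. -/
def colsE7_62 (c : ℕ) : List CEnt :=
  cond (Nat.blt c 61) (cond (Nat.blt c 22) (cond (Nat.blt c 5) (cond (Nat.blt c 2) (cond (Nat.blt c 1) (cond (Nat.beq c 0) [⟨69, 0, 1⟩] []) (cond (Nat.beq c 1) [⟨69, 0, 1⟩] [])) (cond (Nat.blt c 3) (cond (Nat.beq c 2) [⟨69, 0, 1⟩] []) (cond (Nat.blt c 4) (cond (Nat.beq c 3) [⟨69, 0, 1⟩] []) (cond (Nat.beq c 4) [⟨69, 0, 1⟩] [])))) (cond (Nat.blt c 13) (cond (Nat.blt c 6) (cond (Nat.beq c 5) [⟨69, -1, 1⟩] []) (cond (Nat.beq c 6) [⟨69, 2, 1⟩] [])) (cond (Nat.blt c 17) (cond (Nat.beq c 13) [⟨12, -1, 1⟩] []) (cond (Nat.blt c 20) (cond (Nat.beq c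 17) [⟨16, -1, 1⟩] []) (cond (Nat.beq c 20) [⟨19, -1, 1⟩] []))))) (cond (Nat.blt c 42) (cond (Nat.blt c 28) (cond (Nat.blt c 26) (cond (Nat.beq c 22) [⟨21, -1, 1⟩] []) (cond (Nat.beq c 26) [⟨25, -1, 1⟩] [])) (cond (Nat.blt c 31) (cond (Nat.beq c 28) [⟨27, -1, 1⟩] []) (cond (Nat.blt c 35) (cond (Nat.beq c 31) [⟨30, -1, 1⟩] []) (cond (Nat.beq c 35) [⟨34, -1, 1⟩] [])))) (cond (Nat.blt c 47) (cond (Nat.blt c 44) (cond (Nat.beq c 42) [⟨41, -1, 1⟩] []) (cond (Nat.beq c 44) [⟨43, -1, 1⟩] [])) (cond (Nat.blt c 51) (cond (Nat.beq c 47) [⟨46, -1, 1⟩] []) (cond (Nat.blt c 56) (cond (Nat.beq c 51) [⟨50, -1, 1⟩] []) (cond (Nat.beq c 56) [⟨55, -1, 1⟩] [])))))) (cond (Nat.blt c 96) (cond (Nat.blt c 75) (cond (Nat.blt c 68) (cond (Nat.blt c 65) (cond (Nat.beq c 61) [⟨60, -1, 1⟩] []) (cond (Nat.beq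 c 65) [⟨64, -1, 1⟩] [])) (cond (Nat.blt c 70) (cond (Nat.beq c 68) [⟨67, -1, 1⟩] []) (cond (Nat.blt c 72) (cond (Nat.beq c 70) [⟨69, -1, 2⟩, ⟨0, 0, 1⟩, ⟨1, 0, 1⟩, ⟨2, 0, 1⟩, ⟨3, 0, 1⟩, ⟨4, 0, 1⟩, ⟨5, 0, 1⟩, ⟨6, -1, 1⟩] []) (cond (Nat.beq c 72) [⟨71, 1, 1⟩] [])))) (cond (Nat.blt c 84) (cond (Nat.blt c 79) (cond (Nat.beq c 75) [⟨74, 1, 1⟩] []) (cond (Nat.beq c 79) [⟨78, 1, 1⟩] [])) (cond (Nat.blt c 89) (cond (Nat.beq c 84) [⟨83, 1, 1⟩] []) (cond (Nat.blt c 93) (cond (Nat.beq c 89) [⟨88, 1, 1⟩] []) (cond (Nat.beq c 93) [⟨92, 1, 1⟩] []))))) (cond (Nat.blt c 114) (cond (Nat.blt c 105) (cond (Nat.blt c 98) (cond (Nat.beq c 96) [⟨95, 1, 1⟩] []) (cond (Nat.beq c 98) [⟨97, 1, 1⟩] [])) (cond (Nat.blt c 109) (cond (Nat.beq c 105) [⟨104, 1, 1⟩] []) (cond (Nat.blt c 112) (cond (Nat.beq c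 109) [⟨108, 1, 1⟩] []) (cond (Nat.beq c 112) [⟨111, 1, 1⟩] [])))) (cond (Nat.blt c 120) (cond (Nat.blt c 118) (cond (Nat.beq c 114) [⟨113, 1, 1⟩] []) (cond (Nat.beq c 118) [⟨117, 1, 1⟩] [])) (cond (Nat.blt c 123) (cond (Nat.beq c 120) [⟨119, 1, 1⟩] []) (cond (Nat.blt c 127) (cond (Nat.beq c 123) [⟨122, 1, 1⟩] []) (cond (Nat.beq c 127) [⟨126, 1, 1⟩] []))))))

/-- Compiled columns of `x_63` for type E7. -/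
def colsE7_63 (c : ℕ) : List CEnt :=
  cond (Nat.blt c 60) (cond (Nat.blt c 21) (cond (Nat.blt c 5) (cond (Nat.blt c 2) (cond (Nat.blt c 1) (cond (Nat.beq c 0) [⟨70, 0, 1⟩] []) (cond (Nat.beq c 1) [⟨70, 0, 1⟩] [])) (cond (Nat.blt c 3) (cond (Nat.beq c 2) [⟨70, 0, 1⟩] []) (cond (Nat.blt c 4) (cond (Nat.beq c 3) [⟨70, 0, 1⟩] []) (cond (Nat.beq c 4) [⟨70, 0, 1⟩] [])))) (cond (Nat.blt c 12) (cond (Nat.blt c 6) (cond (Nat.beq c 5) [⟨70, 1, 1⟩] []) (cond (Nat.beq c 6) [⟨70, -2, 1⟩] [])) (cond (Nat.blt c 16) (cond (Nat.beq c 12) [⟨13, -1, 1⟩] []) (cond (Nat.blt c 19) (cond (Nat.beq c 16) [⟨17, -1, 1⟩] []) (cond (Nat.beq c 19) [⟨20, -1, 1⟩] []))))) (cond (Nat.blt c 41) (cond (Nat.blt c 27) (cond (Nat.blt c 25) (cond (Nat.beq c 21) [⟨22, -1, 1⟩] []) (cond (Nat.beq c 25) [⟨26, -1, 1⟩]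 [])) (cond (Nat.blt c 30) (cond (Nat.beq c 27) [⟨28, -1, 1⟩] []) (cond (Nat.blt c 34) (cond (Nat.beq c 30) [⟨31, -1, 1⟩] []) (cond (Nat.beq c 34) [⟨35, -1, 1⟩] [])))) (cond (Nat.blt c 46) (cond (Nat.blt c 43) (cond (Nat.beq c 41) [⟨42, -1, 1⟩] []) (cond (Nat.beq c 43) [⟨44, -1, 1⟩] [])) (cond (Nat.blt c 50) (cond (Nat.beq c 46) [⟨47, -1, 1⟩] []) (cond (Nat.blt c 55) (cond (Nat.beq c 50) [⟨51, -1, 1⟩] []) (cond (Nat.beq c 55) [⟨56, -1, 1⟩] [])))))) (cond (Nat.blt c 95) (cond (Nat.blt c 74) (cond (Nat.blt c 67) (cond (Nat.blt c 64) (cond (Nat.beq c 60) [⟨61, -1, 1⟩] []) (cond (Nat.beq c 64) [⟨65, -1, 1⟩] [])) (cond (Nat.blt c 69) (cond (Nat.beq c 67) [⟨68, -1, 1⟩] []) (cond (Nat.blt c 71) (cond (Nat.beq c 69) [⟨70, -1, 2⟩, ⟨0, 0, 1⟩, ⟨1, 0, 1⟩, ⟨2, 0, 1⟩, ⟨3, 0, 1⟩, ⟨4, 0, 1⟩,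 ⟨5, 0, 1⟩, ⟨6, 1, 1⟩] []) (cond (Nat.beq c 71) [⟨72, 1, 1⟩] [])))) (cond (Nat.blt c 83) (cond (Nat.blt c 78) (cond (Nat.beq c 74) [⟨75, 1, 1⟩] []) (cond (Nat.beq c 78) [⟨79, 1, 1⟩] [])) (cond (Nat.blt c 88) (cond (Nat.beq c 83) [⟨84, 1, 1⟩] []) (cond (Nat.blt c 92) (cond (Nat.beq c 88) [⟨89, 1, 1⟩] []) (cond (Nat.beq c 92) [⟨93, 1, 1⟩] []))))) (cond (Nat.blt c 113) (cond (Nat.blt c 104) (cond (Nat.blt c 97) (cond (Nat.beq c 95) [⟨96, 1, 1⟩] []) (cond (Nat.beq c 97) [⟨98, 1, 1⟩] [])) (cond (Nat.blt c 108) (cond (Nat.beq c 104) [⟨105, 1, 1⟩] []) (cond (Nat.blt c 111) (cond (Nat.beq c 108) [⟨109, 1, 1⟩] []) (cond (Nat.beq c 111) [⟨112, 1, 1⟩] [])))) (cond (Nat.blt c 119) (cond (Nat.blt c 117) (cond (Nat.beq c 113) [⟨114, 1, 1⟩] []) (cond (Nat.beq c 117) [⟨118, 1, 1⟩] [])) (cond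 (Nat.blt c 122) (cond (Nat.beq c 119) [⟨120, 1, 1⟩] []) (cond (Nat.blt c 126) (cond (Nat.beq c 122) [⟨123, 1, 1⟩] []) (cond (Nat.beq c 126) [⟨127, 1, 1⟩] []))))))

/-- Compiled columns of `x_64` for type E7. -/
def colsE7_64 (c : ℕ) : List CEnt :=
  cond (Nat.blt c 61) (cond (Nat.blt c 22) (cond (Nat.blt c 5) (cond (Nat.blt c 2) (cond (Nat.blt c 1) (cond (Nat.beq c 0) [⟨71, 0, 1⟩] []) (cond (Nat.beq c 1) [⟨71, 0, 1⟩] [])) (cond (Nat.blt c 3) (cond (Nat.beq c 2) [⟨71, 0, 1⟩] []) (cond (Nat.blt c 4) (cond (Nat.beq c 3) [⟨71, 0, 1⟩] []) (cond (Nat.beq c 4) [⟨71, 1, 1⟩] [])))) (cond (Nat.blt c 11) (cond (Nat.blt c 6) (cond (Nat.beq c 5) [⟨71, -2, 1⟩] []) (cond (Nat.beq c 6) [⟨71, 1, 1⟩] [])) (cond (Nat.blt c 15) (cond (Nat.beq c 11) [⟨12, -1, 1⟩] []) (cond (Nat.blt c 18) (cond (Nat.beq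 c 15) [⟨16, -1, 1⟩] []) (cond (Nat.beq c 18) [⟨19, -1, 1⟩] []))))) (cond (Nat.blt c 40) (cond (Nat.blt c 28) (cond (Nat.blt c 24) (cond (Nat.beq c 22) [⟨23, -1, 1⟩] []) (cond (Nat.beq c 24) [⟨25, -1, 1⟩] [])) (cond (Nat.blt c 31) (cond (Nat.beq c 28) [⟨29, -1, 1⟩] []) (cond (Nat.blt c 35) (cond (Nat.beq c 31) [⟨32, -1, 1⟩] []) (cond (Nat.beq c 35) [⟨36, -1, 1⟩] [])))) (cond (Nat.blt c 47) (cond (Nat.blt c 44) (cond (Nat.beq c 40) [⟨41, -1, 1⟩] []) (cond (Nat.beq c 44) [⟨45, -1, 1⟩] [])) (cond (Nat.blt c 51) (cond (Nat.beq c 47) [⟨48, -1, 1⟩] []) (cond (Nat.blt c 56) (cond (Nat.beq c 51) [⟨52, -1, 1⟩] []) (cond (Nat.beq c 56) [⟨57, -1, 1⟩] [])))))) (cond (Nat.blt c 94) (cond (Nat.blt c 73) (cond (Nat.blt c 67) (cond (Nat.blt c 65) (cond (Nat.beq c 61) [⟨62, -1, 1⟩] []) (cond (Nat.beq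 c 65) [⟨66, -1, 1⟩] [])) (cond (Nat.blt c 68) (cond (Nat.beq c 67) [⟨69, 1, 1⟩] []) (cond (Nat.blt c 70) (cond (Nat.beq c 68) [⟨71, -1, 2⟩, ⟨0, 0, 1⟩, ⟨1, 0, 1⟩, ⟨2, 0, 1⟩, ⟨3, 0, 1⟩, ⟨4, 0, 1⟩, ⟨5, 1, 1⟩, ⟨6, 0, 1⟩] []) (cond (Nat.beq c 70) [⟨72, -1, 1⟩] [])))) (cond (Nat.blt c 82) (cond (Nat.blt c 77) (cond (Nat.beq c 73) [⟨74, 1, 1⟩] []) (cond (Nat.beq c 77) [⟨78, 1, 1⟩] [])) (cond (Nat.blt c 87) (cond (Nat.beq c 82) [⟨83, 1, 1⟩] []) (cond (Nat.blt c 91) (cond (Nat.beq c 87) [⟨88, 1, 1⟩] []) (cond (Nat.beq c 91) [⟨92, 1, 1⟩] []))))) (cond (Nat.blt c 114) (cond (Nat.blt c 103) (cond (Nat.blt c 98) (cond (Nat.beq c 94) [⟨95, 1, 1⟩] []) (cond (Nat.beq c 98) [⟨99, 1, 1⟩] [])) (cond (Nat.blt c 107) (cond (Nat.beq c 103) [⟨104, 1, 1⟩] []) (cond (Nat.blt c 110) (cond (Nat.beq c 107)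 [⟨108, 1, 1⟩] []) (cond (Nat.beq c 110) [⟨111, 1, 1⟩] [])))) (cond (Nat.blt c 120) (cond (Nat.blt c 116) (cond (Nat.beq c 114) [⟨115, 1, 1⟩] []) (cond (Nat.beq c 116) [⟨117, 1, 1⟩] [])) (cond (Nat.blt c 123) (cond (Nat.beq c 120) [⟨121, 1, 1⟩] []) (cond (Nat.blt c 127) (cond (Nat.beq c 123) [⟨124, 1, 1⟩] []) (cond (Nat.beq c 127) [⟨128, 1, 1⟩] []))))))

/-- Compiled columns of `x_65` for type E7. -/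
def colsE7_65 (c : ℕ) : List CEnt :=
  cond (Nat.blt c 60) (cond (Nat.blt c 21) (cond (Nat.blt c 5) (cond (Nat.blt c 2) (cond (Nat.blt c 1) (cond (Nat.beq c 0) [⟨72, 0, 1⟩] []) (cond (Nat.beq c 1) [⟨72, 0, 1⟩] [])) (cond (Nat.blt c 3) (cond (Nat.beq c 2) [⟨72, 0, 1⟩] []) (cond (Nat.blt c 4) (cond (Nat.beq c 3) [⟨72, 0, 1⟩] []) (cond (Nat.beq c 4) [⟨72, 1, 1⟩] [])))) (cond (Nat.blt c 11) (cond (Nat.blt c 6) (cond (Nat.beq c 5) [⟨72, -1, 1⟩] []) (cond (Nat.beq c 6) [⟨72, -1, 1⟩] [])) (cond (Nat.blt c 15) (cond (Nat.beq c 11) [⟨13, 1, 1⟩] []) (cond (Nat.blt c 18) (cond (Nat.beq c 15) [⟨17, 1, 1⟩] []) (cond (Nat.beq c 18) [⟨20, 1, 1⟩] []))))) (cond (Nat.blt c 40) (cond (Nat.blt c 27) (cond (Nat.blt c 24) (cond (Nat.beq c 21) [⟨23, -1, 1⟩] []) (cond (Nat.beq c 24) [⟨26, 1, 1⟩] []))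 (cond (Nat.blt c 30) (cond (Nat.beq c 27) [⟨29, -1, 1⟩] []) (cond (Nat.blt c 34) (cond (Nat.beq c 30) [⟨32, -1, 1⟩] []) (cond (Nat.beq c 34) [⟨36, -1, 1⟩] [])))) (cond (Nat.blt c 46) (cond (Nat.blt c 43) (cond (Nat.beq c 40) [⟨42, 1, 1⟩] []) (cond (Nat.beq c 43) [⟨45, -1, 1⟩] [])) (cond (Nat.blt c 50) (cond (Nat.beq c 46) [⟨48, -1, 1⟩] []) (cond (Nat.blt c 55) (cond (Nat.beq c 50) [⟨52, -1, 1⟩] []) (cond (Nat.beq c 55) [⟨57, -1, 1⟩] [])))))) (cond (Nat.blt c 94) (cond (Nat.blt c 73) (cond (Nat.blt c 67) (cond (Nat.blt c 64) (cond (Nat.beq c 60) [⟨62, -1, 1⟩] []) (cond (Nat.beq c 64) [⟨66, -1, 1⟩] [])) (cond (Nat.blt c 68) (cond (Nat.beq c 67) [⟨72, -1, 2⟩, ⟨0, 0, 1⟩, ⟨1, 0, 1⟩, ⟨2, 0, 1⟩, ⟨3, 0, 1⟩, ⟨4, 0, 1⟩, ⟨5, 1, 1⟩, ⟨6, 1, 1⟩] []) (cond (Nat.blt c 69) (cond (Nat.beq c 68)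 [⟨70, 1, 1⟩] []) (cond (Nat.beq c 69) [⟨71, -1, 1⟩] [])))) (cond (Nat.blt c 82) (cond (Nat.blt c 77) (cond (Nat.beq c 73) [⟨75, 1, 1⟩] []) (cond (Nat.beq c 77) [⟨79, 1, 1⟩] [])) (cond (Nat.blt c 87) (cond (Nat.beq c 82) [⟨84, 1, 1⟩] []) (cond (Nat.blt c 91) (cond (Nat.beq c 87) [⟨89, 1, 1⟩] []) (cond (Nat.beq c 91) [⟨93, 1, 1⟩] []))))) (cond (Nat.blt c 113) (cond (Nat.blt c 103) (cond (Nat.blt c 97) (cond (Nat.beq c 94) [⟨96, 1, 1⟩] []) (cond (Nat.beq c 97) [⟨99, -1, 1⟩] [])) (cond (Nat.blt c 107) (cond (Nat.beq c 103) [⟨105, 1, 1⟩] []) (cond (Nat.blt c 110) (cond (Nat.beq c 107) [⟨109, 1, 1⟩] []) (cond (Nat.beq c 110) [⟨112, 1, 1⟩] [])))) (cond (Nat.blt c 119) (cond (Nat.blt c 116) (cond (Nat.beq c 113) [⟨115, -1, 1⟩] []) (cond (Nat.beq c 116) [⟨118, 1, 1⟩] [])) (cond (Nat.blt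 c 122) (cond (Nat.beq c 119) [⟨121, -1, 1⟩] []) (cond (Nat.blt c 126) (cond (Nat.beq c 122) [⟨124, -1, 1⟩] []) (cond (Nat.beq c 126) [⟨128, -1, 1⟩] []))))))

/-- Compiled columns of `x_66` for type E7. -/
def colsE7_66 (c : ℕ) : List CEnt :=
  cond (Nat.blt c 62) (cond (Nat.blt c 20) (cond (Nat.blt c 5) (cond (Nat.blt c 2) (cond (Nat.blt c 1) (cond (Nat.beq c 0) [⟨73, 0, 1⟩] []) (cond (Nat.beq c 1) [⟨73, 0, 1⟩] [])) (cond (Nat.blt c 3) (cond (Nat.beq c 2) [⟨73, 0, 1⟩] []) (cond (Nat.blt c 4) (cond (Nat.beq c 3) [⟨73, 1, 1⟩] []) (cond (Nat.beq c 4) [⟨73, -2, 1⟩] [])))) (cond (Nat.blt c 10) (cond (Nat.blt c 6) (cond (Nat.beq c 5) [⟨73, 1, 1⟩] []) (cond (Nat.beq c 6) [⟨73, 0, 1⟩] [])) (cond (Nat.blt c 14) (cond (Nat.beq c 10) [⟨11, -1, 1⟩] []) (cond (Nat.blt c 19) (cond (Nat.beq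 c 14) [⟨15, -1, 1⟩] []) (cond (Nat.beq c 19) [⟨21, -1, 1⟩] []))))) (cond (Nat.blt c 41) (cond (Nat.blt c 26) (cond (Nat.blt c 25) (cond (Nat.beq c 20) [⟨22, -1, 1⟩] []) (cond (Nat.beq c 25) [⟨27, -1, 1⟩] [])) (cond (Nat.blt c 32) (cond (Nat.beq c 26) [⟨28, -1, 1⟩] []) (cond (Nat.blt c 36) (cond (Nat.beq c 32) [⟨33, -1, 1⟩] []) (cond (Nat.beq c 36) [⟨37, -1, 1⟩] [])))) (cond (Nat.blt c 48) (cond (Nat.blt c 42) (cond (Nat.beq c 41) [⟨43, -1, 1⟩] []) (cond (Nat.beq c 42) [⟨44, -1, 1⟩] [])) (cond (Nat.blt c 52) (cond (Nat.beq c 48) [⟨49, -1, 1⟩] []) (cond (Nat.blt c 57) (cond (Nat.beq c 52) [⟨53, -1, 1⟩] []) (cond (Nat.beq c 57) [⟨58, -1, 1⟩] [])))))) (cond (Nat.blt c 95) (cond (Nat.blt c 72) (cond (Nat.blt c 65) (cond (Nat.blt c 64) (cond (Nat.beq c 62) [⟨63, -1, 1⟩] []) (cond (Nat.beq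 c 64) [⟨67, 1, 1⟩] [])) (cond (Nat.blt c 66) (cond (Nat.beq c 65) [⟨68, 1, 1⟩] []) (cond (Nat.blt c 71) (cond (Nat.beq c 66) [⟨73, -1, 2⟩, ⟨0, 0, 1⟩, ⟨1, 0, 1⟩, ⟨2, 0, 1⟩, ⟨3, 0, 1⟩, ⟨4, 1, 1⟩, ⟨5, 0, 1⟩, ⟨6, 0, 1⟩] []) (cond (Nat.beq c 71) [⟨74, -1, 1⟩] [])))) (cond (Nat.blt c 81) (cond (Nat.blt c 76) (cond (Nat.beq c 72) [⟨75, -1, 1⟩] []) (cond (Nat.beq c 76) [⟨77, 1, 1⟩] [])) (cond (Nat.blt c 86) (cond (Nat.beq c 81) [⟨82, 1, 1⟩] []) (cond (Nat.blt c 90) (cond (Nat.beq c 86) [⟨87, 1, 1⟩] []) (cond (Nat.beq c 90) [⟨91, 1, 1⟩] []))))) (cond (Nat.blt c 112) (cond (Nat.blt c 102) (cond (Nat.blt c 96) (cond (Nat.beq c 95) [⟨97, 1, 1⟩] []) (cond (Nat.beq c 96) [⟨98, 1, 1⟩] [])) (cond (Nat.blt c 106) (cond (Nat.beq c 102) [⟨103, 1, 1⟩] []) (cond (Nat.blt c 111) (cond (Nat.beq c 106)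 [⟨107, 1, 1⟩] []) (cond (Nat.beq c 111) [⟨113, 1, 1⟩] [])))) (cond (Nat.blt c 118) (cond (Nat.blt c 117) (cond (Nat.beq c 112) [⟨114, 1, 1⟩] []) (cond (Nat.beq c 117) [⟨119, 1, 1⟩] [])) (cond (Nat.blt c 124) (cond (Nat.beq c 118) [⟨120, 1, 1⟩] []) (cond (Nat.blt c 128) (cond (Nat.beq c 124) [⟨125, 1, 1⟩] []) (cond (Nat.beq c 128) [⟨129, 1, 1⟩] []))))))

/-- Compiled columns of `x_67` for type E7. -/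
def colsE7_67 (c : ℕ) : List CEnt :=
  cond (Nat.blt c 61) (cond (Nat.blt c 20) (cond (Nat.blt c 5) (cond (Nat.blt c 2) (cond (Nat.blt c 1) (cond (Nat.beq c 0) [⟨74, 0, 1⟩] []) (cond (Nat.beq c 1) [⟨74, 0, 1⟩] [])) (cond (Nat.blt c 3) (cond (Nat.beq c 2) [⟨74, 0, 1⟩] []) (cond (Nat.blt c 4) (cond (Nat.beq c 3) [⟨74, 1, 1⟩] []) (cond (Nat.beq c 4) [⟨74, -1, 1⟩] [])))) (cond (Nat.blt c 10) (cond (Nat.blt c 6) (cond (Nat.beq c 5) [⟨74, -1, 1⟩] []) (cond (Nat.beq c 6) [⟨74, 1, 1⟩] [])) (cond (Nat.blt c 14) (cond (Nat.beq c 10) [⟨12, 1, 1⟩] []) (cond (Nat.blt c 18) (cond (Nat.beq c 14) [⟨16, 1, 1⟩] []) (cond (Nat.beq c 18) [⟨21, -1, 1⟩] []))))) (cond (Nat.blt c 40) (cond (Nat.blt c 26) (cond (Nat.blt c 24) (cond (Nat.beq c 20) [⟨23, 1, 1⟩] []) (cond (Nat.beq c 24) [⟨27, -1, 1⟩] []))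 (cond (Nat.blt c 31) (cond (Nat.beq c 26) [⟨29, 1, 1⟩] []) (cond (Nat.blt c 35) (cond (Nat.beq c 31) [⟨33, -1, 1⟩] []) (cond (Nat.beq c 35) [⟨37, -1, 1⟩] [])))) (cond (Nat.blt c 47) (cond (Nat.blt c 42) (cond (Nat.beq c 40) [⟨43, -1, 1⟩] []) (cond (Nat.beq c 42) [⟨45, 1, 1⟩] [])) (cond (Nat.blt c 51) (cond (Nat.beq c 47) [⟨49, -1, 1⟩] []) (cond (Nat.blt c 56) (cond (Nat.beq c 51) [⟨53, -1, 1⟩] []) (cond (Nat.beq c 56) [⟨58, -1, 1⟩] [])))))) (cond (Nat.blt c 94) (cond (Nat.blt c 70) (cond (Nat.blt c 65) (cond (Nat.blt c 64) (cond (Nat.beq c 61) [⟨63, -1, 1⟩] []) (cond (Nat.beq c 64) [⟨69, 1, 1⟩] [])) (cond (Nat.blt c 66) (cond (Nat.beq c 65) [⟨74, -1, 2⟩, ⟨0, 0, 1⟩, ⟨1, 0, 1⟩, ⟨2, 0, 1⟩, ⟨3, 0, 1⟩, ⟨4, 1, 1⟩, ⟨5, 1, 1⟩, ⟨6, 0, 1⟩] []) (cond (Nat.blt c 68) (cond (Nat.beq c 66)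 [⟨71, 1, 1⟩] []) (cond (Nat.beq c 68) [⟨73, -1, 1⟩] [])))) (cond (Nat.blt c 81) (cond (Nat.blt c 76) (cond (Nat.beq c 70) [⟨75, -1, 1⟩] []) (cond (Nat.beq c 76) [⟨78, 1, 1⟩] [])) (cond (Nat.blt c 86) (cond (Nat.beq c 81) [⟨83, 1, 1⟩] []) (cond (Nat.blt c 90) (cond (Nat.beq c 86) [⟨88, 1, 1⟩] []) (cond (Nat.beq c 90) [⟨92, 1, 1⟩] []))))) (cond (Nat.blt c 112) (cond (Nat.blt c 102) (cond (Nat.blt c 96) (cond (Nat.beq c 94) [⟨97, -1, 1⟩] []) (cond (Nat.beq c 96) [⟨99, 1, 1⟩] [])) (cond (Nat.blt c 106) (cond (Nat.beq c 102) [⟨104, 1, 1⟩] []) (cond (Nat.blt c 110) (cond (Nat.beq c 106) [⟨108, 1, 1⟩] []) (cond (Nat.beq c 110) [⟨113, -1, 1⟩] [])))) (cond (Nat.blt c 118) (cond (Nat.blt c 116) (cond (Nat.beq c 112) [⟨115, 1, 1⟩] []) (cond (Nat.beq c 116) [⟨119, -1, 1⟩] [])) (cond (Nat.blt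 c 123) (cond (Nat.beq c 118) [⟨121, 1, 1⟩] []) (cond (Nat.blt c 127) (cond (Nat.beq c 123) [⟨125, -1, 1⟩] []) (cond (Nat.beq c 127) [⟨129, -1, 1⟩] []))))))

/-- Compiled columns of `x_68` for type E7. -/
def colsE7_68 (c : ℕ) : List CEnt :=
  cond (Nat.blt c 60) (cond (Nat.blt c 19) (cond (Nat.blt c 5) (cond (Nat.blt c 2) (cond (Nat.blt c 1) (cond (Nat.beq c 0) [⟨75, 0, 1⟩] []) (cond (Nat.beq c 1) [⟨75, 0, 1⟩] [])) (cond (Nat.blt c 3) (cond (Nat.beq c 2) [⟨75, 0, 1⟩] []) (cond (Nat.blt c 4) (cond (Nat.beq c 3) [⟨75, 1, 1⟩] []) (cond (Nat.beq c 4) [⟨75, -1, 1⟩] [])))) (cond (Nat.blt c 10) (cond (Nat.blt c 6) (cond (Nat.beq c 5) [⟨75, 0, 1⟩] []) (cond (Nat.beq c 6) [⟨75, -1, 1⟩] [])) (cond (Nat.blt c 14) (cond (Nat.beq c 10) [⟨13, -1, 1⟩] []) (cond (Nat.blt c 18) (cond (Nat.beq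 c 14) [⟨17, -1, 1⟩] []) (cond (Nat.beq c 18) [⟨22, 1, 1⟩] []))))) (cond (Nat.blt c 40) (cond (Nat.blt c 25) (cond (Nat.blt c 24) (cond (Nat.beq c 19) [⟨23, 1, 1⟩] []) (cond (Nat.beq c 24) [⟨28, 1, 1⟩] [])) (cond (Nat.blt c 30) (cond (Nat.beq c 25) [⟨29, 1, 1⟩] []) (cond (Nat.blt c 34) (cond (Nat.beq c 30) [⟨33, -1, 1⟩] []) (cond (Nat.beq c 34) [⟨37, -1, 1⟩] [])))) (cond (Nat.blt c 46) (cond (Nat.blt c 41) (cond (Nat.beq c 40) [⟨44, 1, 1⟩] []) (cond (Nat.beq c 41) [⟨45, 1, 1⟩] [])) (cond (Nat.blt c 50) (cond (Nat.beq c 46) [⟨49, -1, 1⟩] []) (cond (Nat.blt c 55) (cond (Nat.beq c 50) [⟨53, -1, 1⟩] []) (cond (Nat.beq c 55) [⟨58, -1, 1⟩] [])))))) (cond (Nat.blt c 94) (cond (Nat.blt c 69) (cond (Nat.blt c 65) (cond (Nat.blt c 64) (cond (Nat.beq c 60) [⟨63, -1, 1⟩] []) (cond (Nat.beq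 c 64) [⟨75, -1, 2⟩, ⟨0, 0, 1⟩, ⟨1, 0, 1⟩, ⟨2, 0, 1⟩, ⟨3, 0, 1⟩, ⟨4, 1, 1⟩, ⟨5, 1, 1⟩, ⟨6, 1, 1⟩] [])) (cond (Nat.blt c 66) (cond (Nat.beq c 65) [⟨70, 1, 1⟩] []) (cond (Nat.blt c 67) (cond (Nat.beq c 66) [⟨72, 1, 1⟩] []) (cond (Nat.beq c 67) [⟨73, -1, 1⟩] [])))) (cond (Nat.blt c 81) (cond (Nat.blt c 76) (cond (Nat.beq c 69) [⟨74, -1, 1⟩] []) (cond (Nat.beq c 76) [⟨79, 1, 1⟩] [])) (cond (Nat.blt c 86) (cond (Nat.beq c 81) [⟨84, 1, 1⟩] []) (cond (Nat.blt c 90) (cond (Nat.beq c 86) [⟨89, 1, 1⟩] []) (cond (Nat.beq c 90) [⟨93, 1, 1⟩] []))))) (cond (Nat.blt c 111) (cond (Nat.blt c 102) (cond (Nat.blt c 95) (cond (Nat.beq c 94) [⟨98, -1, 1⟩] []) (cond (Nat.beq c 95) [⟨99, -1, 1⟩] [])) (cond (Nat.blt c 106) (cond (Nat.beq c 102) [⟨105, 1, 1⟩] []) (cond (Nat.blt c 110) (cond (Nat.beq c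 106) [⟨109, 1, 1⟩] []) (cond (Nat.beq c 110) [⟨114, -1, 1⟩] [])))) (cond (Nat.blt c 117) (cond (Nat.blt c 116) (cond (Nat.beq c 111) [⟨115, -1, 1⟩] []) (cond (Nat.beq c 116) [⟨120, -1, 1⟩] [])) (cond (Nat.blt c 122) (cond (Nat.beq c 117) [⟨121, -1, 1⟩] []) (cond (Nat.blt c 126) (cond (Nat.beq c 122) [⟨125, 1, 1⟩] []) (cond (Nat.beq c 126) [⟨129, 1, 1⟩] []))))))

/-- Compiled columns of `x_69` for type E7. -/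
def colsE7_69 (c : ℕ) : List CEnt :=
  cond (Nat.blt c 60) (cond (Nat.blt c 17) (cond (Nat.blt c 5) (cond (Nat.blt c 2) (cond (Nat.blt c 1) (cond (Nat.beq c 0) [⟨76, 0, 1⟩] []) (cond (Nat.beq c 1) [⟨76, 1, 1⟩] [])) (cond (Nat.blt c 3) (cond (Nat.beq c 2) [⟨76, 1, 1⟩] []) (cond (Nat.blt c 4) (cond (Nat.beq c 3) [⟨76, -2, 1⟩] []) (cond (Nat.beq c 4) [⟨76, 1, 1⟩] [])))) (cond (Nat.blt c 9) (cond (Nat.blt c 6) (cond (Nat.beq c 5) [⟨76, 0, 1⟩] []) (cond (Nat.beq c 6) [⟨76, 0, 1⟩] [])) (cond (Nat.blt c 15) (cond (Nat.beq c 9) [⟨10, -1, 1⟩] []) (cond (Nat.blt c 16) (cond (Nat.beq c 15) [⟨18, -1, 1⟩] []) (cond (Nat.beq c 16) [⟨19, -1, 1⟩] []))))) (cond (Nat.blt c 43) (cond (Nat.blt c 28) (cond (Nat.blt c 27) (cond (Nat.beq c 17) [⟨20, -1, 1⟩] []) (cond (Nat.beq c 27) [⟨30, -1, 1⟩] []))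 (cond (Nat.blt c 29) (cond (Nat.beq c 28) [⟨31, -1, 1⟩] []) (cond (Nat.blt c 37) (cond (Nat.beq c 29) [⟨32, -1, 1⟩] []) (cond (Nat.beq c 37) [⟨38, -1, 1⟩] [])))) (cond (Nat.blt c 45) (cond (Nat.blt c 44) (cond (Nat.beq c 43) [⟨46, -1, 1⟩] []) (cond (Nat.beq c 44) [⟨47, -1, 1⟩] [])) (cond (Nat.blt c 53) (cond (Nat.beq c 45) [⟨48, -1, 1⟩] []) (cond (Nat.blt c 58) (cond (Nat.beq c 53) [⟨54, -1, 1⟩] []) (cond (Nat.beq c 58) [⟨59, -1, 1⟩] [])))))) (cond (Nat.blt c 92) (cond (Nat.blt c 74) (cond (Nat.blt c 62) (cond (Nat.blt c 61) (cond (Nat.beq c 60) [⟨64, 1, 1⟩] []) (cond (Nat.beq c 61) [⟨65, 1, 1⟩] [])) (cond (Nat.blt c 63) (cond (Nat.beq c 62) [⟨66, 1, 1⟩] []) (cond (Nat.blt c 73) (cond (Nat.beq c 63) [⟨76, -1, 2⟩, ⟨0, 0, 1⟩, ⟨1, 0, 1⟩, ⟨2, 0, 1⟩, ⟨3, 1, 1⟩, ⟨4, 0, 1⟩, ⟨5, 0, 1⟩,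 ⟨6, 0, 1⟩] []) (cond (Nat.beq c 73) [⟨77, -1, 1⟩] [])))) (cond (Nat.blt c 80) (cond (Nat.blt c 75) (cond (Nat.beq c 74) [⟨78, -1, 1⟩] []) (cond (Nat.beq c 75) [⟨79, -1, 1⟩] [])) (cond (Nat.blt c 85) (cond (Nat.beq c 80) [⟨81, 1, 1⟩] []) (cond (Nat.blt c 91) (cond (Nat.beq c 85) [⟨86, 1, 1⟩] []) (cond (Nat.beq c 91) [⟨94, 1, 1⟩] []))))) (cond (Nat.blt c 109) (cond (Nat.blt c 101) (cond (Nat.blt c 93) (cond (Nat.beq c 92) [⟨95, 1, 1⟩] []) (cond (Nat.beq c 93) [⟨96, 1, 1⟩] [])) (cond (Nat.blt c 107) (cond (Nat.beq c 101) [⟨102, 1, 1⟩] []) (cond (Nat.blt c 108) (cond (Nat.beq c 107) [⟨110, 1, 1⟩] []) (cond (Nat.beq c 108) [⟨111, 1, 1⟩] [])))) (cond (Nat.blt c 120) (cond (Nat.blt c 119) (cond (Nat.beq c 109) [⟨112, 1, 1⟩] []) (cond (Nat.beq c 119) [⟨122, 1, 1⟩] [])) (cond (Nat.blt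 c 121) (cond (Nat.beq c 120) [⟨123, 1, 1⟩] []) (cond (Nat.blt c 129) (cond (Nat.beq c 121) [⟨124, 1, 1⟩] []) (cond (Nat.beq c 129) [⟨130, 1, 1⟩] []))))))

/-- Compiled columns of `x_70` for type E7. -/
def colsE7_70 (c : ℕ) : List CEnt :=
  cond (Nat.blt c 60) (cond (Nat.blt c 17) (cond (Nat.blt c 5) (cond (Nat.blt c 2) (cond (Nat.blt c 1) (cond (Nat.beq c 0) [⟨77, 0, 1⟩] []) (cond (Nat.beq c 1) [⟨77, 1, 1⟩] [])) (cond (Nat.blt c 3) (cond (Nat.beq c 2) [⟨77, 1, 1⟩] []) (cond (Nat.blt c 4) (cond (Nat.beq c 3) [⟨77, -1, 1⟩] []) (cond (Nat.beq c 4) [⟨77, -1, 1⟩] [])))) (cond (Nat.blt c 9) (cond (Nat.blt c 6) (cond (Nat.beq c 5) [⟨77, 1, 1⟩] []) (cond (Nat.beq c 6) [⟨77, 0, 1⟩] [])) (cond (Nat.blt c 14) (cond (Nat.beq c 9) [⟨11, 1, 1⟩] []) (cond (Nat.blt c 16) (cond (Nat.beq c 14)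 [⟨18, -1, 1⟩] []) (cond (Nat.beq c 16) [⟨21, 1, 1⟩] []))))) (cond (Nat.blt c 41) (cond (Nat.blt c 26) (cond (Nat.blt c 25) (cond (Nat.beq c 17) [⟨22, 1, 1⟩] []) (cond (Nat.beq c 25) [⟨30, -1, 1⟩] [])) (cond (Nat.blt c 29) (cond (Nat.beq c 26) [⟨31, -1, 1⟩] []) (cond (Nat.blt c 36) (cond (Nat.beq c 29) [⟨33, 1, 1⟩] []) (cond (Nat.beq c 36) [⟨38, -1, 1⟩] [])))) (cond (Nat.blt c 45) (cond (Nat.blt c 42) (cond (Nat.beq c 41) [⟨46, -1, 1⟩] []) (cond (Nat.beq c 42) [⟨47, -1, 1⟩] [])) (cond (Nat.blt c 52) (cond (Nat.beq c 45) [⟨49, 1, 1⟩] []) (cond (Nat.blt c 57) (cond (Nat.beq c 52) [⟨54, -1, 1⟩] []) (cond (Nat.beq c 57) [⟨59, -1, 1⟩] [])))))) (cond (Nat.blt c 92) (cond (Nat.blt c 71) (cond (Nat.blt c 62) (cond (Nat.blt c 61) (cond (Nat.beq c 60) [⟨67, 1, 1⟩] []) (cond (Nat.beq c 61)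 [⟨68, 1, 1⟩] [])) (cond (Nat.blt c 63) (cond (Nat.beq c 62) [⟨77, -1, 2⟩, ⟨0, 0, 1⟩, ⟨1, 0, 1⟩, ⟨2, 0, 1⟩, ⟨3, 1, 1⟩, ⟨4, 1, 1⟩, ⟨5, 0, 1⟩, ⟨6, 0, 1⟩] []) (cond (Nat.blt c 66) (cond (Nat.beq c 63) [⟨73, 1, 1⟩] []) (cond (Nat.beq c 66) [⟨76, -1, 1⟩] [])))) (cond (Nat.blt c 80) (cond (Nat.blt c 72) (cond (Nat.beq c 71) [⟨78, -1, 1⟩] []) (cond (Nat.beq c 72) [⟨79, -1, 1⟩] [])) (cond (Nat.blt c 85) (cond (Nat.beq c 80) [⟨82, 1, 1⟩] []) (cond (Nat.blt c 90) (cond (Nat.beq c 85) [⟨87, 1, 1⟩] []) (cond (Nat.beq c 90) [⟨94, -1, 1⟩] []))))) (cond (Nat.blt c 109) (cond (Nat.blt c 101) (cond (Nat.blt c 93) (cond (Nat.beq c 92) [⟨97, 1, 1⟩] []) (cond (Nat.beq c 93) [⟨98, 1, 1⟩] [])) (cond (Nat.blt c 106) (cond (Nat.beq c 101) [⟨103, 1, 1⟩] []) (cond (Nat.blt c 108) (cond (Nat.beq c 106)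 [⟨110, -1, 1⟩] []) (cond (Nat.beq c 108) [⟨113, 1, 1⟩] [])))) (cond (Nat.blt c 118) (cond (Nat.blt c 117) (cond (Nat.beq c 109) [⟨114, 1, 1⟩] []) (cond (Nat.beq c 117) [⟨122, -1, 1⟩] [])) (cond (Nat.blt c 121) (cond (Nat.beq c 118) [⟨123, -1, 1⟩] []) (cond (Nat.blt c 128) (cond (Nat.beq c 121) [⟨125, 1, 1⟩] []) (cond (Nat.beq c 128) [⟨130, -1, 1⟩] []))))))

/-- Compiled columns of `x_71` for type E7. -/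
def colsE7_71 (c : ℕ) : List CEnt :=
  cond (Nat.blt c 60) (cond (Nat.blt c 17) (cond (Nat.blt c 5) (cond (Nat.blt c 2) (cond (Nat.blt c 1) (cond (Nat.beq c 0) [⟨78, 0, 1⟩] []) (cond (Nat.beq c 1) [⟨78, 1, 1⟩] [])) (cond (Nat.blt c 3) (cond (Nat.beq c 2) [⟨78, 1, 1⟩] []) (cond (Nat.blt c 4) (cond (Nat.beq c 3) [⟨78, -1, 1⟩] []) (cond (Nat.beq c 4) [⟨78, 0, 1⟩] [])))) (cond (Nat.blt c 9) (cond (Nat.blt c 6) (cond (Nat.beq c 5) [⟨78, -1, 1⟩] []) (cond (Nat.beq c 6) [⟨78, 1, 1⟩] [])) (cond (Nat.blt c 14) (cond (Nat.beq c 9) [⟨12, -1, 1⟩] []) (cond (Nat.blt c 15) (cond (Nat.beq c 14) [⟨19, 1, 1⟩] []) (cond (Nat.beq c 15) [⟨21, 1, 1⟩] []))))) (cond (Nat.blt c 40) (cond (Nat.blt c 26) (cond (Nat.blt c 24) (cond (Nat.beq c 17) [⟨23, -1, 1⟩] []) (cond (Nat.beq c 24) [⟨30, -1, 1⟩] []))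 (cond (Nat.blt c 28) (cond (Nat.beq c 26) [⟨32, 1, 1⟩] []) (cond (Nat.blt c 35) (cond (Nat.beq c 28) [⟨33, 1, 1⟩] []) (cond (Nat.beq c 35) [⟨38, -1, 1⟩] [])))) (cond (Nat.blt c 44) (cond (Nat.blt c 42) (cond (Nat.beq c 40) [⟨46, -1, 1⟩] []) (cond (Nat.beq c 42) [⟨48, 1, 1⟩] [])) (cond (Nat.blt c 51) (cond (Nat.beq c 44) [⟨49, 1, 1⟩] []) (cond (Nat.blt c 56) (cond (Nat.beq c 51) [⟨54, -1, 1⟩] []) (cond (Nat.beq c 56) [⟨59, -1, 1⟩] [])))))) (cond (Nat.blt c 91) (cond (Nat.blt c 68) (cond (Nat.blt c 62) (cond (Nat.blt c 61) (cond (Nat.beq c 60) [⟨69, 1, 1⟩] []) (cond (Nat.beq c 61) [⟨78, -1, 2⟩, ⟨0, 0, 1⟩, ⟨1, 0, 1⟩, ⟨2, 0, 1⟩, ⟨3, 1, 1⟩, ⟨4, 1, 1⟩, ⟨5, 1, 1⟩, ⟨6, 0, 1⟩] [])) (cond (Nat.blt c 63) (cond (Nat.beq c 62) [⟨71, 1, 1⟩] []) (cond (Nat.blt c 65) (cond (Nat.beq c 63) [⟨74,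 1, 1⟩] []) (cond (Nat.beq c 65) [⟨76, -1, 1⟩] [])))) (cond (Nat.blt c 80) (cond (Nat.blt c 70) (cond (Nat.beq c 68) [⟨77, -1, 1⟩] []) (cond (Nat.beq c 70) [⟨79, -1, 1⟩] [])) (cond (Nat.blt c 85) (cond (Nat.beq c 80) [⟨83, 1, 1⟩] []) (cond (Nat.blt c 90) (cond (Nat.beq c 85) [⟨88, 1, 1⟩] []) (cond (Nat.beq c 90) [⟨95, -1, 1⟩] []))))) (cond (Nat.blt c 109) (cond (Nat.blt c 101) (cond (Nat.blt c 93) (cond (Nat.beq c 91) [⟨97, -1, 1⟩] []) (cond (Nat.beq c 93) [⟨99, 1, 1⟩] [])) (cond (Nat.blt c 106) (cond (Nat.beq c 101) [⟨104, 1, 1⟩] []) (cond (Nat.blt c 107) (cond (Nat.beq c 106) [⟨111, -1, 1⟩] []) (cond (Nat.beq c 107) [⟨113, -1, 1⟩] [])))) (cond (Nat.blt c 118) (cond (Nat.blt c 116) (cond (Nat.beq c 109) [⟨115, 1, 1⟩] []) (cond (Nat.beq c 116) [⟨122, 1, 1⟩] [])) (cond (Nat.blt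 c 120) (cond (Nat.beq c 118) [⟨124, -1, 1⟩] []) (cond (Nat.blt c 127) (cond (Nat.beq c 120) [⟨125, -1, 1⟩] []) (cond (Nat.beq c 127) [⟨130, 1, 1⟩] []))))))

/-- Compiled columns of `x_72` for type E7. -/
def colsE7_72 (c : ℕ) : List CEnt :=
  cond (Nat.blt c 60) (cond (Nat.blt c 16) (cond (Nat.blt c 5) (cond (Nat.blt c 2) (cond (Nat.blt c 1) (cond (Nat.beq c 0) [⟨79, 0, 1⟩] []) (cond (Nat.beq c 1) [⟨79, 1, 1⟩] [])) (cond (Nat.blt c 3) (cond (Nat.beq c 2) [⟨79, 1, 1⟩] []) (cond (Nat.blt c 4) (cond (Nat.beq c 3) [⟨79, -1, 1⟩] []) (cond (Nat.beq c 4) [⟨79, 0, 1⟩] [])))) (cond (Nat.blt c 9) (cond (Nat.blt c 6) (cond (Nat.beq c 5) [⟨79, 0, 1⟩] []) (cond (Nat.beq c 6) [⟨79, -1, 1⟩] [])) (cond (Nat.blt c 14) (cond (Nat.beq c 9) [⟨13, 1, 1⟩] []) (cond (Nat.blt c 15) (cond (Nat.beq c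 14) [⟨20, -1, 1⟩] []) (cond (Nat.beq c 15) [⟨22, -1, 1⟩] []))))) (cond (Nat.blt c 40) (cond (Nat.blt c 25) (cond (Nat.blt c 24) (cond (Nat.beq c 16) [⟨23, -1, 1⟩] []) (cond (Nat.beq c 24) [⟨31, 1, 1⟩] [])) (cond (Nat.blt c 27) (cond (Nat.beq c 25) [⟨32, 1, 1⟩] []) (cond (Nat.blt c 34) (cond (Nat.beq c 27) [⟨33, 1, 1⟩] []) (cond (Nat.beq c 34) [⟨38, -1, 1⟩] [])))) (cond (Nat.blt c 43) (cond (Nat.blt c 41) (cond (Nat.beq c 40) [⟨47, 1, 1⟩] []) (cond (Nat.beq c 41) [⟨48, 1, 1⟩] [])) (cond (Nat.blt c 50) (cond (Nat.beq c 43) [⟨49, 1, 1⟩] []) (cond (Nat.blt c 55) (cond (Nat.beq c 50) [⟨54, -1, 1⟩] []) (cond (Nat.beq c 55) [⟨59, -1, 1⟩] [])))))) (cond (Nat.blt c 91) (cond (Nat.blt c 67) (cond (Nat.blt c 62) (cond (Nat.blt c 61) (cond (Nat.beq c 60) [⟨79, -1, 2⟩, ⟨0, 0, 1⟩, ⟨1, 0, 1⟩,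 ⟨2, 0, 1⟩, ⟨3, 1, 1⟩, ⟨4, 1, 1⟩, ⟨5, 1, 1⟩, ⟨6, 1, 1⟩] []) (cond (Nat.beq c 61) [⟨70, 1, 1⟩] [])) (cond (Nat.blt c 63) (cond (Nat.beq c 62) [⟨72, 1, 1⟩] []) (cond (Nat.blt c 64) (cond (Nat.beq c 63) [⟨75, 1, 1⟩] []) (cond (Nat.beq c 64) [⟨76, -1, 1⟩] [])))) (cond (Nat.blt c 80) (cond (Nat.blt c 69) (cond (Nat.beq c 67) [⟨77, -1, 1⟩] []) (cond (Nat.beq c 69) [⟨78, -1, 1⟩] [])) (cond (Nat.blt c 85) (cond (Nat.beq c 80) [⟨84, 1, 1⟩] []) (cond (Nat.blt c 90) (cond (Nat.beq c 85) [⟨89, 1, 1⟩] []) (cond (Nat.beq c 90) [⟨96, -1, 1⟩] []))))) (cond (Nat.blt c 108) (cond (Nat.blt c 101) (cond (Nat.blt c 92) (cond (Nat.beq c 91) [⟨98, -1, 1⟩] []) (cond (Nat.beq c 92) [⟨99, -1, 1⟩] [])) (cond (Nat.blt c 106) (cond (Nat.beq c 101) [⟨105, 1, 1⟩] []) (cond (Nat.blt c 107) (cond (Nat.beq c 106)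 [⟨112, -1, 1⟩] []) (cond (Nat.beq c 107) [⟨114, -1, 1⟩] [])))) (cond (Nat.blt c 117) (cond (Nat.blt c 116) (cond (Nat.beq c 108) [⟨115, -1, 1⟩] []) (cond (Nat.beq c 116) [⟨123, 1, 1⟩] [])) (cond (Nat.blt c 119) (cond (Nat.beq c 117) [⟨124, 1, 1⟩] []) (cond (Nat.blt c 126) (cond (Nat.beq c 119) [⟨125, 1, 1⟩] []) (cond (Nat.beq c 126) [⟨130, -1, 1⟩] []))))))

/-- Compiled columns of `x_73` for type E7. -/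
def colsE7_73 (c : ℕ) : List CEnt :=
  cond (Nat.blt c 56) (cond (Nat.blt c 20) (cond (Nat.blt c 5) (cond (Nat.blt c 2) (cond (Nat.blt c 1) (cond (Nat.beq c 0) [⟨80, 1, 1⟩] []) (cond (Nat.beq c 1) [⟨80, 0, 1⟩] [])) (cond (Nat.blt c 3) (cond (Nat.beq c 2) [⟨80, -2, 1⟩] []) (cond (Nat.blt c 4) (cond (Nat.beq c 3) [⟨80, 1, 1⟩] []) (cond (Nat.beq c 4) [⟨80, 0, 1⟩] [])))) (cond (Nat.blt c 8) (cond (Nat.blt c 6) (cond (Nat.beq c 5) [⟨80, 0, 1⟩] []) (cond (Nat.beq c 6) [⟨80, 0, 1⟩] [])) (cond (Nat.blt c 18) (cond (Nat.beq c 8) [⟨9, -1, 1⟩] []) (cond (Nat.blt c 19) (cond (Nat.beq c 18) [⟨24, -1, 1⟩] []) (cond (Nat.beq c 19) [⟨25, -1, 1⟩] []))))) (cond (Nat.blt c 46) (cond (Nat.blt c 22) (cond (Nat.blt c 21) (cond (Nat.beq c 20) [⟨26, -1, 1⟩] []) (cond (Nat.beq c 21) [⟨27, -1, 1⟩] []))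 (cond (Nat.blt c 23) (cond (Nat.beq c 22) [⟨28, -1, 1⟩] []) (cond (Nat.blt c 38) (cond (Nat.beq c 23) [⟨29, -1, 1⟩] []) (cond (Nat.beq c 38) [⟨39, -1, 1⟩] [])))) (cond (Nat.blt c 48) (cond (Nat.blt c 47) (cond (Nat.beq c 46) [⟨50, -1, 1⟩] []) (cond (Nat.beq c 47) [⟨51, -1, 1⟩] [])) (cond (Nat.blt c 49) (cond (Nat.beq c 48) [⟨52, -1, 1⟩] []) (cond (Nat.blt c 55) (cond (Nat.beq c 49) [⟨53, -1, 1⟩] []) (cond (Nat.beq c 55) [⟨60, 1, 1⟩] [])))))) (cond (Nat.blt c 88) (cond (Nat.blt c 77) (cond (Nat.blt c 58) (cond (Nat.blt c 57) (cond (Nat.beq c 56) [⟨61, 1, 1⟩] []) (cond (Nat.beq c 57) [⟨62, 1, 1⟩] [])) (cond (Nat.blt c 59) (cond (Nat.beq c 58) [⟨63, 1, 1⟩] []) (cond (Nat.blt c 76) (cond (Nat.beq c 59) [⟨80, -1, 2⟩, ⟨0, 0, 1⟩, ⟨1, 0, 1⟩, ⟨2, 1, 1⟩, ⟨3, 0, 1⟩, ⟨4, 0, 1⟩, ⟨5, 0, 1⟩,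 ⟨6, 0, 1⟩] []) (cond (Nat.beq c 76) [⟨81, -1, 1⟩] [])))) (cond (Nat.blt c 79) (cond (Nat.blt c 78) (cond (Nat.beq c 77) [⟨82, -1, 1⟩] []) (cond (Nat.beq c 78) [⟨83, -1, 1⟩] [])) (cond (Nat.blt c 86) (cond (Nat.beq c 79) [⟨84, -1, 1⟩] []) (cond (Nat.blt c 87) (cond (Nat.beq c 86) [⟨90, 1, 1⟩] []) (cond (Nat.beq c 87) [⟨91, 1, 1⟩] []))))) (cond (Nat.blt c 112) (cond (Nat.blt c 100) (cond (Nat.blt c 89) (cond (Nat.beq c 88) [⟨92, 1, 1⟩] []) (cond (Nat.beq c 89) [⟨93, 1, 1⟩] [])) (cond (Nat.blt c 110) (cond (Nat.beq c 100) [⟨101, 1, 1⟩] []) (cond (Nat.blt c 111) (cond (Nat.beq c 110) [⟨116, 1, 1⟩] []) (cond (Nat.beq c 111) [⟨117, 1, 1⟩] [])))) (cond (Nat.blt c 114) (cond (Nat.blt c 113) (cond (Nat.beq c 112) [⟨118, 1, 1⟩] []) (cond (Nat.beq c 113) [⟨119, 1, 1⟩] [])) (cond (Nat.blt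 c 115) (cond (Nat.beq c 114) [⟨120, 1, 1⟩] []) (cond (Nat.blt c 130) (cond (Nat.beq c 115) [⟨121, 1, 1⟩] []) (cond (Nat.beq c 130) [⟨131, 1, 1⟩] []))))))

/-- Compiled columns of `x_74` for type E7. -/
def colsE7_74 (c : ℕ) : List CEnt :=
  cond (Nat.blt c 56) (cond (Nat.blt c 17) (cond (Nat.blt c 5) (cond (Nat.blt c 2) (cond (Nat.blt c 1) (cond (Nat.beq c 0) [⟨81, 1, 1⟩] []) (cond (Nat.beq c 1) [⟨81, 1, 1⟩] [])) (cond (Nat.blt c 3) (cond (Nat.beq c 2) [⟨81, -1, 1⟩] []) (cond (Nat.blt c 4) (cond (Nat.beq c 3) [⟨81, -1, 1⟩] []) (cond (Nat.beq c 4) [⟨81, 1, 1⟩] [])))) (cond (Nat.blt c 8) (cond (Nat.blt c 6) (cond (Nat.beq c 5) [⟨81, 0, 1⟩] []) (cond (Nat.beq c 6) [⟨81, 0, 1⟩] [])) (cond (Nat.blt c 15) (cond (Nat.beq c 8) [⟨10, 1, 1⟩] []) (cond (Nat.blt c 16) (cond (Nat.beq c 15)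 [⟨24, -1, 1⟩] []) (cond (Nat.beq c 16) [⟨25, -1, 1⟩] []))))) (cond (Nat.blt c 43) (cond (Nat.blt c 22) (cond (Nat.blt c 21) (cond (Nat.beq c 17) [⟨26, -1, 1⟩] []) (cond (Nat.beq c 21) [⟨30, 1, 1⟩] [])) (cond (Nat.blt c 23) (cond (Nat.beq c 22) [⟨31, 1, 1⟩] []) (cond (Nat.blt c 37) (cond (Nat.beq c 23) [⟨32, 1, 1⟩] []) (cond (Nat.beq c 37) [⟨39, -1, 1⟩] [])))) (cond (Nat.blt c 45) (cond (Nat.blt c 44) (cond (Nat.beq c 43) [⟨50, -1, 1⟩] []) (cond (Nat.beq c 44) [⟨51, -1, 1⟩] [])) (cond (Nat.blt c 49) (cond (Nat.beq c 45) [⟨52, -1, 1⟩] []) (cond (Nat.blt c 55) (cond (Nat.beq c 49) [⟨54, 1, 1⟩] []) (cond (Nat.beq c 55) [⟨64, 1, 1⟩] [])))))) (cond (Nat.blt c 88) (cond (Nat.blt c 73) (cond (Nat.blt c 58) (cond (Nat.blt c 57) (cond (Nat.beq c 56) [⟨65, 1, 1⟩] []) (cond (Nat.beq c 57)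 [⟨66, 1, 1⟩] [])) (cond (Nat.blt c 59) (cond (Nat.beq c 58) [⟨81, -1, 2⟩, ⟨0, 0, 1⟩, ⟨1, 0, 1⟩, ⟨2, 1, 1⟩, ⟨3, 1, 1⟩, ⟨4, 0, 1⟩, ⟨5, 0, 1⟩, ⟨6, 0, 1⟩] []) (cond (Nat.blt c 63) (cond (Nat.beq c 59) [⟨76, 1, 1⟩] []) (cond (Nat.beq c 63) [⟨80, -1, 1⟩] [])))) (cond (Nat.blt c 75) (cond (Nat.blt c 74) (cond (Nat.beq c 73) [⟨82, -1, 1⟩] []) (cond (Nat.beq c 74) [⟨83, -1, 1⟩] [])) (cond (Nat.blt c 85) (cond (Nat.beq c 75) [⟨84, -1, 1⟩] []) (cond (Nat.blt c 87) (cond (Nat.beq c 85) [⟨90, -1, 1⟩] []) (cond (Nat.beq c 87) [⟨94, 1, 1⟩] []))))) (cond (Nat.blt c 109) (cond (Nat.blt c 100) (cond (Nat.blt c 89) (cond (Nat.beq c 88) [⟨95, 1, 1⟩] []) (cond (Nat.beq c 89) [⟨96, 1, 1⟩] [])) (cond (Nat.blt c 107) (cond (Nat.beq c 100) [⟨102, 1, 1⟩] []) (cond (Nat.blt c 108) (cond (Nat.beq c 107)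 [⟨116, -1, 1⟩] []) (cond (Nat.beq c 108) [⟨117, -1, 1⟩] [])))) (cond (Nat.blt c 114) (cond (Nat.blt c 113) (cond (Nat.beq c 109) [⟨118, -1, 1⟩] []) (cond (Nat.beq c 113) [⟨122, 1, 1⟩] [])) (cond (Nat.blt c 115) (cond (Nat.beq c 114) [⟨123, 1, 1⟩] []) (cond (Nat.blt c 129) (cond (Nat.beq c 115) [⟨124, 1, 1⟩] []) (cond (Nat.beq c 129) [⟨131, -1, 1⟩] []))))))

/-- Compiled columns of `x_75` for type E7. -/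
def colsE7_75 (c : ℕ) : List CEnt :=
  cond (Nat.blt c 56) (cond (Nat.blt c 17) (cond (Nat.blt c 5) (cond (Nat.blt c 2) (cond (Nat.blt c 1) (cond (Nat.beq c 0) [⟨82, 1, 1⟩] []) (cond (Nat.beq c 1) [⟨82, 1, 1⟩] [])) (cond (Nat.blt c 3) (cond (Nat.beq c 2) [⟨82, -1, 1⟩] []) (cond (Nat.blt c 4) (cond (Nat.beq c 3) [⟨82, 0, 1⟩] []) (cond (Nat.beq c 4) [⟨82, -1, 1⟩] [])))) (cond (Nat.blt c 8) (cond (Nat.blt c 6) (cond (Nat.beq c 5) [⟨82, 1, 1⟩] []) (cond (Nat.beq c 6) [⟨82, 0, 1⟩] [])) (cond (Nat.blt c 14) (cond (Nat.beq c 8) [⟨11, -1, 1⟩] []) (cond (Nat.blt c 16) (cond (Nat.beq c 14) [⟨24, -1, 1⟩] []) (cond (Nat.beq c 16) [⟨27, 1, 1⟩] []))))) (cond (Nat.blt c 41) (cond (Nat.blt c 20) (cond (Nat.blt c 19) (cond (Nat.beq c 17) [⟨28, 1, 1⟩] []) (cond (Nat.beq c 19) [⟨30, 1, 1⟩] []))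 (cond (Nat.blt c 23) (cond (Nat.beq c 20) [⟨31, 1, 1⟩] []) (cond (Nat.blt c 36) (cond (Nat.beq c 23) [⟨33, -1, 1⟩] []) (cond (Nat.beq c 36) [⟨39, -1, 1⟩] [])))) (cond (Nat.blt c 45) (cond (Nat.blt c 42) (cond (Nat.beq c 41) [⟨50, -1, 1⟩] []) (cond (Nat.beq c 42) [⟨51, -1, 1⟩] [])) (cond (Nat.blt c 48) (cond (Nat.beq c 45) [⟨53, 1, 1⟩] []) (cond (Nat.blt c 55) (cond (Nat.beq c 48) [⟨54, 1, 1⟩] []) (cond (Nat.beq c 55) [⟨67, 1, 1⟩] [])))))) (cond (Nat.blt c 88) (cond (Nat.blt c 66) (cond (Nat.blt c 58) (cond (Nat.blt c 57) (cond (Nat.beq c 56) [⟨68, 1, 1⟩] []) (cond (Nat.beq c 57) [⟨82, -1, 2⟩, ⟨0, 0, 1⟩, ⟨1, 0, 1⟩, ⟨2, 1, 1⟩, ⟨3, 1, 1⟩, ⟨4, 1, 1⟩, ⟨5, 0, 1⟩, ⟨6, 0, 1⟩] [])) (cond (Nat.blt c 59) (cond (Nat.beq c 58) [⟨73, 1, 1⟩] []) (cond (Nat.blt c 62) (cond (Nat.beq c 59) [⟨77,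 1, 1⟩] []) (cond (Nat.beq c 62) [⟨80, -1, 1⟩] [])))) (cond (Nat.blt c 72) (cond (Nat.blt c 71) (cond (Nat.beq c 66) [⟨81, -1, 1⟩] []) (cond (Nat.beq c 71) [⟨83, -1, 1⟩] [])) (cond (Nat.blt c 85) (cond (Nat.beq c 72) [⟨84, -1, 1⟩] []) (cond (Nat.blt c 86) (cond (Nat.beq c 85) [⟨91, -1, 1⟩] []) (cond (Nat.beq c 86) [⟨94, -1, 1⟩] []))))) (cond (Nat.blt c 109) (cond (Nat.blt c 100) (cond (Nat.blt c 89) (cond (Nat.beq c 88) [⟨97, 1, 1⟩] []) (cond (Nat.beq c 89) [⟨98, 1, 1⟩] [])) (cond (Nat.blt c 106) (cond (Nat.beq c 100) [⟨103, 1, 1⟩] []) (cond (Nat.blt c 108) (cond (Nat.beq c 106) [⟨116, 1, 1⟩] []) (cond (Nat.beq c 108) [⟨119, -1, 1⟩] [])))) (cond (Nat.blt c 112) (cond (Nat.blt c 111) (cond (Nat.beq c 109) [⟨120, -1, 1⟩] []) (cond (Nat.beq c 111) [⟨122, -1, 1⟩] [])) (cond (Nat.blt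 c 115) (cond (Nat.beq c 112) [⟨123, -1, 1⟩] []) (cond (Nat.blt c 128) (cond (Nat.beq c 115) [⟨125, 1, 1⟩] []) (cond (Nat.beq c 128) [⟨131, 1, 1⟩] []))))))

/-- Compiled columns of `x_76` for type E7. -/
def colsE7_76 (c : ℕ) : List CEnt :=
  cond (Nat.blt c 56) (cond (Nat.blt c 17) (cond (Nat.blt c 5) (cond (Nat.blt c 2) (cond (Nat.blt c 1) (cond (Nat.beq c 0) [⟨83, 1, 1⟩] []) (cond (Nat.beq c 1) [⟨83, 1, 1⟩] [])) (cond (Nat.blt c 3) (cond (Nat.beq c 2) [⟨83, -1, 1⟩] []) (cond (Nat.blt c 4) (cond (Nat.beq c 3) [⟨83, 0, 1⟩] []) (cond (Nat.beq c 4) [⟨83, 0, 1⟩] [])))) (cond (Nat.blt c 8) (cond (Nat.blt c 6) (cond (Nat.beq c 5) [⟨83, -1, 1⟩] []) (cond (Nat.beq c 6) [⟨83, 1, 1⟩] [])) (cond (Nat.blt c 14) (cond (Nat.beq c 8) [⟨12, 1, 1⟩] []) (cond (Nat.blt c 15) (cond (Nat.beq c 14)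 [⟨25, 1, 1⟩] []) (cond (Nat.beq c 15) [⟨27, 1, 1⟩] []))))) (cond (Nat.blt c 40) (cond (Nat.blt c 20) (cond (Nat.blt c 18) (cond (Nat.beq c 17) [⟨29, -1, 1⟩] []) (cond (Nat.beq c 18) [⟨30, 1, 1⟩] [])) (cond (Nat.blt c 22) (cond (Nat.beq c 20) [⟨32, -1, 1⟩] []) (cond (Nat.blt c 35) (cond (Nat.beq c 22) [⟨33, -1, 1⟩] []) (cond (Nat.beq c 35) [⟨39, -1, 1⟩] [])))) (cond (Nat.blt c 44) (cond (Nat.blt c 42) (cond (Nat.beq c 40) [⟨50, -1, 1⟩] []) (cond (Nat.beq c 42) [⟨52, 1, 1⟩] [])) (cond (Nat.blt c 47) (cond (Nat.beq c 44) [⟨53, 1, 1⟩] []) (cond (Nat.blt c 55) (cond (Nat.beq c 47) [⟨54, 1, 1⟩] []) (cond (Nat.beq c 55) [⟨69, 1, 1⟩] [])))))) (cond (Nat.blt c 87) (cond (Nat.blt c 65) (cond (Nat.blt c 58) (cond (Nat.blt c 57) (cond (Nat.beq c 56) [⟨83, -1, 2⟩, ⟨0, 0, 1⟩, ⟨1, 0, 1⟩, ⟨2,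 1, 1⟩, ⟨3, 1, 1⟩, ⟨4, 1, 1⟩, ⟨5, 1, 1⟩, ⟨6, 0, 1⟩] []) (cond (Nat.beq c 57) [⟨71, 1, 1⟩] [])) (cond (Nat.blt c 59) (cond (Nat.beq c 58) [⟨74, 1, 1⟩] []) (cond (Nat.blt c 61) (cond (Nat.beq c 59) [⟨78, 1, 1⟩] []) (cond (Nat.beq c 61) [⟨80, -1, 1⟩] [])))) (cond (Nat.blt c 70) (cond (Nat.blt c 68) (cond (Nat.beq c 65) [⟨81, -1, 1⟩] []) (cond (Nat.beq c 68) [⟨82, -1, 1⟩] [])) (cond (Nat.blt c 85) (cond (Nat.beq c 70) [⟨84, -1, 1⟩] []) (cond (Nat.blt c 86) (cond (Nat.beq c 85) [⟨92, -1, 1⟩] []) (cond (Nat.beq c 86) [⟨95, -1, 1⟩] []))))) (cond (Nat.blt c 109) (cond (Nat.blt c 100) (cond (Nat.blt c 89) (cond (Nat.beq c 87) [⟨97, -1, 1⟩] []) (cond (Nat.beq c 89) [⟨99, 1, 1⟩] [])) (cond (Nat.blt c 106) (cond (Nat.beq c 100) [⟨104, 1, 1⟩] []) (cond (Nat.blt c 107) (cond (Nat.beq c 106)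 [⟨117, 1, 1⟩] []) (cond (Nat.beq c 107) [⟨119, 1, 1⟩] [])))) (cond (Nat.blt c 112) (cond (Nat.blt c 110) (cond (Nat.beq c 109) [⟨121, -1, 1⟩] []) (cond (Nat.beq c 110) [⟨122, 1, 1⟩] [])) (cond (Nat.blt c 114) (cond (Nat.beq c 112) [⟨124, -1, 1⟩] []) (cond (Nat.blt c 127) (cond (Nat.beq c 114) [⟨125, -1, 1⟩] []) (cond (Nat.beq c 127) [⟨131, -1, 1⟩] []))))))

/-- Compiled columns of `x_77` for type E7. -/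
def colsE7_77 (c : ℕ) : List CEnt :=
  cond (Nat.blt c 56) (cond (Nat.blt c 16) (cond (Nat.blt c 5) (cond (Nat.blt c 2) (cond (Nat.blt c 1) (cond (Nat.beq c 0) [⟨84, 1, 1⟩] []) (cond (Nat.beq c 1) [⟨84, 1, 1⟩] [])) (cond (Nat.blt c 3) (cond (Nat.beq c 2) [⟨84, -1, 1⟩] []) (cond (Nat.blt c 4) (cond (Nat.beq c 3) [⟨84, 0, 1⟩] []) (cond (Nat.beq c 4) [⟨84, 0, 1⟩] [])))) (cond (Nat.blt c 8) (cond (Nat.blt c 6) (cond (Nat.beq c 5) [⟨84, 0, 1⟩] []) (cond (Nat.beq c 6) [⟨84, -1, 1⟩] [])) (cond (Nat.blt c 14) (cond (Nat.beq c 8) [⟨13, -1, 1⟩] []) (cond (Nat.blt c 15) (cond (Nat.beq c 14) [⟨26, -1, 1⟩] []) (cond (Nat.beq c 15) [⟨28, -1, 1⟩] []))))) (cond (Nat.blt c 40) (cond (Nat.blt c 19) (cond (Nat.blt c 18) (cond (Nat.beq c 16) [⟨29, -1, 1⟩] []) (cond (Nat.beq c 18) [⟨31, -1, 1⟩] []))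 (cond (Nat.blt c 21) (cond (Nat.beq c 19) [⟨32, -1, 1⟩] []) (cond (Nat.blt c 34) (cond (Nat.beq c 21) [⟨33, -1, 1⟩] []) (cond (Nat.beq c 34) [⟨39, -1, 1⟩] [])))) (cond (Nat.blt c 43) (cond (Nat.blt c 41) (cond (Nat.beq c 40) [⟨51, 1, 1⟩] []) (cond (Nat.beq c 41) [⟨52, 1, 1⟩] [])) (cond (Nat.blt c 46) (cond (Nat.beq c 43) [⟨53, 1, 1⟩] []) (cond (Nat.blt c 55) (cond (Nat.beq c 46) [⟨54, 1, 1⟩] []) (cond (Nat.beq c 55) [⟨84, -1, 2⟩, ⟨0, 0, 1⟩, ⟨1, 0, 1⟩, ⟨2, 1, 1⟩, ⟨3, 1, 1⟩, ⟨4, 1, 1⟩, ⟨5, 1, 1⟩, ⟨6, 1, 1⟩] [])))))) (cond (Nat.blt c 87) (cond (Nat.blt c 64) (cond (Nat.blt c 58) (cond (Nat.blt c 57) (cond (Nat.beq c 56) [⟨70, 1, 1⟩] []) (cond (Nat.beq c 57) [⟨72, 1, 1⟩] [])) (cond (Nat.blt c 59) (cond (Nat.beq c 58) [⟨75, 1, 1⟩] []) (cond (Nat.blt c 60) (cond (Nat.beq c 59) [⟨79,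 1, 1⟩] []) (cond (Nat.beq c 60) [⟨80, -1, 1⟩] [])))) (cond (Nat.blt c 69) (cond (Nat.blt c 67) (cond (Nat.beq c 64) [⟨81, -1, 1⟩] []) (cond (Nat.beq c 67) [⟨82, -1, 1⟩] [])) (cond (Nat.blt c 85) (cond (Nat.beq c 69) [⟨83, -1, 1⟩] []) (cond (Nat.blt c 86) (cond (Nat.beq c 85) [⟨93, -1, 1⟩] []) (cond (Nat.beq c 86) [⟨96, -1, 1⟩] []))))) (cond (Nat.blt c 108) (cond (Nat.blt c 100) (cond (Nat.blt c 88) (cond (Nat.beq c 87) [⟨98, -1, 1⟩] []) (cond (Nat.beq c 88) [⟨99, -1, 1⟩] [])) (cond (Nat.blt c 106) (cond (Nat.beq c 100) [⟨105, 1, 1⟩] []) (cond (Nat.blt c 107) (cond (Nat.beq c 106) [⟨118, 1, 1⟩] []) (cond (Nat.beq c 107) [⟨120, 1, 1⟩] [])))) (cond (Nat.blt c 111) (cond (Nat.blt c 110) (cond (Nat.beq c 108) [⟨121, 1, 1⟩] []) (cond (Nat.beq c 110) [⟨123, 1, 1⟩] [])) (cond (Nat.blt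 c 113) (cond (Nat.beq c 111) [⟨124, 1, 1⟩] []) (cond (Nat.blt c 126) (cond (Nat.beq c 113) [⟨125, 1, 1⟩] []) (cond (Nat.beq c 126) [⟨131, 1, 1⟩] []))))))

/-- Compiled columns of `x_78` for type E7. -/
def colsE7_78 (c : ℕ) : List CEnt :=
  cond (Nat.blt c 51) (cond (Nat.blt c 13) (cond (Nat.blt c 5) (cond (Nat.blt c 2) (cond (Nat.blt c 1) (cond (Nat.beq c 0) [⟨85, 0, 1⟩] []) (cond (Nat.beq c 1) [⟨85, -2, 1⟩] [])) (cond (Nat.blt c 3) (cond (Nat.beq c 2) [⟨85, 0, 1⟩] []) (cond (Nat.blt c 4) (cond (Nat.beq c 3) [⟨85, 1, 1⟩] []) (cond (Nat.beq c 4) [⟨85, 0, 1⟩] [])))) (cond (Nat.blt c 10) (cond (Nat.blt c 6) (cond (Nat.beq c 5) [⟨85, 0, 1⟩] []) (cond (Nat.beq c 6) [⟨85, 0, 1⟩] [])) (cond (Nat.blt c 11) (cond (Nat.beq c 10) [⟨14, -1, 1⟩] []) (cond (Nat.blt c 12) (cond (Nat.beq c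 11) [⟨15, -1, 1⟩] []) (cond (Nat.beq c 12) [⟨16, -1, 1⟩] []))))) (cond (Nat.blt c 46) (cond (Nat.blt c 31) (cond (Nat.blt c 30) (cond (Nat.beq c 13) [⟨17, -1, 1⟩] []) (cond (Nat.beq c 30) [⟨34, -1, 1⟩] [])) (cond (Nat.blt c 32) (cond (Nat.beq c 31) [⟨35, -1, 1⟩] []) (cond (Nat.blt c 33) (cond (Nat.beq c 32) [⟨36, -1, 1⟩] []) (cond (Nat.beq c 33) [⟨37, -1, 1⟩] [])))) (cond (Nat.blt c 48) (cond (Nat.blt c 47) (cond (Nat.beq c 46) [⟨55, -1, 1⟩] []) (cond (Nat.beq c 47) [⟨56, -1, 1⟩] [])) (cond (Nat.blt c 49) (cond (Nat.beq c 48) [⟨57, -1, 1⟩] []) (cond (Nat.blt c 50) (cond (Nat.beq c 49) [⟨58, -1, 1⟩] []) (cond (Nat.beq c 50) [⟨60, 1, 1⟩] [])))))) (cond (Nat.blt c 83) (cond (Nat.blt c 77) (cond (Nat.blt c 53) (cond (Nat.blt c 52) (cond (Nat.beq c 51) [⟨61, 1, 1⟩] []) (cond (Nat.beq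 c 52) [⟨62, 1, 1⟩] [])) (cond (Nat.blt c 54) (cond (Nat.beq c 53) [⟨63, 1, 1⟩] []) (cond (Nat.blt c 76) (cond (Nat.beq c 54) [⟨85, -1, 2⟩, ⟨0, 0, 1⟩, ⟨1, 1, 1⟩, ⟨2, 0, 1⟩, ⟨3, 0, 1⟩, ⟨4, 0, 1⟩, ⟨5, 0, 1⟩, ⟨6, 0, 1⟩] []) (cond (Nat.beq c 76) [⟨86, -1, 1⟩] [])))) (cond (Nat.blt c 79) (cond (Nat.blt c 78) (cond (Nat.beq c 77) [⟨87, -1, 1⟩] []) (cond (Nat.beq c 78) [⟨88, -1, 1⟩] [])) (cond (Nat.blt c 81) (cond (Nat.beq c 79) [⟨89, -1, 1⟩] []) (cond (Nat.blt c 82) (cond (Nat.beq c 81) [⟨90, 1, 1⟩] []) (cond (Nat.beq c 82) [⟨91, 1, 1⟩] []))))) (cond (Nat.blt c 105) (cond (Nat.blt c 102) (cond (Nat.blt c 84) (cond (Nat.beq c 83) [⟨92, 1, 1⟩] []) (cond (Nat.beq c 84) [⟨93, 1, 1⟩] [])) (cond (Nat.blt c 103) (cond (Nat.beq c 102) [⟨106, 1, 1⟩] []) (cond (Nat.blt c 104) (cond (Nat.beq c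 103) [⟨107, 1, 1⟩] []) (cond (Nat.beq c 104) [⟨108, 1, 1⟩] [])))) (cond (Nat.blt c 123) (cond (Nat.blt c 122) (cond (Nat.beq c 105) [⟨109, 1, 1⟩] []) (cond (Nat.beq c 122) [⟨126, 1, 1⟩] [])) (cond (Nat.blt c 124) (cond (Nat.beq c 123) [⟨127, 1, 1⟩] []) (cond (Nat.blt c 125) (cond (Nat.beq c 124) [⟨128, 1, 1⟩] []) (cond (Nat.beq c 125) [⟨129, 1, 1⟩] []))))))

/-- Compiled columns of `x_79` for type E7. -/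
def colsE7_79 (c : ℕ) : List CEnt :=
  cond (Nat.blt c 51) (cond (Nat.blt c 13) (cond (Nat.blt c 5) (cond (Nat.blt c 2) (cond (Nat.blt c 1) (cond (Nat.beq c 0) [⟨86, 0, 1⟩] []) (cond (Nat.beq c 1) [⟨86, -1, 1⟩] [])) (cond (Nat.blt c 3) (cond (Nat.beq c 2) [⟨86, 1, 1⟩] []) (cond (Nat.blt c 4) (cond (Nat.beq c 3) [⟨86, -1, 1⟩] []) (cond (Nat.beq c 4) [⟨86, 1, 1⟩] [])))) (cond (Nat.blt c 9) (cond (Nat.blt c 6) (cond (Nat.beq c 5) [⟨86, 0, 1⟩] []) (cond (Nat.beq c 6) [⟨86, 0, 1⟩] [])) (cond (Nat.blt c 11) (cond (Nat.beq c 9) [⟨14, -1, 1⟩] []) (cond (Nat.blt c 12) (cond (Nat.beq c 11) [⟨18, 1, 1⟩] []) (cond (Nat.beq c 12) [⟨19, 1, 1⟩] []))))) (cond (Nat.blt c 43) (cond (Nat.blt c 28) (cond (Nat.blt c 27) (cond (Nat.beq c 13) [⟨20, 1, 1⟩] []) (cond (Nat.beq c 27) [⟨34, -1, 1⟩] []))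 (cond (Nat.blt c 29) (cond (Nat.beq c 28) [⟨35, -1, 1⟩] []) (cond (Nat.blt c 33) (cond (Nat.beq c 29) [⟨36, -1, 1⟩] []) (cond (Nat.beq c 33) [⟨38, 1, 1⟩] [])))) (cond (Nat.blt c 45) (cond (Nat.blt c 44) (cond (Nat.beq c 43) [⟨55, -1, 1⟩] []) (cond (Nat.beq c 44) [⟨56, -1, 1⟩] [])) (cond (Nat.blt c 49) (cond (Nat.beq c 45) [⟨57, -1, 1⟩] []) (cond (Nat.blt c 50) (cond (Nat.beq c 49) [⟨59, 1, 1⟩] []) (cond (Nat.beq c 50) [⟨64, 1, 1⟩] [])))))) (cond (Nat.blt c 83) (cond (Nat.blt c 73) (cond (Nat.blt c 53) (cond (Nat.blt c 52) (cond (Nat.beq c 51) [⟨65, 1, 1⟩] []) (cond (Nat.beq c 52) [⟨66, 1, 1⟩] [])) (cond (Nat.blt c 54) (cond (Nat.beq c 53) [⟨86, -1, 2⟩, ⟨0, 0, 1⟩, ⟨1, 1, 1⟩, ⟨2, 0, 1⟩, ⟨3, 1, 1⟩, ⟨4, 0, 1⟩, ⟨5, 0, 1⟩, ⟨6, 0, 1⟩] []) (cond (Nat.blt c 63) (cond (Nat.beq c 54) [⟨76,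 1, 1⟩] []) (cond (Nat.beq c 63) [⟨85, -1, 1⟩] [])))) (cond (Nat.blt c 75) (cond (Nat.blt c 74) (cond (Nat.beq c 73) [⟨87, -1, 1⟩] []) (cond (Nat.beq c 74) [⟨88, -1, 1⟩] [])) (cond (Nat.blt c 80) (cond (Nat.beq c 75) [⟨89, -1, 1⟩] []) (cond (Nat.blt c 82) (cond (Nat.beq c 80) [⟨90, -1, 1⟩] []) (cond (Nat.beq c 82) [⟨94, 1, 1⟩] []))))) (cond (Nat.blt c 105) (cond (Nat.blt c 101) (cond (Nat.blt c 84) (cond (Nat.beq c 83) [⟨95, 1, 1⟩] []) (cond (Nat.beq c 84) [⟨96, 1, 1⟩] [])) (cond (Nat.blt c 103) (cond (Nat.beq c 101) [⟨106, -1, 1⟩] []) (cond (Nat.blt c 104) (cond (Nat.beq c 103) [⟨110, 1, 1⟩] []) (cond (Nat.beq c 104) [⟨111, 1, 1⟩] [])))) (cond (Nat.blt c 120) (cond (Nat.blt c 119) (cond (Nat.beq c 105) [⟨112, 1, 1⟩] []) (cond (Nat.beq c 119) [⟨126, -1, 1⟩] [])) (cond (Nat.blt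 c 121) (cond (Nat.beq c 120) [⟨127, -1, 1⟩] []) (cond (Nat.blt c 125) (cond (Nat.beq c 121) [⟨128, -1, 1⟩] []) (cond (Nat.beq c 125) [⟨130, 1, 1⟩] []))))))

/-- Compiled columns of `x_80` for type E7. -/
def colsE7_80 (c : ℕ) : List CEnt :=
  cond (Nat.blt c 51) (cond (Nat.blt c 13) (cond (Nat.blt c 5) (cond (Nat.blt c 2) (cond (Nat.blt c 1) (cond (Nat.beq c 0) [⟨87, 0, 1⟩] []) (cond (Nat.beq c 1) [⟨87, -1, 1⟩] [])) (cond (Nat.blt c 3) (cond (Nat.beq c 2) [⟨87, 1, 1⟩] []) (cond (Nat.blt c 4) (cond (Nat.beq c 3) [⟨87, 0, 1⟩] []) (cond (Nat.beq c 4) [⟨87, -1, 1⟩] [])))) (cond (Nat.blt c 9) (cond (Nat.blt c 6) (cond (Nat.beq c 5) [⟨87, 1, 1⟩] []) (cond (Nat.beq c 6) [⟨87, 0, 1⟩] [])) (cond (Nat.blt c 10) (cond (Nat.beq c 9) [⟨15, 1, 1⟩] []) (cond (Nat.blt c 12) (cond (Nat.beq c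 10) [⟨18, 1, 1⟩] []) (cond (Nat.beq c 12) [⟨21, -1, 1⟩] []))))) (cond (Nat.blt c 41) (cond (Nat.blt c 26) (cond (Nat.blt c 25) (cond (Nat.beq c 13) [⟨22, -1, 1⟩] []) (cond (Nat.beq c 25) [⟨34, -1, 1⟩] [])) (cond (Nat.blt c 29) (cond (Nat.beq c 26) [⟨35, -1, 1⟩] []) (cond (Nat.blt c 32) (cond (Nat.beq c 29) [⟨37, 1, 1⟩] []) (cond (Nat.beq c 32) [⟨38, 1, 1⟩] [])))) (cond (Nat.blt c 45) (cond (Nat.blt c 42) (cond (Nat.beq c 41) [⟨55, -1, 1⟩] []) (cond (Nat.beq c 42) [⟨56, -1, 1⟩] [])) (cond (Nat.blt c 48) (cond (Nat.beq c 45) [⟨58, 1, 1⟩] []) (cond (Nat.blt c 50) (cond (Nat.beq c 48) [⟨59, 1, 1⟩] []) (cond (Nat.beq c 50) [⟨67, 1, 1⟩] [])))))) (cond (Nat.blt c 83) (cond (Nat.blt c 66) (cond (Nat.blt c 53) (cond (Nat.blt c 52) (cond (Nat.beq c 51) [⟨68, 1, 1⟩] []) (cond (Nat.beq c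 52) [⟨87, -1, 2⟩, ⟨0, 0, 1⟩, ⟨1, 1, 1⟩, ⟨2, 0, 1⟩, ⟨3, 1, 1⟩, ⟨4, 1, 1⟩, ⟨5, 0, 1⟩, ⟨6, 0, 1⟩] [])) (cond (Nat.blt c 54) (cond (Nat.beq c 53) [⟨73, 1, 1⟩] []) (cond (Nat.blt c 62) (cond (Nat.beq c 54) [⟨77, 1, 1⟩] []) (cond (Nat.beq c 62) [⟨85, -1, 1⟩] [])))) (cond (Nat.blt c 72) (cond (Nat.blt c 71) (cond (Nat.beq c 66) [⟨86, -1, 1⟩] []) (cond (Nat.beq c 71) [⟨88, -1, 1⟩] [])) (cond (Nat.blt c 80) (cond (Nat.beq c 72) [⟨89, -1, 1⟩] []) (cond (Nat.blt c 81) (cond (Nat.beq c 80) [⟨91, -1, 1⟩] []) (cond (Nat.beq c 81) [⟨94, -1, 1⟩] []))))) (cond (Nat.blt c 105) (cond (Nat.blt c 101) (cond (Nat.blt c 84) (cond (Nat.beq c 83) [⟨97, 1, 1⟩] []) (cond (Nat.beq c 84) [⟨98, 1, 1⟩] [])) (cond (Nat.blt c 102) (cond (Nat.beq c 101) [⟨107, -1, 1⟩] []) (cond (Nat.blt c 104) (cond (Nat.beq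 c 102) [⟨110, -1, 1⟩] []) (cond (Nat.beq c 104) [⟨113, 1, 1⟩] [])))) (cond (Nat.blt c 118) (cond (Nat.blt c 117) (cond (Nat.beq c 105) [⟨114, 1, 1⟩] []) (cond (Nat.beq c 117) [⟨126, 1, 1⟩] [])) (cond (Nat.blt c 121) (cond (Nat.beq c 118) [⟨127, 1, 1⟩] []) (cond (Nat.blt c 124) (cond (Nat.beq c 121) [⟨129, -1, 1⟩] []) (cond (Nat.beq c 124) [⟨130, -1, 1⟩] []))))))

/-- Compiled columns of `x_81` for type E7. -/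
def colsE7_81 (c : ℕ) : List CEnt :=
  cond (Nat.blt c 51) (cond (Nat.blt c 13) (cond (Nat.blt c 5) (cond (Nat.blt c 2) (cond (Nat.blt c 1) (cond (Nat.beq c 0) [⟨88, 0, 1⟩] []) (cond (Nat.beq c 1) [⟨88, -1, 1⟩] [])) (cond (Nat.blt c 3) (cond (Nat.beq c 2) [⟨88, 1, 1⟩] []) (cond (Nat.blt c 4) (cond (Nat.beq c 3) [⟨88, 0, 1⟩] []) (cond (Nat.beq c 4) [⟨88, 0, 1⟩] [])))) (cond (Nat.blt c 9) (cond (Nat.blt c 6) (cond (Nat.beq c 5) [⟨88, -1, 1⟩] []) (cond (Nat.beq c 6) [⟨88, 1, 1⟩] [])) (cond (Nat.blt c 10) (cond (Nat.beq c 9) [⟨16, -1, 1⟩] []) (cond (Nat.blt c 11) (cond (Nat.beq c 10) [⟨19, -1, 1⟩] []) (cond (Nat.beq c 11) [⟨21, -1, 1⟩] []))))) (cond (Nat.blt c 40) (cond (Nat.blt c 26) (cond (Nat.blt c 24) (cond (Nat.beq c 13) [⟨23, 1, 1⟩] []) (cond (Nat.beq c 24) [⟨34, -1, 1⟩] []))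 (cond (Nat.blt c 28) (cond (Nat.beq c 26) [⟨36, 1, 1⟩] []) (cond (Nat.blt c 31) (cond (Nat.beq c 28) [⟨37, 1, 1⟩] []) (cond (Nat.beq c 31) [⟨38, 1, 1⟩] [])))) (cond (Nat.blt c 44) (cond (Nat.blt c 42) (cond (Nat.beq c 40) [⟨55, -1, 1⟩] []) (cond (Nat.beq c 42) [⟨57, 1, 1⟩] [])) (cond (Nat.blt c 47) (cond (Nat.beq c 44) [⟨58, 1, 1⟩] []) (cond (Nat.blt c 50) (cond (Nat.beq c 47) [⟨59, 1, 1⟩] []) (cond (Nat.beq c 50) [⟨69, 1, 1⟩] [])))))) (cond (Nat.blt c 82) (cond (Nat.blt c 65) (cond (Nat.blt c 53) (cond (Nat.blt c 52) (cond (Nat.beq c 51) [⟨88, -1, 2⟩, ⟨0, 0, 1⟩, ⟨1, 1, 1⟩, ⟨2, 0, 1⟩, ⟨3, 1, 1⟩, ⟨4, 1, 1⟩, ⟨5, 1, 1⟩, ⟨6, 0, 1⟩] []) (cond (Nat.beq c 52) [⟨71, 1, 1⟩] [])) (cond (Nat.blt c 54) (cond (Nat.beq c 53) [⟨74, 1, 1⟩] []) (cond (Nat.blt c 61) (cond (Nat.beq c 54) [⟨78,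 1, 1⟩] []) (cond (Nat.beq c 61) [⟨85, -1, 1⟩] [])))) (cond (Nat.blt c 70) (cond (Nat.blt c 68) (cond (Nat.beq c 65) [⟨86, -1, 1⟩] []) (cond (Nat.beq c 68) [⟨87, -1, 1⟩] [])) (cond (Nat.blt c 80) (cond (Nat.beq c 70) [⟨89, -1, 1⟩] []) (cond (Nat.blt c 81) (cond (Nat.beq c 80) [⟨92, -1, 1⟩] []) (cond (Nat.beq c 81) [⟨95, -1, 1⟩] []))))) (cond (Nat.blt c 105) (cond (Nat.blt c 101) (cond (Nat.blt c 84) (cond (Nat.beq c 82) [⟨97, -1, 1⟩] []) (cond (Nat.beq c 84) [⟨99, 1, 1⟩] [])) (cond (Nat.blt c 102) (cond (Nat.beq c 101) [⟨108, -1, 1⟩] []) (cond (Nat.blt c 103) (cond (Nat.beq c 102) [⟨111, -1, 1⟩] []) (cond (Nat.beq c 103) [⟨113, -1, 1⟩] [])))) (cond (Nat.blt c 118) (cond (Nat.blt c 116) (cond (Nat.beq c 105) [⟨115, 1, 1⟩] []) (cond (Nat.beq c 116) [⟨126, -1, 1⟩] [])) (cond (Nat.blt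 c 120) (cond (Nat.beq c 118) [⟨128, 1, 1⟩] []) (cond (Nat.blt c 123) (cond (Nat.beq c 120) [⟨129, 1, 1⟩] []) (cond (Nat.beq c 123) [⟨130, 1, 1⟩] []))))))

/-- Compiled columns of `x_82` for type E7. -/
def colsE7_82 (c : ℕ) : List CEnt :=
  cond (Nat.blt c 51) (cond (Nat.blt c 12) (cond (Nat.blt c 5) (cond (Nat.blt c 2) (cond (Nat.blt c 1) (cond (Nat.beq c 0) [⟨89, 0, 1⟩] []) (cond (Nat.beq c 1) [⟨89, -1, 1⟩] [])) (cond (Nat.blt c 3) (cond (Nat.beq c 2) [⟨89, 1, 1⟩] []) (cond (Nat.blt c 4) (cond (Nat.beq c 3) [⟨89, 0, 1⟩] []) (cond (Nat.beq c 4) [⟨89, 0, 1⟩] [])))) (cond (Nat.blt c 9) (cond (Nat.blt c 6) (cond (Nat.beq c 5) [⟨89, 0, 1⟩] []) (cond (Nat.beq c 6) [⟨89, -1, 1⟩] [])) (cond (Nat.blt c 10) (cond (Nat.beq c 9) [⟨17, 1, 1⟩] []) (cond (Nat.blt c 11) (cond (Nat.beq c 10)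 [⟨20, 1, 1⟩] []) (cond (Nat.beq c 11) [⟨22, 1, 1⟩] []))))) (cond (Nat.blt c 40) (cond (Nat.blt c 25) (cond (Nat.blt c 24) (cond (Nat.beq c 12) [⟨23, 1, 1⟩] []) (cond (Nat.beq c 24) [⟨35, 1, 1⟩] [])) (cond (Nat.blt c 27) (cond (Nat.beq c 25) [⟨36, 1, 1⟩] []) (cond (Nat.blt c 30) (cond (Nat.beq c 27) [⟨37, 1, 1⟩] []) (cond (Nat.beq c 30) [⟨38, 1, 1⟩] [])))) (cond (Nat.blt c 43) (cond (Nat.blt c 41) (cond (Nat.beq c 40) [⟨56, 1, 1⟩] []) (cond (Nat.beq c 41) [⟨57, 1, 1⟩] [])) (cond (Nat.blt c 46) (cond (Nat.beq c 43) [⟨58, 1, 1⟩] []) (cond (Nat.blt c 50) (cond (Nat.beq c 46) [⟨59, 1, 1⟩] []) (cond (Nat.beq c 50) [⟨89, -1, 2⟩, ⟨0, 0, 1⟩, ⟨1, 1, 1⟩, ⟨2, 0, 1⟩, ⟨3, 1, 1⟩, ⟨4, 1, 1⟩, ⟨5, 1, 1⟩, ⟨6, 1, 1⟩] [])))))) (cond (Nat.blt c 82) (cond (Nat.blt c 64) (cond (Nat.blt c 53) (cond (Nat.blt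 c 52) (cond (Nat.beq c 51) [⟨70, 1, 1⟩] []) (cond (Nat.beq c 52) [⟨72, 1, 1⟩] [])) (cond (Nat.blt c 54) (cond (Nat.beq c 53) [⟨75, 1, 1⟩] []) (cond (Nat.blt c 60) (cond (Nat.beq c 54) [⟨79, 1, 1⟩] []) (cond (Nat.beq c 60) [⟨85, -1, 1⟩] [])))) (cond (Nat.blt c 69) (cond (Nat.blt c 67) (cond (Nat.beq c 64) [⟨86, -1, 1⟩] []) (cond (Nat.beq c 67) [⟨87, -1, 1⟩] [])) (cond (Nat.blt c 80) (cond (Nat.beq c 69) [⟨88, -1, 1⟩] []) (cond (Nat.blt c 81) (cond (Nat.beq c 80) [⟨93, -1, 1⟩] []) (cond (Nat.beq c 81) [⟨96, -1, 1⟩] []))))) (cond (Nat.blt c 104) (cond (Nat.blt c 101) (cond (Nat.blt c 83) (cond (Nat.beq c 82) [⟨98, -1, 1⟩] []) (cond (Nat.beq c 83) [⟨99, -1, 1⟩] [])) (cond (Nat.blt c 102) (cond (Nat.beq c 101) [⟨109, -1, 1⟩] []) (cond (Nat.blt c 103) (cond (Nat.beq c 102) [⟨112, -1,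 1⟩] []) (cond (Nat.beq c 103) [⟨114, -1, 1⟩] [])))) (cond (Nat.blt c 117) (cond (Nat.blt c 116) (cond (Nat.beq c 104) [⟨115, -1, 1⟩] []) (cond (Nat.beq c 116) [⟨127, -1, 1⟩] [])) (cond (Nat.blt c 119) (cond (Nat.beq c 117) [⟨128, -1, 1⟩] []) (cond (Nat.blt c 122) (cond (Nat.beq c 119) [⟨129, -1, 1⟩] []) (cond (Nat.beq c 122) [⟨130, -1, 1⟩] []))))))

/-- Compiled columns of `x_83` for type E7. -/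
def colsE7_83 (c : ℕ) : List CEnt :=
  cond (Nat.blt c 48) (cond (Nat.blt c 13) (cond (Nat.blt c 5) (cond (Nat.blt c 2) (cond (Nat.blt c 1) (cond (Nat.beq c 0) [⟨90, 1, 1⟩] []) (cond (Nat.beq c 1) [⟨90, -1, 1⟩] [])) (cond (Nat.blt c 3) (cond (Nat.beq c 2) [⟨90, -1, 1⟩] []) (cond (Nat.blt c 4) (cond (Nat.beq c 3) [⟨90, 0, 1⟩] []) (cond (Nat.beq c 4) [⟨90, 1, 1⟩] [])))) (cond (Nat.blt c 8) (cond (Nat.blt c 6) (cond (Nat.beq c 5) [⟨90, 0, 1⟩] []) (cond (Nat.beq c 6) [⟨90, 0, 1⟩] [])) (cond (Nat.blt c 11) (cond (Nat.beq c 8) [⟨14, -1, 1⟩] []) (cond (Nat.blt c 12) (cond (Nat.beq c 11) [⟨24, -1, 1⟩] []) (cond (Nat.beq c 12) [⟨25, -1, 1⟩] []))))) (cond (Nat.blt c 43) (cond (Nat.blt c 22) (cond (Nat.blt c 21) (cond (Nat.beq c 13) [⟨26, -1, 1⟩] []) (cond (Nat.beq c 21) [⟨34, -1, 1⟩] []))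 (cond (Nat.blt c 23) (cond (Nat.beq c 22) [⟨35, -1, 1⟩] []) (cond (Nat.blt c 33) (cond (Nat.beq c 23) [⟨36, -1, 1⟩] []) (cond (Nat.beq c 33) [⟨39, -1, 1⟩] [])))) (cond (Nat.blt c 45) (cond (Nat.blt c 44) (cond (Nat.beq c 43) [⟨60, -1, 1⟩] []) (cond (Nat.beq c 44) [⟨61, -1, 1⟩] [])) (cond (Nat.blt c 46) (cond (Nat.beq c 45) [⟨62, -1, 1⟩] []) (cond (Nat.blt c 47) (cond (Nat.beq c 46) [⟨64, 1, 1⟩] []) (cond (Nat.beq c 47) [⟨65, 1, 1⟩] [])))))) (cond (Nat.blt c 78) (cond (Nat.blt c 59) (cond (Nat.blt c 53) (cond (Nat.blt c 49) (cond (Nat.beq c 48) [⟨66, 1, 1⟩] []) (cond (Nat.beq c 49) [⟨90, -1, 2⟩, ⟨0, 0, 1⟩, ⟨1, 1, 1⟩, ⟨2, 1, 1⟩, ⟨3, 1, 1⟩, ⟨4, 0, 1⟩, ⟨5, 0, 1⟩, ⟨6, 0, 1⟩] [])) (cond (Nat.blt c 54) (cond (Nat.beq c 53) [⟨80, 1, 1⟩] []) (cond (Nat.blt c 58) (cond (Nat.beq c 54) [⟨81,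 -1, 1⟩] []) (cond (Nat.beq c 58) [⟨85, 1, 1⟩] [])))) (cond (Nat.blt c 74) (cond (Nat.blt c 73) (cond (Nat.beq c 59) [⟨86, -1, 1⟩] []) (cond (Nat.beq c 73) [⟨91, -1, 1⟩] [])) (cond (Nat.blt c 75) (cond (Nat.beq c 74) [⟨92, -1, 1⟩] []) (cond (Nat.blt c 77) (cond (Nat.beq c 75) [⟨93, -1, 1⟩] []) (cond (Nat.beq c 77) [⟨94, 1, 1⟩] []))))) (cond (Nat.blt c 105) (cond (Nat.blt c 100) (cond (Nat.blt c 79) (cond (Nat.beq c 78) [⟨95, 1, 1⟩] []) (cond (Nat.beq c 79) [⟨96, 1, 1⟩] [])) (cond (Nat.blt c 103) (cond (Nat.beq c 100) [⟨106, 1, 1⟩] []) (cond (Nat.blt c 104) (cond (Nat.beq c 103) [⟨116, 1, 1⟩] []) (cond (Nat.beq c 104) [⟨117, 1, 1⟩] [])))) (cond (Nat.blt c 114) (cond (Nat.blt c 113) (cond (Nat.beq c 105) [⟨118, 1, 1⟩] []) (cond (Nat.beq c 113) [⟨126, 1, 1⟩] [])) (cond (Nat.blt c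 115) (cond (Nat.beq c 114) [⟨127, 1, 1⟩] []) (cond (Nat.blt c 125) (cond (Nat.beq c 115) [⟨128, 1, 1⟩] []) (cond (Nat.beq c 125) [⟨131, 1, 1⟩] []))))))

end Cfsg.Agent.Lib.Helper3.ChevM
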