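import Cfsg.Agent.Lib.Helper3.ChevM2
set_option autoImplicit false
set_option maxRecDepth 100000

namespace Cfsg.Agent.Lib.Helper3.ChevM

/-- Compiled columns of `x_84` for type E7. -/
def colsE7_84 (c : ℕ) : List CEnt :=
  cond (Nat.blt c 48) (cond (Nat.blt c 13) (cond (Nat.blt c 5) (cond (Nat.blt c 2) (cond (Nat.blt c 1) (cond (Nat.beq c 0) [⟨91, 1, 1⟩] []) (cond (Nat.beq c 1) [⟨91, -1, 1⟩] [])) (cond (Nat.blt c 3) (cond (Nat.beq c 2) [⟨91, -1, 1⟩] []) (cond (Nat.blt c 4) (cond (Nat.beq c 3) [⟨91, 1, 1⟩] []) (cond (Nat.beq c 4) [⟨91, -1, 1⟩] [])))) (cond (Nat.blt c 8) (cond (Nat.blt c 6) (cond (Nat.beq c 5) [⟨91, 1, 1⟩] []) (cond (Nat.beq c 6) [⟨91, 0, 1⟩] [])) (cond (Nat.blt c 10) (cond (Nat.beq c 8) [⟨15, 1, 1⟩] []) (cond (Nat.blt c 12) (cond (Nat.beq c 10) [⟨24, -1, 1⟩]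 []) (cond (Nat.beq c 12) [⟨27, 1, 1⟩] []))))) (cond (Nat.blt c 41) (cond (Nat.blt c 20) (cond (Nat.blt c 19) (cond (Nat.beq c 13) [⟨28, 1, 1⟩] []) (cond (Nat.beq c 19) [⟨34, -1, 1⟩] [])) (cond (Nat.blt c 23) (cond (Nat.beq c 20) [⟨35, -1, 1⟩] []) (cond (Nat.blt c 32) (cond (Nat.beq c 23) [⟨37, 1, 1⟩] []) (cond (Nat.beq c 32) [⟨39, -1, 1⟩] [])))) (cond (Nat.blt c 45) (cond (Nat.blt c 42) (cond (Nat.beq c 41) [⟨60, -1, 1⟩] []) (cond (Nat.beq c 42) [⟨61, -1, 1⟩] [])) (cond (Nat.blt c 46) (cond (Nat.beq c 45) [⟨63, 1, 1⟩] []) (cond (Nat.blt c 47) (cond (Nat.beq c 46) [⟨67, 1, 1⟩] []) (cond (Nat.beq c 47) [⟨68, 1, 1⟩] [])))))) (cond (Nat.blt c 78) (cond (Nat.blt c 59) (cond (Nat.blt c 52) (cond (Nat.blt c 49) (cond (Nat.beq c 48) [⟨91, -1, 2⟩, ⟨0, 0, 1⟩, ⟨1, 1, 1⟩, ⟨2, 1, 1⟩, ⟨3,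 1, 1⟩, ⟨4, 1, 1⟩, ⟨5, 0, 1⟩, ⟨6, 0, 1⟩] []) (cond (Nat.beq c 49) [⟨73, 1, 1⟩] [])) (cond (Nat.blt c 54) (cond (Nat.beq c 52) [⟨80, 1, 1⟩] []) (cond (Nat.blt c 57) (cond (Nat.beq c 54) [⟨82, -1, 1⟩] []) (cond (Nat.beq c 57) [⟨85, 1, 1⟩] [])))) (cond (Nat.blt c 71) (cond (Nat.blt c 66) (cond (Nat.beq c 59) [⟨87, -1, 1⟩] []) (cond (Nat.beq c 66) [⟨90, -1, 1⟩] [])) (cond (Nat.blt c 72) (cond (Nat.beq c 71) [⟨92, -1, 1⟩] []) (cond (Nat.blt c 76) (cond (Nat.beq c 72) [⟨93, -1, 1⟩] []) (cond (Nat.beq c 76) [⟨94, -1, 1⟩] []))))) (cond (Nat.blt c 105) (cond (Nat.blt c 100) (cond (Nat.blt c 79) (cond (Nat.beq c 78) [⟨97, 1, 1⟩] []) (cond (Nat.beq c 79) [⟨98, 1, 1⟩] [])) (cond (Nat.blt c 102) (cond (Nat.beq c 100) [⟨107, 1, 1⟩] []) (cond (Nat.blt c 104) (cond (Nat.beq c 102) [⟨116, -1,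 1⟩] []) (cond (Nat.beq c 104) [⟨119, 1, 1⟩] [])))) (cond (Nat.blt c 112) (cond (Nat.blt c 111) (cond (Nat.beq c 105) [⟨120, 1, 1⟩] []) (cond (Nat.beq c 111) [⟨126, -1, 1⟩] [])) (cond (Nat.blt c 115) (cond (Nat.beq c 112) [⟨127, -1, 1⟩] []) (cond (Nat.blt c 124) (cond (Nat.beq c 115) [⟨129, 1, 1⟩] []) (cond (Nat.beq c 124) [⟨131, -1, 1⟩] []))))))

/-- Compiled columns of `x_85` for type E7. -/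
def colsE7_85 (c : ℕ) : List CEnt :=
  cond (Nat.blt c 48) (cond (Nat.blt c 13) (cond (Nat.blt c 5) (cond (Nat.blt c 2) (cond (Nat.blt c 1) (cond (Nat.beq c 0) [⟨92, 1, 1⟩] []) (cond (Nat.beq c 1) [⟨92, -1, 1⟩] [])) (cond (Nat.blt c 3) (cond (Nat.beq c 2) [⟨92, -1, 1⟩] []) (cond (Nat.blt c 4) (cond (Nat.beq c 3) [⟨92, 1, 1⟩] []) (cond (Nat.beq c 4) [⟨92, 0, 1⟩] [])))) (cond (Nat.blt c 8) (cond (Nat.blt c 6) (cond (Nat.beq c 5) [⟨92, -1, 1⟩] []) (cond (Nat.beq c 6) [⟨92, 1, 1⟩] [])) (cond (Nat.blt c 10) (cond (Nat.beq c 8) [⟨16, -1, 1⟩] []) (cond (Nat.blt c 11) (cond (Nat.beq c 10) [⟨25, 1, 1⟩] []) (cond (Nat.beq c 11) [⟨27, 1, 1⟩] []))))) (cond (Nat.blt c 40) (cond (Nat.blt c 20) (cond (Nat.blt c 18) (cond (Nat.beq c 13) [⟨29, -1, 1⟩] []) (cond (Nat.beq c 18) [⟨34, -1, 1⟩] []))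 (cond (Nat.blt c 22) (cond (Nat.beq c 20) [⟨36, 1, 1⟩] []) (cond (Nat.blt c 31) (cond (Nat.beq c 22) [⟨37, 1, 1⟩] []) (cond (Nat.beq c 31) [⟨39, -1, 1⟩] [])))) (cond (Nat.blt c 44) (cond (Nat.blt c 42) (cond (Nat.beq c 40) [⟨60, -1, 1⟩] []) (cond (Nat.beq c 42) [⟨62, 1, 1⟩] [])) (cond (Nat.blt c 46) (cond (Nat.beq c 44) [⟨63, 1, 1⟩] []) (cond (Nat.blt c 47) (cond (Nat.beq c 46) [⟨69, 1, 1⟩] []) (cond (Nat.beq c 47) [⟨92, -1, 2⟩, ⟨0, 0, 1⟩, ⟨1, 1, 1⟩, ⟨2, 1, 1⟩, ⟨3, 1, 1⟩, ⟨4, 1, 1⟩, ⟨5, 1, 1⟩, ⟨6, 0, 1⟩] [])))))) (cond (Nat.blt c 77) (cond (Nat.blt c 59) (cond (Nat.blt c 51) (cond (Nat.blt c 49) (cond (Nat.beq c 48) [⟨71, 1, 1⟩] []) (cond (Nat.beq c 49) [⟨74, 1, 1⟩] [])) (cond (Nat.blt c 54) (cond (Nat.beq c 51) [⟨80, 1, 1⟩] []) (cond (Nat.blt c 56) (cond (Nat.beq c 54) [⟨83,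 -1, 1⟩] []) (cond (Nat.beq c 56) [⟨85, 1, 1⟩] [])))) (cond (Nat.blt c 68) (cond (Nat.blt c 65) (cond (Nat.beq c 59) [⟨88, -1, 1⟩] []) (cond (Nat.beq c 65) [⟨90, -1, 1⟩] [])) (cond (Nat.blt c 70) (cond (Nat.beq c 68) [⟨91, -1, 1⟩] []) (cond (Nat.blt c 76) (cond (Nat.beq c 70) [⟨93, -1, 1⟩] []) (cond (Nat.beq c 76) [⟨95, -1, 1⟩] []))))) (cond (Nat.blt c 105) (cond (Nat.blt c 100) (cond (Nat.blt c 79) (cond (Nat.beq c 77) [⟨97, -1, 1⟩] []) (cond (Nat.beq c 79) [⟨99, 1, 1⟩] [])) (cond (Nat.blt c 102) (cond (Nat.beq c 100) [⟨108, 1, 1⟩] []) (cond (Nat.blt c 103) (cond (Nat.beq c 102) [⟨117, -1, 1⟩] []) (cond (Nat.beq c 103) [⟨119, -1, 1⟩] [])))) (cond (Nat.blt c 112) (cond (Nat.blt c 110) (cond (Nat.beq c 105) [⟨121, 1, 1⟩] []) (cond (Nat.beq c 110) [⟨126, 1, 1⟩] [])) (cond (Nat.blt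 c 114) (cond (Nat.beq c 112) [⟨128, -1, 1⟩] []) (cond (Nat.blt c 123) (cond (Nat.beq c 114) [⟨129, -1, 1⟩] []) (cond (Nat.beq c 123) [⟨131, 1, 1⟩] []))))))

/-- Compiled columns of `x_86` for type E7. -/
def colsE7_86 (c : ℕ) : List CEnt :=
  cond (Nat.blt c 48) (cond (Nat.blt c 12) (cond (Nat.blt c 5) (cond (Nat.blt c 2) (cond (Nat.blt c 1) (cond (Nat.beq c 0) [⟨93, 1, 1⟩] []) (cond (Nat.beq c 1) [⟨93, -1, 1⟩] [])) (cond (Nat.blt c 3) (cond (Nat.beq c 2) [⟨93, -1, 1⟩] []) (cond (Nat.blt c 4) (cond (Nat.beq c 3) [⟨93, 1, 1⟩] []) (cond (Nat.beq c 4) [⟨93, 0, 1⟩] [])))) (cond (Nat.blt c 8) (cond (Nat.blt c 6) (cond (Nat.beq c 5) [⟨93, 0, 1⟩] []) (cond (Nat.beq c 6) [⟨93, -1, 1⟩] [])) (cond (Nat.blt c 10) (cond (Nat.beq c 8) [⟨17, 1, 1⟩] []) (cond (Nat.blt c 11) (cond (Nat.beq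 c 10) [⟨26, -1, 1⟩] []) (cond (Nat.beq c 11) [⟨28, -1, 1⟩] []))))) (cond (Nat.blt c 40) (cond (Nat.blt c 19) (cond (Nat.blt c 18) (cond (Nat.beq c 12) [⟨29, -1, 1⟩] []) (cond (Nat.beq c 18) [⟨35, 1, 1⟩] [])) (cond (Nat.blt c 21) (cond (Nat.beq c 19) [⟨36, 1, 1⟩] []) (cond (Nat.blt c 30) (cond (Nat.beq c 21) [⟨37, 1, 1⟩] []) (cond (Nat.beq c 30) [⟨39, -1, 1⟩] [])))) (cond (Nat.blt c 43) (cond (Nat.blt c 41) (cond (Nat.beq c 40) [⟨61, 1, 1⟩] []) (cond (Nat.beq c 41) [⟨62, 1, 1⟩] [])) (cond (Nat.blt c 46) (cond (Nat.beq c 43) [⟨63, 1, 1⟩] []) (cond (Nat.blt c 47) (cond (Nat.beq c 46) [⟨93, -1, 2⟩, ⟨0, 0, 1⟩, ⟨1, 1, 1⟩, ⟨2, 1, 1⟩, ⟨3, 1, 1⟩, ⟨4, 1, 1⟩, ⟨5, 1, 1⟩, ⟨6, 1, 1⟩] []) (cond (Nat.beq c 47) [⟨70, 1, 1⟩] [])))))) (cond (Nat.blt c 77) (cond (Nat.blt c 59) (cond (Nat.blt c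 50) (cond (Nat.blt c 49) (cond (Nat.beq c 48) [⟨72, 1, 1⟩] []) (cond (Nat.beq c 49) [⟨75, 1, 1⟩] [])) (cond (Nat.blt c 54) (cond (Nat.beq c 50) [⟨80, 1, 1⟩] []) (cond (Nat.blt c 55) (cond (Nat.beq c 54) [⟨84, -1, 1⟩] []) (cond (Nat.beq c 55) [⟨85, 1, 1⟩] [])))) (cond (Nat.blt c 67) (cond (Nat.blt c 64) (cond (Nat.beq c 59) [⟨89, -1, 1⟩] []) (cond (Nat.beq c 64) [⟨90, -1, 1⟩] [])) (cond (Nat.blt c 69) (cond (Nat.beq c 67) [⟨91, -1, 1⟩] []) (cond (Nat.blt c 76) (cond (Nat.beq c 69) [⟨92, -1, 1⟩] []) (cond (Nat.beq c 76) [⟨96, -1, 1⟩] []))))) (cond (Nat.blt c 104) (cond (Nat.blt c 100) (cond (Nat.blt c 78) (cond (Nat.beq c 77) [⟨98, -1, 1⟩] []) (cond (Nat.beq c 78) [⟨99, -1, 1⟩] [])) (cond (Nat.blt c 102) (cond (Nat.beq c 100) [⟨109, 1, 1⟩] []) (cond (Nat.blt c 103) (cond (Nat.beq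 c 102) [⟨118, -1, 1⟩] []) (cond (Nat.beq c 103) [⟨120, -1, 1⟩] [])))) (cond (Nat.blt c 111) (cond (Nat.blt c 110) (cond (Nat.beq c 104) [⟨121, -1, 1⟩] []) (cond (Nat.beq c 110) [⟨127, 1, 1⟩] [])) (cond (Nat.blt c 113) (cond (Nat.beq c 111) [⟨128, 1, 1⟩] []) (cond (Nat.blt c 122) (cond (Nat.beq c 113) [⟨129, 1, 1⟩] []) (cond (Nat.beq c 122) [⟨131, -1, 1⟩] []))))))

/-- Compiled columns of `x_87` for type E7. -/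
def colsE7_87 (c : ℕ) : List CEnt :=
  cond (Nat.blt c 48) (cond (Nat.blt c 13) (cond (Nat.blt c 5) (cond (Nat.blt c 2) (cond (Nat.blt c 1) (cond (Nat.beq c 0) [⟨94, 1, 1⟩] []) (cond (Nat.beq c 1) [⟨94, 0, 1⟩] [])) (cond (Nat.blt c 3) (cond (Nat.beq c 2) [⟨94, 0, 1⟩] []) (cond (Nat.blt c 4) (cond (Nat.beq c 3) [⟨94, -1, 1⟩] []) (cond (Nat.beq c 4) [⟨94, 0, 1⟩] [])))) (cond (Nat.blt c 8) (cond (Nat.blt c 6) (cond (Nat.beq c 5) [⟨94, 1, 1⟩] []) (cond (Nat.beq c 6) [⟨94, 0, 1⟩] [])) (cond (Nat.blt c 9) (cond (Nat.beq c 8) [⟨18, -1, 1⟩] []) (cond (Nat.blt c 12) (cond (Nat.beq c 9) [⟨24, -1, 1⟩] []) (cond (Nat.beq c 12) [⟨30, -1, 1⟩] []))))) (cond (Nat.blt c 41) (cond (Nat.blt c 17) (cond (Nat.blt c 16) (cond (Nat.beq c 13) [⟨31, -1, 1⟩] []) (cond (Nat.beq c 16) [⟨34, -1, 1⟩] []))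 (cond (Nat.blt c 23) (cond (Nat.beq c 17) [⟨35, -1, 1⟩] []) (cond (Nat.blt c 29) (cond (Nat.beq c 23) [⟨38, -1, 1⟩] []) (cond (Nat.beq c 29) [⟨39, -1, 1⟩] [])))) (cond (Nat.blt c 43) (cond (Nat.blt c 42) (cond (Nat.beq c 41) [⟨64, -1, 1⟩] []) (cond (Nat.beq c 42) [⟨65, -1, 1⟩] [])) (cond (Nat.blt c 44) (cond (Nat.beq c 43) [⟨67, 1, 1⟩] []) (cond (Nat.blt c 45) (cond (Nat.beq c 44) [⟨68, 1, 1⟩] []) (cond (Nat.beq c 45) [⟨94, -1, 2⟩, ⟨0, 0, 1⟩, ⟨1, 1, 1⟩, ⟨2, 1, 1⟩, ⟨3, 2, 1⟩, ⟨4, 1, 1⟩, ⟨5, 0, 1⟩, ⟨6, 0, 1⟩] [])))))) (cond (Nat.blt c 74) (cond (Nat.blt c 58) (cond (Nat.blt c 52) (cond (Nat.blt c 49) (cond (Nat.beq c 48) [⟨76, 1, 1⟩] []) (cond (Nat.beq c 49) [⟨77, -1, 1⟩] [])) (cond (Nat.blt c 53) (cond (Nat.beq c 52) [⟨81, 1, 1⟩] []) (cond (Nat.blt c 57) (cond (Nat.beq c 53)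 [⟨82, -1, 1⟩] []) (cond (Nat.beq c 57) [⟨86, 1, 1⟩] [])))) (cond (Nat.blt c 63) (cond (Nat.blt c 62) (cond (Nat.beq c 58) [⟨87, -1, 1⟩] []) (cond (Nat.beq c 62) [⟨90, 1, 1⟩] [])) (cond (Nat.blt c 71) (cond (Nat.beq c 63) [⟨91, -1, 1⟩] []) (cond (Nat.blt c 72) (cond (Nat.beq c 71) [⟨95, -1, 1⟩] []) (cond (Nat.beq c 72) [⟨96, -1, 1⟩] []))))) (cond (Nat.blt c 105) (cond (Nat.blt c 100) (cond (Nat.blt c 75) (cond (Nat.beq c 74) [⟨97, 1, 1⟩] []) (cond (Nat.beq c 75) [⟨98, 1, 1⟩] [])) (cond (Nat.blt c 101) (cond (Nat.beq c 100) [⟨110, 1, 1⟩] []) (cond (Nat.blt c 104) (cond (Nat.beq c 101) [⟨116, 1, 1⟩] []) (cond (Nat.beq c 104) [⟨122, 1, 1⟩] [])))) (cond (Nat.blt c 109) (cond (Nat.blt c 108) (cond (Nat.beq c 105) [⟨123, 1, 1⟩] []) (cond (Nat.beq c 108) [⟨126, 1, 1⟩] [])) (cond (Nat.blt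 c 115) (cond (Nat.beq c 109) [⟨127, 1, 1⟩] []) (cond (Nat.blt c 121) (cond (Nat.beq c 115) [⟨130, 1, 1⟩] []) (cond (Nat.beq c 121) [⟨131, 1, 1⟩] []))))))

/-- Compiled columns of `x_88` for type E7. -/
def colsE7_88 (c : ℕ) : List CEnt :=
  cond (Nat.blt c 47) (cond (Nat.blt c 13) (cond (Nat.blt c 5) (cond (Nat.blt c 2) (cond (Nat.blt c 1) (cond (Nat.beq c 0) [⟨95, 1, 1⟩] []) (cond (Nat.beq c 1) [⟨95, 0, 1⟩] [])) (cond (Nat.blt c 3) (cond (Nat.beq c 2) [⟨95, 0, 1⟩] []) (cond (Nat.blt c 4) (cond (Nat.beq c 3) [⟨95, -1, 1⟩] []) (cond (Nat.beq c 4) [⟨95, 1, 1⟩] [])))) (cond (Nat.blt c 8) (cond (Nat.blt c 6) (cond (Nat.beq c 5) [⟨95, -1, 1⟩] []) (cond (Nat.beq c 6) [⟨95, 1, 1⟩] [])) (cond (Nat.blt c 9) (cond (Nat.beq c 8) [⟨19, 1, 1⟩] []) (cond (Nat.blt c 11) (cond (Nat.beq c 9)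 [⟨25, 1, 1⟩] []) (cond (Nat.beq c 11) [⟨30, -1, 1⟩] []))))) (cond (Nat.blt c 40) (cond (Nat.blt c 17) (cond (Nat.blt c 15) (cond (Nat.beq c 13) [⟨32, 1, 1⟩] []) (cond (Nat.beq c 15) [⟨34, -1, 1⟩] [])) (cond (Nat.blt c 22) (cond (Nat.beq c 17) [⟨36, 1, 1⟩] []) (cond (Nat.blt c 28) (cond (Nat.beq c 22) [⟨38, -1, 1⟩] []) (cond (Nat.beq c 28) [⟨39, -1, 1⟩] [])))) (cond (Nat.blt c 43) (cond (Nat.blt c 42) (cond (Nat.beq c 40) [⟨64, -1, 1⟩] []) (cond (Nat.beq c 42) [⟨66, 1, 1⟩] [])) (cond (Nat.blt c 44) (cond (Nat.beq c 43) [⟨69, 1, 1⟩] []) (cond (Nat.blt c 45) (cond (Nat.beq c 44) [⟨95, -1, 2⟩, ⟨0, 0, 1⟩, ⟨1, 1, 1⟩, ⟨2, 1, 1⟩, ⟨3, 2, 1⟩, ⟨4, 1, 1⟩, ⟨5, 1, 1⟩, ⟨6, 0, 1⟩] []) (cond (Nat.beq c 45) [⟨71, 1, 1⟩] [])))))) (cond (Nat.blt c 73) (cond (Nat.blt c 58) (cond (Nat.blt c 51) (cond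 (Nat.blt c 49) (cond (Nat.beq c 47) [⟨76, 1, 1⟩] []) (cond (Nat.beq c 49) [⟨78, -1, 1⟩] [])) (cond (Nat.blt c 53) (cond (Nat.beq c 51) [⟨81, 1, 1⟩] []) (cond (Nat.blt c 56) (cond (Nat.beq c 53) [⟨83, -1, 1⟩] []) (cond (Nat.beq c 56) [⟨86, 1, 1⟩] [])))) (cond (Nat.blt c 63) (cond (Nat.blt c 61) (cond (Nat.beq c 58) [⟨88, -1, 1⟩] []) (cond (Nat.beq c 61) [⟨90, 1, 1⟩] [])) (cond (Nat.blt c 68) (cond (Nat.beq c 63) [⟨92, -1, 1⟩] []) (cond (Nat.blt c 70) (cond (Nat.beq c 68) [⟨94, -1, 1⟩] []) (cond (Nat.beq c 70) [⟨96, -1, 1⟩] []))))) (cond (Nat.blt c 105) (cond (Nat.blt c 100) (cond (Nat.blt c 75) (cond (Nat.beq c 73) [⟨97, -1, 1⟩] []) (cond (Nat.beq c 75) [⟨99, 1, 1⟩] [])) (cond (Nat.blt c 101) (cond (Nat.beq c 100) [⟨111, 1, 1⟩] []) (cond (Nat.blt c 103) (cond (Nat.beq c 101)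 [⟨117, 1, 1⟩] []) (cond (Nat.beq c 103) [⟨122, -1, 1⟩] [])))) (cond (Nat.blt c 109) (cond (Nat.blt c 107) (cond (Nat.beq c 105) [⟨124, 1, 1⟩] []) (cond (Nat.beq c 107) [⟨126, -1, 1⟩] [])) (cond (Nat.blt c 114) (cond (Nat.beq c 109) [⟨128, 1, 1⟩] []) (cond (Nat.blt c 120) (cond (Nat.beq c 114) [⟨130, -1, 1⟩] []) (cond (Nat.beq c 120) [⟨131, -1, 1⟩] []))))))

/-- Compiled columns of `x_89` for type E7. -/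
def colsE7_89 (c : ℕ) : List CEnt :=
  cond (Nat.blt c 46) (cond (Nat.blt c 12) (cond (Nat.blt c 5) (cond (Nat.blt c 2) (cond (Nat.blt c 1) (cond (Nat.beq c 0) [⟨96, 1, 1⟩] []) (cond (Nat.beq c 1) [⟨96, 0, 1⟩] [])) (cond (Nat.blt c 3) (cond (Nat.beq c 2) [⟨96, 0, 1⟩] []) (cond (Nat.blt c 4) (cond (Nat.beq c 3) [⟨96, -1, 1⟩] []) (cond (Nat.beq c 4) [⟨96, 1, 1⟩] [])))) (cond (Nat.blt c 8) (cond (Nat.blt c 6) (cond (Nat.beq c 5) [⟨96, 0, 1⟩] []) (cond (Nat.beq c 6) [⟨96, -1, 1⟩] [])) (cond (Nat.blt c 9) (cond (Nat.beq c 8) [⟨20, -1, 1⟩] []) (cond (Nat.blt c 11) (cond (Nat.beq c 9) [⟨26, -1, 1⟩] []) (cond (Nat.beq c 11) [⟨31, 1, 1⟩] []))))) (cond (Nat.blt c 40) (cond (Nat.blt c 16) (cond (Nat.blt c 15) (cond (Nat.beq c 12) [⟨32, 1, 1⟩] []) (cond (Nat.beq c 15) [⟨35, 1, 1⟩] []))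 (cond (Nat.blt c 21) (cond (Nat.beq c 16) [⟨36, 1, 1⟩] []) (cond (Nat.blt c 27) (cond (Nat.beq c 21) [⟨38, -1, 1⟩] []) (cond (Nat.beq c 27) [⟨39, -1, 1⟩] [])))) (cond (Nat.blt c 43) (cond (Nat.blt c 41) (cond (Nat.beq c 40) [⟨65, 1, 1⟩] []) (cond (Nat.beq c 41) [⟨66, 1, 1⟩] [])) (cond (Nat.blt c 44) (cond (Nat.beq c 43) [⟨96, -1, 2⟩, ⟨0, 0, 1⟩, ⟨1, 1, 1⟩, ⟨2, 1, 1⟩, ⟨3, 2, 1⟩, ⟨4, 1, 1⟩, ⟨5, 1, 1⟩, ⟨6, 1, 1⟩] []) (cond (Nat.blt c 45) (cond (Nat.beq c 44) [⟨70, 1, 1⟩] []) (cond (Nat.beq c 45) [⟨72, 1, 1⟩] [])))))) (cond (Nat.blt c 73) (cond (Nat.blt c 58) (cond (Nat.blt c 50) (cond (Nat.blt c 49) (cond (Nat.beq c 46) [⟨76, 1, 1⟩] []) (cond (Nat.beq c 49) [⟨79, -1, 1⟩] [])) (cond (Nat.blt c 53) (cond (Nat.beq c 50) [⟨81, 1, 1⟩] []) (cond (Nat.blt c 55) (cond (Nat.beq c 53) [⟨84,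 -1, 1⟩] []) (cond (Nat.beq c 55) [⟨86, 1, 1⟩] [])))) (cond (Nat.blt c 63) (cond (Nat.blt c 60) (cond (Nat.beq c 58) [⟨89, -1, 1⟩] []) (cond (Nat.beq c 60) [⟨90, 1, 1⟩] [])) (cond (Nat.blt c 67) (cond (Nat.beq c 63) [⟨93, -1, 1⟩] []) (cond (Nat.blt c 69) (cond (Nat.beq c 67) [⟨94, -1, 1⟩] []) (cond (Nat.beq c 69) [⟨95, -1, 1⟩] []))))) (cond (Nat.blt c 104) (cond (Nat.blt c 100) (cond (Nat.blt c 74) (cond (Nat.beq c 73) [⟨98, -1, 1⟩] []) (cond (Nat.beq c 74) [⟨99, -1, 1⟩] [])) (cond (Nat.blt c 101) (cond (Nat.beq c 100) [⟨112, 1, 1⟩] []) (cond (Nat.blt c 103) (cond (Nat.beq c 101) [⟨118, 1, 1⟩] []) (cond (Nat.beq c 103) [⟨123, -1, 1⟩] [])))) (cond (Nat.blt c 108) (cond (Nat.blt c 107) (cond (Nat.beq c 104) [⟨124, -1, 1⟩] []) (cond (Nat.beq c 107) [⟨127, -1, 1⟩] [])) (cond (Nat.blt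 c 113) (cond (Nat.beq c 108) [⟨128, -1, 1⟩] []) (cond (Nat.blt c 119) (cond (Nat.beq c 113) [⟨130, 1, 1⟩] []) (cond (Nat.beq c 119) [⟨131, 1, 1⟩] []))))))

/-- Compiled columns of `x_90` for type E7. -/
def colsE7_90 (c : ℕ) : List CEnt :=
  cond (Nat.blt c 47) (cond (Nat.blt c 13) (cond (Nat.blt c 5) (cond (Nat.blt c 2) (cond (Nat.blt c 1) (cond (Nat.beq c 0) [⟨97, 1, 1⟩] []) (cond (Nat.beq c 1) [⟨97, 0, 1⟩] [])) (cond (Nat.blt c 3) (cond (Nat.beq c 2) [⟨97, 0, 1⟩] []) (cond (Nat.blt c 4) (cond (Nat.beq c 3) [⟨97, 0, 1⟩] []) (cond (Nat.beq c 4) [⟨97, -1, 1⟩] [])))) (cond (Nat.blt c 8) (cond (Nat.blt c 6) (cond (Nat.beq c 5) [⟨97, 0, 1⟩] []) (cond (Nat.beq c 6) [⟨97, 1, 1⟩] [])) (cond (Nat.blt c 9) (cond (Nat.beq c 8) [⟨21, -1, 1⟩] []) (cond (Nat.blt c 10) (cond (Nat.beq c 9)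 [⟨27, -1, 1⟩] []) (cond (Nat.beq c 10) [⟨30, -1, 1⟩] []))))) (cond (Nat.blt c 40) (cond (Nat.blt c 17) (cond (Nat.blt c 14) (cond (Nat.beq c 13) [⟨33, -1, 1⟩] []) (cond (Nat.beq c 14) [⟨34, -1, 1⟩] [])) (cond (Nat.blt c 20) (cond (Nat.beq c 17) [⟨37, -1, 1⟩] []) (cond (Nat.blt c 26) (cond (Nat.beq c 20) [⟨38, -1, 1⟩] []) (cond (Nat.beq c 26) [⟨39, -1, 1⟩] [])))) (cond (Nat.blt c 42) (cond (Nat.blt c 41) (cond (Nat.beq c 40) [⟨67, -1, 1⟩] []) (cond (Nat.beq c 41) [⟨69, 1, 1⟩] [])) (cond (Nat.blt c 44) (cond (Nat.beq c 42) [⟨97, -1, 2⟩, ⟨0, 0, 1⟩, ⟨1, 1, 1⟩, ⟨2, 1, 1⟩, ⟨3, 2, 1⟩, ⟨4, 2, 1⟩, ⟨5, 1, 1⟩, ⟨6, 0, 1⟩] []) (cond (Nat.blt c 45) (cond (Nat.beq c 44) [⟨73, 1, 1⟩] []) (cond (Nat.beq c 45) [⟨74, -1, 1⟩] [])))))) (cond (Nat.blt c 70) (cond (Nat.blt c 57) (cond (Nat.blt c 51)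 (cond (Nat.blt c 48) (cond (Nat.beq c 47) [⟨77, 1, 1⟩] []) (cond (Nat.beq c 48) [⟨78, -1, 1⟩] [])) (cond (Nat.blt c 52) (cond (Nat.beq c 51) [⟨82, 1, 1⟩] []) (cond (Nat.blt c 56) (cond (Nat.beq c 52) [⟨83, -1, 1⟩] []) (cond (Nat.beq c 56) [⟨87, 1, 1⟩] [])))) (cond (Nat.blt c 62) (cond (Nat.blt c 61) (cond (Nat.beq c 57) [⟨88, -1, 1⟩] []) (cond (Nat.beq c 61) [⟨91, 1, 1⟩] [])) (cond (Nat.blt c 65) (cond (Nat.beq c 62) [⟨92, -1, 1⟩] []) (cond (Nat.blt c 66) (cond (Nat.beq c 65) [⟨94, 1, 1⟩] []) (cond (Nat.beq c 66) [⟨95, -1, 1⟩] []))))) (cond (Nat.blt c 105) (cond (Nat.blt c 100) (cond (Nat.blt c 72) (cond (Nat.beq c 70) [⟨98, -1, 1⟩] []) (cond (Nat.beq c 72) [⟨99, 1, 1⟩] [])) (cond (Nat.blt c 101) (cond (Nat.beq c 100) [⟨113, 1, 1⟩] []) (cond (Nat.blt c 102) (cond (Nat.beq c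 101) [⟨119, 1, 1⟩] []) (cond (Nat.beq c 102) [⟨122, 1, 1⟩] [])))) (cond (Nat.blt c 109) (cond (Nat.blt c 106) (cond (Nat.beq c 105) [⟨125, 1, 1⟩] []) (cond (Nat.beq c 106) [⟨126, 1, 1⟩] [])) (cond (Nat.blt c 112) (cond (Nat.beq c 109) [⟨129, 1, 1⟩] []) (cond (Nat.blt c 118) (cond (Nat.beq c 112) [⟨130, 1, 1⟩] []) (cond (Nat.beq c 118) [⟨131, 1, 1⟩] []))))))

/-- Compiled columns of `x_91` for type E7. -/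
def colsE7_91 (c : ℕ) : List CEnt :=
  cond (Nat.blt c 46) (cond (Nat.blt c 12) (cond (Nat.blt c 5) (cond (Nat.blt c 2) (cond (Nat.blt c 1) (cond (Nat.beq c 0) [⟨98, 1, 1⟩] []) (cond (Nat.beq c 1) [⟨98, 0, 1⟩] [])) (cond (Nat.blt c 3) (cond (Nat.beq c 2) [⟨98, 0, 1⟩] []) (cond (Nat.blt c 4) (cond (Nat.beq c 3) [⟨98, 0, 1⟩] []) (cond (Nat.beq c 4) [⟨98, -1, 1⟩] [])))) (cond (Nat.blt c 8) (cond (Nat.blt c 6) (cond (Nat.beq c 5) [⟨98, 1, 1⟩] []) (cond (Nat.beq c 6) [⟨98, -1, 1⟩] [])) (cond (Nat.blt c 9) (cond (Nat.beq c 8) [⟨22, 1, 1⟩] []) (cond (Nat.blt c 10) (cond (Nat.beq c 9) [⟨28, 1, 1⟩] []) (cond (Nat.beq c 10) [⟨31, 1, 1⟩] []))))) (cond (Nat.blt c 40) (cond (Nat.blt c 16) (cond (Nat.blt c 14) (cond (Nat.beq c 12) [⟨33, -1, 1⟩] []) (cond (Nat.beq c 14) [⟨35, 1, 1⟩] [])) (cond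 (Nat.blt c 19) (cond (Nat.beq c 16) [⟨37, -1, 1⟩] []) (cond (Nat.blt c 25) (cond (Nat.beq c 19) [⟨38, -1, 1⟩] []) (cond (Nat.beq c 25) [⟨39, -1, 1⟩] [])))) (cond (Nat.blt c 42) (cond (Nat.blt c 41) (cond (Nat.beq c 40) [⟨68, 1, 1⟩] []) (cond (Nat.beq c 41) [⟨98, -1, 2⟩, ⟨0, 0, 1⟩, ⟨1, 1, 1⟩, ⟨2, 1, 1⟩, ⟨3, 2, 1⟩, ⟨4, 2, 1⟩, ⟨5, 1, 1⟩, ⟨6, 1, 1⟩] [])) (cond (Nat.blt c 43) (cond (Nat.beq c 42) [⟨70, 1, 1⟩] []) (cond (Nat.blt c 45) (cond (Nat.beq c 43) [⟨73, 1, 1⟩] []) (cond (Nat.beq c 45) [⟨75, -1, 1⟩] [])))))) (cond (Nat.blt c 69) (cond (Nat.blt c 57) (cond (Nat.blt c 50) (cond (Nat.blt c 48) (cond (Nat.beq c 46) [⟨77, 1, 1⟩] []) (cond (Nat.beq c 48) [⟨79, -1, 1⟩] [])) (cond (Nat.blt c 52) (cond (Nat.beq c 50) [⟨82, 1, 1⟩] []) (cond (Nat.blt c 55) (cond (Nat.beq c 52) [⟨84, -1,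 1⟩] []) (cond (Nat.beq c 55) [⟨87, 1, 1⟩] [])))) (cond (Nat.blt c 62) (cond (Nat.blt c 60) (cond (Nat.beq c 57) [⟨89, -1, 1⟩] []) (cond (Nat.beq c 60) [⟨91, 1, 1⟩] [])) (cond (Nat.blt c 64) (cond (Nat.beq c 62) [⟨93, -1, 1⟩] []) (cond (Nat.blt c 66) (cond (Nat.beq c 64) [⟨94, 1, 1⟩] []) (cond (Nat.beq c 66) [⟨96, -1, 1⟩] []))))) (cond (Nat.blt c 104) (cond (Nat.blt c 100) (cond (Nat.blt c 71) (cond (Nat.beq c 69) [⟨97, -1, 1⟩] []) (cond (Nat.beq c 71) [⟨99, -1, 1⟩] [])) (cond (Nat.blt c 101) (cond (Nat.beq c 100) [⟨114, 1, 1⟩] []) (cond (Nat.blt c 102) (cond (Nat.beq c 101) [⟨120, 1, 1⟩] []) (cond (Nat.beq c 102) [⟨123, 1, 1⟩] [])))) (cond (Nat.blt c 108) (cond (Nat.blt c 106) (cond (Nat.beq c 104) [⟨125, -1, 1⟩] []) (cond (Nat.beq c 106) [⟨127, 1, 1⟩] [])) (cond (Nat.blt c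 111) (cond (Nat.beq c 108) [⟨129, -1, 1⟩] []) (cond (Nat.blt c 117) (cond (Nat.beq c 111) [⟨130, -1, 1⟩] []) (cond (Nat.beq c 117) [⟨131, -1, 1⟩] []))))))

/-- Compiled columns of `x_92` for type E7. -/
def colsE7_92 (c : ℕ) : List CEnt :=
  cond (Nat.blt c 46) (cond (Nat.blt c 11) (cond (Nat.blt c 5) (cond (Nat.blt c 2) (cond (Nat.blt c 1) (cond (Nat.beq c 0) [⟨99, 1, 1⟩] []) (cond (Nat.beq c 1) [⟨99, 0, 1⟩] [])) (cond (Nat.blt c 3) (cond (Nat.beq c 2) [⟨99, 0, 1⟩] []) (cond (Nat.blt c 4) (cond (Nat.beq c 3) [⟨99, 0, 1⟩] []) (cond (Nat.beq c 4) [⟨99, 0, 1⟩] [])))) (cond (Nat.blt c 8) (cond (Nat.blt c 6) (cond (Nat.beq c 5) [⟨99, -1, 1⟩] []) (cond (Nat.beq c 6) [⟨99, 0, 1⟩] [])) (cond (Nat.blt c 9) (cond (Nat.beq c 8) [⟨23, -1, 1⟩] []) (cond (Nat.blt c 10) (cond (Nat.beq c 9)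 [⟨29, -1, 1⟩] []) (cond (Nat.beq c 10) [⟨32, -1, 1⟩] []))))) (cond (Nat.blt c 40) (cond (Nat.blt c 15) (cond (Nat.blt c 14) (cond (Nat.beq c 11) [⟨33, -1, 1⟩] []) (cond (Nat.beq c 14) [⟨36, -1, 1⟩] [])) (cond (Nat.blt c 18) (cond (Nat.beq c 15) [⟨37, -1, 1⟩] []) (cond (Nat.blt c 24) (cond (Nat.beq c 18) [⟨38, -1, 1⟩] []) (cond (Nat.beq c 24) [⟨39, -1, 1⟩] [])))) (cond (Nat.blt c 42) (cond (Nat.blt c 41) (cond (Nat.beq c 40) [⟨99, -1, 2⟩, ⟨0, 0, 1⟩, ⟨1, 1, 1⟩, ⟨2, 1, 1⟩, ⟨3, 2, 1⟩, ⟨4, 2, 1⟩, ⟨5, 2, 1⟩, ⟨6, 1, 1⟩] []) (cond (Nat.beq c 41) [⟨71, 1, 1⟩] [])) (cond (Nat.blt c 43) (cond (Nat.beq c 42) [⟨72, -1, 1⟩] []) (cond (Nat.blt c 44) (cond (Nat.beq c 43) [⟨74, 1, 1⟩] []) (cond (Nat.beq c 44) [⟨75, -1, 1⟩] [])))))) (cond (Nat.blt c 67) (cond (Nat.blt c 56) (cond (Nat.blt c 50)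 (cond (Nat.blt c 47) (cond (Nat.beq c 46) [⟨78, 1, 1⟩] []) (cond (Nat.beq c 47) [⟨79, -1, 1⟩] [])) (cond (Nat.blt c 51) (cond (Nat.beq c 50) [⟨83, 1, 1⟩] []) (cond (Nat.blt c 55) (cond (Nat.beq c 51) [⟨84, -1, 1⟩] []) (cond (Nat.beq c 55) [⟨88, 1, 1⟩] [])))) (cond (Nat.blt c 61) (cond (Nat.blt c 60) (cond (Nat.beq c 56) [⟨89, -1, 1⟩] []) (cond (Nat.beq c 60) [⟨92, 1, 1⟩] [])) (cond (Nat.blt c 64) (cond (Nat.beq c 61) [⟨93, -1, 1⟩] []) (cond (Nat.blt c 65) (cond (Nat.beq c 64) [⟨95, 1, 1⟩] []) (cond (Nat.beq c 65) [⟨96, -1, 1⟩] []))))) (cond (Nat.blt c 103) (cond (Nat.blt c 100) (cond (Nat.blt c 68) (cond (Nat.beq c 67) [⟨97, 1, 1⟩] []) (cond (Nat.beq c 68) [⟨98, -1, 1⟩] [])) (cond (Nat.blt c 101) (cond (Nat.beq c 100) [⟨115, 1, 1⟩] []) (cond (Nat.blt c 102) (cond (Nat.beq c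 101) [⟨121, 1, 1⟩] []) (cond (Nat.beq c 102) [⟨124, 1, 1⟩] [])))) (cond (Nat.blt c 107) (cond (Nat.blt c 106) (cond (Nat.beq c 103) [⟨125, 1, 1⟩] []) (cond (Nat.beq c 106) [⟨128, 1, 1⟩] [])) (cond (Nat.blt c 110) (cond (Nat.beq c 107) [⟨129, 1, 1⟩] []) (cond (Nat.blt c 116) (cond (Nat.beq c 110) [⟨130, 1, 1⟩] []) (cond (Nat.beq c 116) [⟨131, 1, 1⟩] []))))))

/-- Compiled columns of `x_93` for type E7. -/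
def colsE7_93 (c : ℕ) : List CEnt :=
  cond (Nat.blt c 36) (cond (Nat.blt c 26) (cond (Nat.blt c 5) (cond (Nat.blt c 2) (cond (Nat.blt c 1) (cond (Nat.beq c 0) [⟨100, -2, 1⟩] []) (cond (Nat.beq c 1) [⟨100, 0, 1⟩] [])) (cond (Nat.blt c 3) (cond (Nat.beq c 2) [⟨100, 1, 1⟩] []) (cond (Nat.blt c 4) (cond (Nat.beq c 3) [⟨100, 0, 1⟩] []) (cond (Nat.beq c 4) [⟨100, 0, 1⟩] [])))) (cond (Nat.blt c 7) (cond (Nat.blt c 6) (cond (Nat.beq c 5) [⟨100, 0, 1⟩] []) (cond (Nat.beq c 6) [⟨100, 0, 1⟩] [])) (cond (Nat.blt c 24) (cond (Nat.beq c 7) [⟨8, -1, 1⟩] []) (cond (Nat.blt c 25) (cond (Nat.beq c 24) [⟨40, 1, 1⟩] []) (cond (Nat.beq c 25) [⟨41, 1, 1⟩] []))))) (cond (Nat.blt c 31) (cond (Nat.blt c 28) (cond (Nat.blt c 27) (cond (Nat.beq c 26) [⟨42, 1, 1⟩] []) (cond (Nat.beq c 27) [⟨43, 1, 1⟩]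 [])) (cond (Nat.blt c 29) (cond (Nat.beq c 28) [⟨44, 1, 1⟩] []) (cond (Nat.blt c 30) (cond (Nat.beq c 29) [⟨45, 1, 1⟩] []) (cond (Nat.beq c 30) [⟨46, 1, 1⟩] [])))) (cond (Nat.blt c 33) (cond (Nat.blt c 32) (cond (Nat.beq c 31) [⟨47, 1, 1⟩] []) (cond (Nat.beq c 32) [⟨48, 1, 1⟩] [])) (cond (Nat.blt c 34) (cond (Nat.beq c 33) [⟨49, 1, 1⟩] []) (cond (Nat.blt c 35) (cond (Nat.beq c 34) [⟨55, 1, 1⟩] []) (cond (Nat.beq c 35) [⟨56, 1, 1⟩] [])))))) (cond (Nat.blt c 91) (cond (Nat.blt c 81) (cond (Nat.blt c 38) (cond (Nat.blt c 37) (cond (Nat.beq c 36) [⟨57, 1, 1⟩] []) (cond (Nat.beq c 37) [⟨58, 1, 1⟩] [])) (cond (Nat.blt c 39) (cond (Nat.beq c 38) [⟨59, 1, 1⟩] []) (cond (Nat.blt c 80) (cond (Nat.beq c 39) [⟨100, -1, 2⟩, ⟨0, 1, 1⟩, ⟨1, 0, 1⟩, ⟨2, 0, 1⟩, ⟨3, 0, 1⟩, ⟨4, 0, 1⟩, ⟨5, 0, 1⟩,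 ⟨6, 0, 1⟩] []) (cond (Nat.beq c 80) [⟨101, -1, 1⟩] [])))) (cond (Nat.blt c 83) (cond (Nat.blt c 82) (cond (Nat.beq c 81) [⟨102, -1, 1⟩] []) (cond (Nat.beq c 82) [⟨103, -1, 1⟩] [])) (cond (Nat.blt c 84) (cond (Nat.beq c 83) [⟨104, -1, 1⟩] []) (cond (Nat.blt c 90) (cond (Nat.beq c 84) [⟨105, -1, 1⟩] []) (cond (Nat.beq c 90) [⟨106, -1, 1⟩] []))))) (cond (Nat.blt c 96) (cond (Nat.blt c 93) (cond (Nat.blt c 92) (cond (Nat.beq c 91) [⟨107, -1, 1⟩] []) (cond (Nat.beq c 92) [⟨108, -1, 1⟩] [])) (cond (Nat.blt c 94) (cond (Nat.beq c 93) [⟨109, -1, 1⟩] []) (cond (Nat.blt c 95) (cond (Nat.beq c 94) [⟨110, -1, 1⟩] []) (cond (Nat.beq c 95) [⟨111, -1, 1⟩] [])))) (cond (Nat.blt c 98) (cond (Nat.blt c 97) (cond (Nat.beq c 96) [⟨112, -1, 1⟩] []) (cond (Nat.beq c 97) [⟨113, -1, 1⟩] [])) (cond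 (Nat.blt c 99) (cond (Nat.beq c 98) [⟨114, -1, 1⟩] []) (cond (Nat.blt c 131) (cond (Nat.beq c 99) [⟨115, -1, 1⟩] []) (cond (Nat.beq c 131) [⟨132, 1, 1⟩] []))))))

/-- Compiled columns of `x_94` for type E7. -/
def colsE7_94 (c : ℕ) : List CEnt :=
  cond (Nat.blt c 36) (cond (Nat.blt c 20) (cond (Nat.blt c 5) (cond (Nat.blt c 2) (cond (Nat.blt c 1) (cond (Nat.beq c 0) [⟨101, -1, 1⟩] []) (cond (Nat.beq c 1) [⟨101, 0, 1⟩] [])) (cond (Nat.blt c 3) (cond (Nat.beq c 2) [⟨101, -1, 1⟩] []) (cond (Nat.blt c 4) (cond (Nat.beq c 3) [⟨101, 1, 1⟩] []) (cond (Nat.beq c 4) [⟨101, 0, 1⟩] [])))) (cond (Nat.blt c 7) (cond (Nat.blt c 6) (cond (Nat.beq c 5) [⟨101, 0, 1⟩] []) (cond (Nat.beq c 6) [⟨101, 0, 1⟩] [])) (cond (Nat.blt c 18) (cond (Nat.beq c 7) [⟨9, 1, 1⟩] []) (cond (Nat.blt c 19) (cond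 (Nat.beq c 18) [⟨40, 1, 1⟩] []) (cond (Nat.beq c 19) [⟨41, 1, 1⟩] []))))) (cond (Nat.blt c 31) (cond (Nat.blt c 22) (cond (Nat.blt c 21) (cond (Nat.beq c 20) [⟨42, 1, 1⟩] []) (cond (Nat.beq c 21) [⟨43, 1, 1⟩] [])) (cond (Nat.blt c 23) (cond (Nat.beq c 22) [⟨44, 1, 1⟩] []) (cond (Nat.blt c 30) (cond (Nat.beq c 23) [⟨45, 1, 1⟩] []) (cond (Nat.beq c 30) [⟨50, -1, 1⟩] [])))) (cond (Nat.blt c 33) (cond (Nat.blt c 32) (cond (Nat.beq c 31) [⟨51, -1, 1⟩] []) (cond (Nat.beq c 32) [⟨52, -1, 1⟩] [])) (cond (Nat.blt c 34) (cond (Nat.beq c 33) [⟨53, -1, 1⟩] []) (cond (Nat.blt c 35) (cond (Nat.beq c 34) [⟨60, 1, 1⟩] []) (cond (Nat.beq c 35) [⟨61, 1, 1⟩] [])))))) (cond (Nat.blt c 87) (cond (Nat.blt c 76) (cond (Nat.blt c 38) (cond (Nat.blt c 37) (cond (Nat.beq c 36) [⟨62, 1, 1⟩] []) (cond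 (Nat.beq c 37) [⟨63, 1, 1⟩] [])) (cond (Nat.blt c 39) (cond (Nat.beq c 38) [⟨101, -1, 2⟩, ⟨0, 1, 1⟩, ⟨1, 0, 1⟩, ⟨2, 1, 1⟩, ⟨3, 0, 1⟩, ⟨4, 0, 1⟩, ⟨5, 0, 1⟩, ⟨6, 0, 1⟩] []) (cond (Nat.blt c 59) (cond (Nat.beq c 39) [⟨80, 1, 1⟩] []) (cond (Nat.beq c 59) [⟨100, -1, 1⟩] [])))) (cond (Nat.blt c 78) (cond (Nat.blt c 77) (cond (Nat.beq c 76) [⟨102, -1, 1⟩] []) (cond (Nat.beq c 77) [⟨103, -1, 1⟩] [])) (cond (Nat.blt c 79) (cond (Nat.beq c 78) [⟨104, -1, 1⟩] []) (cond (Nat.blt c 86) (cond (Nat.beq c 79) [⟨105, -1, 1⟩] []) (cond (Nat.beq c 86) [⟨106, 1, 1⟩] []))))) (cond (Nat.blt c 96) (cond (Nat.blt c 89) (cond (Nat.blt c 88) (cond (Nat.beq c 87) [⟨107, 1, 1⟩] []) (cond (Nat.beq c 88) [⟨108, 1, 1⟩] [])) (cond (Nat.blt c 94) (cond (Nat.beq c 89) [⟨109, 1, 1⟩] []) (cond (Nat.blt c 95) (cond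 (Nat.beq c 94) [⟨116, -1, 1⟩] []) (cond (Nat.beq c 95) [⟨117, -1, 1⟩] [])))) (cond (Nat.blt c 98) (cond (Nat.blt c 97) (cond (Nat.beq c 96) [⟨118, -1, 1⟩] []) (cond (Nat.beq c 97) [⟨119, -1, 1⟩] [])) (cond (Nat.blt c 99) (cond (Nat.beq c 98) [⟨120, -1, 1⟩] []) (cond (Nat.blt c 130) (cond (Nat.beq c 99) [⟨121, -1, 1⟩] []) (cond (Nat.beq c 130) [⟨132, -1, 1⟩] []))))))

/-- Compiled columns of `x_95` for type E7. -/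
def colsE7_95 (c : ℕ) : List CEnt :=
  cond (Nat.blt c 36) (cond (Nat.blt c 17) (cond (Nat.blt c 5) (cond (Nat.blt c 2) (cond (Nat.blt c 1) (cond (Nat.beq c 0) [⟨102, -1, 1⟩] []) (cond (Nat.beq c 1) [⟨102, 1, 1⟩] [])) (cond (Nat.blt c 3) (cond (Nat.beq c 2) [⟨102, 0, 1⟩] []) (cond (Nat.blt c 4) (cond (Nat.beq c 3) [⟨102, -1, 1⟩] []) (cond (Nat.beq c 4) [⟨102, 1, 1⟩] [])))) (cond (Nat.blt c 7) (cond (Nat.blt c 6) (cond (Nat.beq c 5) [⟨102, 0, 1⟩] []) (cond (Nat.beq c 6) [⟨102, 0, 1⟩] [])) (cond (Nat.blt c 15) (cond (Nat.beq c 7) [⟨10, -1, 1⟩] []) (cond (Nat.blt c 16) (cond (Nat.beq c 15) [⟨40, 1, 1⟩] []) (cond (Nat.beq c 16) [⟨41, 1, 1⟩] []))))) (cond (Nat.blt c 28) (cond (Nat.blt c 22) (cond (Nat.blt c 21) (cond (Nat.beq c 17) [⟨42, 1, 1⟩] []) (cond (Nat.beq c 21) [⟨46, -1,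 1⟩] [])) (cond (Nat.blt c 23) (cond (Nat.beq c 22) [⟨47, -1, 1⟩] []) (cond (Nat.blt c 27) (cond (Nat.beq c 23) [⟨48, -1, 1⟩] []) (cond (Nat.beq c 27) [⟨50, -1, 1⟩] [])))) (cond (Nat.blt c 33) (cond (Nat.blt c 29) (cond (Nat.beq c 28) [⟨51, -1, 1⟩] []) (cond (Nat.beq c 29) [⟨52, -1, 1⟩] [])) (cond (Nat.blt c 34) (cond (Nat.beq c 33) [⟨54, 1, 1⟩] []) (cond (Nat.blt c 35) (cond (Nat.beq c 34) [⟨64, 1, 1⟩] []) (cond (Nat.beq c 35) [⟨65, 1, 1⟩] [])))))) (cond (Nat.blt c 87) (cond (Nat.blt c 63) (cond (Nat.blt c 38) (cond (Nat.blt c 37) (cond (Nat.beq c 36) [⟨66, 1, 1⟩] []) (cond (Nat.beq c 37) [⟨102, -1, 2⟩, ⟨0, 1, 1⟩, ⟨1, 0, 1⟩, ⟨2, 1, 1⟩, ⟨3, 1, 1⟩, ⟨4, 0, 1⟩, ⟨5, 0, 1⟩, ⟨6, 0, 1⟩] [])) (cond (Nat.blt c 39) (cond (Nat.beq c 38) [⟨76, 1, 1⟩] []) (cond (Nat.blt c 58) (cond (Nat.beq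 c 39) [⟨81, 1, 1⟩] []) (cond (Nat.beq c 58) [⟨100, -1, 1⟩] [])))) (cond (Nat.blt c 74) (cond (Nat.blt c 73) (cond (Nat.beq c 63) [⟨101, -1, 1⟩] []) (cond (Nat.beq c 73) [⟨103, -1, 1⟩] [])) (cond (Nat.blt c 75) (cond (Nat.beq c 74) [⟨104, -1, 1⟩] []) (cond (Nat.blt c 85) (cond (Nat.beq c 75) [⟨105, -1, 1⟩] []) (cond (Nat.beq c 85) [⟨106, -1, 1⟩] []))))) (cond (Nat.blt c 93) (cond (Nat.blt c 89) (cond (Nat.blt c 88) (cond (Nat.beq c 87) [⟨110, 1, 1⟩] []) (cond (Nat.beq c 88) [⟨111, 1, 1⟩] [])) (cond (Nat.blt c 91) (cond (Nat.beq c 89) [⟨112, 1, 1⟩] []) (cond (Nat.blt c 92) (cond (Nat.beq c 91) [⟨116, 1, 1⟩] []) (cond (Nat.beq c 92) [⟨117, 1, 1⟩] [])))) (cond (Nat.blt c 98) (cond (Nat.blt c 97) (cond (Nat.beq c 93) [⟨118, 1, 1⟩] []) (cond (Nat.beq c 97) [⟨122, -1, 1⟩] [])) (cond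 (Nat.blt c 99) (cond (Nat.beq c 98) [⟨123, -1, 1⟩] []) (cond (Nat.blt c 129) (cond (Nat.beq c 99) [⟨124, -1, 1⟩] []) (cond (Nat.beq c 129) [⟨132, 1, 1⟩] []))))))

/-- Compiled columns of `x_96` for type E7. -/
def colsE7_96 (c : ℕ) : List CEnt :=
  cond (Nat.blt c 36) (cond (Nat.blt c 17) (cond (Nat.blt c 5) (cond (Nat.blt c 2) (cond (Nat.blt c 1) (cond (Nat.beq c 0) [⟨103, -1, 1⟩] []) (cond (Nat.beq c 1) [⟨103, 1, 1⟩] [])) (cond (Nat.blt c 3) (cond (Nat.beq c 2) [⟨103, 0, 1⟩] []) (cond (Nat.blt c 4) (cond (Nat.beq c 3) [⟨103, 0, 1⟩] []) (cond (Nat.beq c 4) [⟨103, -1, 1⟩] [])))) (cond (Nat.blt c 7) (cond (Nat.blt c 6) (cond (Nat.beq c 5) [⟨103, 1, 1⟩] []) (cond (Nat.beq c 6) [⟨103, 0, 1⟩] [])) (cond (Nat.blt c 14) (cond (Nat.beq c 7) [⟨11, 1, 1⟩] []) (cond (Nat.blt c 16) (cond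 (Nat.beq c 14) [⟨40, 1, 1⟩] []) (cond (Nat.beq c 16) [⟨43, -1, 1⟩] []))))) (cond (Nat.blt c 26) (cond (Nat.blt c 20) (cond (Nat.blt c 19) (cond (Nat.beq c 17) [⟨44, -1, 1⟩] []) (cond (Nat.beq c 19) [⟨46, -1, 1⟩] [])) (cond (Nat.blt c 23) (cond (Nat.beq c 20) [⟨47, -1, 1⟩] []) (cond (Nat.blt c 25) (cond (Nat.beq c 23) [⟨49, 1, 1⟩] []) (cond (Nat.beq c 25) [⟨50, -1, 1⟩] [])))) (cond (Nat.blt c 32) (cond (Nat.blt c 29) (cond (Nat.beq c 26) [⟨51, -1, 1⟩] []) (cond (Nat.beq c 29) [⟨53, 1, 1⟩] [])) (cond (Nat.blt c 34) (cond (Nat.beq c 32) [⟨54, 1, 1⟩] []) (cond (Nat.blt c 35) (cond (Nat.beq c 34) [⟨67, 1, 1⟩] []) (cond (Nat.beq c 35) [⟨68, 1, 1⟩] [])))))) (cond (Nat.blt c 86) (cond (Nat.blt c 62) (cond (Nat.blt c 38) (cond (Nat.blt c 37) (cond (Nat.beq c 36) [⟨103, -1, 2⟩, ⟨0, 1,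 1⟩, ⟨1, 0, 1⟩, ⟨2, 1, 1⟩, ⟨3, 1, 1⟩, ⟨4, 1, 1⟩, ⟨5, 0, 1⟩, ⟨6, 0, 1⟩] []) (cond (Nat.beq c 37) [⟨73, 1, 1⟩] [])) (cond (Nat.blt c 39) (cond (Nat.beq c 38) [⟨77, 1, 1⟩] []) (cond (Nat.blt c 57) (cond (Nat.beq c 39) [⟨82, 1, 1⟩] []) (cond (Nat.beq c 57) [⟨100, -1, 1⟩] [])))) (cond (Nat.blt c 71) (cond (Nat.blt c 66) (cond (Nat.beq c 62) [⟨101, -1, 1⟩] []) (cond (Nat.beq c 66) [⟨102, -1, 1⟩] [])) (cond (Nat.blt c 72) (cond (Nat.beq c 71) [⟨104, -1, 1⟩] []) (cond (Nat.blt c 85) (cond (Nat.beq c 72) [⟨105, -1, 1⟩] []) (cond (Nat.beq c 85) [⟨107, -1, 1⟩] []))))) (cond (Nat.blt c 93) (cond (Nat.blt c 89) (cond (Nat.blt c 88) (cond (Nat.beq c 86) [⟨110, -1, 1⟩] []) (cond (Nat.beq c 88) [⟨113, 1, 1⟩] [])) (cond (Nat.blt c 90) (cond (Nat.beq c 89) [⟨114, 1, 1⟩] []) (cond (Nat.blt c 92)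 (cond (Nat.beq c 90) [⟨116, -1, 1⟩] []) (cond (Nat.beq c 92) [⟨119, 1, 1⟩] [])))) (cond (Nat.blt c 96) (cond (Nat.blt c 95) (cond (Nat.beq c 93) [⟨120, 1, 1⟩] []) (cond (Nat.beq c 95) [⟨122, 1, 1⟩] [])) (cond (Nat.blt c 99) (cond (Nat.beq c 96) [⟨123, 1, 1⟩] []) (cond (Nat.blt c 128) (cond (Nat.beq c 99) [⟨125, -1, 1⟩] []) (cond (Nat.beq c 128) [⟨132, -1, 1⟩] []))))))

/-- Compiled columns of `x_97` for type E7. -/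
def colsE7_97 (c : ℕ) : List CEnt :=
  cond (Nat.blt c 36) (cond (Nat.blt c 17) (cond (Nat.blt c 5) (cond (Nat.blt c 2) (cond (Nat.blt c 1) (cond (Nat.beq c 0) [⟨104, -1, 1⟩] []) (cond (Nat.beq c 1) [⟨104, 1, 1⟩] [])) (cond (Nat.blt c 3) (cond (Nat.beq c 2) [⟨104, 0, 1⟩] []) (cond (Nat.blt c 4) (cond (Nat.beq c 3) [⟨104, 0, 1⟩] []) (cond (Nat.beq c 4) [⟨104, 0, 1⟩] [])))) (cond (Nat.blt c 7) (cond (Nat.blt c 6) (cond (Nat.beq c 5) [⟨104, -1, 1⟩] []) (cond (Nat.beq c 6) [⟨104, 1, 1⟩] [])) (cond (Nat.blt c 14) (cond (Nat.beq c 7) [⟨12, -1, 1⟩] []) (cond (Nat.blt c 15) (cond (Nat.beq c 14) [⟨41, -1, 1⟩] []) (cond (Nat.beq c 15) [⟨43, -1, 1⟩] []))))) (cond (Nat.blt c 26) (cond (Nat.blt c 20) (cond (Nat.blt c 18) (cond (Nat.beq c 17) [⟨45, 1, 1⟩] []) (cond (Nat.beq c 18) [⟨46, -1,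 1⟩] [])) (cond (Nat.blt c 22) (cond (Nat.beq c 20) [⟨48, 1, 1⟩] []) (cond (Nat.blt c 24) (cond (Nat.beq c 22) [⟨49, 1, 1⟩] []) (cond (Nat.beq c 24) [⟨50, -1, 1⟩] [])))) (cond (Nat.blt c 31) (cond (Nat.blt c 28) (cond (Nat.beq c 26) [⟨52, 1, 1⟩] []) (cond (Nat.beq c 28) [⟨53, 1, 1⟩] [])) (cond (Nat.blt c 34) (cond (Nat.beq c 31) [⟨54, 1, 1⟩] []) (cond (Nat.blt c 35) (cond (Nat.beq c 34) [⟨69, 1, 1⟩] []) (cond (Nat.beq c 35) [⟨104, -1, 2⟩, ⟨0, 1, 1⟩, ⟨1, 0, 1⟩, ⟨2, 1, 1⟩, ⟨3, 1, 1⟩, ⟨4, 1, 1⟩, ⟨5, 1, 1⟩, ⟨6, 0, 1⟩] [])))))) (cond (Nat.blt c 86) (cond (Nat.blt c 61) (cond (Nat.blt c 38) (cond (Nat.blt c 37) (cond (Nat.beq c 36) [⟨71, 1, 1⟩] []) (cond (Nat.beq c 37) [⟨74, 1, 1⟩] [])) (cond (Nat.blt c 39) (cond (Nat.beq c 38) [⟨78, 1, 1⟩] []) (cond (Nat.blt c 56) (cond (Nat.beq c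 39) [⟨83, 1, 1⟩] []) (cond (Nat.beq c 56) [⟨100, -1, 1⟩] [])))) (cond (Nat.blt c 68) (cond (Nat.blt c 65) (cond (Nat.beq c 61) [⟨101, -1, 1⟩] []) (cond (Nat.beq c 65) [⟨102, -1, 1⟩] [])) (cond (Nat.blt c 70) (cond (Nat.beq c 68) [⟨103, -1, 1⟩] []) (cond (Nat.blt c 85) (cond (Nat.beq c 70) [⟨105, -1, 1⟩] []) (cond (Nat.beq c 85) [⟨108, -1, 1⟩] []))))) (cond (Nat.blt c 93) (cond (Nat.blt c 89) (cond (Nat.blt c 87) (cond (Nat.beq c 86) [⟨111, -1, 1⟩] []) (cond (Nat.beq c 87) [⟨113, -1, 1⟩] [])) (cond (Nat.blt c 90) (cond (Nat.beq c 89) [⟨115, 1, 1⟩] []) (cond (Nat.blt c 91) (cond (Nat.beq c 90) [⟨117, -1, 1⟩] []) (cond (Nat.beq c 91) [⟨119, -1, 1⟩] [])))) (cond (Nat.blt c 96) (cond (Nat.blt c 94) (cond (Nat.beq c 93) [⟨121, 1, 1⟩] []) (cond (Nat.beq c 94) [⟨122, -1, 1⟩] [])) (cond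 (Nat.blt c 98) (cond (Nat.beq c 96) [⟨124, 1, 1⟩] []) (cond (Nat.blt c 127) (cond (Nat.beq c 98) [⟨125, 1, 1⟩] []) (cond (Nat.beq c 127) [⟨132, 1, 1⟩] []))))))

/-- Compiled columns of `x_98` for type E7. -/
def colsE7_98 (c : ℕ) : List CEnt :=
  cond (Nat.blt c 36) (cond (Nat.blt c 16) (cond (Nat.blt c 5) (cond (Nat.blt c 2) (cond (Nat.blt c 1) (cond (Nat.beq c 0) [⟨105, -1, 1⟩] []) (cond (Nat.beq c 1) [⟨105, 1, 1⟩] [])) (cond (Nat.blt c 3) (cond (Nat.beq c 2) [⟨105, 0, 1⟩] []) (cond (Nat.blt c 4) (cond (Nat.beq c 3) [⟨105, 0, 1⟩] []) (cond (Nat.beq c 4) [⟨105, 0, 1⟩] [])))) (cond (Nat.blt c 7) (cond (Nat.blt c 6) (cond (Nat.beq c 5) [⟨105, 0, 1⟩] []) (cond (Nat.beq c 6) [⟨105, -1, 1⟩] [])) (cond (Nat.blt c 14) (cond (Nat.beq c 7) [⟨13, 1, 1⟩] []) (cond (Nat.blt c 15) (cond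 (Nat.beq c 14) [⟨42, 1, 1⟩] []) (cond (Nat.beq c 15) [⟨44, 1, 1⟩] []))))) (cond (Nat.blt c 25) (cond (Nat.blt c 19) (cond (Nat.blt c 18) (cond (Nat.beq c 16) [⟨45, 1, 1⟩] []) (cond (Nat.beq c 18) [⟨47, 1, 1⟩] [])) (cond (Nat.blt c 21) (cond (Nat.beq c 19) [⟨48, 1, 1⟩] []) (cond (Nat.blt c 24) (cond (Nat.beq c 21) [⟨49, 1, 1⟩] []) (cond (Nat.beq c 24) [⟨51, 1, 1⟩] [])))) (cond (Nat.blt c 30) (cond (Nat.blt c 27) (cond (Nat.beq c 25) [⟨52, 1, 1⟩] []) (cond (Nat.beq c 27) [⟨53, 1, 1⟩] [])) (cond (Nat.blt c 34) (cond (Nat.beq c 30) [⟨54, 1, 1⟩] []) (cond (Nat.blt c 35) (cond (Nat.beq c 34) [⟨105, -1, 2⟩, ⟨0, 1, 1⟩, ⟨1, 0, 1⟩, ⟨2, 1, 1⟩, ⟨3, 1, 1⟩, ⟨4, 1, 1⟩, ⟨5, 1, 1⟩, ⟨6, 1, 1⟩] []) (cond (Nat.beq c 35) [⟨70, 1, 1⟩] [])))))) (cond (Nat.blt c 86) (cond (Nat.blt c 60) (cond (Nat.blt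 c 38) (cond (Nat.blt c 37) (cond (Nat.beq c 36) [⟨72, 1, 1⟩] []) (cond (Nat.beq c 37) [⟨75, 1, 1⟩] [])) (cond (Nat.blt c 39) (cond (Nat.beq c 38) [⟨79, 1, 1⟩] []) (cond (Nat.blt c 55) (cond (Nat.beq c 39) [⟨84, 1, 1⟩] []) (cond (Nat.beq c 55) [⟨100, -1, 1⟩] [])))) (cond (Nat.blt c 67) (cond (Nat.blt c 64) (cond (Nat.beq c 60) [⟨101, -1, 1⟩] []) (cond (Nat.beq c 64) [⟨102, -1, 1⟩] [])) (cond (Nat.blt c 69) (cond (Nat.beq c 67) [⟨103, -1, 1⟩] []) (cond (Nat.blt c 85) (cond (Nat.beq c 69) [⟨104, -1, 1⟩] []) (cond (Nat.beq c 85) [⟨109, -1, 1⟩] []))))) (cond (Nat.blt c 92) (cond (Nat.blt c 88) (cond (Nat.blt c 87) (cond (Nat.beq c 86) [⟨112, -1, 1⟩] []) (cond (Nat.beq c 87) [⟨114, -1, 1⟩] [])) (cond (Nat.blt c 90) (cond (Nat.beq c 88) [⟨115, -1, 1⟩] []) (cond (Nat.blt c 91) (cond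 (Nat.beq c 90) [⟨118, -1, 1⟩] []) (cond (Nat.beq c 91) [⟨120, -1, 1⟩] [])))) (cond (Nat.blt c 95) (cond (Nat.blt c 94) (cond (Nat.beq c 92) [⟨121, -1, 1⟩] []) (cond (Nat.beq c 94) [⟨123, -1, 1⟩] [])) (cond (Nat.blt c 97) (cond (Nat.beq c 95) [⟨124, -1, 1⟩] []) (cond (Nat.blt c 126) (cond (Nat.beq c 97) [⟨125, -1, 1⟩] []) (cond (Nat.beq c 126) [⟨132, -1, 1⟩] []))))))

/-- Compiled columns of `x_99` for type E7. -/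
def colsE7_99 (c : ℕ) : List CEnt :=
  cond (Nat.blt c 33) (cond (Nat.blt c 13) (cond (Nat.blt c 5) (cond (Nat.blt c 2) (cond (Nat.blt c 1) (cond (Nat.beq c 0) [⟨106, -1, 1⟩] []) (cond (Nat.beq c 1) [⟨106, -1, 1⟩] [])) (cond (Nat.blt c 3) (cond (Nat.beq c 2) [⟨106, 0, 1⟩] []) (cond (Nat.blt c 4) (cond (Nat.beq c 3) [⟨106, 0, 1⟩] []) (cond (Nat.beq c 4) [⟨106, 1, 1⟩] [])))) (cond (Nat.blt c 7) (cond (Nat.blt c 6) (cond (Nat.beq c 5) [⟨106, 0, 1⟩] []) (cond (Nat.beq c 6) [⟨106, 0, 1⟩] [])) (cond (Nat.blt c 11) (cond (Nat.beq c 7) [⟨14, 1, 1⟩] []) (cond (Nat.blt c 12) (cond (Nat.beq c 11) [⟨40, 1, 1⟩] []) (cond (Nat.beq c 12) [⟨41, 1, 1⟩] []))))) (cond (Nat.blt c 28) (cond (Nat.blt c 22) (cond (Nat.blt c 21) (cond (Nat.beq c 13) [⟨42, 1, 1⟩] []) (cond (Nat.beq c 21) [⟨55, 1, 1⟩]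 [])) (cond (Nat.blt c 23) (cond (Nat.beq c 22) [⟨56, 1, 1⟩] []) (cond (Nat.blt c 27) (cond (Nat.beq c 23) [⟨57, 1, 1⟩] []) (cond (Nat.beq c 27) [⟨60, -1, 1⟩] [])))) (cond (Nat.blt c 30) (cond (Nat.blt c 29) (cond (Nat.beq c 28) [⟨61, -1, 1⟩] []) (cond (Nat.beq c 29) [⟨62, -1, 1⟩] [])) (cond (Nat.blt c 31) (cond (Nat.beq c 30) [⟨64, 1, 1⟩] []) (cond (Nat.blt c 32) (cond (Nat.beq c 31) [⟨65, 1, 1⟩] []) (cond (Nat.beq c 32) [⟨66, 1, 1⟩] [])))))) (cond (Nat.blt c 77) (cond (Nat.blt c 53) (cond (Nat.blt c 38) (cond (Nat.blt c 37) (cond (Nat.beq c 33) [⟨106, -1, 2⟩, ⟨0, 1, 1⟩, ⟨1, 1, 1⟩, ⟨2, 1, 1⟩, ⟨3, 1, 1⟩, ⟨4, 0, 1⟩, ⟨5, 0, 1⟩, ⟨6, 0, 1⟩] []) (cond (Nat.beq c 37) [⟨85, 1, 1⟩] [])) (cond (Nat.blt c 39) (cond (Nat.beq c 38) [⟨86, -1, 1⟩] []) (cond (Nat.blt c 49) (cond (Nat.beq c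 39) [⟨90, 1, 1⟩] []) (cond (Nat.beq c 49) [⟨100, -1, 1⟩] [])))) (cond (Nat.blt c 73) (cond (Nat.blt c 54) (cond (Nat.beq c 53) [⟨101, 1, 1⟩] []) (cond (Nat.beq c 54) [⟨102, -1, 1⟩] [])) (cond (Nat.blt c 74) (cond (Nat.beq c 73) [⟨107, -1, 1⟩] []) (cond (Nat.blt c 75) (cond (Nat.beq c 74) [⟨108, -1, 1⟩] []) (cond (Nat.beq c 75) [⟨109, -1, 1⟩] []))))) (cond (Nat.blt c 84) (cond (Nat.blt c 79) (cond (Nat.blt c 78) (cond (Nat.beq c 77) [⟨110, 1, 1⟩] []) (cond (Nat.beq c 78) [⟨111, 1, 1⟩] [])) (cond (Nat.blt c 82) (cond (Nat.beq c 79) [⟨112, 1, 1⟩] []) (cond (Nat.blt c 83) (cond (Nat.beq c 82) [⟨116, -1, 1⟩] []) (cond (Nat.beq c 83) [⟨117, -1, 1⟩] [])))) (cond (Nat.blt c 98) (cond (Nat.blt c 97) (cond (Nat.beq c 84) [⟨118, -1, 1⟩] []) (cond (Nat.beq c 97) [⟨126, -1, 1⟩] [])) (cond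 (Nat.blt c 99) (cond (Nat.beq c 98) [⟨127, -1, 1⟩] []) (cond (Nat.blt c 125) (cond (Nat.beq c 99) [⟨128, -1, 1⟩] []) (cond (Nat.beq c 125) [⟨132, -1, 1⟩] []))))))

/-- Compiled columns of `x_100` for type E7. -/
def colsE7_100 (c : ℕ) : List CEnt :=
  cond (Nat.blt c 33) (cond (Nat.blt c 13) (cond (Nat.blt c 5) (cond (Nat.blt c 2) (cond (Nat.blt c 1) (cond (Nat.beq c 0) [⟨107, -1, 1⟩] []) (cond (Nat.beq c 1) [⟨107, -1, 1⟩] [])) (cond (Nat.blt c 3) (cond (Nat.beq c 2) [⟨107, 0, 1⟩] []) (cond (Nat.blt c 4) (cond (Nat.beq c 3) [⟨107, 1, 1⟩] []) (cond (Nat.beq c 4) [⟨107, -1, 1⟩] [])))) (cond (Nat.blt c 7) (cond (Nat.blt c 6) (cond (Nat.beq c 5) [⟨107, 1, 1⟩] []) (cond (Nat.beq c 6) [⟨107, 0, 1⟩] [])) (cond (Nat.blt c 10) (cond (Nat.beq c 7) [⟨15, -1, 1⟩] []) (cond (Nat.blt c 12)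 (cond (Nat.beq c 10) [⟨40, 1, 1⟩] []) (cond (Nat.beq c 12) [⟨43, -1, 1⟩] []))))) (cond (Nat.blt c 26) (cond (Nat.blt c 20) (cond (Nat.blt c 19) (cond (Nat.beq c 13) [⟨44, -1, 1⟩] []) (cond (Nat.beq c 19) [⟨55, 1, 1⟩] [])) (cond (Nat.blt c 23) (cond (Nat.beq c 20) [⟨56, 1, 1⟩] []) (cond (Nat.blt c 25) (cond (Nat.beq c 23) [⟨58, -1, 1⟩] []) (cond (Nat.beq c 25) [⟨60, -1, 1⟩] [])))) (cond (Nat.blt c 30) (cond (Nat.blt c 29) (cond (Nat.beq c 26) [⟨61, -1, 1⟩] []) (cond (Nat.beq c 29) [⟨63, 1, 1⟩] [])) (cond (Nat.blt c 31) (cond (Nat.beq c 30) [⟨67, 1, 1⟩] []) (cond (Nat.blt c 32) (cond (Nat.beq c 31) [⟨68, 1, 1⟩] []) (cond (Nat.beq c 32) [⟨107, -1, 2⟩, ⟨0, 1, 1⟩, ⟨1, 1, 1⟩, ⟨2, 1, 1⟩, ⟨3, 1, 1⟩, ⟨4, 1, 1⟩, ⟨5, 0, 1⟩, ⟨6, 0, 1⟩] [])))))) (cond (Nat.blt c 76) (cond (Nat.blt c 52)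 (cond (Nat.blt c 38) (cond (Nat.blt c 36) (cond (Nat.beq c 33) [⟨73, 1, 1⟩] []) (cond (Nat.beq c 36) [⟨85, 1, 1⟩] [])) (cond (Nat.blt c 39) (cond (Nat.beq c 38) [⟨87, -1, 1⟩] []) (cond (Nat.blt c 48) (cond (Nat.beq c 39) [⟨91, 1, 1⟩] []) (cond (Nat.beq c 48) [⟨100, -1, 1⟩] [])))) (cond (Nat.blt c 66) (cond (Nat.blt c 54) (cond (Nat.beq c 52) [⟨101, 1, 1⟩] []) (cond (Nat.beq c 54) [⟨103, -1, 1⟩] [])) (cond (Nat.blt c 71) (cond (Nat.beq c 66) [⟨106, -1, 1⟩] []) (cond (Nat.blt c 72) (cond (Nat.beq c 71) [⟨108, -1, 1⟩] []) (cond (Nat.beq c 72) [⟨109, -1, 1⟩] []))))) (cond (Nat.blt c 84) (cond (Nat.blt c 79) (cond (Nat.blt c 78) (cond (Nat.beq c 76) [⟨110, -1, 1⟩] []) (cond (Nat.beq c 78) [⟨113, 1, 1⟩] [])) (cond (Nat.blt c 81) (cond (Nat.beq c 79) [⟨114, 1, 1⟩] []) (cond (Nat.blt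 c 83) (cond (Nat.beq c 81) [⟨116, 1, 1⟩] []) (cond (Nat.beq c 83) [⟨119, -1, 1⟩] [])))) (cond (Nat.blt c 96) (cond (Nat.blt c 95) (cond (Nat.beq c 84) [⟨120, -1, 1⟩] []) (cond (Nat.beq c 95) [⟨126, 1, 1⟩] [])) (cond (Nat.blt c 99) (cond (Nat.beq c 96) [⟨127, 1, 1⟩] []) (cond (Nat.blt c 124) (cond (Nat.beq c 99) [⟨129, -1, 1⟩] []) (cond (Nat.beq c 124) [⟨132, 1, 1⟩] []))))))

/-- Compiled columns of `x_101` for type E7. -/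
def colsE7_101 (c : ℕ) : List CEnt :=
  cond (Nat.blt c 33) (cond (Nat.blt c 13) (cond (Nat.blt c 5) (cond (Nat.blt c 2) (cond (Nat.blt c 1) (cond (Nat.beq c 0) [⟨108, -1, 1⟩] []) (cond (Nat.beq c 1) [⟨108, -1, 1⟩] [])) (cond (Nat.blt c 3) (cond (Nat.beq c 2) [⟨108, 0, 1⟩] []) (cond (Nat.blt c 4) (cond (Nat.beq c 3) [⟨108, 1, 1⟩] []) (cond (Nat.beq c 4) [⟨108, 0, 1⟩] [])))) (cond (Nat.blt c 7) (cond (Nat.blt c 6) (cond (Nat.beq c 5) [⟨108, -1, 1⟩] []) (cond (Nat.beq c 6) [⟨108, 1, 1⟩] [])) (cond (Nat.blt c 10) (cond (Nat.beq c 7) [⟨16, 1, 1⟩] []) (cond (Nat.blt c 11) (cond (Nat.beq c 10) [⟨41, -1, 1⟩] []) (cond (Nat.beq c 11) [⟨43, -1, 1⟩] []))))) (cond (Nat.blt c 26) (cond (Nat.blt c 20) (cond (Nat.blt c 18) (cond (Nat.beq c 13) [⟨45, 1, 1⟩] []) (cond (Nat.beq c 18) [⟨55, 1,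 1⟩] [])) (cond (Nat.blt c 22) (cond (Nat.beq c 20) [⟨57, -1, 1⟩] []) (cond (Nat.blt c 24) (cond (Nat.beq c 22) [⟨58, -1, 1⟩] []) (cond (Nat.beq c 24) [⟨60, -1, 1⟩] [])))) (cond (Nat.blt c 30) (cond (Nat.blt c 28) (cond (Nat.beq c 26) [⟨62, 1, 1⟩] []) (cond (Nat.beq c 28) [⟨63, 1, 1⟩] [])) (cond (Nat.blt c 31) (cond (Nat.beq c 30) [⟨69, 1, 1⟩] []) (cond (Nat.blt c 32) (cond (Nat.beq c 31) [⟨108, -1, 2⟩, ⟨0, 1, 1⟩, ⟨1, 1, 1⟩, ⟨2, 1, 1⟩, ⟨3, 1, 1⟩, ⟨4, 1, 1⟩, ⟨5, 1, 1⟩, ⟨6, 0, 1⟩] []) (cond (Nat.beq c 32) [⟨71, 1, 1⟩] [])))))) (cond (Nat.blt c 76) (cond (Nat.blt c 51) (cond (Nat.blt c 38) (cond (Nat.blt c 35) (cond (Nat.beq c 33) [⟨74, 1, 1⟩] []) (cond (Nat.beq c 35) [⟨85, 1, 1⟩] [])) (cond (Nat.blt c 39) (cond (Nat.beq c 38) [⟨88, -1, 1⟩] []) (cond (Nat.blt c 47) (cond (Nat.beq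 c 39) [⟨92, 1, 1⟩] []) (cond (Nat.beq c 47) [⟨100, -1, 1⟩] [])))) (cond (Nat.blt c 65) (cond (Nat.blt c 54) (cond (Nat.beq c 51) [⟨101, 1, 1⟩] []) (cond (Nat.beq c 54) [⟨104, -1, 1⟩] [])) (cond (Nat.blt c 68) (cond (Nat.beq c 65) [⟨106, -1, 1⟩] []) (cond (Nat.blt c 70) (cond (Nat.beq c 68) [⟨107, -1, 1⟩] []) (cond (Nat.beq c 70) [⟨109, -1, 1⟩] []))))) (cond (Nat.blt c 84) (cond (Nat.blt c 79) (cond (Nat.blt c 77) (cond (Nat.beq c 76) [⟨111, -1, 1⟩] []) (cond (Nat.beq c 77) [⟨113, -1, 1⟩] [])) (cond (Nat.blt c 81) (cond (Nat.beq c 79) [⟨115, 1, 1⟩] []) (cond (Nat.blt c 82) (cond (Nat.beq c 81) [⟨117, 1, 1⟩] []) (cond (Nat.beq c 82) [⟨119, 1, 1⟩] [])))) (cond (Nat.blt c 96) (cond (Nat.blt c 94) (cond (Nat.beq c 84) [⟨121, -1, 1⟩] []) (cond (Nat.beq c 94) [⟨126, -1, 1⟩] [])) (cond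 (Nat.blt c 98) (cond (Nat.beq c 96) [⟨128, 1, 1⟩] []) (cond (Nat.blt c 123) (cond (Nat.beq c 98) [⟨129, 1, 1⟩] []) (cond (Nat.beq c 123) [⟨132, -1, 1⟩] []))))))

/-- Compiled columns of `x_102` for type E7. -/
def colsE7_102 (c : ℕ) : List CEnt :=
  cond (Nat.blt c 33) (cond (Nat.blt c 12) (cond (Nat.blt c 5) (cond (Nat.blt c 2) (cond (Nat.blt c 1) (cond (Nat.beq c 0) [⟨109, -1, 1⟩] []) (cond (Nat.beq c 1) [⟨109, -1, 1⟩] [])) (cond (Nat.blt c 3) (cond (Nat.beq c 2) [⟨109, 0, 1⟩] []) (cond (Nat.blt c 4) (cond (Nat.beq c 3) [⟨109, 1, 1⟩] []) (cond (Nat.beq c 4) [⟨109, 0, 1⟩] [])))) (cond (Nat.blt c 7) (cond (Nat.blt c 6) (cond (Nat.beq c 5) [⟨109, 0, 1⟩] []) (cond (Nat.beq c 6) [⟨109, -1, 1⟩] [])) (cond (Nat.blt c 10) (cond (Nat.beq c 7) [⟨17, -1, 1⟩] []) (cond (Nat.blt c 11)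 (cond (Nat.beq c 10) [⟨42, 1, 1⟩] []) (cond (Nat.beq c 11) [⟨44, 1, 1⟩] []))))) (cond (Nat.blt c 25) (cond (Nat.blt c 19) (cond (Nat.blt c 18) (cond (Nat.beq c 12) [⟨45, 1, 1⟩] []) (cond (Nat.beq c 18) [⟨56, -1, 1⟩] [])) (cond (Nat.blt c 21) (cond (Nat.beq c 19) [⟨57, -1, 1⟩] []) (cond (Nat.blt c 24) (cond (Nat.beq c 21) [⟨58, -1, 1⟩] []) (cond (Nat.beq c 24) [⟨61, 1, 1⟩] [])))) (cond (Nat.blt c 30) (cond (Nat.blt c 27) (cond (Nat.beq c 25) [⟨62, 1, 1⟩] []) (cond (Nat.beq c 27) [⟨63, 1, 1⟩] [])) (cond (Nat.blt c 31) (cond (Nat.beq c 30) [⟨109, -1, 2⟩, ⟨0, 1, 1⟩, ⟨1, 1, 1⟩, ⟨2, 1, 1⟩, ⟨3, 1, 1⟩, ⟨4, 1, 1⟩, ⟨5, 1, 1⟩, ⟨6, 1, 1⟩] []) (cond (Nat.blt c 32) (cond (Nat.beq c 31) [⟨70, 1, 1⟩] []) (cond (Nat.beq c 32) [⟨72, 1, 1⟩] [])))))) (cond (Nat.blt c 76) (cond (Nat.blt c 50) (cond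 (Nat.blt c 38) (cond (Nat.blt c 34) (cond (Nat.beq c 33) [⟨75, 1, 1⟩] []) (cond (Nat.beq c 34) [⟨85, 1, 1⟩] [])) (cond (Nat.blt c 39) (cond (Nat.beq c 38) [⟨89, -1, 1⟩] []) (cond (Nat.blt c 46) (cond (Nat.beq c 39) [⟨93, 1, 1⟩] []) (cond (Nat.beq c 46) [⟨100, -1, 1⟩] [])))) (cond (Nat.blt c 64) (cond (Nat.blt c 54) (cond (Nat.beq c 50) [⟨101, 1, 1⟩] []) (cond (Nat.beq c 54) [⟨105, -1, 1⟩] [])) (cond (Nat.blt c 67) (cond (Nat.beq c 64) [⟨106, -1, 1⟩] []) (cond (Nat.blt c 69) (cond (Nat.beq c 67) [⟨107, -1, 1⟩] []) (cond (Nat.beq c 69) [⟨108, -1, 1⟩] []))))) (cond (Nat.blt c 83) (cond (Nat.blt c 78) (cond (Nat.blt c 77) (cond (Nat.beq c 76) [⟨112, -1, 1⟩] []) (cond (Nat.beq c 77) [⟨114, -1, 1⟩] [])) (cond (Nat.blt c 81) (cond (Nat.beq c 78) [⟨115, -1, 1⟩] []) (cond (Nat.blt c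 82) (cond (Nat.beq c 81) [⟨118, 1, 1⟩] []) (cond (Nat.beq c 82) [⟨120, 1, 1⟩] [])))) (cond (Nat.blt c 95) (cond (Nat.blt c 94) (cond (Nat.beq c 83) [⟨121, 1, 1⟩] []) (cond (Nat.beq c 94) [⟨127, -1, 1⟩] [])) (cond (Nat.blt c 97) (cond (Nat.beq c 95) [⟨128, -1, 1⟩] []) (cond (Nat.blt c 122) (cond (Nat.beq c 97) [⟨129, -1, 1⟩] []) (cond (Nat.beq c 122) [⟨132, 1, 1⟩] []))))))

/-- Compiled columns of `x_103` for type E7. -/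
def colsE7_103 (c : ℕ) : List CEnt :=
  cond (Nat.blt c 33) (cond (Nat.blt c 13) (cond (Nat.blt c 5) (cond (Nat.blt c 2) (cond (Nat.blt c 1) (cond (Nat.beq c 0) [⟨110, -1, 1⟩] []) (cond (Nat.beq c 1) [⟨110, 0, 1⟩] [])) (cond (Nat.blt c 3) (cond (Nat.beq c 2) [⟨110, 1, 1⟩] []) (cond (Nat.blt c 4) (cond (Nat.beq c 3) [⟨110, -1, 1⟩] []) (cond (Nat.beq c 4) [⟨110, 0, 1⟩] [])))) (cond (Nat.blt c 7) (cond (Nat.blt c 6) (cond (Nat.beq c 5) [⟨110, 1, 1⟩] []) (cond (Nat.beq c 6) [⟨110, 0, 1⟩] [])) (cond (Nat.blt c 9) (cond (Nat.beq c 7) [⟨18, 1, 1⟩] []) (cond (Nat.blt c 12) (cond (Nat.beq c 9) [⟨40, 1, 1⟩] []) (cond (Nat.beq c 12) [⟨46, 1, 1⟩] []))))) (cond (Nat.blt c 26) (cond (Nat.blt c 17) (cond (Nat.blt c 16) (cond (Nat.beq c 13) [⟨47, 1, 1⟩] []) (cond (Nat.beq c 16) [⟨55, 1, 1⟩]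 [])) (cond (Nat.blt c 23) (cond (Nat.beq c 17) [⟨56, 1, 1⟩] []) (cond (Nat.blt c 25) (cond (Nat.beq c 23) [⟨59, 1, 1⟩] []) (cond (Nat.beq c 25) [⟨64, -1, 1⟩] [])))) (cond (Nat.blt c 28) (cond (Nat.blt c 27) (cond (Nat.beq c 26) [⟨65, -1, 1⟩] []) (cond (Nat.beq c 27) [⟨67, 1, 1⟩] [])) (cond (Nat.blt c 29) (cond (Nat.beq c 28) [⟨68, 1, 1⟩] []) (cond (Nat.blt c 32) (cond (Nat.beq c 29) [⟨110, -1, 2⟩, ⟨0, 1, 1⟩, ⟨1, 1, 1⟩, ⟨2, 1, 1⟩, ⟨3, 2, 1⟩, ⟨4, 1, 1⟩, ⟨5, 0, 1⟩, ⟨6, 0, 1⟩] []) (cond (Nat.beq c 32) [⟨76, 1, 1⟩] [])))))) (cond (Nat.blt c 72) (cond (Nat.blt c 52) (cond (Nat.blt c 37) (cond (Nat.blt c 36) (cond (Nat.beq c 33) [⟨77, -1, 1⟩] []) (cond (Nat.beq c 36) [⟨86, 1, 1⟩] [])) (cond (Nat.blt c 39) (cond (Nat.beq c 37) [⟨87, -1, 1⟩] []) (cond (Nat.blt c 45) (cond (Nat.beq c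 39) [⟨94, 1, 1⟩] []) (cond (Nat.beq c 45) [⟨100, -1, 1⟩] [])))) (cond (Nat.blt c 62) (cond (Nat.blt c 53) (cond (Nat.beq c 52) [⟨102, 1, 1⟩] []) (cond (Nat.beq c 53) [⟨103, -1, 1⟩] [])) (cond (Nat.blt c 63) (cond (Nat.beq c 62) [⟨106, 1, 1⟩] []) (cond (Nat.blt c 71) (cond (Nat.beq c 63) [⟨107, -1, 1⟩] []) (cond (Nat.beq c 71) [⟨111, -1, 1⟩] []))))) (cond (Nat.blt c 84) (cond (Nat.blt c 75) (cond (Nat.blt c 74) (cond (Nat.beq c 72) [⟨112, -1, 1⟩] []) (cond (Nat.beq c 74) [⟨113, 1, 1⟩] [])) (cond (Nat.blt c 80) (cond (Nat.beq c 75) [⟨114, 1, 1⟩] []) (cond (Nat.blt c 83) (cond (Nat.beq c 80) [⟨116, -1, 1⟩] []) (cond (Nat.beq c 83) [⟨122, -1, 1⟩] [])))) (cond (Nat.blt c 93) (cond (Nat.blt c 92) (cond (Nat.beq c 84) [⟨123, -1, 1⟩] []) (cond (Nat.beq c 92) [⟨126, -1, 1⟩] [])) (cond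 (Nat.blt c 99) (cond (Nat.beq c 93) [⟨127, -1, 1⟩] []) (cond (Nat.blt c 121) (cond (Nat.beq c 99) [⟨130, -1, 1⟩] []) (cond (Nat.beq c 121) [⟨132, -1, 1⟩] []))))))

/-- Compiled columns of `x_104` for type E7. -/
def colsE7_104 (c : ℕ) : List CEnt :=
  cond (Nat.blt c 33) (cond (Nat.blt c 13) (cond (Nat.blt c 5) (cond (Nat.blt c 2) (cond (Nat.blt c 1) (cond (Nat.beq c 0) [⟨111, -1, 1⟩] []) (cond (Nat.beq c 1) [⟨111, 0, 1⟩] [])) (cond (Nat.blt c 3) (cond (Nat.beq c 2) [⟨111, 1, 1⟩] []) (cond (Nat.blt c 4) (cond (Nat.beq c 3) [⟨111, -1, 1⟩] []) (cond (Nat.beq c 4) [⟨111, 1, 1⟩] [])))) (cond (Nat.blt c 7) (cond (Nat.blt c 6) (cond (Nat.beq c 5) [⟨111, -1, 1⟩] []) (cond (Nat.beq c 6) [⟨111, 1, 1⟩] [])) (cond (Nat.blt c 9) (cond (Nat.beq c 7) [⟨19, -1, 1⟩] []) (cond (Nat.blt c 11)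 (cond (Nat.beq c 9) [⟨41, -1, 1⟩] []) (cond (Nat.beq c 11) [⟨46, 1, 1⟩] []))))) (cond (Nat.blt c 26) (cond (Nat.blt c 17) (cond (Nat.blt c 15) (cond (Nat.beq c 13) [⟨48, -1, 1⟩] []) (cond (Nat.beq c 15) [⟨55, 1, 1⟩] [])) (cond (Nat.blt c 22) (cond (Nat.beq c 17) [⟨57, -1, 1⟩] []) (cond (Nat.blt c 24) (cond (Nat.beq c 22) [⟨59, 1, 1⟩] []) (cond (Nat.beq c 24) [⟨64, -1, 1⟩] [])))) (cond (Nat.blt c 28) (cond (Nat.blt c 27) (cond (Nat.beq c 26) [⟨66, 1, 1⟩] []) (cond (Nat.beq c 27) [⟨69, 1, 1⟩] [])) (cond (Nat.blt c 29) (cond (Nat.beq c 28) [⟨111, -1, 2⟩, ⟨0, 1, 1⟩, ⟨1, 1, 1⟩, ⟨2, 1, 1⟩, ⟨3, 2, 1⟩, ⟨4, 1, 1⟩, ⟨5, 1, 1⟩, ⟨6, 0, 1⟩] []) (cond (Nat.blt c 31) (cond (Nat.beq c 29) [⟨71, 1, 1⟩] []) (cond (Nat.beq c 31) [⟨76, 1, 1⟩] [])))))) (cond (Nat.blt c 70) (cond (Nat.blt c 51) (cond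 (Nat.blt c 37) (cond (Nat.blt c 35) (cond (Nat.beq c 33) [⟨78, -1, 1⟩] []) (cond (Nat.beq c 35) [⟨86, 1, 1⟩] [])) (cond (Nat.blt c 39) (cond (Nat.beq c 37) [⟨88, -1, 1⟩] []) (cond (Nat.blt c 44) (cond (Nat.beq c 39) [⟨95, 1, 1⟩] []) (cond (Nat.beq c 44) [⟨100, -1, 1⟩] [])))) (cond (Nat.blt c 61) (cond (Nat.blt c 53) (cond (Nat.beq c 51) [⟨102, 1, 1⟩] []) (cond (Nat.beq c 53) [⟨104, -1, 1⟩] [])) (cond (Nat.blt c 63) (cond (Nat.beq c 61) [⟨106, 1, 1⟩] []) (cond (Nat.blt c 68) (cond (Nat.beq c 63) [⟨108, -1, 1⟩] []) (cond (Nat.beq c 68) [⟨110, -1, 1⟩] []))))) (cond (Nat.blt c 84) (cond (Nat.blt c 75) (cond (Nat.blt c 73) (cond (Nat.beq c 70) [⟨112, -1, 1⟩] []) (cond (Nat.beq c 73) [⟨113, -1, 1⟩] [])) (cond (Nat.blt c 80) (cond (Nat.beq c 75) [⟨115, 1, 1⟩] []) (cond (Nat.blt c 82)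 (cond (Nat.beq c 80) [⟨117, -1, 1⟩] []) (cond (Nat.beq c 82) [⟨122, 1, 1⟩] [])))) (cond (Nat.blt c 93) (cond (Nat.blt c 91) (cond (Nat.beq c 84) [⟨124, -1, 1⟩] []) (cond (Nat.beq c 91) [⟨126, 1, 1⟩] [])) (cond (Nat.blt c 98) (cond (Nat.beq c 93) [⟨128, -1, 1⟩] []) (cond (Nat.blt c 120) (cond (Nat.beq c 98) [⟨130, 1, 1⟩] []) (cond (Nat.beq c 120) [⟨132, 1, 1⟩] []))))))

/-- Compiled columns of `x_105` for type E7. -/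
def colsE7_105 (c : ℕ) : List CEnt :=
  cond (Nat.blt c 33) (cond (Nat.blt c 12) (cond (Nat.blt c 5) (cond (Nat.blt c 2) (cond (Nat.blt c 1) (cond (Nat.beq c 0) [⟨112, -1, 1⟩] []) (cond (Nat.beq c 1) [⟨112, 0, 1⟩] [])) (cond (Nat.blt c 3) (cond (Nat.beq c 2) [⟨112, 1, 1⟩] []) (cond (Nat.blt c 4) (cond (Nat.beq c 3) [⟨112, -1, 1⟩] []) (cond (Nat.beq c 4) [⟨112, 1, 1⟩] [])))) (cond (Nat.blt c 7) (cond (Nat.blt c 6) (cond (Nat.beq c 5) [⟨112, 0, 1⟩] []) (cond (Nat.beq c 6) [⟨112, -1, 1⟩] [])) (cond (Nat.blt c 9) (cond (Nat.beq c 7) [⟨20, 1, 1⟩] []) (cond (Nat.blt c 11) (cond (Nat.beq c 9) [⟨42, 1, 1⟩] []) (cond (Nat.beq c 11) [⟨47, -1, 1⟩] []))))) (cond (Nat.blt c 25) (cond (Nat.blt c 16) (cond (Nat.blt c 15) (cond (Nat.beq c 12) [⟨48, -1, 1⟩] []) (cond (Nat.beq c 15) [⟨56, -1,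 1⟩] [])) (cond (Nat.blt c 21) (cond (Nat.beq c 16) [⟨57, -1, 1⟩] []) (cond (Nat.blt c 24) (cond (Nat.beq c 21) [⟨59, 1, 1⟩] []) (cond (Nat.beq c 24) [⟨65, 1, 1⟩] [])))) (cond (Nat.blt c 28) (cond (Nat.blt c 27) (cond (Nat.beq c 25) [⟨66, 1, 1⟩] []) (cond (Nat.beq c 27) [⟨112, -1, 2⟩, ⟨0, 1, 1⟩, ⟨1, 1, 1⟩, ⟨2, 1, 1⟩, ⟨3, 2, 1⟩, ⟨4, 1, 1⟩, ⟨5, 1, 1⟩, ⟨6, 1, 1⟩] [])) (cond (Nat.blt c 29) (cond (Nat.beq c 28) [⟨70, 1, 1⟩] []) (cond (Nat.blt c 30) (cond (Nat.beq c 29) [⟨72, 1, 1⟩] []) (cond (Nat.beq c 30) [⟨76, 1, 1⟩] [])))))) (cond (Nat.blt c 69) (cond (Nat.blt c 50) (cond (Nat.blt c 37) (cond (Nat.blt c 34) (cond (Nat.beq c 33) [⟨79, -1, 1⟩] []) (cond (Nat.beq c 34) [⟨86, 1, 1⟩] [])) (cond (Nat.blt c 39) (cond (Nat.beq c 37) [⟨89, -1, 1⟩] []) (cond (Nat.blt c 43) (cond (Nat.beq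 c 39) [⟨96, 1, 1⟩] []) (cond (Nat.beq c 43) [⟨100, -1, 1⟩] [])))) (cond (Nat.blt c 60) (cond (Nat.blt c 53) (cond (Nat.beq c 50) [⟨102, 1, 1⟩] []) (cond (Nat.beq c 53) [⟨105, -1, 1⟩] [])) (cond (Nat.blt c 63) (cond (Nat.beq c 60) [⟨106, 1, 1⟩] []) (cond (Nat.blt c 67) (cond (Nat.beq c 63) [⟨109, -1, 1⟩] []) (cond (Nat.beq c 67) [⟨110, -1, 1⟩] []))))) (cond (Nat.blt c 83) (cond (Nat.blt c 74) (cond (Nat.blt c 73) (cond (Nat.beq c 69) [⟨111, -1, 1⟩] []) (cond (Nat.beq c 73) [⟨114, -1, 1⟩] [])) (cond (Nat.blt c 80) (cond (Nat.beq c 74) [⟨115, -1, 1⟩] []) (cond (Nat.blt c 82) (cond (Nat.beq c 80) [⟨118, -1, 1⟩] []) (cond (Nat.beq c 82) [⟨123, 1, 1⟩] [])))) (cond (Nat.blt c 92) (cond (Nat.blt c 91) (cond (Nat.beq c 83) [⟨124, 1, 1⟩] []) (cond (Nat.beq c 91) [⟨127, 1, 1⟩] [])) (cond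 (Nat.blt c 97) (cond (Nat.beq c 92) [⟨128, 1, 1⟩] []) (cond (Nat.blt c 119) (cond (Nat.beq c 97) [⟨130, -1, 1⟩] []) (cond (Nat.beq c 119) [⟨132, -1, 1⟩] []))))))

/-- Compiled columns of `x_106` for type E7. -/
def colsE7_106 (c : ℕ) : List CEnt :=
  cond (Nat.blt c 32) (cond (Nat.blt c 13) (cond (Nat.blt c 5) (cond (Nat.blt c 2) (cond (Nat.blt c 1) (cond (Nat.beq c 0) [⟨113, -1, 1⟩] []) (cond (Nat.beq c 1) [⟨113, 0, 1⟩] [])) (cond (Nat.blt c 3) (cond (Nat.beq c 2) [⟨113, 1, 1⟩] []) (cond (Nat.blt c 4) (cond (Nat.beq c 3) [⟨113, 0, 1⟩] []) (cond (Nat.beq c 4) [⟨113, -1, 1⟩] [])))) (cond (Nat.blt c 7) (cond (Nat.blt c 6) (cond (Nat.beq c 5) [⟨113, 0, 1⟩] []) (cond (Nat.beq c 6) [⟨113, 1, 1⟩] [])) (cond (Nat.blt c 9) (cond (Nat.beq c 7) [⟨21, 1, 1⟩] []) (cond (Nat.blt c 10) (cond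 (Nat.beq c 9) [⟨43, 1, 1⟩] []) (cond (Nat.beq c 10) [⟨46, 1, 1⟩] []))))) (cond (Nat.blt c 25) (cond (Nat.blt c 17) (cond (Nat.blt c 14) (cond (Nat.beq c 13) [⟨49, 1, 1⟩] []) (cond (Nat.beq c 14) [⟨55, 1, 1⟩] [])) (cond (Nat.blt c 20) (cond (Nat.beq c 17) [⟨58, 1, 1⟩] []) (cond (Nat.blt c 24) (cond (Nat.beq c 20) [⟨59, 1, 1⟩] []) (cond (Nat.beq c 24) [⟨67, -1, 1⟩] [])))) (cond (Nat.blt c 28) (cond (Nat.blt c 26) (cond (Nat.beq c 25) [⟨69, 1, 1⟩] []) (cond (Nat.beq c 26) [⟨113, -1, 2⟩, ⟨0, 1, 1⟩, ⟨1, 1, 1⟩, ⟨2, 1, 1⟩, ⟨3, 2, 1⟩, ⟨4, 2, 1⟩, ⟨5, 1, 1⟩, ⟨6, 0, 1⟩] [])) (cond (Nat.blt c 29) (cond (Nat.beq c 28) [⟨73, 1, 1⟩] []) (cond (Nat.blt c 31) (cond (Nat.beq c 29) [⟨74, -1, 1⟩] []) (cond (Nat.beq c 31) [⟨77, 1, 1⟩] [])))))) (cond (Nat.blt c 66) (cond (Nat.blt c 51) (cond (Nat.blt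 c 36) (cond (Nat.blt c 35) (cond (Nat.beq c 32) [⟨78, -1, 1⟩] []) (cond (Nat.beq c 35) [⟨87, 1, 1⟩] [])) (cond (Nat.blt c 39) (cond (Nat.beq c 36) [⟨88, -1, 1⟩] []) (cond (Nat.blt c 42) (cond (Nat.beq c 39) [⟨97, 1, 1⟩] []) (cond (Nat.beq c 42) [⟨100, -1, 1⟩] [])))) (cond (Nat.blt c 61) (cond (Nat.blt c 52) (cond (Nat.beq c 51) [⟨103, 1, 1⟩] []) (cond (Nat.beq c 52) [⟨104, -1, 1⟩] [])) (cond (Nat.blt c 62) (cond (Nat.beq c 61) [⟨107, 1, 1⟩] []) (cond (Nat.blt c 65) (cond (Nat.beq c 62) [⟨108, -1, 1⟩] []) (cond (Nat.beq c 65) [⟨110, 1, 1⟩] []))))) (cond (Nat.blt c 84) (cond (Nat.blt c 72) (cond (Nat.blt c 70) (cond (Nat.beq c 66) [⟨111, -1, 1⟩] []) (cond (Nat.beq c 70) [⟨114, -1, 1⟩] [])) (cond (Nat.blt c 80) (cond (Nat.beq c 72) [⟨115, 1, 1⟩] []) (cond (Nat.blt c 81) (cond (Nat.beq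 c 80) [⟨119, -1, 1⟩] []) (cond (Nat.beq c 81) [⟨122, -1, 1⟩] [])))) (cond (Nat.blt c 93) (cond (Nat.blt c 90) (cond (Nat.beq c 84) [⟨125, -1, 1⟩] []) (cond (Nat.beq c 90) [⟨126, -1, 1⟩] [])) (cond (Nat.blt c 96) (cond (Nat.beq c 93) [⟨129, -1, 1⟩] []) (cond (Nat.blt c 118) (cond (Nat.beq c 96) [⟨130, -1, 1⟩] []) (cond (Nat.beq c 118) [⟨132, -1, 1⟩] []))))))

/-- Compiled columns of `x_107` for type E7. -/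
def colsE7_107 (c : ℕ) : List CEnt :=
  cond (Nat.blt c 32) (cond (Nat.blt c 12) (cond (Nat.blt c 5) (cond (Nat.blt c 2) (cond (Nat.blt c 1) (cond (Nat.beq c 0) [⟨114, -1, 1⟩] []) (cond (Nat.beq c 1) [⟨114, 0, 1⟩] [])) (cond (Nat.blt c 3) (cond (Nat.beq c 2) [⟨114, 1, 1⟩] []) (cond (Nat.blt c 4) (cond (Nat.beq c 3) [⟨114, 0, 1⟩] []) (cond (Nat.beq c 4) [⟨114, -1, 1⟩] [])))) (cond (Nat.blt c 7) (cond (Nat.blt c 6) (cond (Nat.beq c 5) [⟨114, 1, 1⟩] []) (cond (Nat.beq c 6) [⟨114, -1, 1⟩] [])) (cond (Nat.blt c 9) (cond (Nat.beq c 7) [⟨22, -1, 1⟩] []) (cond (Nat.blt c 10) (cond (Nat.beq c 9) [⟨44, -1, 1⟩] []) (cond (Nat.beq c 10) [⟨47, -1, 1⟩] []))))) (cond (Nat.blt c 25) (cond (Nat.blt c 16) (cond (Nat.blt c 14) (cond (Nat.beq c 12) [⟨49, 1, 1⟩] []) (cond (Nat.beq c 14) [⟨56, -1,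 1⟩] [])) (cond (Nat.blt c 19) (cond (Nat.beq c 16) [⟨58, 1, 1⟩] []) (cond (Nat.blt c 24) (cond (Nat.beq c 19) [⟨59, 1, 1⟩] []) (cond (Nat.beq c 24) [⟨68, 1, 1⟩] [])))) (cond (Nat.blt c 27) (cond (Nat.blt c 26) (cond (Nat.beq c 25) [⟨114, -1, 2⟩, ⟨0, 1, 1⟩, ⟨1, 1, 1⟩, ⟨2, 1, 1⟩, ⟨3, 2, 1⟩, ⟨4, 2, 1⟩, ⟨5, 1, 1⟩, ⟨6, 1, 1⟩] []) (cond (Nat.beq c 26) [⟨70, 1, 1⟩] [])) (cond (Nat.blt c 29) (cond (Nat.beq c 27) [⟨73, 1, 1⟩] []) (cond (Nat.blt c 30) (cond (Nat.beq c 29) [⟨75, -1, 1⟩] []) (cond (Nat.beq c 30) [⟨77, 1, 1⟩] [])))))) (cond (Nat.blt c 66) (cond (Nat.blt c 50) (cond (Nat.blt c 36) (cond (Nat.blt c 34) (cond (Nat.beq c 32) [⟨79, -1, 1⟩] []) (cond (Nat.beq c 34) [⟨87, 1, 1⟩] [])) (cond (Nat.blt c 39) (cond (Nat.beq c 36) [⟨89, -1, 1⟩] []) (cond (Nat.blt c 41) (cond (Nat.beq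 c 39) [⟨98, 1, 1⟩] []) (cond (Nat.beq c 41) [⟨100, -1, 1⟩] [])))) (cond (Nat.blt c 60) (cond (Nat.blt c 52) (cond (Nat.beq c 50) [⟨103, 1, 1⟩] []) (cond (Nat.beq c 52) [⟨105, -1, 1⟩] [])) (cond (Nat.blt c 62) (cond (Nat.beq c 60) [⟨107, 1, 1⟩] []) (cond (Nat.blt c 64) (cond (Nat.beq c 62) [⟨109, -1, 1⟩] []) (cond (Nat.beq c 64) [⟨110, 1, 1⟩] []))))) (cond (Nat.blt c 83) (cond (Nat.blt c 71) (cond (Nat.blt c 69) (cond (Nat.beq c 66) [⟨112, -1, 1⟩] []) (cond (Nat.beq c 69) [⟨113, -1, 1⟩] [])) (cond (Nat.blt c 80) (cond (Nat.beq c 71) [⟨115, -1, 1⟩] []) (cond (Nat.blt c 81) (cond (Nat.beq c 80) [⟨120, -1, 1⟩] []) (cond (Nat.beq c 81) [⟨123, -1, 1⟩] [])))) (cond (Nat.blt c 92) (cond (Nat.blt c 90) (cond (Nat.beq c 83) [⟨125, 1, 1⟩] []) (cond (Nat.beq c 90) [⟨127, -1, 1⟩] [])) (cond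 (Nat.blt c 95) (cond (Nat.beq c 92) [⟨129, 1, 1⟩] []) (cond (Nat.blt c 117) (cond (Nat.beq c 95) [⟨130, 1, 1⟩] []) (cond (Nat.beq c 117) [⟨132, 1, 1⟩] []))))))

/-- Compiled columns of `x_108` for type E7. -/
def colsE7_108 (c : ℕ) : List CEnt :=
  cond (Nat.blt c 31) (cond (Nat.blt c 11) (cond (Nat.blt c 5) (cond (Nat.blt c 2) (cond (Nat.blt c 1) (cond (Nat.beq c 0) [⟨115, -1, 1⟩] []) (cond (Nat.beq c 1) [⟨115, 0, 1⟩] [])) (cond (Nat.blt c 3) (cond (Nat.beq c 2) [⟨115, 1, 1⟩] []) (cond (Nat.blt c 4) (cond (Nat.beq c 3) [⟨115, 0, 1⟩] []) (cond (Nat.beq c 4) [⟨115, 0, 1⟩] [])))) (cond (Nat.blt c 7) (cond (Nat.blt c 6) (cond (Nat.beq c 5) [⟨115, -1, 1⟩] []) (cond (Nat.beq c 6) [⟨115, 0, 1⟩] [])) (cond (Nat.blt c 9) (cond (Nat.beq c 7) [⟨23, 1, 1⟩] []) (cond (Nat.blt c 10) (cond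 (Nat.beq c 9) [⟨45, 1, 1⟩] []) (cond (Nat.beq c 10) [⟨48, 1, 1⟩] []))))) (cond (Nat.blt c 25) (cond (Nat.blt c 15) (cond (Nat.blt c 14) (cond (Nat.beq c 11) [⟨49, 1, 1⟩] []) (cond (Nat.beq c 14) [⟨57, 1, 1⟩] [])) (cond (Nat.blt c 18) (cond (Nat.beq c 15) [⟨58, 1, 1⟩] []) (cond (Nat.blt c 24) (cond (Nat.beq c 18) [⟨59, 1, 1⟩] []) (cond (Nat.beq c 24) [⟨115, -1, 2⟩, ⟨0, 1, 1⟩, ⟨1, 1, 1⟩, ⟨2, 1, 1⟩, ⟨3, 2, 1⟩, ⟨4, 2, 1⟩, ⟨5, 2, 1⟩, ⟨6, 1, 1⟩] [])))) (cond (Nat.blt c 27) (cond (Nat.blt c 26) (cond (Nat.beq c 25) [⟨71, 1, 1⟩] []) (cond (Nat.beq c 26) [⟨72, -1, 1⟩] [])) (cond (Nat.blt c 28) (cond (Nat.beq c 27) [⟨74, 1, 1⟩] []) (cond (Nat.blt c 30) (cond (Nat.beq c 28) [⟨75, -1, 1⟩] []) (cond (Nat.beq c 30) [⟨78, 1, 1⟩] [])))))) (cond (Nat.blt c 65) (cond (Nat.blt c 50) (cond (Nat.blt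 c 35) (cond (Nat.blt c 34) (cond (Nat.beq c 31) [⟨79, -1, 1⟩] []) (cond (Nat.beq c 34) [⟨88, 1, 1⟩] [])) (cond (Nat.blt c 39) (cond (Nat.beq c 35) [⟨89, -1, 1⟩] []) (cond (Nat.blt c 40) (cond (Nat.beq c 39) [⟨99, 1, 1⟩] []) (cond (Nat.beq c 40) [⟨100, -1, 1⟩] [])))) (cond (Nat.blt c 60) (cond (Nat.blt c 51) (cond (Nat.beq c 50) [⟨104, 1, 1⟩] []) (cond (Nat.beq c 51) [⟨105, -1, 1⟩] [])) (cond (Nat.blt c 61) (cond (Nat.beq c 60) [⟨108, 1, 1⟩] []) (cond (Nat.blt c 64) (cond (Nat.beq c 61) [⟨109, -1, 1⟩] []) (cond (Nat.beq c 64) [⟨111, 1, 1⟩] []))))) (cond (Nat.blt c 82) (cond (Nat.blt c 68) (cond (Nat.blt c 67) (cond (Nat.beq c 65) [⟨112, -1, 1⟩] []) (cond (Nat.beq c 67) [⟨113, 1, 1⟩] [])) (cond (Nat.blt c 80) (cond (Nat.beq c 68) [⟨114, -1, 1⟩] []) (cond (Nat.blt c 81) (cond (Nat.beq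 c 80) [⟨121, -1, 1⟩] []) (cond (Nat.beq c 81) [⟨124, -1, 1⟩] [])))) (cond (Nat.blt c 91) (cond (Nat.blt c 90) (cond (Nat.beq c 82) [⟨125, -1, 1⟩] []) (cond (Nat.beq c 90) [⟨128, -1, 1⟩] [])) (cond (Nat.blt c 94) (cond (Nat.beq c 91) [⟨129, -1, 1⟩] []) (cond (Nat.blt c 116) (cond (Nat.beq c 94) [⟨130, -1, 1⟩] []) (cond (Nat.beq c 116) [⟨132, -1, 1⟩] []))))))

/-- Compiled columns of `x_109` for type E7. -/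
def colsE7_109 (c : ℕ) : List CEnt :=
  cond (Nat.blt c 33) (cond (Nat.blt c 13) (cond (Nat.blt c 5) (cond (Nat.blt c 2) (cond (Nat.blt c 1) (cond (Nat.beq c 0) [⟨116, 0, 1⟩] []) (cond (Nat.beq c 1) [⟨116, 0, 1⟩] [])) (cond (Nat.blt c 3) (cond (Nat.beq c 2) [⟨116, -1, 1⟩] []) (cond (Nat.blt c 4) (cond (Nat.beq c 3) [⟨116, 0, 1⟩] []) (cond (Nat.beq c 4) [⟨116, 0, 1⟩] [])))) (cond (Nat.blt c 7) (cond (Nat.blt c 6) (cond (Nat.beq c 5) [⟨116, 1, 1⟩] []) (cond (Nat.beq c 6) [⟨116, 0, 1⟩] [])) (cond (Nat.blt c 8) (cond (Nat.beq c 7) [⟨24, -1, 1⟩] []) (cond (Nat.blt c 12) (cond (Nat.beq c 8) [⟨40, 1, 1⟩] []) (cond (Nat.beq c 12) [⟨50, -1, 1⟩] []))))) (cond (Nat.blt c 21) (cond (Nat.blt c 17) (cond (Nat.blt c 16) (cond (Nat.beq c 13) [⟨51, -1, 1⟩] []) (cond (Nat.beq c 16) [⟨60, 1, 1⟩]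 [])) (cond (Nat.blt c 19) (cond (Nat.beq c 17) [⟨61, 1, 1⟩] []) (cond (Nat.blt c 20) (cond (Nat.beq c 19) [⟨64, -1, 1⟩] []) (cond (Nat.beq c 20) [⟨65, -1, 1⟩] [])))) (cond (Nat.blt c 23) (cond (Nat.blt c 22) (cond (Nat.beq c 21) [⟨67, 1, 1⟩] []) (cond (Nat.beq c 22) [⟨68, 1, 1⟩] [])) (cond (Nat.blt c 29) (cond (Nat.beq c 23) [⟨116, -1, 2⟩, ⟨0, 1, 1⟩, ⟨1, 1, 1⟩, ⟨2, 2, 1⟩, ⟨3, 2, 1⟩, ⟨4, 1, 1⟩, ⟨5, 0, 1⟩, ⟨6, 0, 1⟩] []) (cond (Nat.blt c 32) (cond (Nat.beq c 29) [⟨80, 1, 1⟩] []) (cond (Nat.beq c 32) [⟨81, -1, 1⟩] [])))))) (cond (Nat.blt c 71) (cond (Nat.blt c 48) (cond (Nat.blt c 37) (cond (Nat.blt c 36) (cond (Nat.beq c 33) [⟨82, 1, 1⟩] []) (cond (Nat.beq c 36) [⟨90, 1, 1⟩] [])) (cond (Nat.blt c 38) (cond (Nat.beq c 37) [⟨91, -1, 1⟩] []) (cond (Nat.blt c 45) (cond (Nat.beq c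 38) [⟨94, 1, 1⟩] []) (cond (Nat.beq c 45) [⟨101, -1, 1⟩] [])))) (cond (Nat.blt c 57) (cond (Nat.blt c 49) (cond (Nat.beq c 48) [⟨102, 1, 1⟩] []) (cond (Nat.beq c 49) [⟨103, -1, 1⟩] [])) (cond (Nat.blt c 58) (cond (Nat.beq c 57) [⟨106, -1, 1⟩] []) (cond (Nat.blt c 59) (cond (Nat.beq c 58) [⟨107, 1, 1⟩] []) (cond (Nat.beq c 59) [⟨110, -1, 1⟩] []))))) (cond (Nat.blt c 79) (cond (Nat.blt c 74) (cond (Nat.blt c 72) (cond (Nat.beq c 71) [⟨117, -1, 1⟩] []) (cond (Nat.beq c 72) [⟨118, -1, 1⟩] [])) (cond (Nat.blt c 75) (cond (Nat.beq c 74) [⟨119, 1, 1⟩] []) (cond (Nat.blt c 78) (cond (Nat.beq c 75) [⟨120, 1, 1⟩] []) (cond (Nat.beq c 78) [⟨122, -1, 1⟩] [])))) (cond (Nat.blt c 89) (cond (Nat.blt c 88) (cond (Nat.beq c 79) [⟨123, -1, 1⟩] []) (cond (Nat.beq c 88) [⟨126, 1, 1⟩] [])) (cond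 (Nat.blt c 99) (cond (Nat.beq c 89) [⟨127, 1, 1⟩] []) (cond (Nat.blt c 115) (cond (Nat.beq c 99) [⟨131, -1, 1⟩] []) (cond (Nat.beq c 115) [⟨132, 1, 1⟩] []))))))

/-- Compiled columns of `x_110` for type E7. -/
def colsE7_110 (c : ℕ) : List CEnt :=
  cond (Nat.blt c 33) (cond (Nat.blt c 13) (cond (Nat.blt c 5) (cond (Nat.blt c 2) (cond (Nat.blt c 1) (cond (Nat.beq c 0) [⟨117, 0, 1⟩] []) (cond (Nat.beq c 1) [⟨117, 0, 1⟩] [])) (cond (Nat.blt c 3) (cond (Nat.beq c 2) [⟨117, -1, 1⟩] []) (cond (Nat.blt c 4) (cond (Nat.beq c 3) [⟨117, 0, 1⟩] []) (cond (Nat.beq c 4) [⟨117, 1, 1⟩] [])))) (cond (Nat.blt c 7) (cond (Nat.blt c 6) (cond (Nat.beq c 5) [⟨117, -1, 1⟩] []) (cond (Nat.beq c 6) [⟨117, 1, 1⟩] [])) (cond (Nat.blt c 8) (cond (Nat.beq c 7) [⟨25, 1, 1⟩] []) (cond (Nat.blt c 11) (cond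 (Nat.beq c 8) [⟨41, -1, 1⟩] []) (cond (Nat.beq c 11) [⟨50, -1, 1⟩] []))))) (cond (Nat.blt c 21) (cond (Nat.blt c 17) (cond (Nat.blt c 15) (cond (Nat.beq c 13) [⟨52, 1, 1⟩] []) (cond (Nat.beq c 15) [⟨60, 1, 1⟩] [])) (cond (Nat.blt c 18) (cond (Nat.beq c 17) [⟨62, -1, 1⟩] []) (cond (Nat.blt c 20) (cond (Nat.beq c 18) [⟨64, -1, 1⟩] []) (cond (Nat.beq c 20) [⟨66, 1, 1⟩] [])))) (cond (Nat.blt c 23) (cond (Nat.blt c 22) (cond (Nat.beq c 21) [⟨69, 1, 1⟩] []) (cond (Nat.beq c 22) [⟨117, -1, 2⟩, ⟨0, 1, 1⟩, ⟨1, 1, 1⟩, ⟨2, 2, 1⟩, ⟨3, 2, 1⟩, ⟨4, 1, 1⟩, ⟨5, 1, 1⟩, ⟨6, 0, 1⟩] [])) (cond (Nat.blt c 28) (cond (Nat.beq c 23) [⟨71, 1, 1⟩] []) (cond (Nat.blt c 31) (cond (Nat.beq c 28) [⟨80, 1, 1⟩] []) (cond (Nat.beq c 31) [⟨81, -1, 1⟩] [])))))) (cond (Nat.blt c 68) (cond (Nat.blt c 47) (cond (Nat.blt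 c 37) (cond (Nat.blt c 35) (cond (Nat.beq c 33) [⟨83, 1, 1⟩] []) (cond (Nat.beq c 35) [⟨90, 1, 1⟩] [])) (cond (Nat.blt c 38) (cond (Nat.beq c 37) [⟨92, -1, 1⟩] []) (cond (Nat.blt c 44) (cond (Nat.beq c 38) [⟨95, 1, 1⟩] []) (cond (Nat.beq c 44) [⟨101, -1, 1⟩] [])))) (cond (Nat.blt c 56) (cond (Nat.blt c 49) (cond (Nat.beq c 47) [⟨102, 1, 1⟩] []) (cond (Nat.beq c 49) [⟨104, -1, 1⟩] [])) (cond (Nat.blt c 58) (cond (Nat.beq c 56) [⟨106, -1, 1⟩] []) (cond (Nat.blt c 59) (cond (Nat.beq c 58) [⟨108, 1, 1⟩] []) (cond (Nat.beq c 59) [⟨111, -1, 1⟩] []))))) (cond (Nat.blt c 79) (cond (Nat.blt c 73) (cond (Nat.blt c 70) (cond (Nat.beq c 68) [⟨116, -1, 1⟩] []) (cond (Nat.beq c 70) [⟨118, -1, 1⟩] [])) (cond (Nat.blt c 75) (cond (Nat.beq c 73) [⟨119, -1, 1⟩] []) (cond (Nat.blt c 77) (cond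 (Nat.beq c 75) [⟨121, 1, 1⟩] []) (cond (Nat.beq c 77) [⟨122, 1, 1⟩] [])))) (cond (Nat.blt c 89) (cond (Nat.blt c 87) (cond (Nat.beq c 79) [⟨124, -1, 1⟩] []) (cond (Nat.beq c 87) [⟨126, -1, 1⟩] [])) (cond (Nat.blt c 98) (cond (Nat.beq c 89) [⟨128, 1, 1⟩] []) (cond (Nat.blt c 114) (cond (Nat.beq c 98) [⟨131, 1, 1⟩] []) (cond (Nat.beq c 114) [⟨132, -1, 1⟩] []))))))

/-- Compiled columns of `x_111` for type E7. -/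
def colsE7_111 (c : ℕ) : List CEnt :=
  cond (Nat.blt c 33) (cond (Nat.blt c 12) (cond (Nat.blt c 5) (cond (Nat.blt c 2) (cond (Nat.blt c 1) (cond (Nat.beq c 0) [⟨118, 0, 1⟩] []) (cond (Nat.beq c 1) [⟨118, 0, 1⟩] [])) (cond (Nat.blt c 3) (cond (Nat.beq c 2) [⟨118, -1, 1⟩] []) (cond (Nat.blt c 4) (cond (Nat.beq c 3) [⟨118, 0, 1⟩] []) (cond (Nat.beq c 4) [⟨118, 1, 1⟩] [])))) (cond (Nat.blt c 7) (cond (Nat.blt c 6) (cond (Nat.beq c 5) [⟨118, 0, 1⟩] []) (cond (Nat.beq c 6) [⟨118, -1, 1⟩] [])) (cond (Nat.blt c 8) (cond (Nat.beq c 7) [⟨26, -1, 1⟩] []) (cond (Nat.blt c 11) (cond (Nat.beq c 8) [⟨42, 1, 1⟩] []) (cond (Nat.beq c 11) [⟨51, 1, 1⟩] []))))) (cond (Nat.blt c 21) (cond (Nat.blt c 16) (cond (Nat.blt c 15) (cond (Nat.beq c 12) [⟨52, 1, 1⟩] []) (cond (Nat.beq c 15) [⟨61, -1, 1⟩]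 [])) (cond (Nat.blt c 18) (cond (Nat.beq c 16) [⟨62, -1, 1⟩] []) (cond (Nat.blt c 19) (cond (Nat.beq c 18) [⟨65, 1, 1⟩] []) (cond (Nat.beq c 19) [⟨66, 1, 1⟩] [])))) (cond (Nat.blt c 23) (cond (Nat.blt c 22) (cond (Nat.beq c 21) [⟨118, -1, 2⟩, ⟨0, 1, 1⟩, ⟨1, 1, 1⟩, ⟨2, 2, 1⟩, ⟨3, 2, 1⟩, ⟨4, 1, 1⟩, ⟨5, 1, 1⟩, ⟨6, 1, 1⟩] []) (cond (Nat.beq c 22) [⟨70, 1, 1⟩] [])) (cond (Nat.blt c 27) (cond (Nat.beq c 23) [⟨72, 1, 1⟩] []) (cond (Nat.blt c 30) (cond (Nat.beq c 27) [⟨80, 1, 1⟩] []) (cond (Nat.beq c 30) [⟨81, -1, 1⟩] [])))))) (cond (Nat.blt c 67) (cond (Nat.blt c 46) (cond (Nat.blt c 37) (cond (Nat.blt c 34) (cond (Nat.beq c 33) [⟨84, 1, 1⟩] []) (cond (Nat.beq c 34) [⟨90, 1, 1⟩] [])) (cond (Nat.blt c 38) (cond (Nat.beq c 37) [⟨93, -1, 1⟩] []) (cond (Nat.blt c 43) (cond (Nat.beq c 38)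 [⟨96, 1, 1⟩] []) (cond (Nat.beq c 43) [⟨101, -1, 1⟩] [])))) (cond (Nat.blt c 55) (cond (Nat.blt c 49) (cond (Nat.beq c 46) [⟨102, 1, 1⟩] []) (cond (Nat.beq c 49) [⟨105, -1, 1⟩] [])) (cond (Nat.blt c 58) (cond (Nat.beq c 55) [⟨106, -1, 1⟩] []) (cond (Nat.blt c 59) (cond (Nat.beq c 58) [⟨109, 1, 1⟩] []) (cond (Nat.beq c 59) [⟨112, -1, 1⟩] []))))) (cond (Nat.blt c 78) (cond (Nat.blt c 73) (cond (Nat.blt c 69) (cond (Nat.beq c 67) [⟨116, -1, 1⟩] []) (cond (Nat.beq c 69) [⟨117, -1, 1⟩] [])) (cond (Nat.blt c 74) (cond (Nat.beq c 73) [⟨120, -1, 1⟩] []) (cond (Nat.blt c 77) (cond (Nat.beq c 74) [⟨121, -1, 1⟩] []) (cond (Nat.beq c 77) [⟨123, 1, 1⟩] [])))) (cond (Nat.blt c 88) (cond (Nat.blt c 87) (cond (Nat.beq c 78) [⟨124, 1, 1⟩] []) (cond (Nat.beq c 87) [⟨127, -1, 1⟩] [])) (cond (Nat.blt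 c 97) (cond (Nat.beq c 88) [⟨128, -1, 1⟩] []) (cond (Nat.blt c 113) (cond (Nat.beq c 97) [⟨131, -1, 1⟩] []) (cond (Nat.beq c 113) [⟨132, 1, 1⟩] []))))))

/-- Compiled columns of `x_112` for type E7. -/
def colsE7_112 (c : ℕ) : List CEnt :=
  cond (Nat.blt c 32) (cond (Nat.blt c 13) (cond (Nat.blt c 5) (cond (Nat.blt c 2) (cond (Nat.blt c 1) (cond (Nat.beq c 0) [⟨119, 0, 1⟩] []) (cond (Nat.beq c 1) [⟨119, 0, 1⟩] [])) (cond (Nat.blt c 3) (cond (Nat.beq c 2) [⟨119, -1, 1⟩] []) (cond (Nat.blt c 4) (cond (Nat.beq c 3) [⟨119, 1, 1⟩] []) (cond (Nat.beq c 4) [⟨119, -1, 1⟩] [])))) (cond (Nat.blt c 7) (cond (Nat.blt c 6) (cond (Nat.beq c 5) [⟨119, 0, 1⟩] []) (cond (Nat.beq c 6) [⟨119, 1, 1⟩] [])) (cond (Nat.blt c 8) (cond (Nat.beq c 7) [⟨27, -1, 1⟩] []) (cond (Nat.blt c 10) (cond (Nat.beq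 c 8) [⟨43, 1, 1⟩] []) (cond (Nat.beq c 10) [⟨50, -1, 1⟩] []))))) (cond (Nat.blt c 20) (cond (Nat.blt c 17) (cond (Nat.blt c 14) (cond (Nat.beq c 13) [⟨53, -1, 1⟩] []) (cond (Nat.beq c 14) [⟨60, 1, 1⟩] [])) (cond (Nat.blt c 18) (cond (Nat.beq c 17) [⟨63, 1, 1⟩] []) (cond (Nat.blt c 19) (cond (Nat.beq c 18) [⟨67, -1, 1⟩] []) (cond (Nat.beq c 19) [⟨69, 1, 1⟩] [])))) (cond (Nat.blt c 23) (cond (Nat.blt c 22) (cond (Nat.beq c 20) [⟨119, -1, 2⟩, ⟨0, 1, 1⟩, ⟨1, 1, 1⟩, ⟨2, 2, 1⟩, ⟨3, 2, 1⟩, ⟨4, 2, 1⟩, ⟨5, 1, 1⟩, ⟨6, 0, 1⟩] []) (cond (Nat.beq c 22) [⟨73, 1, 1⟩] [])) (cond (Nat.blt c 26) (cond (Nat.beq c 23) [⟨74, -1, 1⟩] []) (cond (Nat.blt c 31) (cond (Nat.beq c 26) [⟨80, 1, 1⟩] []) (cond (Nat.beq c 31) [⟨82, -1, 1⟩] [])))))) (cond (Nat.blt c 65) (cond (Nat.blt c 47) (cond (Nat.blt c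 36) (cond (Nat.blt c 35) (cond (Nat.beq c 32) [⟨83, 1, 1⟩] []) (cond (Nat.beq c 35) [⟨91, 1, 1⟩] [])) (cond (Nat.blt c 38) (cond (Nat.beq c 36) [⟨92, -1, 1⟩] []) (cond (Nat.blt c 42) (cond (Nat.beq c 38) [⟨97, 1, 1⟩] []) (cond (Nat.beq c 42) [⟨101, -1, 1⟩] [])))) (cond (Nat.blt c 56) (cond (Nat.blt c 48) (cond (Nat.beq c 47) [⟨103, 1, 1⟩] []) (cond (Nat.beq c 48) [⟨104, -1, 1⟩] [])) (cond (Nat.blt c 57) (cond (Nat.beq c 56) [⟨107, -1, 1⟩] []) (cond (Nat.blt c 59) (cond (Nat.beq c 57) [⟨108, 1, 1⟩] []) (cond (Nat.beq c 59) [⟨113, -1, 1⟩] []))))) (cond (Nat.blt c 79) (cond (Nat.blt c 70) (cond (Nat.blt c 66) (cond (Nat.beq c 65) [⟨116, 1, 1⟩] []) (cond (Nat.beq c 66) [⟨117, -1, 1⟩] [])) (cond (Nat.blt c 72) (cond (Nat.beq c 70) [⟨120, -1, 1⟩] []) (cond (Nat.blt c 76) (cond (Nat.beq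 c 72) [⟨121, 1, 1⟩] []) (cond (Nat.beq c 76) [⟨122, -1, 1⟩] [])))) (cond (Nat.blt c 89) (cond (Nat.blt c 86) (cond (Nat.beq c 79) [⟨125, -1, 1⟩] []) (cond (Nat.beq c 86) [⟨126, 1, 1⟩] [])) (cond (Nat.blt c 96) (cond (Nat.beq c 89) [⟨129, 1, 1⟩] []) (cond (Nat.blt c 112) (cond (Nat.beq c 96) [⟨131, -1, 1⟩] []) (cond (Nat.beq c 112) [⟨132, 1, 1⟩] []))))))

/-- Compiled columns of `x_113` for type E7. -/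
def colsE7_113 (c : ℕ) : List CEnt :=
  cond (Nat.blt c 32) (cond (Nat.blt c 12) (cond (Nat.blt c 5) (cond (Nat.blt c 2) (cond (Nat.blt c 1) (cond (Nat.beq c 0) [⟨120, 0, 1⟩] []) (cond (Nat.beq c 1) [⟨120, 0, 1⟩] [])) (cond (Nat.blt c 3) (cond (Nat.beq c 2) [⟨120, -1, 1⟩] []) (cond (Nat.blt c 4) (cond (Nat.beq c 3) [⟨120, 1, 1⟩] []) (cond (Nat.beq c 4) [⟨120, -1, 1⟩] [])))) (cond (Nat.blt c 7) (cond (Nat.blt c 6) (cond (Nat.beq c 5) [⟨120, 1, 1⟩] []) (cond (Nat.beq c 6) [⟨120, -1, 1⟩] [])) (cond (Nat.blt c 8) (cond (Nat.beq c 7) [⟨28, 1, 1⟩] []) (cond (Nat.blt c 10) (cond (Nat.beq c 8) [⟨44, -1, 1⟩] []) (cond (Nat.beq c 10) [⟨51, 1, 1⟩] []))))) (cond (Nat.blt c 20) (cond (Nat.blt c 16) (cond (Nat.blt c 14) (cond (Nat.beq c 12) [⟨53, -1, 1⟩] []) (cond (Nat.beq c 14) [⟨61, -1,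 1⟩] [])) (cond (Nat.blt c 18) (cond (Nat.beq c 16) [⟨63, 1, 1⟩] []) (cond (Nat.blt c 19) (cond (Nat.beq c 18) [⟨68, 1, 1⟩] []) (cond (Nat.beq c 19) [⟨120, -1, 2⟩, ⟨0, 1, 1⟩, ⟨1, 1, 1⟩, ⟨2, 2, 1⟩, ⟨3, 2, 1⟩, ⟨4, 2, 1⟩, ⟨5, 1, 1⟩, ⟨6, 1, 1⟩] [])))) (cond (Nat.blt c 23) (cond (Nat.blt c 21) (cond (Nat.beq c 20) [⟨70, 1, 1⟩] []) (cond (Nat.beq c 21) [⟨73, 1, 1⟩] [])) (cond (Nat.blt c 25) (cond (Nat.beq c 23) [⟨75, -1, 1⟩] []) (cond (Nat.blt c 30) (cond (Nat.beq c 25) [⟨80, 1, 1⟩] []) (cond (Nat.beq c 30) [⟨82, -1, 1⟩] [])))))) (cond (Nat.blt c 64) (cond (Nat.blt c 46) (cond (Nat.blt c 36) (cond (Nat.blt c 34) (cond (Nat.beq c 32) [⟨84, 1, 1⟩] []) (cond (Nat.beq c 34) [⟨91, 1, 1⟩] [])) (cond (Nat.blt c 38) (cond (Nat.beq c 36) [⟨93, -1, 1⟩] []) (cond (Nat.blt c 41) (cond (Nat.beq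 c 38) [⟨98, 1, 1⟩] []) (cond (Nat.beq c 41) [⟨101, -1, 1⟩] [])))) (cond (Nat.blt c 55) (cond (Nat.blt c 48) (cond (Nat.beq c 46) [⟨103, 1, 1⟩] []) (cond (Nat.beq c 48) [⟨105, -1, 1⟩] [])) (cond (Nat.blt c 57) (cond (Nat.beq c 55) [⟨107, -1, 1⟩] []) (cond (Nat.blt c 59) (cond (Nat.beq c 57) [⟨109, 1, 1⟩] []) (cond (Nat.beq c 59) [⟨114, -1, 1⟩] []))))) (cond (Nat.blt c 78) (cond (Nat.blt c 69) (cond (Nat.blt c 66) (cond (Nat.beq c 64) [⟨116, 1, 1⟩] []) (cond (Nat.beq c 66) [⟨118, -1, 1⟩] [])) (cond (Nat.blt c 71) (cond (Nat.beq c 69) [⟨119, -1, 1⟩] []) (cond (Nat.blt c 76) (cond (Nat.beq c 71) [⟨121, -1, 1⟩] []) (cond (Nat.beq c 76) [⟨123, -1, 1⟩] [])))) (cond (Nat.blt c 88) (cond (Nat.blt c 86) (cond (Nat.beq c 78) [⟨125, 1, 1⟩] []) (cond (Nat.beq c 86) [⟨127, 1, 1⟩] [])) (cond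 (Nat.blt c 95) (cond (Nat.beq c 88) [⟨129, -1, 1⟩] []) (cond (Nat.blt c 111) (cond (Nat.beq c 95) [⟨131, 1, 1⟩] []) (cond (Nat.beq c 111) [⟨132, -1, 1⟩] []))))))

/-- Compiled columns of `x_114` for type E7. -/
def colsE7_114 (c : ℕ) : List CEnt :=
  cond (Nat.blt c 31) (cond (Nat.blt c 11) (cond (Nat.blt c 5) (cond (Nat.blt c 2) (cond (Nat.blt c 1) (cond (Nat.beq c 0) [⟨121, 0, 1⟩] []) (cond (Nat.beq c 1) [⟨121, 0, 1⟩] [])) (cond (Nat.blt c 3) (cond (Nat.beq c 2) [⟨121, -1, 1⟩] []) (cond (Nat.blt c 4) (cond (Nat.beq c 3) [⟨121, 1, 1⟩] []) (cond (Nat.beq c 4) [⟨121, 0, 1⟩] [])))) (cond (Nat.blt c 7) (cond (Nat.blt c 6) (cond (Nat.beq c 5) [⟨121, -1, 1⟩] []) (cond (Nat.beq c 6) [⟨121, 0, 1⟩] [])) (cond (Nat.blt c 8) (cond (Nat.beq c 7) [⟨29, -1, 1⟩] []) (cond (Nat.blt c 10) (cond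 (Nat.beq c 8) [⟨45, 1, 1⟩] []) (cond (Nat.beq c 10) [⟨52, -1, 1⟩] []))))) (cond (Nat.blt c 20) (cond (Nat.blt c 15) (cond (Nat.blt c 14) (cond (Nat.beq c 11) [⟨53, -1, 1⟩] []) (cond (Nat.beq c 14) [⟨62, 1, 1⟩] [])) (cond (Nat.blt c 18) (cond (Nat.beq c 15) [⟨63, 1, 1⟩] []) (cond (Nat.blt c 19) (cond (Nat.beq c 18) [⟨121, -1, 2⟩, ⟨0, 1, 1⟩, ⟨1, 1, 1⟩, ⟨2, 2, 1⟩, ⟨3, 2, 1⟩, ⟨4, 2, 1⟩, ⟨5, 2, 1⟩, ⟨6, 1, 1⟩] []) (cond (Nat.beq c 19) [⟨71, 1, 1⟩] [])))) (cond (Nat.blt c 22) (cond (Nat.blt c 21) (cond (Nat.beq c 20) [⟨72, -1, 1⟩] []) (cond (Nat.beq c 21) [⟨74, 1, 1⟩] [])) (cond (Nat.blt c 24) (cond (Nat.beq c 22) [⟨75, -1, 1⟩] []) (cond (Nat.blt c 30) (cond (Nat.beq c 24) [⟨80, 1, 1⟩] []) (cond (Nat.beq c 30) [⟨83, -1, 1⟩] [])))))) (cond (Nat.blt c 64) (cond (Nat.blt c 46) (cond (Nat.blt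 c 35) (cond (Nat.blt c 34) (cond (Nat.beq c 31) [⟨84, 1, 1⟩] []) (cond (Nat.beq c 34) [⟨92, 1, 1⟩] [])) (cond (Nat.blt c 38) (cond (Nat.beq c 35) [⟨93, -1, 1⟩] []) (cond (Nat.blt c 40) (cond (Nat.beq c 38) [⟨99, 1, 1⟩] []) (cond (Nat.beq c 40) [⟨101, -1, 1⟩] [])))) (cond (Nat.blt c 55) (cond (Nat.blt c 47) (cond (Nat.beq c 46) [⟨104, 1, 1⟩] []) (cond (Nat.beq c 47) [⟨105, -1, 1⟩] [])) (cond (Nat.blt c 56) (cond (Nat.beq c 55) [⟨108, -1, 1⟩] []) (cond (Nat.blt c 59) (cond (Nat.beq c 56) [⟨109, 1, 1⟩] []) (cond (Nat.beq c 59) [⟨115, -1, 1⟩] []))))) (cond (Nat.blt c 77) (cond (Nat.blt c 67) (cond (Nat.blt c 65) (cond (Nat.beq c 64) [⟨117, 1, 1⟩] []) (cond (Nat.beq c 65) [⟨118, -1, 1⟩] [])) (cond (Nat.blt c 68) (cond (Nat.beq c 67) [⟨119, 1, 1⟩] []) (cond (Nat.blt c 76) (cond (Nat.beq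 c 68) [⟨120, -1, 1⟩] []) (cond (Nat.beq c 76) [⟨124, -1, 1⟩] [])))) (cond (Nat.blt c 87) (cond (Nat.blt c 86) (cond (Nat.beq c 77) [⟨125, -1, 1⟩] []) (cond (Nat.beq c 86) [⟨128, 1, 1⟩] [])) (cond (Nat.blt c 94) (cond (Nat.beq c 87) [⟨129, 1, 1⟩] []) (cond (Nat.blt c 110) (cond (Nat.beq c 94) [⟨131, -1, 1⟩] []) (cond (Nat.beq c 110) [⟨132, 1, 1⟩] []))))))

/-- Compiled columns of `x_115` for type E7. -/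
def colsE7_115 (c : ℕ) : List CEnt :=
  cond (Nat.blt c 29) (cond (Nat.blt c 13) (cond (Nat.blt c 5) (cond (Nat.blt c 2) (cond (Nat.blt c 1) (cond (Nat.beq c 0) [⟨122, 0, 1⟩] []) (cond (Nat.beq c 1) [⟨122, 1, 1⟩] [])) (cond (Nat.blt c 3) (cond (Nat.beq c 2) [⟨122, 0, 1⟩] []) (cond (Nat.blt c 4) (cond (Nat.beq c 3) [⟨122, -1, 1⟩] []) (cond (Nat.beq c 4) [⟨122, 0, 1⟩] [])))) (cond (Nat.blt c 7) (cond (Nat.blt c 6) (cond (Nat.beq c 5) [⟨122, 0, 1⟩] []) (cond (Nat.beq c 6) [⟨122, 1, 1⟩] [])) (cond (Nat.blt c 8) (cond (Nat.beq c 7) [⟨30, 1, 1⟩] []) (cond (Nat.blt c 9) (cond (Nat.beq c 8) [⟨46, -1, 1⟩] []) (cond (Nat.beq c 9) [⟨50, -1, 1⟩] []))))) (cond (Nat.blt c 20) (cond (Nat.blt c 15) (cond (Nat.blt c 14) (cond (Nat.beq c 13) [⟨54, 1, 1⟩] []) (cond (Nat.beq c 14) [⟨64, 1, 1⟩]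 [])) (cond (Nat.blt c 16) (cond (Nat.beq c 15) [⟨67, -1, 1⟩] []) (cond (Nat.blt c 17) (cond (Nat.beq c 16) [⟨69, 1, 1⟩] []) (cond (Nat.beq c 17) [⟨122, -1, 2⟩, ⟨0, 1, 1⟩, ⟨1, 1, 1⟩, ⟨2, 2, 1⟩, ⟨3, 3, 1⟩, ⟨4, 2, 1⟩, ⟨5, 1, 1⟩, ⟨6, 0, 1⟩] [])))) (cond (Nat.blt c 23) (cond (Nat.blt c 22) (cond (Nat.beq c 20) [⟨76, 1, 1⟩] []) (cond (Nat.beq c 22) [⟨77, -1, 1⟩] [])) (cond (Nat.blt c 26) (cond (Nat.beq c 23) [⟨78, 1, 1⟩] []) (cond (Nat.blt c 28) (cond (Nat.beq c 26) [⟨81, 1, 1⟩] []) (cond (Nat.beq c 28) [⟨82, -1, 1⟩] [])))))) (cond (Nat.blt c 61) (cond (Nat.blt c 44) (cond (Nat.blt c 36) (cond (Nat.blt c 35) (cond (Nat.beq c 29) [⟨83, 1, 1⟩] []) (cond (Nat.beq c 35) [⟨94, 1, 1⟩] [])) (cond (Nat.blt c 37) (cond (Nat.beq c 36) [⟨95, -1, 1⟩] []) (cond (Nat.blt c 42) (cond (Nat.beq c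 37) [⟨97, 1, 1⟩] []) (cond (Nat.beq c 42) [⟨102, -1, 1⟩] [])))) (cond (Nat.blt c 56) (cond (Nat.blt c 45) (cond (Nat.beq c 44) [⟨103, 1, 1⟩] []) (cond (Nat.beq c 45) [⟨104, -1, 1⟩] [])) (cond (Nat.blt c 57) (cond (Nat.beq c 56) [⟨110, -1, 1⟩] []) (cond (Nat.blt c 58) (cond (Nat.beq c 57) [⟨111, 1, 1⟩] []) (cond (Nat.beq c 58) [⟨113, -1, 1⟩] []))))) (cond (Nat.blt c 75) (cond (Nat.blt c 63) (cond (Nat.blt c 62) (cond (Nat.beq c 61) [⟨116, -1, 1⟩] []) (cond (Nat.beq c 62) [⟨117, 1, 1⟩] [])) (cond (Nat.blt c 70) (cond (Nat.beq c 63) [⟨119, -1, 1⟩] []) (cond (Nat.blt c 72) (cond (Nat.beq c 70) [⟨123, -1, 1⟩] []) (cond (Nat.beq c 72) [⟨124, 1, 1⟩] [])))) (cond (Nat.blt c 89) (cond (Nat.blt c 85) (cond (Nat.beq c 75) [⟨125, -1, 1⟩] []) (cond (Nat.beq c 85) [⟨126, -1, 1⟩] [])) (cond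 (Nat.blt c 93) (cond (Nat.beq c 89) [⟨130, 1, 1⟩] []) (cond (Nat.blt c 109) (cond (Nat.beq c 93) [⟨131, 1, 1⟩] []) (cond (Nat.beq c 109) [⟨132, -1, 1⟩] []))))))

/-- Compiled columns of `x_116` for type E7. -/
def colsE7_116 (c : ℕ) : List CEnt :=
  cond (Nat.blt c 29) (cond (Nat.blt c 12) (cond (Nat.blt c 5) (cond (Nat.blt c 2) (cond (Nat.blt c 1) (cond (Nat.beq c 0) [⟨123, 0, 1⟩] []) (cond (Nat.beq c 1) [⟨123, 1, 1⟩] [])) (cond (Nat.blt c 3) (cond (Nat.beq c 2) [⟨123, 0, 1⟩] []) (cond (Nat.blt c 4) (cond (Nat.beq c 3) [⟨123, -1, 1⟩] []) (cond (Nat.beq c 4) [⟨123, 0, 1⟩] [])))) (cond (Nat.blt c 7) (cond (Nat.blt c 6) (cond (Nat.beq c 5) [⟨123, 1, 1⟩] []) (cond (Nat.beq c 6) [⟨123, -1, 1⟩] [])) (cond (Nat.blt c 8) (cond (Nat.beq c 7) [⟨31, -1, 1⟩] []) (cond (Nat.blt c 9) (cond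 (Nat.beq c 8) [⟨47, 1, 1⟩] []) (cond (Nat.beq c 9) [⟨51, 1, 1⟩] []))))) (cond (Nat.blt c 19) (cond (Nat.blt c 15) (cond (Nat.blt c 14) (cond (Nat.beq c 12) [⟨54, 1, 1⟩] []) (cond (Nat.beq c 14) [⟨65, -1, 1⟩] [])) (cond (Nat.blt c 16) (cond (Nat.beq c 15) [⟨68, 1, 1⟩] []) (cond (Nat.blt c 17) (cond (Nat.beq c 16) [⟨123, -1, 2⟩, ⟨0, 1, 1⟩, ⟨1, 1, 1⟩, ⟨2, 2, 1⟩, ⟨3, 3, 1⟩, ⟨4, 2, 1⟩, ⟨5, 1, 1⟩, ⟨6, 1, 1⟩] []) (cond (Nat.beq c 17) [⟨70, 1, 1⟩] [])))) (cond (Nat.blt c 23) (cond (Nat.blt c 21) (cond (Nat.beq c 19) [⟨76, 1, 1⟩] []) (cond (Nat.beq c 21) [⟨77, -1, 1⟩] [])) (cond (Nat.blt c 25) (cond (Nat.beq c 23) [⟨79, 1, 1⟩] []) (cond (Nat.blt c 27) (cond (Nat.beq c 25) [⟨81, 1, 1⟩] []) (cond (Nat.beq c 27) [⟨82, -1, 1⟩] [])))))) (cond (Nat.blt c 60) (cond (Nat.blt c 43) (cond (Nat.blt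 c 36) (cond (Nat.blt c 34) (cond (Nat.beq c 29) [⟨84, 1, 1⟩] []) (cond (Nat.beq c 34) [⟨94, 1, 1⟩] [])) (cond (Nat.blt c 37) (cond (Nat.beq c 36) [⟨96, -1, 1⟩] []) (cond (Nat.blt c 41) (cond (Nat.beq c 37) [⟨98, 1, 1⟩] []) (cond (Nat.beq c 41) [⟨102, -1, 1⟩] [])))) (cond (Nat.blt c 55) (cond (Nat.blt c 45) (cond (Nat.beq c 43) [⟨103, 1, 1⟩] []) (cond (Nat.beq c 45) [⟨105, -1, 1⟩] [])) (cond (Nat.blt c 57) (cond (Nat.beq c 55) [⟨110, -1, 1⟩] []) (cond (Nat.blt c 58) (cond (Nat.beq c 57) [⟨112, 1, 1⟩] []) (cond (Nat.beq c 58) [⟨114, -1, 1⟩] []))))) (cond (Nat.blt c 74) (cond (Nat.blt c 63) (cond (Nat.blt c 62) (cond (Nat.beq c 60) [⟨116, -1, 1⟩] []) (cond (Nat.beq c 62) [⟨118, 1, 1⟩] [])) (cond (Nat.blt c 69) (cond (Nat.beq c 63) [⟨120, -1, 1⟩] []) (cond (Nat.blt c 71) (cond (Nat.beq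 c 69) [⟨122, -1, 1⟩] []) (cond (Nat.beq c 71) [⟨124, -1, 1⟩] [])))) (cond (Nat.blt c 88) (cond (Nat.blt c 85) (cond (Nat.beq c 74) [⟨125, 1, 1⟩] []) (cond (Nat.beq c 85) [⟨127, -1, 1⟩] [])) (cond (Nat.blt c 92) (cond (Nat.beq c 88) [⟨130, -1, 1⟩] []) (cond (Nat.blt c 108) (cond (Nat.beq c 92) [⟨131, -1, 1⟩] []) (cond (Nat.beq c 108) [⟨132, 1, 1⟩] []))))))

/-- Compiled columns of `x_117` for type E7. -/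
def colsE7_117 (c : ℕ) : List CEnt :=
  cond (Nat.blt c 28) (cond (Nat.blt c 11) (cond (Nat.blt c 5) (cond (Nat.blt c 2) (cond (Nat.blt c 1) (cond (Nat.beq c 0) [⟨124, 0, 1⟩] []) (cond (Nat.beq c 1) [⟨124, 1, 1⟩] [])) (cond (Nat.blt c 3) (cond (Nat.beq c 2) [⟨124, 0, 1⟩] []) (cond (Nat.blt c 4) (cond (Nat.beq c 3) [⟨124, -1, 1⟩] []) (cond (Nat.beq c 4) [⟨124, 1, 1⟩] [])))) (cond (Nat.blt c 7) (cond (Nat.blt c 6) (cond (Nat.beq c 5) [⟨124, -1, 1⟩] []) (cond (Nat.beq c 6) [⟨124, 0, 1⟩] [])) (cond (Nat.blt c 8) (cond (Nat.beq c 7) [⟨32, 1, 1⟩] []) (cond (Nat.blt c 9) (cond (Nat.beq c 8) [⟨48, -1, 1⟩] []) (cond (Nat.beq c 9) [⟨52, -1, 1⟩] []))))) (cond (Nat.blt c 18) (cond (Nat.blt c 15) (cond (Nat.blt c 14) (cond (Nat.beq c 11) [⟨54, 1, 1⟩] []) (cond (Nat.beq c 14) [⟨66, 1, 1⟩]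 [])) (cond (Nat.blt c 16) (cond (Nat.beq c 15) [⟨124, -1, 2⟩, ⟨0, 1, 1⟩, ⟨1, 1, 1⟩, ⟨2, 2, 1⟩, ⟨3, 3, 1⟩, ⟨4, 2, 1⟩, ⟨5, 2, 1⟩, ⟨6, 1, 1⟩] []) (cond (Nat.blt c 17) (cond (Nat.beq c 16) [⟨71, 1, 1⟩] []) (cond (Nat.beq c 17) [⟨72, -1, 1⟩] [])))) (cond (Nat.blt c 22) (cond (Nat.blt c 21) (cond (Nat.beq c 18) [⟨76, 1, 1⟩] []) (cond (Nat.beq c 21) [⟨78, -1, 1⟩] [])) (cond (Nat.blt c 24) (cond (Nat.beq c 22) [⟨79, 1, 1⟩] []) (cond (Nat.blt c 27) (cond (Nat.beq c 24) [⟨81, 1, 1⟩] []) (cond (Nat.beq c 27) [⟨83, -1, 1⟩] [])))))) (cond (Nat.blt c 60) (cond (Nat.blt c 43) (cond (Nat.blt c 35) (cond (Nat.blt c 34) (cond (Nat.beq c 28) [⟨84, 1, 1⟩] []) (cond (Nat.beq c 34) [⟨95, 1, 1⟩] [])) (cond (Nat.blt c 37) (cond (Nat.beq c 35) [⟨96, -1, 1⟩] []) (cond (Nat.blt c 40) (cond (Nat.beq c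 37) [⟨99, 1, 1⟩] []) (cond (Nat.beq c 40) [⟨102, -1, 1⟩] [])))) (cond (Nat.blt c 55) (cond (Nat.blt c 44) (cond (Nat.beq c 43) [⟨104, 1, 1⟩] []) (cond (Nat.beq c 44) [⟨105, -1, 1⟩] [])) (cond (Nat.blt c 56) (cond (Nat.beq c 55) [⟨111, -1, 1⟩] []) (cond (Nat.blt c 58) (cond (Nat.beq c 56) [⟨112, 1, 1⟩] []) (cond (Nat.beq c 58) [⟨115, -1, 1⟩] []))))) (cond (Nat.blt c 73) (cond (Nat.blt c 63) (cond (Nat.blt c 61) (cond (Nat.beq c 60) [⟨117, -1, 1⟩] []) (cond (Nat.beq c 61) [⟨118, 1, 1⟩] [])) (cond (Nat.blt c 67) (cond (Nat.beq c 63) [⟨121, -1, 1⟩] []) (cond (Nat.blt c 68) (cond (Nat.beq c 67) [⟨122, 1, 1⟩] []) (cond (Nat.beq c 68) [⟨123, -1, 1⟩] [])))) (cond (Nat.blt c 87) (cond (Nat.blt c 85) (cond (Nat.beq c 73) [⟨125, -1, 1⟩] []) (cond (Nat.beq c 85) [⟨128, -1, 1⟩] [])) (cond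 (Nat.blt c 91) (cond (Nat.beq c 87) [⟨130, 1, 1⟩] []) (cond (Nat.blt c 107) (cond (Nat.beq c 91) [⟨131, 1, 1⟩] []) (cond (Nat.beq c 107) [⟨132, -1, 1⟩] []))))))

/-- Compiled columns of `x_118` for type E7. -/
def colsE7_118 (c : ℕ) : List CEnt :=
  cond (Nat.blt c 26) (cond (Nat.blt c 10) (cond (Nat.blt c 5) (cond (Nat.blt c 2) (cond (Nat.blt c 1) (cond (Nat.beq c 0) [⟨125, 0, 1⟩] []) (cond (Nat.beq c 1) [⟨125, 1, 1⟩] [])) (cond (Nat.blt c 3) (cond (Nat.beq c 2) [⟨125, 0, 1⟩] []) (cond (Nat.blt c 4) (cond (Nat.beq c 3) [⟨125, 0, 1⟩] []) (cond (Nat.beq c 4) [⟨125, -1, 1⟩] [])))) (cond (Nat.blt c 7) (cond (Nat.blt c 6) (cond (Nat.beq c 5) [⟨125, 0, 1⟩] []) (cond (Nat.beq c 6) [⟨125, 0, 1⟩] [])) (cond (Nat.blt c 8) (cond (Nat.beq c 7) [⟨33, -1, 1⟩] []) (cond (Nat.blt c 9) (cond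 (Nat.beq c 8) [⟨49, 1, 1⟩] []) (cond (Nat.beq c 9) [⟨53, 1, 1⟩] []))))) (cond (Nat.blt c 18) (cond (Nat.blt c 15) (cond (Nat.blt c 14) (cond (Nat.beq c 10) [⟨54, 1, 1⟩] []) (cond (Nat.beq c 14) [⟨125, -1, 2⟩, ⟨0, 1, 1⟩, ⟨1, 1, 1⟩, ⟨2, 2, 1⟩, ⟨3, 3, 1⟩, ⟨4, 3, 1⟩, ⟨5, 2, 1⟩, ⟨6, 1, 1⟩] [])) (cond (Nat.blt c 16) (cond (Nat.beq c 15) [⟨73, 1, 1⟩] []) (cond (Nat.blt c 17) (cond (Nat.beq c 16) [⟨74, -1, 1⟩] []) (cond (Nat.beq c 17) [⟨75, 1, 1⟩] [])))) (cond (Nat.blt c 20) (cond (Nat.blt c 19) (cond (Nat.beq c 18) [⟨77, 1, 1⟩] []) (cond (Nat.beq c 19) [⟨78, -1, 1⟩] [])) (cond (Nat.blt c 24) (cond (Nat.beq c 20) [⟨79, 1, 1⟩] []) (cond (Nat.blt c 25) (cond (Nat.beq c 24) [⟨82, 1, 1⟩] []) (cond (Nat.beq c 25) [⟨83, -1, 1⟩] [])))))) (cond (Nat.blt c 60) (cond (Nat.blt c 41) (cond (Nat.blt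 c 35) (cond (Nat.blt c 34) (cond (Nat.beq c 26) [⟨84, 1, 1⟩] []) (cond (Nat.beq c 34) [⟨97, 1, 1⟩] [])) (cond (Nat.blt c 36) (cond (Nat.beq c 35) [⟨98, -1, 1⟩] []) (cond (Nat.blt c 40) (cond (Nat.beq c 36) [⟨99, 1, 1⟩] []) (cond (Nat.beq c 40) [⟨103, -1, 1⟩] [])))) (cond (Nat.blt c 55) (cond (Nat.blt c 42) (cond (Nat.beq c 41) [⟨104, 1, 1⟩] []) (cond (Nat.beq c 42) [⟨105, -1, 1⟩] [])) (cond (Nat.blt c 56) (cond (Nat.beq c 55) [⟨113, -1, 1⟩] []) (cond (Nat.blt c 57) (cond (Nat.beq c 56) [⟨114, 1, 1⟩] []) (cond (Nat.beq c 57) [⟨115, -1, 1⟩] []))))) (cond (Nat.blt c 66) (cond (Nat.blt c 62) (cond (Nat.blt c 61) (cond (Nat.beq c 60) [⟨119, -1, 1⟩] []) (cond (Nat.beq c 61) [⟨120, 1, 1⟩] [])) (cond (Nat.blt c 64) (cond (Nat.beq c 62) [⟨121, -1, 1⟩] []) (cond (Nat.blt c 65) (cond (Nat.beq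 c 64) [⟨122, -1, 1⟩] []) (cond (Nat.beq c 65) [⟨123, 1, 1⟩] [])))) (cond (Nat.blt c 86) (cond (Nat.blt c 85) (cond (Nat.beq c 66) [⟨124, -1, 1⟩] []) (cond (Nat.beq c 85) [⟨129, -1, 1⟩] [])) (cond (Nat.blt c 90) (cond (Nat.beq c 86) [⟨130, -1, 1⟩] []) (cond (Nat.blt c 106) (cond (Nat.beq c 90) [⟨131, -1, 1⟩] []) (cond (Nat.beq c 106) [⟨132, 1, 1⟩] []))))))

/-- Compiled columns of `x_119` for type E7. -/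
def colsE7_119 (c : ℕ) : List CEnt :=
  cond (Nat.blt c 29) (cond (Nat.blt c 10) (cond (Nat.blt c 5) (cond (Nat.blt c 2) (cond (Nat.blt c 1) (cond (Nat.beq c 0) [⟨126, 0, 1⟩] []) (cond (Nat.beq c 1) [⟨126, -1, 1⟩] [])) (cond (Nat.blt c 3) (cond (Nat.beq c 2) [⟨126, 0, 1⟩] []) (cond (Nat.blt c 4) (cond (Nat.beq c 3) [⟨126, 0, 1⟩] []) (cond (Nat.beq c 4) [⟨126, 0, 1⟩] [])))) (cond (Nat.blt c 7) (cond (Nat.blt c 6) (cond (Nat.beq c 5) [⟨126, 0, 1⟩] []) (cond (Nat.beq c 6) [⟨126, 1, 1⟩] [])) (cond (Nat.blt c 8) (cond (Nat.beq c 7) [⟨34, -1, 1⟩] []) (cond (Nat.blt c 9) (cond (Nat.beq c 8) [⟨55, 1, 1⟩] []) (cond (Nat.beq c 9) [⟨60, -1, 1⟩] []))))) (cond (Nat.blt c 20) (cond (Nat.blt c 12) (cond (Nat.blt c 11) (cond (Nat.beq c 10) [⟨64, 1, 1⟩] []) (cond (Nat.beq c 11) [⟨67, -1, 1⟩]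 [])) (cond (Nat.blt c 13) (cond (Nat.beq c 12) [⟨69, 1, 1⟩] []) (cond (Nat.blt c 17) (cond (Nat.beq c 13) [⟨126, -1, 2⟩, ⟨0, 1, 1⟩, ⟨1, 2, 1⟩, ⟨2, 2, 1⟩, ⟨3, 3, 1⟩, ⟨4, 2, 1⟩, ⟨5, 1, 1⟩, ⟨6, 0, 1⟩] []) (cond (Nat.beq c 17) [⟨85, 1, 1⟩] [])))) (cond (Nat.blt c 23) (cond (Nat.blt c 22) (cond (Nat.beq c 20) [⟨86, -1, 1⟩] []) (cond (Nat.beq c 22) [⟨87, 1, 1⟩] [])) (cond (Nat.blt c 26) (cond (Nat.beq c 23) [⟨88, -1, 1⟩] []) (cond (Nat.blt c 28) (cond (Nat.beq c 26) [⟨90, 1, 1⟩] []) (cond (Nat.beq c 28) [⟨91, -1, 1⟩] [])))))) (cond (Nat.blt c 51) (cond (Nat.blt c 44) (cond (Nat.blt c 32) (cond (Nat.blt c 31) (cond (Nat.beq c 29) [⟨92, 1, 1⟩] []) (cond (Nat.beq c 31) [⟨94, 1, 1⟩] [])) (cond (Nat.blt c 33) (cond (Nat.beq c 32) [⟨95, -1, 1⟩] []) (cond (Nat.blt c 42) (cond (Nat.beq c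 33) [⟨97, 1, 1⟩] []) (cond (Nat.beq c 42) [⟨106, -1, 1⟩] [])))) (cond (Nat.blt c 47) (cond (Nat.blt c 45) (cond (Nat.beq c 44) [⟨107, 1, 1⟩] []) (cond (Nat.beq c 45) [⟨108, -1, 1⟩] [])) (cond (Nat.blt c 48) (cond (Nat.beq c 47) [⟨110, -1, 1⟩] []) (cond (Nat.blt c 49) (cond (Nat.beq c 48) [⟨111, 1, 1⟩] []) (cond (Nat.beq c 49) [⟨113, -1, 1⟩] []))))) (cond (Nat.blt c 72) (cond (Nat.blt c 53) (cond (Nat.blt c 52) (cond (Nat.beq c 51) [⟨116, 1, 1⟩] []) (cond (Nat.beq c 52) [⟨117, -1, 1⟩] [])) (cond (Nat.blt c 54) (cond (Nat.beq c 53) [⟨119, 1, 1⟩] []) (cond (Nat.blt c 70) (cond (Nat.beq c 54) [⟨122, -1, 1⟩] []) (cond (Nat.beq c 70) [⟨127, -1, 1⟩] [])))) (cond (Nat.blt c 79) (cond (Nat.blt c 75) (cond (Nat.beq c 72) [⟨128, 1, 1⟩] []) (cond (Nat.beq c 75) [⟨129, -1, 1⟩] [])) (cond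 (Nat.blt c 84) (cond (Nat.beq c 79) [⟨130, 1, 1⟩] []) (cond (Nat.blt c 105) (cond (Nat.beq c 84) [⟨131, -1, 1⟩] []) (cond (Nat.beq c 105) [⟨132, 1, 1⟩] []))))))

/-- Compiled columns of `x_120` for type E7. -/
def colsE7_120 (c : ℕ) : List CEnt :=
  cond (Nat.blt c 29) (cond (Nat.blt c 10) (cond (Nat.blt c 5) (cond (Nat.blt c 2) (cond (Nat.blt c 1) (cond (Nat.beq c 0) [⟨127, 0, 1⟩] []) (cond (Nat.beq c 1) [⟨127, -1, 1⟩] [])) (cond (Nat.blt c 3) (cond (Nat.beq c 2) [⟨127, 0, 1⟩] []) (cond (Nat.blt c 4) (cond (Nat.beq c 3) [⟨127, 0, 1⟩] []) (cond (Nat.beq c 4) [⟨127, 0, 1⟩] [])))) (cond (Nat.blt c 7) (cond (Nat.blt c 6) (cond (Nat.beq c 5) [⟨127, 1, 1⟩] []) (cond (Nat.beq c 6) [⟨127, -1, 1⟩] [])) (cond (Nat.blt c 8) (cond (Nat.beq c 7) [⟨35, 1, 1⟩] []) (cond (Nat.blt c 9) (cond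 (Nat.beq c 8) [⟨56, -1, 1⟩] []) (cond (Nat.beq c 9) [⟨61, 1, 1⟩] []))))) (cond (Nat.blt c 19) (cond (Nat.blt c 12) (cond (Nat.blt c 11) (cond (Nat.beq c 10) [⟨65, -1, 1⟩] []) (cond (Nat.beq c 11) [⟨68, 1, 1⟩] [])) (cond (Nat.blt c 13) (cond (Nat.beq c 12) [⟨127, -1, 2⟩, ⟨0, 1, 1⟩, ⟨1, 2, 1⟩, ⟨2, 2, 1⟩, ⟨3, 3, 1⟩, ⟨4, 2, 1⟩, ⟨5, 1, 1⟩, ⟨6, 1, 1⟩] []) (cond (Nat.blt c 16) (cond (Nat.beq c 13) [⟨70, 1, 1⟩] []) (cond (Nat.beq c 16) [⟨85, 1, 1⟩] [])))) (cond (Nat.blt c 23) (cond (Nat.blt c 21) (cond (Nat.beq c 19) [⟨86, -1, 1⟩] []) (cond (Nat.beq c 21) [⟨87, 1, 1⟩] [])) (cond (Nat.blt c 25) (cond (Nat.beq c 23) [⟨89, -1, 1⟩] []) (cond (Nat.blt c 27) (cond (Nat.beq c 25) [⟨90, 1, 1⟩] []) (cond (Nat.beq c 27) [⟨91, -1, 1⟩] [])))))) (cond (Nat.blt c 50) (cond (Nat.blt c 43) (cond (Nat.blt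 c 32) (cond (Nat.blt c 30) (cond (Nat.beq c 29) [⟨93, 1, 1⟩] []) (cond (Nat.beq c 30) [⟨94, 1, 1⟩] [])) (cond (Nat.blt c 33) (cond (Nat.beq c 32) [⟨96, -1, 1⟩] []) (cond (Nat.blt c 41) (cond (Nat.beq c 33) [⟨98, 1, 1⟩] []) (cond (Nat.beq c 41) [⟨106, -1, 1⟩] [])))) (cond (Nat.blt c 46) (cond (Nat.blt c 45) (cond (Nat.beq c 43) [⟨107, 1, 1⟩] []) (cond (Nat.beq c 45) [⟨109, -1, 1⟩] [])) (cond (Nat.blt c 48) (cond (Nat.beq c 46) [⟨110, -1, 1⟩] []) (cond (Nat.blt c 49) (cond (Nat.beq c 48) [⟨112, 1, 1⟩] []) (cond (Nat.beq c 49) [⟨114, -1, 1⟩] []))))) (cond (Nat.blt c 71) (cond (Nat.blt c 53) (cond (Nat.blt c 52) (cond (Nat.beq c 50) [⟨116, 1, 1⟩] []) (cond (Nat.beq c 52) [⟨118, -1, 1⟩] [])) (cond (Nat.blt c 54) (cond (Nat.beq c 53) [⟨120, 1, 1⟩] []) (cond (Nat.blt c 69) (cond (Nat.beq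 c 54) [⟨123, -1, 1⟩] []) (cond (Nat.beq c 69) [⟨126, -1, 1⟩] [])))) (cond (Nat.blt c 78) (cond (Nat.blt c 74) (cond (Nat.beq c 71) [⟨128, -1, 1⟩] []) (cond (Nat.beq c 74) [⟨129, 1, 1⟩] [])) (cond (Nat.blt c 83) (cond (Nat.beq c 78) [⟨130, -1, 1⟩] []) (cond (Nat.blt c 104) (cond (Nat.beq c 83) [⟨131, 1, 1⟩] []) (cond (Nat.beq c 104) [⟨132, -1, 1⟩] []))))))

/-- Compiled columns of `x_121` for type E7. -/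
def colsE7_121 (c : ℕ) : List CEnt :=
  cond (Nat.blt c 28) (cond (Nat.blt c 10) (cond (Nat.blt c 5) (cond (Nat.blt c 2) (cond (Nat.blt c 1) (cond (Nat.beq c 0) [⟨128, 0, 1⟩] []) (cond (Nat.beq c 1) [⟨128, -1, 1⟩] [])) (cond (Nat.blt c 3) (cond (Nat.beq c 2) [⟨128, 0, 1⟩] []) (cond (Nat.blt c 4) (cond (Nat.beq c 3) [⟨128, 0, 1⟩] []) (cond (Nat.beq c 4) [⟨128, 1, 1⟩] [])))) (cond (Nat.blt c 7) (cond (Nat.blt c 6) (cond (Nat.beq c 5) [⟨128, -1, 1⟩] []) (cond (Nat.beq c 6) [⟨128, 0, 1⟩] [])) (cond (Nat.blt c 8) (cond (Nat.beq c 7) [⟨36, -1, 1⟩] []) (cond (Nat.blt c 9) (cond (Nat.beq c 8) [⟨57, 1, 1⟩] []) (cond (Nat.beq c 9) [⟨62, -1, 1⟩] []))))) (cond (Nat.blt c 18) (cond (Nat.blt c 12) (cond (Nat.blt c 11) (cond (Nat.beq c 10) [⟨66, 1, 1⟩] []) (cond (Nat.beq c 11) [⟨128, -1, 2⟩,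 ⟨0, 1, 1⟩, ⟨1, 2, 1⟩, ⟨2, 2, 1⟩, ⟨3, 3, 1⟩, ⟨4, 2, 1⟩, ⟨5, 2, 1⟩, ⟨6, 1, 1⟩] [])) (cond (Nat.blt c 13) (cond (Nat.beq c 12) [⟨71, 1, 1⟩] []) (cond (Nat.blt c 15) (cond (Nat.beq c 13) [⟨72, -1, 1⟩] []) (cond (Nat.beq c 15) [⟨85, 1, 1⟩] [])))) (cond (Nat.blt c 22) (cond (Nat.blt c 21) (cond (Nat.beq c 18) [⟨86, -1, 1⟩] []) (cond (Nat.beq c 21) [⟨88, 1, 1⟩] [])) (cond (Nat.blt c 24) (cond (Nat.beq c 22) [⟨89, -1, 1⟩] []) (cond (Nat.blt c 27) (cond (Nat.beq c 24) [⟨90, 1, 1⟩] []) (cond (Nat.beq c 27) [⟨92, -1, 1⟩] [])))))) (cond (Nat.blt c 50) (cond (Nat.blt c 43) (cond (Nat.blt c 31) (cond (Nat.blt c 30) (cond (Nat.beq c 28) [⟨93, 1, 1⟩] []) (cond (Nat.beq c 30) [⟨95, 1, 1⟩] [])) (cond (Nat.blt c 33) (cond (Nat.beq c 31) [⟨96, -1, 1⟩] []) (cond (Nat.blt c 40) (cond (Nat.beq c 33)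 [⟨99, 1, 1⟩] []) (cond (Nat.beq c 40) [⟨106, -1, 1⟩] [])))) (cond (Nat.blt c 46) (cond (Nat.blt c 44) (cond (Nat.beq c 43) [⟨108, 1, 1⟩] []) (cond (Nat.beq c 44) [⟨109, -1, 1⟩] [])) (cond (Nat.blt c 47) (cond (Nat.beq c 46) [⟨111, -1, 1⟩] []) (cond (Nat.blt c 49) (cond (Nat.beq c 47) [⟨112, 1, 1⟩] []) (cond (Nat.beq c 49) [⟨115, -1, 1⟩] []))))) (cond (Nat.blt c 68) (cond (Nat.blt c 53) (cond (Nat.blt c 51) (cond (Nat.beq c 50) [⟨117, 1, 1⟩] []) (cond (Nat.beq c 51) [⟨118, -1, 1⟩] [])) (cond (Nat.blt c 54) (cond (Nat.beq c 53) [⟨121, 1, 1⟩] []) (cond (Nat.blt c 67) (cond (Nat.beq c 54) [⟨124, -1, 1⟩] []) (cond (Nat.beq c 67) [⟨126, 1, 1⟩] [])))) (cond (Nat.blt c 77) (cond (Nat.blt c 73) (cond (Nat.beq c 68) [⟨127, -1, 1⟩] []) (cond (Nat.beq c 73) [⟨129, -1, 1⟩] [])) (cond (Nat.blt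 c 82) (cond (Nat.beq c 77) [⟨130, 1, 1⟩] []) (cond (Nat.blt c 103) (cond (Nat.beq c 82) [⟨131, -1, 1⟩] []) (cond (Nat.beq c 103) [⟨132, 1, 1⟩] []))))))

/-- Compiled columns of `x_122` for type E7. -/
def colsE7_122 (c : ℕ) : List CEnt :=
  cond (Nat.blt c 26) (cond (Nat.blt c 10) (cond (Nat.blt c 5) (cond (Nat.blt c 2) (cond (Nat.blt c 1) (cond (Nat.beq c 0) [⟨129, 0, 1⟩] []) (cond (Nat.beq c 1) [⟨129, -1, 1⟩] [])) (cond (Nat.blt c 3) (cond (Nat.beq c 2) [⟨129, 0, 1⟩] []) (cond (Nat.blt c 4) (cond (Nat.beq c 3) [⟨129, 1, 1⟩] []) (cond (Nat.beq c 4) [⟨129, -1, 1⟩] [])))) (cond (Nat.blt c 7) (cond (Nat.blt c 6) (cond (Nat.beq c 5) [⟨129, 0, 1⟩] []) (cond (Nat.beq c 6) [⟨129, 0, 1⟩] [])) (cond (Nat.blt c 8) (cond (Nat.beq c 7) [⟨37, 1, 1⟩] []) (cond (Nat.blt c 9) (cond (Nat.beq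 c 8) [⟨58, -1, 1⟩] []) (cond (Nat.beq c 9) [⟨63, 1, 1⟩] []))))) (cond (Nat.blt c 18) (cond (Nat.blt c 12) (cond (Nat.blt c 11) (cond (Nat.beq c 10) [⟨129, -1, 2⟩, ⟨0, 1, 1⟩, ⟨1, 2, 1⟩, ⟨2, 2, 1⟩, ⟨3, 3, 1⟩, ⟨4, 3, 1⟩, ⟨5, 2, 1⟩, ⟨6, 1, 1⟩] []) (cond (Nat.beq c 11) [⟨73, 1, 1⟩] [])) (cond (Nat.blt c 13) (cond (Nat.beq c 12) [⟨74, -1, 1⟩] []) (cond (Nat.blt c 14) (cond (Nat.beq c 13) [⟨75, 1, 1⟩] []) (cond (Nat.beq c 14) [⟨85, 1, 1⟩] [])))) (cond (Nat.blt c 20) (cond (Nat.blt c 19) (cond (Nat.beq c 18) [⟨87, -1, 1⟩] []) (cond (Nat.beq c 19) [⟨88, 1, 1⟩] [])) (cond (Nat.blt c 24) (cond (Nat.beq c 20) [⟨89, -1, 1⟩] []) (cond (Nat.blt c 25) (cond (Nat.beq c 24) [⟨91, 1, 1⟩] []) (cond (Nat.beq c 25) [⟨92, -1, 1⟩] [])))))) (cond (Nat.blt c 50) (cond (Nat.blt c 41) (cond (Nat.blt c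 31) (cond (Nat.blt c 30) (cond (Nat.beq c 26) [⟨93, 1, 1⟩] []) (cond (Nat.beq c 30) [⟨97, 1, 1⟩] [])) (cond (Nat.blt c 32) (cond (Nat.beq c 31) [⟨98, -1, 1⟩] []) (cond (Nat.blt c 40) (cond (Nat.beq c 32) [⟨99, 1, 1⟩] []) (cond (Nat.beq c 40) [⟨107, -1, 1⟩] [])))) (cond (Nat.blt c 46) (cond (Nat.blt c 42) (cond (Nat.beq c 41) [⟨108, 1, 1⟩] []) (cond (Nat.beq c 42) [⟨109, -1, 1⟩] [])) (cond (Nat.blt c 47) (cond (Nat.beq c 46) [⟨113, -1, 1⟩] []) (cond (Nat.blt c 48) (cond (Nat.beq c 47) [⟨114, 1, 1⟩] []) (cond (Nat.beq c 48) [⟨115, -1, 1⟩] []))))) (cond (Nat.blt c 65) (cond (Nat.blt c 52) (cond (Nat.blt c 51) (cond (Nat.beq c 50) [⟨119, 1, 1⟩] []) (cond (Nat.beq c 51) [⟨120, -1, 1⟩] [])) (cond (Nat.blt c 54) (cond (Nat.beq c 52) [⟨121, 1, 1⟩] []) (cond (Nat.blt c 64) (cond (Nat.beq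 c 54) [⟨125, -1, 1⟩] []) (cond (Nat.beq c 64) [⟨126, -1, 1⟩] [])))) (cond (Nat.blt c 76) (cond (Nat.blt c 66) (cond (Nat.beq c 65) [⟨127, 1, 1⟩] []) (cond (Nat.beq c 66) [⟨128, -1, 1⟩] [])) (cond (Nat.blt c 81) (cond (Nat.beq c 76) [⟨130, -1, 1⟩] []) (cond (Nat.blt c 102) (cond (Nat.beq c 81) [⟨131, 1, 1⟩] []) (cond (Nat.beq c 102) [⟨132, -1, 1⟩] []))))))

/-- Compiled columns of `x_123` for type E7. -/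
def colsE7_123 (c : ℕ) : List CEnt :=
  cond (Nat.blt c 26) (cond (Nat.blt c 10) (cond (Nat.blt c 5) (cond (Nat.blt c 2) (cond (Nat.blt c 1) (cond (Nat.beq c 0) [⟨130, 0, 1⟩] []) (cond (Nat.beq c 1) [⟨130, 0, 1⟩] [])) (cond (Nat.blt c 3) (cond (Nat.beq c 2) [⟨130, 1, 1⟩] []) (cond (Nat.blt c 4) (cond (Nat.beq c 3) [⟨130, -1, 1⟩] []) (cond (Nat.beq c 4) [⟨130, 0, 1⟩] [])))) (cond (Nat.blt c 7) (cond (Nat.blt c 6) (cond (Nat.beq c 5) [⟨130, 0, 1⟩] []) (cond (Nat.beq c 6) [⟨130, 0, 1⟩] [])) (cond (Nat.blt c 8) (cond (Nat.beq c 7) [⟨38, -1, 1⟩] []) (cond (Nat.blt c 9) (cond (Nat.beq c 8) [⟨59, 1, 1⟩] []) (cond (Nat.beq c 9) [⟨130, -1, 2⟩, ⟨0, 1, 1⟩, ⟨1, 2, 1⟩, ⟨2, 2, 1⟩, ⟨3, 4, 1⟩, ⟨4, 3, 1⟩, ⟨5, 2, 1⟩, ⟨6, 1, 1⟩] []))))) (cond (Nat.blt c 15) (cond (Nat.blt c 12) (cond (Nat.blt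 c 11) (cond (Nat.beq c 10) [⟨76, 1, 1⟩] []) (cond (Nat.beq c 11) [⟨77, -1, 1⟩] [])) (cond (Nat.blt c 13) (cond (Nat.beq c 12) [⟨78, 1, 1⟩] []) (cond (Nat.blt c 14) (cond (Nat.beq c 13) [⟨79, -1, 1⟩] []) (cond (Nat.beq c 14) [⟨86, 1, 1⟩] [])))) (cond (Nat.blt c 17) (cond (Nat.blt c 16) (cond (Nat.beq c 15) [⟨87, -1, 1⟩] []) (cond (Nat.beq c 16) [⟨88, 1, 1⟩] [])) (cond (Nat.blt c 24) (cond (Nat.beq c 17) [⟨89, -1, 1⟩] []) (cond (Nat.blt c 25) (cond (Nat.beq c 24) [⟨94, 1, 1⟩] []) (cond (Nat.beq c 25) [⟨95, -1, 1⟩] [])))))) (cond (Nat.blt c 50) (cond (Nat.blt c 41) (cond (Nat.blt c 28) (cond (Nat.blt c 27) (cond (Nat.beq c 26) [⟨96, 1, 1⟩] []) (cond (Nat.beq c 27) [⟨97, 1, 1⟩] [])) (cond (Nat.blt c 29) (cond (Nat.beq c 28) [⟨98, -1, 1⟩] []) (cond (Nat.blt c 40) (cond (Nat.beq c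 29) [⟨99, 1, 1⟩] []) (cond (Nat.beq c 40) [⟨110, -1, 1⟩] [])))) (cond (Nat.blt c 43) (cond (Nat.blt c 42) (cond (Nat.beq c 41) [⟨111, 1, 1⟩] []) (cond (Nat.beq c 42) [⟨112, -1, 1⟩] [])) (cond (Nat.blt c 44) (cond (Nat.beq c 43) [⟨113, -1, 1⟩] []) (cond (Nat.blt c 45) (cond (Nat.beq c 44) [⟨114, 1, 1⟩] []) (cond (Nat.beq c 45) [⟨115, -1, 1⟩] []))))) (cond (Nat.blt c 61) (cond (Nat.blt c 52) (cond (Nat.blt c 51) (cond (Nat.beq c 50) [⟨122, 1, 1⟩] []) (cond (Nat.beq c 51) [⟨123, -1, 1⟩] [])) (cond (Nat.blt c 53) (cond (Nat.beq c 52) [⟨124, 1, 1⟩] []) (cond (Nat.blt c 60) (cond (Nat.beq c 53) [⟨125, -1, 1⟩] []) (cond (Nat.beq c 60) [⟨126, 1, 1⟩] [])))) (cond (Nat.blt c 63) (cond (Nat.blt c 62) (cond (Nat.beq c 61) [⟨127, -1, 1⟩] []) (cond (Nat.beq c 62) [⟨128, 1, 1⟩] [])) (cond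 (Nat.blt c 80) (cond (Nat.beq c 63) [⟨129, -1, 1⟩] []) (cond (Nat.blt c 101) (cond (Nat.beq c 80) [⟨131, -1, 1⟩] []) (cond (Nat.beq c 101) [⟨132, 1, 1⟩] []))))))

/-- Compiled columns of `x_124` for type E7. -/
def colsE7_124 (c : ℕ) : List CEnt :=
  cond (Nat.blt c 20) (cond (Nat.blt c 10) (cond (Nat.blt c 5) (cond (Nat.blt c 2) (cond (Nat.blt c 1) (cond (Nat.beq c 0) [⟨131, 1, 1⟩] []) (cond (Nat.beq c 1) [⟨131, 0, 1⟩] [])) (cond (Nat.blt c 3) (cond (Nat.beq c 2) [⟨131, -1, 1⟩] []) (cond (Nat.blt c 4) (cond (Nat.beq c 3) [⟨131, 0, 1⟩] []) (cond (Nat.beq c 4) [⟨131, 0, 1⟩] [])))) (cond (Nat.blt c 7) (cond (Nat.blt c 6) (cond (Nat.beq c 5) [⟨131, 0, 1⟩] []) (cond (Nat.beq c 6) [⟨131, 0, 1⟩] [])) (cond (Nat.blt c 8) (cond (Nat.beq c 7) [⟨39, 1, 1⟩] []) (cond (Nat.blt c 9) (cond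 (Nat.beq c 8) [⟨131, -1, 2⟩, ⟨0, 1, 1⟩, ⟨1, 2, 1⟩, ⟨2, 3, 1⟩, ⟨3, 4, 1⟩, ⟨4, 3, 1⟩, ⟨5, 2, 1⟩, ⟨6, 1, 1⟩] []) (cond (Nat.beq c 9) [⟨80, 1, 1⟩] []))))) (cond (Nat.blt c 15) (cond (Nat.blt c 12) (cond (Nat.blt c 11) (cond (Nat.beq c 10) [⟨81, -1, 1⟩] []) (cond (Nat.beq c 11) [⟨82, 1, 1⟩] [])) (cond (Nat.blt c 13) (cond (Nat.beq c 12) [⟨83, -1, 1⟩] []) (cond (Nat.blt c 14) (cond (Nat.beq c 13) [⟨84, 1, 1⟩] []) (cond (Nat.beq c 14) [⟨90, 1, 1⟩] [])))) (cond (Nat.blt c 17) (cond (Nat.blt c 16) (cond (Nat.beq c 15) [⟨91, -1, 1⟩] []) (cond (Nat.beq c 16) [⟨92, 1, 1⟩] [])) (cond (Nat.blt c 18) (cond (Nat.beq c 17) [⟨93, -1, 1⟩] []) (cond (Nat.blt c 19) (cond (Nat.beq c 18) [⟨94, 1, 1⟩] []) (cond (Nat.beq c 19) [⟨95, -1, 1⟩] [])))))) (cond (Nat.blt c 46) (cond (Nat.blt c 41) (cond (Nat.blt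 c 22) (cond (Nat.blt c 21) (cond (Nat.beq c 20) [⟨96, 1, 1⟩] []) (cond (Nat.beq c 21) [⟨97, 1, 1⟩] [])) (cond (Nat.blt c 23) (cond (Nat.beq c 22) [⟨98, -1, 1⟩] []) (cond (Nat.blt c 40) (cond (Nat.beq c 23) [⟨99, 1, 1⟩] []) (cond (Nat.beq c 40) [⟨116, -1, 1⟩] [])))) (cond (Nat.blt c 43) (cond (Nat.blt c 42) (cond (Nat.beq c 41) [⟨117, 1, 1⟩] []) (cond (Nat.beq c 42) [⟨118, -1, 1⟩] [])) (cond (Nat.blt c 44) (cond (Nat.beq c 43) [⟨119, -1, 1⟩] []) (cond (Nat.blt c 45) (cond (Nat.beq c 44) [⟨120, 1, 1⟩] []) (cond (Nat.beq c 45) [⟨121, -1, 1⟩] []))))) (cond (Nat.blt c 56) (cond (Nat.blt c 48) (cond (Nat.blt c 47) (cond (Nat.beq c 46) [⟨122, 1, 1⟩] []) (cond (Nat.beq c 47) [⟨123, -1, 1⟩] [])) (cond (Nat.blt c 49) (cond (Nat.beq c 48) [⟨124, 1, 1⟩] []) (cond (Nat.blt c 55) (cond (Nat.beq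 c 49) [⟨125, -1, 1⟩] []) (cond (Nat.beq c 55) [⟨126, -1, 1⟩] [])))) (cond (Nat.blt c 58) (cond (Nat.blt c 57) (cond (Nat.beq c 56) [⟨127, 1, 1⟩] []) (cond (Nat.beq c 57) [⟨128, -1, 1⟩] [])) (cond (Nat.blt c 59) (cond (Nat.beq c 58) [⟨129, 1, 1⟩] []) (cond (Nat.blt c 100) (cond (Nat.beq c 59) [⟨130, -1, 1⟩] []) (cond (Nat.beq c 100) [⟨132, -1, 1⟩] []))))))

/-- Compiled columns of `x_125` for type E7. -/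
def colsE7_125 (c : ℕ) : List CEnt :=
  cond (Nat.blt c 20) (cond (Nat.blt c 10) (cond (Nat.blt c 5) (cond (Nat.blt c 2) (cond (Nat.blt c 1) (cond (Nat.beq c 0) [⟨132, -1, 1⟩] []) (cond (Nat.beq c 1) [⟨132, 0, 1⟩] [])) (cond (Nat.blt c 3) (cond (Nat.beq c 2) [⟨132, 0, 1⟩] []) (cond (Nat.blt c 4) (cond (Nat.beq c 3) [⟨132, 0, 1⟩] []) (cond (Nat.beq c 4) [⟨132, 0, 1⟩] [])))) (cond (Nat.blt c 7) (cond (Nat.blt c 6) (cond (Nat.beq c 5) [⟨132, 0, 1⟩] []) (cond (Nat.beq c 6) [⟨132, 0, 1⟩] [])) (cond (Nat.blt c 8) (cond (Nat.beq c 7) [⟨132, -1, 2⟩, ⟨0, 2, 1⟩, ⟨1, 2, 1⟩, ⟨2, 3, 1⟩, ⟨3, 4, 1⟩, ⟨4, 3, 1⟩, ⟨5, 2, 1⟩, ⟨6, 1, 1⟩] []) (cond (Nat.blt c 9) (cond (Nat.beq c 8) [⟨100, 1, 1⟩] []) (cond (Nat.beq c 9) [⟨101, -1, 1⟩] []))))) (cond (Nat.blt c 15) (cond (Nat.blt c 12) (cond (Nat.blt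 c 11) (cond (Nat.beq c 10) [⟨102, 1, 1⟩] []) (cond (Nat.beq c 11) [⟨103, -1, 1⟩] [])) (cond (Nat.blt c 13) (cond (Nat.beq c 12) [⟨104, 1, 1⟩] []) (cond (Nat.blt c 14) (cond (Nat.beq c 13) [⟨105, -1, 1⟩] []) (cond (Nat.beq c 14) [⟨106, -1, 1⟩] [])))) (cond (Nat.blt c 17) (cond (Nat.blt c 16) (cond (Nat.beq c 15) [⟨107, 1, 1⟩] []) (cond (Nat.beq c 16) [⟨108, -1, 1⟩] [])) (cond (Nat.blt c 18) (cond (Nat.beq c 17) [⟨109, 1, 1⟩] []) (cond (Nat.blt c 19) (cond (Nat.beq c 18) [⟨110, -1, 1⟩] []) (cond (Nat.beq c 19) [⟨111, 1, 1⟩] [])))))) (cond (Nat.blt c 30) (cond (Nat.blt c 25) (cond (Nat.blt c 22) (cond (Nat.blt c 21) (cond (Nat.beq c 20) [⟨112, -1, 1⟩] []) (cond (Nat.beq c 21) [⟨113, -1, 1⟩] [])) (cond (Nat.blt c 23) (cond (Nat.beq c 22) [⟨114, 1, 1⟩] []) (cond (Nat.blt c 24) (cond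 (Nat.beq c 23) [⟨115, -1, 1⟩] []) (cond (Nat.beq c 24) [⟨116, 1, 1⟩] [])))) (cond (Nat.blt c 27) (cond (Nat.blt c 26) (cond (Nat.beq c 25) [⟨117, -1, 1⟩] []) (cond (Nat.beq c 26) [⟨118, 1, 1⟩] [])) (cond (Nat.blt c 28) (cond (Nat.beq c 27) [⟨119, 1, 1⟩] []) (cond (Nat.blt c 29) (cond (Nat.beq c 28) [⟨120, -1, 1⟩] []) (cond (Nat.beq c 29) [⟨121, 1, 1⟩] []))))) (cond (Nat.blt c 35) (cond (Nat.blt c 32) (cond (Nat.blt c 31) (cond (Nat.beq c 30) [⟨122, -1, 1⟩] []) (cond (Nat.beq c 31) [⟨123, 1, 1⟩] [])) (cond (Nat.blt c 33) (cond (Nat.beq c 32) [⟨124, -1, 1⟩] []) (cond (Nat.blt c 34) (cond (Nat.beq c 33) [⟨125, 1, 1⟩] []) (cond (Nat.beq c 34) [⟨126, 1, 1⟩] [])))) (cond (Nat.blt c 37) (cond (Nat.blt c 36) (cond (Nat.beq c 35) [⟨127, -1, 1⟩] []) (cond (Nat.beq c 36) [⟨128, 1, 1⟩]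 [])) (cond (Nat.blt c 38) (cond (Nat.beq c 37) [⟨129, -1, 1⟩] []) (cond (Nat.blt c 39) (cond (Nat.beq c 38) [⟨130, 1, 1⟩] []) (cond (Nat.beq c 39) [⟨131, -1, 1⟩] []))))))

end Cfsg.Agent.Lib.Helper3.ChevM
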