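import Cfsg.Agent.Lib.Helper3.ChevData.E7ColsA
import Cfsg.Agent.Lib.Helper3.ChevData.E7ColsB
import Cfsg.Agent.Lib.Helper3.ChevData.E7ColsC
set_option autoImplicit false

namespace Cfsg.Agent.Lib.Helper3.ChevM

/-- Compiled columns of the root elements of type E7. -/
def colsE7 (r c : ℕ) : List CEnt :=
  cond (Nat.blt r 63) (cond (Nat.blt r 31) (cond (Nat.blt r 15) (cond (Nat.blt r 7) (cond (Nat.blt r 3) (cond (Nat.blt r 1) (cond (Nat.beq r 0) (colsE7_0 c) []) (cond (Nat.blt r 2) (cond (Nat.beq r 1) (colsE7_1 c) []) (cond (Nat.beq r 2) (colsE7_2 c) []))) (cond (Nat.blt r 5) (cond (Nat.blt r 4) (cond (Nat.beq r 3) (colsE7_3 c) []) (cond (Nat.beq r 4) (colsE7_4 c) [])) (cond (Nat.blt r 6) (cond (Nat.beq r 5) (colsE7_5 c) []) (cond (Nat.beq r 6) (colsE7_6 c) [])))) (cond (Nat.blt r 11) (cond (Nat.blt r 9) (cond (Nat.blt r 8) (cond (Nat.beq r 7) (colsE7_7 c) []) (cond (Nat.beq r 8) (colsE7_8 c) [])) (cond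 (Nat.blt r 10) (cond (Nat.beq r 9) (colsE7_9 c) []) (cond (Nat.beq r 10) (colsE7_10 c) []))) (cond (Nat.blt r 13) (cond (Nat.blt r 12) (cond (Nat.beq r 11) (colsE7_11 c) []) (cond (Nat.beq r 12) (colsE7_12 c) [])) (cond (Nat.blt r 14) (cond (Nat.beq r 13) (colsE7_13 c) []) (cond (Nat.beq r 14) (colsE7_14 c) []))))) (cond (Nat.blt r 23) (cond (Nat.blt r 19) (cond (Nat.blt r 17) (cond (Nat.blt r 16) (cond (Nat.beq r 15) (colsE7_15 c) []) (cond (Nat.beq r 16) (colsE7_16 c) [])) (cond (Nat.blt r 18) (cond (Nat.beq r 17) (colsE7_17 c) []) (cond (Nat.beq r 18) (colsE7_18 c) []))) (cond (Nat.blt r 21) (cond (Nat.blt r 20) (cond (Nat.beq r 19) (colsE7_19 c) []) (cond (Nat.beq r 20) (colsE7_20 c) [])) (cond (Nat.blt r 22) (cond (Nat.beq r 21) (colsE7_21 c) []) (cond (Nat.beq r 22) (colsE7_22 c) [])))) (cond (Nat.blt r 27) (cond (Nat.blt r 25) (cond (Nat.blt r 24) (cond (Nat.beq r 23) (colsE7_23 c) []) (cond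 (Nat.beq r 24) (colsE7_24 c) [])) (cond (Nat.blt r 26) (cond (Nat.beq r 25) (colsE7_25 c) []) (cond (Nat.beq r 26) (colsE7_26 c) []))) (cond (Nat.blt r 29) (cond (Nat.blt r 28) (cond (Nat.beq r 27) (colsE7_27 c) []) (cond (Nat.beq r 28) (colsE7_28 c) [])) (cond (Nat.blt r 30) (cond (Nat.beq r 29) (colsE7_29 c) []) (cond (Nat.beq r 30) (colsE7_30 c) [])))))) (cond (Nat.blt r 47) (cond (Nat.blt r 39) (cond (Nat.blt r 35) (cond (Nat.blt r 33) (cond (Nat.blt r 32) (cond (Nat.beq r 31) (colsE7_31 c) []) (cond (Nat.beq r 32) (colsE7_32 c) [])) (cond (Nat.blt r 34) (cond (Nat.beq r 33) (colsE7_33 c) []) (cond (Nat.beq r 34) (colsE7_34 c) []))) (cond (Nat.blt r 37) (cond (Nat.blt r 36) (cond (Nat.beq r 35) (colsE7_35 c) []) (cond (Nat.beq r 36) (colsE7_36 c) [])) (cond (Nat.blt r 38) (cond (Nat.beq r 37) (colsE7_37 c) []) (cond (Nat.beq r 38) (colsE7_38 c) [])))) (cond (Nat.blt r 43) (cond (Nat.blt r 41)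 (cond (Nat.blt r 40) (cond (Nat.beq r 39) (colsE7_39 c) []) (cond (Nat.beq r 40) (colsE7_40 c) [])) (cond (Nat.blt r 42) (cond (Nat.beq r 41) (colsE7_41 c) []) (cond (Nat.beq r 42) (colsE7_42 c) []))) (cond (Nat.blt r 45) (cond (Nat.blt r 44) (cond (Nat.beq r 43) (colsE7_43 c) []) (cond (Nat.beq r 44) (colsE7_44 c) [])) (cond (Nat.blt r 46) (cond (Nat.beq r 45) (colsE7_45 c) []) (cond (Nat.beq r 46) (colsE7_46 c) []))))) (cond (Nat.blt r 55) (cond (Nat.blt r 51) (cond (Nat.blt r 49) (cond (Nat.blt r 48) (cond (Nat.beq r 47) (colsE7_47 c) []) (cond (Nat.beq r 48) (colsE7_48 c) [])) (cond (Nat.blt r 50) (cond (Nat.beq r 49) (colsE7_49 c) []) (cond (Nat.beq r 50) (colsE7_50 c) []))) (cond (Nat.blt r 53) (cond (Nat.blt r 52) (cond (Nat.beq r 51) (colsE7_51 c) []) (cond (Nat.beq r 52) (colsE7_52 c) [])) (cond (Nat.blt r 54) (cond (Nat.beq r 53) (colsE7_53 c) []) (cond (Nat.beq r 54) (colsE7_54 c) []))))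 (cond (Nat.blt r 59) (cond (Nat.blt r 57) (cond (Nat.blt r 56) (cond (Nat.beq r 55) (colsE7_55 c) []) (cond (Nat.beq r 56) (colsE7_56 c) [])) (cond (Nat.blt r 58) (cond (Nat.beq r 57) (colsE7_57 c) []) (cond (Nat.beq r 58) (colsE7_58 c) []))) (cond (Nat.blt r 61) (cond (Nat.blt r 60) (cond (Nat.beq r 59) (colsE7_59 c) []) (cond (Nat.beq r 60) (colsE7_60 c) [])) (cond (Nat.blt r 62) (cond (Nat.beq r 61) (colsE7_61 c) []) (cond (Nat.beq r 62) (colsE7_62 c) []))))))) (cond (Nat.blt r 94) (cond (Nat.blt r 78) (cond (Nat.blt r 70) (cond (Nat.blt r 66) (cond (Nat.blt r 64) (cond (Nat.beq r 63) (colsE7_63 c) []) (cond (Nat.blt r 65) (cond (Nat.beq r 64) (colsE7_64 c) []) (cond (Nat.beq r 65) (colsE7_65 c) []))) (cond (Nat.blt r 68) (cond (Nat.blt r 67) (cond (Nat.beq r 66) (colsE7_66 c) []) (cond (Nat.beq r 67) (colsE7_67 c) [])) (cond (Nat.blt r 69) (cond (Nat.beq r 68) (colsE7_68 c) []) (cond (Nat.beq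 r 69) (colsE7_69 c) [])))) (cond (Nat.blt r 74) (cond (Nat.blt r 72) (cond (Nat.blt r 71) (cond (Nat.beq r 70) (colsE7_70 c) []) (cond (Nat.beq r 71) (colsE7_71 c) [])) (cond (Nat.blt r 73) (cond (Nat.beq r 72) (colsE7_72 c) []) (cond (Nat.beq r 73) (colsE7_73 c) []))) (cond (Nat.blt r 76) (cond (Nat.blt r 75) (cond (Nat.beq r 74) (colsE7_74 c) []) (cond (Nat.beq r 75) (colsE7_75 c) [])) (cond (Nat.blt r 77) (cond (Nat.beq r 76) (colsE7_76 c) []) (cond (Nat.beq r 77) (colsE7_77 c) []))))) (cond (Nat.blt r 86) (cond (Nat.blt r 82) (cond (Nat.blt r 80) (cond (Nat.blt r 79) (cond (Nat.beq r 78) (colsE7_78 c) []) (cond (Nat.beq r 79) (colsE7_79 c) [])) (cond (Nat.blt r 81) (cond (Nat.beq r 80) (colsE7_80 c) []) (cond (Nat.beq r 81) (colsE7_81 c) []))) (cond (Nat.blt r 84) (cond (Nat.blt r 83) (cond (Nat.beq r 82) (colsE7_82 c) []) (cond (Nat.beq r 83) (colsE7_83 c) [])) (cond (Nat.blt r 85) (cond (Nat.beq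 r 84) (colsE7_84 c) []) (cond (Nat.beq r 85) (colsE7_85 c) [])))) (cond (Nat.blt r 90) (cond (Nat.blt r 88) (cond (Nat.blt r 87) (cond (Nat.beq r 86) (colsE7_86 c) []) (cond (Nat.beq r 87) (colsE7_87 c) [])) (cond (Nat.blt r 89) (cond (Nat.beq r 88) (colsE7_88 c) []) (cond (Nat.beq r 89) (colsE7_89 c) []))) (cond (Nat.blt r 92) (cond (Nat.blt r 91) (cond (Nat.beq r 90) (colsE7_90 c) []) (cond (Nat.beq r 91) (colsE7_91 c) [])) (cond (Nat.blt r 93) (cond (Nat.beq r 92) (colsE7_92 c) []) (cond (Nat.beq r 93) (colsE7_93 c) [])))))) (cond (Nat.blt r 110) (cond (Nat.blt r 102) (cond (Nat.blt r 98) (cond (Nat.blt r 96) (cond (Nat.blt r 95) (cond (Nat.beq r 94) (colsE7_94 c) []) (cond (Nat.beq r 95) (colsE7_95 c) [])) (cond (Nat.blt r 97) (cond (Nat.beq r 96) (colsE7_96 c) []) (cond (Nat.beq r 97) (colsE7_97 c) []))) (cond (Nat.blt r 100) (cond (Nat.blt r 99) (cond (Nat.beq r 98) (colsE7_98 c) []) (cond (Nat.beq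 r 99) (colsE7_99 c) [])) (cond (Nat.blt r 101) (cond (Nat.beq r 100) (colsE7_100 c) []) (cond (Nat.beq r 101) (colsE7_101 c) [])))) (cond (Nat.blt r 106) (cond (Nat.blt r 104) (cond (Nat.blt r 103) (cond (Nat.beq r 102) (colsE7_102 c) []) (cond (Nat.beq r 103) (colsE7_103 c) [])) (cond (Nat.blt r 105) (cond (Nat.beq r 104) (colsE7_104 c) []) (cond (Nat.beq r 105) (colsE7_105 c) []))) (cond (Nat.blt r 108) (cond (Nat.blt r 107) (cond (Nat.beq r 106) (colsE7_106 c) []) (cond (Nat.beq r 107) (colsE7_107 c) [])) (cond (Nat.blt r 109) (cond (Nat.beq r 108) (colsE7_108 c) []) (cond (Nat.beq r 109) (colsE7_109 c) []))))) (cond (Nat.blt r 118) (cond (Nat.blt r 114) (cond (Nat.blt r 112) (cond (Nat.blt r 111) (cond (Nat.beq r 110) (colsE7_110 c) []) (cond (Nat.beq r 111) (colsE7_111 c) [])) (cond (Nat.blt r 113) (cond (Nat.beq r 112) (colsE7_112 c) []) (cond (Nat.beq r 113) (colsE7_113 c) []))) (cond (Nat.blt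 r 116) (cond (Nat.blt r 115) (cond (Nat.beq r 114) (colsE7_114 c) []) (cond (Nat.beq r 115) (colsE7_115 c) [])) (cond (Nat.blt r 117) (cond (Nat.beq r 116) (colsE7_116 c) []) (cond (Nat.beq r 117) (colsE7_117 c) [])))) (cond (Nat.blt r 122) (cond (Nat.blt r 120) (cond (Nat.blt r 119) (cond (Nat.beq r 118) (colsE7_118 c) []) (cond (Nat.beq r 119) (colsE7_119 c) [])) (cond (Nat.blt r 121) (cond (Nat.beq r 120) (colsE7_120 c) []) (cond (Nat.beq r 121) (colsE7_121 c) []))) (cond (Nat.blt r 124) (cond (Nat.blt r 123) (cond (Nat.beq r 122) (colsE7_122 c) []) (cond (Nat.beq r 123) (colsE7_123 c) [])) (cond (Nat.blt r 125) (cond (Nat.beq r 124) (colsE7_124 c) []) (cond (Nat.beq r 125) (colsE7_125 c) [])))))))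

end Cfsg.Agent.Lib.Helper3.ChevM
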