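import Cfsg.Agent.Lib.Helper3.ChevM2
set_option autoImplicit false
set_option maxRecDepth 100000

namespace Cfsg.Agent.Lib.Helper3.ChevM

/-- Compiled columns of `x_0` for type E7. -/
def colsE7_0 (c : ℕ) : List CEnt :=
  cond (Nat.blt c 113) (cond (Nat.blt c 103) (cond (Nat.blt c 5) (cond (Nat.blt c 2) (cond (Nat.blt c 1) (cond (Nat.beq c 0) [⟨7, 1, 1⟩] []) (cond (Nat.beq c 1) [⟨7, 0, 1⟩] [])) (cond (Nat.blt c 3) (cond (Nat.beq c 2) [⟨7, 0, 1⟩] []) (cond (Nat.blt c 4) (cond (Nat.beq c 3) [⟨7, 0, 1⟩] []) (cond (Nat.beq c 4) [⟨7, 0, 1⟩] [])))) (cond (Nat.blt c 100) (cond (Nat.blt c 6) (cond (Nat.beq c 5) [⟨7, 0, 1⟩] []) (cond (Nat.beq c 6) [⟨7, 0, 1⟩] [])) (cond (Nat.blt c 101) (cond (Nat.beq c 100) [⟨8, 1, 1⟩] []) (cond (Nat.blt c 102) (cond (Nat.beq c 101) [⟨9, -1, 1⟩] []) (cond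 (Nat.beq c 102) [⟨10, 1, 1⟩] []))))) (cond (Nat.blt c 108) (cond (Nat.blt c 105) (cond (Nat.blt c 104) (cond (Nat.beq c 103) [⟨11, -1, 1⟩] []) (cond (Nat.beq c 104) [⟨12, 1, 1⟩] [])) (cond (Nat.blt c 106) (cond (Nat.beq c 105) [⟨13, -1, 1⟩] []) (cond (Nat.blt c 107) (cond (Nat.beq c 106) [⟨14, -1, 1⟩] []) (cond (Nat.beq c 107) [⟨15, 1, 1⟩] [])))) (cond (Nat.blt c 110) (cond (Nat.blt c 109) (cond (Nat.beq c 108) [⟨16, -1, 1⟩] []) (cond (Nat.beq c 109) [⟨17, 1, 1⟩] [])) (cond (Nat.blt c 111) (cond (Nat.beq c 110) [⟨18, -1, 1⟩] []) (cond (Nat.blt c 112) (cond (Nat.beq c 111) [⟨19, 1, 1⟩] []) (cond (Nat.beq c 112) [⟨20, -1, 1⟩] [])))))) (cond (Nat.blt c 123) (cond (Nat.blt c 118) (cond (Nat.blt c 115) (cond (Nat.blt c 114) (cond (Nat.beq c 113) [⟨21, -1, 1⟩] []) (cond (Nat.beq c 114)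 [⟨22, 1, 1⟩] [])) (cond (Nat.blt c 116) (cond (Nat.beq c 115) [⟨23, -1, 1⟩] []) (cond (Nat.blt c 117) (cond (Nat.beq c 116) [⟨24, 1, 1⟩] []) (cond (Nat.beq c 117) [⟨25, -1, 1⟩] [])))) (cond (Nat.blt c 120) (cond (Nat.blt c 119) (cond (Nat.beq c 118) [⟨26, 1, 1⟩] []) (cond (Nat.beq c 119) [⟨27, 1, 1⟩] [])) (cond (Nat.blt c 121) (cond (Nat.beq c 120) [⟨28, -1, 1⟩] []) (cond (Nat.blt c 122) (cond (Nat.beq c 121) [⟨29, 1, 1⟩] []) (cond (Nat.beq c 122) [⟨30, -1, 1⟩] []))))) (cond (Nat.blt c 128) (cond (Nat.blt c 125) (cond (Nat.blt c 124) (cond (Nat.beq c 123) [⟨31, 1, 1⟩] []) (cond (Nat.beq c 124) [⟨32, -1, 1⟩] [])) (cond (Nat.blt c 126) (cond (Nat.beq c 125) [⟨33, 1, 1⟩] []) (cond (Nat.blt c 127) (cond (Nat.beq c 126) [⟨34, 1, 1⟩] []) (cond (Nat.beq c 127) [⟨35, -1, 1⟩] [])))) (cond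 (Nat.blt c 130) (cond (Nat.blt c 129) (cond (Nat.beq c 128) [⟨36, 1, 1⟩] []) (cond (Nat.beq c 129) [⟨37, -1, 1⟩] [])) (cond (Nat.blt c 131) (cond (Nat.beq c 130) [⟨38, 1, 1⟩] []) (cond (Nat.blt c 132) (cond (Nat.beq c 131) [⟨39, -1, 1⟩] []) (cond (Nat.beq c 132) [⟨7, -1, 2⟩, ⟨0, -2, 1⟩, ⟨1, -2, 1⟩, ⟨2, -3, 1⟩, ⟨3, -4, 1⟩, ⟨4, -3, 1⟩, ⟨5, -2, 1⟩, ⟨6, -1, 1⟩] []))))))

/-- Compiled columns of `x_1` for type E7. -/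
def colsE7_1 (c : ℕ) : List CEnt :=
  cond (Nat.blt c 97) (cond (Nat.blt c 82) (cond (Nat.blt c 5) (cond (Nat.blt c 2) (cond (Nat.blt c 1) (cond (Nat.beq c 0) [⟨8, -1, 1⟩] []) (cond (Nat.beq c 1) [⟨8, 0, 1⟩] [])) (cond (Nat.blt c 3) (cond (Nat.beq c 2) [⟨8, 1, 1⟩] []) (cond (Nat.blt c 4) (cond (Nat.beq c 3) [⟨8, 0, 1⟩] []) (cond (Nat.beq c 4) [⟨8, 0, 1⟩] [])))) (cond (Nat.blt c 39) (cond (Nat.blt c 6) (cond (Nat.beq c 5) [⟨8, 0, 1⟩] []) (cond (Nat.beq c 6) [⟨8, 0, 1⟩] [])) (cond (Nat.blt c 80) (cond (Nat.beq c 39) [⟨7, 1, 1⟩] []) (cond (Nat.blt c 81) (cond (Nat.beq c 80) [⟨9, 1, 1⟩] []) (cond (Nat.beq c 81) [⟨10, -1, 1⟩] []))))) (cond (Nat.blt c 92) (cond (Nat.blt c 84) (cond (Nat.blt c 83) (cond (Nat.beq c 82) [⟨11, 1, 1⟩] []) (cond (Nat.beq c 83) [⟨12, -1, 1⟩] [])) (cond (Nat.blt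 c 90) (cond (Nat.beq c 84) [⟨13, 1, 1⟩] []) (cond (Nat.blt c 91) (cond (Nat.beq c 90) [⟨14, 1, 1⟩] []) (cond (Nat.beq c 91) [⟨15, -1, 1⟩] [])))) (cond (Nat.blt c 94) (cond (Nat.blt c 93) (cond (Nat.beq c 92) [⟨16, 1, 1⟩] []) (cond (Nat.beq c 93) [⟨17, -1, 1⟩] [])) (cond (Nat.blt c 95) (cond (Nat.beq c 94) [⟨18, 1, 1⟩] []) (cond (Nat.blt c 96) (cond (Nat.beq c 95) [⟨19, -1, 1⟩] []) (cond (Nat.beq c 96) [⟨20, 1, 1⟩] [])))))) (cond (Nat.blt c 123) (cond (Nat.blt c 118) (cond (Nat.blt c 99) (cond (Nat.blt c 98) (cond (Nat.beq c 97) [⟨21, 1, 1⟩] []) (cond (Nat.beq c 98) [⟨22, -1, 1⟩] [])) (cond (Nat.blt c 116) (cond (Nat.beq c 99) [⟨23, 1, 1⟩] []) (cond (Nat.blt c 117) (cond (Nat.beq c 116) [⟨40, -1, 1⟩] []) (cond (Nat.beq c 117) [⟨41, 1, 1⟩] [])))) (cond (Nat.blt c 120) (cond (Nat.blt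 c 119) (cond (Nat.beq c 118) [⟨42, -1, 1⟩] []) (cond (Nat.beq c 119) [⟨43, -1, 1⟩] [])) (cond (Nat.blt c 121) (cond (Nat.beq c 120) [⟨44, 1, 1⟩] []) (cond (Nat.blt c 122) (cond (Nat.beq c 121) [⟨45, -1, 1⟩] []) (cond (Nat.beq c 122) [⟨46, 1, 1⟩] []))))) (cond (Nat.blt c 128) (cond (Nat.blt c 125) (cond (Nat.blt c 124) (cond (Nat.beq c 123) [⟨47, -1, 1⟩] []) (cond (Nat.beq c 124) [⟨48, 1, 1⟩] [])) (cond (Nat.blt c 126) (cond (Nat.beq c 125) [⟨49, -1, 1⟩] []) (cond (Nat.blt c 127) (cond (Nat.beq c 126) [⟨55, -1, 1⟩] []) (cond (Nat.beq c 127) [⟨56, 1, 1⟩] [])))) (cond (Nat.blt c 130) (cond (Nat.blt c 129) (cond (Nat.beq c 128) [⟨57, -1, 1⟩] []) (cond (Nat.beq c 129) [⟨58, 1, 1⟩] [])) (cond (Nat.blt c 131) (cond (Nat.beq c 130) [⟨59, -1, 1⟩] []) (cond (Nat.blt c 132) (cond (Nat.beq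 c 131) [⟨8, -1, 2⟩, ⟨0, -1, 1⟩, ⟨1, -2, 1⟩, ⟨2, -3, 1⟩, ⟨3, -4, 1⟩, ⟨4, -3, 1⟩, ⟨5, -2, 1⟩, ⟨6, -1, 1⟩] []) (cond (Nat.beq c 132) [⟨100, -1, 1⟩] []))))))

/-- Compiled columns of `x_2` for type E7. -/
def colsE7_2 (c : ℕ) : List CEnt :=
  cond (Nat.blt c 97) (cond (Nat.blt c 77) (cond (Nat.blt c 5) (cond (Nat.blt c 2) (cond (Nat.blt c 1) (cond (Nat.beq c 0) [⟨9, 0, 1⟩] []) (cond (Nat.beq c 1) [⟨9, 0, 1⟩] [])) (cond (Nat.blt c 3) (cond (Nat.beq c 2) [⟨9, -1, 1⟩] []) (cond (Nat.blt c 4) (cond (Nat.beq c 3) [⟨9, 1, 1⟩] []) (cond (Nat.beq c 4) [⟨9, 0, 1⟩] [])))) (cond (Nat.blt c 38) (cond (Nat.blt c 6) (cond (Nat.beq c 5) [⟨9, 0, 1⟩] []) (cond (Nat.beq c 6) [⟨9, 0, 1⟩] [])) (cond (Nat.blt c 59) (cond (Nat.beq c 38) [⟨7, -1, 1⟩] []) (cond (Nat.blt c 76) (cond (Nat.beq c 59) [⟨8, 1, 1⟩]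 []) (cond (Nat.beq c 76) [⟨10, 1, 1⟩] []))))) (cond (Nat.blt c 88) (cond (Nat.blt c 79) (cond (Nat.blt c 78) (cond (Nat.beq c 77) [⟨11, -1, 1⟩] []) (cond (Nat.beq c 78) [⟨12, 1, 1⟩] [])) (cond (Nat.blt c 86) (cond (Nat.beq c 79) [⟨13, -1, 1⟩] []) (cond (Nat.blt c 87) (cond (Nat.beq c 86) [⟨14, 1, 1⟩] []) (cond (Nat.beq c 87) [⟨15, -1, 1⟩] [])))) (cond (Nat.blt c 94) (cond (Nat.blt c 89) (cond (Nat.beq c 88) [⟨16, 1, 1⟩] []) (cond (Nat.beq c 89) [⟨17, -1, 1⟩] [])) (cond (Nat.blt c 95) (cond (Nat.beq c 94) [⟨24, 1, 1⟩] []) (cond (Nat.blt c 96) (cond (Nat.beq c 95) [⟨25, -1, 1⟩] []) (cond (Nat.beq c 96) [⟨26, 1, 1⟩] [])))))) (cond (Nat.blt c 123) (cond (Nat.blt c 112) (cond (Nat.blt c 99) (cond (Nat.blt c 98) (cond (Nat.beq c 97) [⟨27, 1, 1⟩] []) (cond (Nat.beq c 98) [⟨28, -1, 1⟩]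 [])) (cond (Nat.blt c 110) (cond (Nat.beq c 99) [⟨29, 1, 1⟩] []) (cond (Nat.blt c 111) (cond (Nat.beq c 110) [⟨40, -1, 1⟩] []) (cond (Nat.beq c 111) [⟨41, 1, 1⟩] [])))) (cond (Nat.blt c 114) (cond (Nat.blt c 113) (cond (Nat.beq c 112) [⟨42, -1, 1⟩] []) (cond (Nat.beq c 113) [⟨43, -1, 1⟩] [])) (cond (Nat.blt c 115) (cond (Nat.beq c 114) [⟨44, 1, 1⟩] []) (cond (Nat.blt c 122) (cond (Nat.beq c 115) [⟨45, -1, 1⟩] []) (cond (Nat.beq c 122) [⟨50, 1, 1⟩] []))))) (cond (Nat.blt c 128) (cond (Nat.blt c 125) (cond (Nat.blt c 124) (cond (Nat.beq c 123) [⟨51, -1, 1⟩] []) (cond (Nat.beq c 124) [⟨52, 1, 1⟩] [])) (cond (Nat.blt c 126) (cond (Nat.beq c 125) [⟨53, -1, 1⟩] []) (cond (Nat.blt c 127) (cond (Nat.beq c 126) [⟨60, 1, 1⟩] []) (cond (Nat.beq c 127) [⟨61, -1, 1⟩] [])))) (cond (Nat.blt c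 130) (cond (Nat.blt c 129) (cond (Nat.beq c 128) [⟨62, 1, 1⟩] []) (cond (Nat.beq c 129) [⟨63, -1, 1⟩] [])) (cond (Nat.blt c 131) (cond (Nat.beq c 130) [⟨9, -1, 2⟩, ⟨0, -1, 1⟩, ⟨1, -2, 1⟩, ⟨2, -2, 1⟩, ⟨3, -4, 1⟩, ⟨4, -3, 1⟩, ⟨5, -2, 1⟩, ⟨6, -1, 1⟩] []) (cond (Nat.blt c 132) (cond (Nat.beq c 131) [⟨80, -1, 1⟩] []) (cond (Nat.beq c 132) [⟨101, 1, 1⟩] []))))))

/-- Compiled columns of `x_3` for type E7. -/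
def colsE7_3 (c : ℕ) : List CEnt :=
  cond (Nat.blt c 97) (cond (Nat.blt c 73) (cond (Nat.blt c 5) (cond (Nat.blt c 2) (cond (Nat.blt c 1) (cond (Nat.beq c 0) [⟨10, 0, 1⟩] []) (cond (Nat.beq c 1) [⟨10, 1, 1⟩] [])) (cond (Nat.blt c 3) (cond (Nat.beq c 2) [⟨10, 0, 1⟩] []) (cond (Nat.blt c 4) (cond (Nat.beq c 3) [⟨10, -1, 1⟩] []) (cond (Nat.beq c 4) [⟨10, 1, 1⟩] [])))) (cond (Nat.blt c 37) (cond (Nat.blt c 6) (cond (Nat.beq c 5) [⟨10, 0, 1⟩] []) (cond (Nat.beq c 6) [⟨10, 0, 1⟩] [])) (cond (Nat.blt c 58) (cond (Nat.beq c 37) [⟨7, 1, 1⟩] []) (cond (Nat.blt c 63) (cond (Nat.beq c 58) [⟨8, -1, 1⟩] []) (cond (Nat.beq c 63) [⟨9, 1, 1⟩] []))))) (cond (Nat.blt c 88) (cond (Nat.blt c 75) (cond (Nat.blt c 74) (cond (Nat.beq c 73) [⟨11, 1, 1⟩] []) (cond (Nat.beq c 74) [⟨12, -1, 1⟩] [])) (cond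 (Nat.blt c 85) (cond (Nat.beq c 75) [⟨13, 1, 1⟩] []) (cond (Nat.blt c 87) (cond (Nat.beq c 85) [⟨14, 1, 1⟩] []) (cond (Nat.beq c 87) [⟨18, -1, 1⟩] [])))) (cond (Nat.blt c 91) (cond (Nat.blt c 89) (cond (Nat.beq c 88) [⟨19, 1, 1⟩] []) (cond (Nat.beq c 89) [⟨20, -1, 1⟩] [])) (cond (Nat.blt c 92) (cond (Nat.beq c 91) [⟨24, 1, 1⟩] []) (cond (Nat.blt c 93) (cond (Nat.beq c 92) [⟨25, -1, 1⟩] []) (cond (Nat.beq c 93) [⟨26, 1, 1⟩] [])))))) (cond (Nat.blt c 120) (cond (Nat.blt c 109) (cond (Nat.blt c 99) (cond (Nat.blt c 98) (cond (Nat.beq c 97) [⟨30, 1, 1⟩] []) (cond (Nat.beq c 98) [⟨31, -1, 1⟩] [])) (cond (Nat.blt c 107) (cond (Nat.beq c 99) [⟨32, 1, 1⟩] []) (cond (Nat.blt c 108) (cond (Nat.beq c 107) [⟨40, -1, 1⟩] []) (cond (Nat.beq c 108) [⟨41, 1, 1⟩] [])))) (cond (Nat.blt c 114) (cond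 (Nat.blt c 113) (cond (Nat.beq c 109) [⟨42, -1, 1⟩] []) (cond (Nat.beq c 113) [⟨46, -1, 1⟩] [])) (cond (Nat.blt c 115) (cond (Nat.beq c 114) [⟨47, 1, 1⟩] []) (cond (Nat.blt c 119) (cond (Nat.beq c 115) [⟨48, -1, 1⟩] []) (cond (Nat.beq c 119) [⟨50, 1, 1⟩] []))))) (cond (Nat.blt c 128) (cond (Nat.blt c 125) (cond (Nat.blt c 121) (cond (Nat.beq c 120) [⟨51, -1, 1⟩] []) (cond (Nat.beq c 121) [⟨52, 1, 1⟩] [])) (cond (Nat.blt c 126) (cond (Nat.beq c 125) [⟨54, -1, 1⟩] []) (cond (Nat.blt c 127) (cond (Nat.beq c 126) [⟨64, -1, 1⟩] []) (cond (Nat.beq c 127) [⟨65, 1, 1⟩] [])))) (cond (Nat.blt c 130) (cond (Nat.blt c 129) (cond (Nat.beq c 128) [⟨66, -1, 1⟩] []) (cond (Nat.beq c 129) [⟨10, -1, 2⟩, ⟨0, -1, 1⟩, ⟨1, -2, 1⟩, ⟨2, -2, 1⟩, ⟨3, -3, 1⟩, ⟨4, -3, 1⟩, ⟨5, -2, 1⟩, ⟨6, -1, 1⟩] [])) (cond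 (Nat.blt c 131) (cond (Nat.beq c 130) [⟨76, -1, 1⟩] []) (cond (Nat.blt c 132) (cond (Nat.beq c 131) [⟨81, 1, 1⟩] []) (cond (Nat.beq c 132) [⟨102, -1, 1⟩] []))))))

/-- Compiled columns of `x_4` for type E7. -/
def colsE7_4 (c : ℕ) : List CEnt :=
  cond (Nat.blt c 95) (cond (Nat.blt c 66) (cond (Nat.blt c 5) (cond (Nat.blt c 2) (cond (Nat.blt c 1) (cond (Nat.beq c 0) [⟨11, 0, 1⟩] []) (cond (Nat.beq c 1) [⟨11, 1, 1⟩] [])) (cond (Nat.blt c 3) (cond (Nat.beq c 2) [⟨11, 0, 1⟩] []) (cond (Nat.blt c 4) (cond (Nat.beq c 3) [⟨11, 0, 1⟩] []) (cond (Nat.beq c 4) [⟨11, -1, 1⟩] [])))) (cond (Nat.blt c 36) (cond (Nat.blt c 6) (cond (Nat.beq c 5) [⟨11, 1, 1⟩] []) (cond (Nat.beq c 6) [⟨11, 0, 1⟩] [])) (cond (Nat.blt c 57) (cond (Nat.beq c 36) [⟨7, -1, 1⟩] []) (cond (Nat.blt c 62) (cond (Nat.beq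 c 57) [⟨8, 1, 1⟩] []) (cond (Nat.beq c 62) [⟨9, -1, 1⟩] []))))) (cond (Nat.blt c 88) (cond (Nat.blt c 72) (cond (Nat.blt c 71) (cond (Nat.beq c 66) [⟨10, 1, 1⟩] []) (cond (Nat.beq c 71) [⟨12, 1, 1⟩] [])) (cond (Nat.blt c 85) (cond (Nat.beq c 72) [⟨13, -1, 1⟩] []) (cond (Nat.blt c 86) (cond (Nat.beq c 85) [⟨15, 1, 1⟩] []) (cond (Nat.beq c 86) [⟨18, -1, 1⟩] [])))) (cond (Nat.blt c 90) (cond (Nat.blt c 89) (cond (Nat.beq c 88) [⟨21, 1, 1⟩] []) (cond (Nat.beq c 89) [⟨22, -1, 1⟩] [])) (cond (Nat.blt c 92) (cond (Nat.beq c 90) [⟨24, 1, 1⟩] []) (cond (Nat.blt c 93) (cond (Nat.beq c 92) [⟨27, -1, 1⟩] []) (cond (Nat.beq c 93) [⟨28, 1, 1⟩] [])))))) (cond (Nat.blt c 118) (cond (Nat.blt c 109) (cond (Nat.blt c 99) (cond (Nat.blt c 96) (cond (Nat.beq c 95) [⟨30, 1, 1⟩] []) (cond (Nat.beq c 96)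 [⟨31, -1, 1⟩] [])) (cond (Nat.blt c 106) (cond (Nat.beq c 99) [⟨33, 1, 1⟩] []) (cond (Nat.blt c 108) (cond (Nat.beq c 106) [⟨40, -1, 1⟩] []) (cond (Nat.beq c 108) [⟨43, 1, 1⟩] [])))) (cond (Nat.blt c 112) (cond (Nat.blt c 111) (cond (Nat.beq c 109) [⟨44, -1, 1⟩] []) (cond (Nat.beq c 111) [⟨46, -1, 1⟩] [])) (cond (Nat.blt c 115) (cond (Nat.beq c 112) [⟨47, 1, 1⟩] []) (cond (Nat.blt c 117) (cond (Nat.beq c 115) [⟨49, -1, 1⟩] []) (cond (Nat.beq c 117) [⟨50, 1, 1⟩] []))))) (cond (Nat.blt c 128) (cond (Nat.blt c 124) (cond (Nat.blt c 121) (cond (Nat.beq c 118) [⟨51, -1, 1⟩] []) (cond (Nat.beq c 121) [⟨53, 1, 1⟩] [])) (cond (Nat.blt c 126) (cond (Nat.beq c 124) [⟨54, -1, 1⟩] []) (cond (Nat.blt c 127) (cond (Nat.beq c 126) [⟨67, 1, 1⟩] []) (cond (Nat.beq c 127) [⟨68, -1, 1⟩] [])))) (cond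 (Nat.blt c 130) (cond (Nat.blt c 129) (cond (Nat.beq c 128) [⟨11, -1, 2⟩, ⟨0, -1, 1⟩, ⟨1, -2, 1⟩, ⟨2, -2, 1⟩, ⟨3, -3, 1⟩, ⟨4, -2, 1⟩, ⟨5, -2, 1⟩, ⟨6, -1, 1⟩] []) (cond (Nat.beq c 129) [⟨73, -1, 1⟩] [])) (cond (Nat.blt c 131) (cond (Nat.beq c 130) [⟨77, 1, 1⟩] []) (cond (Nat.blt c 132) (cond (Nat.beq c 131) [⟨82, -1, 1⟩] []) (cond (Nat.beq c 132) [⟨103, 1, 1⟩] []))))))

/-- Compiled columns of `x_5` for type E7. -/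
def colsE7_5 (c : ℕ) : List CEnt :=
  cond (Nat.blt c 94) (cond (Nat.blt c 65) (cond (Nat.blt c 5) (cond (Nat.blt c 2) (cond (Nat.blt c 1) (cond (Nat.beq c 0) [⟨12, 0, 1⟩] []) (cond (Nat.beq c 1) [⟨12, 1, 1⟩] [])) (cond (Nat.blt c 3) (cond (Nat.beq c 2) [⟨12, 0, 1⟩] []) (cond (Nat.blt c 4) (cond (Nat.beq c 3) [⟨12, 0, 1⟩] []) (cond (Nat.beq c 4) [⟨12, 0, 1⟩] [])))) (cond (Nat.blt c 35) (cond (Nat.blt c 6) (cond (Nat.beq c 5) [⟨12, -1, 1⟩] []) (cond (Nat.beq c 6) [⟨12, 1, 1⟩] [])) (cond (Nat.blt c 56) (cond (Nat.beq c 35) [⟨7, 1, 1⟩] []) (cond (Nat.blt c 61) (cond (Nat.beq c 56) [⟨8, -1, 1⟩] []) (cond (Nat.beq c 61) [⟨9, 1, 1⟩] []))))) (cond (Nat.blt c 87) (cond (Nat.blt c 70) (cond (Nat.blt c 68) (cond (Nat.beq c 65) [⟨10, -1, 1⟩] []) (cond (Nat.beq c 68) [⟨11, 1, 1⟩] [])) (cond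 (Nat.blt c 85) (cond (Nat.beq c 70) [⟨13, 1, 1⟩] []) (cond (Nat.blt c 86) (cond (Nat.beq c 85) [⟨16, 1, 1⟩] []) (cond (Nat.beq c 86) [⟨19, -1, 1⟩] [])))) (cond (Nat.blt c 90) (cond (Nat.blt c 89) (cond (Nat.beq c 87) [⟨21, 1, 1⟩] []) (cond (Nat.beq c 89) [⟨23, -1, 1⟩] [])) (cond (Nat.blt c 91) (cond (Nat.beq c 90) [⟨25, 1, 1⟩] []) (cond (Nat.blt c 93) (cond (Nat.beq c 91) [⟨27, -1, 1⟩] []) (cond (Nat.beq c 93) [⟨29, 1, 1⟩] [])))))) (cond (Nat.blt c 118) (cond (Nat.blt c 109) (cond (Nat.blt c 98) (cond (Nat.blt c 96) (cond (Nat.beq c 94) [⟨30, 1, 1⟩] []) (cond (Nat.beq c 96) [⟨32, -1, 1⟩] [])) (cond (Nat.blt c 106) (cond (Nat.beq c 98) [⟨33, 1, 1⟩] []) (cond (Nat.blt c 107) (cond (Nat.beq c 106) [⟨41, -1, 1⟩] []) (cond (Nat.beq c 107) [⟨43, 1, 1⟩] [])))) (cond (Nat.blt c 112) (cond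 (Nat.blt c 110) (cond (Nat.beq c 109) [⟨45, -1, 1⟩] []) (cond (Nat.beq c 110) [⟨46, -1, 1⟩] [])) (cond (Nat.blt c 114) (cond (Nat.beq c 112) [⟨48, 1, 1⟩] []) (cond (Nat.blt c 116) (cond (Nat.beq c 114) [⟨49, -1, 1⟩] []) (cond (Nat.beq c 116) [⟨50, 1, 1⟩] []))))) (cond (Nat.blt c 128) (cond (Nat.blt c 123) (cond (Nat.blt c 120) (cond (Nat.beq c 118) [⟨52, -1, 1⟩] []) (cond (Nat.beq c 120) [⟨53, 1, 1⟩] [])) (cond (Nat.blt c 126) (cond (Nat.beq c 123) [⟨54, -1, 1⟩] []) (cond (Nat.blt c 127) (cond (Nat.beq c 126) [⟨69, -1, 1⟩] []) (cond (Nat.beq c 127) [⟨12, -1, 2⟩, ⟨0, -1, 1⟩, ⟨1, -2, 1⟩, ⟨2, -2, 1⟩, ⟨3, -3, 1⟩, ⟨4, -2, 1⟩, ⟨5, -1, 1⟩, ⟨6, -1, 1⟩] [])))) (cond (Nat.blt c 130) (cond (Nat.blt c 129) (cond (Nat.beq c 128) [⟨71, -1, 1⟩] []) (cond (Nat.beq c 129) [⟨74, 1, 1⟩] [])) (cond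 (Nat.blt c 131) (cond (Nat.beq c 130) [⟨78, -1, 1⟩] []) (cond (Nat.blt c 132) (cond (Nat.beq c 131) [⟨83, 1, 1⟩] []) (cond (Nat.beq c 132) [⟨104, -1, 1⟩] []))))))

/-- Compiled columns of `x_6` for type E7. -/
def colsE7_6 (c : ℕ) : List CEnt :=
  cond (Nat.blt c 94) (cond (Nat.blt c 64) (cond (Nat.blt c 5) (cond (Nat.blt c 2) (cond (Nat.blt c 1) (cond (Nat.beq c 0) [⟨13, 0, 1⟩] []) (cond (Nat.beq c 1) [⟨13, 1, 1⟩] [])) (cond (Nat.blt c 3) (cond (Nat.beq c 2) [⟨13, 0, 1⟩] []) (cond (Nat.blt c 4) (cond (Nat.beq c 3) [⟨13, 0, 1⟩] []) (cond (Nat.beq c 4) [⟨13, 0, 1⟩] [])))) (cond (Nat.blt c 34) (cond (Nat.blt c 6) (cond (Nat.beq c 5) [⟨13, 0, 1⟩] []) (cond (Nat.beq c 6) [⟨13, -1, 1⟩] [])) (cond (Nat.blt c 55) (cond (Nat.beq c 34) [⟨7, -1, 1⟩] []) (cond (Nat.blt c 60) (cond (Nat.beq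 c 55) [⟨8, 1, 1⟩] []) (cond (Nat.beq c 60) [⟨9, -1, 1⟩] []))))) (cond (Nat.blt c 87) (cond (Nat.blt c 69) (cond (Nat.blt c 67) (cond (Nat.beq c 64) [⟨10, 1, 1⟩] []) (cond (Nat.beq c 67) [⟨11, -1, 1⟩] [])) (cond (Nat.blt c 85) (cond (Nat.beq c 69) [⟨12, 1, 1⟩] []) (cond (Nat.blt c 86) (cond (Nat.beq c 85) [⟨17, 1, 1⟩] []) (cond (Nat.beq c 86) [⟨20, -1, 1⟩] [])))) (cond (Nat.blt c 90) (cond (Nat.blt c 88) (cond (Nat.beq c 87) [⟨22, 1, 1⟩] []) (cond (Nat.beq c 88) [⟨23, -1, 1⟩] [])) (cond (Nat.blt c 91) (cond (Nat.beq c 90) [⟨26, 1, 1⟩] []) (cond (Nat.blt c 92) (cond (Nat.beq c 91) [⟨28, -1, 1⟩] []) (cond (Nat.beq c 92) [⟨29, 1, 1⟩] [])))))) (cond (Nat.blt c 117) (cond (Nat.blt c 108) (cond (Nat.blt c 97) (cond (Nat.blt c 95) (cond (Nat.beq c 94) [⟨31, 1, 1⟩] []) (cond (Nat.beq c 95)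 [⟨32, -1, 1⟩] [])) (cond (Nat.blt c 106) (cond (Nat.beq c 97) [⟨33, 1, 1⟩] []) (cond (Nat.blt c 107) (cond (Nat.beq c 106) [⟨42, -1, 1⟩] []) (cond (Nat.beq c 107) [⟨44, 1, 1⟩] [])))) (cond (Nat.blt c 111) (cond (Nat.blt c 110) (cond (Nat.beq c 108) [⟨45, -1, 1⟩] []) (cond (Nat.beq c 110) [⟨47, -1, 1⟩] [])) (cond (Nat.blt c 113) (cond (Nat.beq c 111) [⟨48, 1, 1⟩] []) (cond (Nat.blt c 116) (cond (Nat.beq c 113) [⟨49, -1, 1⟩] []) (cond (Nat.beq c 116) [⟨51, 1, 1⟩] []))))) (cond (Nat.blt c 128) (cond (Nat.blt c 122) (cond (Nat.blt c 119) (cond (Nat.beq c 117) [⟨52, -1, 1⟩] []) (cond (Nat.beq c 119) [⟨53, 1, 1⟩] [])) (cond (Nat.blt c 126) (cond (Nat.beq c 122) [⟨54, -1, 1⟩] []) (cond (Nat.blt c 127) (cond (Nat.beq c 126) [⟨13, -1, 2⟩, ⟨0, -1, 1⟩, ⟨1, -2, 1⟩, ⟨2, -2, 1⟩, ⟨3, -3, 1⟩, ⟨4,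 -2, 1⟩, ⟨5, -1, 1⟩, ⟨6, 0, 1⟩] []) (cond (Nat.beq c 127) [⟨70, -1, 1⟩] [])))) (cond (Nat.blt c 130) (cond (Nat.blt c 129) (cond (Nat.beq c 128) [⟨72, 1, 1⟩] []) (cond (Nat.beq c 129) [⟨75, -1, 1⟩] [])) (cond (Nat.blt c 131) (cond (Nat.beq c 130) [⟨79, 1, 1⟩] []) (cond (Nat.blt c 132) (cond (Nat.beq c 131) [⟨84, -1, 1⟩] []) (cond (Nat.beq c 132) [⟨105, 1, 1⟩] []))))))

/-- Compiled columns of `x_7` for type E7. -/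
def colsE7_7 (c : ℕ) : List CEnt :=
  cond (Nat.blt c 97) (cond (Nat.blt c 54) (cond (Nat.blt c 5) (cond (Nat.blt c 2) (cond (Nat.blt c 1) (cond (Nat.beq c 0) [⟨14, 0, 1⟩] []) (cond (Nat.beq c 1) [⟨14, -1, 1⟩] [])) (cond (Nat.blt c 3) (cond (Nat.beq c 2) [⟨14, 0, 1⟩] []) (cond (Nat.blt c 4) (cond (Nat.beq c 3) [⟨14, 0, 1⟩] []) (cond (Nat.beq c 4) [⟨14, 1, 1⟩] [])))) (cond (Nat.blt c 33) (cond (Nat.blt c 6) (cond (Nat.beq c 5) [⟨14, 0, 1⟩] []) (cond (Nat.beq c 6) [⟨14, 0, 1⟩] [])) (cond (Nat.blt c 49) (cond (Nat.beq c 33) [⟨7, -1, 1⟩] []) (cond (Nat.blt c 53) (cond (Nat.beq c 49) [⟨8, 1, 1⟩] []) (cond (Nat.beq c 53) [⟨9, 1, 1⟩] []))))) (cond (Nat.blt c 78) (cond (Nat.blt c 74) (cond (Nat.blt c 73) (cond (Nat.beq c 54) [⟨10, 1, 1⟩] []) (cond (Nat.beq c 73) [⟨15, 1, 1⟩] [])) (cond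 (Nat.blt c 75) (cond (Nat.beq c 74) [⟨16, -1, 1⟩] []) (cond (Nat.blt c 77) (cond (Nat.beq c 75) [⟨17, 1, 1⟩] []) (cond (Nat.beq c 77) [⟨18, 1, 1⟩] [])))) (cond (Nat.blt c 82) (cond (Nat.blt c 79) (cond (Nat.beq c 78) [⟨19, -1, 1⟩] []) (cond (Nat.beq c 79) [⟨20, 1, 1⟩] [])) (cond (Nat.blt c 83) (cond (Nat.beq c 82) [⟨24, 1, 1⟩] []) (cond (Nat.blt c 84) (cond (Nat.beq c 83) [⟨25, -1, 1⟩] []) (cond (Nat.beq c 84) [⟨26, 1, 1⟩] [])))))) (cond (Nat.blt c 120) (cond (Nat.blt c 105) (cond (Nat.blt c 99) (cond (Nat.blt c 98) (cond (Nat.beq c 97) [⟨34, 1, 1⟩] []) (cond (Nat.beq c 98) [⟨35, -1, 1⟩] [])) (cond (Nat.blt c 103) (cond (Nat.beq c 99) [⟨36, 1, 1⟩] []) (cond (Nat.blt c 104) (cond (Nat.beq c 103) [⟨40, -1, 1⟩] []) (cond (Nat.beq c 104) [⟨41, 1, 1⟩] [])))) (cond (Nat.blt c 114) (cond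 (Nat.blt c 113) (cond (Nat.beq c 105) [⟨42, -1, 1⟩] []) (cond (Nat.beq c 113) [⟨55, -1, 1⟩] [])) (cond (Nat.blt c 115) (cond (Nat.beq c 114) [⟨56, 1, 1⟩] []) (cond (Nat.blt c 119) (cond (Nat.beq c 115) [⟨57, -1, 1⟩] []) (cond (Nat.beq c 119) [⟨60, -1, 1⟩] []))))) (cond (Nat.blt c 125) (cond (Nat.blt c 122) (cond (Nat.blt c 121) (cond (Nat.beq c 120) [⟨61, 1, 1⟩] []) (cond (Nat.beq c 121) [⟨62, -1, 1⟩] [])) (cond (Nat.blt c 123) (cond (Nat.beq c 122) [⟨64, -1, 1⟩] []) (cond (Nat.blt c 124) (cond (Nat.beq c 123) [⟨65, 1, 1⟩] []) (cond (Nat.beq c 124) [⟨66, -1, 1⟩] [])))) (cond (Nat.blt c 130) (cond (Nat.blt c 129) (cond (Nat.beq c 125) [⟨14, -1, 2⟩, ⟨0, -1, 1⟩, ⟨1, -1, 1⟩, ⟨2, -2, 1⟩, ⟨3, -3, 1⟩, ⟨4, -3, 1⟩, ⟨5, -2, 1⟩, ⟨6, -1, 1⟩] []) (cond (Nat.beq c 129) [⟨85, -1, 1⟩] [])) (cond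 (Nat.blt c 131) (cond (Nat.beq c 130) [⟨86, -1, 1⟩] []) (cond (Nat.blt c 132) (cond (Nat.beq c 131) [⟨90, -1, 1⟩] []) (cond (Nat.beq c 132) [⟨106, 1, 1⟩] []))))))

/-- Compiled columns of `x_8` for type E7. -/
def colsE7_8 (c : ℕ) : List CEnt :=
  cond (Nat.blt c 95) (cond (Nat.blt c 54) (cond (Nat.blt c 5) (cond (Nat.blt c 2) (cond (Nat.blt c 1) (cond (Nat.beq c 0) [⟨15, 0, 1⟩] []) (cond (Nat.beq c 1) [⟨15, -1, 1⟩] [])) (cond (Nat.blt c 3) (cond (Nat.beq c 2) [⟨15, 0, 1⟩] []) (cond (Nat.blt c 4) (cond (Nat.beq c 3) [⟨15, 1, 1⟩] []) (cond (Nat.beq c 4) [⟨15, -1, 1⟩] [])))) (cond (Nat.blt c 32) (cond (Nat.blt c 6) (cond (Nat.beq c 5) [⟨15, 1, 1⟩] []) (cond (Nat.beq c 6) [⟨15, 0, 1⟩] [])) (cond (Nat.blt c 48) (cond (Nat.beq c 32) [⟨7, 1, 1⟩] []) (cond (Nat.blt c 52) (cond (Nat.beq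 c 48) [⟨8, -1, 1⟩] []) (cond (Nat.beq c 52) [⟨9, -1, 1⟩] []))))) (cond (Nat.blt c 78) (cond (Nat.blt c 71) (cond (Nat.blt c 66) (cond (Nat.beq c 54) [⟨11, 1, 1⟩] []) (cond (Nat.beq c 66) [⟨14, 1, 1⟩] [])) (cond (Nat.blt c 72) (cond (Nat.beq c 71) [⟨16, 1, 1⟩] []) (cond (Nat.blt c 76) (cond (Nat.beq c 72) [⟨17, -1, 1⟩] []) (cond (Nat.beq c 76) [⟨18, 1, 1⟩] [])))) (cond (Nat.blt c 81) (cond (Nat.blt c 79) (cond (Nat.beq c 78) [⟨21, -1, 1⟩] []) (cond (Nat.beq c 79) [⟨22, 1, 1⟩] [])) (cond (Nat.blt c 83) (cond (Nat.beq c 81) [⟨24, 1, 1⟩] []) (cond (Nat.blt c 84) (cond (Nat.beq c 83) [⟨27, -1, 1⟩] []) (cond (Nat.beq c 84) [⟨28, 1, 1⟩] [])))))) (cond (Nat.blt c 118) (cond (Nat.blt c 105) (cond (Nat.blt c 99) (cond (Nat.blt c 96) (cond (Nat.beq c 95) [⟨34, 1, 1⟩] []) (cond (Nat.beq c 96)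 [⟨35, -1, 1⟩] [])) (cond (Nat.blt c 102) (cond (Nat.beq c 99) [⟨37, 1, 1⟩] []) (cond (Nat.blt c 104) (cond (Nat.beq c 102) [⟨40, -1, 1⟩] []) (cond (Nat.beq c 104) [⟨43, 1, 1⟩] [])))) (cond (Nat.blt c 112) (cond (Nat.blt c 111) (cond (Nat.beq c 105) [⟨44, -1, 1⟩] []) (cond (Nat.beq c 111) [⟨55, -1, 1⟩] [])) (cond (Nat.blt c 115) (cond (Nat.beq c 112) [⟨56, 1, 1⟩] []) (cond (Nat.blt c 117) (cond (Nat.beq c 115) [⟨58, -1, 1⟩] []) (cond (Nat.beq c 117) [⟨60, -1, 1⟩] []))))) (cond (Nat.blt c 125) (cond (Nat.blt c 122) (cond (Nat.blt c 121) (cond (Nat.beq c 118) [⟨61, 1, 1⟩] []) (cond (Nat.beq c 121) [⟨63, -1, 1⟩] [])) (cond (Nat.blt c 123) (cond (Nat.beq c 122) [⟨67, 1, 1⟩] []) (cond (Nat.blt c 124) (cond (Nat.beq c 123) [⟨68, -1, 1⟩] []) (cond (Nat.beq c 124) [⟨15, -1, 2⟩, ⟨0, -1, 1⟩,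 ⟨1, -1, 1⟩, ⟨2, -2, 1⟩, ⟨3, -3, 1⟩, ⟨4, -2, 1⟩, ⟨5, -2, 1⟩, ⟨6, -1, 1⟩] [])))) (cond (Nat.blt c 130) (cond (Nat.blt c 128) (cond (Nat.beq c 125) [⟨73, -1, 1⟩] []) (cond (Nat.beq c 128) [⟨85, -1, 1⟩] [])) (cond (Nat.blt c 131) (cond (Nat.beq c 130) [⟨87, 1, 1⟩] []) (cond (Nat.blt c 132) (cond (Nat.beq c 131) [⟨91, 1, 1⟩] []) (cond (Nat.beq c 132) [⟨107, -1, 1⟩] []))))))

/-- Compiled columns of `x_9` for type E7. -/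
def colsE7_9 (c : ℕ) : List CEnt :=
  cond (Nat.blt c 94) (cond (Nat.blt c 54) (cond (Nat.blt c 5) (cond (Nat.blt c 2) (cond (Nat.blt c 1) (cond (Nat.beq c 0) [⟨16, 0, 1⟩] []) (cond (Nat.beq c 1) [⟨16, -1, 1⟩] [])) (cond (Nat.blt c 3) (cond (Nat.beq c 2) [⟨16, 0, 1⟩] []) (cond (Nat.blt c 4) (cond (Nat.beq c 3) [⟨16, 1, 1⟩] []) (cond (Nat.beq c 4) [⟨16, 0, 1⟩] [])))) (cond (Nat.blt c 31) (cond (Nat.blt c 6) (cond (Nat.beq c 5) [⟨16, -1, 1⟩] []) (cond (Nat.beq c 6) [⟨16, 1, 1⟩] [])) (cond (Nat.blt c 47) (cond (Nat.beq c 31) [⟨7, -1, 1⟩] []) (cond (Nat.blt c 51) (cond (Nat.beq c 47) [⟨8, 1, 1⟩] []) (cond (Nat.beq c 51) [⟨9, 1, 1⟩] []))))) (cond (Nat.blt c 77) (cond (Nat.blt c 68) (cond (Nat.blt c 65) (cond (Nat.beq c 54) [⟨12, 1, 1⟩] []) (cond (Nat.beq c 65) [⟨14, -1, 1⟩] [])) (cond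 (Nat.blt c 70) (cond (Nat.beq c 68) [⟨15, 1, 1⟩] []) (cond (Nat.blt c 76) (cond (Nat.beq c 70) [⟨17, 1, 1⟩] []) (cond (Nat.beq c 76) [⟨19, 1, 1⟩] [])))) (cond (Nat.blt c 81) (cond (Nat.blt c 79) (cond (Nat.beq c 77) [⟨21, -1, 1⟩] []) (cond (Nat.beq c 79) [⟨23, 1, 1⟩] [])) (cond (Nat.blt c 82) (cond (Nat.beq c 81) [⟨25, 1, 1⟩] []) (cond (Nat.blt c 84) (cond (Nat.beq c 82) [⟨27, -1, 1⟩] []) (cond (Nat.beq c 84) [⟨29, 1, 1⟩] [])))))) (cond (Nat.blt c 118) (cond (Nat.blt c 105) (cond (Nat.blt c 98) (cond (Nat.blt c 96) (cond (Nat.beq c 94) [⟨34, 1, 1⟩] []) (cond (Nat.beq c 96) [⟨36, -1, 1⟩] [])) (cond (Nat.blt c 102) (cond (Nat.beq c 98) [⟨37, 1, 1⟩] []) (cond (Nat.blt c 103) (cond (Nat.beq c 102) [⟨41, -1, 1⟩] []) (cond (Nat.beq c 103) [⟨43, 1, 1⟩] [])))) (cond (Nat.blt c 112) (cond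 (Nat.blt c 110) (cond (Nat.beq c 105) [⟨45, -1, 1⟩] []) (cond (Nat.beq c 110) [⟨55, -1, 1⟩] [])) (cond (Nat.blt c 114) (cond (Nat.beq c 112) [⟨57, 1, 1⟩] []) (cond (Nat.blt c 116) (cond (Nat.beq c 114) [⟨58, -1, 1⟩] []) (cond (Nat.beq c 116) [⟨60, -1, 1⟩] []))))) (cond (Nat.blt c 125) (cond (Nat.blt c 122) (cond (Nat.blt c 120) (cond (Nat.beq c 118) [⟨62, 1, 1⟩] []) (cond (Nat.beq c 120) [⟨63, -1, 1⟩] [])) (cond (Nat.blt c 123) (cond (Nat.beq c 122) [⟨69, -1, 1⟩] []) (cond (Nat.blt c 124) (cond (Nat.beq c 123) [⟨16, -1, 2⟩, ⟨0, -1, 1⟩, ⟨1, -1, 1⟩, ⟨2, -2, 1⟩, ⟨3, -3, 1⟩, ⟨4, -2, 1⟩, ⟨5, -1, 1⟩, ⟨6, -1, 1⟩] []) (cond (Nat.beq c 124) [⟨71, -1, 1⟩] [])))) (cond (Nat.blt c 130) (cond (Nat.blt c 127) (cond (Nat.beq c 125) [⟨74, 1, 1⟩] []) (cond (Nat.beq c 127) [⟨85, -1, 1⟩] [])) (cond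 (Nat.blt c 131) (cond (Nat.beq c 130) [⟨88, -1, 1⟩] []) (cond (Nat.blt c 132) (cond (Nat.beq c 131) [⟨92, -1, 1⟩] []) (cond (Nat.beq c 132) [⟨108, 1, 1⟩] []))))))

/-- Compiled columns of `x_10` for type E7. -/
def colsE7_10 (c : ℕ) : List CEnt :=
  cond (Nat.blt c 94) (cond (Nat.blt c 54) (cond (Nat.blt c 5) (cond (Nat.blt c 2) (cond (Nat.blt c 1) (cond (Nat.beq c 0) [⟨17, 0, 1⟩] []) (cond (Nat.beq c 1) [⟨17, -1, 1⟩] [])) (cond (Nat.blt c 3) (cond (Nat.beq c 2) [⟨17, 0, 1⟩] []) (cond (Nat.blt c 4) (cond (Nat.beq c 3) [⟨17, 1, 1⟩] []) (cond (Nat.beq c 4) [⟨17, 0, 1⟩] [])))) (cond (Nat.blt c 30) (cond (Nat.blt c 6) (cond (Nat.beq c 5) [⟨17, 0, 1⟩] []) (cond (Nat.beq c 6) [⟨17, -1, 1⟩] [])) (cond (Nat.blt c 46) (cond (Nat.beq c 30) [⟨7, 1, 1⟩] []) (cond (Nat.blt c 50) (cond (Nat.beq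 c 46) [⟨8, -1, 1⟩] []) (cond (Nat.beq c 50) [⟨9, -1, 1⟩] []))))) (cond (Nat.blt c 77) (cond (Nat.blt c 67) (cond (Nat.blt c 64) (cond (Nat.beq c 54) [⟨13, 1, 1⟩] []) (cond (Nat.beq c 64) [⟨14, 1, 1⟩] [])) (cond (Nat.blt c 69) (cond (Nat.beq c 67) [⟨15, -1, 1⟩] []) (cond (Nat.blt c 76) (cond (Nat.beq c 69) [⟨16, 1, 1⟩] []) (cond (Nat.beq c 76) [⟨20, 1, 1⟩] [])))) (cond (Nat.blt c 81) (cond (Nat.blt c 78) (cond (Nat.beq c 77) [⟨22, -1, 1⟩] []) (cond (Nat.beq c 78) [⟨23, 1, 1⟩] [])) (cond (Nat.blt c 82) (cond (Nat.beq c 81) [⟨26, 1, 1⟩] []) (cond (Nat.blt c 83) (cond (Nat.beq c 82) [⟨28, -1, 1⟩] []) (cond (Nat.beq c 83) [⟨29, 1, 1⟩] [])))))) (cond (Nat.blt c 117) (cond (Nat.blt c 104) (cond (Nat.blt c 97) (cond (Nat.blt c 95) (cond (Nat.beq c 94) [⟨35, 1, 1⟩] []) (cond (Nat.beq c 95)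 [⟨36, -1, 1⟩] [])) (cond (Nat.blt c 102) (cond (Nat.beq c 97) [⟨37, 1, 1⟩] []) (cond (Nat.blt c 103) (cond (Nat.beq c 102) [⟨42, -1, 1⟩] []) (cond (Nat.beq c 103) [⟨44, 1, 1⟩] [])))) (cond (Nat.blt c 111) (cond (Nat.blt c 110) (cond (Nat.beq c 104) [⟨45, -1, 1⟩] []) (cond (Nat.beq c 110) [⟨56, -1, 1⟩] [])) (cond (Nat.blt c 113) (cond (Nat.beq c 111) [⟨57, 1, 1⟩] []) (cond (Nat.blt c 116) (cond (Nat.beq c 113) [⟨58, -1, 1⟩] []) (cond (Nat.beq c 116) [⟨61, -1, 1⟩] []))))) (cond (Nat.blt c 125) (cond (Nat.blt c 122) (cond (Nat.blt c 119) (cond (Nat.beq c 117) [⟨62, 1, 1⟩] []) (cond (Nat.beq c 119) [⟨63, -1, 1⟩] [])) (cond (Nat.blt c 123) (cond (Nat.beq c 122) [⟨17, -1, 2⟩, ⟨0, -1, 1⟩, ⟨1, -1, 1⟩, ⟨2, -2, 1⟩, ⟨3, -3, 1⟩, ⟨4, -2, 1⟩, ⟨5, -1, 1⟩, ⟨6, 0, 1⟩] []) (cond (Nat.blt c 124) (cond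 (Nat.beq c 123) [⟨70, -1, 1⟩] []) (cond (Nat.beq c 124) [⟨72, 1, 1⟩] [])))) (cond (Nat.blt c 130) (cond (Nat.blt c 126) (cond (Nat.beq c 125) [⟨75, -1, 1⟩] []) (cond (Nat.beq c 126) [⟨85, -1, 1⟩] [])) (cond (Nat.blt c 131) (cond (Nat.beq c 130) [⟨89, 1, 1⟩] []) (cond (Nat.blt c 132) (cond (Nat.beq c 131) [⟨93, 1, 1⟩] []) (cond (Nat.beq c 132) [⟨109, -1, 1⟩] []))))))

/-- Compiled columns of `x_11` for type E7. -/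
def colsE7_11 (c : ℕ) : List CEnt :=
  cond (Nat.blt c 92) (cond (Nat.blt c 53) (cond (Nat.blt c 5) (cond (Nat.blt c 2) (cond (Nat.blt c 1) (cond (Nat.beq c 0) [⟨18, 0, 1⟩] []) (cond (Nat.beq c 1) [⟨18, 0, 1⟩] [])) (cond (Nat.blt c 3) (cond (Nat.beq c 2) [⟨18, 1, 1⟩] []) (cond (Nat.blt c 4) (cond (Nat.beq c 3) [⟨18, -1, 1⟩] []) (cond (Nat.beq c 4) [⟨18, 0, 1⟩] [])))) (cond (Nat.blt c 29) (cond (Nat.blt c 6) (cond (Nat.beq c 5) [⟨18, 1, 1⟩] []) (cond (Nat.beq c 6) [⟨18, 0, 1⟩] [])) (cond (Nat.blt c 45) (cond (Nat.beq c 29) [⟨7, -1, 1⟩] []) (cond (Nat.blt c 52) (cond (Nat.beq c 45) [⟨8, 1, 1⟩] []) (cond (Nat.beq c 52) [⟨10, -1, 1⟩] []))))) (cond (Nat.blt c 74) (cond (Nat.blt c 63) (cond (Nat.blt c 62) (cond (Nat.beq c 53) [⟨11, -1, 1⟩] []) (cond (Nat.beq c 62) [⟨14, 1, 1⟩] [])) (cond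 (Nat.blt c 71) (cond (Nat.beq c 63) [⟨15, 1, 1⟩] []) (cond (Nat.blt c 72) (cond (Nat.beq c 71) [⟨19, 1, 1⟩] []) (cond (Nat.beq c 72) [⟨20, -1, 1⟩] [])))) (cond (Nat.blt c 80) (cond (Nat.blt c 75) (cond (Nat.beq c 74) [⟨21, 1, 1⟩] []) (cond (Nat.beq c 75) [⟨22, -1, 1⟩] [])) (cond (Nat.blt c 83) (cond (Nat.beq c 80) [⟨24, 1, 1⟩] []) (cond (Nat.blt c 84) (cond (Nat.beq c 83) [⟨30, -1, 1⟩] []) (cond (Nat.beq c 84) [⟨31, 1, 1⟩] [])))))) (cond (Nat.blt c 118) (cond (Nat.blt c 105) (cond (Nat.blt c 99) (cond (Nat.blt c 93) (cond (Nat.beq c 92) [⟨34, 1, 1⟩] []) (cond (Nat.beq c 93) [⟨35, -1, 1⟩] [])) (cond (Nat.blt c 101) (cond (Nat.beq c 99) [⟨38, 1, 1⟩] []) (cond (Nat.blt c 104) (cond (Nat.beq c 101) [⟨40, -1, 1⟩] []) (cond (Nat.beq c 104) [⟨46, 1, 1⟩] [])))) (cond (Nat.blt c 109) (cond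 (Nat.blt c 108) (cond (Nat.beq c 105) [⟨47, -1, 1⟩] []) (cond (Nat.beq c 108) [⟨55, -1, 1⟩] [])) (cond (Nat.blt c 115) (cond (Nat.beq c 109) [⟨56, 1, 1⟩] []) (cond (Nat.blt c 117) (cond (Nat.beq c 115) [⟨59, -1, 1⟩] []) (cond (Nat.beq c 117) [⟨64, 1, 1⟩] []))))) (cond (Nat.blt c 125) (cond (Nat.blt c 120) (cond (Nat.blt c 119) (cond (Nat.beq c 118) [⟨65, -1, 1⟩] []) (cond (Nat.beq c 119) [⟨67, 1, 1⟩] [])) (cond (Nat.blt c 121) (cond (Nat.beq c 120) [⟨68, -1, 1⟩] []) (cond (Nat.blt c 124) (cond (Nat.beq c 121) [⟨18, -1, 2⟩, ⟨0, -1, 1⟩, ⟨1, -1, 1⟩, ⟨2, -2, 1⟩, ⟨3, -2, 1⟩, ⟨4, -2, 1⟩, ⟨5, -2, 1⟩, ⟨6, -1, 1⟩] []) (cond (Nat.beq c 124) [⟨76, -1, 1⟩] [])))) (cond (Nat.blt c 129) (cond (Nat.blt c 128) (cond (Nat.beq c 125) [⟨77, -1, 1⟩] []) (cond (Nat.beq c 128) [⟨86, 1, 1⟩] [])) (cond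 (Nat.blt c 131) (cond (Nat.beq c 129) [⟨87, 1, 1⟩] []) (cond (Nat.blt c 132) (cond (Nat.beq c 131) [⟨94, -1, 1⟩] []) (cond (Nat.beq c 132) [⟨110, 1, 1⟩] []))))))

/-- Compiled columns of `x_12` for type E7. -/
def colsE7_12 (c : ℕ) : List CEnt :=
  cond (Nat.blt c 91) (cond (Nat.blt c 53) (cond (Nat.blt c 5) (cond (Nat.blt c 2) (cond (Nat.blt c 1) (cond (Nat.beq c 0) [⟨19, 0, 1⟩] []) (cond (Nat.beq c 1) [⟨19, 0, 1⟩] [])) (cond (Nat.blt c 3) (cond (Nat.beq c 2) [⟨19, 1, 1⟩] []) (cond (Nat.blt c 4) (cond (Nat.beq c 3) [⟨19, -1, 1⟩] []) (cond (Nat.beq c 4) [⟨19, 1, 1⟩] [])))) (cond (Nat.blt c 28) (cond (Nat.blt c 6) (cond (Nat.beq c 5) [⟨19, -1, 1⟩] []) (cond (Nat.beq c 6) [⟨19, 1, 1⟩] [])) (cond (Nat.blt c 44) (cond (Nat.beq c 28) [⟨7, 1, 1⟩] []) (cond (Nat.blt c 51) (cond (Nat.beq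 c 44) [⟨8, -1, 1⟩] []) (cond (Nat.beq c 51) [⟨10, 1, 1⟩] []))))) (cond (Nat.blt c 73) (cond (Nat.blt c 63) (cond (Nat.blt c 61) (cond (Nat.beq c 53) [⟨12, -1, 1⟩] []) (cond (Nat.beq c 61) [⟨14, -1, 1⟩] [])) (cond (Nat.blt c 68) (cond (Nat.beq c 63) [⟨16, 1, 1⟩] []) (cond (Nat.blt c 70) (cond (Nat.beq c 68) [⟨18, 1, 1⟩] []) (cond (Nat.beq c 70) [⟨20, 1, 1⟩] [])))) (cond (Nat.blt c 80) (cond (Nat.blt c 75) (cond (Nat.beq c 73) [⟨21, 1, 1⟩] []) (cond (Nat.beq c 75) [⟨23, -1, 1⟩] [])) (cond (Nat.blt c 82) (cond (Nat.beq c 80) [⟨25, 1, 1⟩] []) (cond (Nat.blt c 84) (cond (Nat.beq c 82) [⟨30, -1, 1⟩] []) (cond (Nat.beq c 84) [⟨32, 1, 1⟩] [])))))) (cond (Nat.blt c 118) (cond (Nat.blt c 105) (cond (Nat.blt c 98) (cond (Nat.blt c 93) (cond (Nat.beq c 91) [⟨34, 1, 1⟩] []) (cond (Nat.beq c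 93) [⟨36, -1, 1⟩] [])) (cond (Nat.blt c 101) (cond (Nat.beq c 98) [⟨38, 1, 1⟩] []) (cond (Nat.blt c 103) (cond (Nat.beq c 101) [⟨41, -1, 1⟩] []) (cond (Nat.beq c 103) [⟨46, 1, 1⟩] [])))) (cond (Nat.blt c 109) (cond (Nat.blt c 107) (cond (Nat.beq c 105) [⟨48, -1, 1⟩] []) (cond (Nat.beq c 107) [⟨55, -1, 1⟩] [])) (cond (Nat.blt c 114) (cond (Nat.beq c 109) [⟨57, 1, 1⟩] []) (cond (Nat.blt c 116) (cond (Nat.beq c 114) [⟨59, -1, 1⟩] []) (cond (Nat.beq c 116) [⟨64, 1, 1⟩] []))))) (cond (Nat.blt c 125) (cond (Nat.blt c 120) (cond (Nat.blt c 119) (cond (Nat.beq c 118) [⟨66, -1, 1⟩] []) (cond (Nat.beq c 119) [⟨69, -1, 1⟩] [])) (cond (Nat.blt c 121) (cond (Nat.beq c 120) [⟨19, -1, 2⟩, ⟨0, -1, 1⟩, ⟨1, -1, 1⟩, ⟨2, -2, 1⟩, ⟨3, -2, 1⟩, ⟨4, -2, 1⟩, ⟨5, -1, 1⟩, ⟨6, -1, 1⟩] []) (cond (Nat.blt c 123)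 (cond (Nat.beq c 121) [⟨71, -1, 1⟩] []) (cond (Nat.beq c 123) [⟨76, -1, 1⟩] [])))) (cond (Nat.blt c 129) (cond (Nat.blt c 127) (cond (Nat.beq c 125) [⟨78, 1, 1⟩] []) (cond (Nat.beq c 127) [⟨86, 1, 1⟩] [])) (cond (Nat.blt c 131) (cond (Nat.beq c 129) [⟨88, -1, 1⟩] []) (cond (Nat.blt c 132) (cond (Nat.beq c 131) [⟨95, 1, 1⟩] []) (cond (Nat.beq c 132) [⟨111, -1, 1⟩] []))))))

/-- Compiled columns of `x_13` for type E7. -/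
def colsE7_13 (c : ℕ) : List CEnt :=
  cond (Nat.blt c 91) (cond (Nat.blt c 53) (cond (Nat.blt c 5) (cond (Nat.blt c 2) (cond (Nat.blt c 1) (cond (Nat.beq c 0) [⟨20, 0, 1⟩] []) (cond (Nat.beq c 1) [⟨20, 0, 1⟩] [])) (cond (Nat.blt c 3) (cond (Nat.beq c 2) [⟨20, 1, 1⟩] []) (cond (Nat.blt c 4) (cond (Nat.beq c 3) [⟨20, -1, 1⟩] []) (cond (Nat.beq c 4) [⟨20, 1, 1⟩] [])))) (cond (Nat.blt c 27) (cond (Nat.blt c 6) (cond (Nat.beq c 5) [⟨20, 0, 1⟩] []) (cond (Nat.beq c 6) [⟨20, -1, 1⟩] [])) (cond (Nat.blt c 43) (cond (Nat.beq c 27) [⟨7, -1, 1⟩] []) (cond (Nat.blt c 50) (cond (Nat.beq c 43) [⟨8, 1, 1⟩] []) (cond (Nat.beq c 50) [⟨10, -1, 1⟩] []))))) (cond (Nat.blt c 73) (cond (Nat.blt c 63) (cond (Nat.blt c 60) (cond (Nat.beq c 53) [⟨13, -1, 1⟩] []) (cond (Nat.beq c 60) [⟨14, 1, 1⟩] [])) (cond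 (Nat.blt c 67) (cond (Nat.beq c 63) [⟨17, 1, 1⟩] []) (cond (Nat.blt c 69) (cond (Nat.beq c 67) [⟨18, -1, 1⟩] []) (cond (Nat.beq c 69) [⟨19, 1, 1⟩] [])))) (cond (Nat.blt c 80) (cond (Nat.blt c 74) (cond (Nat.beq c 73) [⟨22, 1, 1⟩] []) (cond (Nat.beq c 74) [⟨23, -1, 1⟩] [])) (cond (Nat.blt c 82) (cond (Nat.beq c 80) [⟨26, 1, 1⟩] []) (cond (Nat.blt c 83) (cond (Nat.beq c 82) [⟨31, -1, 1⟩] []) (cond (Nat.beq c 83) [⟨32, 1, 1⟩] [])))))) (cond (Nat.blt c 117) (cond (Nat.blt c 104) (cond (Nat.blt c 97) (cond (Nat.blt c 92) (cond (Nat.beq c 91) [⟨35, 1, 1⟩] []) (cond (Nat.beq c 92) [⟨36, -1, 1⟩] [])) (cond (Nat.blt c 101) (cond (Nat.beq c 97) [⟨38, 1, 1⟩] []) (cond (Nat.blt c 103) (cond (Nat.beq c 101) [⟨42, -1, 1⟩] []) (cond (Nat.beq c 103) [⟨47, 1, 1⟩] [])))) (cond (Nat.blt c 108) (cond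 (Nat.blt c 107) (cond (Nat.beq c 104) [⟨48, -1, 1⟩] []) (cond (Nat.beq c 107) [⟨56, -1, 1⟩] [])) (cond (Nat.blt c 113) (cond (Nat.beq c 108) [⟨57, 1, 1⟩] []) (cond (Nat.blt c 116) (cond (Nat.beq c 113) [⟨59, -1, 1⟩] []) (cond (Nat.beq c 116) [⟨65, 1, 1⟩] []))))) (cond (Nat.blt c 125) (cond (Nat.blt c 120) (cond (Nat.blt c 119) (cond (Nat.beq c 117) [⟨66, -1, 1⟩] []) (cond (Nat.beq c 119) [⟨20, -1, 2⟩, ⟨0, -1, 1⟩, ⟨1, -1, 1⟩, ⟨2, -2, 1⟩, ⟨3, -2, 1⟩, ⟨4, -2, 1⟩, ⟨5, -1, 1⟩, ⟨6, 0, 1⟩] [])) (cond (Nat.blt c 121) (cond (Nat.beq c 120) [⟨70, -1, 1⟩] []) (cond (Nat.blt c 122) (cond (Nat.beq c 121) [⟨72, 1, 1⟩] []) (cond (Nat.beq c 122) [⟨76, -1, 1⟩] [])))) (cond (Nat.blt c 129) (cond (Nat.blt c 126) (cond (Nat.beq c 125) [⟨79, -1, 1⟩] []) (cond (Nat.beq c 126) [⟨86, 1, 1⟩] [])) (cond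 (Nat.blt c 131) (cond (Nat.beq c 129) [⟨89, 1, 1⟩] []) (cond (Nat.blt c 132) (cond (Nat.beq c 131) [⟨96, -1, 1⟩] []) (cond (Nat.beq c 132) [⟨112, 1, 1⟩] []))))))

/-- Compiled columns of `x_14` for type E7. -/
def colsE7_14 (c : ℕ) : List CEnt :=
  cond (Nat.blt c 90) (cond (Nat.blt c 52) (cond (Nat.blt c 5) (cond (Nat.blt c 2) (cond (Nat.blt c 1) (cond (Nat.beq c 0) [⟨21, 0, 1⟩] []) (cond (Nat.beq c 1) [⟨21, 0, 1⟩] [])) (cond (Nat.blt c 3) (cond (Nat.beq c 2) [⟨21, 1, 1⟩] []) (cond (Nat.blt c 4) (cond (Nat.beq c 3) [⟨21, 0, 1⟩] []) (cond (Nat.beq c 4) [⟨21, -1, 1⟩] [])))) (cond (Nat.blt c 26) (cond (Nat.blt c 6) (cond (Nat.beq c 5) [⟨21, 0, 1⟩] []) (cond (Nat.beq c 6) [⟨21, 1, 1⟩] [])) (cond (Nat.blt c 42) (cond (Nat.beq c 26) [⟨7, -1, 1⟩] []) (cond (Nat.blt c 51) (cond (Nat.beq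 c 42) [⟨8, 1, 1⟩] []) (cond (Nat.beq c 51) [⟨11, 1, 1⟩] []))))) (cond (Nat.blt c 70) (cond (Nat.blt c 62) (cond (Nat.blt c 61) (cond (Nat.beq c 52) [⟨12, 1, 1⟩] []) (cond (Nat.beq c 61) [⟨15, -1, 1⟩] [])) (cond (Nat.blt c 65) (cond (Nat.beq c 62) [⟨16, -1, 1⟩] []) (cond (Nat.blt c 66) (cond (Nat.beq c 65) [⟨18, 1, 1⟩] []) (cond (Nat.beq c 66) [⟨19, 1, 1⟩] [])))) (cond (Nat.blt c 80) (cond (Nat.blt c 72) (cond (Nat.beq c 70) [⟨22, 1, 1⟩] []) (cond (Nat.beq c 72) [⟨23, 1, 1⟩] [])) (cond (Nat.blt c 81) (cond (Nat.beq c 80) [⟨27, 1, 1⟩] []) (cond (Nat.blt c 84) (cond (Nat.beq c 81) [⟨30, -1, 1⟩] []) (cond (Nat.beq c 84) [⟨33, 1, 1⟩] [])))))) (cond (Nat.blt c 117) (cond (Nat.blt c 105) (cond (Nat.blt c 96) (cond (Nat.blt c 93) (cond (Nat.beq c 90) [⟨34, 1, 1⟩] []) (cond (Nat.beq c 93)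 [⟨37, -1, 1⟩] [])) (cond (Nat.blt c 101) (cond (Nat.beq c 96) [⟨38, 1, 1⟩] []) (cond (Nat.blt c 102) (cond (Nat.beq c 101) [⟨43, -1, 1⟩] []) (cond (Nat.beq c 102) [⟨46, 1, 1⟩] [])))) (cond (Nat.blt c 109) (cond (Nat.blt c 106) (cond (Nat.beq c 105) [⟨49, -1, 1⟩] []) (cond (Nat.beq c 106) [⟨55, -1, 1⟩] [])) (cond (Nat.blt c 112) (cond (Nat.beq c 109) [⟨58, 1, 1⟩] []) (cond (Nat.blt c 116) (cond (Nat.beq c 112) [⟨59, -1, 1⟩] []) (cond (Nat.beq c 116) [⟨67, -1, 1⟩] []))))) (cond (Nat.blt c 124) (cond (Nat.blt c 120) (cond (Nat.blt c 118) (cond (Nat.beq c 117) [⟨69, -1, 1⟩] []) (cond (Nat.beq c 118) [⟨21, -1, 2⟩, ⟨0, -1, 1⟩, ⟨1, -1, 1⟩, ⟨2, -2, 1⟩, ⟨3, -2, 1⟩, ⟨4, -1, 1⟩, ⟨5, -1, 1⟩, ⟨6, -1, 1⟩] [])) (cond (Nat.blt c 121) (cond (Nat.beq c 120) [⟨73, -1, 1⟩] []) (cond (Nat.blt c 123)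 (cond (Nat.beq c 121) [⟨74, -1, 1⟩] []) (cond (Nat.beq c 123) [⟨77, 1, 1⟩] [])))) (cond (Nat.blt c 128) (cond (Nat.blt c 127) (cond (Nat.beq c 124) [⟨78, 1, 1⟩] []) (cond (Nat.beq c 127) [⟨87, -1, 1⟩] [])) (cond (Nat.blt c 131) (cond (Nat.beq c 128) [⟨88, -1, 1⟩] []) (cond (Nat.blt c 132) (cond (Nat.beq c 131) [⟨97, -1, 1⟩] []) (cond (Nat.beq c 132) [⟨113, 1, 1⟩] []))))))

/-- Compiled columns of `x_15` for type E7. -/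
def colsE7_15 (c : ℕ) : List CEnt :=
  cond (Nat.blt c 90) (cond (Nat.blt c 52) (cond (Nat.blt c 5) (cond (Nat.blt c 2) (cond (Nat.blt c 1) (cond (Nat.beq c 0) [⟨22, 0, 1⟩] []) (cond (Nat.beq c 1) [⟨22, 0, 1⟩] [])) (cond (Nat.blt c 3) (cond (Nat.beq c 2) [⟨22, 1, 1⟩] []) (cond (Nat.blt c 4) (cond (Nat.beq c 3) [⟨22, 0, 1⟩] []) (cond (Nat.beq c 4) [⟨22, -1, 1⟩] [])))) (cond (Nat.blt c 25) (cond (Nat.blt c 6) (cond (Nat.beq c 5) [⟨22, 1, 1⟩] []) (cond (Nat.beq c 6) [⟨22, -1, 1⟩] [])) (cond (Nat.blt c 41) (cond (Nat.beq c 25) [⟨7, 1, 1⟩] []) (cond (Nat.blt c 50) (cond (Nat.beq c 41) [⟨8, -1, 1⟩] []) (cond (Nat.beq c 50) [⟨11, -1, 1⟩] []))))) (cond (Nat.blt c 69) (cond (Nat.blt c 62) (cond (Nat.blt c 60) (cond (Nat.beq c 52) [⟨13, 1, 1⟩] []) (cond (Nat.beq c 60) [⟨15, 1, 1⟩] [])) (cond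 (Nat.blt c 64) (cond (Nat.beq c 62) [⟨17, -1, 1⟩] []) (cond (Nat.blt c 66) (cond (Nat.beq c 64) [⟨18, -1, 1⟩] []) (cond (Nat.beq c 66) [⟨20, 1, 1⟩] [])))) (cond (Nat.blt c 80) (cond (Nat.blt c 71) (cond (Nat.beq c 69) [⟨21, 1, 1⟩] []) (cond (Nat.beq c 71) [⟨23, 1, 1⟩] [])) (cond (Nat.blt c 81) (cond (Nat.beq c 80) [⟨28, 1, 1⟩] []) (cond (Nat.blt c 83) (cond (Nat.beq c 81) [⟨31, -1, 1⟩] []) (cond (Nat.beq c 83) [⟨33, 1, 1⟩] [])))))) (cond (Nat.blt c 117) (cond (Nat.blt c 104) (cond (Nat.blt c 95) (cond (Nat.blt c 92) (cond (Nat.beq c 90) [⟨35, 1, 1⟩] []) (cond (Nat.beq c 92) [⟨37, -1, 1⟩] [])) (cond (Nat.blt c 101) (cond (Nat.beq c 95) [⟨38, 1, 1⟩] []) (cond (Nat.blt c 102) (cond (Nat.beq c 101) [⟨44, -1, 1⟩] []) (cond (Nat.beq c 102) [⟨47, 1, 1⟩] [])))) (cond (Nat.blt c 108) (cond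 (Nat.blt c 106) (cond (Nat.beq c 104) [⟨49, -1, 1⟩] []) (cond (Nat.beq c 106) [⟨56, -1, 1⟩] [])) (cond (Nat.blt c 111) (cond (Nat.beq c 108) [⟨58, 1, 1⟩] []) (cond (Nat.blt c 116) (cond (Nat.beq c 111) [⟨59, -1, 1⟩] []) (cond (Nat.beq c 116) [⟨68, -1, 1⟩] []))))) (cond (Nat.blt c 124) (cond (Nat.blt c 119) (cond (Nat.blt c 118) (cond (Nat.beq c 117) [⟨22, -1, 2⟩, ⟨0, -1, 1⟩, ⟨1, -1, 1⟩, ⟨2, -2, 1⟩, ⟨3, -2, 1⟩, ⟨4, -1, 1⟩, ⟨5, -1, 1⟩, ⟨6, 0, 1⟩] []) (cond (Nat.beq c 118) [⟨70, -1, 1⟩] [])) (cond (Nat.blt c 121) (cond (Nat.beq c 119) [⟨73, -1, 1⟩] []) (cond (Nat.blt c 122) (cond (Nat.beq c 121) [⟨75, 1, 1⟩] []) (cond (Nat.beq c 122) [⟨77, 1, 1⟩] [])))) (cond (Nat.blt c 128) (cond (Nat.blt c 126) (cond (Nat.beq c 124) [⟨79, -1, 1⟩] []) (cond (Nat.beq c 126) [⟨87, -1, 1⟩] [])) (cond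 (Nat.blt c 131) (cond (Nat.beq c 128) [⟨89, 1, 1⟩] []) (cond (Nat.blt c 132) (cond (Nat.beq c 131) [⟨98, 1, 1⟩] []) (cond (Nat.beq c 132) [⟨114, -1, 1⟩] []))))))

/-- Compiled columns of `x_16` for type E7. -/
def colsE7_16 (c : ℕ) : List CEnt :=
  cond (Nat.blt c 90) (cond (Nat.blt c 51) (cond (Nat.blt c 5) (cond (Nat.blt c 2) (cond (Nat.blt c 1) (cond (Nat.beq c 0) [⟨23, 0, 1⟩] []) (cond (Nat.beq c 1) [⟨23, 0, 1⟩] [])) (cond (Nat.blt c 3) (cond (Nat.beq c 2) [⟨23, 1, 1⟩] []) (cond (Nat.blt c 4) (cond (Nat.beq c 3) [⟨23, 0, 1⟩] []) (cond (Nat.beq c 4) [⟨23, 0, 1⟩] [])))) (cond (Nat.blt c 24) (cond (Nat.blt c 6) (cond (Nat.beq c 5) [⟨23, -1, 1⟩] []) (cond (Nat.beq c 6) [⟨23, 0, 1⟩] [])) (cond (Nat.blt c 40) (cond (Nat.beq c 24) [⟨7, -1, 1⟩] []) (cond (Nat.blt c 50) (cond (Nat.beq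 c 40) [⟨8, 1, 1⟩] []) (cond (Nat.beq c 50) [⟨12, -1, 1⟩] []))))) (cond (Nat.blt c 67) (cond (Nat.blt c 61) (cond (Nat.blt c 60) (cond (Nat.beq c 51) [⟨13, -1, 1⟩] []) (cond (Nat.beq c 60) [⟨16, 1, 1⟩] [])) (cond (Nat.blt c 64) (cond (Nat.beq c 61) [⟨17, 1, 1⟩] []) (cond (Nat.blt c 65) (cond (Nat.beq c 64) [⟨19, -1, 1⟩] []) (cond (Nat.beq c 65) [⟨20, -1, 1⟩] [])))) (cond (Nat.blt c 80) (cond (Nat.blt c 68) (cond (Nat.beq c 67) [⟨21, 1, 1⟩] []) (cond (Nat.beq c 68) [⟨22, 1, 1⟩] [])) (cond (Nat.blt c 81) (cond (Nat.beq c 80) [⟨29, 1, 1⟩] []) (cond (Nat.blt c 82) (cond (Nat.beq c 81) [⟨32, -1, 1⟩] []) (cond (Nat.beq c 82) [⟨33, 1, 1⟩] [])))))) (cond (Nat.blt c 117) (cond (Nat.blt c 103) (cond (Nat.blt c 94) (cond (Nat.blt c 91) (cond (Nat.beq c 90) [⟨36, 1, 1⟩] []) (cond (Nat.beq c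 91) [⟨37, -1, 1⟩] [])) (cond (Nat.blt c 101) (cond (Nat.beq c 94) [⟨38, 1, 1⟩] []) (cond (Nat.blt c 102) (cond (Nat.beq c 101) [⟨45, -1, 1⟩] []) (cond (Nat.beq c 102) [⟨48, 1, 1⟩] [])))) (cond (Nat.blt c 107) (cond (Nat.blt c 106) (cond (Nat.beq c 103) [⟨49, -1, 1⟩] []) (cond (Nat.beq c 106) [⟨57, -1, 1⟩] [])) (cond (Nat.blt c 110) (cond (Nat.beq c 107) [⟨58, 1, 1⟩] []) (cond (Nat.blt c 116) (cond (Nat.beq c 110) [⟨59, -1, 1⟩] []) (cond (Nat.beq c 116) [⟨23, -1, 2⟩, ⟨0, -1, 1⟩, ⟨1, -1, 1⟩, ⟨2, -2, 1⟩, ⟨3, -2, 1⟩, ⟨4, -1, 1⟩, ⟨5, 0, 1⟩, ⟨6, 0, 1⟩] []))))) (cond (Nat.blt c 123) (cond (Nat.blt c 119) (cond (Nat.blt c 118) (cond (Nat.beq c 117) [⟨71, -1, 1⟩] []) (cond (Nat.beq c 118) [⟨72, -1, 1⟩] [])) (cond (Nat.blt c 120) (cond (Nat.beq c 119) [⟨74, 1, 1⟩] []) (cond (Nat.blt c 122)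 (cond (Nat.beq c 120) [⟨75, 1, 1⟩] []) (cond (Nat.beq c 122) [⟨78, -1, 1⟩] [])))) (cond (Nat.blt c 127) (cond (Nat.blt c 126) (cond (Nat.beq c 123) [⟨79, -1, 1⟩] []) (cond (Nat.beq c 126) [⟨88, 1, 1⟩] [])) (cond (Nat.blt c 131) (cond (Nat.beq c 127) [⟨89, 1, 1⟩] []) (cond (Nat.blt c 132) (cond (Nat.beq c 131) [⟨99, -1, 1⟩] []) (cond (Nat.beq c 132) [⟨115, 1, 1⟩] []))))))

/-- Compiled columns of `x_17` for type E7. -/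
def colsE7_17 (c : ℕ) : List CEnt :=
  cond (Nat.blt c 88) (cond (Nat.blt c 49) (cond (Nat.blt c 5) (cond (Nat.blt c 2) (cond (Nat.blt c 1) (cond (Nat.beq c 0) [⟨24, 1, 1⟩] []) (cond (Nat.beq c 1) [⟨24, 0, 1⟩] [])) (cond (Nat.blt c 3) (cond (Nat.beq c 2) [⟨24, -1, 1⟩] []) (cond (Nat.blt c 4) (cond (Nat.beq c 3) [⟨24, 0, 1⟩] []) (cond (Nat.beq c 4) [⟨24, 0, 1⟩] [])))) (cond (Nat.blt c 23) (cond (Nat.blt c 6) (cond (Nat.beq c 5) [⟨24, 1, 1⟩] []) (cond (Nat.beq c 6) [⟨24, 0, 1⟩] [])) (cond (Nat.blt c 45) (cond (Nat.beq c 23) [⟨7, 1, 1⟩] []) (cond (Nat.blt c 48) (cond (Nat.beq c 45) [⟨9, 1, 1⟩] []) (cond (Nat.beq c 48) [⟨10, 1, 1⟩] []))))) (cond (Nat.blt c 72) (cond (Nat.blt c 58) (cond (Nat.blt c 57) (cond (Nat.beq c 49) [⟨11, 1, 1⟩] []) (cond (Nat.beq c 57) [⟨14, 1, 1⟩] [])) (cond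 (Nat.blt c 59) (cond (Nat.beq c 58) [⟨15, 1, 1⟩] []) (cond (Nat.blt c 71) (cond (Nat.beq c 59) [⟨18, 1, 1⟩] []) (cond (Nat.beq c 71) [⟨25, 1, 1⟩] [])))) (cond (Nat.blt c 75) (cond (Nat.blt c 74) (cond (Nat.beq c 72) [⟨26, -1, 1⟩] []) (cond (Nat.beq c 74) [⟨27, 1, 1⟩] [])) (cond (Nat.blt c 78) (cond (Nat.beq c 75) [⟨28, -1, 1⟩] []) (cond (Nat.blt c 79) (cond (Nat.beq c 78) [⟨30, 1, 1⟩] []) (cond (Nat.beq c 79) [⟨31, -1, 1⟩] [])))))) (cond (Nat.blt c 113) (cond (Nat.blt c 105) (cond (Nat.blt c 99) (cond (Nat.blt c 89) (cond (Nat.beq c 88) [⟨34, 1, 1⟩] []) (cond (Nat.beq c 89) [⟨35, -1, 1⟩] [])) (cond (Nat.blt c 100) (cond (Nat.beq c 99) [⟨39, 1, 1⟩] []) (cond (Nat.blt c 104) (cond (Nat.beq c 100) [⟨40, -1, 1⟩] []) (cond (Nat.beq c 104) [⟨50, 1, 1⟩] [])))) (cond (Nat.blt c 109) (cond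 (Nat.blt c 108) (cond (Nat.beq c 105) [⟨51, -1, 1⟩] []) (cond (Nat.beq c 108) [⟨60, 1, 1⟩] [])) (cond (Nat.blt c 111) (cond (Nat.beq c 109) [⟨61, -1, 1⟩] []) (cond (Nat.blt c 112) (cond (Nat.beq c 111) [⟨64, 1, 1⟩] []) (cond (Nat.beq c 112) [⟨65, -1, 1⟩] []))))) (cond (Nat.blt c 125) (cond (Nat.blt c 115) (cond (Nat.blt c 114) (cond (Nat.beq c 113) [⟨67, 1, 1⟩] []) (cond (Nat.beq c 114) [⟨68, -1, 1⟩] [])) (cond (Nat.blt c 121) (cond (Nat.beq c 115) [⟨24, -1, 2⟩, ⟨0, -1, 1⟩, ⟨1, -1, 1⟩, ⟨2, -1, 1⟩, ⟨3, -2, 1⟩, ⟨4, -2, 1⟩, ⟨5, -2, 1⟩, ⟨6, -1, 1⟩] []) (cond (Nat.blt c 124) (cond (Nat.beq c 121) [⟨80, -1, 1⟩] []) (cond (Nat.beq c 124) [⟨81, -1, 1⟩] [])))) (cond (Nat.blt c 129) (cond (Nat.blt c 128) (cond (Nat.beq c 125) [⟨82, -1, 1⟩] []) (cond (Nat.beq c 128) [⟨90, -1, 1⟩] [])) (cond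 (Nat.blt c 130) (cond (Nat.beq c 129) [⟨91, -1, 1⟩] []) (cond (Nat.blt c 132) (cond (Nat.beq c 130) [⟨94, -1, 1⟩] []) (cond (Nat.beq c 132) [⟨116, -1, 1⟩] []))))))

/-- Compiled columns of `x_18` for type E7. -/
def colsE7_18 (c : ℕ) : List CEnt :=
  cond (Nat.blt c 87) (cond (Nat.blt c 49) (cond (Nat.blt c 5) (cond (Nat.blt c 2) (cond (Nat.blt c 1) (cond (Nat.beq c 0) [⟨25, 1, 1⟩] []) (cond (Nat.beq c 1) [⟨25, 0, 1⟩] [])) (cond (Nat.blt c 3) (cond (Nat.beq c 2) [⟨25, -1, 1⟩] []) (cond (Nat.blt c 4) (cond (Nat.beq c 3) [⟨25, 0, 1⟩] []) (cond (Nat.beq c 4) [⟨25, 1, 1⟩] [])))) (cond (Nat.blt c 22) (cond (Nat.blt c 6) (cond (Nat.beq c 5) [⟨25, -1, 1⟩] []) (cond (Nat.beq c 6) [⟨25, 1, 1⟩] [])) (cond (Nat.blt c 44) (cond (Nat.beq c 22) [⟨7, -1, 1⟩] []) (cond (Nat.blt c 47) (cond (Nat.beq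 c 44) [⟨9, -1, 1⟩] []) (cond (Nat.beq c 47) [⟨10, -1, 1⟩] []))))) (cond (Nat.blt c 70) (cond (Nat.blt c 58) (cond (Nat.blt c 56) (cond (Nat.beq c 49) [⟨12, 1, 1⟩] []) (cond (Nat.beq c 56) [⟨14, -1, 1⟩] [])) (cond (Nat.blt c 59) (cond (Nat.beq c 58) [⟨16, 1, 1⟩] []) (cond (Nat.blt c 68) (cond (Nat.beq c 59) [⟨19, 1, 1⟩] []) (cond (Nat.beq c 68) [⟨24, 1, 1⟩] [])))) (cond (Nat.blt c 75) (cond (Nat.blt c 73) (cond (Nat.beq c 70) [⟨26, 1, 1⟩] []) (cond (Nat.beq c 73) [⟨27, 1, 1⟩] [])) (cond (Nat.blt c 77) (cond (Nat.beq c 75) [⟨29, -1, 1⟩] []) (cond (Nat.blt c 79) (cond (Nat.beq c 77) [⟨30, 1, 1⟩] []) (cond (Nat.beq c 79) [⟨32, -1, 1⟩] [])))))) (cond (Nat.blt c 113) (cond (Nat.blt c 105) (cond (Nat.blt c 98) (cond (Nat.blt c 89) (cond (Nat.beq c 87) [⟨34, 1, 1⟩] []) (cond (Nat.beq c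 89) [⟨36, -1, 1⟩] [])) (cond (Nat.blt c 100) (cond (Nat.beq c 98) [⟨39, 1, 1⟩] []) (cond (Nat.blt c 103) (cond (Nat.beq c 100) [⟨41, -1, 1⟩] []) (cond (Nat.beq c 103) [⟨50, 1, 1⟩] [])))) (cond (Nat.blt c 109) (cond (Nat.blt c 107) (cond (Nat.beq c 105) [⟨52, -1, 1⟩] []) (cond (Nat.beq c 107) [⟨60, 1, 1⟩] [])) (cond (Nat.blt c 110) (cond (Nat.beq c 109) [⟨62, -1, 1⟩] []) (cond (Nat.blt c 112) (cond (Nat.beq c 110) [⟨64, 1, 1⟩] []) (cond (Nat.beq c 112) [⟨66, -1, 1⟩] []))))) (cond (Nat.blt c 125) (cond (Nat.blt c 115) (cond (Nat.blt c 114) (cond (Nat.beq c 113) [⟨69, -1, 1⟩] []) (cond (Nat.beq c 114) [⟨25, -1, 2⟩, ⟨0, -1, 1⟩, ⟨1, -1, 1⟩, ⟨2, -1, 1⟩, ⟨3, -2, 1⟩, ⟨4, -2, 1⟩, ⟨5, -1, 1⟩, ⟨6, -1, 1⟩] [])) (cond (Nat.blt c 120) (cond (Nat.beq c 115) [⟨71, -1, 1⟩] []) (cond (Nat.blt c 123)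 (cond (Nat.beq c 120) [⟨80, -1, 1⟩] []) (cond (Nat.beq c 123) [⟨81, -1, 1⟩] [])))) (cond (Nat.blt c 129) (cond (Nat.blt c 127) (cond (Nat.beq c 125) [⟨83, 1, 1⟩] []) (cond (Nat.beq c 127) [⟨90, -1, 1⟩] [])) (cond (Nat.blt c 130) (cond (Nat.beq c 129) [⟨92, 1, 1⟩] []) (cond (Nat.blt c 132) (cond (Nat.beq c 130) [⟨95, 1, 1⟩] []) (cond (Nat.beq c 132) [⟨117, 1, 1⟩] []))))))

/-- Compiled columns of `x_19` for type E7. -/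
def colsE7_19 (c : ℕ) : List CEnt :=
  cond (Nat.blt c 87) (cond (Nat.blt c 49) (cond (Nat.blt c 5) (cond (Nat.blt c 2) (cond (Nat.blt c 1) (cond (Nat.beq c 0) [⟨26, 1, 1⟩] []) (cond (Nat.beq c 1) [⟨26, 0, 1⟩] [])) (cond (Nat.blt c 3) (cond (Nat.beq c 2) [⟨26, -1, 1⟩] []) (cond (Nat.blt c 4) (cond (Nat.beq c 3) [⟨26, 0, 1⟩] []) (cond (Nat.beq c 4) [⟨26, 1, 1⟩] [])))) (cond (Nat.blt c 21) (cond (Nat.blt c 6) (cond (Nat.beq c 5) [⟨26, 0, 1⟩] []) (cond (Nat.beq c 6) [⟨26, -1, 1⟩] [])) (cond (Nat.blt c 43) (cond (Nat.beq c 21) [⟨7, 1, 1⟩] []) (cond (Nat.blt c 46) (cond (Nat.beq c 43) [⟨9, 1, 1⟩] []) (cond (Nat.beq c 46) [⟨10, 1, 1⟩] []))))) (cond (Nat.blt c 69) (cond (Nat.blt c 58) (cond (Nat.blt c 55) (cond (Nat.beq c 49) [⟨13, 1, 1⟩] []) (cond (Nat.beq c 55) [⟨14, 1, 1⟩] [])) (cond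 (Nat.blt c 59) (cond (Nat.beq c 58) [⟨17, 1, 1⟩] []) (cond (Nat.blt c 67) (cond (Nat.beq c 59) [⟨20, 1, 1⟩] []) (cond (Nat.beq c 67) [⟨24, -1, 1⟩] [])))) (cond (Nat.blt c 74) (cond (Nat.blt c 73) (cond (Nat.beq c 69) [⟨25, 1, 1⟩] []) (cond (Nat.beq c 73) [⟨28, 1, 1⟩] [])) (cond (Nat.blt c 77) (cond (Nat.beq c 74) [⟨29, -1, 1⟩] []) (cond (Nat.blt c 78) (cond (Nat.beq c 77) [⟨31, 1, 1⟩] []) (cond (Nat.beq c 78) [⟨32, -1, 1⟩] [])))))) (cond (Nat.blt c 113) (cond (Nat.blt c 104) (cond (Nat.blt c 97) (cond (Nat.blt c 88) (cond (Nat.beq c 87) [⟨35, 1, 1⟩] []) (cond (Nat.beq c 88) [⟨36, -1, 1⟩] [])) (cond (Nat.blt c 100) (cond (Nat.beq c 97) [⟨39, 1, 1⟩] []) (cond (Nat.blt c 103) (cond (Nat.beq c 100) [⟨42, -1, 1⟩] []) (cond (Nat.beq c 103) [⟨51, 1, 1⟩] [])))) (cond (Nat.blt c 108) (cond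 (Nat.blt c 107) (cond (Nat.beq c 104) [⟨52, -1, 1⟩] []) (cond (Nat.beq c 107) [⟨61, 1, 1⟩] [])) (cond (Nat.blt c 110) (cond (Nat.beq c 108) [⟨62, -1, 1⟩] []) (cond (Nat.blt c 111) (cond (Nat.beq c 110) [⟨65, 1, 1⟩] []) (cond (Nat.beq c 111) [⟨66, -1, 1⟩] []))))) (cond (Nat.blt c 125) (cond (Nat.blt c 115) (cond (Nat.blt c 114) (cond (Nat.beq c 113) [⟨26, -1, 2⟩, ⟨0, -1, 1⟩, ⟨1, -1, 1⟩, ⟨2, -1, 1⟩, ⟨3, -2, 1⟩, ⟨4, -2, 1⟩, ⟨5, -1, 1⟩, ⟨6, 0, 1⟩] []) (cond (Nat.beq c 114) [⟨70, -1, 1⟩] [])) (cond (Nat.blt c 119) (cond (Nat.beq c 115) [⟨72, 1, 1⟩] []) (cond (Nat.blt c 122) (cond (Nat.beq c 119) [⟨80, -1, 1⟩] []) (cond (Nat.beq c 122) [⟨81, -1, 1⟩] [])))) (cond (Nat.blt c 129) (cond (Nat.blt c 126) (cond (Nat.beq c 125) [⟨84, -1, 1⟩] []) (cond (Nat.beq c 126) [⟨90, -1, 1⟩] [])) (cond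 (Nat.blt c 130) (cond (Nat.beq c 129) [⟨93, -1, 1⟩] []) (cond (Nat.blt c 132) (cond (Nat.beq c 130) [⟨96, -1, 1⟩] []) (cond (Nat.beq c 132) [⟨118, -1, 1⟩] []))))))

/-- Compiled columns of `x_20` for type E7. -/
def colsE7_20 (c : ℕ) : List CEnt :=
  cond (Nat.blt c 86) (cond (Nat.blt c 48) (cond (Nat.blt c 5) (cond (Nat.blt c 2) (cond (Nat.blt c 1) (cond (Nat.beq c 0) [⟨27, 1, 1⟩] []) (cond (Nat.beq c 1) [⟨27, 0, 1⟩] [])) (cond (Nat.blt c 3) (cond (Nat.beq c 2) [⟨27, -1, 1⟩] []) (cond (Nat.blt c 4) (cond (Nat.beq c 3) [⟨27, 1, 1⟩] []) (cond (Nat.beq c 4) [⟨27, -1, 1⟩] [])))) (cond (Nat.blt c 20) (cond (Nat.blt c 6) (cond (Nat.beq c 5) [⟨27, 0, 1⟩] []) (cond (Nat.beq c 6) [⟨27, 1, 1⟩] [])) (cond (Nat.blt c 42) (cond (Nat.beq c 20) [⟨7, 1, 1⟩] []) (cond (Nat.blt c 47) (cond (Nat.beq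 c 42) [⟨9, 1, 1⟩] []) (cond (Nat.beq c 47) [⟨11, -1, 1⟩] []))))) (cond (Nat.blt c 66) (cond (Nat.blt c 57) (cond (Nat.blt c 56) (cond (Nat.beq c 48) [⟨12, -1, 1⟩] []) (cond (Nat.beq c 56) [⟨15, -1, 1⟩] [])) (cond (Nat.blt c 59) (cond (Nat.beq c 57) [⟨16, -1, 1⟩] []) (cond (Nat.blt c 65) (cond (Nat.beq c 59) [⟨21, 1, 1⟩] []) (cond (Nat.beq c 65) [⟨24, 1, 1⟩] [])))) (cond (Nat.blt c 72) (cond (Nat.blt c 70) (cond (Nat.beq c 66) [⟨25, 1, 1⟩] []) (cond (Nat.beq c 70) [⟨28, 1, 1⟩] [])) (cond (Nat.blt c 76) (cond (Nat.beq c 72) [⟨29, 1, 1⟩] []) (cond (Nat.blt c 79) (cond (Nat.beq c 76) [⟨30, 1, 1⟩] []) (cond (Nat.beq c 79) [⟨33, -1, 1⟩] [])))))) (cond (Nat.blt c 112) (cond (Nat.blt c 105) (cond (Nat.blt c 96) (cond (Nat.blt c 89) (cond (Nat.beq c 86) [⟨34, 1, 1⟩] []) (cond (Nat.beq c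 89) [⟨37, -1, 1⟩] [])) (cond (Nat.blt c 100) (cond (Nat.beq c 96) [⟨39, 1, 1⟩] []) (cond (Nat.blt c 102) (cond (Nat.beq c 100) [⟨43, -1, 1⟩] []) (cond (Nat.beq c 102) [⟨50, 1, 1⟩] [])))) (cond (Nat.blt c 109) (cond (Nat.blt c 106) (cond (Nat.beq c 105) [⟨53, -1, 1⟩] []) (cond (Nat.beq c 106) [⟨60, 1, 1⟩] [])) (cond (Nat.blt c 110) (cond (Nat.beq c 109) [⟨63, -1, 1⟩] []) (cond (Nat.blt c 111) (cond (Nat.beq c 110) [⟨67, -1, 1⟩] []) (cond (Nat.beq c 111) [⟨69, -1, 1⟩] []))))) (cond (Nat.blt c 124) (cond (Nat.blt c 115) (cond (Nat.blt c 114) (cond (Nat.beq c 112) [⟨27, -1, 2⟩, ⟨0, -1, 1⟩, ⟨1, -1, 1⟩, ⟨2, -1, 1⟩, ⟨3, -2, 1⟩, ⟨4, -1, 1⟩, ⟨5, -1, 1⟩, ⟨6, -1, 1⟩] []) (cond (Nat.beq c 114) [⟨73, -1, 1⟩] [])) (cond (Nat.blt c 118) (cond (Nat.beq c 115) [⟨74, -1, 1⟩] []) (cond (Nat.blt c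 123) (cond (Nat.beq c 118) [⟨80, -1, 1⟩] []) (cond (Nat.beq c 123) [⟨82, 1, 1⟩] [])))) (cond (Nat.blt c 128) (cond (Nat.blt c 127) (cond (Nat.beq c 124) [⟨83, 1, 1⟩] []) (cond (Nat.beq c 127) [⟨91, 1, 1⟩] [])) (cond (Nat.blt c 130) (cond (Nat.beq c 128) [⟨92, 1, 1⟩] []) (cond (Nat.blt c 132) (cond (Nat.beq c 130) [⟨97, -1, 1⟩] []) (cond (Nat.beq c 132) [⟨119, -1, 1⟩] []))))))

/-- Compiled columns of `x_21` for type E7. -/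
def colsE7_21 (c : ℕ) : List CEnt :=
  cond (Nat.blt c 86) (cond (Nat.blt c 48) (cond (Nat.blt c 5) (cond (Nat.blt c 2) (cond (Nat.blt c 1) (cond (Nat.beq c 0) [⟨28, 1, 1⟩] []) (cond (Nat.beq c 1) [⟨28, 0, 1⟩] [])) (cond (Nat.blt c 3) (cond (Nat.beq c 2) [⟨28, -1, 1⟩] []) (cond (Nat.blt c 4) (cond (Nat.beq c 3) [⟨28, 1, 1⟩] []) (cond (Nat.beq c 4) [⟨28, -1, 1⟩] [])))) (cond (Nat.blt c 19) (cond (Nat.blt c 6) (cond (Nat.beq c 5) [⟨28, 1, 1⟩] []) (cond (Nat.beq c 6) [⟨28, -1, 1⟩] [])) (cond (Nat.blt c 41) (cond (Nat.beq c 19) [⟨7, -1, 1⟩] []) (cond (Nat.blt c 46) (cond (Nat.beq c 41) [⟨9, -1, 1⟩] []) (cond (Nat.beq c 46) [⟨11, 1, 1⟩] []))))) (cond (Nat.blt c 66) (cond (Nat.blt c 57) (cond (Nat.blt c 55) (cond (Nat.beq c 48) [⟨13, -1, 1⟩] []) (cond (Nat.beq c 55) [⟨15, 1, 1⟩] []))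 (cond (Nat.blt c 59) (cond (Nat.beq c 57) [⟨17, -1, 1⟩] []) (cond (Nat.blt c 64) (cond (Nat.beq c 59) [⟨22, 1, 1⟩] []) (cond (Nat.beq c 64) [⟨24, -1, 1⟩] [])))) (cond (Nat.blt c 71) (cond (Nat.blt c 69) (cond (Nat.beq c 66) [⟨26, 1, 1⟩] []) (cond (Nat.beq c 69) [⟨27, 1, 1⟩] [])) (cond (Nat.blt c 76) (cond (Nat.beq c 71) [⟨29, 1, 1⟩] []) (cond (Nat.blt c 78) (cond (Nat.beq c 76) [⟨31, 1, 1⟩] []) (cond (Nat.beq c 78) [⟨33, -1, 1⟩] [])))))) (cond (Nat.blt c 112) (cond (Nat.blt c 104) (cond (Nat.blt c 95) (cond (Nat.blt c 88) (cond (Nat.beq c 86) [⟨35, 1, 1⟩] []) (cond (Nat.beq c 88) [⟨37, -1, 1⟩] [])) (cond (Nat.blt c 100) (cond (Nat.beq c 95) [⟨39, 1, 1⟩] []) (cond (Nat.blt c 102) (cond (Nat.beq c 100) [⟨44, -1, 1⟩] []) (cond (Nat.beq c 102) [⟨51, 1, 1⟩] [])))) (cond (Nat.blt c 108)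 (cond (Nat.blt c 106) (cond (Nat.beq c 104) [⟨53, -1, 1⟩] []) (cond (Nat.beq c 106) [⟨61, 1, 1⟩] [])) (cond (Nat.blt c 110) (cond (Nat.beq c 108) [⟨63, -1, 1⟩] []) (cond (Nat.blt c 111) (cond (Nat.beq c 110) [⟨68, -1, 1⟩] []) (cond (Nat.beq c 111) [⟨28, -1, 2⟩, ⟨0, -1, 1⟩, ⟨1, -1, 1⟩, ⟨2, -1, 1⟩, ⟨3, -2, 1⟩, ⟨4, -1, 1⟩, ⟨5, -1, 1⟩, ⟨6, 0, 1⟩] []))))) (cond (Nat.blt c 124) (cond (Nat.blt c 115) (cond (Nat.blt c 113) (cond (Nat.beq c 112) [⟨70, -1, 1⟩] []) (cond (Nat.beq c 113) [⟨73, -1, 1⟩] [])) (cond (Nat.blt c 117) (cond (Nat.beq c 115) [⟨75, 1, 1⟩] []) (cond (Nat.blt c 122) (cond (Nat.beq c 117) [⟨80, -1, 1⟩] []) (cond (Nat.beq c 122) [⟨82, 1, 1⟩] [])))) (cond (Nat.blt c 128) (cond (Nat.blt c 126) (cond (Nat.beq c 124) [⟨84, -1, 1⟩] []) (cond (Nat.beq c 126) [⟨91, 1, 1⟩] []))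 (cond (Nat.blt c 130) (cond (Nat.beq c 128) [⟨93, -1, 1⟩] []) (cond (Nat.blt c 132) (cond (Nat.beq c 130) [⟨98, 1, 1⟩] []) (cond (Nat.beq c 132) [⟨120, 1, 1⟩] []))))))

/-- Compiled columns of `x_22` for type E7. -/
def colsE7_22 (c : ℕ) : List CEnt :=
  cond (Nat.blt c 86) (cond (Nat.blt c 47) (cond (Nat.blt c 5) (cond (Nat.blt c 2) (cond (Nat.blt c 1) (cond (Nat.beq c 0) [⟨29, 1, 1⟩] []) (cond (Nat.beq c 1) [⟨29, 0, 1⟩] [])) (cond (Nat.blt c 3) (cond (Nat.beq c 2) [⟨29, -1, 1⟩] []) (cond (Nat.blt c 4) (cond (Nat.beq c 3) [⟨29, 1, 1⟩] []) (cond (Nat.beq c 4) [⟨29, 0, 1⟩] [])))) (cond (Nat.blt c 18) (cond (Nat.blt c 6) (cond (Nat.beq c 5) [⟨29, -1, 1⟩] []) (cond (Nat.beq c 6) [⟨29, 0, 1⟩] [])) (cond (Nat.blt c 40) (cond (Nat.beq c 18) [⟨7, 1, 1⟩] []) (cond (Nat.blt c 46) (cond (Nat.beq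 c 40) [⟨9, 1, 1⟩] []) (cond (Nat.beq c 46) [⟨12, 1, 1⟩] []))))) (cond (Nat.blt c 65) (cond (Nat.blt c 56) (cond (Nat.blt c 55) (cond (Nat.beq c 47) [⟨13, 1, 1⟩] []) (cond (Nat.beq c 55) [⟨16, 1, 1⟩] [])) (cond (Nat.blt c 59) (cond (Nat.beq c 56) [⟨17, 1, 1⟩] []) (cond (Nat.blt c 64) (cond (Nat.beq c 59) [⟨23, 1, 1⟩] []) (cond (Nat.beq c 64) [⟨25, -1, 1⟩] [])))) (cond (Nat.blt c 68) (cond (Nat.blt c 67) (cond (Nat.beq c 65) [⟨26, -1, 1⟩] []) (cond (Nat.beq c 67) [⟨27, 1, 1⟩] [])) (cond (Nat.blt c 76) (cond (Nat.beq c 68) [⟨28, 1, 1⟩] []) (cond (Nat.blt c 77) (cond (Nat.beq c 76) [⟨32, 1, 1⟩] []) (cond (Nat.beq c 77) [⟨33, -1, 1⟩] [])))))) (cond (Nat.blt c 112) (cond (Nat.blt c 103) (cond (Nat.blt c 94) (cond (Nat.blt c 87) (cond (Nat.beq c 86) [⟨36, 1, 1⟩] []) (cond (Nat.beq c 87)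 [⟨37, -1, 1⟩] [])) (cond (Nat.blt c 100) (cond (Nat.beq c 94) [⟨39, 1, 1⟩] []) (cond (Nat.blt c 102) (cond (Nat.beq c 100) [⟨45, -1, 1⟩] []) (cond (Nat.beq c 102) [⟨52, 1, 1⟩] [])))) (cond (Nat.blt c 107) (cond (Nat.blt c 106) (cond (Nat.beq c 103) [⟨53, -1, 1⟩] []) (cond (Nat.beq c 106) [⟨62, 1, 1⟩] [])) (cond (Nat.blt c 110) (cond (Nat.beq c 107) [⟨63, -1, 1⟩] []) (cond (Nat.blt c 111) (cond (Nat.beq c 110) [⟨29, -1, 2⟩, ⟨0, -1, 1⟩, ⟨1, -1, 1⟩, ⟨2, -1, 1⟩, ⟨3, -2, 1⟩, ⟨4, -1, 1⟩, ⟨5, 0, 1⟩, ⟨6, 0, 1⟩] []) (cond (Nat.beq c 111) [⟨71, -1, 1⟩] []))))) (cond (Nat.blt c 123) (cond (Nat.blt c 114) (cond (Nat.blt c 113) (cond (Nat.beq c 112) [⟨72, -1, 1⟩] []) (cond (Nat.beq c 113) [⟨74, 1, 1⟩] [])) (cond (Nat.blt c 116) (cond (Nat.beq c 114) [⟨75, 1, 1⟩] []) (cond (Nat.blt c 122) (cond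 (Nat.beq c 116) [⟨80, -1, 1⟩] []) (cond (Nat.beq c 122) [⟨83, -1, 1⟩] [])))) (cond (Nat.blt c 127) (cond (Nat.blt c 126) (cond (Nat.beq c 123) [⟨84, -1, 1⟩] []) (cond (Nat.beq c 126) [⟨92, -1, 1⟩] [])) (cond (Nat.blt c 130) (cond (Nat.beq c 127) [⟨93, -1, 1⟩] []) (cond (Nat.blt c 132) (cond (Nat.beq c 130) [⟨99, -1, 1⟩] []) (cond (Nat.beq c 132) [⟨121, -1, 1⟩] []))))))

/-- Compiled columns of `x_23` for type E7. -/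
def colsE7_23 (c : ℕ) : List CEnt :=
  cond (Nat.blt c 85) (cond (Nat.blt c 45) (cond (Nat.blt c 5) (cond (Nat.blt c 2) (cond (Nat.blt c 1) (cond (Nat.beq c 0) [⟨30, 1, 1⟩] []) (cond (Nat.beq c 1) [⟨30, 1, 1⟩] [])) (cond (Nat.blt c 3) (cond (Nat.beq c 2) [⟨30, 0, 1⟩] []) (cond (Nat.blt c 4) (cond (Nat.beq c 3) [⟨30, -1, 1⟩] []) (cond (Nat.beq c 4) [⟨30, 0, 1⟩] [])))) (cond (Nat.blt c 17) (cond (Nat.blt c 6) (cond (Nat.beq c 5) [⟨30, 0, 1⟩] []) (cond (Nat.beq c 6) [⟨30, 1, 1⟩] [])) (cond (Nat.blt c 42) (cond (Nat.beq c 17) [⟨7, -1, 1⟩] []) (cond (Nat.blt c 44) (cond (Nat.beq c 42) [⟨10, 1, 1⟩] []) (cond (Nat.beq c 44) [⟨11, 1, 1⟩] []))))) (cond (Nat.blt c 62) (cond (Nat.blt c 57) (cond (Nat.blt c 56) (cond (Nat.beq c 45) [⟨12, 1, 1⟩] []) (cond (Nat.beq c 56) [⟨18, -1, 1⟩] [])) (cond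 (Nat.blt c 58) (cond (Nat.beq c 57) [⟨19, -1, 1⟩] []) (cond (Nat.blt c 61) (cond (Nat.beq c 58) [⟨21, -1, 1⟩] []) (cond (Nat.beq c 61) [⟨24, 1, 1⟩] [])))) (cond (Nat.blt c 70) (cond (Nat.blt c 63) (cond (Nat.beq c 62) [⟨25, 1, 1⟩] []) (cond (Nat.beq c 63) [⟨27, 1, 1⟩] [])) (cond (Nat.blt c 72) (cond (Nat.beq c 70) [⟨31, 1, 1⟩] []) (cond (Nat.blt c 75) (cond (Nat.beq c 72) [⟨32, 1, 1⟩] []) (cond (Nat.beq c 75) [⟨33, 1, 1⟩] [])))))) (cond (Nat.blt c 112) (cond (Nat.blt c 105) (cond (Nat.blt c 93) (cond (Nat.blt c 89) (cond (Nat.beq c 85) [⟨34, 1, 1⟩] []) (cond (Nat.beq c 89) [⟨38, -1, 1⟩] [])) (cond (Nat.blt c 100) (cond (Nat.beq c 93) [⟨39, 1, 1⟩] []) (cond (Nat.blt c 101) (cond (Nat.beq c 100) [⟨46, -1, 1⟩] []) (cond (Nat.beq c 101) [⟨50, 1, 1⟩] [])))) (cond (Nat.blt c 107) (cond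 (Nat.blt c 106) (cond (Nat.beq c 105) [⟨54, -1, 1⟩] []) (cond (Nat.beq c 106) [⟨64, -1, 1⟩] [])) (cond (Nat.blt c 108) (cond (Nat.beq c 107) [⟨67, -1, 1⟩] []) (cond (Nat.blt c 109) (cond (Nat.beq c 108) [⟨69, -1, 1⟩] []) (cond (Nat.beq c 109) [⟨30, -1, 2⟩, ⟨0, -1, 1⟩, ⟨1, -1, 1⟩, ⟨2, -1, 1⟩, ⟨3, -1, 1⟩, ⟨4, -1, 1⟩, ⟨5, -1, 1⟩, ⟨6, -1, 1⟩] []))))) (cond (Nat.blt c 121) (cond (Nat.blt c 115) (cond (Nat.blt c 114) (cond (Nat.beq c 112) [⟨76, -1, 1⟩] []) (cond (Nat.beq c 114) [⟨77, -1, 1⟩] [])) (cond (Nat.blt c 118) (cond (Nat.beq c 115) [⟨78, -1, 1⟩] []) (cond (Nat.blt c 120) (cond (Nat.beq c 118) [⟨81, 1, 1⟩] []) (cond (Nat.beq c 120) [⟨82, 1, 1⟩] [])))) (cond (Nat.blt c 128) (cond (Nat.blt c 127) (cond (Nat.beq c 121) [⟨83, 1, 1⟩] []) (cond (Nat.beq c 127) [⟨94, -1, 1⟩] [])) (cond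 (Nat.blt c 129) (cond (Nat.beq c 128) [⟨95, -1, 1⟩] []) (cond (Nat.blt c 132) (cond (Nat.beq c 129) [⟨97, -1, 1⟩] []) (cond (Nat.beq c 132) [⟨122, 1, 1⟩] []))))))

/-- Compiled columns of `x_24` for type E7. -/
def colsE7_24 (c : ℕ) : List CEnt :=
  cond (Nat.blt c 85) (cond (Nat.blt c 45) (cond (Nat.blt c 5) (cond (Nat.blt c 2) (cond (Nat.blt c 1) (cond (Nat.beq c 0) [⟨31, 1, 1⟩] []) (cond (Nat.beq c 1) [⟨31, 1, 1⟩] [])) (cond (Nat.blt c 3) (cond (Nat.beq c 2) [⟨31, 0, 1⟩] []) (cond (Nat.blt c 4) (cond (Nat.beq c 3) [⟨31, -1, 1⟩] []) (cond (Nat.beq c 4) [⟨31, 0, 1⟩] [])))) (cond (Nat.blt c 16) (cond (Nat.blt c 6) (cond (Nat.beq c 5) [⟨31, 1, 1⟩] []) (cond (Nat.beq c 6) [⟨31, -1, 1⟩] [])) (cond (Nat.blt c 41) (cond (Nat.beq c 16) [⟨7, 1, 1⟩] []) (cond (Nat.blt c 43) (cond (Nat.beq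 c 41) [⟨10, -1, 1⟩] []) (cond (Nat.beq c 43) [⟨11, -1, 1⟩] []))))) (cond (Nat.blt c 62) (cond (Nat.blt c 57) (cond (Nat.blt c 55) (cond (Nat.beq c 45) [⟨13, 1, 1⟩] []) (cond (Nat.beq c 55) [⟨18, 1, 1⟩] [])) (cond (Nat.blt c 58) (cond (Nat.beq c 57) [⟨20, -1, 1⟩] []) (cond (Nat.blt c 60) (cond (Nat.beq c 58) [⟨22, -1, 1⟩] []) (cond (Nat.beq c 60) [⟨24, -1, 1⟩] [])))) (cond (Nat.blt c 69) (cond (Nat.blt c 63) (cond (Nat.beq c 62) [⟨26, 1, 1⟩] []) (cond (Nat.beq c 63) [⟨28, 1, 1⟩] [])) (cond (Nat.blt c 71) (cond (Nat.beq c 69) [⟨30, 1, 1⟩] []) (cond (Nat.blt c 74) (cond (Nat.beq c 71) [⟨32, 1, 1⟩] []) (cond (Nat.beq c 74) [⟨33, 1, 1⟩] [])))))) (cond (Nat.blt c 111) (cond (Nat.blt c 104) (cond (Nat.blt c 92) (cond (Nat.blt c 88) (cond (Nat.beq c 85) [⟨35, 1, 1⟩] []) (cond (Nat.beq c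 88) [⟨38, -1, 1⟩] [])) (cond (Nat.blt c 100) (cond (Nat.beq c 92) [⟨39, 1, 1⟩] []) (cond (Nat.blt c 101) (cond (Nat.beq c 100) [⟨47, -1, 1⟩] []) (cond (Nat.beq c 101) [⟨51, 1, 1⟩] [])))) (cond (Nat.blt c 107) (cond (Nat.blt c 106) (cond (Nat.beq c 104) [⟨54, -1, 1⟩] []) (cond (Nat.beq c 106) [⟨65, -1, 1⟩] [])) (cond (Nat.blt c 108) (cond (Nat.beq c 107) [⟨68, -1, 1⟩] []) (cond (Nat.blt c 109) (cond (Nat.beq c 108) [⟨31, -1, 2⟩, ⟨0, -1, 1⟩, ⟨1, -1, 1⟩, ⟨2, -1, 1⟩, ⟨3, -1, 1⟩, ⟨4, -1, 1⟩, ⟨5, -1, 1⟩, ⟨6, 0, 1⟩] []) (cond (Nat.beq c 109) [⟨70, -1, 1⟩] []))))) (cond (Nat.blt c 121) (cond (Nat.blt c 115) (cond (Nat.blt c 113) (cond (Nat.beq c 111) [⟨76, -1, 1⟩] []) (cond (Nat.beq c 113) [⟨77, -1, 1⟩] [])) (cond (Nat.blt c 117) (cond (Nat.beq c 115) [⟨79, 1, 1⟩] []) (cond (Nat.blt c 119)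 (cond (Nat.beq c 117) [⟨81, 1, 1⟩] []) (cond (Nat.beq c 119) [⟨82, 1, 1⟩] [])))) (cond (Nat.blt c 128) (cond (Nat.blt c 126) (cond (Nat.beq c 121) [⟨84, -1, 1⟩] []) (cond (Nat.beq c 126) [⟨94, -1, 1⟩] [])) (cond (Nat.blt c 129) (cond (Nat.beq c 128) [⟨96, 1, 1⟩] []) (cond (Nat.blt c 132) (cond (Nat.beq c 129) [⟨98, 1, 1⟩] []) (cond (Nat.beq c 132) [⟨123, -1, 1⟩] []))))))

/-- Compiled columns of `x_25` for type E7. -/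
def colsE7_25 (c : ℕ) : List CEnt :=
  cond (Nat.blt c 85) (cond (Nat.blt c 44) (cond (Nat.blt c 5) (cond (Nat.blt c 2) (cond (Nat.blt c 1) (cond (Nat.beq c 0) [⟨32, 1, 1⟩] []) (cond (Nat.beq c 1) [⟨32, 1, 1⟩] [])) (cond (Nat.blt c 3) (cond (Nat.beq c 2) [⟨32, 0, 1⟩] []) (cond (Nat.blt c 4) (cond (Nat.beq c 3) [⟨32, -1, 1⟩] []) (cond (Nat.beq c 4) [⟨32, 1, 1⟩] [])))) (cond (Nat.blt c 15) (cond (Nat.blt c 6) (cond (Nat.beq c 5) [⟨32, -1, 1⟩] []) (cond (Nat.beq c 6) [⟨32, 0, 1⟩] [])) (cond (Nat.blt c 40) (cond (Nat.beq c 15) [⟨7, -1, 1⟩] []) (cond (Nat.blt c 43) (cond (Nat.beq c 40) [⟨10, 1, 1⟩] []) (cond (Nat.beq c 43) [⟨12, -1, 1⟩] []))))) (cond (Nat.blt c 61) (cond (Nat.blt c 56) (cond (Nat.blt c 55) (cond (Nat.beq c 44) [⟨13, -1, 1⟩] []) (cond (Nat.beq c 55) [⟨19, 1, 1⟩] []))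 (cond (Nat.blt c 58) (cond (Nat.beq c 56) [⟨20, 1, 1⟩] []) (cond (Nat.blt c 60) (cond (Nat.beq c 58) [⟨23, -1, 1⟩] []) (cond (Nat.beq c 60) [⟨25, -1, 1⟩] [])))) (cond (Nat.blt c 67) (cond (Nat.blt c 63) (cond (Nat.beq c 61) [⟨26, -1, 1⟩] []) (cond (Nat.beq c 63) [⟨29, 1, 1⟩] [])) (cond (Nat.blt c 68) (cond (Nat.beq c 67) [⟨30, 1, 1⟩] []) (cond (Nat.blt c 73) (cond (Nat.beq c 68) [⟨31, 1, 1⟩] []) (cond (Nat.beq c 73) [⟨33, 1, 1⟩] [])))))) (cond (Nat.blt c 110) (cond (Nat.blt c 103) (cond (Nat.blt c 91) (cond (Nat.blt c 87) (cond (Nat.beq c 85) [⟨36, 1, 1⟩] []) (cond (Nat.beq c 87) [⟨38, -1, 1⟩] [])) (cond (Nat.blt c 100) (cond (Nat.beq c 91) [⟨39, 1, 1⟩] []) (cond (Nat.blt c 101) (cond (Nat.beq c 100) [⟨48, -1, 1⟩] []) (cond (Nat.beq c 101) [⟨52, 1, 1⟩] [])))) (cond (Nat.blt c 107)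 (cond (Nat.blt c 106) (cond (Nat.beq c 103) [⟨54, -1, 1⟩] []) (cond (Nat.beq c 106) [⟨66, -1, 1⟩] [])) (cond (Nat.blt c 108) (cond (Nat.beq c 107) [⟨32, -1, 2⟩, ⟨0, -1, 1⟩, ⟨1, -1, 1⟩, ⟨2, -1, 1⟩, ⟨3, -1, 1⟩, ⟨4, -1, 1⟩, ⟨5, 0, 1⟩, ⟨6, 0, 1⟩] []) (cond (Nat.blt c 109) (cond (Nat.beq c 108) [⟨71, -1, 1⟩] []) (cond (Nat.beq c 109) [⟨72, -1, 1⟩] []))))) (cond (Nat.blt c 120) (cond (Nat.blt c 114) (cond (Nat.blt c 113) (cond (Nat.beq c 110) [⟨76, -1, 1⟩] []) (cond (Nat.beq c 113) [⟨78, 1, 1⟩] [])) (cond (Nat.blt c 116) (cond (Nat.beq c 114) [⟨79, 1, 1⟩] []) (cond (Nat.blt c 119) (cond (Nat.beq c 116) [⟨81, 1, 1⟩] []) (cond (Nat.beq c 119) [⟨83, -1, 1⟩] [])))) (cond (Nat.blt c 127) (cond (Nat.blt c 126) (cond (Nat.beq c 120) [⟨84, -1, 1⟩] []) (cond (Nat.beq c 126) [⟨95, 1, 1⟩] [])) (cond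 (Nat.blt c 129) (cond (Nat.beq c 127) [⟨96, 1, 1⟩] []) (cond (Nat.blt c 132) (cond (Nat.beq c 129) [⟨99, -1, 1⟩] []) (cond (Nat.beq c 132) [⟨124, 1, 1⟩] []))))))

/-- Compiled columns of `x_26` for type E7. -/
def colsE7_26 (c : ℕ) : List CEnt :=
  cond (Nat.blt c 85) (cond (Nat.blt c 42) (cond (Nat.blt c 5) (cond (Nat.blt c 2) (cond (Nat.blt c 1) (cond (Nat.beq c 0) [⟨33, 1, 1⟩] []) (cond (Nat.beq c 1) [⟨33, 1, 1⟩] [])) (cond (Nat.blt c 3) (cond (Nat.beq c 2) [⟨33, 0, 1⟩] []) (cond (Nat.blt c 4) (cond (Nat.beq c 3) [⟨33, 0, 1⟩] []) (cond (Nat.beq c 4) [⟨33, -1, 1⟩] [])))) (cond (Nat.blt c 14) (cond (Nat.blt c 6) (cond (Nat.beq c 5) [⟨33, 0, 1⟩] []) (cond (Nat.beq c 6) [⟨33, 0, 1⟩] [])) (cond (Nat.blt c 40) (cond (Nat.beq c 14) [⟨7, 1, 1⟩] []) (cond (Nat.blt c 41) (cond (Nat.beq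 c 40) [⟨11, 1, 1⟩] []) (cond (Nat.beq c 41) [⟨12, 1, 1⟩] []))))) (cond (Nat.blt c 61) (cond (Nat.blt c 56) (cond (Nat.blt c 55) (cond (Nat.beq c 42) [⟨13, 1, 1⟩] []) (cond (Nat.beq c 55) [⟨21, 1, 1⟩] [])) (cond (Nat.blt c 57) (cond (Nat.beq c 56) [⟨22, 1, 1⟩] []) (cond (Nat.blt c 60) (cond (Nat.beq c 57) [⟨23, 1, 1⟩] []) (cond (Nat.beq c 60) [⟨27, -1, 1⟩] [])))) (cond (Nat.blt c 64) (cond (Nat.blt c 62) (cond (Nat.beq c 61) [⟨28, -1, 1⟩] []) (cond (Nat.beq c 62) [⟨29, -1, 1⟩] [])) (cond (Nat.blt c 65) (cond (Nat.beq c 64) [⟨30, 1, 1⟩] []) (cond (Nat.blt c 66) (cond (Nat.beq c 65) [⟨31, 1, 1⟩] []) (cond (Nat.beq c 66) [⟨32, 1, 1⟩] [])))))) (cond (Nat.blt c 110) (cond (Nat.blt c 102) (cond (Nat.blt c 90) (cond (Nat.blt c 86) (cond (Nat.beq c 85) [⟨37, 1, 1⟩] []) (cond (Nat.beq c 86)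 [⟨38, -1, 1⟩] [])) (cond (Nat.blt c 100) (cond (Nat.beq c 90) [⟨39, 1, 1⟩] []) (cond (Nat.blt c 101) (cond (Nat.beq c 100) [⟨49, -1, 1⟩] []) (cond (Nat.beq c 101) [⟨53, 1, 1⟩] [])))) (cond (Nat.blt c 107) (cond (Nat.blt c 106) (cond (Nat.beq c 102) [⟨54, -1, 1⟩] []) (cond (Nat.beq c 106) [⟨33, -1, 2⟩, ⟨0, -1, 1⟩, ⟨1, -1, 1⟩, ⟨2, -1, 1⟩, ⟨3, -1, 1⟩, ⟨4, 0, 1⟩, ⟨5, 0, 1⟩, ⟨6, 0, 1⟩] [])) (cond (Nat.blt c 108) (cond (Nat.beq c 107) [⟨73, -1, 1⟩] []) (cond (Nat.blt c 109) (cond (Nat.beq c 108) [⟨74, -1, 1⟩] []) (cond (Nat.beq c 109) [⟨75, -1, 1⟩] []))))) (cond (Nat.blt c 118) (cond (Nat.blt c 112) (cond (Nat.blt c 111) (cond (Nat.beq c 110) [⟨77, 1, 1⟩] []) (cond (Nat.beq c 111) [⟨78, 1, 1⟩] [])) (cond (Nat.blt c 116) (cond (Nat.beq c 112) [⟨79, 1, 1⟩] []) (cond (Nat.blt c 117) (cond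 (Nat.beq c 116) [⟨82, -1, 1⟩] []) (cond (Nat.beq c 117) [⟨83, -1, 1⟩] [])))) (cond (Nat.blt c 127) (cond (Nat.blt c 126) (cond (Nat.beq c 118) [⟨84, -1, 1⟩] []) (cond (Nat.beq c 126) [⟨97, -1, 1⟩] [])) (cond (Nat.blt c 128) (cond (Nat.beq c 127) [⟨98, -1, 1⟩] []) (cond (Nat.blt c 132) (cond (Nat.beq c 128) [⟨99, -1, 1⟩] []) (cond (Nat.beq c 132) [⟨125, -1, 1⟩] []))))))

/-- Compiled columns of `x_27` for type E7. -/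
def colsE7_27 (c : ℕ) : List CEnt :=
  cond (Nat.blt c 75) (cond (Nat.blt c 45) (cond (Nat.blt c 5) (cond (Nat.blt c 2) (cond (Nat.blt c 1) (cond (Nat.beq c 0) [⟨34, 1, 1⟩] []) (cond (Nat.beq c 1) [⟨34, -1, 1⟩] [])) (cond (Nat.blt c 3) (cond (Nat.beq c 2) [⟨34, 0, 1⟩] []) (cond (Nat.blt c 4) (cond (Nat.beq c 3) [⟨34, 0, 1⟩] []) (cond (Nat.beq c 4) [⟨34, 0, 1⟩] [])))) (cond (Nat.blt c 13) (cond (Nat.blt c 6) (cond (Nat.beq c 5) [⟨34, 0, 1⟩] []) (cond (Nat.beq c 6) [⟨34, 1, 1⟩] [])) (cond (Nat.blt c 42) (cond (Nat.beq c 13) [⟨7, 1, 1⟩] []) (cond (Nat.blt c 44) (cond (Nat.beq c 42) [⟨14, 1, 1⟩] []) (cond (Nat.beq c 44) [⟨15, 1, 1⟩] []))))) (cond (Nat.blt c 52) (cond (Nat.blt c 48) (cond (Nat.blt c 47) (cond (Nat.beq c 45) [⟨16, 1, 1⟩] []) (cond (Nat.beq c 47) [⟨18, 1, 1⟩] [])) (cond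 (Nat.blt c 49) (cond (Nat.beq c 48) [⟨19, 1, 1⟩] []) (cond (Nat.blt c 51) (cond (Nat.beq c 49) [⟨21, 1, 1⟩] []) (cond (Nat.beq c 51) [⟨24, 1, 1⟩] [])))) (cond (Nat.blt c 54) (cond (Nat.blt c 53) (cond (Nat.beq c 52) [⟨25, 1, 1⟩] []) (cond (Nat.beq c 53) [⟨27, 1, 1⟩] [])) (cond (Nat.blt c 70) (cond (Nat.beq c 54) [⟨30, 1, 1⟩] []) (cond (Nat.blt c 72) (cond (Nat.beq c 70) [⟨35, 1, 1⟩] []) (cond (Nat.beq c 72) [⟨36, 1, 1⟩] [])))))) (cond (Nat.blt c 112) (cond (Nat.blt c 102) (cond (Nat.blt c 84) (cond (Nat.blt c 79) (cond (Nat.beq c 75) [⟨37, 1, 1⟩] []) (cond (Nat.beq c 79) [⟨38, 1, 1⟩] [])) (cond (Nat.blt c 100) (cond (Nat.beq c 84) [⟨39, 1, 1⟩] []) (cond (Nat.blt c 101) (cond (Nat.beq c 100) [⟨55, -1, 1⟩] []) (cond (Nat.beq c 101) [⟨60, -1, 1⟩] [])))) (cond (Nat.blt c 104) (cond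 (Nat.blt c 103) (cond (Nat.beq c 102) [⟨64, -1, 1⟩] []) (cond (Nat.beq c 103) [⟨67, -1, 1⟩] [])) (cond (Nat.blt c 105) (cond (Nat.beq c 104) [⟨69, -1, 1⟩] []) (cond (Nat.blt c 109) (cond (Nat.beq c 105) [⟨34, -1, 2⟩, ⟨0, -1, 1⟩, ⟨1, 0, 1⟩, ⟨2, -1, 1⟩, ⟨3, -1, 1⟩, ⟨4, -1, 1⟩, ⟨5, -1, 1⟩, ⟨6, -1, 1⟩] []) (cond (Nat.beq c 109) [⟨85, -1, 1⟩] []))))) (cond (Nat.blt c 121) (cond (Nat.blt c 115) (cond (Nat.blt c 114) (cond (Nat.beq c 112) [⟨86, -1, 1⟩] []) (cond (Nat.beq c 114) [⟨87, -1, 1⟩] [])) (cond (Nat.blt c 118) (cond (Nat.beq c 115) [⟨88, -1, 1⟩] []) (cond (Nat.blt c 120) (cond (Nat.beq c 118) [⟨90, -1, 1⟩] []) (cond (Nat.beq c 120) [⟨91, -1, 1⟩] [])))) (cond (Nat.blt c 124) (cond (Nat.blt c 123) (cond (Nat.beq c 121) [⟨92, -1, 1⟩] []) (cond (Nat.beq c 123) [⟨94, -1, 1⟩] [])) (cond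 (Nat.blt c 125) (cond (Nat.beq c 124) [⟨95, -1, 1⟩] []) (cond (Nat.blt c 132) (cond (Nat.beq c 125) [⟨97, -1, 1⟩] []) (cond (Nat.beq c 132) [⟨126, -1, 1⟩] []))))))

/-- Compiled columns of `x_28` for type E7. -/
def colsE7_28 (c : ℕ) : List CEnt :=
  cond (Nat.blt c 74) (cond (Nat.blt c 45) (cond (Nat.blt c 5) (cond (Nat.blt c 2) (cond (Nat.blt c 1) (cond (Nat.beq c 0) [⟨35, 1, 1⟩] []) (cond (Nat.beq c 1) [⟨35, -1, 1⟩] [])) (cond (Nat.blt c 3) (cond (Nat.beq c 2) [⟨35, 0, 1⟩] []) (cond (Nat.blt c 4) (cond (Nat.beq c 3) [⟨35, 0, 1⟩] []) (cond (Nat.beq c 4) [⟨35, 0, 1⟩] [])))) (cond (Nat.blt c 12) (cond (Nat.blt c 6) (cond (Nat.beq c 5) [⟨35, 1, 1⟩] []) (cond (Nat.beq c 6) [⟨35, -1, 1⟩] [])) (cond (Nat.blt c 41) (cond (Nat.beq c 12) [⟨7, -1, 1⟩] []) (cond (Nat.blt c 43) (cond (Nat.beq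 c 41) [⟨14, -1, 1⟩] []) (cond (Nat.beq c 43) [⟨15, -1, 1⟩] []))))) (cond (Nat.blt c 52) (cond (Nat.blt c 48) (cond (Nat.blt c 46) (cond (Nat.beq c 45) [⟨17, 1, 1⟩] []) (cond (Nat.beq c 46) [⟨18, -1, 1⟩] [])) (cond (Nat.blt c 49) (cond (Nat.beq c 48) [⟨20, 1, 1⟩] []) (cond (Nat.blt c 50) (cond (Nat.beq c 49) [⟨22, 1, 1⟩] []) (cond (Nat.beq c 50) [⟨24, -1, 1⟩] [])))) (cond (Nat.blt c 54) (cond (Nat.blt c 53) (cond (Nat.beq c 52) [⟨26, 1, 1⟩] []) (cond (Nat.beq c 53) [⟨28, 1, 1⟩] [])) (cond (Nat.blt c 69) (cond (Nat.beq c 54) [⟨31, 1, 1⟩] []) (cond (Nat.blt c 71) (cond (Nat.beq c 69) [⟨34, 1, 1⟩] []) (cond (Nat.beq c 71) [⟨36, 1, 1⟩] [])))))) (cond (Nat.blt c 111) (cond (Nat.blt c 102) (cond (Nat.blt c 83) (cond (Nat.blt c 78) (cond (Nat.beq c 74) [⟨37, 1, 1⟩] []) (cond (Nat.beq c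 78) [⟨38, 1, 1⟩] [])) (cond (Nat.blt c 100) (cond (Nat.beq c 83) [⟨39, 1, 1⟩] []) (cond (Nat.blt c 101) (cond (Nat.beq c 100) [⟨56, -1, 1⟩] []) (cond (Nat.beq c 101) [⟨61, -1, 1⟩] [])))) (cond (Nat.blt c 104) (cond (Nat.blt c 103) (cond (Nat.beq c 102) [⟨65, -1, 1⟩] []) (cond (Nat.beq c 103) [⟨68, -1, 1⟩] [])) (cond (Nat.blt c 105) (cond (Nat.beq c 104) [⟨35, -1, 2⟩, ⟨0, -1, 1⟩, ⟨1, 0, 1⟩, ⟨2, -1, 1⟩, ⟨3, -1, 1⟩, ⟨4, -1, 1⟩, ⟨5, -1, 1⟩, ⟨6, 0, 1⟩] []) (cond (Nat.blt c 108) (cond (Nat.beq c 105) [⟨70, -1, 1⟩] []) (cond (Nat.beq c 108) [⟨85, -1, 1⟩] []))))) (cond (Nat.blt c 121) (cond (Nat.blt c 115) (cond (Nat.blt c 113) (cond (Nat.beq c 111) [⟨86, -1, 1⟩] []) (cond (Nat.beq c 113) [⟨87, -1, 1⟩] [])) (cond (Nat.blt c 117) (cond (Nat.beq c 115) [⟨89, 1, 1⟩] []) (cond (Nat.blt c 119)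 (cond (Nat.beq c 117) [⟨90, -1, 1⟩] []) (cond (Nat.beq c 119) [⟨91, -1, 1⟩] [])))) (cond (Nat.blt c 124) (cond (Nat.blt c 122) (cond (Nat.beq c 121) [⟨93, 1, 1⟩] []) (cond (Nat.beq c 122) [⟨94, -1, 1⟩] [])) (cond (Nat.blt c 125) (cond (Nat.beq c 124) [⟨96, 1, 1⟩] []) (cond (Nat.blt c 132) (cond (Nat.beq c 125) [⟨98, 1, 1⟩] []) (cond (Nat.beq c 132) [⟨127, 1, 1⟩] []))))))

/-- Compiled columns of `x_29` for type E7. -/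
def colsE7_29 (c : ℕ) : List CEnt :=
  cond (Nat.blt c 73) (cond (Nat.blt c 44) (cond (Nat.blt c 5) (cond (Nat.blt c 2) (cond (Nat.blt c 1) (cond (Nat.beq c 0) [⟨36, 1, 1⟩] []) (cond (Nat.beq c 1) [⟨36, -1, 1⟩] [])) (cond (Nat.blt c 3) (cond (Nat.beq c 2) [⟨36, 0, 1⟩] []) (cond (Nat.blt c 4) (cond (Nat.beq c 3) [⟨36, 0, 1⟩] []) (cond (Nat.beq c 4) [⟨36, 1, 1⟩] [])))) (cond (Nat.blt c 11) (cond (Nat.blt c 6) (cond (Nat.beq c 5) [⟨36, -1, 1⟩] []) (cond (Nat.beq c 6) [⟨36, 0, 1⟩] [])) (cond (Nat.blt c 40) (cond (Nat.beq c 11) [⟨7, 1, 1⟩] []) (cond (Nat.blt c 43) (cond (Nat.beq c 40) [⟨14, 1, 1⟩] []) (cond (Nat.beq c 43) [⟨16, -1, 1⟩] []))))) (cond (Nat.blt c 51) (cond (Nat.blt c 47) (cond (Nat.blt c 46) (cond (Nat.beq c 44) [⟨17, -1, 1⟩] []) (cond (Nat.beq c 46) [⟨19, -1, 1⟩] []))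 (cond (Nat.blt c 49) (cond (Nat.beq c 47) [⟨20, -1, 1⟩] []) (cond (Nat.blt c 50) (cond (Nat.beq c 49) [⟨23, 1, 1⟩] []) (cond (Nat.beq c 50) [⟨25, -1, 1⟩] [])))) (cond (Nat.blt c 54) (cond (Nat.blt c 53) (cond (Nat.beq c 51) [⟨26, -1, 1⟩] []) (cond (Nat.beq c 53) [⟨29, 1, 1⟩] [])) (cond (Nat.blt c 67) (cond (Nat.beq c 54) [⟨32, 1, 1⟩] []) (cond (Nat.blt c 68) (cond (Nat.beq c 67) [⟨34, 1, 1⟩] []) (cond (Nat.beq c 68) [⟨35, 1, 1⟩] [])))))) (cond (Nat.blt c 110) (cond (Nat.blt c 102) (cond (Nat.blt c 82) (cond (Nat.blt c 77) (cond (Nat.beq c 73) [⟨37, 1, 1⟩] []) (cond (Nat.beq c 77) [⟨38, 1, 1⟩] [])) (cond (Nat.blt c 100) (cond (Nat.beq c 82) [⟨39, 1, 1⟩] []) (cond (Nat.blt c 101) (cond (Nat.beq c 100) [⟨57, -1, 1⟩] []) (cond (Nat.beq c 101) [⟨62, -1, 1⟩] [])))) (cond (Nat.blt c 104)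 (cond (Nat.blt c 103) (cond (Nat.beq c 102) [⟨66, -1, 1⟩] []) (cond (Nat.beq c 103) [⟨36, -1, 2⟩, ⟨0, -1, 1⟩, ⟨1, 0, 1⟩, ⟨2, -1, 1⟩, ⟨3, -1, 1⟩, ⟨4, -1, 1⟩, ⟨5, 0, 1⟩, ⟨6, 0, 1⟩] [])) (cond (Nat.blt c 105) (cond (Nat.beq c 104) [⟨71, -1, 1⟩] []) (cond (Nat.blt c 107) (cond (Nat.beq c 105) [⟨72, -1, 1⟩] []) (cond (Nat.beq c 107) [⟨85, -1, 1⟩] []))))) (cond (Nat.blt c 120) (cond (Nat.blt c 114) (cond (Nat.blt c 113) (cond (Nat.beq c 110) [⟨86, -1, 1⟩] []) (cond (Nat.beq c 113) [⟨88, 1, 1⟩] [])) (cond (Nat.blt c 116) (cond (Nat.beq c 114) [⟨89, 1, 1⟩] []) (cond (Nat.blt c 119) (cond (Nat.beq c 116) [⟨90, -1, 1⟩] []) (cond (Nat.beq c 119) [⟨92, 1, 1⟩] [])))) (cond (Nat.blt c 123) (cond (Nat.blt c 122) (cond (Nat.beq c 120) [⟨93, 1, 1⟩] []) (cond (Nat.beq c 122) [⟨95, 1, 1⟩] [])) (cond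 (Nat.blt c 125) (cond (Nat.beq c 123) [⟨96, 1, 1⟩] []) (cond (Nat.blt c 132) (cond (Nat.beq c 125) [⟨99, -1, 1⟩] []) (cond (Nat.beq c 132) [⟨128, -1, 1⟩] []))))))

/-- Compiled columns of `x_30` for type E7. -/
def colsE7_30 (c : ℕ) : List CEnt :=
  cond (Nat.blt c 66) (cond (Nat.blt c 42) (cond (Nat.blt c 5) (cond (Nat.blt c 2) (cond (Nat.blt c 1) (cond (Nat.beq c 0) [⟨37, 1, 1⟩] []) (cond (Nat.beq c 1) [⟨37, -1, 1⟩] [])) (cond (Nat.blt c 3) (cond (Nat.beq c 2) [⟨37, 0, 1⟩] []) (cond (Nat.blt c 4) (cond (Nat.beq c 3) [⟨37, 1, 1⟩] []) (cond (Nat.beq c 4) [⟨37, -1, 1⟩] [])))) (cond (Nat.blt c 10) (cond (Nat.blt c 6) (cond (Nat.beq c 5) [⟨37, 0, 1⟩] []) (cond (Nat.beq c 6) [⟨37, 0, 1⟩] [])) (cond (Nat.blt c 40) (cond (Nat.beq c 10) [⟨7, -1, 1⟩] []) (cond (Nat.blt c 41) (cond (Nat.beq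 c 40) [⟨15, 1, 1⟩] []) (cond (Nat.beq c 41) [⟨16, 1, 1⟩] []))))) (cond (Nat.blt c 51) (cond (Nat.blt c 47) (cond (Nat.blt c 46) (cond (Nat.beq c 42) [⟨17, 1, 1⟩] []) (cond (Nat.beq c 46) [⟨21, -1, 1⟩] [])) (cond (Nat.blt c 48) (cond (Nat.beq c 47) [⟨22, -1, 1⟩] []) (cond (Nat.blt c 50) (cond (Nat.beq c 48) [⟨23, -1, 1⟩] []) (cond (Nat.beq c 50) [⟨27, -1, 1⟩] [])))) (cond (Nat.blt c 54) (cond (Nat.blt c 52) (cond (Nat.beq c 51) [⟨28, -1, 1⟩] []) (cond (Nat.beq c 52) [⟨29, -1, 1⟩] [])) (cond (Nat.blt c 64) (cond (Nat.beq c 54) [⟨33, 1, 1⟩] []) (cond (Nat.blt c 65) (cond (Nat.beq c 64) [⟨34, 1, 1⟩] []) (cond (Nat.beq c 65) [⟨35, 1, 1⟩] [])))))) (cond (Nat.blt c 110) (cond (Nat.blt c 102) (cond (Nat.blt c 81) (cond (Nat.blt c 76) (cond (Nat.beq c 66) [⟨36, 1, 1⟩] []) (cond (Nat.beq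 c 76) [⟨38, 1, 1⟩] [])) (cond (Nat.blt c 100) (cond (Nat.beq c 81) [⟨39, 1, 1⟩] []) (cond (Nat.blt c 101) (cond (Nat.beq c 100) [⟨58, -1, 1⟩] []) (cond (Nat.beq c 101) [⟨63, -1, 1⟩] [])))) (cond (Nat.blt c 104) (cond (Nat.blt c 103) (cond (Nat.beq c 102) [⟨37, -1, 2⟩, ⟨0, -1, 1⟩, ⟨1, 0, 1⟩, ⟨2, -1, 1⟩, ⟨3, -1, 1⟩, ⟨4, 0, 1⟩, ⟨5, 0, 1⟩, ⟨6, 0, 1⟩] []) (cond (Nat.beq c 103) [⟨73, -1, 1⟩] [])) (cond (Nat.blt c 105) (cond (Nat.beq c 104) [⟨74, -1, 1⟩] []) (cond (Nat.blt c 106) (cond (Nat.beq c 105) [⟨75, -1, 1⟩] []) (cond (Nat.beq c 106) [⟨85, -1, 1⟩] []))))) (cond (Nat.blt c 118) (cond (Nat.blt c 112) (cond (Nat.blt c 111) (cond (Nat.beq c 110) [⟨87, 1, 1⟩] []) (cond (Nat.beq c 111) [⟨88, 1, 1⟩] [])) (cond (Nat.blt c 116) (cond (Nat.beq c 112) [⟨89, 1, 1⟩] []) (cond (Nat.blt c 117)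 (cond (Nat.beq c 116) [⟨91, 1, 1⟩] []) (cond (Nat.beq c 117) [⟨92, 1, 1⟩] [])))) (cond (Nat.blt c 123) (cond (Nat.blt c 122) (cond (Nat.beq c 118) [⟨93, 1, 1⟩] []) (cond (Nat.beq c 122) [⟨97, -1, 1⟩] [])) (cond (Nat.blt c 124) (cond (Nat.beq c 123) [⟨98, -1, 1⟩] []) (cond (Nat.blt c 132) (cond (Nat.beq c 124) [⟨99, -1, 1⟩] []) (cond (Nat.beq c 132) [⟨129, 1, 1⟩] []))))))

/-- Compiled columns of `x_31` for type E7. -/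
def colsE7_31 (c : ℕ) : List CEnt :=
  cond (Nat.blt c 62) (cond (Nat.blt c 42) (cond (Nat.blt c 5) (cond (Nat.blt c 2) (cond (Nat.blt c 1) (cond (Nat.beq c 0) [⟨38, 1, 1⟩] []) (cond (Nat.beq c 1) [⟨38, 0, 1⟩] [])) (cond (Nat.blt c 3) (cond (Nat.beq c 2) [⟨38, 1, 1⟩] []) (cond (Nat.blt c 4) (cond (Nat.beq c 3) [⟨38, -1, 1⟩] []) (cond (Nat.beq c 4) [⟨38, 0, 1⟩] [])))) (cond (Nat.blt c 9) (cond (Nat.blt c 6) (cond (Nat.beq c 5) [⟨38, 0, 1⟩] []) (cond (Nat.beq c 6) [⟨38, 0, 1⟩] [])) (cond (Nat.blt c 40) (cond (Nat.beq c 9) [⟨7, 1, 1⟩] []) (cond (Nat.blt c 41) (cond (Nat.beq c 40) [⟨18, 1, 1⟩] []) (cond (Nat.beq c 41) [⟨19, 1, 1⟩] []))))) (cond (Nat.blt c 51) (cond (Nat.blt c 44) (cond (Nat.blt c 43) (cond (Nat.beq c 42) [⟨20, 1, 1⟩] []) (cond (Nat.beq c 43) [⟨21, 1, 1⟩] [])) (cond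 (Nat.blt c 45) (cond (Nat.beq c 44) [⟨22, 1, 1⟩] []) (cond (Nat.blt c 50) (cond (Nat.beq c 45) [⟨23, 1, 1⟩] []) (cond (Nat.beq c 50) [⟨30, -1, 1⟩] [])))) (cond (Nat.blt c 53) (cond (Nat.blt c 52) (cond (Nat.beq c 51) [⟨31, -1, 1⟩] []) (cond (Nat.beq c 52) [⟨32, -1, 1⟩] [])) (cond (Nat.blt c 60) (cond (Nat.beq c 53) [⟨33, -1, 1⟩] []) (cond (Nat.blt c 61) (cond (Nat.beq c 60) [⟨34, 1, 1⟩] []) (cond (Nat.beq c 61) [⟨35, 1, 1⟩] [])))))) (cond (Nat.blt c 107) (cond (Nat.blt c 102) (cond (Nat.blt c 80) (cond (Nat.blt c 63) (cond (Nat.beq c 62) [⟨36, 1, 1⟩] []) (cond (Nat.beq c 63) [⟨37, 1, 1⟩] [])) (cond (Nat.blt c 100) (cond (Nat.beq c 80) [⟨39, 1, 1⟩] []) (cond (Nat.blt c 101) (cond (Nat.beq c 100) [⟨59, -1, 1⟩] []) (cond (Nat.beq c 101) [⟨38, -1, 2⟩, ⟨0, -1, 1⟩, ⟨1, 0, 1⟩, ⟨2, -1,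 1⟩, ⟨3, 0, 1⟩, ⟨4, 0, 1⟩, ⟨5, 0, 1⟩, ⟨6, 0, 1⟩] [])))) (cond (Nat.blt c 104) (cond (Nat.blt c 103) (cond (Nat.beq c 102) [⟨76, -1, 1⟩] []) (cond (Nat.beq c 103) [⟨77, -1, 1⟩] [])) (cond (Nat.blt c 105) (cond (Nat.beq c 104) [⟨78, -1, 1⟩] []) (cond (Nat.blt c 106) (cond (Nat.beq c 105) [⟨79, -1, 1⟩] []) (cond (Nat.beq c 106) [⟨86, 1, 1⟩] []))))) (cond (Nat.blt c 118) (cond (Nat.blt c 109) (cond (Nat.blt c 108) (cond (Nat.beq c 107) [⟨87, 1, 1⟩] []) (cond (Nat.beq c 108) [⟨88, 1, 1⟩] [])) (cond (Nat.blt c 116) (cond (Nat.beq c 109) [⟨89, 1, 1⟩] []) (cond (Nat.blt c 117) (cond (Nat.beq c 116) [⟨94, -1, 1⟩] []) (cond (Nat.beq c 117) [⟨95, -1, 1⟩] [])))) (cond (Nat.blt c 120) (cond (Nat.blt c 119) (cond (Nat.beq c 118) [⟨96, -1, 1⟩] []) (cond (Nat.beq c 119) [⟨97, -1, 1⟩] [])) (cond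 (Nat.blt c 121) (cond (Nat.beq c 120) [⟨98, -1, 1⟩] []) (cond (Nat.blt c 132) (cond (Nat.beq c 121) [⟨99, -1, 1⟩] []) (cond (Nat.beq c 132) [⟨130, -1, 1⟩] []))))))

/-- Compiled columns of `x_32` for type E7. -/
def colsE7_32 (c : ℕ) : List CEnt :=
  cond (Nat.blt c 57) (cond (Nat.blt c 42) (cond (Nat.blt c 5) (cond (Nat.blt c 2) (cond (Nat.blt c 1) (cond (Nat.beq c 0) [⟨39, 2, 1⟩] []) (cond (Nat.beq c 1) [⟨39, 0, 1⟩] [])) (cond (Nat.blt c 3) (cond (Nat.beq c 2) [⟨39, -1, 1⟩] []) (cond (Nat.blt c 4) (cond (Nat.beq c 3) [⟨39, 0, 1⟩] []) (cond (Nat.beq c 4) [⟨39, 0, 1⟩] [])))) (cond (Nat.blt c 8) (cond (Nat.blt c 6) (cond (Nat.beq c 5) [⟨39, 0, 1⟩] []) (cond (Nat.beq c 6) [⟨39, 0, 1⟩] [])) (cond (Nat.blt c 40) (cond (Nat.beq c 8) [⟨7, -1, 1⟩] []) (cond (Nat.blt c 41) (cond (Nat.beq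 c 40) [⟨24, 1, 1⟩] []) (cond (Nat.beq c 41) [⟨25, 1, 1⟩] []))))) (cond (Nat.blt c 47) (cond (Nat.blt c 44) (cond (Nat.blt c 43) (cond (Nat.beq c 42) [⟨26, 1, 1⟩] []) (cond (Nat.beq c 43) [⟨27, 1, 1⟩] [])) (cond (Nat.blt c 45) (cond (Nat.beq c 44) [⟨28, 1, 1⟩] []) (cond (Nat.blt c 46) (cond (Nat.beq c 45) [⟨29, 1, 1⟩] []) (cond (Nat.beq c 46) [⟨30, 1, 1⟩] [])))) (cond (Nat.blt c 49) (cond (Nat.blt c 48) (cond (Nat.beq c 47) [⟨31, 1, 1⟩] []) (cond (Nat.beq c 48) [⟨32, 1, 1⟩] [])) (cond (Nat.blt c 55) (cond (Nat.beq c 49) [⟨33, 1, 1⟩] []) (cond (Nat.blt c 56) (cond (Nat.beq c 55) [⟨34, 1, 1⟩] []) (cond (Nat.beq c 56) [⟨35, 1, 1⟩] [])))))) (cond (Nat.blt c 107) (cond (Nat.blt c 102) (cond (Nat.blt c 59) (cond (Nat.blt c 58) (cond (Nat.beq c 57) [⟨36, 1, 1⟩] []) (cond (Nat.beq c 58)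 [⟨37, 1, 1⟩] [])) (cond (Nat.blt c 100) (cond (Nat.beq c 59) [⟨38, 1, 1⟩] []) (cond (Nat.blt c 101) (cond (Nat.beq c 100) [⟨39, -1, 2⟩, ⟨0, -1, 1⟩, ⟨1, 0, 1⟩, ⟨2, 0, 1⟩, ⟨3, 0, 1⟩, ⟨4, 0, 1⟩, ⟨5, 0, 1⟩, ⟨6, 0, 1⟩] []) (cond (Nat.beq c 101) [⟨80, -1, 1⟩] [])))) (cond (Nat.blt c 104) (cond (Nat.blt c 103) (cond (Nat.beq c 102) [⟨81, -1, 1⟩] []) (cond (Nat.beq c 103) [⟨82, -1, 1⟩] [])) (cond (Nat.blt c 105) (cond (Nat.beq c 104) [⟨83, -1, 1⟩] []) (cond (Nat.blt c 106) (cond (Nat.beq c 105) [⟨84, -1, 1⟩] []) (cond (Nat.beq c 106) [⟨90, -1, 1⟩] []))))) (cond (Nat.blt c 112) (cond (Nat.blt c 109) (cond (Nat.blt c 108) (cond (Nat.beq c 107) [⟨91, -1, 1⟩] []) (cond (Nat.beq c 108) [⟨92, -1, 1⟩] [])) (cond (Nat.blt c 110) (cond (Nat.beq c 109) [⟨93, -1, 1⟩] []) (cond (Nat.blt c 111) (cond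 (Nat.beq c 110) [⟨94, -1, 1⟩] []) (cond (Nat.beq c 111) [⟨95, -1, 1⟩] [])))) (cond (Nat.blt c 114) (cond (Nat.blt c 113) (cond (Nat.beq c 112) [⟨96, -1, 1⟩] []) (cond (Nat.beq c 113) [⟨97, -1, 1⟩] [])) (cond (Nat.blt c 115) (cond (Nat.beq c 114) [⟨98, -1, 1⟩] []) (cond (Nat.blt c 132) (cond (Nat.beq c 115) [⟨99, -1, 1⟩] []) (cond (Nat.beq c 132) [⟨131, 1, 1⟩] []))))))

/-- Compiled columns of `x_33` for type E7. -/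
def colsE7_33 (c : ℕ) : List CEnt :=
  cond (Nat.blt c 79) (cond (Nat.blt c 33) (cond (Nat.blt c 5) (cond (Nat.blt c 2) (cond (Nat.blt c 1) (cond (Nat.beq c 0) [⟨40, -1, 1⟩] []) (cond (Nat.beq c 1) [⟨40, 0, 1⟩] [])) (cond (Nat.blt c 3) (cond (Nat.beq c 2) [⟨40, 0, 1⟩] []) (cond (Nat.blt c 4) (cond (Nat.beq c 3) [⟨40, 0, 1⟩] []) (cond (Nat.beq c 4) [⟨40, 0, 1⟩] [])))) (cond (Nat.blt c 23) (cond (Nat.blt c 6) (cond (Nat.beq c 5) [⟨40, 1, 1⟩] []) (cond (Nat.beq c 6) [⟨40, 0, 1⟩] [])) (cond (Nat.blt c 29) (cond (Nat.beq c 23) [⟨8, -1, 1⟩] []) (cond (Nat.blt c 32) (cond (Nat.beq c 29) [⟨9, -1, 1⟩] []) (cond (Nat.beq c 32) [⟨10, -1, 1⟩] []))))) (cond (Nat.blt c 71) (cond (Nat.blt c 37) (cond (Nat.blt c 36) (cond (Nat.beq c 33) [⟨11, -1, 1⟩] []) (cond (Nat.beq c 36) [⟨14, -1, 1⟩] []))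 (cond (Nat.blt c 38) (cond (Nat.beq c 37) [⟨15, -1, 1⟩] []) (cond (Nat.blt c 39) (cond (Nat.beq c 38) [⟨18, -1, 1⟩] []) (cond (Nat.beq c 39) [⟨24, -1, 1⟩] [])))) (cond (Nat.blt c 74) (cond (Nat.blt c 72) (cond (Nat.beq c 71) [⟨41, 1, 1⟩] []) (cond (Nat.beq c 72) [⟨42, -1, 1⟩] [])) (cond (Nat.blt c 75) (cond (Nat.beq c 74) [⟨43, 1, 1⟩] []) (cond (Nat.blt c 78) (cond (Nat.beq c 75) [⟨44, -1, 1⟩] []) (cond (Nat.beq c 78) [⟨46, 1, 1⟩] [])))))) (cond (Nat.blt c 98) (cond (Nat.blt c 92) (cond (Nat.blt c 84) (cond (Nat.blt c 83) (cond (Nat.beq c 79) [⟨47, -1, 1⟩] []) (cond (Nat.beq c 83) [⟨50, 1, 1⟩] [])) (cond (Nat.blt c 88) (cond (Nat.beq c 84) [⟨51, -1, 1⟩] []) (cond (Nat.blt c 89) (cond (Nat.beq c 88) [⟨55, 1, 1⟩] []) (cond (Nat.beq c 89) [⟨56, -1, 1⟩] [])))) (cond (Nat.blt c 95) (cond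 (Nat.blt c 93) (cond (Nat.beq c 92) [⟨60, 1, 1⟩] []) (cond (Nat.beq c 93) [⟨61, -1, 1⟩] [])) (cond (Nat.blt c 96) (cond (Nat.beq c 95) [⟨64, 1, 1⟩] []) (cond (Nat.blt c 97) (cond (Nat.beq c 96) [⟨65, -1, 1⟩] []) (cond (Nat.beq c 97) [⟨67, 1, 1⟩] []))))) (cond (Nat.blt c 125) (cond (Nat.blt c 115) (cond (Nat.blt c 99) (cond (Nat.beq c 98) [⟨68, -1, 1⟩] []) (cond (Nat.beq c 99) [⟨40, -1, 2⟩, ⟨0, 0, 1⟩, ⟨1, -1, 1⟩, ⟨2, -1, 1⟩, ⟨3, -2, 1⟩, ⟨4, -2, 1⟩, ⟨5, -2, 1⟩, ⟨6, -1, 1⟩] [])) (cond (Nat.blt c 121) (cond (Nat.beq c 115) [⟨100, 1, 1⟩] []) (cond (Nat.blt c 124) (cond (Nat.beq c 121) [⟨101, 1, 1⟩] []) (cond (Nat.beq c 124) [⟨102, 1, 1⟩] [])))) (cond (Nat.blt c 129) (cond (Nat.blt c 128) (cond (Nat.beq c 125) [⟨103, 1, 1⟩] []) (cond (Nat.beq c 128) [⟨106, 1, 1⟩] [])) (cond (Nat.blt c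 130) (cond (Nat.beq c 129) [⟨107, 1, 1⟩] []) (cond (Nat.blt c 131) (cond (Nat.beq c 130) [⟨110, 1, 1⟩] []) (cond (Nat.beq c 131) [⟨116, 1, 1⟩] []))))))

/-- Compiled columns of `x_34` for type E7. -/
def colsE7_34 (c : ℕ) : List CEnt :=
  cond (Nat.blt c 79) (cond (Nat.blt c 33) (cond (Nat.blt c 5) (cond (Nat.blt c 2) (cond (Nat.blt c 1) (cond (Nat.beq c 0) [⟨41, -1, 1⟩] []) (cond (Nat.beq c 1) [⟨41, 0, 1⟩] [])) (cond (Nat.blt c 3) (cond (Nat.beq c 2) [⟨41, 0, 1⟩] []) (cond (Nat.blt c 4) (cond (Nat.beq c 3) [⟨41, 0, 1⟩] []) (cond (Nat.beq c 4) [⟨41, 1, 1⟩] [])))) (cond (Nat.blt c 22) (cond (Nat.blt c 6) (cond (Nat.beq c 5) [⟨41, -1, 1⟩] []) (cond (Nat.beq c 6) [⟨41, 1, 1⟩] [])) (cond (Nat.blt c 28) (cond (Nat.beq c 22) [⟨8, 1, 1⟩] []) (cond (Nat.blt c 31) (cond (Nat.beq c 28) [⟨9,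 1, 1⟩] []) (cond (Nat.beq c 31) [⟨10, 1, 1⟩] []))))) (cond (Nat.blt c 68) (cond (Nat.blt c 37) (cond (Nat.blt c 35) (cond (Nat.beq c 33) [⟨12, -1, 1⟩] []) (cond (Nat.beq c 35) [⟨14, 1, 1⟩] [])) (cond (Nat.blt c 38) (cond (Nat.beq c 37) [⟨16, -1, 1⟩] []) (cond (Nat.blt c 39) (cond (Nat.beq c 38) [⟨19, -1, 1⟩] []) (cond (Nat.beq c 39) [⟨25, -1, 1⟩] [])))) (cond (Nat.blt c 73) (cond (Nat.blt c 70) (cond (Nat.beq c 68) [⟨40, 1, 1⟩] []) (cond (Nat.beq c 70) [⟨42, 1, 1⟩] [])) (cond (Nat.blt c 75) (cond (Nat.beq c 73) [⟨43, 1, 1⟩] []) (cond (Nat.blt c 77) (cond (Nat.beq c 75) [⟨45, -1, 1⟩] []) (cond (Nat.beq c 77) [⟨46, 1, 1⟩] [])))))) (cond (Nat.blt c 98) (cond (Nat.blt c 91) (cond (Nat.blt c 84) (cond (Nat.blt c 82) (cond (Nat.beq c 79) [⟨48, -1, 1⟩] []) (cond (Nat.beq c 82) [⟨50, 1,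 1⟩] [])) (cond (Nat.blt c 87) (cond (Nat.beq c 84) [⟨52, -1, 1⟩] []) (cond (Nat.blt c 89) (cond (Nat.beq c 87) [⟨55, 1, 1⟩] []) (cond (Nat.beq c 89) [⟨57, -1, 1⟩] [])))) (cond (Nat.blt c 94) (cond (Nat.blt c 93) (cond (Nat.beq c 91) [⟨60, 1, 1⟩] []) (cond (Nat.beq c 93) [⟨62, -1, 1⟩] [])) (cond (Nat.blt c 96) (cond (Nat.beq c 94) [⟨64, 1, 1⟩] []) (cond (Nat.blt c 97) (cond (Nat.beq c 96) [⟨66, -1, 1⟩] []) (cond (Nat.beq c 97) [⟨69, -1, 1⟩] []))))) (cond (Nat.blt c 125) (cond (Nat.blt c 114) (cond (Nat.blt c 99) (cond (Nat.beq c 98) [⟨41, -1, 2⟩, ⟨0, 0, 1⟩, ⟨1, -1, 1⟩, ⟨2, -1, 1⟩, ⟨3, -2, 1⟩, ⟨4, -2, 1⟩, ⟨5, -1, 1⟩, ⟨6, -1, 1⟩] []) (cond (Nat.beq c 99) [⟨71, -1, 1⟩] [])) (cond (Nat.blt c 120) (cond (Nat.beq c 114) [⟨100, 1, 1⟩] []) (cond (Nat.blt c 123) (cond (Nat.beq c 120) [⟨101,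 1, 1⟩] []) (cond (Nat.beq c 123) [⟨102, 1, 1⟩] [])))) (cond (Nat.blt c 129) (cond (Nat.blt c 127) (cond (Nat.beq c 125) [⟨104, -1, 1⟩] []) (cond (Nat.beq c 127) [⟨106, 1, 1⟩] [])) (cond (Nat.blt c 130) (cond (Nat.beq c 129) [⟨108, -1, 1⟩] []) (cond (Nat.blt c 131) (cond (Nat.beq c 130) [⟨111, -1, 1⟩] []) (cond (Nat.beq c 131) [⟨117, -1, 1⟩] []))))))

/-- Compiled columns of `x_35` for type E7. -/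
def colsE7_35 (c : ℕ) : List CEnt :=
  cond (Nat.blt c 78) (cond (Nat.blt c 33) (cond (Nat.blt c 5) (cond (Nat.blt c 2) (cond (Nat.blt c 1) (cond (Nat.beq c 0) [⟨42, -1, 1⟩] []) (cond (Nat.beq c 1) [⟨42, 0, 1⟩] [])) (cond (Nat.blt c 3) (cond (Nat.beq c 2) [⟨42, 0, 1⟩] []) (cond (Nat.blt c 4) (cond (Nat.beq c 3) [⟨42, 0, 1⟩] []) (cond (Nat.beq c 4) [⟨42, 1, 1⟩] [])))) (cond (Nat.blt c 21) (cond (Nat.blt c 6) (cond (Nat.beq c 5) [⟨42, 0, 1⟩] []) (cond (Nat.beq c 6) [⟨42, -1, 1⟩] [])) (cond (Nat.blt c 27) (cond (Nat.beq c 21) [⟨8, -1, 1⟩] []) (cond (Nat.blt c 30) (cond (Nat.beq c 27) [⟨9, -1, 1⟩] []) (cond (Nat.beq c 30) [⟨10, -1, 1⟩] []))))) (cond (Nat.blt c 67) (cond (Nat.blt c 37) (cond (Nat.blt c 34) (cond (Nat.beq c 33) [⟨13, -1, 1⟩] []) (cond (Nat.beq c 34) [⟨14, -1, 1⟩] []))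 (cond (Nat.blt c 38) (cond (Nat.beq c 37) [⟨17, -1, 1⟩] []) (cond (Nat.blt c 39) (cond (Nat.beq c 38) [⟨20, -1, 1⟩] []) (cond (Nat.beq c 39) [⟨26, -1, 1⟩] [])))) (cond (Nat.blt c 73) (cond (Nat.blt c 69) (cond (Nat.beq c 67) [⟨40, -1, 1⟩] []) (cond (Nat.beq c 69) [⟨41, 1, 1⟩] [])) (cond (Nat.blt c 74) (cond (Nat.beq c 73) [⟨44, 1, 1⟩] []) (cond (Nat.blt c 77) (cond (Nat.beq c 74) [⟨45, -1, 1⟩] []) (cond (Nat.beq c 77) [⟨47, 1, 1⟩] [])))))) (cond (Nat.blt c 98) (cond (Nat.blt c 91) (cond (Nat.blt c 83) (cond (Nat.blt c 82) (cond (Nat.beq c 78) [⟨48, -1, 1⟩] []) (cond (Nat.beq c 82) [⟨51, 1, 1⟩] [])) (cond (Nat.blt c 87) (cond (Nat.beq c 83) [⟨52, -1, 1⟩] []) (cond (Nat.blt c 88) (cond (Nat.beq c 87) [⟨56, 1, 1⟩] []) (cond (Nat.beq c 88) [⟨57, -1, 1⟩] [])))) (cond (Nat.blt c 94) (cond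 (Nat.blt c 92) (cond (Nat.beq c 91) [⟨61, 1, 1⟩] []) (cond (Nat.beq c 92) [⟨62, -1, 1⟩] [])) (cond (Nat.blt c 95) (cond (Nat.beq c 94) [⟨65, 1, 1⟩] []) (cond (Nat.blt c 97) (cond (Nat.beq c 95) [⟨66, -1, 1⟩] []) (cond (Nat.beq c 97) [⟨42, -1, 2⟩, ⟨0, 0, 1⟩, ⟨1, -1, 1⟩, ⟨2, -1, 1⟩, ⟨3, -2, 1⟩, ⟨4, -2, 1⟩, ⟨5, -1, 1⟩, ⟨6, 0, 1⟩] []))))) (cond (Nat.blt c 125) (cond (Nat.blt c 113) (cond (Nat.blt c 99) (cond (Nat.beq c 98) [⟨70, -1, 1⟩] []) (cond (Nat.beq c 99) [⟨72, 1, 1⟩] [])) (cond (Nat.blt c 119) (cond (Nat.beq c 113) [⟨100, 1, 1⟩] []) (cond (Nat.blt c 122) (cond (Nat.beq c 119) [⟨101, 1, 1⟩] []) (cond (Nat.beq c 122) [⟨102, 1, 1⟩] [])))) (cond (Nat.blt c 129) (cond (Nat.blt c 126) (cond (Nat.beq c 125) [⟨105, 1, 1⟩] []) (cond (Nat.beq c 126) [⟨106, 1, 1⟩] [])) (cond (Nat.blt c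 130) (cond (Nat.beq c 129) [⟨109, 1, 1⟩] []) (cond (Nat.blt c 131) (cond (Nat.beq c 130) [⟨112, 1, 1⟩] []) (cond (Nat.beq c 131) [⟨118, 1, 1⟩] []))))))

/-- Compiled columns of `x_36` for type E7. -/
def colsE7_36 (c : ℕ) : List CEnt :=
  cond (Nat.blt c 79) (cond (Nat.blt c 32) (cond (Nat.blt c 5) (cond (Nat.blt c 2) (cond (Nat.blt c 1) (cond (Nat.beq c 0) [⟨43, -1, 1⟩] []) (cond (Nat.beq c 1) [⟨43, 0, 1⟩] [])) (cond (Nat.blt c 3) (cond (Nat.beq c 2) [⟨43, 0, 1⟩] []) (cond (Nat.blt c 4) (cond (Nat.beq c 3) [⟨43, 1, 1⟩] []) (cond (Nat.beq c 4) [⟨43, -1, 1⟩] [])))) (cond (Nat.blt c 20) (cond (Nat.blt c 6) (cond (Nat.beq c 5) [⟨43, 0, 1⟩] []) (cond (Nat.beq c 6) [⟨43, 1, 1⟩] [])) (cond (Nat.blt c 26) (cond (Nat.beq c 20) [⟨8, -1, 1⟩] []) (cond (Nat.blt c 31) (cond (Nat.beq c 26) [⟨9,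 -1, 1⟩] []) (cond (Nat.beq c 31) [⟨11, 1, 1⟩] []))))) (cond (Nat.blt c 65) (cond (Nat.blt c 36) (cond (Nat.blt c 35) (cond (Nat.beq c 32) [⟨12, 1, 1⟩] []) (cond (Nat.beq c 35) [⟨15, 1, 1⟩] [])) (cond (Nat.blt c 38) (cond (Nat.beq c 36) [⟨16, 1, 1⟩] []) (cond (Nat.blt c 39) (cond (Nat.beq c 38) [⟨21, -1, 1⟩] []) (cond (Nat.beq c 39) [⟨27, -1, 1⟩] [])))) (cond (Nat.blt c 70) (cond (Nat.blt c 66) (cond (Nat.beq c 65) [⟨40, 1, 1⟩] []) (cond (Nat.beq c 66) [⟨41, 1, 1⟩] [])) (cond (Nat.blt c 72) (cond (Nat.beq c 70) [⟨44, 1, 1⟩] []) (cond (Nat.blt c 76) (cond (Nat.beq c 72) [⟨45, 1, 1⟩] []) (cond (Nat.beq c 76) [⟨46, 1, 1⟩] [])))))) (cond (Nat.blt c 98) (cond (Nat.blt c 90) (cond (Nat.blt c 84) (cond (Nat.blt c 81) (cond (Nat.beq c 79) [⟨49, -1, 1⟩] []) (cond (Nat.beq c 81) [⟨50, 1, 1⟩]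 [])) (cond (Nat.blt c 86) (cond (Nat.beq c 84) [⟨53, -1, 1⟩] []) (cond (Nat.blt c 89) (cond (Nat.beq c 86) [⟨55, 1, 1⟩] []) (cond (Nat.beq c 89) [⟨58, -1, 1⟩] [])))) (cond (Nat.blt c 94) (cond (Nat.blt c 93) (cond (Nat.beq c 90) [⟨60, 1, 1⟩] []) (cond (Nat.beq c 93) [⟨63, -1, 1⟩] [])) (cond (Nat.blt c 95) (cond (Nat.beq c 94) [⟨67, -1, 1⟩] []) (cond (Nat.blt c 96) (cond (Nat.beq c 95) [⟨69, -1, 1⟩] []) (cond (Nat.beq c 96) [⟨43, -1, 2⟩, ⟨0, 0, 1⟩, ⟨1, -1, 1⟩, ⟨2, -1, 1⟩, ⟨3, -2, 1⟩, ⟨4, -1, 1⟩, ⟨5, -1, 1⟩, ⟨6, -1, 1⟩] []))))) (cond (Nat.blt c 124) (cond (Nat.blt c 112) (cond (Nat.blt c 99) (cond (Nat.beq c 98) [⟨73, -1, 1⟩] []) (cond (Nat.beq c 99) [⟨74, -1, 1⟩] [])) (cond (Nat.blt c 118) (cond (Nat.beq c 112) [⟨100, 1, 1⟩] []) (cond (Nat.blt c 123) (cond (Nat.beq c 118) [⟨101,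 1, 1⟩] []) (cond (Nat.beq c 123) [⟨103, -1, 1⟩] [])))) (cond (Nat.blt c 128) (cond (Nat.blt c 127) (cond (Nat.beq c 124) [⟨104, -1, 1⟩] []) (cond (Nat.beq c 127) [⟨107, -1, 1⟩] [])) (cond (Nat.blt c 130) (cond (Nat.beq c 128) [⟨108, -1, 1⟩] []) (cond (Nat.blt c 131) (cond (Nat.beq c 130) [⟨113, 1, 1⟩] []) (cond (Nat.beq c 131) [⟨119, 1, 1⟩] []))))))

/-- Compiled columns of `x_37` for type E7. -/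
def colsE7_37 (c : ℕ) : List CEnt :=
  cond (Nat.blt c 78) (cond (Nat.blt c 32) (cond (Nat.blt c 5) (cond (Nat.blt c 2) (cond (Nat.blt c 1) (cond (Nat.beq c 0) [⟨44, -1, 1⟩] []) (cond (Nat.beq c 1) [⟨44, 0, 1⟩] [])) (cond (Nat.blt c 3) (cond (Nat.beq c 2) [⟨44, 0, 1⟩] []) (cond (Nat.blt c 4) (cond (Nat.beq c 3) [⟨44, 1, 1⟩] []) (cond (Nat.beq c 4) [⟨44, -1, 1⟩] [])))) (cond (Nat.blt c 19) (cond (Nat.blt c 6) (cond (Nat.beq c 5) [⟨44, 1, 1⟩] []) (cond (Nat.beq c 6) [⟨44, -1, 1⟩] [])) (cond (Nat.blt c 25) (cond (Nat.beq c 19) [⟨8, 1, 1⟩] []) (cond (Nat.blt c 30) (cond (Nat.beq c 25) [⟨9, 1, 1⟩] []) (cond (Nat.beq c 30) [⟨11, -1, 1⟩] []))))) (cond (Nat.blt c 64) (cond (Nat.blt c 36) (cond (Nat.blt c 34) (cond (Nat.beq c 32) [⟨13, 1, 1⟩] []) (cond (Nat.beq c 34) [⟨15, -1, 1⟩] [])) (cond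 (Nat.blt c 38) (cond (Nat.beq c 36) [⟨17, 1, 1⟩] []) (cond (Nat.blt c 39) (cond (Nat.beq c 38) [⟨22, -1, 1⟩] []) (cond (Nat.beq c 39) [⟨28, -1, 1⟩] [])))) (cond (Nat.blt c 69) (cond (Nat.blt c 66) (cond (Nat.beq c 64) [⟨40, -1, 1⟩] []) (cond (Nat.beq c 66) [⟨42, 1, 1⟩] [])) (cond (Nat.blt c 71) (cond (Nat.beq c 69) [⟨43, 1, 1⟩] []) (cond (Nat.blt c 76) (cond (Nat.beq c 71) [⟨45, 1, 1⟩] []) (cond (Nat.beq c 76) [⟨47, 1, 1⟩] [])))))) (cond (Nat.blt c 97) (cond (Nat.blt c 90) (cond (Nat.blt c 83) (cond (Nat.blt c 81) (cond (Nat.beq c 78) [⟨49, -1, 1⟩] []) (cond (Nat.beq c 81) [⟨51, 1, 1⟩] [])) (cond (Nat.blt c 86) (cond (Nat.beq c 83) [⟨53, -1, 1⟩] []) (cond (Nat.blt c 88) (cond (Nat.beq c 86) [⟨56, 1, 1⟩] []) (cond (Nat.beq c 88) [⟨58, -1, 1⟩] [])))) (cond (Nat.blt c 94) (cond (Nat.blt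 c 92) (cond (Nat.beq c 90) [⟨61, 1, 1⟩] []) (cond (Nat.beq c 92) [⟨63, -1, 1⟩] [])) (cond (Nat.blt c 95) (cond (Nat.beq c 94) [⟨68, -1, 1⟩] []) (cond (Nat.blt c 96) (cond (Nat.beq c 95) [⟨44, -1, 2⟩, ⟨0, 0, 1⟩, ⟨1, -1, 1⟩, ⟨2, -1, 1⟩, ⟨3, -2, 1⟩, ⟨4, -1, 1⟩, ⟨5, -1, 1⟩, ⟨6, 0, 1⟩] []) (cond (Nat.beq c 96) [⟨70, -1, 1⟩] []))))) (cond (Nat.blt c 124) (cond (Nat.blt c 111) (cond (Nat.blt c 99) (cond (Nat.beq c 97) [⟨73, -1, 1⟩] []) (cond (Nat.beq c 99) [⟨75, 1, 1⟩] [])) (cond (Nat.blt c 117) (cond (Nat.beq c 111) [⟨100, 1, 1⟩] []) (cond (Nat.blt c 122) (cond (Nat.beq c 117) [⟨101, 1, 1⟩] []) (cond (Nat.beq c 122) [⟨103, -1, 1⟩] [])))) (cond (Nat.blt c 128) (cond (Nat.blt c 126) (cond (Nat.beq c 124) [⟨105, 1, 1⟩] []) (cond (Nat.beq c 126) [⟨107, -1, 1⟩] [])) (cond (Nat.blt c 130) (cond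 (Nat.beq c 128) [⟨109, 1, 1⟩] []) (cond (Nat.blt c 131) (cond (Nat.beq c 130) [⟨114, -1, 1⟩] []) (cond (Nat.beq c 131) [⟨120, -1, 1⟩] []))))))

/-- Compiled columns of `x_38` for type E7. -/
def colsE7_38 (c : ℕ) : List CEnt :=
  cond (Nat.blt c 77) (cond (Nat.blt c 31) (cond (Nat.blt c 5) (cond (Nat.blt c 2) (cond (Nat.blt c 1) (cond (Nat.beq c 0) [⟨45, -1, 1⟩] []) (cond (Nat.beq c 1) [⟨45, 0, 1⟩] [])) (cond (Nat.blt c 3) (cond (Nat.beq c 2) [⟨45, 0, 1⟩] []) (cond (Nat.blt c 4) (cond (Nat.beq c 3) [⟨45, 1, 1⟩] []) (cond (Nat.beq c 4) [⟨45, 0, 1⟩] [])))) (cond (Nat.blt c 18) (cond (Nat.blt c 6) (cond (Nat.beq c 5) [⟨45, -1, 1⟩] []) (cond (Nat.beq c 6) [⟨45, 0, 1⟩] [])) (cond (Nat.blt c 24) (cond (Nat.beq c 18) [⟨8, -1, 1⟩] []) (cond (Nat.blt c 30) (cond (Nat.beq c 24) [⟨9, -1, 1⟩]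 []) (cond (Nat.beq c 30) [⟨12, -1, 1⟩] []))))) (cond (Nat.blt c 64) (cond (Nat.blt c 35) (cond (Nat.blt c 34) (cond (Nat.beq c 31) [⟨13, -1, 1⟩] []) (cond (Nat.beq c 34) [⟨16, -1, 1⟩] [])) (cond (Nat.blt c 38) (cond (Nat.beq c 35) [⟨17, -1, 1⟩] []) (cond (Nat.blt c 39) (cond (Nat.beq c 38) [⟨23, -1, 1⟩] []) (cond (Nat.beq c 39) [⟨29, -1, 1⟩] [])))) (cond (Nat.blt c 67) (cond (Nat.blt c 65) (cond (Nat.beq c 64) [⟨41, -1, 1⟩] []) (cond (Nat.beq c 65) [⟨42, -1, 1⟩] [])) (cond (Nat.blt c 68) (cond (Nat.beq c 67) [⟨43, 1, 1⟩] []) (cond (Nat.blt c 76) (cond (Nat.beq c 68) [⟨44, 1, 1⟩] []) (cond (Nat.beq c 76) [⟨48, 1, 1⟩] [])))))) (cond (Nat.blt c 97) (cond (Nat.blt c 90) (cond (Nat.blt c 82) (cond (Nat.blt c 81) (cond (Nat.beq c 77) [⟨49, -1, 1⟩] []) (cond (Nat.beq c 81) [⟨52, 1, 1⟩]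 [])) (cond (Nat.blt c 86) (cond (Nat.beq c 82) [⟨53, -1, 1⟩] []) (cond (Nat.blt c 87) (cond (Nat.beq c 86) [⟨57, 1, 1⟩] []) (cond (Nat.beq c 87) [⟨58, -1, 1⟩] [])))) (cond (Nat.blt c 94) (cond (Nat.blt c 91) (cond (Nat.beq c 90) [⟨62, 1, 1⟩] []) (cond (Nat.beq c 91) [⟨63, -1, 1⟩] [])) (cond (Nat.blt c 95) (cond (Nat.beq c 94) [⟨45, -1, 2⟩, ⟨0, 0, 1⟩, ⟨1, -1, 1⟩, ⟨2, -1, 1⟩, ⟨3, -2, 1⟩, ⟨4, -1, 1⟩, ⟨5, 0, 1⟩, ⟨6, 0, 1⟩] []) (cond (Nat.blt c 96) (cond (Nat.beq c 95) [⟨71, -1, 1⟩] []) (cond (Nat.beq c 96) [⟨72, -1, 1⟩] []))))) (cond (Nat.blt c 123) (cond (Nat.blt c 110) (cond (Nat.blt c 98) (cond (Nat.beq c 97) [⟨74, 1, 1⟩] []) (cond (Nat.beq c 98) [⟨75, 1, 1⟩] [])) (cond (Nat.blt c 116) (cond (Nat.beq c 110) [⟨100, 1, 1⟩] []) (cond (Nat.blt c 122) (cond (Nat.beq c 116) [⟨101, 1, 1⟩]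 []) (cond (Nat.beq c 122) [⟨104, 1, 1⟩] [])))) (cond (Nat.blt c 127) (cond (Nat.blt c 126) (cond (Nat.beq c 123) [⟨105, 1, 1⟩] []) (cond (Nat.beq c 126) [⟨108, 1, 1⟩] [])) (cond (Nat.blt c 130) (cond (Nat.beq c 127) [⟨109, 1, 1⟩] []) (cond (Nat.blt c 131) (cond (Nat.beq c 130) [⟨115, 1, 1⟩] []) (cond (Nat.beq c 131) [⟨121, 1, 1⟩] []))))))

/-- Compiled columns of `x_39` for type E7. -/
def colsE7_39 (c : ℕ) : List CEnt :=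
  cond (Nat.blt c 75) (cond (Nat.blt c 29) (cond (Nat.blt c 5) (cond (Nat.blt c 2) (cond (Nat.blt c 1) (cond (Nat.beq c 0) [⟨46, -1, 1⟩] []) (cond (Nat.beq c 1) [⟨46, 1, 1⟩] [])) (cond (Nat.blt c 3) (cond (Nat.beq c 2) [⟨46, 1, 1⟩] []) (cond (Nat.blt c 4) (cond (Nat.beq c 3) [⟨46, -1, 1⟩] []) (cond (Nat.beq c 4) [⟨46, 0, 1⟩] [])))) (cond (Nat.blt c 17) (cond (Nat.blt c 6) (cond (Nat.beq c 5) [⟨46, 0, 1⟩] []) (cond (Nat.beq c 6) [⟨46, 1, 1⟩] [])) (cond (Nat.blt c 26) (cond (Nat.beq c 17) [⟨8, 1, 1⟩] []) (cond (Nat.blt c 28) (cond (Nat.beq c 26) [⟨10, -1, 1⟩] []) (cond (Nat.beq c 28) [⟨11, -1, 1⟩] []))))) (cond (Nat.blt c 61) (cond (Nat.blt c 36) (cond (Nat.blt c 35) (cond (Nat.beq c 29) [⟨12, -1, 1⟩] []) (cond (Nat.beq c 35) [⟨18, 1, 1⟩] [])) (cond (Nat.blt c 37) (cond (Nat.beq c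 36) [⟨19, 1, 1⟩] []) (cond (Nat.blt c 39) (cond (Nat.beq c 37) [⟨21, 1, 1⟩] []) (cond (Nat.beq c 39) [⟨30, -1, 1⟩] [])))) (cond (Nat.blt c 63) (cond (Nat.blt c 62) (cond (Nat.beq c 61) [⟨40, 1, 1⟩] []) (cond (Nat.beq c 62) [⟨41, 1, 1⟩] [])) (cond (Nat.blt c 70) (cond (Nat.beq c 63) [⟨43, 1, 1⟩] []) (cond (Nat.blt c 72) (cond (Nat.beq c 70) [⟨47, 1, 1⟩] []) (cond (Nat.beq c 72) [⟨48, 1, 1⟩] [])))))) (cond (Nat.blt c 98) (cond (Nat.blt c 90) (cond (Nat.blt c 84) (cond (Nat.blt c 80) (cond (Nat.beq c 75) [⟨49, 1, 1⟩] []) (cond (Nat.beq c 80) [⟨50, 1, 1⟩] [])) (cond (Nat.blt c 85) (cond (Nat.beq c 84) [⟨54, -1, 1⟩] []) (cond (Nat.blt c 89) (cond (Nat.beq c 85) [⟨55, 1, 1⟩] []) (cond (Nat.beq c 89) [⟨59, -1, 1⟩] [])))) (cond (Nat.blt c 92) (cond (Nat.blt c 91) (cond (Nat.beq c 90) [⟨64,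 -1, 1⟩] []) (cond (Nat.beq c 91) [⟨67, -1, 1⟩] [])) (cond (Nat.blt c 93) (cond (Nat.beq c 92) [⟨69, -1, 1⟩] []) (cond (Nat.blt c 96) (cond (Nat.beq c 93) [⟨46, -1, 2⟩, ⟨0, 0, 1⟩, ⟨1, -1, 1⟩, ⟨2, -1, 1⟩, ⟨3, -1, 1⟩, ⟨4, -1, 1⟩, ⟨5, -1, 1⟩, ⟨6, -1, 1⟩] []) (cond (Nat.beq c 96) [⟨76, -1, 1⟩] []))))) (cond (Nat.blt c 121) (cond (Nat.blt c 109) (cond (Nat.blt c 99) (cond (Nat.beq c 98) [⟨77, -1, 1⟩] []) (cond (Nat.beq c 99) [⟨78, -1, 1⟩] [])) (cond (Nat.blt c 118) (cond (Nat.beq c 109) [⟨100, 1, 1⟩] []) (cond (Nat.blt c 120) (cond (Nat.beq c 118) [⟨102, -1, 1⟩] []) (cond (Nat.beq c 120) [⟨103, -1, 1⟩] [])))) (cond (Nat.blt c 128) (cond (Nat.blt c 127) (cond (Nat.beq c 121) [⟨104, -1, 1⟩] []) (cond (Nat.beq c 127) [⟨110, 1, 1⟩] [])) (cond (Nat.blt c 129) (cond (Nat.beq c 128) [⟨111, 1,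 1⟩] []) (cond (Nat.blt c 131) (cond (Nat.beq c 129) [⟨113, 1, 1⟩] []) (cond (Nat.beq c 131) [⟨122, -1, 1⟩] []))))))

/-- Compiled columns of `x_40` for type E7. -/
def colsE7_40 (c : ℕ) : List CEnt :=
  cond (Nat.blt c 74) (cond (Nat.blt c 29) (cond (Nat.blt c 5) (cond (Nat.blt c 2) (cond (Nat.blt c 1) (cond (Nat.beq c 0) [⟨47, -1, 1⟩] []) (cond (Nat.beq c 1) [⟨47, 1, 1⟩] [])) (cond (Nat.blt c 3) (cond (Nat.beq c 2) [⟨47, 1, 1⟩] []) (cond (Nat.blt c 4) (cond (Nat.beq c 3) [⟨47, -1, 1⟩] []) (cond (Nat.beq c 4) [⟨47, 0, 1⟩] [])))) (cond (Nat.blt c 16) (cond (Nat.blt c 6) (cond (Nat.beq c 5) [⟨47, 1, 1⟩] []) (cond (Nat.beq c 6) [⟨47, -1, 1⟩] [])) (cond (Nat.blt c 25) (cond (Nat.beq c 16) [⟨8, -1, 1⟩] []) (cond (Nat.blt c 27) (cond (Nat.beq c 25) [⟨10, 1, 1⟩] []) (cond (Nat.beq c 27)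 [⟨11, 1, 1⟩] []))))) (cond (Nat.blt c 60) (cond (Nat.blt c 36) (cond (Nat.blt c 34) (cond (Nat.beq c 29) [⟨13, -1, 1⟩] []) (cond (Nat.beq c 34) [⟨18, -1, 1⟩] [])) (cond (Nat.blt c 37) (cond (Nat.beq c 36) [⟨20, 1, 1⟩] []) (cond (Nat.blt c 39) (cond (Nat.beq c 37) [⟨22, 1, 1⟩] []) (cond (Nat.beq c 39) [⟨31, -1, 1⟩] [])))) (cond (Nat.blt c 63) (cond (Nat.blt c 62) (cond (Nat.beq c 60) [⟨40, -1, 1⟩] []) (cond (Nat.beq c 62) [⟨42, 1, 1⟩] [])) (cond (Nat.blt c 69) (cond (Nat.beq c 63) [⟨44, 1, 1⟩] []) (cond (Nat.blt c 71) (cond (Nat.beq c 69) [⟨46, 1, 1⟩] []) (cond (Nat.beq c 71) [⟨48, 1, 1⟩] [])))))) (cond (Nat.blt c 97) (cond (Nat.blt c 90) (cond (Nat.blt c 83) (cond (Nat.blt c 80) (cond (Nat.beq c 74) [⟨49, 1, 1⟩] []) (cond (Nat.beq c 80) [⟨51, 1, 1⟩] [])) (cond (Nat.blt c 85) (cond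 (Nat.beq c 83) [⟨54, -1, 1⟩] []) (cond (Nat.blt c 88) (cond (Nat.beq c 85) [⟨56, 1, 1⟩] []) (cond (Nat.beq c 88) [⟨59, -1, 1⟩] [])))) (cond (Nat.blt c 92) (cond (Nat.blt c 91) (cond (Nat.beq c 90) [⟨65, -1, 1⟩] []) (cond (Nat.beq c 91) [⟨68, -1, 1⟩] [])) (cond (Nat.blt c 93) (cond (Nat.beq c 92) [⟨47, -1, 2⟩, ⟨0, 0, 1⟩, ⟨1, -1, 1⟩, ⟨2, -1, 1⟩, ⟨3, -1, 1⟩, ⟨4, -1, 1⟩, ⟨5, -1, 1⟩, ⟨6, 0, 1⟩] []) (cond (Nat.blt c 95) (cond (Nat.beq c 93) [⟨70, -1, 1⟩] []) (cond (Nat.beq c 95) [⟨76, -1, 1⟩] []))))) (cond (Nat.blt c 121) (cond (Nat.blt c 108) (cond (Nat.blt c 99) (cond (Nat.beq c 97) [⟨77, -1, 1⟩] []) (cond (Nat.beq c 99) [⟨79, 1, 1⟩] [])) (cond (Nat.blt c 117) (cond (Nat.beq c 108) [⟨100, 1, 1⟩] []) (cond (Nat.blt c 119) (cond (Nat.beq c 117) [⟨102, -1, 1⟩] []) (cond (Nat.beq c 119)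 [⟨103, -1, 1⟩] [])))) (cond (Nat.blt c 128) (cond (Nat.blt c 126) (cond (Nat.beq c 121) [⟨105, 1, 1⟩] []) (cond (Nat.beq c 126) [⟨110, 1, 1⟩] [])) (cond (Nat.blt c 129) (cond (Nat.beq c 128) [⟨112, -1, 1⟩] []) (cond (Nat.blt c 131) (cond (Nat.beq c 129) [⟨114, -1, 1⟩] []) (cond (Nat.beq c 131) [⟨123, 1, 1⟩] []))))))

/-- Compiled columns of `x_41` for type E7. -/
def colsE7_41 (c : ℕ) : List CEnt :=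
  cond (Nat.blt c 73) (cond (Nat.blt c 28) (cond (Nat.blt c 5) (cond (Nat.blt c 2) (cond (Nat.blt c 1) (cond (Nat.beq c 0) [⟨48, -1, 1⟩] []) (cond (Nat.beq c 1) [⟨48, 1, 1⟩] [])) (cond (Nat.blt c 3) (cond (Nat.beq c 2) [⟨48, 1, 1⟩] []) (cond (Nat.blt c 4) (cond (Nat.beq c 3) [⟨48, -1, 1⟩] []) (cond (Nat.beq c 4) [⟨48, 1, 1⟩] [])))) (cond (Nat.blt c 15) (cond (Nat.blt c 6) (cond (Nat.beq c 5) [⟨48, -1, 1⟩] []) (cond (Nat.beq c 6) [⟨48, 0, 1⟩] [])) (cond (Nat.blt c 24) (cond (Nat.beq c 15) [⟨8, 1, 1⟩] []) (cond (Nat.blt c 27) (cond (Nat.beq c 24) [⟨10, -1, 1⟩] []) (cond (Nat.beq c 27) [⟨12, 1, 1⟩] []))))) (cond (Nat.blt c 60) (cond (Nat.blt c 35) (cond (Nat.blt c 34) (cond (Nat.beq c 28) [⟨13, 1, 1⟩] []) (cond (Nat.beq c 34) [⟨19, -1, 1⟩] [])) (cond (Nat.blt c 37) (cond (Nat.beq c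 35) [⟨20, -1, 1⟩] []) (cond (Nat.blt c 39) (cond (Nat.beq c 37) [⟨23, 1, 1⟩] []) (cond (Nat.beq c 39) [⟨32, -1, 1⟩] [])))) (cond (Nat.blt c 63) (cond (Nat.blt c 61) (cond (Nat.beq c 60) [⟨41, -1, 1⟩] []) (cond (Nat.beq c 61) [⟨42, -1, 1⟩] [])) (cond (Nat.blt c 67) (cond (Nat.beq c 63) [⟨45, 1, 1⟩] []) (cond (Nat.blt c 68) (cond (Nat.beq c 67) [⟨46, 1, 1⟩] []) (cond (Nat.beq c 68) [⟨47, 1, 1⟩] [])))))) (cond (Nat.blt c 97) (cond (Nat.blt c 90) (cond (Nat.blt c 82) (cond (Nat.blt c 80) (cond (Nat.beq c 73) [⟨49, 1, 1⟩] []) (cond (Nat.beq c 80) [⟨52, 1, 1⟩] [])) (cond (Nat.blt c 85) (cond (Nat.beq c 82) [⟨54, -1, 1⟩] []) (cond (Nat.blt c 87) (cond (Nat.beq c 85) [⟨57, 1, 1⟩] []) (cond (Nat.beq c 87) [⟨59, -1, 1⟩] [])))) (cond (Nat.blt c 92) (cond (Nat.blt c 91) (cond (Nat.beq c 90)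 [⟨66, -1, 1⟩] []) (cond (Nat.beq c 91) [⟨48, -1, 2⟩, ⟨0, 0, 1⟩, ⟨1, -1, 1⟩, ⟨2, -1, 1⟩, ⟨3, -1, 1⟩, ⟨4, -1, 1⟩, ⟨5, 0, 1⟩, ⟨6, 0, 1⟩] [])) (cond (Nat.blt c 93) (cond (Nat.beq c 92) [⟨71, -1, 1⟩] []) (cond (Nat.blt c 94) (cond (Nat.beq c 93) [⟨72, -1, 1⟩] []) (cond (Nat.beq c 94) [⟨76, -1, 1⟩] []))))) (cond (Nat.blt c 120) (cond (Nat.blt c 107) (cond (Nat.blt c 98) (cond (Nat.beq c 97) [⟨78, 1, 1⟩] []) (cond (Nat.beq c 98) [⟨79, 1, 1⟩] [])) (cond (Nat.blt c 116) (cond (Nat.beq c 107) [⟨100, 1, 1⟩] []) (cond (Nat.blt c 119) (cond (Nat.beq c 116) [⟨102, -1, 1⟩] []) (cond (Nat.beq c 119) [⟨104, 1, 1⟩] [])))) (cond (Nat.blt c 127) (cond (Nat.blt c 126) (cond (Nat.beq c 120) [⟨105, 1, 1⟩] []) (cond (Nat.beq c 126) [⟨111, -1, 1⟩] [])) (cond (Nat.blt c 129) (cond (Nat.beq c 127) [⟨112,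 -1, 1⟩] []) (cond (Nat.blt c 131) (cond (Nat.beq c 129) [⟨115, 1, 1⟩] []) (cond (Nat.beq c 131) [⟨124, -1, 1⟩] []))))))

end Cfsg.Agent.Lib.Helper3.ChevM
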