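import Cfsg.Agent.Lib.Helper3.ChevData.E7Rel
import Cfsg.Agent.Lib.Helper3.ChevData.E7Wit
set_option autoImplicit false
set_option maxRecDepth 1000000
set_option Elab.async false

namespace Cfsg.Agent.Lib.Helper3.ChevM

theorem e7Comm_1_4144 : allRange 4144 4256 ((fun k => commOKk cdE7 reflE7 etaE7 witE7 (k / 126) (k % 126))) = true := by decide +kernel
theorem e7Comm_1_4256 : allRange 4256 4368 ((fun k => commOKk cdE7 reflE7 etaE7 witE7 (k / 126) (k % 126))) = true := by decide +kernel
theorem e7Comm_1_4368 : allRange 4368 4480 ((fun k => commOKk cdE7 reflE7 etaE7 witE7 (k / 126) (k % 126))) = true := by decide +kernel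
theorem e7Comm_1_4480 : allRange 4480 4592 ((fun k => commOKk cdE7 reflE7 etaE7 witE7 (k / 126) (k % 126))) = true := by decide +kernel
theorem e7Comm_1_4592 : allRange 4592 4704 ((fun k => commOKk cdE7 reflE7 etaE7 witE7 (k / 126) (k % 126))) = true := by decide +kernel
theorem e7Comm_1_4704 : allRange 4704 4816 ((fun k => commOKk cdE7 reflE7 etaE7 witE7 (k / 126) (k % 126))) = true := by decide +kernel
theorem e7Comm_1_4816 : allRange 4816 4928 ((fun k => commOKk cdE7 reflE7 etaE7 witE7 (k / 126) (k % 126))) = true := by decide +kernel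
theorem e7Comm_1_4928 : allRange 4928 5040 ((fun k => commOKk cdE7 reflE7 etaE7 witE7 (k / 126) (k % 126))) = true := by decide +kernel
theorem e7Comm_1_5040 : allRange 5040 5152 ((fun k => commOKk cdE7 reflE7 etaE7 witE7 (k / 126) (k % 126))) = true := by decide +kernel
theorem e7Comm_1_5152 : allRange 5152 5264 ((fun k => commOKk cdE7 reflE7 etaE7 witE7 (k / 126) (k % 126))) = true := by decide +kernel
theorem e7Comm_1_5264 : allRange 5264 5376 ((fun k => commOKk cdE7 reflE7 etaE7 witE7 (k / 126) (k % 126))) = true := by decide +kernel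
theorem e7Comm_1_5376 : allRange 5376 5488 ((fun k => commOKk cdE7 reflE7 etaE7 witE7 (k / 126) (k % 126))) = true := by decide +kernel
theorem e7Comm_1_5488 : allRange 5488 5600 ((fun k => commOKk cdE7 reflE7 etaE7 witE7 (k / 126) (k % 126))) = true := by decide +kernel
theorem e7Comm_1_5600 : allRange 5600 5712 ((fun k => commOKk cdE7 reflE7 etaE7 witE7 (k / 126) (k % 126))) = true := by decide +kernel
theorem e7Comm_1_5712 : allRange 5712 5824 ((fun k => commOKk cdE7 reflE7 etaE7 witE7 (k / 126) (k % 126))) = true := by decide +kernel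
theorem e7Comm_1_5824 : allRange 5824 5936 ((fun k => commOKk cdE7 reflE7 etaE7 witE7 (k / 126) (k % 126))) = true := by decide +kernel
theorem e7Comm_1_5936 : allRange 5936 6048 ((fun k => commOKk cdE7 reflE7 etaE7 witE7 (k / 126) (k % 126))) = true := by decide +kernel
theorem e7Comm_1_6048 : allRange 6048 6160 ((fun k => commOKk cdE7 reflE7 etaE7 witE7 (k / 126) (k % 126))) = true := by decide +kernel
theorem e7Comm_1_6160 : allRange 6160 6272 ((fun k => commOKk cdE7 reflE7 etaE7 witE7 (k / 126) (k % 126))) = true := by decide +kernel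
theorem e7Comm_1_6272 : allRange 6272 6384 ((fun k => commOKk cdE7 reflE7 etaE7 witE7 (k / 126) (k % 126))) = true := by decide +kernel
theorem e7Comm_1_6384 : allRange 6384 6496 ((fun k => commOKk cdE7 reflE7 etaE7 witE7 (k / 126) (k % 126))) = true := by decide +kernel
theorem e7Comm_1_6496 : allRange 6496 6608 ((fun k => commOKk cdE7 reflE7 etaE7 witE7 (k / 126) (k % 126))) = true := by decide +kernel
theorem e7Comm_1_6608 : allRange 6608 6720 ((fun k => commOKk cdE7 reflE7 etaE7 witE7 (k / 126) (k % 126))) = true := by decide +kernel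
theorem e7Comm_1_6720 : allRange 6720 6832 ((fun k => commOKk cdE7 reflE7 etaE7 witE7 (k / 126) (k % 126))) = true := by decide +kernel
theorem e7Comm_1_6832 : allRange 6832 6944 ((fun k => commOKk cdE7 reflE7 etaE7 witE7 (k / 126) (k % 126))) = true := by decide +kernel
theorem e7Comm_1_6944 : allRange 6944 7056 ((fun k => commOKk cdE7 reflE7 etaE7 witE7 (k / 126) (k % 126))) = true := by decide +kernel
theorem e7Comm_1_7056 : allRange 7056 7168 ((fun k => commOKk cdE7 reflE7 etaE7 witE7 (k / 126) (k % 126))) = true := by decide +kernel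
theorem e7Comm_1_7168 : allRange 7168 7280 ((fun k => commOKk cdE7 reflE7 etaE7 witE7 (k / 126) (k % 126))) = true := by decide +kernel
theorem e7Comm_1_7280 : allRange 7280 7392 ((fun k => commOKk cdE7 reflE7 etaE7 witE7 (k / 126) (k % 126))) = true := by decide +kernel
theorem e7Comm_1_7392 : allRange 7392 7504 ((fun k => commOKk cdE7 reflE7 etaE7 witE7 (k / 126) (k % 126))) = true := by decide +kernel
theorem e7Comm_1_7504 : allRange 7504 7616 ((fun k => commOKk cdE7 reflE7 etaE7 witE7 (k / 126) (k % 126))) = true := by decide +kernel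
theorem e7Comm_1_7616 : allRange 7616 7728 ((fun k => commOKk cdE7 reflE7 etaE7 witE7 (k / 126) (k % 126))) = true := by decide +kernel
theorem e7Comm_1_7728 : allRange 7728 7840 ((fun k => commOKk cdE7 reflE7 etaE7 witE7 (k / 126) (k % 126))) = true := by decide +kernel
theorem e7Comm_1_7840 : allRange 7840 7952 ((fun k => commOKk cdE7 reflE7 etaE7 witE7 (k / 126) (k % 126))) = true := by decide +kernel
theorem e7Comm_1_7952 : allRange 7952 8064 ((fun k => commOKk cdE7 reflE7 etaE7 witE7 (k / 126) (k % 126))) = true := by decide +kernel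
theorem e7Comm_1_8064 : allRange 8064 8176 ((fun k => commOKk cdE7 reflE7 etaE7 witE7 (k / 126) (k % 126))) = true := by decide +kernel
theorem e7Comm_1_8176 : allRange 8176 8288 ((fun k => commOKk cdE7 reflE7 etaE7 witE7 (k / 126) (k % 126))) = true := by decide +kernel

/-- Steps of the derivation of the commutator formula of type E7 (roots 4144 to 8287). -/
theorem e7Comm_1 : ∀ r, 4144 ≤ r → r < 8288 → ((fun k => commOKk cdE7 reflE7 etaE7 witE7 (k / 126) (k % 126))) r = true := by
  intro r h1 h2
  by_cases c0 : r < 4256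
  · exact allRange_spec e7Comm_1_4144 r (by omega) c0
  by_cases c1 : r < 4368
  · exact allRange_spec e7Comm_1_4256 r (by omega) c1
  by_cases c2 : r < 4480
  · exact allRange_spec e7Comm_1_4368 r (by omega) c2
  by_cases c3 : r < 4592
  · exact allRange_spec e7Comm_1_4480 r (by omega) c3
  by_cases c4 : r < 4704
  · exact allRange_spec e7Comm_1_4592 r (by omega) c4
  by_cases c5 : r < 4816
  · exact allRange_spec e7Comm_1_4704 r (by omega) c5
  by_cases c6 : r < 4928
  · exact allRange_spec e7Comm_1_4816 r (by omega) c6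
  by_cases c7 : r < 5040
  · exact allRange_spec e7Comm_1_4928 r (by omega) c7
  by_cases c8 : r < 5152
  · exact allRange_spec e7Comm_1_5040 r (by omega) c8
  by_cases c9 : r < 5264
  · exact allRange_spec e7Comm_1_5152 r (by omega) c9
  by_cases c10 : r < 5376
  · exact allRange_spec e7Comm_1_5264 r (by omega) c10
  by_cases c11 : r < 5488
  · exact allRange_spec e7Comm_1_5376 r (by omega) c11
  by_cases c12 : r < 5600
  · exact allRange_spec e7Comm_1_5488 r (by omega) c12
  by_cases c13 : r < 5712
  · exact allRange_spec e7Comm_1_5600 r (by omega) c13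
  by_cases c14 : r < 5824
  · exact allRange_spec e7Comm_1_5712 r (by omega) c14
  by_cases c15 : r < 5936
  · exact allRange_spec e7Comm_1_5824 r (by omega) c15
  by_cases c16 : r < 6048
  · exact allRange_spec e7Comm_1_5936 r (by omega) c16
  by_cases c17 : r < 6160
  · exact allRange_spec e7Comm_1_6048 r (by omega) c17
  by_cases c18 : r < 6272
  · exact allRange_spec e7Comm_1_6160 r (by omega) c18
  by_cases c19 : r < 6384
  · exact allRange_spec e7Comm_1_6272 r (by omega) c19
  by_cases c20 : r < 6496
  · exact allRange_spec e7Comm_1_6384 r (by omega) c20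
  by_cases c21 : r < 6608
  · exact allRange_spec e7Comm_1_6496 r (by omega) c21
  by_cases c22 : r < 6720
  · exact allRange_spec e7Comm_1_6608 r (by omega) c22
  by_cases c23 : r < 6832
  · exact allRange_spec e7Comm_1_6720 r (by omega) c23
  by_cases c24 : r < 6944
  · exact allRange_spec e7Comm_1_6832 r (by omega) c24
  by_cases c25 : r < 7056
  · exact allRange_spec e7Comm_1_6944 r (by omega) c25
  by_cases c26 : r < 7168
  · exact allRange_spec e7Comm_1_7056 r (by omega) c26
  by_cases c27 : r < 7280
  · exact allRange_spec e7Comm_1_7168 r (by omega) c27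
  by_cases c28 : r < 7392
  · exact allRange_spec e7Comm_1_7280 r (by omega) c28
  by_cases c29 : r < 7504
  · exact allRange_spec e7Comm_1_7392 r (by omega) c29
  by_cases c30 : r < 7616
  · exact allRange_spec e7Comm_1_7504 r (by omega) c30
  by_cases c31 : r < 7728
  · exact allRange_spec e7Comm_1_7616 r (by omega) c31
  by_cases c32 : r < 7840
  · exact allRange_spec e7Comm_1_7728 r (by omega) c32
  by_cases c33 : r < 7952
  · exact allRange_spec e7Comm_1_7840 r (by omega) c33
  by_cases c34 : r < 8064
  · exact allRange_spec e7Comm_1_7952 r (by omega) c34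
  by_cases c35 : r < 8176
  · exact allRange_spec e7Comm_1_8064 r (by omega) c35
  exact allRange_spec e7Comm_1_8176 r (by omega) h2

end Cfsg.Agent.Lib.Helper3.ChevM
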