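import Cfsg.Agent.Lib.Helper3.ChevData.E7Rel
import Cfsg.Agent.Lib.Helper3.ChevData.E7Wit
set_option autoImplicit false
set_option maxRecDepth 1000000
set_option Elab.async false

namespace Cfsg.Agent.Lib.Helper3.ChevM

theorem e7Comm_2_8288 : allRange 8288 8400 ((fun k => commOKk cdE7 reflE7 etaE7 witE7 (k / 126) (k % 126))) = true := by decide +kernel
theorem e7Comm_2_8400 : allRange 8400 8512 ((fun k => commOKk cdE7 reflE7 etaE7 witE7 (k / 126) (k % 126))) = true := by decide +kernel
theorem e7Comm_2_8512 : allRange 8512 8624 ((fun k => commOKk cdE7 reflE7 etaE7 witE7 (k / 126) (k % 126))) = true := by decide +kernel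
theorem e7Comm_2_8624 : allRange 8624 8736 ((fun k => commOKk cdE7 reflE7 etaE7 witE7 (k / 126) (k % 126))) = true := by decide +kernel
theorem e7Comm_2_8736 : allRange 8736 8848 ((fun k => commOKk cdE7 reflE7 etaE7 witE7 (k / 126) (k % 126))) = true := by decide +kernel
theorem e7Comm_2_8848 : allRange 8848 8960 ((fun k => commOKk cdE7 reflE7 etaE7 witE7 (k / 126) (k % 126))) = true := by decide +kernel
theorem e7Comm_2_8960 : allRange 8960 9072 ((fun k => commOKk cdE7 reflE7 etaE7 witE7 (k / 126) (k % 126))) = true := by decide +kernel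
theorem e7Comm_2_9072 : allRange 9072 9184 ((fun k => commOKk cdE7 reflE7 etaE7 witE7 (k / 126) (k % 126))) = true := by decide +kernel
theorem e7Comm_2_9184 : allRange 9184 9296 ((fun k => commOKk cdE7 reflE7 etaE7 witE7 (k / 126) (k % 126))) = true := by decide +kernel
theorem e7Comm_2_9296 : allRange 9296 9408 ((fun k => commOKk cdE7 reflE7 etaE7 witE7 (k / 126) (k % 126))) = true := by decide +kernel
theorem e7Comm_2_9408 : allRange 9408 9520 ((fun k => commOKk cdE7 reflE7 etaE7 witE7 (k / 126) (k % 126))) = true := by decide +kernel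
theorem e7Comm_2_9520 : allRange 9520 9632 ((fun k => commOKk cdE7 reflE7 etaE7 witE7 (k / 126) (k % 126))) = true := by decide +kernel
theorem e7Comm_2_9632 : allRange 9632 9744 ((fun k => commOKk cdE7 reflE7 etaE7 witE7 (k / 126) (k % 126))) = true := by decide +kernel
theorem e7Comm_2_9744 : allRange 9744 9856 ((fun k => commOKk cdE7 reflE7 etaE7 witE7 (k / 126) (k % 126))) = true := by decide +kernel
theorem e7Comm_2_9856 : allRange 9856 9968 ((fun k => commOKk cdE7 reflE7 etaE7 witE7 (k / 126) (k % 126))) = true := by decide +kernel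
theorem e7Comm_2_9968 : allRange 9968 10080 ((fun k => commOKk cdE7 reflE7 etaE7 witE7 (k / 126) (k % 126))) = true := by decide +kernel
theorem e7Comm_2_10080 : allRange 10080 10192 ((fun k => commOKk cdE7 reflE7 etaE7 witE7 (k / 126) (k % 126))) = true := by decide +kernel
theorem e7Comm_2_10192 : allRange 10192 10304 ((fun k => commOKk cdE7 reflE7 etaE7 witE7 (k / 126) (k % 126))) = true := by decide +kernel
theorem e7Comm_2_10304 : allRange 10304 10416 ((fun k => commOKk cdE7 reflE7 etaE7 witE7 (k / 126) (k % 126))) = true := by decide +kernel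
theorem e7Comm_2_10416 : allRange 10416 10528 ((fun k => commOKk cdE7 reflE7 etaE7 witE7 (k / 126) (k % 126))) = true := by decide +kernel
theorem e7Comm_2_10528 : allRange 10528 10640 ((fun k => commOKk cdE7 reflE7 etaE7 witE7 (k / 126) (k % 126))) = true := by decide +kernel
theorem e7Comm_2_10640 : allRange 10640 10752 ((fun k => commOKk cdE7 reflE7 etaE7 witE7 (k / 126) (k % 126))) = true := by decide +kernel
theorem e7Comm_2_10752 : allRange 10752 10864 ((fun k => commOKk cdE7 reflE7 etaE7 witE7 (k / 126) (k % 126))) = true := by decide +kernel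
theorem e7Comm_2_10864 : allRange 10864 10976 ((fun k => commOKk cdE7 reflE7 etaE7 witE7 (k / 126) (k % 126))) = true := by decide +kernel
theorem e7Comm_2_10976 : allRange 10976 11088 ((fun k => commOKk cdE7 reflE7 etaE7 witE7 (k / 126) (k % 126))) = true := by decide +kernel
theorem e7Comm_2_11088 : allRange 11088 11200 ((fun k => commOKk cdE7 reflE7 etaE7 witE7 (k / 126) (k % 126))) = true := by decide +kernel
theorem e7Comm_2_11200 : allRange 11200 11312 ((fun k => commOKk cdE7 reflE7 etaE7 witE7 (k / 126) (k % 126))) = true := by decide +kernel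
theorem e7Comm_2_11312 : allRange 11312 11424 ((fun k => commOKk cdE7 reflE7 etaE7 witE7 (k / 126) (k % 126))) = true := by decide +kernel
theorem e7Comm_2_11424 : allRange 11424 11536 ((fun k => commOKk cdE7 reflE7 etaE7 witE7 (k / 126) (k % 126))) = true := by decide +kernel
theorem e7Comm_2_11536 : allRange 11536 11648 ((fun k => commOKk cdE7 reflE7 etaE7 witE7 (k / 126) (k % 126))) = true := by decide +kernel
theorem e7Comm_2_11648 : allRange 11648 11760 ((fun k => commOKk cdE7 reflE7 etaE7 witE7 (k / 126) (k % 126))) = true := by decide +kernel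
theorem e7Comm_2_11760 : allRange 11760 11872 ((fun k => commOKk cdE7 reflE7 etaE7 witE7 (k / 126) (k % 126))) = true := by decide +kernel
theorem e7Comm_2_11872 : allRange 11872 11984 ((fun k => commOKk cdE7 reflE7 etaE7 witE7 (k / 126) (k % 126))) = true := by decide +kernel
theorem e7Comm_2_11984 : allRange 11984 12096 ((fun k => commOKk cdE7 reflE7 etaE7 witE7 (k / 126) (k % 126))) = true := by decide +kernel
theorem e7Comm_2_12096 : allRange 12096 12208 ((fun k => commOKk cdE7 reflE7 etaE7 witE7 (k / 126) (k % 126))) = true := by decide +kernel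
theorem e7Comm_2_12208 : allRange 12208 12320 ((fun k => commOKk cdE7 reflE7 etaE7 witE7 (k / 126) (k % 126))) = true := by decide +kernel
theorem e7Comm_2_12320 : allRange 12320 12432 ((fun k => commOKk cdE7 reflE7 etaE7 witE7 (k / 126) (k % 126))) = true := by decide +kernel

/-- Steps of the derivation of the commutator formula of type E7 (roots 8288 to 12431). -/
theorem e7Comm_2 : ∀ r, 8288 ≤ r → r < 12432 → ((fun k => commOKk cdE7 reflE7 etaE7 witE7 (k / 126) (k % 126))) r = true := by
  intro r h1 h2
  by_cases c0 : r < 8400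
  · exact allRange_spec e7Comm_2_8288 r (by omega) c0
  by_cases c1 : r < 8512
  · exact allRange_spec e7Comm_2_8400 r (by omega) c1
  by_cases c2 : r < 8624
  · exact allRange_spec e7Comm_2_8512 r (by omega) c2
  by_cases c3 : r < 8736
  · exact allRange_spec e7Comm_2_8624 r (by omega) c3
  by_cases c4 : r < 8848
  · exact allRange_spec e7Comm_2_8736 r (by omega) c4
  by_cases c5 : r < 8960
  · exact allRange_spec e7Comm_2_8848 r (by omega) c5
  by_cases c6 : r < 9072
  · exact allRange_spec e7Comm_2_8960 r (by omega) c6
  by_cases c7 : r < 9184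
  · exact allRange_spec e7Comm_2_9072 r (by omega) c7
  by_cases c8 : r < 9296
  · exact allRange_spec e7Comm_2_9184 r (by omega) c8
  by_cases c9 : r < 9408
  · exact allRange_spec e7Comm_2_9296 r (by omega) c9
  by_cases c10 : r < 9520
  · exact allRange_spec e7Comm_2_9408 r (by omega) c10
  by_cases c11 : r < 9632
  · exact allRange_spec e7Comm_2_9520 r (by omega) c11
  by_cases c12 : r < 9744
  · exact allRange_spec e7Comm_2_9632 r (by omega) c12
  by_cases c13 : r < 9856
  · exact allRange_spec e7Comm_2_9744 r (by omega) c13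
  by_cases c14 : r < 9968
  · exact allRange_spec e7Comm_2_9856 r (by omega) c14
  by_cases c15 : r < 10080
  · exact allRange_spec e7Comm_2_9968 r (by omega) c15
  by_cases c16 : r < 10192
  · exact allRange_spec e7Comm_2_10080 r (by omega) c16
  by_cases c17 : r < 10304
  · exact allRange_spec e7Comm_2_10192 r (by omega) c17
  by_cases c18 : r < 10416
  · exact allRange_spec e7Comm_2_10304 r (by omega) c18
  by_cases c19 : r < 10528
  · exact allRange_spec e7Comm_2_10416 r (by omega) c19
  by_cases c20 : r < 10640
  · exact allRange_spec e7Comm_2_10528 r (by omega) c20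
  by_cases c21 : r < 10752
  · exact allRange_spec e7Comm_2_10640 r (by omega) c21
  by_cases c22 : r < 10864
  · exact allRange_spec e7Comm_2_10752 r (by omega) c22
  by_cases c23 : r < 10976
  · exact allRange_spec e7Comm_2_10864 r (by omega) c23
  by_cases c24 : r < 11088
  · exact allRange_spec e7Comm_2_10976 r (by omega) c24
  by_cases c25 : r < 11200
  · exact allRange_spec e7Comm_2_11088 r (by omega) c25
  by_cases c26 : r < 11312
  · exact allRange_spec e7Comm_2_11200 r (by omega) c26
  by_cases c27 : r < 11424
  · exact allRange_spec e7Comm_2_11312 r (by omega) c27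
  by_cases c28 : r < 11536
  · exact allRange_spec e7Comm_2_11424 r (by omega) c28
  by_cases c29 : r < 11648
  · exact allRange_spec e7Comm_2_11536 r (by omega) c29
  by_cases c30 : r < 11760
  · exact allRange_spec e7Comm_2_11648 r (by omega) c30
  by_cases c31 : r < 11872
  · exact allRange_spec e7Comm_2_11760 r (by omega) c31
  by_cases c32 : r < 11984
  · exact allRange_spec e7Comm_2_11872 r (by omega) c32
  by_cases c33 : r < 12096
  · exact allRange_spec e7Comm_2_11984 r (by omega) c33
  by_cases c34 : r < 12208
  · exact allRange_spec e7Comm_2_12096 r (by omega) c34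
  by_cases c35 : r < 12320
  · exact allRange_spec e7Comm_2_12208 r (by omega) c35
  exact allRange_spec e7Comm_2_12320 r (by omega) h2

end Cfsg.Agent.Lib.Helper3.ChevM
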