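import Cfsg.Agent.Lib.Helper3.ChevData.E7Rel
import Cfsg.Agent.Lib.Helper3.ChevData.E7Wit
set_option autoImplicit false
set_option maxRecDepth 1000000
set_option Elab.async false

namespace Cfsg.Agent.Lib.Helper3.ChevM

theorem e7Comm_3_12432 : allRange 12432 12544 ((fun k => commOKk cdE7 reflE7 etaE7 witE7 (k / 126) (k % 126))) = true := by decide +kernel
theorem e7Comm_3_12544 : allRange 12544 12656 ((fun k => commOKk cdE7 reflE7 etaE7 witE7 (k / 126) (k % 126))) = true := by decide +kernel
theorem e7Comm_3_12656 : allRange 12656 12768 ((fun k => commOKk cdE7 reflE7 etaE7 witE7 (k / 126) (k % 126))) = true := by decide +kernel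
theorem e7Comm_3_12768 : allRange 12768 12880 ((fun k => commOKk cdE7 reflE7 etaE7 witE7 (k / 126) (k % 126))) = true := by decide +kernel
theorem e7Comm_3_12880 : allRange 12880 12992 ((fun k => commOKk cdE7 reflE7 etaE7 witE7 (k / 126) (k % 126))) = true := by decide +kernel
theorem e7Comm_3_12992 : allRange 12992 13104 ((fun k => commOKk cdE7 reflE7 etaE7 witE7 (k / 126) (k % 126))) = true := by decide +kernel
theorem e7Comm_3_13104 : allRange 13104 13216 ((fun k => commOKk cdE7 reflE7 etaE7 witE7 (k / 126) (k % 126))) = true := by decide +kernel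
theorem e7Comm_3_13216 : allRange 13216 13328 ((fun k => commOKk cdE7 reflE7 etaE7 witE7 (k / 126) (k % 126))) = true := by decide +kernel
theorem e7Comm_3_13328 : allRange 13328 13440 ((fun k => commOKk cdE7 reflE7 etaE7 witE7 (k / 126) (k % 126))) = true := by decide +kernel
theorem e7Comm_3_13440 : allRange 13440 13552 ((fun k => commOKk cdE7 reflE7 etaE7 witE7 (k / 126) (k % 126))) = true := by decide +kernel
theorem e7Comm_3_13552 : allRange 13552 13664 ((fun k => commOKk cdE7 reflE7 etaE7 witE7 (k / 126) (k % 126))) = true := by decide +kernel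
theorem e7Comm_3_13664 : allRange 13664 13776 ((fun k => commOKk cdE7 reflE7 etaE7 witE7 (k / 126) (k % 126))) = true := by decide +kernel
theorem e7Comm_3_13776 : allRange 13776 13888 ((fun k => commOKk cdE7 reflE7 etaE7 witE7 (k / 126) (k % 126))) = true := by decide +kernel
theorem e7Comm_3_13888 : allRange 13888 14000 ((fun k => commOKk cdE7 reflE7 etaE7 witE7 (k / 126) (k % 126))) = true := by decide +kernel
theorem e7Comm_3_14000 : allRange 14000 14112 ((fun k => commOKk cdE7 reflE7 etaE7 witE7 (k / 126) (k % 126))) = true := by decide +kernel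
theorem e7Comm_3_14112 : allRange 14112 14224 ((fun k => commOKk cdE7 reflE7 etaE7 witE7 (k / 126) (k % 126))) = true := by decide +kernel
theorem e7Comm_3_14224 : allRange 14224 14336 ((fun k => commOKk cdE7 reflE7 etaE7 witE7 (k / 126) (k % 126))) = true := by decide +kernel
theorem e7Comm_3_14336 : allRange 14336 14448 ((fun k => commOKk cdE7 reflE7 etaE7 witE7 (k / 126) (k % 126))) = true := by decide +kernel
theorem e7Comm_3_14448 : allRange 14448 14560 ((fun k => commOKk cdE7 reflE7 etaE7 witE7 (k / 126) (k % 126))) = true := by decide +kernel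
theorem e7Comm_3_14560 : allRange 14560 14672 ((fun k => commOKk cdE7 reflE7 etaE7 witE7 (k / 126) (k % 126))) = true := by decide +kernel
theorem e7Comm_3_14672 : allRange 14672 14784 ((fun k => commOKk cdE7 reflE7 etaE7 witE7 (k / 126) (k % 126))) = true := by decide +kernel
theorem e7Comm_3_14784 : allRange 14784 14896 ((fun k => commOKk cdE7 reflE7 etaE7 witE7 (k / 126) (k % 126))) = true := by decide +kernel
theorem e7Comm_3_14896 : allRange 14896 15008 ((fun k => commOKk cdE7 reflE7 etaE7 witE7 (k / 126) (k % 126))) = true := by decide +kernel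
theorem e7Comm_3_15008 : allRange 15008 15120 ((fun k => commOKk cdE7 reflE7 etaE7 witE7 (k / 126) (k % 126))) = true := by decide +kernel
theorem e7Comm_3_15120 : allRange 15120 15232 ((fun k => commOKk cdE7 reflE7 etaE7 witE7 (k / 126) (k % 126))) = true := by decide +kernel
theorem e7Comm_3_15232 : allRange 15232 15344 ((fun k => commOKk cdE7 reflE7 etaE7 witE7 (k / 126) (k % 126))) = true := by decide +kernel
theorem e7Comm_3_15344 : allRange 15344 15456 ((fun k => commOKk cdE7 reflE7 etaE7 witE7 (k / 126) (k % 126))) = true := by decide +kernel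
theorem e7Comm_3_15456 : allRange 15456 15568 ((fun k => commOKk cdE7 reflE7 etaE7 witE7 (k / 126) (k % 126))) = true := by decide +kernel
theorem e7Comm_3_15568 : allRange 15568 15680 ((fun k => commOKk cdE7 reflE7 etaE7 witE7 (k / 126) (k % 126))) = true := by decide +kernel
theorem e7Comm_3_15680 : allRange 15680 15792 ((fun k => commOKk cdE7 reflE7 etaE7 witE7 (k / 126) (k % 126))) = true := by decide +kernel
theorem e7Comm_3_15792 : allRange 15792 15876 ((fun k => commOKk cdE7 reflE7 etaE7 witE7 (k / 126) (k % 126))) = true := by decide +kernel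

/-- Steps of the derivation of the commutator formula of type E7 (roots 12432 to 15875). -/
theorem e7Comm_3 : ∀ r, 12432 ≤ r → r < 15876 → ((fun k => commOKk cdE7 reflE7 etaE7 witE7 (k / 126) (k % 126))) r = true := by
  intro r h1 h2
  by_cases c0 : r < 12544
  · exact allRange_spec e7Comm_3_12432 r (by omega) c0
  by_cases c1 : r < 12656
  · exact allRange_spec e7Comm_3_12544 r (by omega) c1
  by_cases c2 : r < 12768
  · exact allRange_spec e7Comm_3_12656 r (by omega) c2
  by_cases c3 : r < 12880
  · exact allRange_spec e7Comm_3_12768 r (by omega) c3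
  by_cases c4 : r < 12992
  · exact allRange_spec e7Comm_3_12880 r (by omega) c4
  by_cases c5 : r < 13104
  · exact allRange_spec e7Comm_3_12992 r (by omega) c5
  by_cases c6 : r < 13216
  · exact allRange_spec e7Comm_3_13104 r (by omega) c6
  by_cases c7 : r < 13328
  · exact allRange_spec e7Comm_3_13216 r (by omega) c7
  by_cases c8 : r < 13440
  · exact allRange_spec e7Comm_3_13328 r (by omega) c8
  by_cases c9 : r < 13552
  · exact allRange_spec e7Comm_3_13440 r (by omega) c9
  by_cases c10 : r < 13664
  · exact allRange_spec e7Comm_3_13552 r (by omega) c10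
  by_cases c11 : r < 13776
  · exact allRange_spec e7Comm_3_13664 r (by omega) c11
  by_cases c12 : r < 13888
  · exact allRange_spec e7Comm_3_13776 r (by omega) c12
  by_cases c13 : r < 14000
  · exact allRange_spec e7Comm_3_13888 r (by omega) c13
  by_cases c14 : r < 14112
  · exact allRange_spec e7Comm_3_14000 r (by omega) c14
  by_cases c15 : r < 14224
  · exact allRange_spec e7Comm_3_14112 r (by omega) c15
  by_cases c16 : r < 14336
  · exact allRange_spec e7Comm_3_14224 r (by omega) c16
  by_cases c17 : r < 14448
  · exact allRange_spec e7Comm_3_14336 r (by omega) c17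
  by_cases c18 : r < 14560
  · exact allRange_spec e7Comm_3_14448 r (by omega) c18
  by_cases c19 : r < 14672
  · exact allRange_spec e7Comm_3_14560 r (by omega) c19
  by_cases c20 : r < 14784
  · exact allRange_spec e7Comm_3_14672 r (by omega) c20
  by_cases c21 : r < 14896
  · exact allRange_spec e7Comm_3_14784 r (by omega) c21
  by_cases c22 : r < 15008
  · exact allRange_spec e7Comm_3_14896 r (by omega) c22
  by_cases c23 : r < 15120
  · exact allRange_spec e7Comm_3_15008 r (by omega) c23
  by_cases c24 : r < 15232
  · exact allRange_spec e7Comm_3_15120 r (by omega) c24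
  by_cases c25 : r < 15344
  · exact allRange_spec e7Comm_3_15232 r (by omega) c25
  by_cases c26 : r < 15456
  · exact allRange_spec e7Comm_3_15344 r (by omega) c26
  by_cases c27 : r < 15568
  · exact allRange_spec e7Comm_3_15456 r (by omega) c27
  by_cases c28 : r < 15680
  · exact allRange_spec e7Comm_3_15568 r (by omega) c28
  by_cases c29 : r < 15792
  · exact allRange_spec e7Comm_3_15680 r (by omega) c29
  exact allRange_spec e7Comm_3_15792 r (by omega) h2

end Cfsg.Agent.Lib.Helper3.ChevM
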