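import Cfsg.Agent.Lib.Helper3.ChevData.E7CommA
import Cfsg.Agent.Lib.Helper3.ChevData.E7CommB
import Cfsg.Agent.Lib.Helper3.ChevData.E7CommC
import Cfsg.Agent.Lib.Helper3.ChevData.E7CommD
set_option autoImplicit false

namespace Cfsg.Agent.Lib.Helper3.ChevM

/-- Steps of the derivation of the commutator formula of type E7. -/
theorem e7Comm : ∀ r < 15876, ((fun k => commOKk cdE7 reflE7 etaE7 witE7 (k / 126) (k % 126))) r = true := by
  intro r hr
  by_cases h0 : r < 4144
  · exact e7Comm_0 r (by omega) h0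
  by_cases h1 : r < 8288
  · exact e7Comm_1 r (by omega) h1
  by_cases h2 : r < 12432
  · exact e7Comm_2 r (by omega) h2
  exact e7Comm_3 r (by omega) hr

end Cfsg.Agent.Lib.Helper3.ChevM
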