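import Cfsg.Agent.Lib.Helper3.ChevData.E7Rel
import Cfsg.Agent.Lib.Helper3.ChevData.E7Wit
set_option autoImplicit false
set_option maxRecDepth 1000000
set_option Elab.async false

namespace Cfsg.Agent.Lib.Helper3.ChevM

theorem e7Comm_0_0 : allRange 0 112 ((fun k => commOKk cdE7 reflE7 etaE7 witE7 (k / 126) (k % 126))) = true := by decide +kernel
theorem e7Comm_0_112 : allRange 112 224 ((fun k => commOKk cdE7 reflE7 etaE7 witE7 (k / 126) (k % 126))) = true := by decide +kernel
theorem e7Comm_0_224 : allRange 224 336 ((fun k => commOKk cdE7 reflE7 etaE7 witE7 (k / 126) (k % 126))) = true := by decide +kernel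
theorem e7Comm_0_336 : allRange 336 448 ((fun k => commOKk cdE7 reflE7 etaE7 witE7 (k / 126) (k % 126))) = true := by decide +kernel
theorem e7Comm_0_448 : allRange 448 560 ((fun k => commOKk cdE7 reflE7 etaE7 witE7 (k / 126) (k % 126))) = true := by decide +kernel
theorem e7Comm_0_560 : allRange 560 672 ((fun k => commOKk cdE7 reflE7 etaE7 witE7 (k / 126) (k % 126))) = true := by decide +kernel
theorem e7Comm_0_672 : allRange 672 784 ((fun k => commOKk cdE7 reflE7 etaE7 witE7 (k / 126) (k % 126))) = true := by decide +kernel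
theorem e7Comm_0_784 : allRange 784 896 ((fun k => commOKk cdE7 reflE7 etaE7 witE7 (k / 126) (k % 126))) = true := by decide +kernel
theorem e7Comm_0_896 : allRange 896 1008 ((fun k => commOKk cdE7 reflE7 etaE7 witE7 (k / 126) (k % 126))) = true := by decide +kernel
theorem e7Comm_0_1008 : allRange 1008 1120 ((fun k => commOKk cdE7 reflE7 etaE7 witE7 (k / 126) (k % 126))) = true := by decide +kernel
theorem e7Comm_0_1120 : allRange 1120 1232 ((fun k => commOKk cdE7 reflE7 etaE7 witE7 (k / 126) (k % 126))) = true := by decide +kernel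
theorem e7Comm_0_1232 : allRange 1232 1344 ((fun k => commOKk cdE7 reflE7 etaE7 witE7 (k / 126) (k % 126))) = true := by decide +kernel
theorem e7Comm_0_1344 : allRange 1344 1456 ((fun k => commOKk cdE7 reflE7 etaE7 witE7 (k / 126) (k % 126))) = true := by decide +kernel
theorem e7Comm_0_1456 : allRange 1456 1568 ((fun k => commOKk cdE7 reflE7 etaE7 witE7 (k / 126) (k % 126))) = true := by decide +kernel
theorem e7Comm_0_1568 : allRange 1568 1680 ((fun k => commOKk cdE7 reflE7 etaE7 witE7 (k / 126) (k % 126))) = true := by decide +kernel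
theorem e7Comm_0_1680 : allRange 1680 1792 ((fun k => commOKk cdE7 reflE7 etaE7 witE7 (k / 126) (k % 126))) = true := by decide +kernel
theorem e7Comm_0_1792 : allRange 1792 1904 ((fun k => commOKk cdE7 reflE7 etaE7 witE7 (k / 126) (k % 126))) = true := by decide +kernel
theorem e7Comm_0_1904 : allRange 1904 2016 ((fun k => commOKk cdE7 reflE7 etaE7 witE7 (k / 126) (k % 126))) = true := by decide +kernel
theorem e7Comm_0_2016 : allRange 2016 2128 ((fun k => commOKk cdE7 reflE7 etaE7 witE7 (k / 126) (k % 126))) = true := by decide +kernel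
theorem e7Comm_0_2128 : allRange 2128 2240 ((fun k => commOKk cdE7 reflE7 etaE7 witE7 (k / 126) (k % 126))) = true := by decide +kernel
theorem e7Comm_0_2240 : allRange 2240 2352 ((fun k => commOKk cdE7 reflE7 etaE7 witE7 (k / 126) (k % 126))) = true := by decide +kernel
theorem e7Comm_0_2352 : allRange 2352 2464 ((fun k => commOKk cdE7 reflE7 etaE7 witE7 (k / 126) (k % 126))) = true := by decide +kernel
theorem e7Comm_0_2464 : allRange 2464 2576 ((fun k => commOKk cdE7 reflE7 etaE7 witE7 (k / 126) (k % 126))) = true := by decide +kernel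
theorem e7Comm_0_2576 : allRange 2576 2688 ((fun k => commOKk cdE7 reflE7 etaE7 witE7 (k / 126) (k % 126))) = true := by decide +kernel
theorem e7Comm_0_2688 : allRange 2688 2800 ((fun k => commOKk cdE7 reflE7 etaE7 witE7 (k / 126) (k % 126))) = true := by decide +kernel
theorem e7Comm_0_2800 : allRange 2800 2912 ((fun k => commOKk cdE7 reflE7 etaE7 witE7 (k / 126) (k % 126))) = true := by decide +kernel
theorem e7Comm_0_2912 : allRange 2912 3024 ((fun k => commOKk cdE7 reflE7 etaE7 witE7 (k / 126) (k % 126))) = true := by decide +kernel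
theorem e7Comm_0_3024 : allRange 3024 3136 ((fun k => commOKk cdE7 reflE7 etaE7 witE7 (k / 126) (k % 126))) = true := by decide +kernel
theorem e7Comm_0_3136 : allRange 3136 3248 ((fun k => commOKk cdE7 reflE7 etaE7 witE7 (k / 126) (k % 126))) = true := by decide +kernel
theorem e7Comm_0_3248 : allRange 3248 3360 ((fun k => commOKk cdE7 reflE7 etaE7 witE7 (k / 126) (k % 126))) = true := by decide +kernel
theorem e7Comm_0_3360 : allRange 3360 3472 ((fun k => commOKk cdE7 reflE7 etaE7 witE7 (k / 126) (k % 126))) = true := by decide +kernel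
theorem e7Comm_0_3472 : allRange 3472 3584 ((fun k => commOKk cdE7 reflE7 etaE7 witE7 (k / 126) (k % 126))) = true := by decide +kernel
theorem e7Comm_0_3584 : allRange 3584 3696 ((fun k => commOKk cdE7 reflE7 etaE7 witE7 (k / 126) (k % 126))) = true := by decide +kernel
theorem e7Comm_0_3696 : allRange 3696 3808 ((fun k => commOKk cdE7 reflE7 etaE7 witE7 (k / 126) (k % 126))) = true := by decide +kernel
theorem e7Comm_0_3808 : allRange 3808 3920 ((fun k => commOKk cdE7 reflE7 etaE7 witE7 (k / 126) (k % 126))) = true := by decide +kernel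
theorem e7Comm_0_3920 : allRange 3920 4032 ((fun k => commOKk cdE7 reflE7 etaE7 witE7 (k / 126) (k % 126))) = true := by decide +kernel
theorem e7Comm_0_4032 : allRange 4032 4144 ((fun k => commOKk cdE7 reflE7 etaE7 witE7 (k / 126) (k % 126))) = true := by decide +kernel

/-- Steps of the derivation of the commutator formula of type E7 (roots 0 to 4143). -/
theorem e7Comm_0 : ∀ r, 0 ≤ r → r < 4144 → ((fun k => commOKk cdE7 reflE7 etaE7 witE7 (k / 126) (k % 126))) r = true := by
  intro r h1 h2
  by_cases c0 : r < 112
  · exact allRange_spec e7Comm_0_0 r (by omega) c0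
  by_cases c1 : r < 224
  · exact allRange_spec e7Comm_0_112 r (by omega) c1
  by_cases c2 : r < 336
  · exact allRange_spec e7Comm_0_224 r (by omega) c2
  by_cases c3 : r < 448
  · exact allRange_spec e7Comm_0_336 r (by omega) c3
  by_cases c4 : r < 560
  · exact allRange_spec e7Comm_0_448 r (by omega) c4
  by_cases c5 : r < 672
  · exact allRange_spec e7Comm_0_560 r (by omega) c5
  by_cases c6 : r < 784
  · exact allRange_spec e7Comm_0_672 r (by omega) c6
  by_cases c7 : r < 896
  · exact allRange_spec e7Comm_0_784 r (by omega) c7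
  by_cases c8 : r < 1008
  · exact allRange_spec e7Comm_0_896 r (by omega) c8
  by_cases c9 : r < 1120
  · exact allRange_spec e7Comm_0_1008 r (by omega) c9
  by_cases c10 : r < 1232
  · exact allRange_spec e7Comm_0_1120 r (by omega) c10
  by_cases c11 : r < 1344
  · exact allRange_spec e7Comm_0_1232 r (by omega) c11
  by_cases c12 : r < 1456
  · exact allRange_spec e7Comm_0_1344 r (by omega) c12
  by_cases c13 : r < 1568
  · exact allRange_spec e7Comm_0_1456 r (by omega) c13
  by_cases c14 : r < 1680
  · exact allRange_spec e7Comm_0_1568 r (by omega) c14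
  by_cases c15 : r < 1792
  · exact allRange_spec e7Comm_0_1680 r (by omega) c15
  by_cases c16 : r < 1904
  · exact allRange_spec e7Comm_0_1792 r (by omega) c16
  by_cases c17 : r < 2016
  · exact allRange_spec e7Comm_0_1904 r (by omega) c17
  by_cases c18 : r < 2128
  · exact allRange_spec e7Comm_0_2016 r (by omega) c18
  by_cases c19 : r < 2240
  · exact allRange_spec e7Comm_0_2128 r (by omega) c19
  by_cases c20 : r < 2352
  · exact allRange_spec e7Comm_0_2240 r (by omega) c20
  by_cases c21 : r < 2464
  · exact allRange_spec e7Comm_0_2352 r (by omega) c21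
  by_cases c22 : r < 2576
  · exact allRange_spec e7Comm_0_2464 r (by omega) c22
  by_cases c23 : r < 2688
  · exact allRange_spec e7Comm_0_2576 r (by omega) c23
  by_cases c24 : r < 2800
  · exact allRange_spec e7Comm_0_2688 r (by omega) c24
  by_cases c25 : r < 2912
  · exact allRange_spec e7Comm_0_2800 r (by omega) c25
  by_cases c26 : r < 3024
  · exact allRange_spec e7Comm_0_2912 r (by omega) c26
  by_cases c27 : r < 3136
  · exact allRange_spec e7Comm_0_3024 r (by omega) c27
  by_cases c28 : r < 3248
  · exact allRange_spec e7Comm_0_3136 r (by omega) c28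
  by_cases c29 : r < 3360
  · exact allRange_spec e7Comm_0_3248 r (by omega) c29
  by_cases c30 : r < 3472
  · exact allRange_spec e7Comm_0_3360 r (by omega) c30
  by_cases c31 : r < 3584
  · exact allRange_spec e7Comm_0_3472 r (by omega) c31
  by_cases c32 : r < 3696
  · exact allRange_spec e7Comm_0_3584 r (by omega) c32
  by_cases c33 : r < 3808
  · exact allRange_spec e7Comm_0_3696 r (by omega) c33
  by_cases c34 : r < 3920
  · exact allRange_spec e7Comm_0_3808 r (by omega) c34
  by_cases c35 : r < 4032
  · exact allRange_spec e7Comm_0_3920 r (by omega) c35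
  exact allRange_spec e7Comm_0_4032 r (by omega) h2

end Cfsg.Agent.Lib.Helper3.ChevM
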