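import Cfsg.Agent.Lib.Helper3.ChevData.E7Datum
import Cfsg.Agent.Lib.Helper3.ChevData.E7Tabs
import Cfsg.Agent.Lib.Helper3.ChevM7
set_option autoImplicit false
set_option maxRecDepth 1000000
set_option Elab.async false

namespace Cfsg.Agent.Lib.Helper3.ChevM

theorem e7Conj_0_0 : allRange 0 6 ((fun k => cdE7.checkConj (k / 126) (cdE7.cartI pairE7 (k / 126)) (reflE7 (k / 126)) (etaE7 (k / 126)) (k % 126))) = true := by decide +kernel
theorem e7Conj_0_6 : allRange 6 12 ((fun k => cdE7.checkConj (k / 126) (cdE7.cartI pairE7 (k / 126)) (reflE7 (k / 126)) (etaE7 (k / 126)) (k % 126))) = true := by decide +kernel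
theorem e7Conj_0_12 : allRange 12 18 ((fun k => cdE7.checkConj (k / 126) (cdE7.cartI pairE7 (k / 126)) (reflE7 (k / 126)) (etaE7 (k / 126)) (k % 126))) = true := by decide +kernel
theorem e7Conj_0_18 : allRange 18 24 ((fun k => cdE7.checkConj (k / 126) (cdE7.cartI pairE7 (k / 126)) (reflE7 (k / 126)) (etaE7 (k / 126)) (k % 126))) = true := by decide +kernel
theorem e7Conj_0_24 : allRange 24 30 ((fun k => cdE7.checkConj (k / 126) (cdE7.cartI pairE7 (k / 126)) (reflE7 (k / 126)) (etaE7 (k / 126)) (k % 126))) = true := by decide +kernel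
theorem e7Conj_0_30 : allRange 30 36 ((fun k => cdE7.checkConj (k / 126) (cdE7.cartI pairE7 (k / 126)) (reflE7 (k / 126)) (etaE7 (k / 126)) (k % 126))) = true := by decide +kernel
theorem e7Conj_0_36 : allRange 36 42 ((fun k => cdE7.checkConj (k / 126) (cdE7.cartI pairE7 (k / 126)) (reflE7 (k / 126)) (etaE7 (k / 126)) (k % 126))) = true := by decide +kernel
theorem e7Conj_0_42 : allRange 42 48 ((fun k => cdE7.checkConj (k / 126) (cdE7.cartI pairE7 (k / 126)) (reflE7 (k / 126)) (etaE7 (k / 126)) (k % 126))) = true := by decide +kernel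
theorem e7Conj_0_48 : allRange 48 54 ((fun k => cdE7.checkConj (k / 126) (cdE7.cartI pairE7 (k / 126)) (reflE7 (k / 126)) (etaE7 (k / 126)) (k % 126))) = true := by decide +kernel
theorem e7Conj_0_54 : allRange 54 60 ((fun k => cdE7.checkConj (k / 126) (cdE7.cartI pairE7 (k / 126)) (reflE7 (k / 126)) (etaE7 (k / 126)) (k % 126))) = true := by decide +kernel
theorem e7Conj_0_60 : allRange 60 66 ((fun k => cdE7.checkConj (k / 126) (cdE7.cartI pairE7 (k / 126)) (reflE7 (k / 126)) (etaE7 (k / 126)) (k % 126))) = true := by decide +kernel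
theorem e7Conj_0_66 : allRange 66 72 ((fun k => cdE7.checkConj (k / 126) (cdE7.cartI pairE7 (k / 126)) (reflE7 (k / 126)) (etaE7 (k / 126)) (k % 126))) = true := by decide +kernel
theorem e7Conj_0_72 : allRange 72 78 ((fun k => cdE7.checkConj (k / 126) (cdE7.cartI pairE7 (k / 126)) (reflE7 (k / 126)) (etaE7 (k / 126)) (k % 126))) = true := by decide +kernel
theorem e7Conj_0_78 : allRange 78 84 ((fun k => cdE7.checkConj (k / 126) (cdE7.cartI pairE7 (k / 126)) (reflE7 (k / 126)) (etaE7 (k / 126)) (k % 126))) = true := by decide +kernel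
theorem e7Conj_0_84 : allRange 84 90 ((fun k => cdE7.checkConj (k / 126) (cdE7.cartI pairE7 (k / 126)) (reflE7 (k / 126)) (etaE7 (k / 126)) (k % 126))) = true := by decide +kernel
theorem e7Conj_0_90 : allRange 90 96 ((fun k => cdE7.checkConj (k / 126) (cdE7.cartI pairE7 (k / 126)) (reflE7 (k / 126)) (etaE7 (k / 126)) (k % 126))) = true := by decide +kernel
theorem e7Conj_0_96 : allRange 96 102 ((fun k => cdE7.checkConj (k / 126) (cdE7.cartI pairE7 (k / 126)) (reflE7 (k / 126)) (etaE7 (k / 126)) (k % 126))) = true := by decide +kernel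
theorem e7Conj_0_102 : allRange 102 108 ((fun k => cdE7.checkConj (k / 126) (cdE7.cartI pairE7 (k / 126)) (reflE7 (k / 126)) (etaE7 (k / 126)) (k % 126))) = true := by decide +kernel
theorem e7Conj_0_108 : allRange 108 114 ((fun k => cdE7.checkConj (k / 126) (cdE7.cartI pairE7 (k / 126)) (reflE7 (k / 126)) (etaE7 (k / 126)) (k % 126))) = true := by decide +kernel
theorem e7Conj_0_114 : allRange 114 120 ((fun k => cdE7.checkConj (k / 126) (cdE7.cartI pairE7 (k / 126)) (reflE7 (k / 126)) (etaE7 (k / 126)) (k % 126))) = true := by decide +kernel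
theorem e7Conj_0_120 : allRange 120 126 ((fun k => cdE7.checkConj (k / 126) (cdE7.cartI pairE7 (k / 126)) (reflE7 (k / 126)) (etaE7 (k / 126)) (k % 126))) = true := by decide +kernel
theorem e7Conj_0_126 : allRange 126 132 ((fun k => cdE7.checkConj (k / 126) (cdE7.cartI pairE7 (k / 126)) (reflE7 (k / 126)) (etaE7 (k / 126)) (k % 126))) = true := by decide +kernel
theorem e7Conj_0_132 : allRange 132 138 ((fun k => cdE7.checkConj (k / 126) (cdE7.cartI pairE7 (k / 126)) (reflE7 (k / 126)) (etaE7 (k / 126)) (k % 126))) = true := by decide +kernel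
theorem e7Conj_0_138 : allRange 138 144 ((fun k => cdE7.checkConj (k / 126) (cdE7.cartI pairE7 (k / 126)) (reflE7 (k / 126)) (etaE7 (k / 126)) (k % 126))) = true := by decide +kernel
theorem e7Conj_0_144 : allRange 144 150 ((fun k => cdE7.checkConj (k / 126) (cdE7.cartI pairE7 (k / 126)) (reflE7 (k / 126)) (etaE7 (k / 126)) (k % 126))) = true := by decide +kernel
theorem e7Conj_0_150 : allRange 150 156 ((fun k => cdE7.checkConj (k / 126) (cdE7.cartI pairE7 (k / 126)) (reflE7 (k / 126)) (etaE7 (k / 126)) (k % 126))) = true := by decide +kernel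
theorem e7Conj_0_156 : allRange 156 162 ((fun k => cdE7.checkConj (k / 126) (cdE7.cartI pairE7 (k / 126)) (reflE7 (k / 126)) (etaE7 (k / 126)) (k % 126))) = true := by decide +kernel
theorem e7Conj_0_162 : allRange 162 168 ((fun k => cdE7.checkConj (k / 126) (cdE7.cartI pairE7 (k / 126)) (reflE7 (k / 126)) (etaE7 (k / 126)) (k % 126))) = true := by decide +kernel
theorem e7Conj_0_168 : allRange 168 174 ((fun k => cdE7.checkConj (k / 126) (cdE7.cartI pairE7 (k / 126)) (reflE7 (k / 126)) (etaE7 (k / 126)) (k % 126))) = true := by decide +kernel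
theorem e7Conj_0_174 : allRange 174 180 ((fun k => cdE7.checkConj (k / 126) (cdE7.cartI pairE7 (k / 126)) (reflE7 (k / 126)) (etaE7 (k / 126)) (k % 126))) = true := by decide +kernel
theorem e7Conj_0_180 : allRange 180 186 ((fun k => cdE7.checkConj (k / 126) (cdE7.cartI pairE7 (k / 126)) (reflE7 (k / 126)) (etaE7 (k / 126)) (k % 126))) = true := by decide +kernel
theorem e7Conj_0_186 : allRange 186 192 ((fun k => cdE7.checkConj (k / 126) (cdE7.cartI pairE7 (k / 126)) (reflE7 (k / 126)) (etaE7 (k / 126)) (k % 126))) = true := by decide +kernel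
theorem e7Conj_0_192 : allRange 192 198 ((fun k => cdE7.checkConj (k / 126) (cdE7.cartI pairE7 (k / 126)) (reflE7 (k / 126)) (etaE7 (k / 126)) (k % 126))) = true := by decide +kernel
theorem e7Conj_0_198 : allRange 198 204 ((fun k => cdE7.checkConj (k / 126) (cdE7.cartI pairE7 (k / 126)) (reflE7 (k / 126)) (etaE7 (k / 126)) (k % 126))) = true := by decide +kernel
theorem e7Conj_0_204 : allRange 204 210 ((fun k => cdE7.checkConj (k / 126) (cdE7.cartI pairE7 (k / 126)) (reflE7 (k / 126)) (etaE7 (k / 126)) (k % 126))) = true := by decide +kernel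
theorem e7Conj_0_210 : allRange 210 216 ((fun k => cdE7.checkConj (k / 126) (cdE7.cartI pairE7 (k / 126)) (reflE7 (k / 126)) (etaE7 (k / 126)) (k % 126))) = true := by decide +kernel
theorem e7Conj_0_216 : allRange 216 222 ((fun k => cdE7.checkConj (k / 126) (cdE7.cartI pairE7 (k / 126)) (reflE7 (k / 126)) (etaE7 (k / 126)) (k % 126))) = true := by decide +kernel

/-- Conjugation of root elements by the `n_p` of type E7 (roots 0 to 221). -/
theorem e7Conj_0 : ∀ r, 0 ≤ r → r < 222 → ((fun k => cdE7.checkConj (k / 126) (cdE7.cartI pairE7 (k / 126)) (reflE7 (k / 126)) (etaE7 (k / 126)) (k % 126))) r = true := by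
  intro r h1 h2
  by_cases c0 : r < 6
  · exact allRange_spec e7Conj_0_0 r (by omega) c0
  by_cases c1 : r < 12
  · exact allRange_spec e7Conj_0_6 r (by omega) c1
  by_cases c2 : r < 18
  · exact allRange_spec e7Conj_0_12 r (by omega) c2
  by_cases c3 : r < 24
  · exact allRange_spec e7Conj_0_18 r (by omega) c3
  by_cases c4 : r < 30
  · exact allRange_spec e7Conj_0_24 r (by omega) c4
  by_cases c5 : r < 36
  · exact allRange_spec e7Conj_0_30 r (by omega) c5
  by_cases c6 : r < 42
  · exact allRange_spec e7Conj_0_36 r (by omega) c6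
  by_cases c7 : r < 48
  · exact allRange_spec e7Conj_0_42 r (by omega) c7
  by_cases c8 : r < 54
  · exact allRange_spec e7Conj_0_48 r (by omega) c8
  by_cases c9 : r < 60
  · exact allRange_spec e7Conj_0_54 r (by omega) c9
  by_cases c10 : r < 66
  · exact allRange_spec e7Conj_0_60 r (by omega) c10
  by_cases c11 : r < 72
  · exact allRange_spec e7Conj_0_66 r (by omega) c11
  by_cases c12 : r < 78
  · exact allRange_spec e7Conj_0_72 r (by omega) c12
  by_cases c13 : r < 84
  · exact allRange_spec e7Conj_0_78 r (by omega) c13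
  by_cases c14 : r < 90
  · exact allRange_spec e7Conj_0_84 r (by omega) c14
  by_cases c15 : r < 96
  · exact allRange_spec e7Conj_0_90 r (by omega) c15
  by_cases c16 : r < 102
  · exact allRange_spec e7Conj_0_96 r (by omega) c16
  by_cases c17 : r < 108
  · exact allRange_spec e7Conj_0_102 r (by omega) c17
  by_cases c18 : r < 114
  · exact allRange_spec e7Conj_0_108 r (by omega) c18
  by_cases c19 : r < 120
  · exact allRange_spec e7Conj_0_114 r (by omega) c19
  by_cases c20 : r < 126
  · exact allRange_spec e7Conj_0_120 r (by omega) c20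
  by_cases c21 : r < 132
  · exact allRange_spec e7Conj_0_126 r (by omega) c21
  by_cases c22 : r < 138
  · exact allRange_spec e7Conj_0_132 r (by omega) c22
  by_cases c23 : r < 144
  · exact allRange_spec e7Conj_0_138 r (by omega) c23
  by_cases c24 : r < 150
  · exact allRange_spec e7Conj_0_144 r (by omega) c24
  by_cases c25 : r < 156
  · exact allRange_spec e7Conj_0_150 r (by omega) c25
  by_cases c26 : r < 162
  · exact allRange_spec e7Conj_0_156 r (by omega) c26
  by_cases c27 : r < 168
  · exact allRange_spec e7Conj_0_162 r (by omega) c27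
  by_cases c28 : r < 174
  · exact allRange_spec e7Conj_0_168 r (by omega) c28
  by_cases c29 : r < 180
  · exact allRange_spec e7Conj_0_174 r (by omega) c29
  by_cases c30 : r < 186
  · exact allRange_spec e7Conj_0_180 r (by omega) c30
  by_cases c31 : r < 192
  · exact allRange_spec e7Conj_0_186 r (by omega) c31
  by_cases c32 : r < 198
  · exact allRange_spec e7Conj_0_192 r (by omega) c32
  by_cases c33 : r < 204
  · exact allRange_spec e7Conj_0_198 r (by omega) c33
  by_cases c34 : r < 210
  · exact allRange_spec e7Conj_0_204 r (by omega) c34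
  by_cases c35 : r < 216
  · exact allRange_spec e7Conj_0_210 r (by omega) c35
  exact allRange_spec e7Conj_0_216 r (by omega) h2

end Cfsg.Agent.Lib.Helper3.ChevM
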