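import Cfsg.Agent.Lib.Helper3.ChevData.E7Bn
import Cfsg.Agent.Lib.Helper3.ChevData.E7Sign
import Cfsg.Agent.Lib.Helper3.ChevData.E7Poin
import Cfsg.Agent.Lib.Helper3.Cox3
set_option autoImplicit false
set_option maxRecDepth 1000000
open Cfsg Cfsg.Lie

namespace Cfsg.Agent.Lib.Helper3.ChevM

/-- The orders of the products of two fundamental reflections of type E7. -/
theorem e7CoxOrd : ∀ i j : Fin cdE7.D.rank,
    wordOrdCheck cdE7.D relE7.refl [i.val, j.val] ((CoxeterMatrix.E₇ : CoxeterMatrix (Fin 7)) i j) = true := by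
  decide +kernel

/-- The order of the Coxeter group of type E7. -/
theorem e7CoxCard : Nat.card (CoxeterMatrix.E₇ : CoxeterMatrix (Fin 7)).Group = 2903040 := by
  refine (monoE7.card_coxeter bnE7.dec e7Sign (CoxeterMatrix.E₇) e7CoxOrd).trans ?_
  rw [e7Poin]
  rfl

/-- The order of the Coxeter element of type E7. -/
theorem e7CoxEl : orderOf ((List.finRange 7).map (CoxeterMatrix.E₇ : CoxeterMatrix (Fin 7)).simple).prod = 18 :=
  monoE7.orderOf_coxeter bnE7.dec e7Sign (CoxeterMatrix.E₇) e7CoxOrd (List.finRange 7) 18 (by decide +kernel)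

/-- The homomorphism from `N` onto the Coxeter group of type E7, with kernel `H`. -/
theorem e7WeylHom {F : Type*} [Field F] :
    ∃ φ : ↥(cdE7.D.monomialSubgroup F) →* (CoxeterMatrix.E₇ : CoxeterMatrix (Fin 7)).Group, Function.Surjective φ ∧
      φ.ker = (cdE7.D.diagonalSubgroup F).subgroupOf (cdE7.D.monomialSubgroup F) ∧
      ∀ (i : Fin 7) (g : ↥(cdE7.D.monomialSubgroup F)),
        ((g : GL cdE7.D.Idx F) : Matrix cdE7.D.Idx cdE7.D.Idx F) = cdE7.D.nMat F (cdE7.D.simple i.val) 1 →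
          φ g = (CoxeterMatrix.E₇ : CoxeterMatrix (Fin 7)).simple i := by
  obtain ⟨φ, h1, h2, h3⟩ := monoE7.exists_weylHom (F := F) bnE7.dec
  let e : monoE7.weyl ≃* (CoxeterMatrix.E₇ : CoxeterMatrix (Fin 7)).Group :=
    monoE7.coxEquiv bnE7.dec e7Sign (CoxeterMatrix.E₇) e7CoxOrd
  refine ⟨e.toMonoidHom.comp φ, e.surjective.comp h1, ?_, ?_⟩
  · rw [← h2]
    ext g
    rw [MonoidHom.mem_ker, MonoidHom.mem_ker, MonoidHom.comp_apply]
    exact (MulEquiv.map_eq_one_iff e)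
  · intro i g hg
    rw [MonoidHom.comp_apply, h3 i g hg]
    exact monoE7.coxEquiv_apply bnE7.dec e7Sign (CoxeterMatrix.E₇) e7CoxOrd i

end Cfsg.Agent.Lib.Helper3.ChevM
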