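import Cfsg.Agent.Lib.Helper3.Cox6
import Cfsg.Agent.Lib.Helper3.ChevData.E7Cox
set_option autoImplicit false
set_option maxRecDepth 1000000
open Cfsg Cfsg.Lie

namespace Cfsg.Agent.Lib.Helper3.ChevM

theorem e7CoxT1 : ∀ i < 7, ∀ s < 126, reflNegCheck cdE7.D relE7.refl i s = true := by
  decide +kernel

theorem e7CoxT2_0 : ((List.range 126).all fun r => (List.range 126).all fun s =>
    pairInvCheck relE7.pair relE7.refl 0 r s) = true := by
  decide +kernel

theorem e7CoxT2_1 : ((List.range 126).all fun r => (List.range 126).all fun s =>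
    pairInvCheck relE7.pair relE7.refl 1 r s) = true := by
  decide +kernel

theorem e7CoxT2_2 : ((List.range 126).all fun r => (List.range 126).all fun s =>
    pairInvCheck relE7.pair relE7.refl 2 r s) = true := by
  decide +kernel

theorem e7CoxT2_3 : ((List.range 126).all fun r => (List.range 126).all fun s =>
    pairInvCheck relE7.pair relE7.refl 3 r s) = true := by
  decide +kernel

theorem e7CoxT2_4 : ((List.range 126).all fun r => (List.range 126).all fun s =>
    pairInvCheck relE7.pair relE7.refl 4 r s) = true := by
  decide +kernel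

theorem e7CoxT2_5 : ((List.range 126).all fun r => (List.range 126).all fun s =>
    pairInvCheck relE7.pair relE7.refl 5 r s) = true := by
  decide +kernel

theorem e7CoxT2_6 : ((List.range 126).all fun r => (List.range 126).all fun s =>
    pairInvCheck relE7.pair relE7.refl 6 r s) = true := by
  decide +kernel

theorem e7CoxT2 : ∀ i < 7, ∀ r < 126, ∀ s < 126, pairInvCheck relE7.pair relE7.refl i r s = true := by
  intro i hi
  interval_cases i
  · exact all_range2 _ _ e7CoxT2_0
  · exact all_range2 _ _ e7CoxT2_1
  · exact all_range2 _ _ e7CoxT2_2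
  · exact all_range2 _ _ e7CoxT2_3
  · exact all_range2 _ _ e7CoxT2_4
  · exact all_range2 _ _ e7CoxT2_5
  · exact all_range2 _ _ e7CoxT2_6

theorem e7CoxT3 : ∀ i < 7, ∀ j < 7, pairNegCheck cdE7.D relE7.pair i j = true := by
  decide +kernel

theorem e7CoxT4 : connCheck cdE7.D relE7.pair = true := by
  decide +kernel

theorem e7CoxNegW : negWordCheck cdE7.D relE7.refl (List.replicate 9 (List.range 7)).flatten = true := by
  decide +kernel

end Cfsg.Agent.Lib.Helper3.ChevM
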