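import Cfsg.Prelude.Def_ChevE7
import Cfsg.Agent.Lib.Helper3.ChevData.E7Hd2
import Cfsg.Agent.Lib.Helper3.ChevL2
set_option autoImplicit false
set_option maxRecDepth 1000000
set_option Elab.async false

namespace Cfsg.Agent.Lib.Helper3.ChevM

theorem e7Cv_0_0 : allRange 0 126 (fun k => commVecCheck Cfsg.Lie.chevE7 vecE7 (k / 126) (k % 126)) = true := by decide +kernel
theorem e7Cv_0_126 : allRange 126 252 (fun k => commVecCheck Cfsg.Lie.chevE7 vecE7 (k / 126) (k % 126)) = true := by decide +kernel
theorem e7Cv_0_252 : allRange 252 378 (fun k => commVecCheck Cfsg.Lie.chevE7 vecE7 (k / 126) (k % 126)) = true := by decide +kernel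
theorem e7Cv_0_378 : allRange 378 504 (fun k => commVecCheck Cfsg.Lie.chevE7 vecE7 (k / 126) (k % 126)) = true := by decide +kernel
theorem e7Cv_0_504 : allRange 504 630 (fun k => commVecCheck Cfsg.Lie.chevE7 vecE7 (k / 126) (k % 126)) = true := by decide +kernel
theorem e7Cv_0_630 : allRange 630 756 (fun k => commVecCheck Cfsg.Lie.chevE7 vecE7 (k / 126) (k % 126)) = true := by decide +kernel
theorem e7Cv_0_756 : allRange 756 882 (fun k => commVecCheck Cfsg.Lie.chevE7 vecE7 (k / 126) (k % 126)) = true := by decide +kernel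
theorem e7Cv_0_882 : allRange 882 1008 (fun k => commVecCheck Cfsg.Lie.chevE7 vecE7 (k / 126) (k % 126)) = true := by decide +kernel
theorem e7Cv_0_1008 : allRange 1008 1134 (fun k => commVecCheck Cfsg.Lie.chevE7 vecE7 (k / 126) (k % 126)) = true := by decide +kernel
theorem e7Cv_0_1134 : allRange 1134 1260 (fun k => commVecCheck Cfsg.Lie.chevE7 vecE7 (k / 126) (k % 126)) = true := by decide +kernel

/-- The roots of the commutator formula of type E7 are the expected combinations (roots 0 to 1259). -/
theorem e7Cv_0 : ∀ r, 0 ≤ r → r < 1260 → (fun k => commVecCheck Cfsg.Lie.chevE7 vecE7 (k / 126) (k % 126)) r = true := by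
  intro r h1 h2
  by_cases c0 : r < 126
  · exact allRange_spec e7Cv_0_0 r (by omega) c0
  by_cases c1 : r < 252
  · exact allRange_spec e7Cv_0_126 r (by omega) c1
  by_cases c2 : r < 378
  · exact allRange_spec e7Cv_0_252 r (by omega) c2
  by_cases c3 : r < 504
  · exact allRange_spec e7Cv_0_378 r (by omega) c3
  by_cases c4 : r < 630
  · exact allRange_spec e7Cv_0_504 r (by omega) c4
  by_cases c5 : r < 756
  · exact allRange_spec e7Cv_0_630 r (by omega) c5
  by_cases c6 : r < 882
  · exact allRange_spec e7Cv_0_756 r (by omega) c6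
  by_cases c7 : r < 1008
  · exact allRange_spec e7Cv_0_882 r (by omega) c7
  by_cases c8 : r < 1134
  · exact allRange_spec e7Cv_0_1008 r (by omega) c8
  exact allRange_spec e7Cv_0_1134 r (by omega) h2

end Cfsg.Agent.Lib.Helper3.ChevM
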