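import Cfsg.Prelude.Def_ChevE7
import Cfsg.Agent.Lib.Helper3.ChevData.E7Hd2
import Cfsg.Agent.Lib.Helper3.ChevL2
set_option autoImplicit false
set_option maxRecDepth 1000000
set_option Elab.async false

namespace Cfsg.Agent.Lib.Helper3.ChevM

theorem e7Cv_10_12600 : allRange 12600 12726 (fun k => commVecCheck Cfsg.Lie.chevE7 vecE7 (k / 126) (k % 126)) = true := by decide +kernel
theorem e7Cv_10_12726 : allRange 12726 12852 (fun k => commVecCheck Cfsg.Lie.chevE7 vecE7 (k / 126) (k % 126)) = true := by decide +kernel
theorem e7Cv_10_12852 : allRange 12852 12978 (fun k => commVecCheck Cfsg.Lie.chevE7 vecE7 (k / 126) (k % 126)) = true := by decide +kernel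
theorem e7Cv_10_12978 : allRange 12978 13104 (fun k => commVecCheck Cfsg.Lie.chevE7 vecE7 (k / 126) (k % 126)) = true := by decide +kernel
theorem e7Cv_10_13104 : allRange 13104 13230 (fun k => commVecCheck Cfsg.Lie.chevE7 vecE7 (k / 126) (k % 126)) = true := by decide +kernel
theorem e7Cv_10_13230 : allRange 13230 13356 (fun k => commVecCheck Cfsg.Lie.chevE7 vecE7 (k / 126) (k % 126)) = true := by decide +kernel
theorem e7Cv_10_13356 : allRange 13356 13482 (fun k => commVecCheck Cfsg.Lie.chevE7 vecE7 (k / 126) (k % 126)) = true := by decide +kernel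
theorem e7Cv_10_13482 : allRange 13482 13608 (fun k => commVecCheck Cfsg.Lie.chevE7 vecE7 (k / 126) (k % 126)) = true := by decide +kernel
theorem e7Cv_10_13608 : allRange 13608 13734 (fun k => commVecCheck Cfsg.Lie.chevE7 vecE7 (k / 126) (k % 126)) = true := by decide +kernel
theorem e7Cv_10_13734 : allRange 13734 13860 (fun k => commVecCheck Cfsg.Lie.chevE7 vecE7 (k / 126) (k % 126)) = true := by decide +kernel

/-- The roots of the commutator formula of type E7 are the expected combinations (roots 12600 to 13859). -/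
theorem e7Cv_10 : ∀ r, 12600 ≤ r → r < 13860 → (fun k => commVecCheck Cfsg.Lie.chevE7 vecE7 (k / 126) (k % 126)) r = true := by
  intro r h1 h2
  by_cases c0 : r < 12726
  · exact allRange_spec e7Cv_10_12600 r (by omega) c0
  by_cases c1 : r < 12852
  · exact allRange_spec e7Cv_10_12726 r (by omega) c1
  by_cases c2 : r < 12978
  · exact allRange_spec e7Cv_10_12852 r (by omega) c2
  by_cases c3 : r < 13104
  · exact allRange_spec e7Cv_10_12978 r (by omega) c3
  by_cases c4 : r < 13230
  · exact allRange_spec e7Cv_10_13104 r (by omega) c4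
  by_cases c5 : r < 13356
  · exact allRange_spec e7Cv_10_13230 r (by omega) c5
  by_cases c6 : r < 13482
  · exact allRange_spec e7Cv_10_13356 r (by omega) c6
  by_cases c7 : r < 13608
  · exact allRange_spec e7Cv_10_13482 r (by omega) c7
  by_cases c8 : r < 13734
  · exact allRange_spec e7Cv_10_13608 r (by omega) c8
  exact allRange_spec e7Cv_10_13734 r (by omega) h2

end Cfsg.Agent.Lib.Helper3.ChevM
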