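import Cfsg.Agent.Lib.Helper3.ChevData.E7Datum
import Cfsg.Agent.Lib.Helper3.ChevData.E7Tabs
import Cfsg.Agent.Lib.Helper3.ChevM7
set_option autoImplicit false
set_option maxRecDepth 1000000
set_option Elab.async false

namespace Cfsg.Agent.Lib.Helper3.ChevM

theorem e7Dx_0_0 : allRange 0 8 ((fun k => cdE7.checkDX (cdE7.expo pairE7 (Cfsg.Lie.chevE7.simple (k / 126))) (pairE7 (Cfsg.Lie.chevE7.simple (k / 126)) (k % 126)) (k % 126))) = true := by decide +kernel
theorem e7Dx_0_8 : allRange 8 16 ((fun k => cdE7.checkDX (cdE7.expo pairE7 (Cfsg.Lie.chevE7.simple (k / 126))) (pairE7 (Cfsg.Lie.chevE7.simple (k / 126)) (k % 126)) (k % 126))) = true := by decide +kernel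
theorem e7Dx_0_16 : allRange 16 24 ((fun k => cdE7.checkDX (cdE7.expo pairE7 (Cfsg.Lie.chevE7.simple (k / 126))) (pairE7 (Cfsg.Lie.chevE7.simple (k / 126)) (k % 126)) (k % 126))) = true := by decide +kernel
theorem e7Dx_0_24 : allRange 24 32 ((fun k => cdE7.checkDX (cdE7.expo pairE7 (Cfsg.Lie.chevE7.simple (k / 126))) (pairE7 (Cfsg.Lie.chevE7.simple (k / 126)) (k % 126)) (k % 126))) = true := by decide +kernel
theorem e7Dx_0_32 : allRange 32 40 ((fun k => cdE7.checkDX (cdE7.expo pairE7 (Cfsg.Lie.chevE7.simple (k / 126))) (pairE7 (Cfsg.Lie.chevE7.simple (k / 126)) (k % 126)) (k % 126))) = true := by decide +kernel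
theorem e7Dx_0_40 : allRange 40 48 ((fun k => cdE7.checkDX (cdE7.expo pairE7 (Cfsg.Lie.chevE7.simple (k / 126))) (pairE7 (Cfsg.Lie.chevE7.simple (k / 126)) (k % 126)) (k % 126))) = true := by decide +kernel
theorem e7Dx_0_48 : allRange 48 56 ((fun k => cdE7.checkDX (cdE7.expo pairE7 (Cfsg.Lie.chevE7.simple (k / 126))) (pairE7 (Cfsg.Lie.chevE7.simple (k / 126)) (k % 126)) (k % 126))) = true := by decide +kernel
theorem e7Dx_0_56 : allRange 56 64 ((fun k => cdE7.checkDX (cdE7.expo pairE7 (Cfsg.Lie.chevE7.simple (k / 126))) (pairE7 (Cfsg.Lie.chevE7.simple (k / 126)) (k % 126)) (k % 126))) = true := by decide +kernel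
theorem e7Dx_0_64 : allRange 64 72 ((fun k => cdE7.checkDX (cdE7.expo pairE7 (Cfsg.Lie.chevE7.simple (k / 126))) (pairE7 (Cfsg.Lie.chevE7.simple (k / 126)) (k % 126)) (k % 126))) = true := by decide +kernel
theorem e7Dx_0_72 : allRange 72 80 ((fun k => cdE7.checkDX (cdE7.expo pairE7 (Cfsg.Lie.chevE7.simple (k / 126))) (pairE7 (Cfsg.Lie.chevE7.simple (k / 126)) (k % 126)) (k % 126))) = true := by decide +kernel
theorem e7Dx_0_80 : allRange 80 88 ((fun k => cdE7.checkDX (cdE7.expo pairE7 (Cfsg.Lie.chevE7.simple (k / 126))) (pairE7 (Cfsg.Lie.chevE7.simple (k / 126)) (k % 126)) (k % 126))) = true := by decide +kernel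
theorem e7Dx_0_88 : allRange 88 96 ((fun k => cdE7.checkDX (cdE7.expo pairE7 (Cfsg.Lie.chevE7.simple (k / 126))) (pairE7 (Cfsg.Lie.chevE7.simple (k / 126)) (k % 126)) (k % 126))) = true := by decide +kernel
theorem e7Dx_0_96 : allRange 96 104 ((fun k => cdE7.checkDX (cdE7.expo pairE7 (Cfsg.Lie.chevE7.simple (k / 126))) (pairE7 (Cfsg.Lie.chevE7.simple (k / 126)) (k % 126)) (k % 126))) = true := by decide +kernel
theorem e7Dx_0_104 : allRange 104 112 ((fun k => cdE7.checkDX (cdE7.expo pairE7 (Cfsg.Lie.chevE7.simple (k / 126))) (pairE7 (Cfsg.Lie.chevE7.simple (k / 126)) (k % 126)) (k % 126))) = true := by decide +kernel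
theorem e7Dx_0_112 : allRange 112 120 ((fun k => cdE7.checkDX (cdE7.expo pairE7 (Cfsg.Lie.chevE7.simple (k / 126))) (pairE7 (Cfsg.Lie.chevE7.simple (k / 126)) (k % 126)) (k % 126))) = true := by decide +kernel
theorem e7Dx_0_120 : allRange 120 128 ((fun k => cdE7.checkDX (cdE7.expo pairE7 (Cfsg.Lie.chevE7.simple (k / 126))) (pairE7 (Cfsg.Lie.chevE7.simple (k / 126)) (k % 126)) (k % 126))) = true := by decide +kernel
theorem e7Dx_0_128 : allRange 128 136 ((fun k => cdE7.checkDX (cdE7.expo pairE7 (Cfsg.Lie.chevE7.simple (k / 126))) (pairE7 (Cfsg.Lie.chevE7.simple (k / 126)) (k % 126)) (k % 126))) = true := by decide +kernel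
theorem e7Dx_0_136 : allRange 136 144 ((fun k => cdE7.checkDX (cdE7.expo pairE7 (Cfsg.Lie.chevE7.simple (k / 126))) (pairE7 (Cfsg.Lie.chevE7.simple (k / 126)) (k % 126)) (k % 126))) = true := by decide +kernel
theorem e7Dx_0_144 : allRange 144 152 ((fun k => cdE7.checkDX (cdE7.expo pairE7 (Cfsg.Lie.chevE7.simple (k / 126))) (pairE7 (Cfsg.Lie.chevE7.simple (k / 126)) (k % 126)) (k % 126))) = true := by decide +kernel
theorem e7Dx_0_152 : allRange 152 160 ((fun k => cdE7.checkDX (cdE7.expo pairE7 (Cfsg.Lie.chevE7.simple (k / 126))) (pairE7 (Cfsg.Lie.chevE7.simple (k / 126)) (k % 126)) (k % 126))) = true := by decide +kernel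
theorem e7Dx_0_160 : allRange 160 168 ((fun k => cdE7.checkDX (cdE7.expo pairE7 (Cfsg.Lie.chevE7.simple (k / 126))) (pairE7 (Cfsg.Lie.chevE7.simple (k / 126)) (k % 126)) (k % 126))) = true := by decide +kernel
theorem e7Dx_0_168 : allRange 168 176 ((fun k => cdE7.checkDX (cdE7.expo pairE7 (Cfsg.Lie.chevE7.simple (k / 126))) (pairE7 (Cfsg.Lie.chevE7.simple (k / 126)) (k % 126)) (k % 126))) = true := by decide +kernel
theorem e7Dx_0_176 : allRange 176 184 ((fun k => cdE7.checkDX (cdE7.expo pairE7 (Cfsg.Lie.chevE7.simple (k / 126))) (pairE7 (Cfsg.Lie.chevE7.simple (k / 126)) (k % 126)) (k % 126))) = true := by decide +kernel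
theorem e7Dx_0_184 : allRange 184 192 ((fun k => cdE7.checkDX (cdE7.expo pairE7 (Cfsg.Lie.chevE7.simple (k / 126))) (pairE7 (Cfsg.Lie.chevE7.simple (k / 126)) (k % 126)) (k % 126))) = true := by decide +kernel
theorem e7Dx_0_192 : allRange 192 200 ((fun k => cdE7.checkDX (cdE7.expo pairE7 (Cfsg.Lie.chevE7.simple (k / 126))) (pairE7 (Cfsg.Lie.chevE7.simple (k / 126)) (k % 126)) (k % 126))) = true := by decide +kernel
theorem e7Dx_0_200 : allRange 200 208 ((fun k => cdE7.checkDX (cdE7.expo pairE7 (Cfsg.Lie.chevE7.simple (k / 126))) (pairE7 (Cfsg.Lie.chevE7.simple (k / 126)) (k % 126)) (k % 126))) = true := by decide +kernel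
theorem e7Dx_0_208 : allRange 208 216 ((fun k => cdE7.checkDX (cdE7.expo pairE7 (Cfsg.Lie.chevE7.simple (k / 126))) (pairE7 (Cfsg.Lie.chevE7.simple (k / 126)) (k % 126)) (k % 126))) = true := by decide +kernel
theorem e7Dx_0_216 : allRange 216 224 ((fun k => cdE7.checkDX (cdE7.expo pairE7 (Cfsg.Lie.chevE7.simple (k / 126))) (pairE7 (Cfsg.Lie.chevE7.simple (k / 126)) (k % 126)) (k % 126))) = true := by decide +kernel
theorem e7Dx_0_224 : allRange 224 232 ((fun k => cdE7.checkDX (cdE7.expo pairE7 (Cfsg.Lie.chevE7.simple (k / 126))) (pairE7 (Cfsg.Lie.chevE7.simple (k / 126)) (k % 126)) (k % 126))) = true := by decide +kernel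
theorem e7Dx_0_232 : allRange 232 240 ((fun k => cdE7.checkDX (cdE7.expo pairE7 (Cfsg.Lie.chevE7.simple (k / 126))) (pairE7 (Cfsg.Lie.chevE7.simple (k / 126)) (k % 126)) (k % 126))) = true := by decide +kernel
theorem e7Dx_0_240 : allRange 240 248 ((fun k => cdE7.checkDX (cdE7.expo pairE7 (Cfsg.Lie.chevE7.simple (k / 126))) (pairE7 (Cfsg.Lie.chevE7.simple (k / 126)) (k % 126)) (k % 126))) = true := by decide +kernel
theorem e7Dx_0_248 : allRange 248 256 ((fun k => cdE7.checkDX (cdE7.expo pairE7 (Cfsg.Lie.chevE7.simple (k / 126))) (pairE7 (Cfsg.Lie.chevE7.simple (k / 126)) (k % 126)) (k % 126))) = true := by decide +kernel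
theorem e7Dx_0_256 : allRange 256 264 ((fun k => cdE7.checkDX (cdE7.expo pairE7 (Cfsg.Lie.chevE7.simple (k / 126))) (pairE7 (Cfsg.Lie.chevE7.simple (k / 126)) (k % 126)) (k % 126))) = true := by decide +kernel
theorem e7Dx_0_264 : allRange 264 272 ((fun k => cdE7.checkDX (cdE7.expo pairE7 (Cfsg.Lie.chevE7.simple (k / 126))) (pairE7 (Cfsg.Lie.chevE7.simple (k / 126)) (k % 126)) (k % 126))) = true := by decide +kernel
theorem e7Dx_0_272 : allRange 272 280 ((fun k => cdE7.checkDX (cdE7.expo pairE7 (Cfsg.Lie.chevE7.simple (k / 126))) (pairE7 (Cfsg.Lie.chevE7.simple (k / 126)) (k % 126)) (k % 126))) = true := by decide +kernel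
theorem e7Dx_0_280 : allRange 280 288 ((fun k => cdE7.checkDX (cdE7.expo pairE7 (Cfsg.Lie.chevE7.simple (k / 126))) (pairE7 (Cfsg.Lie.chevE7.simple (k / 126)) (k % 126)) (k % 126))) = true := by decide +kernel
theorem e7Dx_0_288 : allRange 288 296 ((fun k => cdE7.checkDX (cdE7.expo pairE7 (Cfsg.Lie.chevE7.simple (k / 126))) (pairE7 (Cfsg.Lie.chevE7.simple (k / 126)) (k % 126)) (k % 126))) = true := by decide +kernel
theorem e7Dx_0_296 : allRange 296 304 ((fun k => cdE7.checkDX (cdE7.expo pairE7 (Cfsg.Lie.chevE7.simple (k / 126))) (pairE7 (Cfsg.Lie.chevE7.simple (k / 126)) (k % 126)) (k % 126))) = true := by decide +kernel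
theorem e7Dx_0_304 : allRange 304 312 ((fun k => cdE7.checkDX (cdE7.expo pairE7 (Cfsg.Lie.chevE7.simple (k / 126))) (pairE7 (Cfsg.Lie.chevE7.simple (k / 126)) (k % 126)) (k % 126))) = true := by decide +kernel
theorem e7Dx_0_312 : allRange 312 320 ((fun k => cdE7.checkDX (cdE7.expo pairE7 (Cfsg.Lie.chevE7.simple (k / 126))) (pairE7 (Cfsg.Lie.chevE7.simple (k / 126)) (k % 126)) (k % 126))) = true := by decide +kernel

/-- Conjugation of root elements by the `h_p(c)` of type E7 (roots 0 to 319). -/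
theorem e7Dx_0 : ∀ r, 0 ≤ r → r < 320 → ((fun k => cdE7.checkDX (cdE7.expo pairE7 (Cfsg.Lie.chevE7.simple (k / 126))) (pairE7 (Cfsg.Lie.chevE7.simple (k / 126)) (k % 126)) (k % 126))) r = true := by
  intro r h1 h2
  by_cases c0 : r < 8
  · exact allRange_spec e7Dx_0_0 r (by omega) c0
  by_cases c1 : r < 16
  · exact allRange_spec e7Dx_0_8 r (by omega) c1
  by_cases c2 : r < 24
  · exact allRange_spec e7Dx_0_16 r (by omega) c2
  by_cases c3 : r < 32
  · exact allRange_spec e7Dx_0_24 r (by omega) c3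
  by_cases c4 : r < 40
  · exact allRange_spec e7Dx_0_32 r (by omega) c4
  by_cases c5 : r < 48
  · exact allRange_spec e7Dx_0_40 r (by omega) c5
  by_cases c6 : r < 56
  · exact allRange_spec e7Dx_0_48 r (by omega) c6
  by_cases c7 : r < 64
  · exact allRange_spec e7Dx_0_56 r (by omega) c7
  by_cases c8 : r < 72
  · exact allRange_spec e7Dx_0_64 r (by omega) c8
  by_cases c9 : r < 80
  · exact allRange_spec e7Dx_0_72 r (by omega) c9
  by_cases c10 : r < 88
  · exact allRange_spec e7Dx_0_80 r (by omega) c10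
  by_cases c11 : r < 96
  · exact allRange_spec e7Dx_0_88 r (by omega) c11
  by_cases c12 : r < 104
  · exact allRange_spec e7Dx_0_96 r (by omega) c12
  by_cases c13 : r < 112
  · exact allRange_spec e7Dx_0_104 r (by omega) c13
  by_cases c14 : r < 120
  · exact allRange_spec e7Dx_0_112 r (by omega) c14
  by_cases c15 : r < 128
  · exact allRange_spec e7Dx_0_120 r (by omega) c15
  by_cases c16 : r < 136
  · exact allRange_spec e7Dx_0_128 r (by omega) c16
  by_cases c17 : r < 144
  · exact allRange_spec e7Dx_0_136 r (by omega) c17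
  by_cases c18 : r < 152
  · exact allRange_spec e7Dx_0_144 r (by omega) c18
  by_cases c19 : r < 160
  · exact allRange_spec e7Dx_0_152 r (by omega) c19
  by_cases c20 : r < 168
  · exact allRange_spec e7Dx_0_160 r (by omega) c20
  by_cases c21 : r < 176
  · exact allRange_spec e7Dx_0_168 r (by omega) c21
  by_cases c22 : r < 184
  · exact allRange_spec e7Dx_0_176 r (by omega) c22
  by_cases c23 : r < 192
  · exact allRange_spec e7Dx_0_184 r (by omega) c23
  by_cases c24 : r < 200
  · exact allRange_spec e7Dx_0_192 r (by omega) c24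
  by_cases c25 : r < 208
  · exact allRange_spec e7Dx_0_200 r (by omega) c25
  by_cases c26 : r < 216
  · exact allRange_spec e7Dx_0_208 r (by omega) c26
  by_cases c27 : r < 224
  · exact allRange_spec e7Dx_0_216 r (by omega) c27
  by_cases c28 : r < 232
  · exact allRange_spec e7Dx_0_224 r (by omega) c28
  by_cases c29 : r < 240
  · exact allRange_spec e7Dx_0_232 r (by omega) c29
  by_cases c30 : r < 248
  · exact allRange_spec e7Dx_0_240 r (by omega) c30
  by_cases c31 : r < 256
  · exact allRange_spec e7Dx_0_248 r (by omega) c31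
  by_cases c32 : r < 264
  · exact allRange_spec e7Dx_0_256 r (by omega) c32
  by_cases c33 : r < 272
  · exact allRange_spec e7Dx_0_264 r (by omega) c33
  by_cases c34 : r < 280
  · exact allRange_spec e7Dx_0_272 r (by omega) c34
  by_cases c35 : r < 288
  · exact allRange_spec e7Dx_0_280 r (by omega) c35
  by_cases c36 : r < 296
  · exact allRange_spec e7Dx_0_288 r (by omega) c36
  by_cases c37 : r < 304
  · exact allRange_spec e7Dx_0_296 r (by omega) c37
  by_cases c38 : r < 312
  · exact allRange_spec e7Dx_0_304 r (by omega) c38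
  exact allRange_spec e7Dx_0_312 r (by omega) h2

end Cfsg.Agent.Lib.Helper3.ChevM
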