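import Mathlib
set_option autoImplicit false

namespace Cfsg.Agent.Lib.Helper3.ChevM

/-- The roots of type E7 among the roots of type E8. -/
def iotaE7E8Arr : Array ℕ := #[13, 20, 25, 29, 32, 34, 35, 39, 42, 44, 45, 48, 50, 51, 53, 54, 55, 58, 60, 61, 63, 64, 65, 67, 68, 69, 70, 72, 73, 74, 75, 76, 77, 80, 82, 83, 85, 86, 87, 89, 90, 91, 92, 94, 95, 96, 97, 98, 100, 101, 102, 103, 104, 106, 107, 108, 109, 111, 112, 113, 115, 116, 118, 121, 123, 124, 126, 127, 128, 130, 131, 132, 133, 135, 136, 137, 138, 139, 141, 142, 143, 144, 145, 147, 148, 149, 150, 152, 153, 154, 156, 157, 159, 162, 163, 164, 165, 166, 167, 169, 170, 171, 172, 174, 175, 176, 178, 179, 181, 184, 185, 186, 188, 189, 191, 194, 195, 197, 200, 204, 205, 207, 210, 214, 219, 226]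

/-- The roots of type E7 among the roots of type E8. -/
def iotaE7E8 (r : ℕ) : ℕ := iotaE7E8Arr.getD r 0

/-- A left inverse of `iotaE7E8`. -/
def kappaE7E8Arr : Array ℕ := #[0, 0, 0, 0, 0, 0, 0, 0, 0, 0, 0, 0, 0, 0, 0, 0, 0, 0, 0, 0, 1, 0, 0, 0, 0, 2, 0, 0, 0, 3, 0, 0, 4, 0, 5, 6, 0, 0, 0, 7, 0, 0, 8, 0, 9, 10, 0, 0, 11, 0, 12, 13, 0, 14, 15, 16, 0, 0, 17, 0, 18, 19, 0, 20, 21, 22, 0, 23, 24, 25, 26, 0, 27, 28, 29, 30, 31, 32, 0, 0, 33, 0, 34, 35, 0, 36, 37, 38, 0, 39, 40, 41, 42, 0, 43, 44, 45, 46, 47, 0, 48, 49, 50, 51, 52, 0, 53, 54, 55, 56, 0, 57, 58, 59, 0, 60, 61, 0, 62, 0, 0, 63, 0, 64, 65, 0, 66, 67, 68, 0, 69, 70, 71, 72, 0, 73, 74, 75, 76, 77, 0, 78, 79, 80, 81, 82, 0, 83, 84, 85, 86, 0, 87, 88, 89, 0, 90, 91, 0, 92, 0, 0, 93, 94, 95, 96, 97, 98, 0, 99, 100, 101, 102, 0, 103, 104, 105, 0, 106, 107, 0, 108, 0, 0,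 109, 110, 111, 0, 112, 113, 0, 114, 0, 0, 115, 116, 0, 117, 0, 0, 118, 0, 0, 0, 119, 120, 0, 121, 0, 0, 122, 0, 0, 0, 123, 0, 0, 0, 0, 124, 0, 0, 0, 0, 0, 0, 125, 0, 0, 0, 0, 0, 0, 0, 0, 0, 0, 0, 0, 0]

/-- A left inverse of `iotaE7E8`. -/
def kappaE7E8 (r : ℕ) : ℕ := kappaE7E8Arr.getD r 0

end Cfsg.Agent.Lib.Helper3.ChevM
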