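import Cfsg.Prelude.Def_ChevE7
import Cfsg.Prelude.Def_ChevE8
import Cfsg.Agent.Lib.Helper3.ChevData.E7EmbDef
import Cfsg.Agent.Lib.Helper3.StEmb1
set_option autoImplicit false
set_option maxRecDepth 1000000
set_option Elab.async false

namespace Cfsg.Agent.Lib.Helper3.ChevM
open Cfsg.Agent.Lib.Helper3.StEmb

theorem e7EmbComm_1_1850 : allRange 1850 1900 ((fun k => embCommOK Cfsg.Lie.chevE7 Cfsg.Lie.chevE8 iotaE7E8 (k / 126) (k % 126))) = true := by decide +kernel
theorem e7EmbComm_1_1900 : allRange 1900 1950 ((fun k => embCommOK Cfsg.Lie.chevE7 Cfsg.Lie.chevE8 iotaE7E8 (k / 126) (k % 126))) = true := by decide +kernel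
theorem e7EmbComm_1_1950 : allRange 1950 2000 ((fun k => embCommOK Cfsg.Lie.chevE7 Cfsg.Lie.chevE8 iotaE7E8 (k / 126) (k % 126))) = true := by decide +kernel
theorem e7EmbComm_1_2000 : allRange 2000 2050 ((fun k => embCommOK Cfsg.Lie.chevE7 Cfsg.Lie.chevE8 iotaE7E8 (k / 126) (k % 126))) = true := by decide +kernel
theorem e7EmbComm_1_2050 : allRange 2050 2100 ((fun k => embCommOK Cfsg.Lie.chevE7 Cfsg.Lie.chevE8 iotaE7E8 (k / 126) (k % 126))) = true := by decide +kernel
theorem e7EmbComm_1_2100 : allRange 2100 2150 ((fun k => embCommOK Cfsg.Lie.chevE7 Cfsg.Lie.chevE8 iotaE7E8 (k / 126) (k % 126))) = true := by decide +kernel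
theorem e7EmbComm_1_2150 : allRange 2150 2200 ((fun k => embCommOK Cfsg.Lie.chevE7 Cfsg.Lie.chevE8 iotaE7E8 (k / 126) (k % 126))) = true := by decide +kernel
theorem e7EmbComm_1_2200 : allRange 2200 2250 ((fun k => embCommOK Cfsg.Lie.chevE7 Cfsg.Lie.chevE8 iotaE7E8 (k / 126) (k % 126))) = true := by decide +kernel
theorem e7EmbComm_1_2250 : allRange 2250 2300 ((fun k => embCommOK Cfsg.Lie.chevE7 Cfsg.Lie.chevE8 iotaE7E8 (k / 126) (k % 126))) = true := by decide +kernel
theorem e7EmbComm_1_2300 : allRange 2300 2350 ((fun k => embCommOK Cfsg.Lie.chevE7 Cfsg.Lie.chevE8 iotaE7E8 (k / 126) (k % 126))) = true := by decide +kernel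
theorem e7EmbComm_1_2350 : allRange 2350 2400 ((fun k => embCommOK Cfsg.Lie.chevE7 Cfsg.Lie.chevE8 iotaE7E8 (k / 126) (k % 126))) = true := by decide +kernel
theorem e7EmbComm_1_2400 : allRange 2400 2450 ((fun k => embCommOK Cfsg.Lie.chevE7 Cfsg.Lie.chevE8 iotaE7E8 (k / 126) (k % 126))) = true := by decide +kernel
theorem e7EmbComm_1_2450 : allRange 2450 2500 ((fun k => embCommOK Cfsg.Lie.chevE7 Cfsg.Lie.chevE8 iotaE7E8 (k / 126) (k % 126))) = true := by decide +kernel
theorem e7EmbComm_1_2500 : allRange 2500 2550 ((fun k => embCommOK Cfsg.Lie.chevE7 Cfsg.Lie.chevE8 iotaE7E8 (k / 126) (k % 126))) = true := by decide +kernel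
theorem e7EmbComm_1_2550 : allRange 2550 2600 ((fun k => embCommOK Cfsg.Lie.chevE7 Cfsg.Lie.chevE8 iotaE7E8 (k / 126) (k % 126))) = true := by decide +kernel
theorem e7EmbComm_1_2600 : allRange 2600 2650 ((fun k => embCommOK Cfsg.Lie.chevE7 Cfsg.Lie.chevE8 iotaE7E8 (k / 126) (k % 126))) = true := by decide +kernel
theorem e7EmbComm_1_2650 : allRange 2650 2700 ((fun k => embCommOK Cfsg.Lie.chevE7 Cfsg.Lie.chevE8 iotaE7E8 (k / 126) (k % 126))) = true := by decide +kernel
theorem e7EmbComm_1_2700 : allRange 2700 2750 ((fun k => embCommOK Cfsg.Lie.chevE7 Cfsg.Lie.chevE8 iotaE7E8 (k / 126) (k % 126))) = true := by decide +kernel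
theorem e7EmbComm_1_2750 : allRange 2750 2800 ((fun k => embCommOK Cfsg.Lie.chevE7 Cfsg.Lie.chevE8 iotaE7E8 (k / 126) (k % 126))) = true := by decide +kernel
theorem e7EmbComm_1_2800 : allRange 2800 2850 ((fun k => embCommOK Cfsg.Lie.chevE7 Cfsg.Lie.chevE8 iotaE7E8 (k / 126) (k % 126))) = true := by decide +kernel
theorem e7EmbComm_1_2850 : allRange 2850 2900 ((fun k => embCommOK Cfsg.Lie.chevE7 Cfsg.Lie.chevE8 iotaE7E8 (k / 126) (k % 126))) = true := by decide +kernel
theorem e7EmbComm_1_2900 : allRange 2900 2950 ((fun k => embCommOK Cfsg.Lie.chevE7 Cfsg.Lie.chevE8 iotaE7E8 (k / 126) (k % 126))) = true := by decide +kernel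
theorem e7EmbComm_1_2950 : allRange 2950 3000 ((fun k => embCommOK Cfsg.Lie.chevE7 Cfsg.Lie.chevE8 iotaE7E8 (k / 126) (k % 126))) = true := by decide +kernel
theorem e7EmbComm_1_3000 : allRange 3000 3050 ((fun k => embCommOK Cfsg.Lie.chevE7 Cfsg.Lie.chevE8 iotaE7E8 (k / 126) (k % 126))) = true := by decide +kernel
theorem e7EmbComm_1_3050 : allRange 3050 3100 ((fun k => embCommOK Cfsg.Lie.chevE7 Cfsg.Lie.chevE8 iotaE7E8 (k / 126) (k % 126))) = true := by decide +kernel
theorem e7EmbComm_1_3100 : allRange 3100 3150 ((fun k => embCommOK Cfsg.Lie.chevE7 Cfsg.Lie.chevE8 iotaE7E8 (k / 126) (k % 126))) = true := by decide +kernel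
theorem e7EmbComm_1_3150 : allRange 3150 3200 ((fun k => embCommOK Cfsg.Lie.chevE7 Cfsg.Lie.chevE8 iotaE7E8 (k / 126) (k % 126))) = true := by decide +kernel
theorem e7EmbComm_1_3200 : allRange 3200 3250 ((fun k => embCommOK Cfsg.Lie.chevE7 Cfsg.Lie.chevE8 iotaE7E8 (k / 126) (k % 126))) = true := by decide +kernel
theorem e7EmbComm_1_3250 : allRange 3250 3300 ((fun k => embCommOK Cfsg.Lie.chevE7 Cfsg.Lie.chevE8 iotaE7E8 (k / 126) (k % 126))) = true := by decide +kernel
theorem e7EmbComm_1_3300 : allRange 3300 3350 ((fun k => embCommOK Cfsg.Lie.chevE7 Cfsg.Lie.chevE8 iotaE7E8 (k / 126) (k % 126))) = true := by decide +kernel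
theorem e7EmbComm_1_3350 : allRange 3350 3400 ((fun k => embCommOK Cfsg.Lie.chevE7 Cfsg.Lie.chevE8 iotaE7E8 (k / 126) (k % 126))) = true := by decide +kernel
theorem e7EmbComm_1_3400 : allRange 3400 3450 ((fun k => embCommOK Cfsg.Lie.chevE7 Cfsg.Lie.chevE8 iotaE7E8 (k / 126) (k % 126))) = true := by decide +kernel
theorem e7EmbComm_1_3450 : allRange 3450 3500 ((fun k => embCommOK Cfsg.Lie.chevE7 Cfsg.Lie.chevE8 iotaE7E8 (k / 126) (k % 126))) = true := by decide +kernel
theorem e7EmbComm_1_3500 : allRange 3500 3550 ((fun k => embCommOK Cfsg.Lie.chevE7 Cfsg.Lie.chevE8 iotaE7E8 (k / 126) (k % 126))) = true := by decide +kernel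
theorem e7EmbComm_1_3550 : allRange 3550 3600 ((fun k => embCommOK Cfsg.Lie.chevE7 Cfsg.Lie.chevE8 iotaE7E8 (k / 126) (k % 126))) = true := by decide +kernel
theorem e7EmbComm_1_3600 : allRange 3600 3650 ((fun k => embCommOK Cfsg.Lie.chevE7 Cfsg.Lie.chevE8 iotaE7E8 (k / 126) (k % 126))) = true := by decide +kernel
theorem e7EmbComm_1_3650 : allRange 3650 3700 ((fun k => embCommOK Cfsg.Lie.chevE7 Cfsg.Lie.chevE8 iotaE7E8 (k / 126) (k % 126))) = true := by decide +kernel

/-- The embedding of the roots of type E7 into the roots of type E8 preserves the commutator formula (roots 1850 to 3699). -/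
theorem e7EmbComm_1 : ∀ r, 1850 ≤ r → r < 3700 → ((fun k => embCommOK Cfsg.Lie.chevE7 Cfsg.Lie.chevE8 iotaE7E8 (k / 126) (k % 126))) r = true := by
  intro r h1 h2
  by_cases c0 : r < 1900
  · exact allRange_spec e7EmbComm_1_1850 r (by omega) c0
  by_cases c1 : r < 1950
  · exact allRange_spec e7EmbComm_1_1900 r (by omega) c1
  by_cases c2 : r < 2000
  · exact allRange_spec e7EmbComm_1_1950 r (by omega) c2
  by_cases c3 : r < 2050
  · exact allRange_spec e7EmbComm_1_2000 r (by omega) c3
  by_cases c4 : r < 2100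
  · exact allRange_spec e7EmbComm_1_2050 r (by omega) c4
  by_cases c5 : r < 2150
  · exact allRange_spec e7EmbComm_1_2100 r (by omega) c5
  by_cases c6 : r < 2200
  · exact allRange_spec e7EmbComm_1_2150 r (by omega) c6
  by_cases c7 : r < 2250
  · exact allRange_spec e7EmbComm_1_2200 r (by omega) c7
  by_cases c8 : r < 2300
  · exact allRange_spec e7EmbComm_1_2250 r (by omega) c8
  by_cases c9 : r < 2350
  · exact allRange_spec e7EmbComm_1_2300 r (by omega) c9
  by_cases c10 : r < 2400
  · exact allRange_spec e7EmbComm_1_2350 r (by omega) c10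
  by_cases c11 : r < 2450
  · exact allRange_spec e7EmbComm_1_2400 r (by omega) c11
  by_cases c12 : r < 2500
  · exact allRange_spec e7EmbComm_1_2450 r (by omega) c12
  by_cases c13 : r < 2550
  · exact allRange_spec e7EmbComm_1_2500 r (by omega) c13
  by_cases c14 : r < 2600
  · exact allRange_spec e7EmbComm_1_2550 r (by omega) c14
  by_cases c15 : r < 2650
  · exact allRange_spec e7EmbComm_1_2600 r (by omega) c15
  by_cases c16 : r < 2700
  · exact allRange_spec e7EmbComm_1_2650 r (by omega) c16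
  by_cases c17 : r < 2750
  · exact allRange_spec e7EmbComm_1_2700 r (by omega) c17
  by_cases c18 : r < 2800
  · exact allRange_spec e7EmbComm_1_2750 r (by omega) c18
  by_cases c19 : r < 2850
  · exact allRange_spec e7EmbComm_1_2800 r (by omega) c19
  by_cases c20 : r < 2900
  · exact allRange_spec e7EmbComm_1_2850 r (by omega) c20
  by_cases c21 : r < 2950
  · exact allRange_spec e7EmbComm_1_2900 r (by omega) c21
  by_cases c22 : r < 3000
  · exact allRange_spec e7EmbComm_1_2950 r (by omega) c22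
  by_cases c23 : r < 3050
  · exact allRange_spec e7EmbComm_1_3000 r (by omega) c23
  by_cases c24 : r < 3100
  · exact allRange_spec e7EmbComm_1_3050 r (by omega) c24
  by_cases c25 : r < 3150
  · exact allRange_spec e7EmbComm_1_3100 r (by omega) c25
  by_cases c26 : r < 3200
  · exact allRange_spec e7EmbComm_1_3150 r (by omega) c26
  by_cases c27 : r < 3250
  · exact allRange_spec e7EmbComm_1_3200 r (by omega) c27
  by_cases c28 : r < 3300
  · exact allRange_spec e7EmbComm_1_3250 r (by omega) c28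
  by_cases c29 : r < 3350
  · exact allRange_spec e7EmbComm_1_3300 r (by omega) c29
  by_cases c30 : r < 3400
  · exact allRange_spec e7EmbComm_1_3350 r (by omega) c30
  by_cases c31 : r < 3450
  · exact allRange_spec e7EmbComm_1_3400 r (by omega) c31
  by_cases c32 : r < 3500
  · exact allRange_spec e7EmbComm_1_3450 r (by omega) c32
  by_cases c33 : r < 3550
  · exact allRange_spec e7EmbComm_1_3500 r (by omega) c33
  by_cases c34 : r < 3600
  · exact allRange_spec e7EmbComm_1_3550 r (by omega) c34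
  by_cases c35 : r < 3650
  · exact allRange_spec e7EmbComm_1_3600 r (by omega) c35
  exact allRange_spec e7EmbComm_1_3650 r (by omega) h2

end Cfsg.Agent.Lib.Helper3.ChevM
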