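import Cfsg.Prelude.Def_ChevE7
import Cfsg.Prelude.Def_ChevE8
import Cfsg.Agent.Lib.Helper3.ChevData.E7EmbDef
import Cfsg.Agent.Lib.Helper3.StEmb1
set_option autoImplicit false
set_option maxRecDepth 1000000
set_option Elab.async false

namespace Cfsg.Agent.Lib.Helper3.ChevM
open Cfsg.Agent.Lib.Helper3.StEmb

theorem e7EmbComm_2_3700 : allRange 3700 3750 ((fun k => embCommOK Cfsg.Lie.chevE7 Cfsg.Lie.chevE8 iotaE7E8 (k / 126) (k % 126))) = true := by decide +kernel
theorem e7EmbComm_2_3750 : allRange 3750 3800 ((fun k => embCommOK Cfsg.Lie.chevE7 Cfsg.Lie.chevE8 iotaE7E8 (k / 126) (k % 126))) = true := by decide +kernel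
theorem e7EmbComm_2_3800 : allRange 3800 3850 ((fun k => embCommOK Cfsg.Lie.chevE7 Cfsg.Lie.chevE8 iotaE7E8 (k / 126) (k % 126))) = true := by decide +kernel
theorem e7EmbComm_2_3850 : allRange 3850 3900 ((fun k => embCommOK Cfsg.Lie.chevE7 Cfsg.Lie.chevE8 iotaE7E8 (k / 126) (k % 126))) = true := by decide +kernel
theorem e7EmbComm_2_3900 : allRange 3900 3950 ((fun k => embCommOK Cfsg.Lie.chevE7 Cfsg.Lie.chevE8 iotaE7E8 (k / 126) (k % 126))) = true := by decide +kernel
theorem e7EmbComm_2_3950 : allRange 3950 4000 ((fun k => embCommOK Cfsg.Lie.chevE7 Cfsg.Lie.chevE8 iotaE7E8 (k / 126) (k % 126))) = true := by decide +kernel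
theorem e7EmbComm_2_4000 : allRange 4000 4050 ((fun k => embCommOK Cfsg.Lie.chevE7 Cfsg.Lie.chevE8 iotaE7E8 (k / 126) (k % 126))) = true := by decide +kernel
theorem e7EmbComm_2_4050 : allRange 4050 4100 ((fun k => embCommOK Cfsg.Lie.chevE7 Cfsg.Lie.chevE8 iotaE7E8 (k / 126) (k % 126))) = true := by decide +kernel
theorem e7EmbComm_2_4100 : allRange 4100 4150 ((fun k => embCommOK Cfsg.Lie.chevE7 Cfsg.Lie.chevE8 iotaE7E8 (k / 126) (k % 126))) = true := by decide +kernel
theorem e7EmbComm_2_4150 : allRange 4150 4200 ((fun k => embCommOK Cfsg.Lie.chevE7 Cfsg.Lie.chevE8 iotaE7E8 (k / 126) (k % 126))) = true := by decide +kernel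
theorem e7EmbComm_2_4200 : allRange 4200 4250 ((fun k => embCommOK Cfsg.Lie.chevE7 Cfsg.Lie.chevE8 iotaE7E8 (k / 126) (k % 126))) = true := by decide +kernel
theorem e7EmbComm_2_4250 : allRange 4250 4300 ((fun k => embCommOK Cfsg.Lie.chevE7 Cfsg.Lie.chevE8 iotaE7E8 (k / 126) (k % 126))) = true := by decide +kernel
theorem e7EmbComm_2_4300 : allRange 4300 4350 ((fun k => embCommOK Cfsg.Lie.chevE7 Cfsg.Lie.chevE8 iotaE7E8 (k / 126) (k % 126))) = true := by decide +kernel
theorem e7EmbComm_2_4350 : allRange 4350 4400 ((fun k => embCommOK Cfsg.Lie.chevE7 Cfsg.Lie.chevE8 iotaE7E8 (k / 126) (k % 126))) = true := by decide +kernel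
theorem e7EmbComm_2_4400 : allRange 4400 4450 ((fun k => embCommOK Cfsg.Lie.chevE7 Cfsg.Lie.chevE8 iotaE7E8 (k / 126) (k % 126))) = true := by decide +kernel
theorem e7EmbComm_2_4450 : allRange 4450 4500 ((fun k => embCommOK Cfsg.Lie.chevE7 Cfsg.Lie.chevE8 iotaE7E8 (k / 126) (k % 126))) = true := by decide +kernel
theorem e7EmbComm_2_4500 : allRange 4500 4550 ((fun k => embCommOK Cfsg.Lie.chevE7 Cfsg.Lie.chevE8 iotaE7E8 (k / 126) (k % 126))) = true := by decide +kernel
theorem e7EmbComm_2_4550 : allRange 4550 4600 ((fun k => embCommOK Cfsg.Lie.chevE7 Cfsg.Lie.chevE8 iotaE7E8 (k / 126) (k % 126))) = true := by decide +kernel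
theorem e7EmbComm_2_4600 : allRange 4600 4650 ((fun k => embCommOK Cfsg.Lie.chevE7 Cfsg.Lie.chevE8 iotaE7E8 (k / 126) (k % 126))) = true := by decide +kernel
theorem e7EmbComm_2_4650 : allRange 4650 4700 ((fun k => embCommOK Cfsg.Lie.chevE7 Cfsg.Lie.chevE8 iotaE7E8 (k / 126) (k % 126))) = true := by decide +kernel
theorem e7EmbComm_2_4700 : allRange 4700 4750 ((fun k => embCommOK Cfsg.Lie.chevE7 Cfsg.Lie.chevE8 iotaE7E8 (k / 126) (k % 126))) = true := by decide +kernel
theorem e7EmbComm_2_4750 : allRange 4750 4800 ((fun k => embCommOK Cfsg.Lie.chevE7 Cfsg.Lie.chevE8 iotaE7E8 (k / 126) (k % 126))) = true := by decide +kernel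
theorem e7EmbComm_2_4800 : allRange 4800 4850 ((fun k => embCommOK Cfsg.Lie.chevE7 Cfsg.Lie.chevE8 iotaE7E8 (k / 126) (k % 126))) = true := by decide +kernel
theorem e7EmbComm_2_4850 : allRange 4850 4900 ((fun k => embCommOK Cfsg.Lie.chevE7 Cfsg.Lie.chevE8 iotaE7E8 (k / 126) (k % 126))) = true := by decide +kernel
theorem e7EmbComm_2_4900 : allRange 4900 4950 ((fun k => embCommOK Cfsg.Lie.chevE7 Cfsg.Lie.chevE8 iotaE7E8 (k / 126) (k % 126))) = true := by decide +kernel
theorem e7EmbComm_2_4950 : allRange 4950 5000 ((fun k => embCommOK Cfsg.Lie.chevE7 Cfsg.Lie.chevE8 iotaE7E8 (k / 126) (k % 126))) = true := by decide +kernel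
theorem e7EmbComm_2_5000 : allRange 5000 5050 ((fun k => embCommOK Cfsg.Lie.chevE7 Cfsg.Lie.chevE8 iotaE7E8 (k / 126) (k % 126))) = true := by decide +kernel
theorem e7EmbComm_2_5050 : allRange 5050 5100 ((fun k => embCommOK Cfsg.Lie.chevE7 Cfsg.Lie.chevE8 iotaE7E8 (k / 126) (k % 126))) = true := by decide +kernel
theorem e7EmbComm_2_5100 : allRange 5100 5150 ((fun k => embCommOK Cfsg.Lie.chevE7 Cfsg.Lie.chevE8 iotaE7E8 (k / 126) (k % 126))) = true := by decide +kernel
theorem e7EmbComm_2_5150 : allRange 5150 5200 ((fun k => embCommOK Cfsg.Lie.chevE7 Cfsg.Lie.chevE8 iotaE7E8 (k / 126) (k % 126))) = true := by decide +kernel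
theorem e7EmbComm_2_5200 : allRange 5200 5250 ((fun k => embCommOK Cfsg.Lie.chevE7 Cfsg.Lie.chevE8 iotaE7E8 (k / 126) (k % 126))) = true := by decide +kernel
theorem e7EmbComm_2_5250 : allRange 5250 5300 ((fun k => embCommOK Cfsg.Lie.chevE7 Cfsg.Lie.chevE8 iotaE7E8 (k / 126) (k % 126))) = true := by decide +kernel
theorem e7EmbComm_2_5300 : allRange 5300 5350 ((fun k => embCommOK Cfsg.Lie.chevE7 Cfsg.Lie.chevE8 iotaE7E8 (k / 126) (k % 126))) = true := by decide +kernel
theorem e7EmbComm_2_5350 : allRange 5350 5400 ((fun k => embCommOK Cfsg.Lie.chevE7 Cfsg.Lie.chevE8 iotaE7E8 (k / 126) (k % 126))) = true := by decide +kernel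
theorem e7EmbComm_2_5400 : allRange 5400 5450 ((fun k => embCommOK Cfsg.Lie.chevE7 Cfsg.Lie.chevE8 iotaE7E8 (k / 126) (k % 126))) = true := by decide +kernel
theorem e7EmbComm_2_5450 : allRange 5450 5500 ((fun k => embCommOK Cfsg.Lie.chevE7 Cfsg.Lie.chevE8 iotaE7E8 (k / 126) (k % 126))) = true := by decide +kernel
theorem e7EmbComm_2_5500 : allRange 5500 5550 ((fun k => embCommOK Cfsg.Lie.chevE7 Cfsg.Lie.chevE8 iotaE7E8 (k / 126) (k % 126))) = true := by decide +kernel

/-- The embedding of the roots of type E7 into the roots of type E8 preserves the commutator formula (roots 3700 to 5549). -/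
theorem e7EmbComm_2 : ∀ r, 3700 ≤ r → r < 5550 → ((fun k => embCommOK Cfsg.Lie.chevE7 Cfsg.Lie.chevE8 iotaE7E8 (k / 126) (k % 126))) r = true := by
  intro r h1 h2
  by_cases c0 : r < 3750
  · exact allRange_spec e7EmbComm_2_3700 r (by omega) c0
  by_cases c1 : r < 3800
  · exact allRange_spec e7EmbComm_2_3750 r (by omega) c1
  by_cases c2 : r < 3850
  · exact allRange_spec e7EmbComm_2_3800 r (by omega) c2
  by_cases c3 : r < 3900
  · exact allRange_spec e7EmbComm_2_3850 r (by omega) c3
  by_cases c4 : r < 3950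
  · exact allRange_spec e7EmbComm_2_3900 r (by omega) c4
  by_cases c5 : r < 4000
  · exact allRange_spec e7EmbComm_2_3950 r (by omega) c5
  by_cases c6 : r < 4050
  · exact allRange_spec e7EmbComm_2_4000 r (by omega) c6
  by_cases c7 : r < 4100
  · exact allRange_spec e7EmbComm_2_4050 r (by omega) c7
  by_cases c8 : r < 4150
  · exact allRange_spec e7EmbComm_2_4100 r (by omega) c8
  by_cases c9 : r < 4200
  · exact allRange_spec e7EmbComm_2_4150 r (by omega) c9
  by_cases c10 : r < 4250
  · exact allRange_spec e7EmbComm_2_4200 r (by omega) c10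
  by_cases c11 : r < 4300
  · exact allRange_spec e7EmbComm_2_4250 r (by omega) c11
  by_cases c12 : r < 4350
  · exact allRange_spec e7EmbComm_2_4300 r (by omega) c12
  by_cases c13 : r < 4400
  · exact allRange_spec e7EmbComm_2_4350 r (by omega) c13
  by_cases c14 : r < 4450
  · exact allRange_spec e7EmbComm_2_4400 r (by omega) c14
  by_cases c15 : r < 4500
  · exact allRange_spec e7EmbComm_2_4450 r (by omega) c15
  by_cases c16 : r < 4550
  · exact allRange_spec e7EmbComm_2_4500 r (by omega) c16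
  by_cases c17 : r < 4600
  · exact allRange_spec e7EmbComm_2_4550 r (by omega) c17
  by_cases c18 : r < 4650
  · exact allRange_spec e7EmbComm_2_4600 r (by omega) c18
  by_cases c19 : r < 4700
  · exact allRange_spec e7EmbComm_2_4650 r (by omega) c19
  by_cases c20 : r < 4750
  · exact allRange_spec e7EmbComm_2_4700 r (by omega) c20
  by_cases c21 : r < 4800
  · exact allRange_spec e7EmbComm_2_4750 r (by omega) c21
  by_cases c22 : r < 4850
  · exact allRange_spec e7EmbComm_2_4800 r (by omega) c22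
  by_cases c23 : r < 4900
  · exact allRange_spec e7EmbComm_2_4850 r (by omega) c23
  by_cases c24 : r < 4950
  · exact allRange_spec e7EmbComm_2_4900 r (by omega) c24
  by_cases c25 : r < 5000
  · exact allRange_spec e7EmbComm_2_4950 r (by omega) c25
  by_cases c26 : r < 5050
  · exact allRange_spec e7EmbComm_2_5000 r (by omega) c26
  by_cases c27 : r < 5100
  · exact allRange_spec e7EmbComm_2_5050 r (by omega) c27
  by_cases c28 : r < 5150
  · exact allRange_spec e7EmbComm_2_5100 r (by omega) c28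
  by_cases c29 : r < 5200
  · exact allRange_spec e7EmbComm_2_5150 r (by omega) c29
  by_cases c30 : r < 5250
  · exact allRange_spec e7EmbComm_2_5200 r (by omega) c30
  by_cases c31 : r < 5300
  · exact allRange_spec e7EmbComm_2_5250 r (by omega) c31
  by_cases c32 : r < 5350
  · exact allRange_spec e7EmbComm_2_5300 r (by omega) c32
  by_cases c33 : r < 5400
  · exact allRange_spec e7EmbComm_2_5350 r (by omega) c33
  by_cases c34 : r < 5450
  · exact allRange_spec e7EmbComm_2_5400 r (by omega) c34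
  by_cases c35 : r < 5500
  · exact allRange_spec e7EmbComm_2_5450 r (by omega) c35
  exact allRange_spec e7EmbComm_2_5500 r (by omega) h2

end Cfsg.Agent.Lib.Helper3.ChevM
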