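import Cfsg.Prelude.Def_ChevE7
import Cfsg.Prelude.Def_ChevE8
import Cfsg.Agent.Lib.Helper3.ChevData.E7EmbDef
import Cfsg.Agent.Lib.Helper3.StEmb1
set_option autoImplicit false
set_option maxRecDepth 1000000
set_option Elab.async false

namespace Cfsg.Agent.Lib.Helper3.ChevM
open Cfsg.Agent.Lib.Helper3.StEmb

theorem e7EmbComm_3_5550 : allRange 5550 5600 ((fun k => embCommOK Cfsg.Lie.chevE7 Cfsg.Lie.chevE8 iotaE7E8 (k / 126) (k % 126))) = true := by decide +kernel
theorem e7EmbComm_3_5600 : allRange 5600 5650 ((fun k => embCommOK Cfsg.Lie.chevE7 Cfsg.Lie.chevE8 iotaE7E8 (k / 126) (k % 126))) = true := by decide +kernel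
theorem e7EmbComm_3_5650 : allRange 5650 5700 ((fun k => embCommOK Cfsg.Lie.chevE7 Cfsg.Lie.chevE8 iotaE7E8 (k / 126) (k % 126))) = true := by decide +kernel
theorem e7EmbComm_3_5700 : allRange 5700 5750 ((fun k => embCommOK Cfsg.Lie.chevE7 Cfsg.Lie.chevE8 iotaE7E8 (k / 126) (k % 126))) = true := by decide +kernel
theorem e7EmbComm_3_5750 : allRange 5750 5800 ((fun k => embCommOK Cfsg.Lie.chevE7 Cfsg.Lie.chevE8 iotaE7E8 (k / 126) (k % 126))) = true := by decide +kernel
theorem e7EmbComm_3_5800 : allRange 5800 5850 ((fun k => embCommOK Cfsg.Lie.chevE7 Cfsg.Lie.chevE8 iotaE7E8 (k / 126) (k % 126))) = true := by decide +kernel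
theorem e7EmbComm_3_5850 : allRange 5850 5900 ((fun k => embCommOK Cfsg.Lie.chevE7 Cfsg.Lie.chevE8 iotaE7E8 (k / 126) (k % 126))) = true := by decide +kernel
theorem e7EmbComm_3_5900 : allRange 5900 5950 ((fun k => embCommOK Cfsg.Lie.chevE7 Cfsg.Lie.chevE8 iotaE7E8 (k / 126) (k % 126))) = true := by decide +kernel
theorem e7EmbComm_3_5950 : allRange 5950 6000 ((fun k => embCommOK Cfsg.Lie.chevE7 Cfsg.Lie.chevE8 iotaE7E8 (k / 126) (k % 126))) = true := by decide +kernel
theorem e7EmbComm_3_6000 : allRange 6000 6050 ((fun k => embCommOK Cfsg.Lie.chevE7 Cfsg.Lie.chevE8 iotaE7E8 (k / 126) (k % 126))) = true := by decide +kernel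
theorem e7EmbComm_3_6050 : allRange 6050 6100 ((fun k => embCommOK Cfsg.Lie.chevE7 Cfsg.Lie.chevE8 iotaE7E8 (k / 126) (k % 126))) = true := by decide +kernel
theorem e7EmbComm_3_6100 : allRange 6100 6150 ((fun k => embCommOK Cfsg.Lie.chevE7 Cfsg.Lie.chevE8 iotaE7E8 (k / 126) (k % 126))) = true := by decide +kernel
theorem e7EmbComm_3_6150 : allRange 6150 6200 ((fun k => embCommOK Cfsg.Lie.chevE7 Cfsg.Lie.chevE8 iotaE7E8 (k / 126) (k % 126))) = true := by decide +kernel
theorem e7EmbComm_3_6200 : allRange 6200 6250 ((fun k => embCommOK Cfsg.Lie.chevE7 Cfsg.Lie.chevE8 iotaE7E8 (k / 126) (k % 126))) = true := by decide +kernel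
theorem e7EmbComm_3_6250 : allRange 6250 6300 ((fun k => embCommOK Cfsg.Lie.chevE7 Cfsg.Lie.chevE8 iotaE7E8 (k / 126) (k % 126))) = true := by decide +kernel
theorem e7EmbComm_3_6300 : allRange 6300 6350 ((fun k => embCommOK Cfsg.Lie.chevE7 Cfsg.Lie.chevE8 iotaE7E8 (k / 126) (k % 126))) = true := by decide +kernel
theorem e7EmbComm_3_6350 : allRange 6350 6400 ((fun k => embCommOK Cfsg.Lie.chevE7 Cfsg.Lie.chevE8 iotaE7E8 (k / 126) (k % 126))) = true := by decide +kernel
theorem e7EmbComm_3_6400 : allRange 6400 6450 ((fun k => embCommOK Cfsg.Lie.chevE7 Cfsg.Lie.chevE8 iotaE7E8 (k / 126) (k % 126))) = true := by decide +kernel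
theorem e7EmbComm_3_6450 : allRange 6450 6500 ((fun k => embCommOK Cfsg.Lie.chevE7 Cfsg.Lie.chevE8 iotaE7E8 (k / 126) (k % 126))) = true := by decide +kernel
theorem e7EmbComm_3_6500 : allRange 6500 6550 ((fun k => embCommOK Cfsg.Lie.chevE7 Cfsg.Lie.chevE8 iotaE7E8 (k / 126) (k % 126))) = true := by decide +kernel
theorem e7EmbComm_3_6550 : allRange 6550 6600 ((fun k => embCommOK Cfsg.Lie.chevE7 Cfsg.Lie.chevE8 iotaE7E8 (k / 126) (k % 126))) = true := by decide +kernel
theorem e7EmbComm_3_6600 : allRange 6600 6650 ((fun k => embCommOK Cfsg.Lie.chevE7 Cfsg.Lie.chevE8 iotaE7E8 (k / 126) (k % 126))) = true := by decide +kernel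
theorem e7EmbComm_3_6650 : allRange 6650 6700 ((fun k => embCommOK Cfsg.Lie.chevE7 Cfsg.Lie.chevE8 iotaE7E8 (k / 126) (k % 126))) = true := by decide +kernel
theorem e7EmbComm_3_6700 : allRange 6700 6750 ((fun k => embCommOK Cfsg.Lie.chevE7 Cfsg.Lie.chevE8 iotaE7E8 (k / 126) (k % 126))) = true := by decide +kernel
theorem e7EmbComm_3_6750 : allRange 6750 6800 ((fun k => embCommOK Cfsg.Lie.chevE7 Cfsg.Lie.chevE8 iotaE7E8 (k / 126) (k % 126))) = true := by decide +kernel
theorem e7EmbComm_3_6800 : allRange 6800 6850 ((fun k => embCommOK Cfsg.Lie.chevE7 Cfsg.Lie.chevE8 iotaE7E8 (k / 126) (k % 126))) = true := by decide +kernel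
theorem e7EmbComm_3_6850 : allRange 6850 6900 ((fun k => embCommOK Cfsg.Lie.chevE7 Cfsg.Lie.chevE8 iotaE7E8 (k / 126) (k % 126))) = true := by decide +kernel
theorem e7EmbComm_3_6900 : allRange 6900 6950 ((fun k => embCommOK Cfsg.Lie.chevE7 Cfsg.Lie.chevE8 iotaE7E8 (k / 126) (k % 126))) = true := by decide +kernel
theorem e7EmbComm_3_6950 : allRange 6950 7000 ((fun k => embCommOK Cfsg.Lie.chevE7 Cfsg.Lie.chevE8 iotaE7E8 (k / 126) (k % 126))) = true := by decide +kernel
theorem e7EmbComm_3_7000 : allRange 7000 7050 ((fun k => embCommOK Cfsg.Lie.chevE7 Cfsg.Lie.chevE8 iotaE7E8 (k / 126) (k % 126))) = true := by decide +kernel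
theorem e7EmbComm_3_7050 : allRange 7050 7100 ((fun k => embCommOK Cfsg.Lie.chevE7 Cfsg.Lie.chevE8 iotaE7E8 (k / 126) (k % 126))) = true := by decide +kernel
theorem e7EmbComm_3_7100 : allRange 7100 7150 ((fun k => embCommOK Cfsg.Lie.chevE7 Cfsg.Lie.chevE8 iotaE7E8 (k / 126) (k % 126))) = true := by decide +kernel
theorem e7EmbComm_3_7150 : allRange 7150 7200 ((fun k => embCommOK Cfsg.Lie.chevE7 Cfsg.Lie.chevE8 iotaE7E8 (k / 126) (k % 126))) = true := by decide +kernel
theorem e7EmbComm_3_7200 : allRange 7200 7250 ((fun k => embCommOK Cfsg.Lie.chevE7 Cfsg.Lie.chevE8 iotaE7E8 (k / 126) (k % 126))) = true := by decide +kernel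
theorem e7EmbComm_3_7250 : allRange 7250 7300 ((fun k => embCommOK Cfsg.Lie.chevE7 Cfsg.Lie.chevE8 iotaE7E8 (k / 126) (k % 126))) = true := by decide +kernel
theorem e7EmbComm_3_7300 : allRange 7300 7350 ((fun k => embCommOK Cfsg.Lie.chevE7 Cfsg.Lie.chevE8 iotaE7E8 (k / 126) (k % 126))) = true := by decide +kernel
theorem e7EmbComm_3_7350 : allRange 7350 7400 ((fun k => embCommOK Cfsg.Lie.chevE7 Cfsg.Lie.chevE8 iotaE7E8 (k / 126) (k % 126))) = true := by decide +kernel

/-- The embedding of the roots of type E7 into the roots of type E8 preserves the commutator formula (roots 5550 to 7399). -/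
theorem e7EmbComm_3 : ∀ r, 5550 ≤ r → r < 7400 → ((fun k => embCommOK Cfsg.Lie.chevE7 Cfsg.Lie.chevE8 iotaE7E8 (k / 126) (k % 126))) r = true := by
  intro r h1 h2
  by_cases c0 : r < 5600
  · exact allRange_spec e7EmbComm_3_5550 r (by omega) c0
  by_cases c1 : r < 5650
  · exact allRange_spec e7EmbComm_3_5600 r (by omega) c1
  by_cases c2 : r < 5700
  · exact allRange_spec e7EmbComm_3_5650 r (by omega) c2
  by_cases c3 : r < 5750
  · exact allRange_spec e7EmbComm_3_5700 r (by omega) c3
  by_cases c4 : r < 5800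
  · exact allRange_spec e7EmbComm_3_5750 r (by omega) c4
  by_cases c5 : r < 5850
  · exact allRange_spec e7EmbComm_3_5800 r (by omega) c5
  by_cases c6 : r < 5900
  · exact allRange_spec e7EmbComm_3_5850 r (by omega) c6
  by_cases c7 : r < 5950
  · exact allRange_spec e7EmbComm_3_5900 r (by omega) c7
  by_cases c8 : r < 6000
  · exact allRange_spec e7EmbComm_3_5950 r (by omega) c8
  by_cases c9 : r < 6050
  · exact allRange_spec e7EmbComm_3_6000 r (by omega) c9
  by_cases c10 : r < 6100
  · exact allRange_spec e7EmbComm_3_6050 r (by omega) c10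
  by_cases c11 : r < 6150
  · exact allRange_spec e7EmbComm_3_6100 r (by omega) c11
  by_cases c12 : r < 6200
  · exact allRange_spec e7EmbComm_3_6150 r (by omega) c12
  by_cases c13 : r < 6250
  · exact allRange_spec e7EmbComm_3_6200 r (by omega) c13
  by_cases c14 : r < 6300
  · exact allRange_spec e7EmbComm_3_6250 r (by omega) c14
  by_cases c15 : r < 6350
  · exact allRange_spec e7EmbComm_3_6300 r (by omega) c15
  by_cases c16 : r < 6400
  · exact allRange_spec e7EmbComm_3_6350 r (by omega) c16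
  by_cases c17 : r < 6450
  · exact allRange_spec e7EmbComm_3_6400 r (by omega) c17
  by_cases c18 : r < 6500
  · exact allRange_spec e7EmbComm_3_6450 r (by omega) c18
  by_cases c19 : r < 6550
  · exact allRange_spec e7EmbComm_3_6500 r (by omega) c19
  by_cases c20 : r < 6600
  · exact allRange_spec e7EmbComm_3_6550 r (by omega) c20
  by_cases c21 : r < 6650
  · exact allRange_spec e7EmbComm_3_6600 r (by omega) c21
  by_cases c22 : r < 6700
  · exact allRange_spec e7EmbComm_3_6650 r (by omega) c22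
  by_cases c23 : r < 6750
  · exact allRange_spec e7EmbComm_3_6700 r (by omega) c23
  by_cases c24 : r < 6800
  · exact allRange_spec e7EmbComm_3_6750 r (by omega) c24
  by_cases c25 : r < 6850
  · exact allRange_spec e7EmbComm_3_6800 r (by omega) c25
  by_cases c26 : r < 6900
  · exact allRange_spec e7EmbComm_3_6850 r (by omega) c26
  by_cases c27 : r < 6950
  · exact allRange_spec e7EmbComm_3_6900 r (by omega) c27
  by_cases c28 : r < 7000
  · exact allRange_spec e7EmbComm_3_6950 r (by omega) c28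
  by_cases c29 : r < 7050
  · exact allRange_spec e7EmbComm_3_7000 r (by omega) c29
  by_cases c30 : r < 7100
  · exact allRange_spec e7EmbComm_3_7050 r (by omega) c30
  by_cases c31 : r < 7150
  · exact allRange_spec e7EmbComm_3_7100 r (by omega) c31
  by_cases c32 : r < 7200
  · exact allRange_spec e7EmbComm_3_7150 r (by omega) c32
  by_cases c33 : r < 7250
  · exact allRange_spec e7EmbComm_3_7200 r (by omega) c33
  by_cases c34 : r < 7300
  · exact allRange_spec e7EmbComm_3_7250 r (by omega) c34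
  by_cases c35 : r < 7350
  · exact allRange_spec e7EmbComm_3_7300 r (by omega) c35
  exact allRange_spec e7EmbComm_3_7350 r (by omega) h2

end Cfsg.Agent.Lib.Helper3.ChevM
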