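import Cfsg.Prelude.Def_ChevE7
import Cfsg.Prelude.Def_ChevE8
import Cfsg.Agent.Lib.Helper3.ChevData.E7EmbDef
import Cfsg.Agent.Lib.Helper3.StEmb1
set_option autoImplicit false
set_option maxRecDepth 1000000
set_option Elab.async false

namespace Cfsg.Agent.Lib.Helper3.ChevM
open Cfsg.Agent.Lib.Helper3.StEmb

theorem e7EmbComm_4_7400 : allRange 7400 7450 ((fun k => embCommOK Cfsg.Lie.chevE7 Cfsg.Lie.chevE8 iotaE7E8 (k / 126) (k % 126))) = true := by decide +kernel
theorem e7EmbComm_4_7450 : allRange 7450 7500 ((fun k => embCommOK Cfsg.Lie.chevE7 Cfsg.Lie.chevE8 iotaE7E8 (k / 126) (k % 126))) = true := by decide +kernel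
theorem e7EmbComm_4_7500 : allRange 7500 7550 ((fun k => embCommOK Cfsg.Lie.chevE7 Cfsg.Lie.chevE8 iotaE7E8 (k / 126) (k % 126))) = true := by decide +kernel
theorem e7EmbComm_4_7550 : allRange 7550 7600 ((fun k => embCommOK Cfsg.Lie.chevE7 Cfsg.Lie.chevE8 iotaE7E8 (k / 126) (k % 126))) = true := by decide +kernel
theorem e7EmbComm_4_7600 : allRange 7600 7650 ((fun k => embCommOK Cfsg.Lie.chevE7 Cfsg.Lie.chevE8 iotaE7E8 (k / 126) (k % 126))) = true := by decide +kernel
theorem e7EmbComm_4_7650 : allRange 7650 7700 ((fun k => embCommOK Cfsg.Lie.chevE7 Cfsg.Lie.chevE8 iotaE7E8 (k / 126) (k % 126))) = true := by decide +kernel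
theorem e7EmbComm_4_7700 : allRange 7700 7750 ((fun k => embCommOK Cfsg.Lie.chevE7 Cfsg.Lie.chevE8 iotaE7E8 (k / 126) (k % 126))) = true := by decide +kernel
theorem e7EmbComm_4_7750 : allRange 7750 7800 ((fun k => embCommOK Cfsg.Lie.chevE7 Cfsg.Lie.chevE8 iotaE7E8 (k / 126) (k % 126))) = true := by decide +kernel
theorem e7EmbComm_4_7800 : allRange 7800 7850 ((fun k => embCommOK Cfsg.Lie.chevE7 Cfsg.Lie.chevE8 iotaE7E8 (k / 126) (k % 126))) = true := by decide +kernel
theorem e7EmbComm_4_7850 : allRange 7850 7900 ((fun k => embCommOK Cfsg.Lie.chevE7 Cfsg.Lie.chevE8 iotaE7E8 (k / 126) (k % 126))) = true := by decide +kernel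
theorem e7EmbComm_4_7900 : allRange 7900 7950 ((fun k => embCommOK Cfsg.Lie.chevE7 Cfsg.Lie.chevE8 iotaE7E8 (k / 126) (k % 126))) = true := by decide +kernel
theorem e7EmbComm_4_7950 : allRange 7950 8000 ((fun k => embCommOK Cfsg.Lie.chevE7 Cfsg.Lie.chevE8 iotaE7E8 (k / 126) (k % 126))) = true := by decide +kernel
theorem e7EmbComm_4_8000 : allRange 8000 8050 ((fun k => embCommOK Cfsg.Lie.chevE7 Cfsg.Lie.chevE8 iotaE7E8 (k / 126) (k % 126))) = true := by decide +kernel
theorem e7EmbComm_4_8050 : allRange 8050 8100 ((fun k => embCommOK Cfsg.Lie.chevE7 Cfsg.Lie.chevE8 iotaE7E8 (k / 126) (k % 126))) = true := by decide +kernel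
theorem e7EmbComm_4_8100 : allRange 8100 8150 ((fun k => embCommOK Cfsg.Lie.chevE7 Cfsg.Lie.chevE8 iotaE7E8 (k / 126) (k % 126))) = true := by decide +kernel
theorem e7EmbComm_4_8150 : allRange 8150 8200 ((fun k => embCommOK Cfsg.Lie.chevE7 Cfsg.Lie.chevE8 iotaE7E8 (k / 126) (k % 126))) = true := by decide +kernel
theorem e7EmbComm_4_8200 : allRange 8200 8250 ((fun k => embCommOK Cfsg.Lie.chevE7 Cfsg.Lie.chevE8 iotaE7E8 (k / 126) (k % 126))) = true := by decide +kernel
theorem e7EmbComm_4_8250 : allRange 8250 8300 ((fun k => embCommOK Cfsg.Lie.chevE7 Cfsg.Lie.chevE8 iotaE7E8 (k / 126) (k % 126))) = true := by decide +kernel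
theorem e7EmbComm_4_8300 : allRange 8300 8350 ((fun k => embCommOK Cfsg.Lie.chevE7 Cfsg.Lie.chevE8 iotaE7E8 (k / 126) (k % 126))) = true := by decide +kernel
theorem e7EmbComm_4_8350 : allRange 8350 8400 ((fun k => embCommOK Cfsg.Lie.chevE7 Cfsg.Lie.chevE8 iotaE7E8 (k / 126) (k % 126))) = true := by decide +kernel
theorem e7EmbComm_4_8400 : allRange 8400 8450 ((fun k => embCommOK Cfsg.Lie.chevE7 Cfsg.Lie.chevE8 iotaE7E8 (k / 126) (k % 126))) = true := by decide +kernel
theorem e7EmbComm_4_8450 : allRange 8450 8500 ((fun k => embCommOK Cfsg.Lie.chevE7 Cfsg.Lie.chevE8 iotaE7E8 (k / 126) (k % 126))) = true := by decide +kernel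
theorem e7EmbComm_4_8500 : allRange 8500 8550 ((fun k => embCommOK Cfsg.Lie.chevE7 Cfsg.Lie.chevE8 iotaE7E8 (k / 126) (k % 126))) = true := by decide +kernel
theorem e7EmbComm_4_8550 : allRange 8550 8600 ((fun k => embCommOK Cfsg.Lie.chevE7 Cfsg.Lie.chevE8 iotaE7E8 (k / 126) (k % 126))) = true := by decide +kernel
theorem e7EmbComm_4_8600 : allRange 8600 8650 ((fun k => embCommOK Cfsg.Lie.chevE7 Cfsg.Lie.chevE8 iotaE7E8 (k / 126) (k % 126))) = true := by decide +kernel
theorem e7EmbComm_4_8650 : allRange 8650 8700 ((fun k => embCommOK Cfsg.Lie.chevE7 Cfsg.Lie.chevE8 iotaE7E8 (k / 126) (k % 126))) = true := by decide +kernel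
theorem e7EmbComm_4_8700 : allRange 8700 8750 ((fun k => embCommOK Cfsg.Lie.chevE7 Cfsg.Lie.chevE8 iotaE7E8 (k / 126) (k % 126))) = true := by decide +kernel
theorem e7EmbComm_4_8750 : allRange 8750 8800 ((fun k => embCommOK Cfsg.Lie.chevE7 Cfsg.Lie.chevE8 iotaE7E8 (k / 126) (k % 126))) = true := by decide +kernel
theorem e7EmbComm_4_8800 : allRange 8800 8850 ((fun k => embCommOK Cfsg.Lie.chevE7 Cfsg.Lie.chevE8 iotaE7E8 (k / 126) (k % 126))) = true := by decide +kernel
theorem e7EmbComm_4_8850 : allRange 8850 8900 ((fun k => embCommOK Cfsg.Lie.chevE7 Cfsg.Lie.chevE8 iotaE7E8 (k / 126) (k % 126))) = true := by decide +kernel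
theorem e7EmbComm_4_8900 : allRange 8900 8950 ((fun k => embCommOK Cfsg.Lie.chevE7 Cfsg.Lie.chevE8 iotaE7E8 (k / 126) (k % 126))) = true := by decide +kernel
theorem e7EmbComm_4_8950 : allRange 8950 9000 ((fun k => embCommOK Cfsg.Lie.chevE7 Cfsg.Lie.chevE8 iotaE7E8 (k / 126) (k % 126))) = true := by decide +kernel
theorem e7EmbComm_4_9000 : allRange 9000 9050 ((fun k => embCommOK Cfsg.Lie.chevE7 Cfsg.Lie.chevE8 iotaE7E8 (k / 126) (k % 126))) = true := by decide +kernel
theorem e7EmbComm_4_9050 : allRange 9050 9100 ((fun k => embCommOK Cfsg.Lie.chevE7 Cfsg.Lie.chevE8 iotaE7E8 (k / 126) (k % 126))) = true := by decide +kernel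
theorem e7EmbComm_4_9100 : allRange 9100 9150 ((fun k => embCommOK Cfsg.Lie.chevE7 Cfsg.Lie.chevE8 iotaE7E8 (k / 126) (k % 126))) = true := by decide +kernel
theorem e7EmbComm_4_9150 : allRange 9150 9200 ((fun k => embCommOK Cfsg.Lie.chevE7 Cfsg.Lie.chevE8 iotaE7E8 (k / 126) (k % 126))) = true := by decide +kernel
theorem e7EmbComm_4_9200 : allRange 9200 9250 ((fun k => embCommOK Cfsg.Lie.chevE7 Cfsg.Lie.chevE8 iotaE7E8 (k / 126) (k % 126))) = true := by decide +kernel

/-- The embedding of the roots of type E7 into the roots of type E8 preserves the commutator formula (roots 7400 to 9249). -/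
theorem e7EmbComm_4 : ∀ r, 7400 ≤ r → r < 9250 → ((fun k => embCommOK Cfsg.Lie.chevE7 Cfsg.Lie.chevE8 iotaE7E8 (k / 126) (k % 126))) r = true := by
  intro r h1 h2
  by_cases c0 : r < 7450
  · exact allRange_spec e7EmbComm_4_7400 r (by omega) c0
  by_cases c1 : r < 7500
  · exact allRange_spec e7EmbComm_4_7450 r (by omega) c1
  by_cases c2 : r < 7550
  · exact allRange_spec e7EmbComm_4_7500 r (by omega) c2
  by_cases c3 : r < 7600
  · exact allRange_spec e7EmbComm_4_7550 r (by omega) c3
  by_cases c4 : r < 7650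
  · exact allRange_spec e7EmbComm_4_7600 r (by omega) c4
  by_cases c5 : r < 7700
  · exact allRange_spec e7EmbComm_4_7650 r (by omega) c5
  by_cases c6 : r < 7750
  · exact allRange_spec e7EmbComm_4_7700 r (by omega) c6
  by_cases c7 : r < 7800
  · exact allRange_spec e7EmbComm_4_7750 r (by omega) c7
  by_cases c8 : r < 7850
  · exact allRange_spec e7EmbComm_4_7800 r (by omega) c8
  by_cases c9 : r < 7900
  · exact allRange_spec e7EmbComm_4_7850 r (by omega) c9
  by_cases c10 : r < 7950
  · exact allRange_spec e7EmbComm_4_7900 r (by omega) c10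
  by_cases c11 : r < 8000
  · exact allRange_spec e7EmbComm_4_7950 r (by omega) c11
  by_cases c12 : r < 8050
  · exact allRange_spec e7EmbComm_4_8000 r (by omega) c12
  by_cases c13 : r < 8100
  · exact allRange_spec e7EmbComm_4_8050 r (by omega) c13
  by_cases c14 : r < 8150
  · exact allRange_spec e7EmbComm_4_8100 r (by omega) c14
  by_cases c15 : r < 8200
  · exact allRange_spec e7EmbComm_4_8150 r (by omega) c15
  by_cases c16 : r < 8250
  · exact allRange_spec e7EmbComm_4_8200 r (by omega) c16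
  by_cases c17 : r < 8300
  · exact allRange_spec e7EmbComm_4_8250 r (by omega) c17
  by_cases c18 : r < 8350
  · exact allRange_spec e7EmbComm_4_8300 r (by omega) c18
  by_cases c19 : r < 8400
  · exact allRange_spec e7EmbComm_4_8350 r (by omega) c19
  by_cases c20 : r < 8450
  · exact allRange_spec e7EmbComm_4_8400 r (by omega) c20
  by_cases c21 : r < 8500
  · exact allRange_spec e7EmbComm_4_8450 r (by omega) c21
  by_cases c22 : r < 8550
  · exact allRange_spec e7EmbComm_4_8500 r (by omega) c22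
  by_cases c23 : r < 8600
  · exact allRange_spec e7EmbComm_4_8550 r (by omega) c23
  by_cases c24 : r < 8650
  · exact allRange_spec e7EmbComm_4_8600 r (by omega) c24
  by_cases c25 : r < 8700
  · exact allRange_spec e7EmbComm_4_8650 r (by omega) c25
  by_cases c26 : r < 8750
  · exact allRange_spec e7EmbComm_4_8700 r (by omega) c26
  by_cases c27 : r < 8800
  · exact allRange_spec e7EmbComm_4_8750 r (by omega) c27
  by_cases c28 : r < 8850
  · exact allRange_spec e7EmbComm_4_8800 r (by omega) c28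
  by_cases c29 : r < 8900
  · exact allRange_spec e7EmbComm_4_8850 r (by omega) c29
  by_cases c30 : r < 8950
  · exact allRange_spec e7EmbComm_4_8900 r (by omega) c30
  by_cases c31 : r < 9000
  · exact allRange_spec e7EmbComm_4_8950 r (by omega) c31
  by_cases c32 : r < 9050
  · exact allRange_spec e7EmbComm_4_9000 r (by omega) c32
  by_cases c33 : r < 9100
  · exact allRange_spec e7EmbComm_4_9050 r (by omega) c33
  by_cases c34 : r < 9150
  · exact allRange_spec e7EmbComm_4_9100 r (by omega) c34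
  by_cases c35 : r < 9200
  · exact allRange_spec e7EmbComm_4_9150 r (by omega) c35
  exact allRange_spec e7EmbComm_4_9200 r (by omega) h2

end Cfsg.Agent.Lib.Helper3.ChevM
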