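import Cfsg.Prelude.Def_ChevE7
import Cfsg.Prelude.Def_ChevE8
import Cfsg.Agent.Lib.Helper3.ChevData.E7EmbDef
import Cfsg.Agent.Lib.Helper3.StEmb1
set_option autoImplicit false
set_option maxRecDepth 1000000
set_option Elab.async false

namespace Cfsg.Agent.Lib.Helper3.ChevM
open Cfsg.Agent.Lib.Helper3.StEmb

theorem e7EmbComm_5_9250 : allRange 9250 9300 ((fun k => embCommOK Cfsg.Lie.chevE7 Cfsg.Lie.chevE8 iotaE7E8 (k / 126) (k % 126))) = true := by decide +kernel
theorem e7EmbComm_5_9300 : allRange 9300 9350 ((fun k => embCommOK Cfsg.Lie.chevE7 Cfsg.Lie.chevE8 iotaE7E8 (k / 126) (k % 126))) = true := by decide +kernel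
theorem e7EmbComm_5_9350 : allRange 9350 9400 ((fun k => embCommOK Cfsg.Lie.chevE7 Cfsg.Lie.chevE8 iotaE7E8 (k / 126) (k % 126))) = true := by decide +kernel
theorem e7EmbComm_5_9400 : allRange 9400 9450 ((fun k => embCommOK Cfsg.Lie.chevE7 Cfsg.Lie.chevE8 iotaE7E8 (k / 126) (k % 126))) = true := by decide +kernel
theorem e7EmbComm_5_9450 : allRange 9450 9500 ((fun k => embCommOK Cfsg.Lie.chevE7 Cfsg.Lie.chevE8 iotaE7E8 (k / 126) (k % 126))) = true := by decide +kernel
theorem e7EmbComm_5_9500 : allRange 9500 9550 ((fun k => embCommOK Cfsg.Lie.chevE7 Cfsg.Lie.chevE8 iotaE7E8 (k / 126) (k % 126))) = true := by decide +kernel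
theorem e7EmbComm_5_9550 : allRange 9550 9600 ((fun k => embCommOK Cfsg.Lie.chevE7 Cfsg.Lie.chevE8 iotaE7E8 (k / 126) (k % 126))) = true := by decide +kernel
theorem e7EmbComm_5_9600 : allRange 9600 9650 ((fun k => embCommOK Cfsg.Lie.chevE7 Cfsg.Lie.chevE8 iotaE7E8 (k / 126) (k % 126))) = true := by decide +kernel
theorem e7EmbComm_5_9650 : allRange 9650 9700 ((fun k => embCommOK Cfsg.Lie.chevE7 Cfsg.Lie.chevE8 iotaE7E8 (k / 126) (k % 126))) = true := by decide +kernel
theorem e7EmbComm_5_9700 : allRange 9700 9750 ((fun k => embCommOK Cfsg.Lie.chevE7 Cfsg.Lie.chevE8 iotaE7E8 (k / 126) (k % 126))) = true := by decide +kernel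
theorem e7EmbComm_5_9750 : allRange 9750 9800 ((fun k => embCommOK Cfsg.Lie.chevE7 Cfsg.Lie.chevE8 iotaE7E8 (k / 126) (k % 126))) = true := by decide +kernel
theorem e7EmbComm_5_9800 : allRange 9800 9850 ((fun k => embCommOK Cfsg.Lie.chevE7 Cfsg.Lie.chevE8 iotaE7E8 (k / 126) (k % 126))) = true := by decide +kernel
theorem e7EmbComm_5_9850 : allRange 9850 9900 ((fun k => embCommOK Cfsg.Lie.chevE7 Cfsg.Lie.chevE8 iotaE7E8 (k / 126) (k % 126))) = true := by decide +kernel
theorem e7EmbComm_5_9900 : allRange 9900 9950 ((fun k => embCommOK Cfsg.Lie.chevE7 Cfsg.Lie.chevE8 iotaE7E8 (k / 126) (k % 126))) = true := by decide +kernel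
theorem e7EmbComm_5_9950 : allRange 9950 10000 ((fun k => embCommOK Cfsg.Lie.chevE7 Cfsg.Lie.chevE8 iotaE7E8 (k / 126) (k % 126))) = true := by decide +kernel
theorem e7EmbComm_5_10000 : allRange 10000 10050 ((fun k => embCommOK Cfsg.Lie.chevE7 Cfsg.Lie.chevE8 iotaE7E8 (k / 126) (k % 126))) = true := by decide +kernel
theorem e7EmbComm_5_10050 : allRange 10050 10100 ((fun k => embCommOK Cfsg.Lie.chevE7 Cfsg.Lie.chevE8 iotaE7E8 (k / 126) (k % 126))) = true := by decide +kernel
theorem e7EmbComm_5_10100 : allRange 10100 10150 ((fun k => embCommOK Cfsg.Lie.chevE7 Cfsg.Lie.chevE8 iotaE7E8 (k / 126) (k % 126))) = true := by decide +kernel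
theorem e7EmbComm_5_10150 : allRange 10150 10200 ((fun k => embCommOK Cfsg.Lie.chevE7 Cfsg.Lie.chevE8 iotaE7E8 (k / 126) (k % 126))) = true := by decide +kernel
theorem e7EmbComm_5_10200 : allRange 10200 10250 ((fun k => embCommOK Cfsg.Lie.chevE7 Cfsg.Lie.chevE8 iotaE7E8 (k / 126) (k % 126))) = true := by decide +kernel
theorem e7EmbComm_5_10250 : allRange 10250 10300 ((fun k => embCommOK Cfsg.Lie.chevE7 Cfsg.Lie.chevE8 iotaE7E8 (k / 126) (k % 126))) = true := by decide +kernel
theorem e7EmbComm_5_10300 : allRange 10300 10350 ((fun k => embCommOK Cfsg.Lie.chevE7 Cfsg.Lie.chevE8 iotaE7E8 (k / 126) (k % 126))) = true := by decide +kernel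
theorem e7EmbComm_5_10350 : allRange 10350 10400 ((fun k => embCommOK Cfsg.Lie.chevE7 Cfsg.Lie.chevE8 iotaE7E8 (k / 126) (k % 126))) = true := by decide +kernel
theorem e7EmbComm_5_10400 : allRange 10400 10450 ((fun k => embCommOK Cfsg.Lie.chevE7 Cfsg.Lie.chevE8 iotaE7E8 (k / 126) (k % 126))) = true := by decide +kernel
theorem e7EmbComm_5_10450 : allRange 10450 10500 ((fun k => embCommOK Cfsg.Lie.chevE7 Cfsg.Lie.chevE8 iotaE7E8 (k / 126) (k % 126))) = true := by decide +kernel
theorem e7EmbComm_5_10500 : allRange 10500 10550 ((fun k => embCommOK Cfsg.Lie.chevE7 Cfsg.Lie.chevE8 iotaE7E8 (k / 126) (k % 126))) = true := by decide +kernel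
theorem e7EmbComm_5_10550 : allRange 10550 10600 ((fun k => embCommOK Cfsg.Lie.chevE7 Cfsg.Lie.chevE8 iotaE7E8 (k / 126) (k % 126))) = true := by decide +kernel
theorem e7EmbComm_5_10600 : allRange 10600 10650 ((fun k => embCommOK Cfsg.Lie.chevE7 Cfsg.Lie.chevE8 iotaE7E8 (k / 126) (k % 126))) = true := by decide +kernel
theorem e7EmbComm_5_10650 : allRange 10650 10700 ((fun k => embCommOK Cfsg.Lie.chevE7 Cfsg.Lie.chevE8 iotaE7E8 (k / 126) (k % 126))) = true := by decide +kernel
theorem e7EmbComm_5_10700 : allRange 10700 10750 ((fun k => embCommOK Cfsg.Lie.chevE7 Cfsg.Lie.chevE8 iotaE7E8 (k / 126) (k % 126))) = true := by decide +kernel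
theorem e7EmbComm_5_10750 : allRange 10750 10800 ((fun k => embCommOK Cfsg.Lie.chevE7 Cfsg.Lie.chevE8 iotaE7E8 (k / 126) (k % 126))) = true := by decide +kernel
theorem e7EmbComm_5_10800 : allRange 10800 10850 ((fun k => embCommOK Cfsg.Lie.chevE7 Cfsg.Lie.chevE8 iotaE7E8 (k / 126) (k % 126))) = true := by decide +kernel
theorem e7EmbComm_5_10850 : allRange 10850 10900 ((fun k => embCommOK Cfsg.Lie.chevE7 Cfsg.Lie.chevE8 iotaE7E8 (k / 126) (k % 126))) = true := by decide +kernel
theorem e7EmbComm_5_10900 : allRange 10900 10950 ((fun k => embCommOK Cfsg.Lie.chevE7 Cfsg.Lie.chevE8 iotaE7E8 (k / 126) (k % 126))) = true := by decide +kernel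
theorem e7EmbComm_5_10950 : allRange 10950 11000 ((fun k => embCommOK Cfsg.Lie.chevE7 Cfsg.Lie.chevE8 iotaE7E8 (k / 126) (k % 126))) = true := by decide +kernel
theorem e7EmbComm_5_11000 : allRange 11000 11050 ((fun k => embCommOK Cfsg.Lie.chevE7 Cfsg.Lie.chevE8 iotaE7E8 (k / 126) (k % 126))) = true := by decide +kernel
theorem e7EmbComm_5_11050 : allRange 11050 11100 ((fun k => embCommOK Cfsg.Lie.chevE7 Cfsg.Lie.chevE8 iotaE7E8 (k / 126) (k % 126))) = true := by decide +kernel

/-- The embedding of the roots of type E7 into the roots of type E8 preserves the commutator formula (roots 9250 to 11099). -/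
theorem e7EmbComm_5 : ∀ r, 9250 ≤ r → r < 11100 → ((fun k => embCommOK Cfsg.Lie.chevE7 Cfsg.Lie.chevE8 iotaE7E8 (k / 126) (k % 126))) r = true := by
  intro r h1 h2
  by_cases c0 : r < 9300
  · exact allRange_spec e7EmbComm_5_9250 r (by omega) c0
  by_cases c1 : r < 9350
  · exact allRange_spec e7EmbComm_5_9300 r (by omega) c1
  by_cases c2 : r < 9400
  · exact allRange_spec e7EmbComm_5_9350 r (by omega) c2
  by_cases c3 : r < 9450
  · exact allRange_spec e7EmbComm_5_9400 r (by omega) c3
  by_cases c4 : r < 9500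
  · exact allRange_spec e7EmbComm_5_9450 r (by omega) c4
  by_cases c5 : r < 9550
  · exact allRange_spec e7EmbComm_5_9500 r (by omega) c5
  by_cases c6 : r < 9600
  · exact allRange_spec e7EmbComm_5_9550 r (by omega) c6
  by_cases c7 : r < 9650
  · exact allRange_spec e7EmbComm_5_9600 r (by omega) c7
  by_cases c8 : r < 9700
  · exact allRange_spec e7EmbComm_5_9650 r (by omega) c8
  by_cases c9 : r < 9750
  · exact allRange_spec e7EmbComm_5_9700 r (by omega) c9
  by_cases c10 : r < 9800
  · exact allRange_spec e7EmbComm_5_9750 r (by omega) c10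
  by_cases c11 : r < 9850
  · exact allRange_spec e7EmbComm_5_9800 r (by omega) c11
  by_cases c12 : r < 9900
  · exact allRange_spec e7EmbComm_5_9850 r (by omega) c12
  by_cases c13 : r < 9950
  · exact allRange_spec e7EmbComm_5_9900 r (by omega) c13
  by_cases c14 : r < 10000
  · exact allRange_spec e7EmbComm_5_9950 r (by omega) c14
  by_cases c15 : r < 10050
  · exact allRange_spec e7EmbComm_5_10000 r (by omega) c15
  by_cases c16 : r < 10100
  · exact allRange_spec e7EmbComm_5_10050 r (by omega) c16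
  by_cases c17 : r < 10150
  · exact allRange_spec e7EmbComm_5_10100 r (by omega) c17
  by_cases c18 : r < 10200
  · exact allRange_spec e7EmbComm_5_10150 r (by omega) c18
  by_cases c19 : r < 10250
  · exact allRange_spec e7EmbComm_5_10200 r (by omega) c19
  by_cases c20 : r < 10300
  · exact allRange_spec e7EmbComm_5_10250 r (by omega) c20
  by_cases c21 : r < 10350
  · exact allRange_spec e7EmbComm_5_10300 r (by omega) c21
  by_cases c22 : r < 10400
  · exact allRange_spec e7EmbComm_5_10350 r (by omega) c22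
  by_cases c23 : r < 10450
  · exact allRange_spec e7EmbComm_5_10400 r (by omega) c23
  by_cases c24 : r < 10500
  · exact allRange_spec e7EmbComm_5_10450 r (by omega) c24
  by_cases c25 : r < 10550
  · exact allRange_spec e7EmbComm_5_10500 r (by omega) c25
  by_cases c26 : r < 10600
  · exact allRange_spec e7EmbComm_5_10550 r (by omega) c26
  by_cases c27 : r < 10650
  · exact allRange_spec e7EmbComm_5_10600 r (by omega) c27
  by_cases c28 : r < 10700
  · exact allRange_spec e7EmbComm_5_10650 r (by omega) c28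
  by_cases c29 : r < 10750
  · exact allRange_spec e7EmbComm_5_10700 r (by omega) c29
  by_cases c30 : r < 10800
  · exact allRange_spec e7EmbComm_5_10750 r (by omega) c30
  by_cases c31 : r < 10850
  · exact allRange_spec e7EmbComm_5_10800 r (by omega) c31
  by_cases c32 : r < 10900
  · exact allRange_spec e7EmbComm_5_10850 r (by omega) c32
  by_cases c33 : r < 10950
  · exact allRange_spec e7EmbComm_5_10900 r (by omega) c33
  by_cases c34 : r < 11000
  · exact allRange_spec e7EmbComm_5_10950 r (by omega) c34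
  by_cases c35 : r < 11050
  · exact allRange_spec e7EmbComm_5_11000 r (by omega) c35
  exact allRange_spec e7EmbComm_5_11050 r (by omega) h2

end Cfsg.Agent.Lib.Helper3.ChevM
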