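import Cfsg.Prelude.Def_ChevE7
import Cfsg.Prelude.Def_ChevE8
import Cfsg.Agent.Lib.Helper3.ChevData.E7EmbDef
import Cfsg.Agent.Lib.Helper3.StEmb1
set_option autoImplicit false
set_option maxRecDepth 1000000
set_option Elab.async false

namespace Cfsg.Agent.Lib.Helper3.ChevM
open Cfsg.Agent.Lib.Helper3.StEmb

theorem e7EmbComm_6_11100 : allRange 11100 11150 ((fun k => embCommOK Cfsg.Lie.chevE7 Cfsg.Lie.chevE8 iotaE7E8 (k / 126) (k % 126))) = true := by decide +kernel
theorem e7EmbComm_6_11150 : allRange 11150 11200 ((fun k => embCommOK Cfsg.Lie.chevE7 Cfsg.Lie.chevE8 iotaE7E8 (k / 126) (k % 126))) = true := by decide +kernel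
theorem e7EmbComm_6_11200 : allRange 11200 11250 ((fun k => embCommOK Cfsg.Lie.chevE7 Cfsg.Lie.chevE8 iotaE7E8 (k / 126) (k % 126))) = true := by decide +kernel
theorem e7EmbComm_6_11250 : allRange 11250 11300 ((fun k => embCommOK Cfsg.Lie.chevE7 Cfsg.Lie.chevE8 iotaE7E8 (k / 126) (k % 126))) = true := by decide +kernel
theorem e7EmbComm_6_11300 : allRange 11300 11350 ((fun k => embCommOK Cfsg.Lie.chevE7 Cfsg.Lie.chevE8 iotaE7E8 (k / 126) (k % 126))) = true := by decide +kernel
theorem e7EmbComm_6_11350 : allRange 11350 11400 ((fun k => embCommOK Cfsg.Lie.chevE7 Cfsg.Lie.chevE8 iotaE7E8 (k / 126) (k % 126))) = true := by decide +kernel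
theorem e7EmbComm_6_11400 : allRange 11400 11450 ((fun k => embCommOK Cfsg.Lie.chevE7 Cfsg.Lie.chevE8 iotaE7E8 (k / 126) (k % 126))) = true := by decide +kernel
theorem e7EmbComm_6_11450 : allRange 11450 11500 ((fun k => embCommOK Cfsg.Lie.chevE7 Cfsg.Lie.chevE8 iotaE7E8 (k / 126) (k % 126))) = true := by decide +kernel
theorem e7EmbComm_6_11500 : allRange 11500 11550 ((fun k => embCommOK Cfsg.Lie.chevE7 Cfsg.Lie.chevE8 iotaE7E8 (k / 126) (k % 126))) = true := by decide +kernel
theorem e7EmbComm_6_11550 : allRange 11550 11600 ((fun k => embCommOK Cfsg.Lie.chevE7 Cfsg.Lie.chevE8 iotaE7E8 (k / 126) (k % 126))) = true := by decide +kernel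
theorem e7EmbComm_6_11600 : allRange 11600 11650 ((fun k => embCommOK Cfsg.Lie.chevE7 Cfsg.Lie.chevE8 iotaE7E8 (k / 126) (k % 126))) = true := by decide +kernel
theorem e7EmbComm_6_11650 : allRange 11650 11700 ((fun k => embCommOK Cfsg.Lie.chevE7 Cfsg.Lie.chevE8 iotaE7E8 (k / 126) (k % 126))) = true := by decide +kernel
theorem e7EmbComm_6_11700 : allRange 11700 11750 ((fun k => embCommOK Cfsg.Lie.chevE7 Cfsg.Lie.chevE8 iotaE7E8 (k / 126) (k % 126))) = true := by decide +kernel
theorem e7EmbComm_6_11750 : allRange 11750 11800 ((fun k => embCommOK Cfsg.Lie.chevE7 Cfsg.Lie.chevE8 iotaE7E8 (k / 126) (k % 126))) = true := by decide +kernel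
theorem e7EmbComm_6_11800 : allRange 11800 11850 ((fun k => embCommOK Cfsg.Lie.chevE7 Cfsg.Lie.chevE8 iotaE7E8 (k / 126) (k % 126))) = true := by decide +kernel
theorem e7EmbComm_6_11850 : allRange 11850 11900 ((fun k => embCommOK Cfsg.Lie.chevE7 Cfsg.Lie.chevE8 iotaE7E8 (k / 126) (k % 126))) = true := by decide +kernel
theorem e7EmbComm_6_11900 : allRange 11900 11950 ((fun k => embCommOK Cfsg.Lie.chevE7 Cfsg.Lie.chevE8 iotaE7E8 (k / 126) (k % 126))) = true := by decide +kernel
theorem e7EmbComm_6_11950 : allRange 11950 12000 ((fun k => embCommOK Cfsg.Lie.chevE7 Cfsg.Lie.chevE8 iotaE7E8 (k / 126) (k % 126))) = true := by decide +kernel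
theorem e7EmbComm_6_12000 : allRange 12000 12050 ((fun k => embCommOK Cfsg.Lie.chevE7 Cfsg.Lie.chevE8 iotaE7E8 (k / 126) (k % 126))) = true := by decide +kernel
theorem e7EmbComm_6_12050 : allRange 12050 12100 ((fun k => embCommOK Cfsg.Lie.chevE7 Cfsg.Lie.chevE8 iotaE7E8 (k / 126) (k % 126))) = true := by decide +kernel
theorem e7EmbComm_6_12100 : allRange 12100 12150 ((fun k => embCommOK Cfsg.Lie.chevE7 Cfsg.Lie.chevE8 iotaE7E8 (k / 126) (k % 126))) = true := by decide +kernel
theorem e7EmbComm_6_12150 : allRange 12150 12200 ((fun k => embCommOK Cfsg.Lie.chevE7 Cfsg.Lie.chevE8 iotaE7E8 (k / 126) (k % 126))) = true := by decide +kernel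
theorem e7EmbComm_6_12200 : allRange 12200 12250 ((fun k => embCommOK Cfsg.Lie.chevE7 Cfsg.Lie.chevE8 iotaE7E8 (k / 126) (k % 126))) = true := by decide +kernel
theorem e7EmbComm_6_12250 : allRange 12250 12300 ((fun k => embCommOK Cfsg.Lie.chevE7 Cfsg.Lie.chevE8 iotaE7E8 (k / 126) (k % 126))) = true := by decide +kernel
theorem e7EmbComm_6_12300 : allRange 12300 12350 ((fun k => embCommOK Cfsg.Lie.chevE7 Cfsg.Lie.chevE8 iotaE7E8 (k / 126) (k % 126))) = true := by decide +kernel
theorem e7EmbComm_6_12350 : allRange 12350 12400 ((fun k => embCommOK Cfsg.Lie.chevE7 Cfsg.Lie.chevE8 iotaE7E8 (k / 126) (k % 126))) = true := by decide +kernel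
theorem e7EmbComm_6_12400 : allRange 12400 12450 ((fun k => embCommOK Cfsg.Lie.chevE7 Cfsg.Lie.chevE8 iotaE7E8 (k / 126) (k % 126))) = true := by decide +kernel
theorem e7EmbComm_6_12450 : allRange 12450 12500 ((fun k => embCommOK Cfsg.Lie.chevE7 Cfsg.Lie.chevE8 iotaE7E8 (k / 126) (k % 126))) = true := by decide +kernel
theorem e7EmbComm_6_12500 : allRange 12500 12550 ((fun k => embCommOK Cfsg.Lie.chevE7 Cfsg.Lie.chevE8 iotaE7E8 (k / 126) (k % 126))) = true := by decide +kernel
theorem e7EmbComm_6_12550 : allRange 12550 12600 ((fun k => embCommOK Cfsg.Lie.chevE7 Cfsg.Lie.chevE8 iotaE7E8 (k / 126) (k % 126))) = true := by decide +kernel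
theorem e7EmbComm_6_12600 : allRange 12600 12650 ((fun k => embCommOK Cfsg.Lie.chevE7 Cfsg.Lie.chevE8 iotaE7E8 (k / 126) (k % 126))) = true := by decide +kernel
theorem e7EmbComm_6_12650 : allRange 12650 12700 ((fun k => embCommOK Cfsg.Lie.chevE7 Cfsg.Lie.chevE8 iotaE7E8 (k / 126) (k % 126))) = true := by decide +kernel
theorem e7EmbComm_6_12700 : allRange 12700 12750 ((fun k => embCommOK Cfsg.Lie.chevE7 Cfsg.Lie.chevE8 iotaE7E8 (k / 126) (k % 126))) = true := by decide +kernel
theorem e7EmbComm_6_12750 : allRange 12750 12800 ((fun k => embCommOK Cfsg.Lie.chevE7 Cfsg.Lie.chevE8 iotaE7E8 (k / 126) (k % 126))) = true := by decide +kernel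
theorem e7EmbComm_6_12800 : allRange 12800 12850 ((fun k => embCommOK Cfsg.Lie.chevE7 Cfsg.Lie.chevE8 iotaE7E8 (k / 126) (k % 126))) = true := by decide +kernel
theorem e7EmbComm_6_12850 : allRange 12850 12900 ((fun k => embCommOK Cfsg.Lie.chevE7 Cfsg.Lie.chevE8 iotaE7E8 (k / 126) (k % 126))) = true := by decide +kernel
theorem e7EmbComm_6_12900 : allRange 12900 12950 ((fun k => embCommOK Cfsg.Lie.chevE7 Cfsg.Lie.chevE8 iotaE7E8 (k / 126) (k % 126))) = true := by decide +kernel

/-- The embedding of the roots of type E7 into the roots of type E8 preserves the commutator formula (roots 11100 to 12949). -/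
theorem e7EmbComm_6 : ∀ r, 11100 ≤ r → r < 12950 → ((fun k => embCommOK Cfsg.Lie.chevE7 Cfsg.Lie.chevE8 iotaE7E8 (k / 126) (k % 126))) r = true := by
  intro r h1 h2
  by_cases c0 : r < 11150
  · exact allRange_spec e7EmbComm_6_11100 r (by omega) c0
  by_cases c1 : r < 11200
  · exact allRange_spec e7EmbComm_6_11150 r (by omega) c1
  by_cases c2 : r < 11250
  · exact allRange_spec e7EmbComm_6_11200 r (by omega) c2
  by_cases c3 : r < 11300
  · exact allRange_spec e7EmbComm_6_11250 r (by omega) c3
  by_cases c4 : r < 11350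
  · exact allRange_spec e7EmbComm_6_11300 r (by omega) c4
  by_cases c5 : r < 11400
  · exact allRange_spec e7EmbComm_6_11350 r (by omega) c5
  by_cases c6 : r < 11450
  · exact allRange_spec e7EmbComm_6_11400 r (by omega) c6
  by_cases c7 : r < 11500
  · exact allRange_spec e7EmbComm_6_11450 r (by omega) c7
  by_cases c8 : r < 11550
  · exact allRange_spec e7EmbComm_6_11500 r (by omega) c8
  by_cases c9 : r < 11600
  · exact allRange_spec e7EmbComm_6_11550 r (by omega) c9
  by_cases c10 : r < 11650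
  · exact allRange_spec e7EmbComm_6_11600 r (by omega) c10
  by_cases c11 : r < 11700
  · exact allRange_spec e7EmbComm_6_11650 r (by omega) c11
  by_cases c12 : r < 11750
  · exact allRange_spec e7EmbComm_6_11700 r (by omega) c12
  by_cases c13 : r < 11800
  · exact allRange_spec e7EmbComm_6_11750 r (by omega) c13
  by_cases c14 : r < 11850
  · exact allRange_spec e7EmbComm_6_11800 r (by omega) c14
  by_cases c15 : r < 11900
  · exact allRange_spec e7EmbComm_6_11850 r (by omega) c15
  by_cases c16 : r < 11950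
  · exact allRange_spec e7EmbComm_6_11900 r (by omega) c16
  by_cases c17 : r < 12000
  · exact allRange_spec e7EmbComm_6_11950 r (by omega) c17
  by_cases c18 : r < 12050
  · exact allRange_spec e7EmbComm_6_12000 r (by omega) c18
  by_cases c19 : r < 12100
  · exact allRange_spec e7EmbComm_6_12050 r (by omega) c19
  by_cases c20 : r < 12150
  · exact allRange_spec e7EmbComm_6_12100 r (by omega) c20
  by_cases c21 : r < 12200
  · exact allRange_spec e7EmbComm_6_12150 r (by omega) c21
  by_cases c22 : r < 12250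
  · exact allRange_spec e7EmbComm_6_12200 r (by omega) c22
  by_cases c23 : r < 12300
  · exact allRange_spec e7EmbComm_6_12250 r (by omega) c23
  by_cases c24 : r < 12350
  · exact allRange_spec e7EmbComm_6_12300 r (by omega) c24
  by_cases c25 : r < 12400
  · exact allRange_spec e7EmbComm_6_12350 r (by omega) c25
  by_cases c26 : r < 12450
  · exact allRange_spec e7EmbComm_6_12400 r (by omega) c26
  by_cases c27 : r < 12500
  · exact allRange_spec e7EmbComm_6_12450 r (by omega) c27
  by_cases c28 : r < 12550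
  · exact allRange_spec e7EmbComm_6_12500 r (by omega) c28
  by_cases c29 : r < 12600
  · exact allRange_spec e7EmbComm_6_12550 r (by omega) c29
  by_cases c30 : r < 12650
  · exact allRange_spec e7EmbComm_6_12600 r (by omega) c30
  by_cases c31 : r < 12700
  · exact allRange_spec e7EmbComm_6_12650 r (by omega) c31
  by_cases c32 : r < 12750
  · exact allRange_spec e7EmbComm_6_12700 r (by omega) c32
  by_cases c33 : r < 12800
  · exact allRange_spec e7EmbComm_6_12750 r (by omega) c33
  by_cases c34 : r < 12850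
  · exact allRange_spec e7EmbComm_6_12800 r (by omega) c34
  by_cases c35 : r < 12900
  · exact allRange_spec e7EmbComm_6_12850 r (by omega) c35
  exact allRange_spec e7EmbComm_6_12900 r (by omega) h2

end Cfsg.Agent.Lib.Helper3.ChevM
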