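import Cfsg.Prelude.Def_ChevE7
import Cfsg.Prelude.Def_ChevE8
import Cfsg.Agent.Lib.Helper3.ChevData.E7EmbDef
import Cfsg.Agent.Lib.Helper3.StEmb1
set_option autoImplicit false
set_option maxRecDepth 1000000
set_option Elab.async false

namespace Cfsg.Agent.Lib.Helper3.ChevM
open Cfsg.Agent.Lib.Helper3.StEmb

theorem e7EmbComm_7_12950 : allRange 12950 13000 ((fun k => embCommOK Cfsg.Lie.chevE7 Cfsg.Lie.chevE8 iotaE7E8 (k / 126) (k % 126))) = true := by decide +kernel
theorem e7EmbComm_7_13000 : allRange 13000 13050 ((fun k => embCommOK Cfsg.Lie.chevE7 Cfsg.Lie.chevE8 iotaE7E8 (k / 126) (k % 126))) = true := by decide +kernel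
theorem e7EmbComm_7_13050 : allRange 13050 13100 ((fun k => embCommOK Cfsg.Lie.chevE7 Cfsg.Lie.chevE8 iotaE7E8 (k / 126) (k % 126))) = true := by decide +kernel
theorem e7EmbComm_7_13100 : allRange 13100 13150 ((fun k => embCommOK Cfsg.Lie.chevE7 Cfsg.Lie.chevE8 iotaE7E8 (k / 126) (k % 126))) = true := by decide +kernel
theorem e7EmbComm_7_13150 : allRange 13150 13200 ((fun k => embCommOK Cfsg.Lie.chevE7 Cfsg.Lie.chevE8 iotaE7E8 (k / 126) (k % 126))) = true := by decide +kernel
theorem e7EmbComm_7_13200 : allRange 13200 13250 ((fun k => embCommOK Cfsg.Lie.chevE7 Cfsg.Lie.chevE8 iotaE7E8 (k / 126) (k % 126))) = true := by decide +kernel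
theorem e7EmbComm_7_13250 : allRange 13250 13300 ((fun k => embCommOK Cfsg.Lie.chevE7 Cfsg.Lie.chevE8 iotaE7E8 (k / 126) (k % 126))) = true := by decide +kernel
theorem e7EmbComm_7_13300 : allRange 13300 13350 ((fun k => embCommOK Cfsg.Lie.chevE7 Cfsg.Lie.chevE8 iotaE7E8 (k / 126) (k % 126))) = true := by decide +kernel
theorem e7EmbComm_7_13350 : allRange 13350 13400 ((fun k => embCommOK Cfsg.Lie.chevE7 Cfsg.Lie.chevE8 iotaE7E8 (k / 126) (k % 126))) = true := by decide +kernel
theorem e7EmbComm_7_13400 : allRange 13400 13450 ((fun k => embCommOK Cfsg.Lie.chevE7 Cfsg.Lie.chevE8 iotaE7E8 (k / 126) (k % 126))) = true := by decide +kernel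
theorem e7EmbComm_7_13450 : allRange 13450 13500 ((fun k => embCommOK Cfsg.Lie.chevE7 Cfsg.Lie.chevE8 iotaE7E8 (k / 126) (k % 126))) = true := by decide +kernel
theorem e7EmbComm_7_13500 : allRange 13500 13550 ((fun k => embCommOK Cfsg.Lie.chevE7 Cfsg.Lie.chevE8 iotaE7E8 (k / 126) (k % 126))) = true := by decide +kernel
theorem e7EmbComm_7_13550 : allRange 13550 13600 ((fun k => embCommOK Cfsg.Lie.chevE7 Cfsg.Lie.chevE8 iotaE7E8 (k / 126) (k % 126))) = true := by decide +kernel
theorem e7EmbComm_7_13600 : allRange 13600 13650 ((fun k => embCommOK Cfsg.Lie.chevE7 Cfsg.Lie.chevE8 iotaE7E8 (k / 126) (k % 126))) = true := by decide +kernel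
theorem e7EmbComm_7_13650 : allRange 13650 13700 ((fun k => embCommOK Cfsg.Lie.chevE7 Cfsg.Lie.chevE8 iotaE7E8 (k / 126) (k % 126))) = true := by decide +kernel
theorem e7EmbComm_7_13700 : allRange 13700 13750 ((fun k => embCommOK Cfsg.Lie.chevE7 Cfsg.Lie.chevE8 iotaE7E8 (k / 126) (k % 126))) = true := by decide +kernel
theorem e7EmbComm_7_13750 : allRange 13750 13800 ((fun k => embCommOK Cfsg.Lie.chevE7 Cfsg.Lie.chevE8 iotaE7E8 (k / 126) (k % 126))) = true := by decide +kernel
theorem e7EmbComm_7_13800 : allRange 13800 13850 ((fun k => embCommOK Cfsg.Lie.chevE7 Cfsg.Lie.chevE8 iotaE7E8 (k / 126) (k % 126))) = true := by decide +kernel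
theorem e7EmbComm_7_13850 : allRange 13850 13900 ((fun k => embCommOK Cfsg.Lie.chevE7 Cfsg.Lie.chevE8 iotaE7E8 (k / 126) (k % 126))) = true := by decide +kernel
theorem e7EmbComm_7_13900 : allRange 13900 13950 ((fun k => embCommOK Cfsg.Lie.chevE7 Cfsg.Lie.chevE8 iotaE7E8 (k / 126) (k % 126))) = true := by decide +kernel
theorem e7EmbComm_7_13950 : allRange 13950 14000 ((fun k => embCommOK Cfsg.Lie.chevE7 Cfsg.Lie.chevE8 iotaE7E8 (k / 126) (k % 126))) = true := by decide +kernel
theorem e7EmbComm_7_14000 : allRange 14000 14050 ((fun k => embCommOK Cfsg.Lie.chevE7 Cfsg.Lie.chevE8 iotaE7E8 (k / 126) (k % 126))) = true := by decide +kernel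
theorem e7EmbComm_7_14050 : allRange 14050 14100 ((fun k => embCommOK Cfsg.Lie.chevE7 Cfsg.Lie.chevE8 iotaE7E8 (k / 126) (k % 126))) = true := by decide +kernel
theorem e7EmbComm_7_14100 : allRange 14100 14150 ((fun k => embCommOK Cfsg.Lie.chevE7 Cfsg.Lie.chevE8 iotaE7E8 (k / 126) (k % 126))) = true := by decide +kernel
theorem e7EmbComm_7_14150 : allRange 14150 14200 ((fun k => embCommOK Cfsg.Lie.chevE7 Cfsg.Lie.chevE8 iotaE7E8 (k / 126) (k % 126))) = true := by decide +kernel
theorem e7EmbComm_7_14200 : allRange 14200 14250 ((fun k => embCommOK Cfsg.Lie.chevE7 Cfsg.Lie.chevE8 iotaE7E8 (k / 126) (k % 126))) = true := by decide +kernel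
theorem e7EmbComm_7_14250 : allRange 14250 14300 ((fun k => embCommOK Cfsg.Lie.chevE7 Cfsg.Lie.chevE8 iotaE7E8 (k / 126) (k % 126))) = true := by decide +kernel
theorem e7EmbComm_7_14300 : allRange 14300 14350 ((fun k => embCommOK Cfsg.Lie.chevE7 Cfsg.Lie.chevE8 iotaE7E8 (k / 126) (k % 126))) = true := by decide +kernel
theorem e7EmbComm_7_14350 : allRange 14350 14400 ((fun k => embCommOK Cfsg.Lie.chevE7 Cfsg.Lie.chevE8 iotaE7E8 (k / 126) (k % 126))) = true := by decide +kernel
theorem e7EmbComm_7_14400 : allRange 14400 14450 ((fun k => embCommOK Cfsg.Lie.chevE7 Cfsg.Lie.chevE8 iotaE7E8 (k / 126) (k % 126))) = true := by decide +kernel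
theorem e7EmbComm_7_14450 : allRange 14450 14500 ((fun k => embCommOK Cfsg.Lie.chevE7 Cfsg.Lie.chevE8 iotaE7E8 (k / 126) (k % 126))) = true := by decide +kernel
theorem e7EmbComm_7_14500 : allRange 14500 14550 ((fun k => embCommOK Cfsg.Lie.chevE7 Cfsg.Lie.chevE8 iotaE7E8 (k / 126) (k % 126))) = true := by decide +kernel
theorem e7EmbComm_7_14550 : allRange 14550 14600 ((fun k => embCommOK Cfsg.Lie.chevE7 Cfsg.Lie.chevE8 iotaE7E8 (k / 126) (k % 126))) = true := by decide +kernel
theorem e7EmbComm_7_14600 : allRange 14600 14650 ((fun k => embCommOK Cfsg.Lie.chevE7 Cfsg.Lie.chevE8 iotaE7E8 (k / 126) (k % 126))) = true := by decide +kernel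
theorem e7EmbComm_7_14650 : allRange 14650 14700 ((fun k => embCommOK Cfsg.Lie.chevE7 Cfsg.Lie.chevE8 iotaE7E8 (k / 126) (k % 126))) = true := by decide +kernel
theorem e7EmbComm_7_14700 : allRange 14700 14750 ((fun k => embCommOK Cfsg.Lie.chevE7 Cfsg.Lie.chevE8 iotaE7E8 (k / 126) (k % 126))) = true := by decide +kernel
theorem e7EmbComm_7_14750 : allRange 14750 14800 ((fun k => embCommOK Cfsg.Lie.chevE7 Cfsg.Lie.chevE8 iotaE7E8 (k / 126) (k % 126))) = true := by decide +kernel

/-- The embedding of the roots of type E7 into the roots of type E8 preserves the commutator formula (roots 12950 to 14799). -/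
theorem e7EmbComm_7 : ∀ r, 12950 ≤ r → r < 14800 → ((fun k => embCommOK Cfsg.Lie.chevE7 Cfsg.Lie.chevE8 iotaE7E8 (k / 126) (k % 126))) r = true := by
  intro r h1 h2
  by_cases c0 : r < 13000
  · exact allRange_spec e7EmbComm_7_12950 r (by omega) c0
  by_cases c1 : r < 13050
  · exact allRange_spec e7EmbComm_7_13000 r (by omega) c1
  by_cases c2 : r < 13100
  · exact allRange_spec e7EmbComm_7_13050 r (by omega) c2
  by_cases c3 : r < 13150
  · exact allRange_spec e7EmbComm_7_13100 r (by omega) c3
  by_cases c4 : r < 13200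
  · exact allRange_spec e7EmbComm_7_13150 r (by omega) c4
  by_cases c5 : r < 13250
  · exact allRange_spec e7EmbComm_7_13200 r (by omega) c5
  by_cases c6 : r < 13300
  · exact allRange_spec e7EmbComm_7_13250 r (by omega) c6
  by_cases c7 : r < 13350
  · exact allRange_spec e7EmbComm_7_13300 r (by omega) c7
  by_cases c8 : r < 13400
  · exact allRange_spec e7EmbComm_7_13350 r (by omega) c8
  by_cases c9 : r < 13450
  · exact allRange_spec e7EmbComm_7_13400 r (by omega) c9
  by_cases c10 : r < 13500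
  · exact allRange_spec e7EmbComm_7_13450 r (by omega) c10
  by_cases c11 : r < 13550
  · exact allRange_spec e7EmbComm_7_13500 r (by omega) c11
  by_cases c12 : r < 13600
  · exact allRange_spec e7EmbComm_7_13550 r (by omega) c12
  by_cases c13 : r < 13650
  · exact allRange_spec e7EmbComm_7_13600 r (by omega) c13
  by_cases c14 : r < 13700
  · exact allRange_spec e7EmbComm_7_13650 r (by omega) c14
  by_cases c15 : r < 13750
  · exact allRange_spec e7EmbComm_7_13700 r (by omega) c15
  by_cases c16 : r < 13800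
  · exact allRange_spec e7EmbComm_7_13750 r (by omega) c16
  by_cases c17 : r < 13850
  · exact allRange_spec e7EmbComm_7_13800 r (by omega) c17
  by_cases c18 : r < 13900
  · exact allRange_spec e7EmbComm_7_13850 r (by omega) c18
  by_cases c19 : r < 13950
  · exact allRange_spec e7EmbComm_7_13900 r (by omega) c19
  by_cases c20 : r < 14000
  · exact allRange_spec e7EmbComm_7_13950 r (by omega) c20
  by_cases c21 : r < 14050
  · exact allRange_spec e7EmbComm_7_14000 r (by omega) c21
  by_cases c22 : r < 14100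
  · exact allRange_spec e7EmbComm_7_14050 r (by omega) c22
  by_cases c23 : r < 14150
  · exact allRange_spec e7EmbComm_7_14100 r (by omega) c23
  by_cases c24 : r < 14200
  · exact allRange_spec e7EmbComm_7_14150 r (by omega) c24
  by_cases c25 : r < 14250
  · exact allRange_spec e7EmbComm_7_14200 r (by omega) c25
  by_cases c26 : r < 14300
  · exact allRange_spec e7EmbComm_7_14250 r (by omega) c26
  by_cases c27 : r < 14350
  · exact allRange_spec e7EmbComm_7_14300 r (by omega) c27
  by_cases c28 : r < 14400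
  · exact allRange_spec e7EmbComm_7_14350 r (by omega) c28
  by_cases c29 : r < 14450
  · exact allRange_spec e7EmbComm_7_14400 r (by omega) c29
  by_cases c30 : r < 14500
  · exact allRange_spec e7EmbComm_7_14450 r (by omega) c30
  by_cases c31 : r < 14550
  · exact allRange_spec e7EmbComm_7_14500 r (by omega) c31
  by_cases c32 : r < 14600
  · exact allRange_spec e7EmbComm_7_14550 r (by omega) c32
  by_cases c33 : r < 14650
  · exact allRange_spec e7EmbComm_7_14600 r (by omega) c33
  by_cases c34 : r < 14700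
  · exact allRange_spec e7EmbComm_7_14650 r (by omega) c34
  by_cases c35 : r < 14750
  · exact allRange_spec e7EmbComm_7_14700 r (by omega) c35
  exact allRange_spec e7EmbComm_7_14750 r (by omega) h2

end Cfsg.Agent.Lib.Helper3.ChevM
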