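import Cfsg.Prelude.Def_ChevE7
import Cfsg.Prelude.Def_ChevE8
import Cfsg.Agent.Lib.Helper3.ChevData.E7EmbDef
import Cfsg.Agent.Lib.Helper3.StEmb1
set_option autoImplicit false
set_option maxRecDepth 1000000
set_option Elab.async false

namespace Cfsg.Agent.Lib.Helper3.ChevM
open Cfsg.Agent.Lib.Helper3.StEmb

theorem e7EmbComm_8_14800 : allRange 14800 14850 ((fun k => embCommOK Cfsg.Lie.chevE7 Cfsg.Lie.chevE8 iotaE7E8 (k / 126) (k % 126))) = true := by decide +kernel
theorem e7EmbComm_8_14850 : allRange 14850 14900 ((fun k => embCommOK Cfsg.Lie.chevE7 Cfsg.Lie.chevE8 iotaE7E8 (k / 126) (k % 126))) = true := by decide +kernel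
theorem e7EmbComm_8_14900 : allRange 14900 14950 ((fun k => embCommOK Cfsg.Lie.chevE7 Cfsg.Lie.chevE8 iotaE7E8 (k / 126) (k % 126))) = true := by decide +kernel
theorem e7EmbComm_8_14950 : allRange 14950 15000 ((fun k => embCommOK Cfsg.Lie.chevE7 Cfsg.Lie.chevE8 iotaE7E8 (k / 126) (k % 126))) = true := by decide +kernel
theorem e7EmbComm_8_15000 : allRange 15000 15050 ((fun k => embCommOK Cfsg.Lie.chevE7 Cfsg.Lie.chevE8 iotaE7E8 (k / 126) (k % 126))) = true := by decide +kernel
theorem e7EmbComm_8_15050 : allRange 15050 15100 ((fun k => embCommOK Cfsg.Lie.chevE7 Cfsg.Lie.chevE8 iotaE7E8 (k / 126) (k % 126))) = true := by decide +kernel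
theorem e7EmbComm_8_15100 : allRange 15100 15150 ((fun k => embCommOK Cfsg.Lie.chevE7 Cfsg.Lie.chevE8 iotaE7E8 (k / 126) (k % 126))) = true := by decide +kernel
theorem e7EmbComm_8_15150 : allRange 15150 15200 ((fun k => embCommOK Cfsg.Lie.chevE7 Cfsg.Lie.chevE8 iotaE7E8 (k / 126) (k % 126))) = true := by decide +kernel
theorem e7EmbComm_8_15200 : allRange 15200 15250 ((fun k => embCommOK Cfsg.Lie.chevE7 Cfsg.Lie.chevE8 iotaE7E8 (k / 126) (k % 126))) = true := by decide +kernel
theorem e7EmbComm_8_15250 : allRange 15250 15300 ((fun k => embCommOK Cfsg.Lie.chevE7 Cfsg.Lie.chevE8 iotaE7E8 (k / 126) (k % 126))) = true := by decide +kernel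
theorem e7EmbComm_8_15300 : allRange 15300 15350 ((fun k => embCommOK Cfsg.Lie.chevE7 Cfsg.Lie.chevE8 iotaE7E8 (k / 126) (k % 126))) = true := by decide +kernel
theorem e7EmbComm_8_15350 : allRange 15350 15400 ((fun k => embCommOK Cfsg.Lie.chevE7 Cfsg.Lie.chevE8 iotaE7E8 (k / 126) (k % 126))) = true := by decide +kernel
theorem e7EmbComm_8_15400 : allRange 15400 15450 ((fun k => embCommOK Cfsg.Lie.chevE7 Cfsg.Lie.chevE8 iotaE7E8 (k / 126) (k % 126))) = true := by decide +kernel
theorem e7EmbComm_8_15450 : allRange 15450 15500 ((fun k => embCommOK Cfsg.Lie.chevE7 Cfsg.Lie.chevE8 iotaE7E8 (k / 126) (k % 126))) = true := by decide +kernel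
theorem e7EmbComm_8_15500 : allRange 15500 15550 ((fun k => embCommOK Cfsg.Lie.chevE7 Cfsg.Lie.chevE8 iotaE7E8 (k / 126) (k % 126))) = true := by decide +kernel
theorem e7EmbComm_8_15550 : allRange 15550 15600 ((fun k => embCommOK Cfsg.Lie.chevE7 Cfsg.Lie.chevE8 iotaE7E8 (k / 126) (k % 126))) = true := by decide +kernel
theorem e7EmbComm_8_15600 : allRange 15600 15650 ((fun k => embCommOK Cfsg.Lie.chevE7 Cfsg.Lie.chevE8 iotaE7E8 (k / 126) (k % 126))) = true := by decide +kernel
theorem e7EmbComm_8_15650 : allRange 15650 15700 ((fun k => embCommOK Cfsg.Lie.chevE7 Cfsg.Lie.chevE8 iotaE7E8 (k / 126) (k % 126))) = true := by decide +kernel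
theorem e7EmbComm_8_15700 : allRange 15700 15750 ((fun k => embCommOK Cfsg.Lie.chevE7 Cfsg.Lie.chevE8 iotaE7E8 (k / 126) (k % 126))) = true := by decide +kernel
theorem e7EmbComm_8_15750 : allRange 15750 15800 ((fun k => embCommOK Cfsg.Lie.chevE7 Cfsg.Lie.chevE8 iotaE7E8 (k / 126) (k % 126))) = true := by decide +kernel
theorem e7EmbComm_8_15800 : allRange 15800 15850 ((fun k => embCommOK Cfsg.Lie.chevE7 Cfsg.Lie.chevE8 iotaE7E8 (k / 126) (k % 126))) = true := by decide +kernel
theorem e7EmbComm_8_15850 : allRange 15850 15876 ((fun k => embCommOK Cfsg.Lie.chevE7 Cfsg.Lie.chevE8 iotaE7E8 (k / 126) (k % 126))) = true := by decide +kernel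

/-- The embedding of the roots of type E7 into the roots of type E8 preserves the commutator formula (roots 14800 to 15875). -/
theorem e7EmbComm_8 : ∀ r, 14800 ≤ r → r < 15876 → ((fun k => embCommOK Cfsg.Lie.chevE7 Cfsg.Lie.chevE8 iotaE7E8 (k / 126) (k % 126))) r = true := by
  intro r h1 h2
  by_cases c0 : r < 14850
  · exact allRange_spec e7EmbComm_8_14800 r (by omega) c0
  by_cases c1 : r < 14900
  · exact allRange_spec e7EmbComm_8_14850 r (by omega) c1
  by_cases c2 : r < 14950
  · exact allRange_spec e7EmbComm_8_14900 r (by omega) c2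
  by_cases c3 : r < 15000
  · exact allRange_spec e7EmbComm_8_14950 r (by omega) c3
  by_cases c4 : r < 15050
  · exact allRange_spec e7EmbComm_8_15000 r (by omega) c4
  by_cases c5 : r < 15100
  · exact allRange_spec e7EmbComm_8_15050 r (by omega) c5
  by_cases c6 : r < 15150
  · exact allRange_spec e7EmbComm_8_15100 r (by omega) c6
  by_cases c7 : r < 15200
  · exact allRange_spec e7EmbComm_8_15150 r (by omega) c7
  by_cases c8 : r < 15250
  · exact allRange_spec e7EmbComm_8_15200 r (by omega) c8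
  by_cases c9 : r < 15300
  · exact allRange_spec e7EmbComm_8_15250 r (by omega) c9
  by_cases c10 : r < 15350
  · exact allRange_spec e7EmbComm_8_15300 r (by omega) c10
  by_cases c11 : r < 15400
  · exact allRange_spec e7EmbComm_8_15350 r (by omega) c11
  by_cases c12 : r < 15450
  · exact allRange_spec e7EmbComm_8_15400 r (by omega) c12
  by_cases c13 : r < 15500
  · exact allRange_spec e7EmbComm_8_15450 r (by omega) c13
  by_cases c14 : r < 15550
  · exact allRange_spec e7EmbComm_8_15500 r (by omega) c14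
  by_cases c15 : r < 15600
  · exact allRange_spec e7EmbComm_8_15550 r (by omega) c15
  by_cases c16 : r < 15650
  · exact allRange_spec e7EmbComm_8_15600 r (by omega) c16
  by_cases c17 : r < 15700
  · exact allRange_spec e7EmbComm_8_15650 r (by omega) c17
  by_cases c18 : r < 15750
  · exact allRange_spec e7EmbComm_8_15700 r (by omega) c18
  by_cases c19 : r < 15800
  · exact allRange_spec e7EmbComm_8_15750 r (by omega) c19
  by_cases c20 : r < 15850
  · exact allRange_spec e7EmbComm_8_15800 r (by omega) c20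
  exact allRange_spec e7EmbComm_8_15850 r (by omega) h2

end Cfsg.Agent.Lib.Helper3.ChevM
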