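import Cfsg.Agent.Lib.Helper3.ChevData.E7EmbCommA
import Cfsg.Agent.Lib.Helper3.ChevData.E7EmbCommB
import Cfsg.Agent.Lib.Helper3.ChevData.E7EmbCommC
import Cfsg.Agent.Lib.Helper3.ChevData.E7EmbCommD
import Cfsg.Agent.Lib.Helper3.ChevData.E7EmbCommE
import Cfsg.Agent.Lib.Helper3.ChevData.E7EmbCommF
import Cfsg.Agent.Lib.Helper3.ChevData.E7EmbCommG
import Cfsg.Agent.Lib.Helper3.ChevData.E7EmbCommH
import Cfsg.Agent.Lib.Helper3.ChevData.E7EmbCommI
set_option autoImplicit false

namespace Cfsg.Agent.Lib.Helper3.ChevM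
open Cfsg.Agent.Lib.Helper3.StEmb

/-- The embedding of the roots of type E7 into the roots of type E8 preserves the commutator formula. -/
theorem e7EmbComm : ∀ r < 15876, ((fun k => embCommOK Cfsg.Lie.chevE7 Cfsg.Lie.chevE8 iotaE7E8 (k / 126) (k % 126))) r = true := by
  intro r hr
  by_cases h0 : r < 1850
  · exact e7EmbComm_0 r (by omega) h0
  by_cases h1 : r < 3700
  · exact e7EmbComm_1 r (by omega) h1
  by_cases h2 : r < 5550
  · exact e7EmbComm_2 r (by omega) h2
  by_cases h3 : r < 7400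
  · exact e7EmbComm_3 r (by omega) h3
  by_cases h4 : r < 9250
  · exact e7EmbComm_4 r (by omega) h4
  by_cases h5 : r < 11100
  · exact e7EmbComm_5 r (by omega) h5
  by_cases h6 : r < 12950
  · exact e7EmbComm_6 r (by omega) h6
  by_cases h7 : r < 14800
  · exact e7EmbComm_7 r (by omega) h7
  exact e7EmbComm_8 r (by omega) hr

end Cfsg.Agent.Lib.Helper3.ChevM
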