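import Cfsg.Prelude.Def_ChevE7
import Cfsg.Prelude.Def_ChevE8
import Cfsg.Agent.Lib.Helper3.ChevData.E7EmbDef
import Cfsg.Agent.Lib.Helper3.StEmb1
set_option autoImplicit false
set_option maxRecDepth 1000000
set_option Elab.async false

namespace Cfsg.Agent.Lib.Helper3.ChevM
open Cfsg.Agent.Lib.Helper3.StEmb

theorem e7EmbComm_0_0 : allRange 0 50 ((fun k => embCommOK Cfsg.Lie.chevE7 Cfsg.Lie.chevE8 iotaE7E8 (k / 126) (k % 126))) = true := by decide +kernel
theorem e7EmbComm_0_50 : allRange 50 100 ((fun k => embCommOK Cfsg.Lie.chevE7 Cfsg.Lie.chevE8 iotaE7E8 (k / 126) (k % 126))) = true := by decide +kernel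
theorem e7EmbComm_0_100 : allRange 100 150 ((fun k => embCommOK Cfsg.Lie.chevE7 Cfsg.Lie.chevE8 iotaE7E8 (k / 126) (k % 126))) = true := by decide +kernel
theorem e7EmbComm_0_150 : allRange 150 200 ((fun k => embCommOK Cfsg.Lie.chevE7 Cfsg.Lie.chevE8 iotaE7E8 (k / 126) (k % 126))) = true := by decide +kernel
theorem e7EmbComm_0_200 : allRange 200 250 ((fun k => embCommOK Cfsg.Lie.chevE7 Cfsg.Lie.chevE8 iotaE7E8 (k / 126) (k % 126))) = true := by decide +kernel
theorem e7EmbComm_0_250 : allRange 250 300 ((fun k => embCommOK Cfsg.Lie.chevE7 Cfsg.Lie.chevE8 iotaE7E8 (k / 126) (k % 126))) = true := by decide +kernel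
theorem e7EmbComm_0_300 : allRange 300 350 ((fun k => embCommOK Cfsg.Lie.chevE7 Cfsg.Lie.chevE8 iotaE7E8 (k / 126) (k % 126))) = true := by decide +kernel
theorem e7EmbComm_0_350 : allRange 350 400 ((fun k => embCommOK Cfsg.Lie.chevE7 Cfsg.Lie.chevE8 iotaE7E8 (k / 126) (k % 126))) = true := by decide +kernel
theorem e7EmbComm_0_400 : allRange 400 450 ((fun k => embCommOK Cfsg.Lie.chevE7 Cfsg.Lie.chevE8 iotaE7E8 (k / 126) (k % 126))) = true := by decide +kernel
theorem e7EmbComm_0_450 : allRange 450 500 ((fun k => embCommOK Cfsg.Lie.chevE7 Cfsg.Lie.chevE8 iotaE7E8 (k / 126) (k % 126))) = true := by decide +kernel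
theorem e7EmbComm_0_500 : allRange 500 550 ((fun k => embCommOK Cfsg.Lie.chevE7 Cfsg.Lie.chevE8 iotaE7E8 (k / 126) (k % 126))) = true := by decide +kernel
theorem e7EmbComm_0_550 : allRange 550 600 ((fun k => embCommOK Cfsg.Lie.chevE7 Cfsg.Lie.chevE8 iotaE7E8 (k / 126) (k % 126))) = true := by decide +kernel
theorem e7EmbComm_0_600 : allRange 600 650 ((fun k => embCommOK Cfsg.Lie.chevE7 Cfsg.Lie.chevE8 iotaE7E8 (k / 126) (k % 126))) = true := by decide +kernel
theorem e7EmbComm_0_650 : allRange 650 700 ((fun k => embCommOK Cfsg.Lie.chevE7 Cfsg.Lie.chevE8 iotaE7E8 (k / 126) (k % 126))) = true := by decide +kernel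
theorem e7EmbComm_0_700 : allRange 700 750 ((fun k => embCommOK Cfsg.Lie.chevE7 Cfsg.Lie.chevE8 iotaE7E8 (k / 126) (k % 126))) = true := by decide +kernel
theorem e7EmbComm_0_750 : allRange 750 800 ((fun k => embCommOK Cfsg.Lie.chevE7 Cfsg.Lie.chevE8 iotaE7E8 (k / 126) (k % 126))) = true := by decide +kernel
theorem e7EmbComm_0_800 : allRange 800 850 ((fun k => embCommOK Cfsg.Lie.chevE7 Cfsg.Lie.chevE8 iotaE7E8 (k / 126) (k % 126))) = true := by decide +kernel
theorem e7EmbComm_0_850 : allRange 850 900 ((fun k => embCommOK Cfsg.Lie.chevE7 Cfsg.Lie.chevE8 iotaE7E8 (k / 126) (k % 126))) = true := by decide +kernel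
theorem e7EmbComm_0_900 : allRange 900 950 ((fun k => embCommOK Cfsg.Lie.chevE7 Cfsg.Lie.chevE8 iotaE7E8 (k / 126) (k % 126))) = true := by decide +kernel
theorem e7EmbComm_0_950 : allRange 950 1000 ((fun k => embCommOK Cfsg.Lie.chevE7 Cfsg.Lie.chevE8 iotaE7E8 (k / 126) (k % 126))) = true := by decide +kernel
theorem e7EmbComm_0_1000 : allRange 1000 1050 ((fun k => embCommOK Cfsg.Lie.chevE7 Cfsg.Lie.chevE8 iotaE7E8 (k / 126) (k % 126))) = true := by decide +kernel
theorem e7EmbComm_0_1050 : allRange 1050 1100 ((fun k => embCommOK Cfsg.Lie.chevE7 Cfsg.Lie.chevE8 iotaE7E8 (k / 126) (k % 126))) = true := by decide +kernel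
theorem e7EmbComm_0_1100 : allRange 1100 1150 ((fun k => embCommOK Cfsg.Lie.chevE7 Cfsg.Lie.chevE8 iotaE7E8 (k / 126) (k % 126))) = true := by decide +kernel
theorem e7EmbComm_0_1150 : allRange 1150 1200 ((fun k => embCommOK Cfsg.Lie.chevE7 Cfsg.Lie.chevE8 iotaE7E8 (k / 126) (k % 126))) = true := by decide +kernel
theorem e7EmbComm_0_1200 : allRange 1200 1250 ((fun k => embCommOK Cfsg.Lie.chevE7 Cfsg.Lie.chevE8 iotaE7E8 (k / 126) (k % 126))) = true := by decide +kernel
theorem e7EmbComm_0_1250 : allRange 1250 1300 ((fun k => embCommOK Cfsg.Lie.chevE7 Cfsg.Lie.chevE8 iotaE7E8 (k / 126) (k % 126))) = true := by decide +kernel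
theorem e7EmbComm_0_1300 : allRange 1300 1350 ((fun k => embCommOK Cfsg.Lie.chevE7 Cfsg.Lie.chevE8 iotaE7E8 (k / 126) (k % 126))) = true := by decide +kernel
theorem e7EmbComm_0_1350 : allRange 1350 1400 ((fun k => embCommOK Cfsg.Lie.chevE7 Cfsg.Lie.chevE8 iotaE7E8 (k / 126) (k % 126))) = true := by decide +kernel
theorem e7EmbComm_0_1400 : allRange 1400 1450 ((fun k => embCommOK Cfsg.Lie.chevE7 Cfsg.Lie.chevE8 iotaE7E8 (k / 126) (k % 126))) = true := by decide +kernel
theorem e7EmbComm_0_1450 : allRange 1450 1500 ((fun k => embCommOK Cfsg.Lie.chevE7 Cfsg.Lie.chevE8 iotaE7E8 (k / 126) (k % 126))) = true := by decide +kernel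
theorem e7EmbComm_0_1500 : allRange 1500 1550 ((fun k => embCommOK Cfsg.Lie.chevE7 Cfsg.Lie.chevE8 iotaE7E8 (k / 126) (k % 126))) = true := by decide +kernel
theorem e7EmbComm_0_1550 : allRange 1550 1600 ((fun k => embCommOK Cfsg.Lie.chevE7 Cfsg.Lie.chevE8 iotaE7E8 (k / 126) (k % 126))) = true := by decide +kernel
theorem e7EmbComm_0_1600 : allRange 1600 1650 ((fun k => embCommOK Cfsg.Lie.chevE7 Cfsg.Lie.chevE8 iotaE7E8 (k / 126) (k % 126))) = true := by decide +kernel
theorem e7EmbComm_0_1650 : allRange 1650 1700 ((fun k => embCommOK Cfsg.Lie.chevE7 Cfsg.Lie.chevE8 iotaE7E8 (k / 126) (k % 126))) = true := by decide +kernel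
theorem e7EmbComm_0_1700 : allRange 1700 1750 ((fun k => embCommOK Cfsg.Lie.chevE7 Cfsg.Lie.chevE8 iotaE7E8 (k / 126) (k % 126))) = true := by decide +kernel
theorem e7EmbComm_0_1750 : allRange 1750 1800 ((fun k => embCommOK Cfsg.Lie.chevE7 Cfsg.Lie.chevE8 iotaE7E8 (k / 126) (k % 126))) = true := by decide +kernel
theorem e7EmbComm_0_1800 : allRange 1800 1850 ((fun k => embCommOK Cfsg.Lie.chevE7 Cfsg.Lie.chevE8 iotaE7E8 (k / 126) (k % 126))) = true := by decide +kernel

/-- The embedding of the roots of type E7 into the roots of type E8 preserves the commutator formula (roots 0 to 1849). -/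
theorem e7EmbComm_0 : ∀ r, 0 ≤ r → r < 1850 → ((fun k => embCommOK Cfsg.Lie.chevE7 Cfsg.Lie.chevE8 iotaE7E8 (k / 126) (k % 126))) r = true := by
  intro r h1 h2
  by_cases c0 : r < 50
  · exact allRange_spec e7EmbComm_0_0 r (by omega) c0
  by_cases c1 : r < 100
  · exact allRange_spec e7EmbComm_0_50 r (by omega) c1
  by_cases c2 : r < 150
  · exact allRange_spec e7EmbComm_0_100 r (by omega) c2
  by_cases c3 : r < 200
  · exact allRange_spec e7EmbComm_0_150 r (by omega) c3
  by_cases c4 : r < 250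
  · exact allRange_spec e7EmbComm_0_200 r (by omega) c4
  by_cases c5 : r < 300
  · exact allRange_spec e7EmbComm_0_250 r (by omega) c5
  by_cases c6 : r < 350
  · exact allRange_spec e7EmbComm_0_300 r (by omega) c6
  by_cases c7 : r < 400
  · exact allRange_spec e7EmbComm_0_350 r (by omega) c7
  by_cases c8 : r < 450
  · exact allRange_spec e7EmbComm_0_400 r (by omega) c8
  by_cases c9 : r < 500
  · exact allRange_spec e7EmbComm_0_450 r (by omega) c9
  by_cases c10 : r < 550
  · exact allRange_spec e7EmbComm_0_500 r (by omega) c10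
  by_cases c11 : r < 600
  · exact allRange_spec e7EmbComm_0_550 r (by omega) c11
  by_cases c12 : r < 650
  · exact allRange_spec e7EmbComm_0_600 r (by omega) c12
  by_cases c13 : r < 700
  · exact allRange_spec e7EmbComm_0_650 r (by omega) c13
  by_cases c14 : r < 750
  · exact allRange_spec e7EmbComm_0_700 r (by omega) c14
  by_cases c15 : r < 800
  · exact allRange_spec e7EmbComm_0_750 r (by omega) c15
  by_cases c16 : r < 850
  · exact allRange_spec e7EmbComm_0_800 r (by omega) c16
  by_cases c17 : r < 900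
  · exact allRange_spec e7EmbComm_0_850 r (by omega) c17
  by_cases c18 : r < 950
  · exact allRange_spec e7EmbComm_0_900 r (by omega) c18
  by_cases c19 : r < 1000
  · exact allRange_spec e7EmbComm_0_950 r (by omega) c19
  by_cases c20 : r < 1050
  · exact allRange_spec e7EmbComm_0_1000 r (by omega) c20
  by_cases c21 : r < 1100
  · exact allRange_spec e7EmbComm_0_1050 r (by omega) c21
  by_cases c22 : r < 1150
  · exact allRange_spec e7EmbComm_0_1100 r (by omega) c22
  by_cases c23 : r < 1200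
  · exact allRange_spec e7EmbComm_0_1150 r (by omega) c23
  by_cases c24 : r < 1250
  · exact allRange_spec e7EmbComm_0_1200 r (by omega) c24
  by_cases c25 : r < 1300
  · exact allRange_spec e7EmbComm_0_1250 r (by omega) c25
  by_cases c26 : r < 1350
  · exact allRange_spec e7EmbComm_0_1300 r (by omega) c26
  by_cases c27 : r < 1400
  · exact allRange_spec e7EmbComm_0_1350 r (by omega) c27
  by_cases c28 : r < 1450
  · exact allRange_spec e7EmbComm_0_1400 r (by omega) c28
  by_cases c29 : r < 1500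
  · exact allRange_spec e7EmbComm_0_1450 r (by omega) c29
  by_cases c30 : r < 1550
  · exact allRange_spec e7EmbComm_0_1500 r (by omega) c30
  by_cases c31 : r < 1600
  · exact allRange_spec e7EmbComm_0_1550 r (by omega) c31
  by_cases c32 : r < 1650
  · exact allRange_spec e7EmbComm_0_1600 r (by omega) c32
  by_cases c33 : r < 1700
  · exact allRange_spec e7EmbComm_0_1650 r (by omega) c33
  by_cases c34 : r < 1750
  · exact allRange_spec e7EmbComm_0_1700 r (by omega) c34
  by_cases c35 : r < 1800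
  · exact allRange_spec e7EmbComm_0_1750 r (by omega) c35
  exact allRange_spec e7EmbComm_0_1800 r (by omega) h2

end Cfsg.Agent.Lib.Helper3.ChevM
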