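import Cfsg.Agent.Lib.Helper3.ChevData.E7EmbOkA
set_option autoImplicit false

namespace Cfsg.Agent.Lib.Helper3.ChevM
open Cfsg.Agent.Lib.Helper3.StEmb

/-- The embedding of the roots of type E7 into the roots of type E8 commutes with the opposition. -/
theorem e7EmbOk : ∀ r < 126, ((fun r => embOK Cfsg.Lie.chevE7 Cfsg.Lie.chevE8 iotaE7E8 kappaE7E8 r)) r = true := by
  intro r hr
  exact e7EmbOk_0 r (by omega) hr

end Cfsg.Agent.Lib.Helper3.ChevM
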