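import Cfsg.Agent.Lib.Helper3.ChevData.E7Datum
import Cfsg.Agent.Lib.Helper3.ChevData.E7Tabs
import Cfsg.Agent.Lib.Helper3.ChevM7
set_option autoImplicit false
set_option maxRecDepth 1000000
set_option Elab.async false

namespace Cfsg.Agent.Lib.Helper3.ChevM

theorem e7Eta_0_0 : allRange 0 98 ((fun k => etaCheck Cfsg.Lie.chevE7 etaE7 (k / 126) (k % 126))) = true := by decide +kernel
theorem e7Eta_0_98 : allRange 98 196 ((fun k => etaCheck Cfsg.Lie.chevE7 etaE7 (k / 126) (k % 126))) = true := by decide +kernel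
theorem e7Eta_0_196 : allRange 196 294 ((fun k => etaCheck Cfsg.Lie.chevE7 etaE7 (k / 126) (k % 126))) = true := by decide +kernel
theorem e7Eta_0_294 : allRange 294 392 ((fun k => etaCheck Cfsg.Lie.chevE7 etaE7 (k / 126) (k % 126))) = true := by decide +kernel
theorem e7Eta_0_392 : allRange 392 490 ((fun k => etaCheck Cfsg.Lie.chevE7 etaE7 (k / 126) (k % 126))) = true := by decide +kernel
theorem e7Eta_0_490 : allRange 490 588 ((fun k => etaCheck Cfsg.Lie.chevE7 etaE7 (k / 126) (k % 126))) = true := by decide +kernel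
theorem e7Eta_0_588 : allRange 588 686 ((fun k => etaCheck Cfsg.Lie.chevE7 etaE7 (k / 126) (k % 126))) = true := by decide +kernel
theorem e7Eta_0_686 : allRange 686 784 ((fun k => etaCheck Cfsg.Lie.chevE7 etaE7 (k / 126) (k % 126))) = true := by decide +kernel
theorem e7Eta_0_784 : allRange 784 882 ((fun k => etaCheck Cfsg.Lie.chevE7 etaE7 (k / 126) (k % 126))) = true := by decide +kernel

/-- Sign table of type E7 (roots 0 to 881). -/
theorem e7Eta_0 : ∀ r, 0 ≤ r → r < 882 → ((fun k => etaCheck Cfsg.Lie.chevE7 etaE7 (k / 126) (k % 126))) r = true := by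
  intro r h1 h2
  by_cases c0 : r < 98
  · exact allRange_spec e7Eta_0_0 r (by omega) c0
  by_cases c1 : r < 196
  · exact allRange_spec e7Eta_0_98 r (by omega) c1
  by_cases c2 : r < 294
  · exact allRange_spec e7Eta_0_196 r (by omega) c2
  by_cases c3 : r < 392
  · exact allRange_spec e7Eta_0_294 r (by omega) c3
  by_cases c4 : r < 490
  · exact allRange_spec e7Eta_0_392 r (by omega) c4
  by_cases c5 : r < 588
  · exact allRange_spec e7Eta_0_490 r (by omega) c5
  by_cases c6 : r < 686
  · exact allRange_spec e7Eta_0_588 r (by omega) c6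
  by_cases c7 : r < 784
  · exact allRange_spec e7Eta_0_686 r (by omega) c7
  exact allRange_spec e7Eta_0_784 r (by omega) h2

end Cfsg.Agent.Lib.Helper3.ChevM
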