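import Cfsg.Prelude.Def_ChevAutomorphisms
import Cfsg.Agent.Lib.Helper3.ChevGen1
import Cfsg.Agent.Lib.Helper3.ChevData.E7Mono
import Cfsg.Agent.Lib.Helper3.ChevData.E7Hdec
import Cfsg.Agent.Lib.Helper3.ChevData.E7CommData
set_option autoImplicit false
set_option maxRecDepth 1000000
open Cfsg Cfsg.Lie

namespace Cfsg.Agent.Lib.Helper3.ChevM

/-- For each root of type E7 conjugate to the first fundamental root, a word of fundamental reflections mapping that root to it. -/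
def wt0E7 (r : ℕ) : List ℕ :=
  (#[[0, 2, 3, 4, 5, 6, 1, 3, 4, 5, 2, 3, 4, 1, 3, 2, 0], [2, 3, 4, 5, 6, 1, 3, 4, 5, 2, 3, 4, 1, 3, 2, 0], [3, 4, 5, 6, 1, 3, 4, 5, 2, 3, 4, 1, 3, 2, 0], [4, 5, 6, 1, 3, 4, 5, 2, 3, 4, 1, 3, 2, 0], [5, 6, 1, 3, 4, 5, 2, 3, 4, 1, 3, 2, 0], [6, 1, 3, 4, 5, 2, 3, 4, 1, 3, 2, 0], [1, 3, 4, 5, 2, 3, 4, 1, 3, 2, 0], [4, 5, 6, 3, 4, 5, 2, 3, 4, 1, 3, 2, 0], [5, 6, 3, 4, 5, 2, 3, 4, 1, 3, 2, 0], [6, 3, 4, 5, 2, 3, 4, 1, 3, 2, 0], [3, 4, 5, 2, 3, 4, 1, 3, 2, 0], [5, 6, 4, 5, 2, 3, 4, 1, 3, 2, 0], [6, 4, 5, 2, 3, 4, 1, 3, 2, 0], [4, 5, 2, 3, 4, 1, 3, 2, 0], [6, 5, 2, 3, 4, 1, 3, 2, 0], [5, 2, 3, 4, 1, 3, 2, 0], [2, 3, 4, 1, 3, 2, 0], [5, 6, 4, 5, 3, 4, 1, 3, 2, 0], [6, 4, 5, 3, 4, 1, 3, 2, 0], [4, 5,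 3, 4, 1, 3, 2, 0], [6, 5, 3, 4, 1, 3, 2, 0], [5, 3, 4, 1, 3, 2, 0], [3, 4, 1, 3, 2, 0], [6, 5, 4, 1, 3, 2, 0], [5, 4, 1, 3, 2, 0], [4, 1, 3, 2, 0], [1, 3, 2, 0], [6, 5, 4, 3, 2, 0], [5, 4, 3, 2, 0], [4, 3, 2, 0], [3, 2, 0], [2, 0], [0], [5, 6, 4, 5, 3, 4, 1, 3, 0, 2, 0], [6, 4, 5, 3, 4, 1, 3, 0, 2, 0], [4, 5, 3, 4, 1, 3, 0, 2, 0], [6, 5, 3, 4, 1, 3, 0, 2, 0], [5, 3, 4, 1, 3, 0, 2, 0], [3, 4, 1, 3, 0, 2, 0], [6, 5, 4, 1, 3, 0, 2, 0], [5, 4, 1, 3, 0, 2, 0], [4, 1, 3, 0, 2, 0], [1, 3, 0, 2, 0], [6, 5, 4, 2, 1, 3, 0, 2, 0], [5, 4, 2, 1, 3, 0, 2, 0], [4, 2, 1, 3, 0, 2, 0], [2, 1, 3, 0, 2, 0], [3, 2, 1, 3, 0, 2, 0], [6, 5, 4, 3, 0, 2, 0], [5, 4, 3, 0, 2, 0], [4, 3, 0, 2, 0], [3, 0, 2, 0], [0, 2, 0], [6, 5, 4, 2, 3, 0, 2, 0],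 [5, 4, 2, 3, 0, 2, 0], [4, 2, 3, 0, 2, 0], [2, 3, 0, 2, 0], [6, 5, 3, 4, 2, 3, 0, 2, 0], [5, 3, 4, 2, 3, 0, 2, 0], [3, 4, 2, 3, 0, 2, 0], [6, 4, 5, 3, 4, 2, 3, 0, 2, 0], [4, 5, 3, 4, 2, 3, 0, 2, 0], [5, 6, 4, 5, 3, 4, 2, 3, 0, 2, 0], [5, 6, 4, 5, 3, 4, 2, 3, 0, 2], [4, 5, 3, 4, 2, 3, 0, 2], [6, 4, 5, 3, 4, 2, 3, 0, 2], [3, 4, 2, 3, 0, 2], [5, 3, 4, 2, 3, 0, 2], [6, 5, 3, 4, 2, 3, 0, 2], [2, 3, 0, 2], [4, 2, 3, 0, 2], [5, 4, 2, 3, 0, 2], [6, 5, 4, 2, 3, 0, 2], [0, 2], [3, 0, 2], [4, 3, 0, 2], [5, 4, 3, 0, 2], [6, 5, 4, 3, 0, 2], [3, 2, 1, 3, 0, 2], [2, 1, 3, 0, 2], [4, 2, 1, 3, 0, 2], [5, 4, 2, 1, 3, 0, 2], [6, 5, 4, 2, 1, 3, 0, 2], [1, 3, 0, 2], [4, 1, 3, 0, 2], [5, 4, 1, 3, 0, 2], [6, 5, 4, 1, 3, 0, 2], [3, 4, 1, 3, 0,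 2], [5, 3, 4, 1, 3, 0, 2], [6, 5, 3, 4, 1, 3, 0, 2], [4, 5, 3, 4, 1, 3, 0, 2], [6, 4, 5, 3, 4, 1, 3, 0, 2], [5, 6, 4, 5, 3, 4, 1, 3, 0, 2], [], [2], [3, 2], [4, 3, 2], [5, 4, 3, 2], [6, 5, 4, 3, 2], [1, 3, 2], [4, 1, 3, 2], [5, 4, 1, 3, 2], [6, 5, 4, 1, 3, 2], [3, 4, 1, 3, 2], [5, 3, 4, 1, 3, 2], [6, 5, 3, 4, 1, 3, 2], [4, 5, 3, 4, 1, 3, 2], [6, 4, 5, 3, 4, 1, 3, 2], [5, 6, 4, 5, 3, 4, 1, 3, 2], [2, 3, 4, 1, 3, 2], [5, 2, 3, 4, 1, 3, 2], [6, 5, 2, 3, 4, 1, 3, 2], [4, 5, 2, 3, 4, 1, 3, 2], [6, 4, 5, 2, 3, 4, 1, 3, 2], [5, 6, 4, 5, 2, 3, 4, 1, 3, 2], [3, 4, 5, 2, 3, 4, 1, 3, 2], [6, 3, 4, 5, 2, 3, 4, 1, 3, 2], [5, 6, 3, 4, 5, 2, 3, 4, 1, 3, 2], [4, 5, 6, 3, 4, 5, 2, 3, 4, 1, 3, 2], [1, 3, 4, 5, 2, 3, 4, 1, 3, 2], [6, 1, 3,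 4, 5, 2, 3, 4, 1, 3, 2], [5, 6, 1, 3, 4, 5, 2, 3, 4, 1, 3, 2], [4, 5, 6, 1, 3, 4, 5, 2, 3, 4, 1, 3, 2], [3, 4, 5, 6, 1, 3, 4, 5, 2, 3, 4, 1, 3, 2], [2, 3, 4, 5, 6, 1, 3, 4, 5, 2, 3, 4, 1, 3, 2], [0, 2, 3, 4, 5, 6, 1, 3, 4, 5, 2, 3, 4, 1, 3, 2]] : Array (List ℕ)).getD r []

/-- For each remaining root of type E7, two roots whose commutator it is, with the constant. -/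
def abE7 (r : ℕ) : ℕ × ℕ × ℤ :=
  (#[(0, 0, 0), (0, 0, 0), (0, 0, 0), (0, 0, 0), (0, 0, 0), (0, 0, 0), (0, 0, 0), (0, 0, 0), (0, 0, 0), (0, 0, 0), (0, 0, 0), (0, 0, 0), (0, 0, 0), (0, 0, 0), (0, 0, 0), (0, 0, 0), (0, 0, 0), (0, 0, 0), (0, 0, 0), (0, 0, 0), (0, 0, 0), (0, 0, 0), (0, 0, 0), (0, 0, 0), (0, 0, 0), (0, 0, 0), (0, 0, 0), (0, 0, 0), (0, 0, 0), (0, 0, 0), (0, 0, 0), (0, 0, 0), (0, 0, 0), (0, 0, 0), (0, 0, 0), (0, 0, 0), (0, 0, 0), (0, 0, 0), (0, 0, 0), (0, 0, 0), (0, 0, 0), (0, 0, 0), (0, 0, 0), (0, 0, 0), (0, 0, 0), (0, 0, 0), (0, 0, 0), (0, 0, 0), (0, 0, 0), (0, 0, 0), (0, 0, 0), (0, 0, 0), (0, 0, 0), (0, 0, 0), (0, 0, 0), (0, 0, 0), (0, 0, 0), (0, 0, 0), (0, 0, 0), (0, 0, 0), (0, 0, 0), (0, 0, 0), (0, 0, 0),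 (0, 0, 0), (0, 0, 0), (0, 0, 0), (0, 0, 0), (0, 0, 0), (0, 0, 0), (0, 0, 0), (0, 0, 0), (0, 0, 0), (0, 0, 0), (0, 0, 0), (0, 0, 0), (0, 0, 0), (0, 0, 0), (0, 0, 0), (0, 0, 0), (0, 0, 0), (0, 0, 0), (0, 0, 0), (0, 0, 0), (0, 0, 0), (0, 0, 0), (0, 0, 0), (0, 0, 0), (0, 0, 0), (0, 0, 0), (0, 0, 0), (0, 0, 0), (0, 0, 0), (0, 0, 0), (0, 0, 0), (0, 0, 0), (0, 0, 0), (0, 0, 0), (0, 0, 0), (0, 0, 0), (0, 0, 0), (0, 0, 0), (0, 0, 0), (0, 0, 0), (0, 0, 0), (0, 0, 0), (0, 0, 0), (0, 0, 0), (0, 0, 0), (0, 0, 0), (0, 0, 0), (0, 0, 0), (0, 0, 0), (0, 0, 0), (0, 0, 0), (0, 0, 0), (0, 0, 0), (0, 0, 0), (0, 0, 0), (0, 0, 0), (0, 0, 0), (0, 0, 0), (0, 0, 0), (0, 0, 0), (0, 0, 0), (0, 0, 0), (0, 0, 0)] : Array (ℕ × ℕ × ℤ)).getD r (0, 0, 0)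

/-- For each short fundamental root of type E7, a word mapping it to the first fundamental root. -/
def wsE7 (i : ℕ) : List ℕ :=
  (#[[], [2, 3, 0, 2, 1, 3], [2, 0], [2, 3, 0, 2], [2, 3, 4, 0, 2, 3], [2, 3, 4, 5, 0, 2, 3, 4], [2, 3, 4, 5, 6, 0, 2, 3, 4, 5]] : Array (List ℕ)).getD i []

theorem e7Gen2 : ∀ r < 126, gen2Check cdE7.D relE7.refl 93 1 wt0E7 abE7 r = true := by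
  decide +kernel

theorem e7GenWs : ∀ i < 7, cdE7.D.isLong (cdE7.D.simple i) = false →
    ((wsE7 i).all fun j => decide (j < 7)) = true ∧ reflW relE7.refl (wsE7 i) (cdE7.D.simple i) = 93 := by
  decide +kernel

end Cfsg.Agent.Lib.Helper3.ChevM
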