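import Cfsg.Prelude.Def_ChevE7
import Cfsg.Agent.Lib.Helper3.ChevData.E7Tabs
import Cfsg.Agent.Lib.Helper3.ChevG2
set_option autoImplicit false
set_option maxRecDepth 1000000
set_option Elab.async false

namespace Cfsg.Agent.Lib.Helper3.ChevM

theorem e7Hdec_0_0 : allRange 0 1324 ((fun k => hdecCheck Cfsg.Lie.chevE7 pairE7 (k / 126) (k % 126))) = true := by decide +kernel
theorem e7Hdec_0_1324 : allRange 1324 2648 ((fun k => hdecCheck Cfsg.Lie.chevE7 pairE7 (k / 126) (k % 126))) = true := by decide +kernel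
theorem e7Hdec_0_2648 : allRange 2648 3972 ((fun k => hdecCheck Cfsg.Lie.chevE7 pairE7 (k / 126) (k % 126))) = true := by decide +kernel
theorem e7Hdec_0_3972 : allRange 3972 5296 ((fun k => hdecCheck Cfsg.Lie.chevE7 pairE7 (k / 126) (k % 126))) = true := by decide +kernel
theorem e7Hdec_0_5296 : allRange 5296 6620 ((fun k => hdecCheck Cfsg.Lie.chevE7 pairE7 (k / 126) (k % 126))) = true := by decide +kernel
theorem e7Hdec_0_6620 : allRange 6620 7944 ((fun k => hdecCheck Cfsg.Lie.chevE7 pairE7 (k / 126) (k % 126))) = true := by decide +kernel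
theorem e7Hdec_0_7944 : allRange 7944 9268 ((fun k => hdecCheck Cfsg.Lie.chevE7 pairE7 (k / 126) (k % 126))) = true := by decide +kernel
theorem e7Hdec_0_9268 : allRange 9268 10592 ((fun k => hdecCheck Cfsg.Lie.chevE7 pairE7 (k / 126) (k % 126))) = true := by decide +kernel
theorem e7Hdec_0_10592 : allRange 10592 11916 ((fun k => hdecCheck Cfsg.Lie.chevE7 pairE7 (k / 126) (k % 126))) = true := by decide +kernel
theorem e7Hdec_0_11916 : allRange 11916 13240 ((fun k => hdecCheck Cfsg.Lie.chevE7 pairE7 (k / 126) (k % 126))) = true := by decide +kernel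
theorem e7Hdec_0_13240 : allRange 13240 14564 ((fun k => hdecCheck Cfsg.Lie.chevE7 pairE7 (k / 126) (k % 126))) = true := by decide +kernel
theorem e7Hdec_0_14564 : allRange 14564 15876 ((fun k => hdecCheck Cfsg.Lie.chevE7 pairE7 (k / 126) (k % 126))) = true := by decide +kernel

/-- Decomposition of the coroots along the fundamental coroots of type E7 (roots 0 to 15875). -/
theorem e7Hdec_0 : ∀ r, 0 ≤ r → r < 15876 → ((fun k => hdecCheck Cfsg.Lie.chevE7 pairE7 (k / 126) (k % 126))) r = true := by
  intro r h1 h2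
  by_cases c0 : r < 1324
  · exact allRange_spec e7Hdec_0_0 r (by omega) c0
  by_cases c1 : r < 2648
  · exact allRange_spec e7Hdec_0_1324 r (by omega) c1
  by_cases c2 : r < 3972
  · exact allRange_spec e7Hdec_0_2648 r (by omega) c2
  by_cases c3 : r < 5296
  · exact allRange_spec e7Hdec_0_3972 r (by omega) c3
  by_cases c4 : r < 6620
  · exact allRange_spec e7Hdec_0_5296 r (by omega) c4
  by_cases c5 : r < 7944
  · exact allRange_spec e7Hdec_0_6620 r (by omega) c5
  by_cases c6 : r < 9268
  · exact allRange_spec e7Hdec_0_7944 r (by omega) c6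
  by_cases c7 : r < 10592
  · exact allRange_spec e7Hdec_0_9268 r (by omega) c7
  by_cases c8 : r < 11916
  · exact allRange_spec e7Hdec_0_10592 r (by omega) c8
  by_cases c9 : r < 13240
  · exact allRange_spec e7Hdec_0_11916 r (by omega) c9
  by_cases c10 : r < 14564
  · exact allRange_spec e7Hdec_0_13240 r (by omega) c10
  exact allRange_spec e7Hdec_0_14564 r (by omega) h2

end Cfsg.Agent.Lib.Helper3.ChevM
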