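import Cfsg.Agent.Lib.Helper3.ChevData.E7Datum
import Cfsg.Agent.Lib.Helper3.ChevData.E7Tabs
import Cfsg.Agent.Lib.Helper3.ChevM7
set_option autoImplicit false
set_option maxRecDepth 1000000
set_option Elab.async false

namespace Cfsg.Agent.Lib.Helper3.ChevM

theorem e7Nchk_0_0 : allRange 0 6 ((fun i => cdE7.checkN i (cdE7.cartI pairE7 i) (reflE7 i) (etaE7 i))) = true := by decide +kernel
theorem e7Nchk_0_6 : allRange 6 7 ((fun i => cdE7.checkN i (cdE7.cartI pairE7 i) (reflE7 i) (etaE7 i))) = true := by decide +kernel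

/-- Monomial form of the `n_p` of type E7 (roots 0 to 6). -/
theorem e7Nchk_0 : ∀ r, 0 ≤ r → r < 7 → ((fun i => cdE7.checkN i (cdE7.cartI pairE7 i) (reflE7 i) (etaE7 i))) r = true := by
  intro r h1 h2
  by_cases c0 : r < 6
  · exact allRange_spec e7Nchk_0_0 r (by omega) c0
  exact allRange_spec e7Nchk_0_6 r (by omega) h2

end Cfsg.Agent.Lib.Helper3.ChevM
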