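import Cfsg.Agent.Lib.Helper3.ChevData.E7Datum
import Cfsg.Agent.Lib.Helper3.ChevData.E7Tabs
import Cfsg.Agent.Lib.Helper3.ChevM7
set_option autoImplicit false
set_option maxRecDepth 1000000
set_option Elab.async false

namespace Cfsg.Agent.Lib.Helper3.ChevM

theorem e7Nd_0_0 : allRange 0 10 ((fun k => cdE7.checkND (k / 7) (cdE7.cartI pairE7 (k / 7)) (reflE7 (k / 7)) (etaE7 (k / 7)) (cdE7.expo pairE7 (Cfsg.Lie.chevE7.simple (k % 7))) (cdE7.expo pairE7 (reflE7 (k / 7) (Cfsg.Lie.chevE7.simple (k % 7)))))) = true := by decide +kernel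
theorem e7Nd_0_10 : allRange 10 20 ((fun k => cdE7.checkND (k / 7) (cdE7.cartI pairE7 (k / 7)) (reflE7 (k / 7)) (etaE7 (k / 7)) (cdE7.expo pairE7 (Cfsg.Lie.chevE7.simple (k % 7))) (cdE7.expo pairE7 (reflE7 (k / 7) (Cfsg.Lie.chevE7.simple (k % 7)))))) = true := by decide +kernel
theorem e7Nd_0_20 : allRange 20 30 ((fun k => cdE7.checkND (k / 7) (cdE7.cartI pairE7 (k / 7)) (reflE7 (k / 7)) (etaE7 (k / 7)) (cdE7.expo pairE7 (Cfsg.Lie.chevE7.simple (k % 7))) (cdE7.expo pairE7 (reflE7 (k / 7) (Cfsg.Lie.chevE7.simple (k % 7)))))) = true := by decide +kernel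
theorem e7Nd_0_30 : allRange 30 40 ((fun k => cdE7.checkND (k / 7) (cdE7.cartI pairE7 (k / 7)) (reflE7 (k / 7)) (etaE7 (k / 7)) (cdE7.expo pairE7 (Cfsg.Lie.chevE7.simple (k % 7))) (cdE7.expo pairE7 (reflE7 (k / 7) (Cfsg.Lie.chevE7.simple (k % 7)))))) = true := by decide +kernel
theorem e7Nd_0_40 : allRange 40 49 ((fun k => cdE7.checkND (k / 7) (cdE7.cartI pairE7 (k / 7)) (reflE7 (k / 7)) (etaE7 (k / 7)) (cdE7.expo pairE7 (Cfsg.Lie.chevE7.simple (k % 7))) (cdE7.expo pairE7 (reflE7 (k / 7) (Cfsg.Lie.chevE7.simple (k % 7)))))) = true := by decide +kernel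

/-- Conjugation of the `h_p(c)` by the `n_p` of type E7 (roots 0 to 48). -/
theorem e7Nd_0 : ∀ r, 0 ≤ r → r < 49 → ((fun k => cdE7.checkND (k / 7) (cdE7.cartI pairE7 (k / 7)) (reflE7 (k / 7)) (etaE7 (k / 7)) (cdE7.expo pairE7 (Cfsg.Lie.chevE7.simple (k % 7))) (cdE7.expo pairE7 (reflE7 (k / 7) (Cfsg.Lie.chevE7.simple (k % 7)))))) r = true := by
  intro r h1 h2
  by_cases c0 : r < 10
  · exact allRange_spec e7Nd_0_0 r (by omega) c0
  by_cases c1 : r < 20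
  · exact allRange_spec e7Nd_0_10 r (by omega) c1
  by_cases c2 : r < 30
  · exact allRange_spec e7Nd_0_20 r (by omega) c2
  by_cases c3 : r < 40
  · exact allRange_spec e7Nd_0_30 r (by omega) c3
  exact allRange_spec e7Nd_0_40 r (by omega) h2

end Cfsg.Agent.Lib.Helper3.ChevM
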