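import Cfsg.Agent.Lib.Helper3.ChevData.E7OkA
import Cfsg.Agent.Lib.Helper3.ChevData.E7OkB
import Cfsg.Agent.Lib.Helper3.ChevData.E7OkC
set_option autoImplicit false

namespace Cfsg.Agent.Lib.Helper3.ChevM

/-- The compiled columns of type E7 agree with the tables. -/
theorem e7Ok : ∀ r < 126, (colsCheck Cfsg.Lie.chevE7 colsE7) r = true := by
  intro r hr
  by_cases h0 : r < 42
  · exact e7Ok_0 r (by omega) h0
  by_cases h1 : r < 84
  · exact e7Ok_1 r (by omega) h1
  exact e7Ok_2 r (by omega) hr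

end Cfsg.Agent.Lib.Helper3.ChevM
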