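import Cfsg.Prelude.Def_ChevE7
set_option autoImplicit false
set_option maxRecDepth 1000000

namespace Cfsg.Agent.Lib.Helper3.ChevM

/-- Coset representatives of the first 0 reflections in the group of the first 1, type E7. -/
def dlE70 : List (List ℕ) := [[], [0]]

/-- The left multiplication table of these representatives. -/
def nxtE70 (a i : ℕ) : ℕ := ((#[#[1], #[0]] : Array (Array ℕ)).getD a #[]).getD i 0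

/-- Coset representatives of the first 1 reflections in the group of the first 2, type E7. -/
def dlE71 : List (List ℕ) := [[], [1]]

/-- The left multiplication table of these representatives. -/
def nxtE71 (a i : ℕ) : ℕ := ((#[#[2, 1], #[2, 0]] : Array (Array ℕ)).getD a #[]).getD i 0

/-- Coset representatives of the first 2 reflections in the group of the first 3, type E7. -/
def dlE72 : List (List ℕ) := [[], [2], [0, 2]]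

/-- The left multiplication table of these representatives. -/
def nxtE72 (a i : ℕ) : ℕ := ((#[#[3, 4, 1], #[2, 4, 0], #[1, 4, 3]] : Array (Array ℕ)).getD a #[]).getD i 0

/-- Coset representatives of the first 3 reflections in the group of the first 4, type E7. -/
def dlE73 : List (List ℕ) := [[], [3], [1, 3], [2, 3], [2, 1, 3], [0, 2, 3], [0, 2, 1, 3], [3, 2, 1, 3], [3, 0, 2, 1, 3], [2, 3, 0, 2, 1, 3]]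

/-- The left multiplication table of these representatives. -/
def nxtE73 (a i : ℕ) : ℕ := ((#[#[10, 11, 12, 1], #[10, 2, 3, 0], #[10, 1, 4, 11], #[5, 4, 1, 12], #[6, 3, 2, 7], #[3, 6, 10, 12], #[4, 5, 10, 8], #[8, 12, 11, 4], #[7, 12, 9, 6], #[11, 12, 8, 10]] : Array (Array ℕ)).getD a #[]).getD i 0

/-- Coset representatives of the first 4 reflections in the group of the first 5, type E7. -/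
def dlE74 : List (List ℕ) := [[], [4], [3, 4], [1, 3, 4], [2, 3, 4], [2, 1, 3, 4], [0, 2, 3, 4], [0, 2, 1, 3, 4], [3, 2, 1, 3, 4], [3, 0, 2, 1, 3, 4], [4, 3, 2, 1, 3, 4], [2, 3, 0, 2, 1, 3, 4], [4, 3, 0, 2, 1, 3, 4], [4, 2, 3, 0, 2, 1, 3, 4], [3, 4, 2, 3, 0, 2, 1, 3, 4], [1, 3, 4, 2, 3, 0, 2, 1, 3, 4]]

/-- The left multiplication table of these representatives. -/
def nxtE74 (a i : ℕ) : ℕ := ((#[#[16, 17, 18, 19, 1], #[16, 17, 18, 2, 0], #[16, 3, 4, 1, 19], #[16, 2, 5, 17, 19], #[6, 5, 2, 18, 19], #[7, 4, 3, 8, 19], #[4, 7, 16, 18, 19], #[5, 6, 16, 9, 19], #[9, 18, 17, 5, 10], #[8, 18, 11, 7, 12], #[12, 18, 17, 19, 8], #[17, 18, 9, 16, 13], #[10, 18, 13, 19, 9], #[17, 18, 12, 14, 11], #[17, 15, 19, 13, 16], #[17, 14, 19, 18, 16]] : Array (Array ℕ)).getD a #[]).getD i 0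

/-- Coset representatives of the first 5 reflections in the group of the first 6, type E7. -/
def dlE75 : List (List ℕ) := [[], [5], [4, 5], [3, 4, 5], [1, 3, 4, 5], [2, 3, 4, 5], [2, 1, 3, 4, 5], [0, 2, 3, 4, 5], [0, 2, 1, 3, 4, 5], [3, 2, 1, 3, 4, 5], [3, 0, 2, 1, 3, 4, 5], [4, 3, 2, 1, 3, 4, 5], [2, 3, 0, 2, 1, 3, 4, 5], [4, 3, 0, 2, 1, 3, 4, 5], [5, 4, 3, 2, 1, 3, 4, 5], [4, 2, 3, 0, 2, 1, 3, 4, 5], [5, 4, 3, 0, 2, 1, 3, 4, 5], [3, 4, 2, 3, 0, 2, 1, 3, 4, 5], [5, 4, 2, 3, 0, 2, 1, 3, 4, 5], [1, 3, 4, 2, 3, 0, 2, 1, 3, 4, 5], [5, 3, 4, 2, 3, 0, 2, 1, 3, 4, 5], [5, 1, 3, 4, 2, 3, 0, 2, 1, 3, 4, 5], [4, 5, 3, 4, 2, 3, 0, 2, 1, 3, 4, 5], [4, 5, 1, 3, 4, 2, 3, 0, 2, 1, 3, 4, 5], [3, 4, 5, 1, 3, 4, 2, 3, 0, 2, 1, 3, 4, 5], [2, 3, 4, 5, 1, 3, 4, 2, 3, 0, 2, 1, 3, 4, 5], [0, 2, 3, 4, 5,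 1, 3, 4, 2, 3, 0, 2, 1, 3, 4, 5]]

/-- The left multiplication table of these representatives. -/
def nxtE75 (a i : ℕ) : ℕ := ((#[#[27, 28, 29, 30, 31, 1], #[27, 28, 29, 30, 2, 0], #[27, 28, 29, 3, 1, 31], #[27, 4, 5, 2, 30, 31], #[27, 3, 6, 28, 30, 31], #[7, 6, 3, 29, 30, 31], #[8, 5, 4, 9, 30, 31], #[5, 8, 27, 29, 30, 31], #[6, 7, 27, 10, 30, 31], #[10, 29, 28, 6, 11, 31], #[9, 29, 12, 8, 13, 31], #[13, 29, 28, 30, 9, 14], #[28, 29, 10, 27, 15, 31], #[11, 29, 15, 30, 10, 16], #[16, 29, 28, 30, 31, 11], #[28, 29, 13, 17, 12, 18], #[14, 29, 18, 30, 31, 13], #[28, 19, 30, 15, 27, 20], #[28, 29, 16, 20, 31, 15], #[28, 17, 30, 29, 27, 21], #[28, 21, 30, 18, 22, 17], #[28, 20, 30, 29, 23, 19], #[28, 23, 30, 31, 20, 27], #[28, 22, 30, 24, 21, 27], #[28, 31, 25, 23, 29, 27], #[26, 31, 24,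 30, 29, 27], #[25, 31, 28, 30, 29, 27]] : Array (Array ℕ)).getD a #[]).getD i 0

/-- Coset representatives of the first 6 reflections in the group of the first 7, type E7. -/
def dlE76 : List (List ℕ) := [[], [6], [5, 6], [4, 5, 6], [3, 4, 5, 6], [1, 3, 4, 5, 6], [2, 3, 4, 5, 6], [2, 1, 3, 4, 5, 6], [0, 2, 3, 4, 5, 6], [0, 2, 1, 3, 4, 5, 6], [3, 2, 1, 3, 4, 5, 6], [3, 0, 2, 1, 3, 4, 5, 6], [4, 3, 2, 1, 3, 4, 5, 6], [2, 3, 0, 2, 1, 3, 4, 5, 6], [4, 3, 0, 2, 1, 3, 4, 5, 6], [5, 4, 3, 2, 1, 3, 4, 5, 6], [4, 2, 3, 0, 2, 1, 3, 4, 5, 6], [5, 4, 3, 0, 2, 1, 3, 4, 5, 6], [6, 5, 4, 3, 2, 1, 3, 4, 5, 6], [3, 4, 2, 3, 0, 2, 1, 3, 4, 5, 6], [5, 4, 2, 3, 0, 2, 1, 3, 4, 5, 6], [6, 5, 4, 3, 0, 2, 1, 3, 4, 5, 6], [1, 3, 4, 2, 3, 0, 2, 1, 3, 4, 5, 6], [5, 3, 4, 2, 3, 0, 2, 1, 3, 4, 5, 6], [6, 5, 4,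 2, 3, 0, 2, 1, 3, 4, 5, 6], [5, 1, 3, 4, 2, 3, 0, 2, 1, 3, 4, 5, 6], [4, 5, 3, 4, 2, 3, 0, 2, 1, 3, 4, 5, 6], [6, 5, 3, 4, 2, 3, 0, 2, 1, 3, 4, 5, 6], [4, 5, 1, 3, 4, 2, 3, 0, 2, 1, 3, 4, 5, 6], [6, 5, 1, 3, 4, 2, 3, 0, 2, 1, 3, 4, 5, 6], [6, 4, 5, 3, 4, 2, 3, 0, 2, 1, 3, 4, 5, 6], [3, 4, 5, 1, 3, 4, 2, 3, 0, 2, 1, 3, 4, 5, 6], [6, 4, 5, 1, 3, 4, 2, 3, 0, 2, 1, 3, 4, 5, 6], [5, 6, 4, 5, 3, 4, 2, 3, 0, 2, 1, 3, 4, 5, 6], [2, 3, 4, 5, 1, 3, 4, 2, 3, 0, 2, 1, 3, 4, 5, 6], [6, 3, 4, 5, 1, 3, 4, 2, 3, 0, 2, 1, 3, 4, 5, 6], [5, 6, 4, 5, 1, 3, 4, 2, 3, 0, 2, 1, 3, 4, 5, 6], [0, 2, 3, 4, 5, 1, 3, 4, 2, 3, 0, 2, 1, 3, 4, 5, 6], [6, 2, 3, 4, 5, 1, 3, 4, 2, 3, 0, 2, 1, 3, 4, 5, 6], [5, 6, 3, 4, 5, 1, 3, 4, 2, 3, 0, 2, 1, 3, 4, 5, 6], [6, 0, 2, 3, 4, 5, 1, 3, 4, 2, 3, 0, 2, 1, 3, 4, 5, 6], [5,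 6, 2, 3, 4, 5, 1, 3, 4, 2, 3, 0, 2, 1, 3, 4, 5, 6], [4, 5, 6, 3, 4, 5, 1, 3, 4, 2, 3, 0, 2, 1, 3, 4, 5, 6], [5, 6, 0, 2, 3, 4, 5, 1, 3, 4, 2, 3, 0, 2, 1, 3, 4, 5, 6], [4, 5, 6, 2, 3, 4, 5, 1, 3, 4, 2, 3, 0, 2, 1, 3, 4, 5, 6], [4, 5, 6, 0, 2, 3, 4, 5, 1, 3, 4, 2, 3, 0, 2, 1, 3, 4, 5, 6], [3, 4, 5, 6, 2, 3, 4, 5, 1, 3, 4, 2, 3, 0, 2, 1, 3, 4, 5, 6], [3, 4, 5, 6, 0, 2, 3, 4, 5, 1, 3, 4, 2, 3, 0, 2, 1, 3, 4, 5, 6], [1, 3, 4, 5, 6, 2, 3, 4, 5, 1, 3, 4, 2, 3, 0, 2, 1, 3, 4, 5, 6], [1, 3, 4, 5, 6, 0, 2, 3, 4, 5, 1, 3, 4, 2, 3, 0, 2, 1, 3, 4, 5, 6], [2, 3, 4, 5, 6, 0, 2, 3, 4, 5, 1, 3, 4, 2, 3, 0, 2, 1, 3, 4, 5, 6], [2, 1, 3, 4, 5, 6, 0, 2, 3, 4, 5, 1, 3, 4, 2, 3, 0, 2, 1, 3, 4, 5, 6], [3, 2, 1, 3, 4, 5, 6, 0, 2, 3, 4, 5, 1, 3, 4, 2, 3, 0, 2, 1, 3, 4, 5, 6], [4, 3, 2, 1, 3, 4, 5, 6, 0, 2, 3,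 4, 5, 1, 3, 4, 2, 3, 0, 2, 1, 3, 4, 5, 6], [5, 4, 3, 2, 1, 3, 4, 5, 6, 0, 2, 3, 4, 5, 1, 3, 4, 2, 3, 0, 2, 1, 3, 4, 5, 6], [6, 5, 4, 3, 2, 1, 3, 4, 5, 6, 0, 2, 3, 4, 5, 1, 3, 4, 2, 3, 0, 2, 1, 3, 4, 5, 6]]

/-- The left multiplication table of these representatives. -/
def nxtE76 (a i : ℕ) : ℕ := ((#[#[56, 57, 58, 59, 60, 61, 1], #[56, 57, 58, 59, 60, 2, 0], #[56, 57, 58, 59, 3, 1, 61], #[56, 57, 58, 4, 2, 60, 61], #[56, 5, 6, 3, 59, 60, 61], #[56, 4, 7, 57, 59, 60, 61], #[8, 7, 4, 58, 59, 60, 61], #[9, 6, 5, 10, 59, 60, 61], #[6, 9, 56, 58, 59, 60, 61], #[7, 8, 56, 11, 59, 60, 61], #[11, 58, 57, 7, 12, 60, 61], #[10, 58, 13, 9, 14, 60, 61], #[14, 58, 57, 59, 10, 15, 61], #[57, 58, 11, 56, 16, 60, 61], #[12, 58, 16, 59, 11, 17, 61], #[17, 58, 57, 59, 60, 12, 18], #[57, 58, 14, 19, 13,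 20, 61], #[15, 58, 20, 59, 60, 14, 21], #[21, 58, 57, 59, 60, 61, 15], #[57, 22, 59, 16, 56, 23, 61], #[57, 58, 17, 23, 60, 16, 24], #[18, 58, 24, 59, 60, 61, 17], #[57, 19, 59, 58, 56, 25, 61], #[57, 25, 59, 20, 26, 19, 27], #[57, 58, 21, 27, 60, 61, 20], #[57, 23, 59, 58, 28, 22, 29], #[57, 28, 59, 60, 23, 56, 30], #[57, 29, 59, 24, 30, 61, 23], #[57, 26, 59, 31, 25, 56, 32], #[57, 27, 59, 58, 32, 61, 25], #[57, 32, 59, 60, 27, 33, 26], #[57, 60, 34, 28, 58, 56, 35], #[57, 30, 59, 35, 29, 36, 28], #[57, 36, 59, 60, 61, 30, 56], #[37, 60, 31, 59, 58, 56, 38], #[57, 60, 38, 32, 58, 39, 31], #[57, 33, 59, 39, 61, 32, 56], #[34, 60, 57, 59, 58, 56, 40], #[40, 60, 35, 59, 58, 41, 34], #[57, 60, 41, 36, 42, 35, 56], #[38, 60, 57, 59, 58, 43, 37], #[43, 60, 39, 59, 44, 38, 56], #[57, 60,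 44, 61, 39, 58, 56], #[41, 60, 57, 59, 45, 40, 56], #[45, 60, 42, 46, 41, 58, 56], #[44, 60, 57, 47, 43, 58, 56], #[47, 48, 61, 44, 59, 58, 56], #[46, 49, 50, 45, 59, 58, 56], #[49, 46, 61, 60, 59, 58, 56], #[48, 47, 51, 60, 59, 58, 56], #[61, 51, 47, 57, 59, 58, 56], #[61, 50, 49, 52, 59, 58, 56], #[61, 57, 60, 51, 53, 58, 56], #[61, 57, 60, 59, 52, 54, 56], #[61, 57, 60, 59, 58, 53, 55], #[61, 57, 60, 59, 58, 56, 54]] : Array (Array ℕ)).getD a #[]).getD i 0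

end Cfsg.Agent.Lib.Helper3.ChevM
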