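import Cfsg.Prelude.Def_ChevE7
import Cfsg.Agent.Lib.Helper3.ChevData.E7Tabs
import Cfsg.Agent.Lib.Helper3.ChevData.E7OrdTab
import Cfsg.Agent.Lib.Helper3.ChevO2
set_option autoImplicit false
set_option maxRecDepth 1000000
set_option Elab.async false

namespace Cfsg.Agent.Lib.Helper3.ChevM

theorem e7Ot6_0_0 : allRange 0 92 ((fun p => stepCheck Cfsg.Lie.chevE7 reflE7 6 dlE76 nxtE76 (p / 7) (p % 7))) = true := by decide +kernel
theorem e7Ot6_0_92 : allRange 92 184 ((fun p => stepCheck Cfsg.Lie.chevE7 reflE7 6 dlE76 nxtE76 (p / 7) (p % 7))) = true := by decide +kernel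
theorem e7Ot6_0_184 : allRange 184 276 ((fun p => stepCheck Cfsg.Lie.chevE7 reflE7 6 dlE76 nxtE76 (p / 7) (p % 7))) = true := by decide +kernel
theorem e7Ot6_0_276 : allRange 276 368 ((fun p => stepCheck Cfsg.Lie.chevE7 reflE7 6 dlE76 nxtE76 (p / 7) (p % 7))) = true := by decide +kernel
theorem e7Ot6_0_368 : allRange 368 392 ((fun p => stepCheck Cfsg.Lie.chevE7 reflE7 6 dlE76 nxtE76 (p / 7) (p % 7))) = true := by decide +kernel

/-- Left multiplication of the representatives of step 6 of type E7 (roots 0 to 391). -/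
theorem e7Ot6_0 : ∀ r, 0 ≤ r → r < 392 → ((fun p => stepCheck Cfsg.Lie.chevE7 reflE7 6 dlE76 nxtE76 (p / 7) (p % 7))) r = true := by
  intro r h1 h2
  by_cases c0 : r < 92
  · exact allRange_spec e7Ot6_0_0 r (by omega) c0
  by_cases c1 : r < 184
  · exact allRange_spec e7Ot6_0_92 r (by omega) c1
  by_cases c2 : r < 276
  · exact allRange_spec e7Ot6_0_184 r (by omega) c2
  by_cases c3 : r < 368
  · exact allRange_spec e7Ot6_0_276 r (by omega) c3
  exact allRange_spec e7Ot6_0_368 r (by omega) h2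

end Cfsg.Agent.Lib.Helper3.ChevM
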