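import Cfsg.Prelude.Def_ChevE7
import Cfsg.Agent.Lib.Helper3.ChevData.E7Hd2
import Cfsg.Agent.Lib.Helper3.ChevData.E7Tabs
import Cfsg.Agent.Lib.Helper3.ChevL3
set_option autoImplicit false
set_option maxRecDepth 1000000
set_option Elab.async false

namespace Cfsg.Agent.Lib.Helper3.ChevM

theorem e7Rv_1_126 : allRange 126 157 (fun k => reflVecCheck Cfsg.Lie.chevE7 reflE7 vecE7 (k / 126) (k % 126)) = true := by decide +kernel
theorem e7Rv_1_157 : allRange 157 188 (fun k => reflVecCheck Cfsg.Lie.chevE7 reflE7 vecE7 (k / 126) (k % 126)) = true := by decide +kernel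
theorem e7Rv_1_188 : allRange 188 219 (fun k => reflVecCheck Cfsg.Lie.chevE7 reflE7 vecE7 (k / 126) (k % 126)) = true := by decide +kernel
theorem e7Rv_1_219 : allRange 219 250 (fun k => reflVecCheck Cfsg.Lie.chevE7 reflE7 vecE7 (k / 126) (k % 126)) = true := by decide +kernel
theorem e7Rv_1_250 : allRange 250 252 (fun k => reflVecCheck Cfsg.Lie.chevE7 reflE7 vecE7 (k / 126) (k % 126)) = true := by decide +kernel

/-- The fundamental reflections of type E7 change one coefficient (roots 126 to 251). -/
theorem e7Rv_1 : ∀ r, 126 ≤ r → r < 252 → (fun k => reflVecCheck Cfsg.Lie.chevE7 reflE7 vecE7 (k / 126) (k % 126)) r = true := by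
  intro r h1 h2
  by_cases c0 : r < 157
  · exact allRange_spec e7Rv_1_126 r (by omega) c0
  by_cases c1 : r < 188
  · exact allRange_spec e7Rv_1_157 r (by omega) c1
  by_cases c2 : r < 219
  · exact allRange_spec e7Rv_1_188 r (by omega) c2
  by_cases c3 : r < 250
  · exact allRange_spec e7Rv_1_219 r (by omega) c3
  exact allRange_spec e7Rv_1_250 r (by omega) h2

end Cfsg.Agent.Lib.Helper3.ChevM
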