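import Cfsg.Prelude.Def_ChevE7
import Cfsg.Agent.Lib.Helper3.ChevData.E7Hd2
import Cfsg.Agent.Lib.Helper3.ChevData.E7Tabs
import Cfsg.Agent.Lib.Helper3.ChevL3
set_option autoImplicit false
set_option maxRecDepth 1000000
set_option Elab.async false

namespace Cfsg.Agent.Lib.Helper3.ChevM

theorem e7Rv_2_252 : allRange 252 283 (fun k => reflVecCheck Cfsg.Lie.chevE7 reflE7 vecE7 (k / 126) (k % 126)) = true := by decide +kernel
theorem e7Rv_2_283 : allRange 283 314 (fun k => reflVecCheck Cfsg.Lie.chevE7 reflE7 vecE7 (k / 126) (k % 126)) = true := by decide +kernel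
theorem e7Rv_2_314 : allRange 314 345 (fun k => reflVecCheck Cfsg.Lie.chevE7 reflE7 vecE7 (k / 126) (k % 126)) = true := by decide +kernel
theorem e7Rv_2_345 : allRange 345 376 (fun k => reflVecCheck Cfsg.Lie.chevE7 reflE7 vecE7 (k / 126) (k % 126)) = true := by decide +kernel
theorem e7Rv_2_376 : allRange 376 378 (fun k => reflVecCheck Cfsg.Lie.chevE7 reflE7 vecE7 (k / 126) (k % 126)) = true := by decide +kernel

/-- The fundamental reflections of type E7 change one coefficient (roots 252 to 377). -/
theorem e7Rv_2 : ∀ r, 252 ≤ r → r < 378 → (fun k => reflVecCheck Cfsg.Lie.chevE7 reflE7 vecE7 (k / 126) (k % 126)) r = true := by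
  intro r h1 h2
  by_cases c0 : r < 283
  · exact allRange_spec e7Rv_2_252 r (by omega) c0
  by_cases c1 : r < 314
  · exact allRange_spec e7Rv_2_283 r (by omega) c1
  by_cases c2 : r < 345
  · exact allRange_spec e7Rv_2_314 r (by omega) c2
  by_cases c3 : r < 376
  · exact allRange_spec e7Rv_2_345 r (by omega) c3
  exact allRange_spec e7Rv_2_376 r (by omega) h2

end Cfsg.Agent.Lib.Helper3.ChevM
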