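import Cfsg.Prelude.Def_ChevE7
import Cfsg.Agent.Lib.Helper3.ChevData.E7Hd2
import Cfsg.Agent.Lib.Helper3.ChevData.E7Tabs
import Cfsg.Agent.Lib.Helper3.ChevL3
set_option autoImplicit false
set_option maxRecDepth 1000000
set_option Elab.async false

namespace Cfsg.Agent.Lib.Helper3.ChevM

theorem e7Rv_4_504 : allRange 504 535 (fun k => reflVecCheck Cfsg.Lie.chevE7 reflE7 vecE7 (k / 126) (k % 126)) = true := by decide +kernel
theorem e7Rv_4_535 : allRange 535 566 (fun k => reflVecCheck Cfsg.Lie.chevE7 reflE7 vecE7 (k / 126) (k % 126)) = true := by decide +kernel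
theorem e7Rv_4_566 : allRange 566 597 (fun k => reflVecCheck Cfsg.Lie.chevE7 reflE7 vecE7 (k / 126) (k % 126)) = true := by decide +kernel
theorem e7Rv_4_597 : allRange 597 628 (fun k => reflVecCheck Cfsg.Lie.chevE7 reflE7 vecE7 (k / 126) (k % 126)) = true := by decide +kernel
theorem e7Rv_4_628 : allRange 628 630 (fun k => reflVecCheck Cfsg.Lie.chevE7 reflE7 vecE7 (k / 126) (k % 126)) = true := by decide +kernel

/-- The fundamental reflections of type E7 change one coefficient (roots 504 to 629). -/
theorem e7Rv_4 : ∀ r, 504 ≤ r → r < 630 → (fun k => reflVecCheck Cfsg.Lie.chevE7 reflE7 vecE7 (k / 126) (k % 126)) r = true := by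
  intro r h1 h2
  by_cases c0 : r < 535
  · exact allRange_spec e7Rv_4_504 r (by omega) c0
  by_cases c1 : r < 566
  · exact allRange_spec e7Rv_4_535 r (by omega) c1
  by_cases c2 : r < 597
  · exact allRange_spec e7Rv_4_566 r (by omega) c2
  by_cases c3 : r < 628
  · exact allRange_spec e7Rv_4_597 r (by omega) c3
  exact allRange_spec e7Rv_4_628 r (by omega) h2

end Cfsg.Agent.Lib.Helper3.ChevM
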