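import Cfsg.Agent.Lib.Helper3.ChevData.E7RvA
import Cfsg.Agent.Lib.Helper3.ChevData.E7RvB
import Cfsg.Agent.Lib.Helper3.ChevData.E7RvC
import Cfsg.Agent.Lib.Helper3.ChevData.E7RvD
import Cfsg.Agent.Lib.Helper3.ChevData.E7RvE
import Cfsg.Agent.Lib.Helper3.ChevData.E7RvF
import Cfsg.Agent.Lib.Helper3.ChevData.E7RvG
set_option autoImplicit false

namespace Cfsg.Agent.Lib.Helper3.ChevM

/-- The fundamental reflections of type E7 change one coefficient. -/
theorem e7Rv : ∀ r < 882, (fun k => reflVecCheck Cfsg.Lie.chevE7 reflE7 vecE7 (k / 126) (k % 126)) r = true := by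
  intro r hr
  by_cases h0 : r < 126
  · exact e7Rv_0 r (by omega) h0
  by_cases h1 : r < 252
  · exact e7Rv_1 r (by omega) h1
  by_cases h2 : r < 378
  · exact e7Rv_2 r (by omega) h2
  by_cases h3 : r < 504
  · exact e7Rv_3 r (by omega) h3
  by_cases h4 : r < 630
  · exact e7Rv_4 r (by omega) h4
  by_cases h5 : r < 756
  · exact e7Rv_5 r (by omega) h5
  exact e7Rv_6 r (by omega) hr

end Cfsg.Agent.Lib.Helper3.ChevM
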