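import Cfsg.Prelude.Def_ChevE7
import Cfsg.Agent.Lib.Helper3.ChevData.E7Slct
import Cfsg.Agent.Lib.Helper3.StS3
set_option autoImplicit false
set_option maxRecDepth 1000000
set_option Elab.async false

namespace Cfsg.Agent.Lib.Helper3.ChevM
open Cfsg.Agent.Lib.Helper3.StS

theorem e7Slctok_1_4921 : allRange 4921 5054 ((fun k => ctOK Cfsg.Lie.chevE7 sctE7 (k / 126) (k % 126))) = true := by decide +kernel
theorem e7Slctok_1_5054 : allRange 5054 5187 ((fun k => ctOK Cfsg.Lie.chevE7 sctE7 (k / 126) (k % 126))) = true := by decide +kernel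
theorem e7Slctok_1_5187 : allRange 5187 5320 ((fun k => ctOK Cfsg.Lie.chevE7 sctE7 (k / 126) (k % 126))) = true := by decide +kernel
theorem e7Slctok_1_5320 : allRange 5320 5453 ((fun k => ctOK Cfsg.Lie.chevE7 sctE7 (k / 126) (k % 126))) = true := by decide +kernel
theorem e7Slctok_1_5453 : allRange 5453 5586 ((fun k => ctOK Cfsg.Lie.chevE7 sctE7 (k / 126) (k % 126))) = true := by decide +kernel
theorem e7Slctok_1_5586 : allRange 5586 5719 ((fun k => ctOK Cfsg.Lie.chevE7 sctE7 (k / 126) (k % 126))) = true := by decide +kernel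
theorem e7Slctok_1_5719 : allRange 5719 5852 ((fun k => ctOK Cfsg.Lie.chevE7 sctE7 (k / 126) (k % 126))) = true := by decide +kernel
theorem e7Slctok_1_5852 : allRange 5852 5985 ((fun k => ctOK Cfsg.Lie.chevE7 sctE7 (k / 126) (k % 126))) = true := by decide +kernel
theorem e7Slctok_1_5985 : allRange 5985 6118 ((fun k => ctOK Cfsg.Lie.chevE7 sctE7 (k / 126) (k % 126))) = true := by decide +kernel
theorem e7Slctok_1_6118 : allRange 6118 6251 ((fun k => ctOK Cfsg.Lie.chevE7 sctE7 (k / 126) (k % 126))) = true := by decide +kernel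
theorem e7Slctok_1_6251 : allRange 6251 6384 ((fun k => ctOK Cfsg.Lie.chevE7 sctE7 (k / 126) (k % 126))) = true := by decide +kernel
theorem e7Slctok_1_6384 : allRange 6384 6517 ((fun k => ctOK Cfsg.Lie.chevE7 sctE7 (k / 126) (k % 126))) = true := by decide +kernel
theorem e7Slctok_1_6517 : allRange 6517 6650 ((fun k => ctOK Cfsg.Lie.chevE7 sctE7 (k / 126) (k % 126))) = true := by decide +kernel
theorem e7Slctok_1_6650 : allRange 6650 6783 ((fun k => ctOK Cfsg.Lie.chevE7 sctE7 (k / 126) (k % 126))) = true := by decide +kernel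
theorem e7Slctok_1_6783 : allRange 6783 6916 ((fun k => ctOK Cfsg.Lie.chevE7 sctE7 (k / 126) (k % 126))) = true := by decide +kernel
theorem e7Slctok_1_6916 : allRange 6916 7049 ((fun k => ctOK Cfsg.Lie.chevE7 sctE7 (k / 126) (k % 126))) = true := by decide +kernel
theorem e7Slctok_1_7049 : allRange 7049 7182 ((fun k => ctOK Cfsg.Lie.chevE7 sctE7 (k / 126) (k % 126))) = true := by decide +kernel
theorem e7Slctok_1_7182 : allRange 7182 7315 ((fun k => ctOK Cfsg.Lie.chevE7 sctE7 (k / 126) (k % 126))) = true := by decide +kernel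
theorem e7Slctok_1_7315 : allRange 7315 7448 ((fun k => ctOK Cfsg.Lie.chevE7 sctE7 (k / 126) (k % 126))) = true := by decide +kernel
theorem e7Slctok_1_7448 : allRange 7448 7581 ((fun k => ctOK Cfsg.Lie.chevE7 sctE7 (k / 126) (k % 126))) = true := by decide +kernel
theorem e7Slctok_1_7581 : allRange 7581 7714 ((fun k => ctOK Cfsg.Lie.chevE7 sctE7 (k / 126) (k % 126))) = true := by decide +kernel
theorem e7Slctok_1_7714 : allRange 7714 7847 ((fun k => ctOK Cfsg.Lie.chevE7 sctE7 (k / 126) (k % 126))) = true := by decide +kernel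
theorem e7Slctok_1_7847 : allRange 7847 7980 ((fun k => ctOK Cfsg.Lie.chevE7 sctE7 (k / 126) (k % 126))) = true := by decide +kernel
theorem e7Slctok_1_7980 : allRange 7980 8113 ((fun k => ctOK Cfsg.Lie.chevE7 sctE7 (k / 126) (k % 126))) = true := by decide +kernel
theorem e7Slctok_1_8113 : allRange 8113 8246 ((fun k => ctOK Cfsg.Lie.chevE7 sctE7 (k / 126) (k % 126))) = true := by decide +kernel
theorem e7Slctok_1_8246 : allRange 8246 8379 ((fun k => ctOK Cfsg.Lie.chevE7 sctE7 (k / 126) (k % 126))) = true := by decide +kernel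
theorem e7Slctok_1_8379 : allRange 8379 8512 ((fun k => ctOK Cfsg.Lie.chevE7 sctE7 (k / 126) (k % 126))) = true := by decide +kernel
theorem e7Slctok_1_8512 : allRange 8512 8645 ((fun k => ctOK Cfsg.Lie.chevE7 sctE7 (k / 126) (k % 126))) = true := by decide +kernel
theorem e7Slctok_1_8645 : allRange 8645 8778 ((fun k => ctOK Cfsg.Lie.chevE7 sctE7 (k / 126) (k % 126))) = true := by decide +kernel
theorem e7Slctok_1_8778 : allRange 8778 8911 ((fun k => ctOK Cfsg.Lie.chevE7 sctE7 (k / 126) (k % 126))) = true := by decide +kernel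
theorem e7Slctok_1_8911 : allRange 8911 9044 ((fun k => ctOK Cfsg.Lie.chevE7 sctE7 (k / 126) (k % 126))) = true := by decide +kernel
theorem e7Slctok_1_9044 : allRange 9044 9177 ((fun k => ctOK Cfsg.Lie.chevE7 sctE7 (k / 126) (k % 126))) = true := by decide +kernel
theorem e7Slctok_1_9177 : allRange 9177 9310 ((fun k => ctOK Cfsg.Lie.chevE7 sctE7 (k / 126) (k % 126))) = true := by decide +kernel
theorem e7Slctok_1_9310 : allRange 9310 9443 ((fun k => ctOK Cfsg.Lie.chevE7 sctE7 (k / 126) (k % 126))) = true := by decide +kernel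
theorem e7Slctok_1_9443 : allRange 9443 9576 ((fun k => ctOK Cfsg.Lie.chevE7 sctE7 (k / 126) (k % 126))) = true := by decide +kernel
theorem e7Slctok_1_9576 : allRange 9576 9709 ((fun k => ctOK Cfsg.Lie.chevE7 sctE7 (k / 126) (k % 126))) = true := by decide +kernel
theorem e7Slctok_1_9709 : allRange 9709 9842 ((fun k => ctOK Cfsg.Lie.chevE7 sctE7 (k / 126) (k % 126))) = true := by decide +kernel

/-- The compiled table of sums of roots of type E7 agrees with the terms of the commutator formula (roots 4921 to 9841). -/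
theorem e7Slctok_1 : ∀ r, 4921 ≤ r → r < 9842 → ((fun k => ctOK Cfsg.Lie.chevE7 sctE7 (k / 126) (k % 126))) r = true := by
  intro r h1 h2
  by_cases c0 : r < 5054
  · exact allRange_spec e7Slctok_1_4921 r (by omega) c0
  by_cases c1 : r < 5187
  · exact allRange_spec e7Slctok_1_5054 r (by omega) c1
  by_cases c2 : r < 5320
  · exact allRange_spec e7Slctok_1_5187 r (by omega) c2
  by_cases c3 : r < 5453
  · exact allRange_spec e7Slctok_1_5320 r (by omega) c3
  by_cases c4 : r < 5586
  · exact allRange_spec e7Slctok_1_5453 r (by omega) c4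
  by_cases c5 : r < 5719
  · exact allRange_spec e7Slctok_1_5586 r (by omega) c5
  by_cases c6 : r < 5852
  · exact allRange_spec e7Slctok_1_5719 r (by omega) c6
  by_cases c7 : r < 5985
  · exact allRange_spec e7Slctok_1_5852 r (by omega) c7
  by_cases c8 : r < 6118
  · exact allRange_spec e7Slctok_1_5985 r (by omega) c8
  by_cases c9 : r < 6251
  · exact allRange_spec e7Slctok_1_6118 r (by omega) c9
  by_cases c10 : r < 6384
  · exact allRange_spec e7Slctok_1_6251 r (by omega) c10
  by_cases c11 : r < 6517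
  · exact allRange_spec e7Slctok_1_6384 r (by omega) c11
  by_cases c12 : r < 6650
  · exact allRange_spec e7Slctok_1_6517 r (by omega) c12
  by_cases c13 : r < 6783
  · exact allRange_spec e7Slctok_1_6650 r (by omega) c13
  by_cases c14 : r < 6916
  · exact allRange_spec e7Slctok_1_6783 r (by omega) c14
  by_cases c15 : r < 7049
  · exact allRange_spec e7Slctok_1_6916 r (by omega) c15
  by_cases c16 : r < 7182
  · exact allRange_spec e7Slctok_1_7049 r (by omega) c16
  by_cases c17 : r < 7315
  · exact allRange_spec e7Slctok_1_7182 r (by omega) c17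
  by_cases c18 : r < 7448
  · exact allRange_spec e7Slctok_1_7315 r (by omega) c18
  by_cases c19 : r < 7581
  · exact allRange_spec e7Slctok_1_7448 r (by omega) c19
  by_cases c20 : r < 7714
  · exact allRange_spec e7Slctok_1_7581 r (by omega) c20
  by_cases c21 : r < 7847
  · exact allRange_spec e7Slctok_1_7714 r (by omega) c21
  by_cases c22 : r < 7980
  · exact allRange_spec e7Slctok_1_7847 r (by omega) c22
  by_cases c23 : r < 8113
  · exact allRange_spec e7Slctok_1_7980 r (by omega) c23
  by_cases c24 : r < 8246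
  · exact allRange_spec e7Slctok_1_8113 r (by omega) c24
  by_cases c25 : r < 8379
  · exact allRange_spec e7Slctok_1_8246 r (by omega) c25
  by_cases c26 : r < 8512
  · exact allRange_spec e7Slctok_1_8379 r (by omega) c26
  by_cases c27 : r < 8645
  · exact allRange_spec e7Slctok_1_8512 r (by omega) c27
  by_cases c28 : r < 8778
  · exact allRange_spec e7Slctok_1_8645 r (by omega) c28
  by_cases c29 : r < 8911
  · exact allRange_spec e7Slctok_1_8778 r (by omega) c29
  by_cases c30 : r < 9044
  · exact allRange_spec e7Slctok_1_8911 r (by omega) c30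
  by_cases c31 : r < 9177
  · exact allRange_spec e7Slctok_1_9044 r (by omega) c31
  by_cases c32 : r < 9310
  · exact allRange_spec e7Slctok_1_9177 r (by omega) c32
  by_cases c33 : r < 9443
  · exact allRange_spec e7Slctok_1_9310 r (by omega) c33
  by_cases c34 : r < 9576
  · exact allRange_spec e7Slctok_1_9443 r (by omega) c34
  by_cases c35 : r < 9709
  · exact allRange_spec e7Slctok_1_9576 r (by omega) c35
  exact allRange_spec e7Slctok_1_9709 r (by omega) h2

end Cfsg.Agent.Lib.Helper3.ChevM
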