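import Cfsg.Prelude.Def_ChevE7
import Cfsg.Agent.Lib.Helper3.ChevData.E7Slct
import Cfsg.Agent.Lib.Helper3.StS3
set_option autoImplicit false
set_option maxRecDepth 1000000
set_option Elab.async false

namespace Cfsg.Agent.Lib.Helper3.ChevM
open Cfsg.Agent.Lib.Helper3.StS

theorem e7Slctok_2_9842 : allRange 9842 9975 ((fun k => ctOK Cfsg.Lie.chevE7 sctE7 (k / 126) (k % 126))) = true := by decide +kernel
theorem e7Slctok_2_9975 : allRange 9975 10108 ((fun k => ctOK Cfsg.Lie.chevE7 sctE7 (k / 126) (k % 126))) = true := by decide +kernel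
theorem e7Slctok_2_10108 : allRange 10108 10241 ((fun k => ctOK Cfsg.Lie.chevE7 sctE7 (k / 126) (k % 126))) = true := by decide +kernel
theorem e7Slctok_2_10241 : allRange 10241 10374 ((fun k => ctOK Cfsg.Lie.chevE7 sctE7 (k / 126) (k % 126))) = true := by decide +kernel
theorem e7Slctok_2_10374 : allRange 10374 10507 ((fun k => ctOK Cfsg.Lie.chevE7 sctE7 (k / 126) (k % 126))) = true := by decide +kernel
theorem e7Slctok_2_10507 : allRange 10507 10640 ((fun k => ctOK Cfsg.Lie.chevE7 sctE7 (k / 126) (k % 126))) = true := by decide +kernel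
theorem e7Slctok_2_10640 : allRange 10640 10773 ((fun k => ctOK Cfsg.Lie.chevE7 sctE7 (k / 126) (k % 126))) = true := by decide +kernel
theorem e7Slctok_2_10773 : allRange 10773 10906 ((fun k => ctOK Cfsg.Lie.chevE7 sctE7 (k / 126) (k % 126))) = true := by decide +kernel
theorem e7Slctok_2_10906 : allRange 10906 11039 ((fun k => ctOK Cfsg.Lie.chevE7 sctE7 (k / 126) (k % 126))) = true := by decide +kernel
theorem e7Slctok_2_11039 : allRange 11039 11172 ((fun k => ctOK Cfsg.Lie.chevE7 sctE7 (k / 126) (k % 126))) = true := by decide +kernel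
theorem e7Slctok_2_11172 : allRange 11172 11305 ((fun k => ctOK Cfsg.Lie.chevE7 sctE7 (k / 126) (k % 126))) = true := by decide +kernel
theorem e7Slctok_2_11305 : allRange 11305 11438 ((fun k => ctOK Cfsg.Lie.chevE7 sctE7 (k / 126) (k % 126))) = true := by decide +kernel
theorem e7Slctok_2_11438 : allRange 11438 11571 ((fun k => ctOK Cfsg.Lie.chevE7 sctE7 (k / 126) (k % 126))) = true := by decide +kernel
theorem e7Slctok_2_11571 : allRange 11571 11704 ((fun k => ctOK Cfsg.Lie.chevE7 sctE7 (k / 126) (k % 126))) = true := by decide +kernel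
theorem e7Slctok_2_11704 : allRange 11704 11837 ((fun k => ctOK Cfsg.Lie.chevE7 sctE7 (k / 126) (k % 126))) = true := by decide +kernel
theorem e7Slctok_2_11837 : allRange 11837 11970 ((fun k => ctOK Cfsg.Lie.chevE7 sctE7 (k / 126) (k % 126))) = true := by decide +kernel
theorem e7Slctok_2_11970 : allRange 11970 12103 ((fun k => ctOK Cfsg.Lie.chevE7 sctE7 (k / 126) (k % 126))) = true := by decide +kernel
theorem e7Slctok_2_12103 : allRange 12103 12236 ((fun k => ctOK Cfsg.Lie.chevE7 sctE7 (k / 126) (k % 126))) = true := by decide +kernel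
theorem e7Slctok_2_12236 : allRange 12236 12369 ((fun k => ctOK Cfsg.Lie.chevE7 sctE7 (k / 126) (k % 126))) = true := by decide +kernel
theorem e7Slctok_2_12369 : allRange 12369 12502 ((fun k => ctOK Cfsg.Lie.chevE7 sctE7 (k / 126) (k % 126))) = true := by decide +kernel
theorem e7Slctok_2_12502 : allRange 12502 12635 ((fun k => ctOK Cfsg.Lie.chevE7 sctE7 (k / 126) (k % 126))) = true := by decide +kernel
theorem e7Slctok_2_12635 : allRange 12635 12768 ((fun k => ctOK Cfsg.Lie.chevE7 sctE7 (k / 126) (k % 126))) = true := by decide +kernel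
theorem e7Slctok_2_12768 : allRange 12768 12901 ((fun k => ctOK Cfsg.Lie.chevE7 sctE7 (k / 126) (k % 126))) = true := by decide +kernel
theorem e7Slctok_2_12901 : allRange 12901 13034 ((fun k => ctOK Cfsg.Lie.chevE7 sctE7 (k / 126) (k % 126))) = true := by decide +kernel
theorem e7Slctok_2_13034 : allRange 13034 13167 ((fun k => ctOK Cfsg.Lie.chevE7 sctE7 (k / 126) (k % 126))) = true := by decide +kernel
theorem e7Slctok_2_13167 : allRange 13167 13300 ((fun k => ctOK Cfsg.Lie.chevE7 sctE7 (k / 126) (k % 126))) = true := by decide +kernel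
theorem e7Slctok_2_13300 : allRange 13300 13433 ((fun k => ctOK Cfsg.Lie.chevE7 sctE7 (k / 126) (k % 126))) = true := by decide +kernel
theorem e7Slctok_2_13433 : allRange 13433 13566 ((fun k => ctOK Cfsg.Lie.chevE7 sctE7 (k / 126) (k % 126))) = true := by decide +kernel
theorem e7Slctok_2_13566 : allRange 13566 13699 ((fun k => ctOK Cfsg.Lie.chevE7 sctE7 (k / 126) (k % 126))) = true := by decide +kernel
theorem e7Slctok_2_13699 : allRange 13699 13832 ((fun k => ctOK Cfsg.Lie.chevE7 sctE7 (k / 126) (k % 126))) = true := by decide +kernel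
theorem e7Slctok_2_13832 : allRange 13832 13965 ((fun k => ctOK Cfsg.Lie.chevE7 sctE7 (k / 126) (k % 126))) = true := by decide +kernel
theorem e7Slctok_2_13965 : allRange 13965 14098 ((fun k => ctOK Cfsg.Lie.chevE7 sctE7 (k / 126) (k % 126))) = true := by decide +kernel
theorem e7Slctok_2_14098 : allRange 14098 14231 ((fun k => ctOK Cfsg.Lie.chevE7 sctE7 (k / 126) (k % 126))) = true := by decide +kernel
theorem e7Slctok_2_14231 : allRange 14231 14364 ((fun k => ctOK Cfsg.Lie.chevE7 sctE7 (k / 126) (k % 126))) = true := by decide +kernel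
theorem e7Slctok_2_14364 : allRange 14364 14497 ((fun k => ctOK Cfsg.Lie.chevE7 sctE7 (k / 126) (k % 126))) = true := by decide +kernel
theorem e7Slctok_2_14497 : allRange 14497 14630 ((fun k => ctOK Cfsg.Lie.chevE7 sctE7 (k / 126) (k % 126))) = true := by decide +kernel
theorem e7Slctok_2_14630 : allRange 14630 14763 ((fun k => ctOK Cfsg.Lie.chevE7 sctE7 (k / 126) (k % 126))) = true := by decide +kernel

/-- The compiled table of sums of roots of type E7 agrees with the terms of the commutator formula (roots 9842 to 14762). -/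
theorem e7Slctok_2 : ∀ r, 9842 ≤ r → r < 14763 → ((fun k => ctOK Cfsg.Lie.chevE7 sctE7 (k / 126) (k % 126))) r = true := by
  intro r h1 h2
  by_cases c0 : r < 9975
  · exact allRange_spec e7Slctok_2_9842 r (by omega) c0
  by_cases c1 : r < 10108
  · exact allRange_spec e7Slctok_2_9975 r (by omega) c1
  by_cases c2 : r < 10241
  · exact allRange_spec e7Slctok_2_10108 r (by omega) c2
  by_cases c3 : r < 10374
  · exact allRange_spec e7Slctok_2_10241 r (by omega) c3
  by_cases c4 : r < 10507
  · exact allRange_spec e7Slctok_2_10374 r (by omega) c4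
  by_cases c5 : r < 10640
  · exact allRange_spec e7Slctok_2_10507 r (by omega) c5
  by_cases c6 : r < 10773
  · exact allRange_spec e7Slctok_2_10640 r (by omega) c6
  by_cases c7 : r < 10906
  · exact allRange_spec e7Slctok_2_10773 r (by omega) c7
  by_cases c8 : r < 11039
  · exact allRange_spec e7Slctok_2_10906 r (by omega) c8
  by_cases c9 : r < 11172
  · exact allRange_spec e7Slctok_2_11039 r (by omega) c9
  by_cases c10 : r < 11305
  · exact allRange_spec e7Slctok_2_11172 r (by omega) c10
  by_cases c11 : r < 11438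
  · exact allRange_spec e7Slctok_2_11305 r (by omega) c11
  by_cases c12 : r < 11571
  · exact allRange_spec e7Slctok_2_11438 r (by omega) c12
  by_cases c13 : r < 11704
  · exact allRange_spec e7Slctok_2_11571 r (by omega) c13
  by_cases c14 : r < 11837
  · exact allRange_spec e7Slctok_2_11704 r (by omega) c14
  by_cases c15 : r < 11970
  · exact allRange_spec e7Slctok_2_11837 r (by omega) c15
  by_cases c16 : r < 12103
  · exact allRange_spec e7Slctok_2_11970 r (by omega) c16
  by_cases c17 : r < 12236
  · exact allRange_spec e7Slctok_2_12103 r (by omega) c17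
  by_cases c18 : r < 12369
  · exact allRange_spec e7Slctok_2_12236 r (by omega) c18
  by_cases c19 : r < 12502
  · exact allRange_spec e7Slctok_2_12369 r (by omega) c19
  by_cases c20 : r < 12635
  · exact allRange_spec e7Slctok_2_12502 r (by omega) c20
  by_cases c21 : r < 12768
  · exact allRange_spec e7Slctok_2_12635 r (by omega) c21
  by_cases c22 : r < 12901
  · exact allRange_spec e7Slctok_2_12768 r (by omega) c22
  by_cases c23 : r < 13034
  · exact allRange_spec e7Slctok_2_12901 r (by omega) c23
  by_cases c24 : r < 13167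
  · exact allRange_spec e7Slctok_2_13034 r (by omega) c24
  by_cases c25 : r < 13300
  · exact allRange_spec e7Slctok_2_13167 r (by omega) c25
  by_cases c26 : r < 13433
  · exact allRange_spec e7Slctok_2_13300 r (by omega) c26
  by_cases c27 : r < 13566
  · exact allRange_spec e7Slctok_2_13433 r (by omega) c27
  by_cases c28 : r < 13699
  · exact allRange_spec e7Slctok_2_13566 r (by omega) c28
  by_cases c29 : r < 13832
  · exact allRange_spec e7Slctok_2_13699 r (by omega) c29
  by_cases c30 : r < 13965
  · exact allRange_spec e7Slctok_2_13832 r (by omega) c30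
  by_cases c31 : r < 14098
  · exact allRange_spec e7Slctok_2_13965 r (by omega) c31
  by_cases c32 : r < 14231
  · exact allRange_spec e7Slctok_2_14098 r (by omega) c32
  by_cases c33 : r < 14364
  · exact allRange_spec e7Slctok_2_14231 r (by omega) c33
  by_cases c34 : r < 14497
  · exact allRange_spec e7Slctok_2_14364 r (by omega) c34
  by_cases c35 : r < 14630
  · exact allRange_spec e7Slctok_2_14497 r (by omega) c35
  exact allRange_spec e7Slctok_2_14630 r (by omega) h2

end Cfsg.Agent.Lib.Helper3.ChevM
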