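import Cfsg.Prelude.Def_ChevE7
import Cfsg.Agent.Lib.Helper3.ChevData.E7Slct
import Cfsg.Agent.Lib.Helper3.StS3
set_option autoImplicit false
set_option maxRecDepth 1000000
set_option Elab.async false

namespace Cfsg.Agent.Lib.Helper3.ChevM
open Cfsg.Agent.Lib.Helper3.StS

theorem e7Slctok_3_14763 : allRange 14763 14896 ((fun k => ctOK Cfsg.Lie.chevE7 sctE7 (k / 126) (k % 126))) = true := by decide +kernel
theorem e7Slctok_3_14896 : allRange 14896 15029 ((fun k => ctOK Cfsg.Lie.chevE7 sctE7 (k / 126) (k % 126))) = true := by decide +kernel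
theorem e7Slctok_3_15029 : allRange 15029 15162 ((fun k => ctOK Cfsg.Lie.chevE7 sctE7 (k / 126) (k % 126))) = true := by decide +kernel
theorem e7Slctok_3_15162 : allRange 15162 15295 ((fun k => ctOK Cfsg.Lie.chevE7 sctE7 (k / 126) (k % 126))) = true := by decide +kernel
theorem e7Slctok_3_15295 : allRange 15295 15428 ((fun k => ctOK Cfsg.Lie.chevE7 sctE7 (k / 126) (k % 126))) = true := by decide +kernel
theorem e7Slctok_3_15428 : allRange 15428 15561 ((fun k => ctOK Cfsg.Lie.chevE7 sctE7 (k / 126) (k % 126))) = true := by decide +kernel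
theorem e7Slctok_3_15561 : allRange 15561 15694 ((fun k => ctOK Cfsg.Lie.chevE7 sctE7 (k / 126) (k % 126))) = true := by decide +kernel
theorem e7Slctok_3_15694 : allRange 15694 15827 ((fun k => ctOK Cfsg.Lie.chevE7 sctE7 (k / 126) (k % 126))) = true := by decide +kernel
theorem e7Slctok_3_15827 : allRange 15827 15876 ((fun k => ctOK Cfsg.Lie.chevE7 sctE7 (k / 126) (k % 126))) = true := by decide +kernel

/-- The compiled table of sums of roots of type E7 agrees with the terms of the commutator formula (roots 14763 to 15875). -/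
theorem e7Slctok_3 : ∀ r, 14763 ≤ r → r < 15876 → ((fun k => ctOK Cfsg.Lie.chevE7 sctE7 (k / 126) (k % 126))) r = true := by
  intro r h1 h2
  by_cases c0 : r < 14896
  · exact allRange_spec e7Slctok_3_14763 r (by omega) c0
  by_cases c1 : r < 15029
  · exact allRange_spec e7Slctok_3_14896 r (by omega) c1
  by_cases c2 : r < 15162
  · exact allRange_spec e7Slctok_3_15029 r (by omega) c2
  by_cases c3 : r < 15295
  · exact allRange_spec e7Slctok_3_15162 r (by omega) c3
  by_cases c4 : r < 15428
  · exact allRange_spec e7Slctok_3_15295 r (by omega) c4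
  by_cases c5 : r < 15561
  · exact allRange_spec e7Slctok_3_15428 r (by omega) c5
  by_cases c6 : r < 15694
  · exact allRange_spec e7Slctok_3_15561 r (by omega) c6
  by_cases c7 : r < 15827
  · exact allRange_spec e7Slctok_3_15694 r (by omega) c7
  exact allRange_spec e7Slctok_3_15827 r (by omega) h2

end Cfsg.Agent.Lib.Helper3.ChevM
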