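import Cfsg.Agent.Lib.Helper3.ChevData.E7SlctokA
import Cfsg.Agent.Lib.Helper3.ChevData.E7SlctokB
import Cfsg.Agent.Lib.Helper3.ChevData.E7SlctokC
import Cfsg.Agent.Lib.Helper3.ChevData.E7SlctokD
set_option autoImplicit false

namespace Cfsg.Agent.Lib.Helper3.ChevM
open Cfsg.Agent.Lib.Helper3.StS

/-- The compiled table of sums of roots of type E7 agrees with the terms of the commutator formula. -/
theorem e7Slctok : ∀ r < 15876, ((fun k => ctOK Cfsg.Lie.chevE7 sctE7 (k / 126) (k % 126))) r = true := by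
  intro r hr
  by_cases h0 : r < 4921
  · exact e7Slctok_0 r (by omega) h0
  by_cases h1 : r < 9842
  · exact e7Slctok_1 r (by omega) h1
  by_cases h2 : r < 14763
  · exact e7Slctok_2 r (by omega) h2
  exact e7Slctok_3 r (by omega) hr

end Cfsg.Agent.Lib.Helper3.ChevM
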