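import Cfsg.Agent.Lib.Helper3.ChevData.E7SldecA
import Cfsg.Agent.Lib.Helper3.ChevData.E7SldecB
set_option autoImplicit false

namespace Cfsg.Agent.Lib.Helper3.ChevM
open Cfsg.Agent.Lib.Helper3.StS

/-- Decompositions of the roots of type E7: linked decompositions. -/
theorem e7Sldec : ∀ r < 15876, ((fun k => decOK Cfsg.Lie.chevE7 sctE7 snbE7 (k / 126) (k % 126))) r = true := by
  intro r hr
  by_cases h0 : r < 9842
  · exact e7Sldec_0 r (by omega) h0
  exact e7Sldec_1 r (by omega) hr

end Cfsg.Agent.Lib.Helper3.ChevM
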