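import Cfsg.Agent.Lib.Helper3.ChevData.E7SlhopA
import Cfsg.Agent.Lib.Helper3.ChevData.E7SlhopB
set_option autoImplicit false

namespace Cfsg.Agent.Lib.Helper3.ChevM
open Cfsg.Agent.Lib.Helper3.StS

/-- Decompositions of the roots of type E7: paths to the base decompositions. -/
theorem e7Slhop : ∀ r < 15876, ((fun k => hopOK Cfsg.Lie.chevE7 sctE7 snbE7 sbaseE7 shsE7 sdistE7 (k / 126) (k % 126))) r = true := by
  intro r hr
  by_cases h0 : r < 9842
  · exact e7Slhop_0 r (by omega) h0
  exact e7Slhop_1 r (by omega) hr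

end Cfsg.Agent.Lib.Helper3.ChevM
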