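import Cfsg.Prelude.Def_ChevE7
import Cfsg.Agent.Lib.Helper3.ChevData.E7Slct
import Cfsg.Agent.Lib.Helper3.ChevData.E7Slwa
import Cfsg.Agent.Lib.Helper3.StS3
set_option autoImplicit false
set_option maxRecDepth 1000000
set_option Elab.async false

namespace Cfsg.Agent.Lib.Helper3.ChevM
open Cfsg.Agent.Lib.Helper3.StS

theorem e7Sllema_1_9842 : allRange 9842 10108 ((fun k => lemAOK Cfsg.Lie.chevE7 sctE7 swaE7 (k / 126) (k % 126))) = true := by decide +kernel
theorem e7Sllema_1_10108 : allRange 10108 10374 ((fun k => lemAOK Cfsg.Lie.chevE7 sctE7 swaE7 (k / 126) (k % 126))) = true := by decide +kernel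
theorem e7Sllema_1_10374 : allRange 10374 10640 ((fun k => lemAOK Cfsg.Lie.chevE7 sctE7 swaE7 (k / 126) (k % 126))) = true := by decide +kernel
theorem e7Sllema_1_10640 : allRange 10640 10906 ((fun k => lemAOK Cfsg.Lie.chevE7 sctE7 swaE7 (k / 126) (k % 126))) = true := by decide +kernel
theorem e7Sllema_1_10906 : allRange 10906 11172 ((fun k => lemAOK Cfsg.Lie.chevE7 sctE7 swaE7 (k / 126) (k % 126))) = true := by decide +kernel
theorem e7Sllema_1_11172 : allRange 11172 11438 ((fun k => lemAOK Cfsg.Lie.chevE7 sctE7 swaE7 (k / 126) (k % 126))) = true := by decide +kernel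
theorem e7Sllema_1_11438 : allRange 11438 11704 ((fun k => lemAOK Cfsg.Lie.chevE7 sctE7 swaE7 (k / 126) (k % 126))) = true := by decide +kernel
theorem e7Sllema_1_11704 : allRange 11704 11970 ((fun k => lemAOK Cfsg.Lie.chevE7 sctE7 swaE7 (k / 126) (k % 126))) = true := by decide +kernel
theorem e7Sllema_1_11970 : allRange 11970 12236 ((fun k => lemAOK Cfsg.Lie.chevE7 sctE7 swaE7 (k / 126) (k % 126))) = true := by decide +kernel
theorem e7Sllema_1_12236 : allRange 12236 12502 ((fun k => lemAOK Cfsg.Lie.chevE7 sctE7 swaE7 (k / 126) (k % 126))) = true := by decide +kernel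
theorem e7Sllema_1_12502 : allRange 12502 12768 ((fun k => lemAOK Cfsg.Lie.chevE7 sctE7 swaE7 (k / 126) (k % 126))) = true := by decide +kernel
theorem e7Sllema_1_12768 : allRange 12768 13034 ((fun k => lemAOK Cfsg.Lie.chevE7 sctE7 swaE7 (k / 126) (k % 126))) = true := by decide +kernel
theorem e7Sllema_1_13034 : allRange 13034 13300 ((fun k => lemAOK Cfsg.Lie.chevE7 sctE7 swaE7 (k / 126) (k % 126))) = true := by decide +kernel
theorem e7Sllema_1_13300 : allRange 13300 13566 ((fun k => lemAOK Cfsg.Lie.chevE7 sctE7 swaE7 (k / 126) (k % 126))) = true := by decide +kernel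
theorem e7Sllema_1_13566 : allRange 13566 13832 ((fun k => lemAOK Cfsg.Lie.chevE7 sctE7 swaE7 (k / 126) (k % 126))) = true := by decide +kernel
theorem e7Sllema_1_13832 : allRange 13832 14098 ((fun k => lemAOK Cfsg.Lie.chevE7 sctE7 swaE7 (k / 126) (k % 126))) = true := by decide +kernel
theorem e7Sllema_1_14098 : allRange 14098 14364 ((fun k => lemAOK Cfsg.Lie.chevE7 sctE7 swaE7 (k / 126) (k % 126))) = true := by decide +kernel
theorem e7Sllema_1_14364 : allRange 14364 14630 ((fun k => lemAOK Cfsg.Lie.chevE7 sctE7 swaE7 (k / 126) (k % 126))) = true := by decide +kernel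
theorem e7Sllema_1_14630 : allRange 14630 14896 ((fun k => lemAOK Cfsg.Lie.chevE7 sctE7 swaE7 (k / 126) (k % 126))) = true := by decide +kernel
theorem e7Sllema_1_14896 : allRange 14896 15162 ((fun k => lemAOK Cfsg.Lie.chevE7 sctE7 swaE7 (k / 126) (k % 126))) = true := by decide +kernel
theorem e7Sllema_1_15162 : allRange 15162 15428 ((fun k => lemAOK Cfsg.Lie.chevE7 sctE7 swaE7 (k / 126) (k % 126))) = true := by decide +kernel
theorem e7Sllema_1_15428 : allRange 15428 15694 ((fun k => lemAOK Cfsg.Lie.chevE7 sctE7 swaE7 (k / 126) (k % 126))) = true := by decide +kernel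
theorem e7Sllema_1_15694 : allRange 15694 15876 ((fun k => lemAOK Cfsg.Lie.chevE7 sctE7 swaE7 (k / 126) (k % 126))) = true := by decide +kernel

/-- Commuting roots of type E7: decompositions commuting with the second root (roots 9842 to 15875). -/
theorem e7Sllema_1 : ∀ r, 9842 ≤ r → r < 15876 → ((fun k => lemAOK Cfsg.Lie.chevE7 sctE7 swaE7 (k / 126) (k % 126))) r = true := by
  intro r h1 h2
  by_cases c0 : r < 10108
  · exact allRange_spec e7Sllema_1_9842 r (by omega) c0
  by_cases c1 : r < 10374
  · exact allRange_spec e7Sllema_1_10108 r (by omega) c1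
  by_cases c2 : r < 10640
  · exact allRange_spec e7Sllema_1_10374 r (by omega) c2
  by_cases c3 : r < 10906
  · exact allRange_spec e7Sllema_1_10640 r (by omega) c3
  by_cases c4 : r < 11172
  · exact allRange_spec e7Sllema_1_10906 r (by omega) c4
  by_cases c5 : r < 11438
  · exact allRange_spec e7Sllema_1_11172 r (by omega) c5
  by_cases c6 : r < 11704
  · exact allRange_spec e7Sllema_1_11438 r (by omega) c6
  by_cases c7 : r < 11970
  · exact allRange_spec e7Sllema_1_11704 r (by omega) c7
  by_cases c8 : r < 12236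
  · exact allRange_spec e7Sllema_1_11970 r (by omega) c8
  by_cases c9 : r < 12502
  · exact allRange_spec e7Sllema_1_12236 r (by omega) c9
  by_cases c10 : r < 12768
  · exact allRange_spec e7Sllema_1_12502 r (by omega) c10
  by_cases c11 : r < 13034
  · exact allRange_spec e7Sllema_1_12768 r (by omega) c11
  by_cases c12 : r < 13300
  · exact allRange_spec e7Sllema_1_13034 r (by omega) c12
  by_cases c13 : r < 13566
  · exact allRange_spec e7Sllema_1_13300 r (by omega) c13
  by_cases c14 : r < 13832
  · exact allRange_spec e7Sllema_1_13566 r (by omega) c14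
  by_cases c15 : r < 14098
  · exact allRange_spec e7Sllema_1_13832 r (by omega) c15
  by_cases c16 : r < 14364
  · exact allRange_spec e7Sllema_1_14098 r (by omega) c16
  by_cases c17 : r < 14630
  · exact allRange_spec e7Sllema_1_14364 r (by omega) c17
  by_cases c18 : r < 14896
  · exact allRange_spec e7Sllema_1_14630 r (by omega) c18
  by_cases c19 : r < 15162
  · exact allRange_spec e7Sllema_1_14896 r (by omega) c19
  by_cases c20 : r < 15428
  · exact allRange_spec e7Sllema_1_15162 r (by omega) c20
  by_cases c21 : r < 15694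
  · exact allRange_spec e7Sllema_1_15428 r (by omega) c21
  exact allRange_spec e7Sllema_1_15694 r (by omega) h2

end Cfsg.Agent.Lib.Helper3.ChevM
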