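import Cfsg.Prelude.Def_ChevE7
import Cfsg.Agent.Lib.Helper3.ChevData.E7Slct
import Cfsg.Agent.Lib.Helper3.StS3
set_option autoImplicit false
set_option maxRecDepth 1000000
set_option Elab.async false

namespace Cfsg.Agent.Lib.Helper3.ChevM
open Cfsg.Agent.Lib.Helper3.StS

theorem e7Slshape_0_0 : allRange 0 266 ((fun k => shapeOK Cfsg.Lie.chevE7 sctE7 (k / 126) (k % 126))) = true := by decide +kernel
theorem e7Slshape_0_266 : allRange 266 532 ((fun k => shapeOK Cfsg.Lie.chevE7 sctE7 (k / 126) (k % 126))) = true := by decide +kernel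
theorem e7Slshape_0_532 : allRange 532 798 ((fun k => shapeOK Cfsg.Lie.chevE7 sctE7 (k / 126) (k % 126))) = true := by decide +kernel
theorem e7Slshape_0_798 : allRange 798 1064 ((fun k => shapeOK Cfsg.Lie.chevE7 sctE7 (k / 126) (k % 126))) = true := by decide +kernel
theorem e7Slshape_0_1064 : allRange 1064 1330 ((fun k => shapeOK Cfsg.Lie.chevE7 sctE7 (k / 126) (k % 126))) = true := by decide +kernel
theorem e7Slshape_0_1330 : allRange 1330 1596 ((fun k => shapeOK Cfsg.Lie.chevE7 sctE7 (k / 126) (k % 126))) = true := by decide +kernel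
theorem e7Slshape_0_1596 : allRange 1596 1862 ((fun k => shapeOK Cfsg.Lie.chevE7 sctE7 (k / 126) (k % 126))) = true := by decide +kernel
theorem e7Slshape_0_1862 : allRange 1862 2128 ((fun k => shapeOK Cfsg.Lie.chevE7 sctE7 (k / 126) (k % 126))) = true := by decide +kernel
theorem e7Slshape_0_2128 : allRange 2128 2394 ((fun k => shapeOK Cfsg.Lie.chevE7 sctE7 (k / 126) (k % 126))) = true := by decide +kernel
theorem e7Slshape_0_2394 : allRange 2394 2660 ((fun k => shapeOK Cfsg.Lie.chevE7 sctE7 (k / 126) (k % 126))) = true := by decide +kernel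
theorem e7Slshape_0_2660 : allRange 2660 2926 ((fun k => shapeOK Cfsg.Lie.chevE7 sctE7 (k / 126) (k % 126))) = true := by decide +kernel
theorem e7Slshape_0_2926 : allRange 2926 3192 ((fun k => shapeOK Cfsg.Lie.chevE7 sctE7 (k / 126) (k % 126))) = true := by decide +kernel
theorem e7Slshape_0_3192 : allRange 3192 3458 ((fun k => shapeOK Cfsg.Lie.chevE7 sctE7 (k / 126) (k % 126))) = true := by decide +kernel
theorem e7Slshape_0_3458 : allRange 3458 3724 ((fun k => shapeOK Cfsg.Lie.chevE7 sctE7 (k / 126) (k % 126))) = true := by decide +kernel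
theorem e7Slshape_0_3724 : allRange 3724 3990 ((fun k => shapeOK Cfsg.Lie.chevE7 sctE7 (k / 126) (k % 126))) = true := by decide +kernel
theorem e7Slshape_0_3990 : allRange 3990 4256 ((fun k => shapeOK Cfsg.Lie.chevE7 sctE7 (k / 126) (k % 126))) = true := by decide +kernel
theorem e7Slshape_0_4256 : allRange 4256 4522 ((fun k => shapeOK Cfsg.Lie.chevE7 sctE7 (k / 126) (k % 126))) = true := by decide +kernel
theorem e7Slshape_0_4522 : allRange 4522 4788 ((fun k => shapeOK Cfsg.Lie.chevE7 sctE7 (k / 126) (k % 126))) = true := by decide +kernel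
theorem e7Slshape_0_4788 : allRange 4788 5054 ((fun k => shapeOK Cfsg.Lie.chevE7 sctE7 (k / 126) (k % 126))) = true := by decide +kernel
theorem e7Slshape_0_5054 : allRange 5054 5320 ((fun k => shapeOK Cfsg.Lie.chevE7 sctE7 (k / 126) (k % 126))) = true := by decide +kernel
theorem e7Slshape_0_5320 : allRange 5320 5586 ((fun k => shapeOK Cfsg.Lie.chevE7 sctE7 (k / 126) (k % 126))) = true := by decide +kernel
theorem e7Slshape_0_5586 : allRange 5586 5852 ((fun k => shapeOK Cfsg.Lie.chevE7 sctE7 (k / 126) (k % 126))) = true := by decide +kernel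
theorem e7Slshape_0_5852 : allRange 5852 6118 ((fun k => shapeOK Cfsg.Lie.chevE7 sctE7 (k / 126) (k % 126))) = true := by decide +kernel
theorem e7Slshape_0_6118 : allRange 6118 6384 ((fun k => shapeOK Cfsg.Lie.chevE7 sctE7 (k / 126) (k % 126))) = true := by decide +kernel
theorem e7Slshape_0_6384 : allRange 6384 6650 ((fun k => shapeOK Cfsg.Lie.chevE7 sctE7 (k / 126) (k % 126))) = true := by decide +kernel
theorem e7Slshape_0_6650 : allRange 6650 6916 ((fun k => shapeOK Cfsg.Lie.chevE7 sctE7 (k / 126) (k % 126))) = true := by decide +kernel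
theorem e7Slshape_0_6916 : allRange 6916 7182 ((fun k => shapeOK Cfsg.Lie.chevE7 sctE7 (k / 126) (k % 126))) = true := by decide +kernel
theorem e7Slshape_0_7182 : allRange 7182 7448 ((fun k => shapeOK Cfsg.Lie.chevE7 sctE7 (k / 126) (k % 126))) = true := by decide +kernel
theorem e7Slshape_0_7448 : allRange 7448 7714 ((fun k => shapeOK Cfsg.Lie.chevE7 sctE7 (k / 126) (k % 126))) = true := by decide +kernel
theorem e7Slshape_0_7714 : allRange 7714 7980 ((fun k => shapeOK Cfsg.Lie.chevE7 sctE7 (k / 126) (k % 126))) = true := by decide +kernel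
theorem e7Slshape_0_7980 : allRange 7980 8246 ((fun k => shapeOK Cfsg.Lie.chevE7 sctE7 (k / 126) (k % 126))) = true := by decide +kernel
theorem e7Slshape_0_8246 : allRange 8246 8512 ((fun k => shapeOK Cfsg.Lie.chevE7 sctE7 (k / 126) (k % 126))) = true := by decide +kernel
theorem e7Slshape_0_8512 : allRange 8512 8778 ((fun k => shapeOK Cfsg.Lie.chevE7 sctE7 (k / 126) (k % 126))) = true := by decide +kernel
theorem e7Slshape_0_8778 : allRange 8778 9044 ((fun k => shapeOK Cfsg.Lie.chevE7 sctE7 (k / 126) (k % 126))) = true := by decide +kernel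
theorem e7Slshape_0_9044 : allRange 9044 9310 ((fun k => shapeOK Cfsg.Lie.chevE7 sctE7 (k / 126) (k % 126))) = true := by decide +kernel
theorem e7Slshape_0_9310 : allRange 9310 9576 ((fun k => shapeOK Cfsg.Lie.chevE7 sctE7 (k / 126) (k % 126))) = true := by decide +kernel
theorem e7Slshape_0_9576 : allRange 9576 9842 ((fun k => shapeOK Cfsg.Lie.chevE7 sctE7 (k / 126) (k % 126))) = true := by decide +kernel

/-- Pairs of roots of type E7: the shape of the commutator formula (roots 0 to 9841). -/
theorem e7Slshape_0 : ∀ r, 0 ≤ r → r < 9842 → ((fun k => shapeOK Cfsg.Lie.chevE7 sctE7 (k / 126) (k % 126))) r = true := by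
  intro r h1 h2
  by_cases c0 : r < 266
  · exact allRange_spec e7Slshape_0_0 r (by omega) c0
  by_cases c1 : r < 532
  · exact allRange_spec e7Slshape_0_266 r (by omega) c1
  by_cases c2 : r < 798
  · exact allRange_spec e7Slshape_0_532 r (by omega) c2
  by_cases c3 : r < 1064
  · exact allRange_spec e7Slshape_0_798 r (by omega) c3
  by_cases c4 : r < 1330
  · exact allRange_spec e7Slshape_0_1064 r (by omega) c4
  by_cases c5 : r < 1596
  · exact allRange_spec e7Slshape_0_1330 r (by omega) c5
  by_cases c6 : r < 1862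
  · exact allRange_spec e7Slshape_0_1596 r (by omega) c6
  by_cases c7 : r < 2128
  · exact allRange_spec e7Slshape_0_1862 r (by omega) c7
  by_cases c8 : r < 2394
  · exact allRange_spec e7Slshape_0_2128 r (by omega) c8
  by_cases c9 : r < 2660
  · exact allRange_spec e7Slshape_0_2394 r (by omega) c9
  by_cases c10 : r < 2926
  · exact allRange_spec e7Slshape_0_2660 r (by omega) c10
  by_cases c11 : r < 3192
  · exact allRange_spec e7Slshape_0_2926 r (by omega) c11
  by_cases c12 : r < 3458
  · exact allRange_spec e7Slshape_0_3192 r (by omega) c12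
  by_cases c13 : r < 3724
  · exact allRange_spec e7Slshape_0_3458 r (by omega) c13
  by_cases c14 : r < 3990
  · exact allRange_spec e7Slshape_0_3724 r (by omega) c14
  by_cases c15 : r < 4256
  · exact allRange_spec e7Slshape_0_3990 r (by omega) c15
  by_cases c16 : r < 4522
  · exact allRange_spec e7Slshape_0_4256 r (by omega) c16
  by_cases c17 : r < 4788
  · exact allRange_spec e7Slshape_0_4522 r (by omega) c17
  by_cases c18 : r < 5054
  · exact allRange_spec e7Slshape_0_4788 r (by omega) c18
  by_cases c19 : r < 5320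
  · exact allRange_spec e7Slshape_0_5054 r (by omega) c19
  by_cases c20 : r < 5586
  · exact allRange_spec e7Slshape_0_5320 r (by omega) c20
  by_cases c21 : r < 5852
  · exact allRange_spec e7Slshape_0_5586 r (by omega) c21
  by_cases c22 : r < 6118
  · exact allRange_spec e7Slshape_0_5852 r (by omega) c22
  by_cases c23 : r < 6384
  · exact allRange_spec e7Slshape_0_6118 r (by omega) c23
  by_cases c24 : r < 6650
  · exact allRange_spec e7Slshape_0_6384 r (by omega) c24
  by_cases c25 : r < 6916
  · exact allRange_spec e7Slshape_0_6650 r (by omega) c25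
  by_cases c26 : r < 7182
  · exact allRange_spec e7Slshape_0_6916 r (by omega) c26
  by_cases c27 : r < 7448
  · exact allRange_spec e7Slshape_0_7182 r (by omega) c27
  by_cases c28 : r < 7714
  · exact allRange_spec e7Slshape_0_7448 r (by omega) c28
  by_cases c29 : r < 7980
  · exact allRange_spec e7Slshape_0_7714 r (by omega) c29
  by_cases c30 : r < 8246
  · exact allRange_spec e7Slshape_0_7980 r (by omega) c30
  by_cases c31 : r < 8512
  · exact allRange_spec e7Slshape_0_8246 r (by omega) c31
  by_cases c32 : r < 8778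
  · exact allRange_spec e7Slshape_0_8512 r (by omega) c32
  by_cases c33 : r < 9044
  · exact allRange_spec e7Slshape_0_8778 r (by omega) c33
  by_cases c34 : r < 9310
  · exact allRange_spec e7Slshape_0_9044 r (by omega) c34
  by_cases c35 : r < 9576
  · exact allRange_spec e7Slshape_0_9310 r (by omega) c35
  exact allRange_spec e7Slshape_0_9576 r (by omega) h2

end Cfsg.Agent.Lib.Helper3.ChevM
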