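import Cfsg.Agent.Lib.Helper3.ChevM7
import Cfsg.Agent.Lib.Helper3.ChevData.E7Slctok
import Cfsg.Agent.Lib.Helper3.ChevData.E7Sllema
import Cfsg.Agent.Lib.Helper3.ChevData.E7Sldec
import Cfsg.Agent.Lib.Helper3.ChevData.E7Slhop
import Cfsg.Agent.Lib.Helper3.ChevData.E7Slshape
import Cfsg.Agent.Lib.Helper3.ChevData.E7Slbase
set_option autoImplicit false
set_option maxRecDepth 1000000

namespace Cfsg.Agent.Lib.Helper3.ChevM
open Cfsg.Agent.Lib.Helper3.StS

/-- The table checks for the splitting of the central extensions of the Steinberg group of type E7 over an arbitrary field. -/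
def slHypE7 : SLHyp Cfsg.Lie.chevE7 where
  ct := sctE7
  wa := swaE7
  nb := snbE7
  base := sbaseE7
  hs := shsE7
  dist := sdistE7
  hct := of_pairRange (m := 126) (n := 126) e7Slctok
  hA := of_pairRange (m := 126) (n := 126) e7Sllema
  hdec := of_pairRange (m := 126) (n := 126) e7Sldec
  hhop := of_pairRange (m := 126) (n := 126) e7Slhop
  hbase := e7Slbase
  hshape := of_pairRange (m := 126) (n := 126) e7Slshape

end Cfsg.Agent.Lib.Helper3.ChevM
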