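import Cfsg.Prelude.Def_ChevE7
import Cfsg.Agent.Lib.Helper3.ChevData.E7Tabs
import Cfsg.Agent.Lib.Helper3.ChevData.E7Srw
import Cfsg.Agent.Lib.Helper3.ChevG6
set_option autoImplicit false
set_option maxRecDepth 1000000
set_option Elab.async false

namespace Cfsg.Agent.Lib.Helper3.ChevM

theorem e7Srwc_0_0 : allRange 0 98 ((fun r => suppWordCheck Cfsg.Lie.chevE7 reflE7 srwE7 r)) = true := by decide +kernel
theorem e7Srwc_0_98 : allRange 98 126 ((fun r => suppWordCheck Cfsg.Lie.chevE7 reflE7 srwE7 r)) = true := by decide +kernel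

/-- Every root of type E7 is conjugate to a fundamental root inside its support (roots 0 to 125). -/
theorem e7Srwc_0 : ∀ r, 0 ≤ r → r < 126 → ((fun r => suppWordCheck Cfsg.Lie.chevE7 reflE7 srwE7 r)) r = true := by
  intro r h1 h2
  by_cases c0 : r < 98
  · exact allRange_spec e7Srwc_0_0 r (by omega) c0
  exact allRange_spec e7Srwc_0_98 r (by omega) h2

end Cfsg.Agent.Lib.Helper3.ChevM
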