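import Cfsg.Agent.Lib.Helper3.ChevData.E7Datum
import Cfsg.Agent.Lib.Helper3.StB4
set_option autoImplicit false
set_option maxRecDepth 1000000
set_option Elab.async false

namespace Cfsg.Agent.Lib.Helper3.ChevM
open Cfsg.Agent.Lib.Helper3.StB

theorem e7Theta_1_84 : allRange 84 86 ((fun r => thetaCheck cdE7 r)) = true := by decide +kernel
theorem e7Theta_1_86 : allRange 86 88 ((fun r => thetaCheck cdE7 r)) = true := by decide +kernel
theorem e7Theta_1_88 : allRange 88 90 ((fun r => thetaCheck cdE7 r)) = true := by decide +kernel
theorem e7Theta_1_90 : allRange 90 92 ((fun r => thetaCheck cdE7 r)) = true := by decide +kernel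
theorem e7Theta_1_92 : allRange 92 94 ((fun r => thetaCheck cdE7 r)) = true := by decide +kernel
theorem e7Theta_1_94 : allRange 94 96 ((fun r => thetaCheck cdE7 r)) = true := by decide +kernel
theorem e7Theta_1_96 : allRange 96 98 ((fun r => thetaCheck cdE7 r)) = true := by decide +kernel
theorem e7Theta_1_98 : allRange 98 100 ((fun r => thetaCheck cdE7 r)) = true := by decide +kernel
theorem e7Theta_1_100 : allRange 100 102 ((fun r => thetaCheck cdE7 r)) = true := by decide +kernel
theorem e7Theta_1_102 : allRange 102 104 ((fun r => thetaCheck cdE7 r)) = true := by decide +kernel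
theorem e7Theta_1_104 : allRange 104 106 ((fun r => thetaCheck cdE7 r)) = true := by decide +kernel
theorem e7Theta_1_106 : allRange 106 108 ((fun r => thetaCheck cdE7 r)) = true := by decide +kernel
theorem e7Theta_1_108 : allRange 108 110 ((fun r => thetaCheck cdE7 r)) = true := by decide +kernel
theorem e7Theta_1_110 : allRange 110 112 ((fun r => thetaCheck cdE7 r)) = true := by decide +kernel
theorem e7Theta_1_112 : allRange 112 114 ((fun r => thetaCheck cdE7 r)) = true := by decide +kernel
theorem e7Theta_1_114 : allRange 114 116 ((fun r => thetaCheck cdE7 r)) = true := by decide +kernel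
theorem e7Theta_1_116 : allRange 116 118 ((fun r => thetaCheck cdE7 r)) = true := by decide +kernel
theorem e7Theta_1_118 : allRange 118 120 ((fun r => thetaCheck cdE7 r)) = true := by decide +kernel
theorem e7Theta_1_120 : allRange 120 122 ((fun r => thetaCheck cdE7 r)) = true := by decide +kernel
theorem e7Theta_1_122 : allRange 122 124 ((fun r => thetaCheck cdE7 r)) = true := by decide +kernel
theorem e7Theta_1_124 : allRange 124 126 ((fun r => thetaCheck cdE7 r)) = true := by decide +kernel

/-- The permutation matrix exchanging opposite roots of type E7 conjugates root elements to root elements (roots 84 to 125). -/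
theorem e7Theta_1 : ∀ r, 84 ≤ r → r < 126 → ((fun r => thetaCheck cdE7 r)) r = true := by
  intro r h1 h2
  by_cases c0 : r < 86
  · exact allRange_spec e7Theta_1_84 r (by omega) c0
  by_cases c1 : r < 88
  · exact allRange_spec e7Theta_1_86 r (by omega) c1
  by_cases c2 : r < 90
  · exact allRange_spec e7Theta_1_88 r (by omega) c2
  by_cases c3 : r < 92
  · exact allRange_spec e7Theta_1_90 r (by omega) c3
  by_cases c4 : r < 94
  · exact allRange_spec e7Theta_1_92 r (by omega) c4
  by_cases c5 : r < 96
  · exact allRange_spec e7Theta_1_94 r (by omega) c5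
  by_cases c6 : r < 98
  · exact allRange_spec e7Theta_1_96 r (by omega) c6
  by_cases c7 : r < 100
  · exact allRange_spec e7Theta_1_98 r (by omega) c7
  by_cases c8 : r < 102
  · exact allRange_spec e7Theta_1_100 r (by omega) c8
  by_cases c9 : r < 104
  · exact allRange_spec e7Theta_1_102 r (by omega) c9
  by_cases c10 : r < 106
  · exact allRange_spec e7Theta_1_104 r (by omega) c10
  by_cases c11 : r < 108
  · exact allRange_spec e7Theta_1_106 r (by omega) c11
  by_cases c12 : r < 110
  · exact allRange_spec e7Theta_1_108 r (by omega) c12
  by_cases c13 : r < 112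
  · exact allRange_spec e7Theta_1_110 r (by omega) c13
  by_cases c14 : r < 114
  · exact allRange_spec e7Theta_1_112 r (by omega) c14
  by_cases c15 : r < 116
  · exact allRange_spec e7Theta_1_114 r (by omega) c15
  by_cases c16 : r < 118
  · exact allRange_spec e7Theta_1_116 r (by omega) c16
  by_cases c17 : r < 120
  · exact allRange_spec e7Theta_1_118 r (by omega) c17
  by_cases c18 : r < 122
  · exact allRange_spec e7Theta_1_120 r (by omega) c18
  by_cases c19 : r < 124
  · exact allRange_spec e7Theta_1_122 r (by omega) c19
  exact allRange_spec e7Theta_1_124 r (by omega) h2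

end Cfsg.Agent.Lib.Helper3.ChevM
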