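import Cfsg.Agent.Lib.Helper3.ChevData.E7ThetaA
import Cfsg.Agent.Lib.Helper3.ChevData.E7ThetaB
set_option autoImplicit false

namespace Cfsg.Agent.Lib.Helper3.ChevM
open Cfsg.Agent.Lib.Helper3.StB

/-- The permutation matrix exchanging opposite roots of type E7 conjugates root elements to root elements. -/
theorem e7Theta : ∀ r < 126, ((fun r => thetaCheck cdE7 r)) r = true := by
  intro r hr
  by_cases h0 : r < 84
  · exact e7Theta_0 r (by omega) h0
  exact e7Theta_1 r (by omega) hr

end Cfsg.Agent.Lib.Helper3.ChevM
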