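import Cfsg.Agent.Lib.Helper3.ChevData.E7UHyp
import Cfsg.Agent.Lib.Helper3.ChevData.E7Bn
import Cfsg.Agent.Lib.Helper3.ChevData.E7Sign
import Cfsg.Agent.Lib.Helper3.ChevData.E7Theta
import Cfsg.Agent.Lib.Helper3.ChevData.E7Cneg
import Cfsg.Agent.Lib.Helper3.StB12
set_option autoImplicit false
set_option maxRecDepth 1000000

namespace Cfsg.Agent.Lib.Helper3.ChevM
open Cfsg.Agent.Lib.Helper3.StB

/-- Pairs of roots whose commutator formula contains the simple roots of type E7. -/
def abE7 (i : ℕ) : ℕ × ℕ := (#[(1, 125), (7, 122), (2, 124), (3, 123), (4, 122), (5, 121), (6, 120)] : Array (ℕ × ℕ)).getD i (0, 0)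

theorem e7Self : allRange 0 7 (fun i => selfCheck Cfsg.Lie.chevE7 relE7.refl abE7 i) = true := by decide +kernel

theorem e7Pneg : allRange 0 49 (fun k => pairNegCheck Cfsg.Lie.chevE7 relE7.pair (k / 7) (k % 7)) = true := by decide +kernel

/-- The table checks for the presentation of type E7. -/
def stHypE7 : StHyp cdE7 relE7 where
  U := uhypE7
  B := bnE7
  sign := e7Sign
  theta := e7Theta
  cneg := of_pairRange (m := 126) (n := 126) e7Cneg
  ab := abE7
  self := fun i hi => allRange_spec e7Self i (Nat.zero_le i) hi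
  pneg := of_pairRange (m := 7) (n := 7) (fun k hk => allRange_spec e7Pneg k (Nat.zero_le k) hk)

end Cfsg.Agent.Lib.Helper3.ChevM
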