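import Cfsg.Agent.Lib.Helper3.ChevData.E7Datum
import Cfsg.Agent.Lib.Helper3.ChevData.E7Tabs
import Cfsg.Agent.Lib.Helper3.ChevM7
set_option autoImplicit false
set_option maxRecDepth 1000000
set_option Elab.async false

namespace Cfsg.Agent.Lib.Helper3.ChevM

theorem e7Tab_0_0 : allRange 0 147 ((fun k => tabCheck Cfsg.Lie.chevE7 pairE7 reflE7 (k / 126) (k % 126))) = true := by decide +kernel
theorem e7Tab_0_147 : allRange 147 294 ((fun k => tabCheck Cfsg.Lie.chevE7 pairE7 reflE7 (k / 126) (k % 126))) = true := by decide +kernel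
theorem e7Tab_0_294 : allRange 294 441 ((fun k => tabCheck Cfsg.Lie.chevE7 pairE7 reflE7 (k / 126) (k % 126))) = true := by decide +kernel
theorem e7Tab_0_441 : allRange 441 588 ((fun k => tabCheck Cfsg.Lie.chevE7 pairE7 reflE7 (k / 126) (k % 126))) = true := by decide +kernel
theorem e7Tab_0_588 : allRange 588 735 ((fun k => tabCheck Cfsg.Lie.chevE7 pairE7 reflE7 (k / 126) (k % 126))) = true := by decide +kernel
theorem e7Tab_0_735 : allRange 735 882 ((fun k => tabCheck Cfsg.Lie.chevE7 pairE7 reflE7 (k / 126) (k % 126))) = true := by decide +kernel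

/-- Compiled tables of type E7 (roots 0 to 881). -/
theorem e7Tab_0 : ∀ r, 0 ≤ r → r < 882 → ((fun k => tabCheck Cfsg.Lie.chevE7 pairE7 reflE7 (k / 126) (k % 126))) r = true := by
  intro r h1 h2
  by_cases c0 : r < 147
  · exact allRange_spec e7Tab_0_0 r (by omega) c0
  by_cases c1 : r < 294
  · exact allRange_spec e7Tab_0_147 r (by omega) c1
  by_cases c2 : r < 441
  · exact allRange_spec e7Tab_0_294 r (by omega) c2
  by_cases c3 : r < 588
  · exact allRange_spec e7Tab_0_441 r (by omega) c3
  by_cases c4 : r < 735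
  · exact allRange_spec e7Tab_0_588 r (by omega) c4
  exact allRange_spec e7Tab_0_735 r (by omega) h2

end Cfsg.Agent.Lib.Helper3.ChevM
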