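import Cfsg.Agent.Lib.Helper3.ChevData.E7Datum
import Cfsg.Agent.Lib.Helper3.StB4
set_option autoImplicit false
set_option maxRecDepth 1000000
set_option Elab.async false

namespace Cfsg.Agent.Lib.Helper3.ChevM
open Cfsg.Agent.Lib.Helper3.StB

theorem e7Theta_0_0 : allRange 0 2 ((fun r => thetaCheck cdE7 r)) = true := by decide +kernel
theorem e7Theta_0_2 : allRange 2 4 ((fun r => thetaCheck cdE7 r)) = true := by decide +kernel
theorem e7Theta_0_4 : allRange 4 6 ((fun r => thetaCheck cdE7 r)) = true := by decide +kernel
theorem e7Theta_0_6 : allRange 6 8 ((fun r => thetaCheck cdE7 r)) = true := by decide +kernel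
theorem e7Theta_0_8 : allRange 8 10 ((fun r => thetaCheck cdE7 r)) = true := by decide +kernel
theorem e7Theta_0_10 : allRange 10 12 ((fun r => thetaCheck cdE7 r)) = true := by decide +kernel
theorem e7Theta_0_12 : allRange 12 14 ((fun r => thetaCheck cdE7 r)) = true := by decide +kernel
theorem e7Theta_0_14 : allRange 14 16 ((fun r => thetaCheck cdE7 r)) = true := by decide +kernel
theorem e7Theta_0_16 : allRange 16 18 ((fun r => thetaCheck cdE7 r)) = true := by decide +kernel
theorem e7Theta_0_18 : allRange 18 20 ((fun r => thetaCheck cdE7 r)) = true := by decide +kernel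
theorem e7Theta_0_20 : allRange 20 22 ((fun r => thetaCheck cdE7 r)) = true := by decide +kernel
theorem e7Theta_0_22 : allRange 22 24 ((fun r => thetaCheck cdE7 r)) = true := by decide +kernel
theorem e7Theta_0_24 : allRange 24 26 ((fun r => thetaCheck cdE7 r)) = true := by decide +kernel
theorem e7Theta_0_26 : allRange 26 28 ((fun r => thetaCheck cdE7 r)) = true := by decide +kernel
theorem e7Theta_0_28 : allRange 28 30 ((fun r => thetaCheck cdE7 r)) = true := by decide +kernel
theorem e7Theta_0_30 : allRange 30 32 ((fun r => thetaCheck cdE7 r)) = true := by decide +kernel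
theorem e7Theta_0_32 : allRange 32 34 ((fun r => thetaCheck cdE7 r)) = true := by decide +kernel
theorem e7Theta_0_34 : allRange 34 36 ((fun r => thetaCheck cdE7 r)) = true := by decide +kernel
theorem e7Theta_0_36 : allRange 36 38 ((fun r => thetaCheck cdE7 r)) = true := by decide +kernel
theorem e7Theta_0_38 : allRange 38 40 ((fun r => thetaCheck cdE7 r)) = true := by decide +kernel
theorem e7Theta_0_40 : allRange 40 42 ((fun r => thetaCheck cdE7 r)) = true := by decide +kernel
theorem e7Theta_0_42 : allRange 42 44 ((fun r => thetaCheck cdE7 r)) = true := by decide +kernel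
theorem e7Theta_0_44 : allRange 44 46 ((fun r => thetaCheck cdE7 r)) = true := by decide +kernel
theorem e7Theta_0_46 : allRange 46 48 ((fun r => thetaCheck cdE7 r)) = true := by decide +kernel
theorem e7Theta_0_48 : allRange 48 50 ((fun r => thetaCheck cdE7 r)) = true := by decide +kernel
theorem e7Theta_0_50 : allRange 50 52 ((fun r => thetaCheck cdE7 r)) = true := by decide +kernel
theorem e7Theta_0_52 : allRange 52 54 ((fun r => thetaCheck cdE7 r)) = true := by decide +kernel
theorem e7Theta_0_54 : allRange 54 56 ((fun r => thetaCheck cdE7 r)) = true := by decide +kernel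
theorem e7Theta_0_56 : allRange 56 58 ((fun r => thetaCheck cdE7 r)) = true := by decide +kernel
theorem e7Theta_0_58 : allRange 58 60 ((fun r => thetaCheck cdE7 r)) = true := by decide +kernel
theorem e7Theta_0_60 : allRange 60 62 ((fun r => thetaCheck cdE7 r)) = true := by decide +kernel
theorem e7Theta_0_62 : allRange 62 64 ((fun r => thetaCheck cdE7 r)) = true := by decide +kernel
theorem e7Theta_0_64 : allRange 64 66 ((fun r => thetaCheck cdE7 r)) = true := by decide +kernel
theorem e7Theta_0_66 : allRange 66 68 ((fun r => thetaCheck cdE7 r)) = true := by decide +kernel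
theorem e7Theta_0_68 : allRange 68 70 ((fun r => thetaCheck cdE7 r)) = true := by decide +kernel
theorem e7Theta_0_70 : allRange 70 72 ((fun r => thetaCheck cdE7 r)) = true := by decide +kernel
theorem e7Theta_0_72 : allRange 72 74 ((fun r => thetaCheck cdE7 r)) = true := by decide +kernel
theorem e7Theta_0_74 : allRange 74 76 ((fun r => thetaCheck cdE7 r)) = true := by decide +kernel
theorem e7Theta_0_76 : allRange 76 78 ((fun r => thetaCheck cdE7 r)) = true := by decide +kernel
theorem e7Theta_0_78 : allRange 78 80 ((fun r => thetaCheck cdE7 r)) = true := by decide +kernel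
theorem e7Theta_0_80 : allRange 80 82 ((fun r => thetaCheck cdE7 r)) = true := by decide +kernel
theorem e7Theta_0_82 : allRange 82 84 ((fun r => thetaCheck cdE7 r)) = true := by decide +kernel

/-- The permutation matrix exchanging opposite roots of type E7 conjugates root elements to root elements (roots 0 to 83). -/
theorem e7Theta_0 : ∀ r, 0 ≤ r → r < 84 → ((fun r => thetaCheck cdE7 r)) r = true := by
  intro r h1 h2
  by_cases c0 : r < 2
  · exact allRange_spec e7Theta_0_0 r (by omega) c0
  by_cases c1 : r < 4
  · exact allRange_spec e7Theta_0_2 r (by omega) c1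
  by_cases c2 : r < 6
  · exact allRange_spec e7Theta_0_4 r (by omega) c2
  by_cases c3 : r < 8
  · exact allRange_spec e7Theta_0_6 r (by omega) c3
  by_cases c4 : r < 10
  · exact allRange_spec e7Theta_0_8 r (by omega) c4
  by_cases c5 : r < 12
  · exact allRange_spec e7Theta_0_10 r (by omega) c5
  by_cases c6 : r < 14
  · exact allRange_spec e7Theta_0_12 r (by omega) c6
  by_cases c7 : r < 16
  · exact allRange_spec e7Theta_0_14 r (by omega) c7
  by_cases c8 : r < 18
  · exact allRange_spec e7Theta_0_16 r (by omega) c8
  by_cases c9 : r < 20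
  · exact allRange_spec e7Theta_0_18 r (by omega) c9
  by_cases c10 : r < 22
  · exact allRange_spec e7Theta_0_20 r (by omega) c10
  by_cases c11 : r < 24
  · exact allRange_spec e7Theta_0_22 r (by omega) c11
  by_cases c12 : r < 26
  · exact allRange_spec e7Theta_0_24 r (by omega) c12
  by_cases c13 : r < 28
  · exact allRange_spec e7Theta_0_26 r (by omega) c13
  by_cases c14 : r < 30
  · exact allRange_spec e7Theta_0_28 r (by omega) c14
  by_cases c15 : r < 32
  · exact allRange_spec e7Theta_0_30 r (by omega) c15
  by_cases c16 : r < 34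
  · exact allRange_spec e7Theta_0_32 r (by omega) c16
  by_cases c17 : r < 36
  · exact allRange_spec e7Theta_0_34 r (by omega) c17
  by_cases c18 : r < 38
  · exact allRange_spec e7Theta_0_36 r (by omega) c18
  by_cases c19 : r < 40
  · exact allRange_spec e7Theta_0_38 r (by omega) c19
  by_cases c20 : r < 42
  · exact allRange_spec e7Theta_0_40 r (by omega) c20
  by_cases c21 : r < 44
  · exact allRange_spec e7Theta_0_42 r (by omega) c21
  by_cases c22 : r < 46
  · exact allRange_spec e7Theta_0_44 r (by omega) c22
  by_cases c23 : r < 48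
  · exact allRange_spec e7Theta_0_46 r (by omega) c23
  by_cases c24 : r < 50
  · exact allRange_spec e7Theta_0_48 r (by omega) c24
  by_cases c25 : r < 52
  · exact allRange_spec e7Theta_0_50 r (by omega) c25
  by_cases c26 : r < 54
  · exact allRange_spec e7Theta_0_52 r (by omega) c26
  by_cases c27 : r < 56
  · exact allRange_spec e7Theta_0_54 r (by omega) c27
  by_cases c28 : r < 58
  · exact allRange_spec e7Theta_0_56 r (by omega) c28
  by_cases c29 : r < 60
  · exact allRange_spec e7Theta_0_58 r (by omega) c29
  by_cases c30 : r < 62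
  · exact allRange_spec e7Theta_0_60 r (by omega) c30
  by_cases c31 : r < 64
  · exact allRange_spec e7Theta_0_62 r (by omega) c31
  by_cases c32 : r < 66
  · exact allRange_spec e7Theta_0_64 r (by omega) c32
  by_cases c33 : r < 68
  · exact allRange_spec e7Theta_0_66 r (by omega) c33
  by_cases c34 : r < 70
  · exact allRange_spec e7Theta_0_68 r (by omega) c34
  by_cases c35 : r < 72
  · exact allRange_spec e7Theta_0_70 r (by omega) c35
  by_cases c36 : r < 74
  · exact allRange_spec e7Theta_0_72 r (by omega) c36
  by_cases c37 : r < 76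
  · exact allRange_spec e7Theta_0_74 r (by omega) c37
  by_cases c38 : r < 78
  · exact allRange_spec e7Theta_0_76 r (by omega) c38
  by_cases c39 : r < 80
  · exact allRange_spec e7Theta_0_78 r (by omega) c39
  by_cases c40 : r < 82
  · exact allRange_spec e7Theta_0_80 r (by omega) c40
  exact allRange_spec e7Theta_0_82 r (by omega) h2

end Cfsg.Agent.Lib.Helper3.ChevM
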