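import Cfsg.Agent.Lib.Helper3.ChevData.E7Datum
import Cfsg.Agent.Lib.Helper3.ChevT2
set_option autoImplicit false
set_option maxRecDepth 1000000
set_option Elab.async false

namespace Cfsg.Agent.Lib.Helper3.ChevM

theorem e7Tri_0_0 : allRange 0 52 ((fun r => posTri cdE7 r)) = true := by decide +kernel
theorem e7Tri_0_52 : allRange 52 104 ((fun r => posTri cdE7 r)) = true := by decide +kernel
theorem e7Tri_0_104 : allRange 104 126 ((fun r => posTri cdE7 r)) = true := by decide +kernel

/-- Triangularity of the positive root elements of type E7 (roots 0 to 125). -/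
theorem e7Tri_0 : ∀ r, 0 ≤ r → r < 126 → ((fun r => posTri cdE7 r)) r = true := by
  intro r h1 h2
  by_cases c0 : r < 52
  · exact allRange_spec e7Tri_0_0 r (by omega) c0
  by_cases c1 : r < 104
  · exact allRange_spec e7Tri_0_52 r (by omega) c1
  exact allRange_spec e7Tri_0_104 r (by omega) h2

end Cfsg.Agent.Lib.Helper3.ChevM
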