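import Cfsg.Agent.Lib.Helper3.ChevGen2c
import Cfsg.Agent.Lib.Helper3.ChevData.E7Mono
import Cfsg.Agent.Lib.Helper3.ChevData.E7Hdec
import Cfsg.Agent.Lib.Helper3.ChevData.E7CommData
set_option autoImplicit false
set_option maxRecDepth 1000000
open Cfsg Cfsg.Lie

/-! Two generators for the Chevalley group of type E7: the data of the derivation. -/

namespace Cfsg.Agent.Lib.Helper3.ChevM

/-- The parameters of the derivation for type E7. -/
def tgParE7 : TGParams where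
  l := [0, 1, 2, 3, 4, 5, 6]
  s := 0
  lam := fun i => ([1, 0, 0, 0, 0, 0, 0] : List ℤ).getD i 0
  P := []
  two := false

/-- The steps of the derivation for type E7. -/
def tgStepsE7 : List TGStep := [
  .orb 12, .orb 37, .orbInv 21, .orbInv 41, .tor 41, .tor 21, .tor 18, .tor 37,
  .orb 18, .orb 21, .orb 49, .orbInv 30, .orbInv 47, .orbInv 82, .sum 12 37 1 (-1), .sum 12 21 0 (1),
  .sum 18 82 29 (-1), .sum 18 49 7 (-1), .sum 18 37 2 (-1), .sum 21 41 6 (-1), .sum 29 47 25 (1), .sum 29 37 10 (-1), .sum 30 47 26 (1), .sum 30 43 20 (-1),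
  .sum 30 41 16 (-1), .sum 41 20 5 (1), .sum 43 49 33 (1), .sum 47 7 3 (-1), .sum 47 82 72 (-1), .sum 47 49 40 (-1), .sum 49 20 8 (1), .sum 49 26 15 (-1),
  .sum 49 25 13 (-1), .orb 8, .orb 13, .orb 20, .orb 33, .orb 34, .orb 43, .orb 50,
  .orb 53, .orb 54, .orb 57, .orb 78, .orb 95, .orb 99, .orb 100, .orb 109,
  .orb 110, .orb 119, .orb 120, .orb 125, .orbInv 22, .orbInv 42, .orbInv 46, .orbInv 52,
  .orbInv 68, .orbInv 71, .orbInv 76, .orbInv 91, .orbInv 92, .orbInv 107, .orbInv 117, .orbInv 118,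
  .orbInv 122, .orbInv 123, .sum 0 123 31 (1), .sum 0 124 32 (-1), .sum 0 115 23 (-1), .sum 0 120 28 (-1), .sum 0 119 27 (1), .sum 0 109 17 (1),
  .sum 1 122 51 (1), .sum 1 115 39 (1), .sum 1 125 93 (-1), .sum 1 119 48 (-1), .sum 2 122 56 (-1), .sum 2 117 45 (1), .sum 2 124 73 (-1), .sum 2 125 94 (1),
  .sum 3 123 69 (-1), .sum 3 91 24 (-1), .sum 3 124 74 (1), .sum 3 120 58 (1), .sum 4 123 70 (1), .sum 4 122 66 (-1), .sum 4 124 75 (-1), .sum 4 125 96 (1),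
  .sum 4 120 61 (-1), .sum 4 119 60 (1), .sum 5 122 67 (1), .sum 5 125 97 (-1), .sum 5 119 62 (-1), .sum 5 100 36 (1), .sum 5 78 9 (1), .sum 6 124 77 (-1),
  .sum 6 125 98 (1), .sum 6 120 63 (-1), .sum 6 99 35 (-1), .sum 7 77 19 (1), .sum 7 70 11 (1), .sum 7 123 79 (-1), .sum 7 117 59 (-1), .sum 7 124 83 (-1),
  .sum 8 123 80 (1), .sum 8 71 14 (-1), .sum 9 98 38 (-1), .sum 9 123 81 (-1), .sum 9 117 64 (-1), .sum 9 124 85 (-1), .sum 9 125 101 (1), .sum 10 117 65 (1),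
  .sum 10 124 86 (1), .sum 10 125 102 (-1), .sum 10 110 55 (1), .sum 11 124 87 (-1), .sum 11 125 103 (1), .sum 12 124 88 (1), .sum 12 125 104 (-1), .sum 13 124 89 (-1),
  .sum 13 125 105 (1), .sum 14 124 90 (-1), .sum 14 125 106 (1), .sum 16 125 108 (1), .sum 19 125 111 (-1), .sum 20 125 112 (-1), .sum 21 125 113 (1), .sum 22 125 114 (-1),
  .sum 24 125 116 (-1), .sum 29 125 121 (-1)]

theorem tgOKE7 : tgOK cdE7.D relE7.refl tgParE7 tgStepsE7 ⟨[12], [], true⟩ = true := by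
  decide +kernel

theorem two_gen_E7 {F : Type*} [Field F] [Finite F] :
    ∃ a b : ↥(Cfsg.Lie.chevE7.group F), Subgroup.closure ({a, b} : Set ↥(Cfsg.Lie.chevE7.group F)) = ⊤ :=
  two_gen_A (C := cdE7) monoE7 commE7 (of_pairRange (m := 126) (n := 126) e7Hdec) tgParE7 12
    (by decide) (by decide) (by decide) (by decide +kernel) rfl rfl tgStepsE7 tgOKE7

end Cfsg.Agent.Lib.Helper3.ChevM
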