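import Cfsg.Prelude.Def_ChevE7
import Cfsg.Agent.Lib.Helper3.ChevData.E7Tabs
import Cfsg.Agent.Lib.Helper3.ChevData.E7Wit
import Cfsg.Agent.Lib.Helper3.ChevData.E7Ubw
import Cfsg.Agent.Lib.Helper3.StU10
set_option autoImplicit false
set_option maxRecDepth 1000000
set_option Elab.async false

namespace Cfsg.Agent.Lib.Helper3.ChevM
open Cfsg.Agent.Lib.Helper3.StB Cfsg.Agent.Lib.Helper3.StU

theorem e7Ubase_1_12321 : allRange 12321 12654 ((fun k => baseOK Cfsg.Lie.chevE7 reflE7 witE7 bwE7 (k / 126) (k % 126))) = true := by decide +kernel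
theorem e7Ubase_1_12654 : allRange 12654 12987 ((fun k => baseOK Cfsg.Lie.chevE7 reflE7 witE7 bwE7 (k / 126) (k % 126))) = true := by decide +kernel
theorem e7Ubase_1_12987 : allRange 12987 13320 ((fun k => baseOK Cfsg.Lie.chevE7 reflE7 witE7 bwE7 (k / 126) (k % 126))) = true := by decide +kernel
theorem e7Ubase_1_13320 : allRange 13320 13653 ((fun k => baseOK Cfsg.Lie.chevE7 reflE7 witE7 bwE7 (k / 126) (k % 126))) = true := by decide +kernel
theorem e7Ubase_1_13653 : allRange 13653 13986 ((fun k => baseOK Cfsg.Lie.chevE7 reflE7 witE7 bwE7 (k / 126) (k % 126))) = true := by decide +kernel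
theorem e7Ubase_1_13986 : allRange 13986 14319 ((fun k => baseOK Cfsg.Lie.chevE7 reflE7 witE7 bwE7 (k / 126) (k % 126))) = true := by decide +kernel
theorem e7Ubase_1_14319 : allRange 14319 14652 ((fun k => baseOK Cfsg.Lie.chevE7 reflE7 witE7 bwE7 (k / 126) (k % 126))) = true := by decide +kernel
theorem e7Ubase_1_14652 : allRange 14652 14985 ((fun k => baseOK Cfsg.Lie.chevE7 reflE7 witE7 bwE7 (k / 126) (k % 126))) = true := by decide +kernel
theorem e7Ubase_1_14985 : allRange 14985 15318 ((fun k => baseOK Cfsg.Lie.chevE7 reflE7 witE7 bwE7 (k / 126) (k % 126))) = true := by decide +kernel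
theorem e7Ubase_1_15318 : allRange 15318 15651 ((fun k => baseOK Cfsg.Lie.chevE7 reflE7 witE7 bwE7 (k / 126) (k % 126))) = true := by decide +kernel
theorem e7Ubase_1_15651 : allRange 15651 15876 ((fun k => baseOK Cfsg.Lie.chevE7 reflE7 witE7 bwE7 (k / 126) (k % 126))) = true := by decide +kernel

/-- The pairs of roots of type E7 not reduced by a fundamental reflection (roots 12321 to 15875). -/
theorem e7Ubase_1 : ∀ r, 12321 ≤ r → r < 15876 → ((fun k => baseOK Cfsg.Lie.chevE7 reflE7 witE7 bwE7 (k / 126) (k % 126))) r = true := by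
  intro r h1 h2
  by_cases c0 : r < 12654
  · exact allRange_spec e7Ubase_1_12321 r (by omega) c0
  by_cases c1 : r < 12987
  · exact allRange_spec e7Ubase_1_12654 r (by omega) c1
  by_cases c2 : r < 13320
  · exact allRange_spec e7Ubase_1_12987 r (by omega) c2
  by_cases c3 : r < 13653
  · exact allRange_spec e7Ubase_1_13320 r (by omega) c3
  by_cases c4 : r < 13986
  · exact allRange_spec e7Ubase_1_13653 r (by omega) c4
  by_cases c5 : r < 14319
  · exact allRange_spec e7Ubase_1_13986 r (by omega) c5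
  by_cases c6 : r < 14652
  · exact allRange_spec e7Ubase_1_14319 r (by omega) c6
  by_cases c7 : r < 14985
  · exact allRange_spec e7Ubase_1_14652 r (by omega) c7
  by_cases c8 : r < 15318
  · exact allRange_spec e7Ubase_1_14985 r (by omega) c8
  by_cases c9 : r < 15651
  · exact allRange_spec e7Ubase_1_15318 r (by omega) c9
  exact allRange_spec e7Ubase_1_15651 r (by omega) h2

end Cfsg.Agent.Lib.Helper3.ChevM
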