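import Cfsg.Agent.Lib.Helper3.ChevData.E7UbaseA
import Cfsg.Agent.Lib.Helper3.ChevData.E7UbaseB
set_option autoImplicit false

namespace Cfsg.Agent.Lib.Helper3.ChevM
open Cfsg.Agent.Lib.Helper3.StB Cfsg.Agent.Lib.Helper3.StU

/-- The pairs of roots of type E7 not reduced by a fundamental reflection. -/
theorem e7Ubase : ∀ r < 15876, ((fun k => baseOK Cfsg.Lie.chevE7 reflE7 witE7 bwE7 (k / 126) (k % 126))) r = true := by
  intro r hr
  by_cases h0 : r < 12321
  · exact e7Ubase_0 r (by omega) h0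
  exact e7Ubase_1 r (by omega) hr

end Cfsg.Agent.Lib.Helper3.ChevM
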