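import Cfsg.Prelude.Def_ChevE7
import Cfsg.Agent.Lib.Helper3.ChevData.E7Tabs
import Cfsg.Agent.Lib.Helper3.ChevData.E7Wit
import Cfsg.Agent.Lib.Helper3.ChevData.E7Ubw
import Cfsg.Agent.Lib.Helper3.StU10
set_option autoImplicit false
set_option maxRecDepth 1000000
set_option Elab.async false

namespace Cfsg.Agent.Lib.Helper3.ChevM
open Cfsg.Agent.Lib.Helper3.StB Cfsg.Agent.Lib.Helper3.StU

theorem e7Ubase_0_0 : allRange 0 333 ((fun k => baseOK Cfsg.Lie.chevE7 reflE7 witE7 bwE7 (k / 126) (k % 126))) = true := by decide +kernel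
theorem e7Ubase_0_333 : allRange 333 666 ((fun k => baseOK Cfsg.Lie.chevE7 reflE7 witE7 bwE7 (k / 126) (k % 126))) = true := by decide +kernel
theorem e7Ubase_0_666 : allRange 666 999 ((fun k => baseOK Cfsg.Lie.chevE7 reflE7 witE7 bwE7 (k / 126) (k % 126))) = true := by decide +kernel
theorem e7Ubase_0_999 : allRange 999 1332 ((fun k => baseOK Cfsg.Lie.chevE7 reflE7 witE7 bwE7 (k / 126) (k % 126))) = true := by decide +kernel
theorem e7Ubase_0_1332 : allRange 1332 1665 ((fun k => baseOK Cfsg.Lie.chevE7 reflE7 witE7 bwE7 (k / 126) (k % 126))) = true := by decide +kernel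
theorem e7Ubase_0_1665 : allRange 1665 1998 ((fun k => baseOK Cfsg.Lie.chevE7 reflE7 witE7 bwE7 (k / 126) (k % 126))) = true := by decide +kernel
theorem e7Ubase_0_1998 : allRange 1998 2331 ((fun k => baseOK Cfsg.Lie.chevE7 reflE7 witE7 bwE7 (k / 126) (k % 126))) = true := by decide +kernel
theorem e7Ubase_0_2331 : allRange 2331 2664 ((fun k => baseOK Cfsg.Lie.chevE7 reflE7 witE7 bwE7 (k / 126) (k % 126))) = true := by decide +kernel
theorem e7Ubase_0_2664 : allRange 2664 2997 ((fun k => baseOK Cfsg.Lie.chevE7 reflE7 witE7 bwE7 (k / 126) (k % 126))) = true := by decide +kernel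
theorem e7Ubase_0_2997 : allRange 2997 3330 ((fun k => baseOK Cfsg.Lie.chevE7 reflE7 witE7 bwE7 (k / 126) (k % 126))) = true := by decide +kernel
theorem e7Ubase_0_3330 : allRange 3330 3663 ((fun k => baseOK Cfsg.Lie.chevE7 reflE7 witE7 bwE7 (k / 126) (k % 126))) = true := by decide +kernel
theorem e7Ubase_0_3663 : allRange 3663 3996 ((fun k => baseOK Cfsg.Lie.chevE7 reflE7 witE7 bwE7 (k / 126) (k % 126))) = true := by decide +kernel
theorem e7Ubase_0_3996 : allRange 3996 4329 ((fun k => baseOK Cfsg.Lie.chevE7 reflE7 witE7 bwE7 (k / 126) (k % 126))) = true := by decide +kernel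
theorem e7Ubase_0_4329 : allRange 4329 4662 ((fun k => baseOK Cfsg.Lie.chevE7 reflE7 witE7 bwE7 (k / 126) (k % 126))) = true := by decide +kernel
theorem e7Ubase_0_4662 : allRange 4662 4995 ((fun k => baseOK Cfsg.Lie.chevE7 reflE7 witE7 bwE7 (k / 126) (k % 126))) = true := by decide +kernel
theorem e7Ubase_0_4995 : allRange 4995 5328 ((fun k => baseOK Cfsg.Lie.chevE7 reflE7 witE7 bwE7 (k / 126) (k % 126))) = true := by decide +kernel
theorem e7Ubase_0_5328 : allRange 5328 5661 ((fun k => baseOK Cfsg.Lie.chevE7 reflE7 witE7 bwE7 (k / 126) (k % 126))) = true := by decide +kernel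
theorem e7Ubase_0_5661 : allRange 5661 5994 ((fun k => baseOK Cfsg.Lie.chevE7 reflE7 witE7 bwE7 (k / 126) (k % 126))) = true := by decide +kernel
theorem e7Ubase_0_5994 : allRange 5994 6327 ((fun k => baseOK Cfsg.Lie.chevE7 reflE7 witE7 bwE7 (k / 126) (k % 126))) = true := by decide +kernel
theorem e7Ubase_0_6327 : allRange 6327 6660 ((fun k => baseOK Cfsg.Lie.chevE7 reflE7 witE7 bwE7 (k / 126) (k % 126))) = true := by decide +kernel
theorem e7Ubase_0_6660 : allRange 6660 6993 ((fun k => baseOK Cfsg.Lie.chevE7 reflE7 witE7 bwE7 (k / 126) (k % 126))) = true := by decide +kernel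
theorem e7Ubase_0_6993 : allRange 6993 7326 ((fun k => baseOK Cfsg.Lie.chevE7 reflE7 witE7 bwE7 (k / 126) (k % 126))) = true := by decide +kernel
theorem e7Ubase_0_7326 : allRange 7326 7659 ((fun k => baseOK Cfsg.Lie.chevE7 reflE7 witE7 bwE7 (k / 126) (k % 126))) = true := by decide +kernel
theorem e7Ubase_0_7659 : allRange 7659 7992 ((fun k => baseOK Cfsg.Lie.chevE7 reflE7 witE7 bwE7 (k / 126) (k % 126))) = true := by decide +kernel
theorem e7Ubase_0_7992 : allRange 7992 8325 ((fun k => baseOK Cfsg.Lie.chevE7 reflE7 witE7 bwE7 (k / 126) (k % 126))) = true := by decide +kernel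
theorem e7Ubase_0_8325 : allRange 8325 8658 ((fun k => baseOK Cfsg.Lie.chevE7 reflE7 witE7 bwE7 (k / 126) (k % 126))) = true := by decide +kernel
theorem e7Ubase_0_8658 : allRange 8658 8991 ((fun k => baseOK Cfsg.Lie.chevE7 reflE7 witE7 bwE7 (k / 126) (k % 126))) = true := by decide +kernel
theorem e7Ubase_0_8991 : allRange 8991 9324 ((fun k => baseOK Cfsg.Lie.chevE7 reflE7 witE7 bwE7 (k / 126) (k % 126))) = true := by decide +kernel
theorem e7Ubase_0_9324 : allRange 9324 9657 ((fun k => baseOK Cfsg.Lie.chevE7 reflE7 witE7 bwE7 (k / 126) (k % 126))) = true := by decide +kernel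
theorem e7Ubase_0_9657 : allRange 9657 9990 ((fun k => baseOK Cfsg.Lie.chevE7 reflE7 witE7 bwE7 (k / 126) (k % 126))) = true := by decide +kernel
theorem e7Ubase_0_9990 : allRange 9990 10323 ((fun k => baseOK Cfsg.Lie.chevE7 reflE7 witE7 bwE7 (k / 126) (k % 126))) = true := by decide +kernel
theorem e7Ubase_0_10323 : allRange 10323 10656 ((fun k => baseOK Cfsg.Lie.chevE7 reflE7 witE7 bwE7 (k / 126) (k % 126))) = true := by decide +kernel
theorem e7Ubase_0_10656 : allRange 10656 10989 ((fun k => baseOK Cfsg.Lie.chevE7 reflE7 witE7 bwE7 (k / 126) (k % 126))) = true := by decide +kernel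
theorem e7Ubase_0_10989 : allRange 10989 11322 ((fun k => baseOK Cfsg.Lie.chevE7 reflE7 witE7 bwE7 (k / 126) (k % 126))) = true := by decide +kernel
theorem e7Ubase_0_11322 : allRange 11322 11655 ((fun k => baseOK Cfsg.Lie.chevE7 reflE7 witE7 bwE7 (k / 126) (k % 126))) = true := by decide +kernel
theorem e7Ubase_0_11655 : allRange 11655 11988 ((fun k => baseOK Cfsg.Lie.chevE7 reflE7 witE7 bwE7 (k / 126) (k % 126))) = true := by decide +kernel
theorem e7Ubase_0_11988 : allRange 11988 12321 ((fun k => baseOK Cfsg.Lie.chevE7 reflE7 witE7 bwE7 (k / 126) (k % 126))) = true := by decide +kernel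

/-- The pairs of roots of type E7 not reduced by a fundamental reflection (roots 0 to 12320). -/
theorem e7Ubase_0 : ∀ r, 0 ≤ r → r < 12321 → ((fun k => baseOK Cfsg.Lie.chevE7 reflE7 witE7 bwE7 (k / 126) (k % 126))) r = true := by
  intro r h1 h2
  by_cases c0 : r < 333
  · exact allRange_spec e7Ubase_0_0 r (by omega) c0
  by_cases c1 : r < 666
  · exact allRange_spec e7Ubase_0_333 r (by omega) c1
  by_cases c2 : r < 999
  · exact allRange_spec e7Ubase_0_666 r (by omega) c2
  by_cases c3 : r < 1332
  · exact allRange_spec e7Ubase_0_999 r (by omega) c3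
  by_cases c4 : r < 1665
  · exact allRange_spec e7Ubase_0_1332 r (by omega) c4
  by_cases c5 : r < 1998
  · exact allRange_spec e7Ubase_0_1665 r (by omega) c5
  by_cases c6 : r < 2331
  · exact allRange_spec e7Ubase_0_1998 r (by omega) c6
  by_cases c7 : r < 2664
  · exact allRange_spec e7Ubase_0_2331 r (by omega) c7
  by_cases c8 : r < 2997
  · exact allRange_spec e7Ubase_0_2664 r (by omega) c8
  by_cases c9 : r < 3330
  · exact allRange_spec e7Ubase_0_2997 r (by omega) c9
  by_cases c10 : r < 3663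
  · exact allRange_spec e7Ubase_0_3330 r (by omega) c10
  by_cases c11 : r < 3996
  · exact allRange_spec e7Ubase_0_3663 r (by omega) c11
  by_cases c12 : r < 4329
  · exact allRange_spec e7Ubase_0_3996 r (by omega) c12
  by_cases c13 : r < 4662
  · exact allRange_spec e7Ubase_0_4329 r (by omega) c13
  by_cases c14 : r < 4995
  · exact allRange_spec e7Ubase_0_4662 r (by omega) c14
  by_cases c15 : r < 5328
  · exact allRange_spec e7Ubase_0_4995 r (by omega) c15
  by_cases c16 : r < 5661
  · exact allRange_spec e7Ubase_0_5328 r (by omega) c16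
  by_cases c17 : r < 5994
  · exact allRange_spec e7Ubase_0_5661 r (by omega) c17
  by_cases c18 : r < 6327
  · exact allRange_spec e7Ubase_0_5994 r (by omega) c18
  by_cases c19 : r < 6660
  · exact allRange_spec e7Ubase_0_6327 r (by omega) c19
  by_cases c20 : r < 6993
  · exact allRange_spec e7Ubase_0_6660 r (by omega) c20
  by_cases c21 : r < 7326
  · exact allRange_spec e7Ubase_0_6993 r (by omega) c21
  by_cases c22 : r < 7659
  · exact allRange_spec e7Ubase_0_7326 r (by omega) c22
  by_cases c23 : r < 7992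
  · exact allRange_spec e7Ubase_0_7659 r (by omega) c23
  by_cases c24 : r < 8325
  · exact allRange_spec e7Ubase_0_7992 r (by omega) c24
  by_cases c25 : r < 8658
  · exact allRange_spec e7Ubase_0_8325 r (by omega) c25
  by_cases c26 : r < 8991
  · exact allRange_spec e7Ubase_0_8658 r (by omega) c26
  by_cases c27 : r < 9324
  · exact allRange_spec e7Ubase_0_8991 r (by omega) c27
  by_cases c28 : r < 9657
  · exact allRange_spec e7Ubase_0_9324 r (by omega) c28
  by_cases c29 : r < 9990
  · exact allRange_spec e7Ubase_0_9657 r (by omega) c29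
  by_cases c30 : r < 10323
  · exact allRange_spec e7Ubase_0_9990 r (by omega) c30
  by_cases c31 : r < 10656
  · exact allRange_spec e7Ubase_0_10323 r (by omega) c31
  by_cases c32 : r < 10989
  · exact allRange_spec e7Ubase_0_10656 r (by omega) c32
  by_cases c33 : r < 11322
  · exact allRange_spec e7Ubase_0_10989 r (by omega) c33
  by_cases c34 : r < 11655
  · exact allRange_spec e7Ubase_0_11322 r (by omega) c34
  by_cases c35 : r < 11988
  · exact allRange_spec e7Ubase_0_11655 r (by omega) c35
  exact allRange_spec e7Ubase_0_11988 r (by omega) h2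

end Cfsg.Agent.Lib.Helper3.ChevM
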