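import Cfsg.Prelude.Def_ChevE7
import Cfsg.Agent.Lib.Helper3.ChevData.E7Uni
import Cfsg.Agent.Lib.Helper3.ChevU3
set_option autoImplicit false
set_option maxRecDepth 1000000
set_option Elab.async false

namespace Cfsg.Agent.Lib.Helper3.ChevM

theorem e7Ucol_0_0 : allRange 0 105 ((fun k => collectCheck Cfsg.Lie.chevE7 hposE7 (k / 126) (k % 126))) = true := by decide +kernel
theorem e7Ucol_0_105 : allRange 105 210 ((fun k => collectCheck Cfsg.Lie.chevE7 hposE7 (k / 126) (k % 126))) = true := by decide +kernel
theorem e7Ucol_0_210 : allRange 210 315 ((fun k => collectCheck Cfsg.Lie.chevE7 hposE7 (k / 126) (k % 126))) = true := by decide +kernel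
theorem e7Ucol_0_315 : allRange 315 420 ((fun k => collectCheck Cfsg.Lie.chevE7 hposE7 (k / 126) (k % 126))) = true := by decide +kernel
theorem e7Ucol_0_420 : allRange 420 525 ((fun k => collectCheck Cfsg.Lie.chevE7 hposE7 (k / 126) (k % 126))) = true := by decide +kernel
theorem e7Ucol_0_525 : allRange 525 630 ((fun k => collectCheck Cfsg.Lie.chevE7 hposE7 (k / 126) (k % 126))) = true := by decide +kernel
theorem e7Ucol_0_630 : allRange 630 735 ((fun k => collectCheck Cfsg.Lie.chevE7 hposE7 (k / 126) (k % 126))) = true := by decide +kernel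
theorem e7Ucol_0_735 : allRange 735 840 ((fun k => collectCheck Cfsg.Lie.chevE7 hposE7 (k / 126) (k % 126))) = true := by decide +kernel
theorem e7Ucol_0_840 : allRange 840 945 ((fun k => collectCheck Cfsg.Lie.chevE7 hposE7 (k / 126) (k % 126))) = true := by decide +kernel
theorem e7Ucol_0_945 : allRange 945 1050 ((fun k => collectCheck Cfsg.Lie.chevE7 hposE7 (k / 126) (k % 126))) = true := by decide +kernel
theorem e7Ucol_0_1050 : allRange 1050 1155 ((fun k => collectCheck Cfsg.Lie.chevE7 hposE7 (k / 126) (k % 126))) = true := by decide +kernel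
theorem e7Ucol_0_1155 : allRange 1155 1260 ((fun k => collectCheck Cfsg.Lie.chevE7 hposE7 (k / 126) (k % 126))) = true := by decide +kernel
theorem e7Ucol_0_1260 : allRange 1260 1365 ((fun k => collectCheck Cfsg.Lie.chevE7 hposE7 (k / 126) (k % 126))) = true := by decide +kernel
theorem e7Ucol_0_1365 : allRange 1365 1470 ((fun k => collectCheck Cfsg.Lie.chevE7 hposE7 (k / 126) (k % 126))) = true := by decide +kernel
theorem e7Ucol_0_1470 : allRange 1470 1575 ((fun k => collectCheck Cfsg.Lie.chevE7 hposE7 (k / 126) (k % 126))) = true := by decide +kernel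
theorem e7Ucol_0_1575 : allRange 1575 1680 ((fun k => collectCheck Cfsg.Lie.chevE7 hposE7 (k / 126) (k % 126))) = true := by decide +kernel
theorem e7Ucol_0_1680 : allRange 1680 1785 ((fun k => collectCheck Cfsg.Lie.chevE7 hposE7 (k / 126) (k % 126))) = true := by decide +kernel
theorem e7Ucol_0_1785 : allRange 1785 1890 ((fun k => collectCheck Cfsg.Lie.chevE7 hposE7 (k / 126) (k % 126))) = true := by decide +kernel
theorem e7Ucol_0_1890 : allRange 1890 1995 ((fun k => collectCheck Cfsg.Lie.chevE7 hposE7 (k / 126) (k % 126))) = true := by decide +kernel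
theorem e7Ucol_0_1995 : allRange 1995 2100 ((fun k => collectCheck Cfsg.Lie.chevE7 hposE7 (k / 126) (k % 126))) = true := by decide +kernel
theorem e7Ucol_0_2100 : allRange 2100 2205 ((fun k => collectCheck Cfsg.Lie.chevE7 hposE7 (k / 126) (k % 126))) = true := by decide +kernel
theorem e7Ucol_0_2205 : allRange 2205 2310 ((fun k => collectCheck Cfsg.Lie.chevE7 hposE7 (k / 126) (k % 126))) = true := by decide +kernel
theorem e7Ucol_0_2310 : allRange 2310 2415 ((fun k => collectCheck Cfsg.Lie.chevE7 hposE7 (k / 126) (k % 126))) = true := by decide +kernel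
theorem e7Ucol_0_2415 : allRange 2415 2520 ((fun k => collectCheck Cfsg.Lie.chevE7 hposE7 (k / 126) (k % 126))) = true := by decide +kernel
theorem e7Ucol_0_2520 : allRange 2520 2625 ((fun k => collectCheck Cfsg.Lie.chevE7 hposE7 (k / 126) (k % 126))) = true := by decide +kernel
theorem e7Ucol_0_2625 : allRange 2625 2730 ((fun k => collectCheck Cfsg.Lie.chevE7 hposE7 (k / 126) (k % 126))) = true := by decide +kernel
theorem e7Ucol_0_2730 : allRange 2730 2835 ((fun k => collectCheck Cfsg.Lie.chevE7 hposE7 (k / 126) (k % 126))) = true := by decide +kernel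
theorem e7Ucol_0_2835 : allRange 2835 2940 ((fun k => collectCheck Cfsg.Lie.chevE7 hposE7 (k / 126) (k % 126))) = true := by decide +kernel
theorem e7Ucol_0_2940 : allRange 2940 3045 ((fun k => collectCheck Cfsg.Lie.chevE7 hposE7 (k / 126) (k % 126))) = true := by decide +kernel
theorem e7Ucol_0_3045 : allRange 3045 3150 ((fun k => collectCheck Cfsg.Lie.chevE7 hposE7 (k / 126) (k % 126))) = true := by decide +kernel
theorem e7Ucol_0_3150 : allRange 3150 3255 ((fun k => collectCheck Cfsg.Lie.chevE7 hposE7 (k / 126) (k % 126))) = true := by decide +kernel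
theorem e7Ucol_0_3255 : allRange 3255 3360 ((fun k => collectCheck Cfsg.Lie.chevE7 hposE7 (k / 126) (k % 126))) = true := by decide +kernel
theorem e7Ucol_0_3360 : allRange 3360 3465 ((fun k => collectCheck Cfsg.Lie.chevE7 hposE7 (k / 126) (k % 126))) = true := by decide +kernel
theorem e7Ucol_0_3465 : allRange 3465 3570 ((fun k => collectCheck Cfsg.Lie.chevE7 hposE7 (k / 126) (k % 126))) = true := by decide +kernel
theorem e7Ucol_0_3570 : allRange 3570 3675 ((fun k => collectCheck Cfsg.Lie.chevE7 hposE7 (k / 126) (k % 126))) = true := by decide +kernel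
theorem e7Ucol_0_3675 : allRange 3675 3780 ((fun k => collectCheck Cfsg.Lie.chevE7 hposE7 (k / 126) (k % 126))) = true := by decide +kernel
theorem e7Ucol_0_3780 : allRange 3780 3885 ((fun k => collectCheck Cfsg.Lie.chevE7 hposE7 (k / 126) (k % 126))) = true := by decide +kernel

/-- The terms of the commutator formula of type E7 lie higher (roots 0 to 3884). -/
theorem e7Ucol_0 : ∀ r, 0 ≤ r → r < 3885 → ((fun k => collectCheck Cfsg.Lie.chevE7 hposE7 (k / 126) (k % 126))) r = true := by
  intro r h1 h2
  by_cases c0 : r < 105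
  · exact allRange_spec e7Ucol_0_0 r (by omega) c0
  by_cases c1 : r < 210
  · exact allRange_spec e7Ucol_0_105 r (by omega) c1
  by_cases c2 : r < 315
  · exact allRange_spec e7Ucol_0_210 r (by omega) c2
  by_cases c3 : r < 420
  · exact allRange_spec e7Ucol_0_315 r (by omega) c3
  by_cases c4 : r < 525
  · exact allRange_spec e7Ucol_0_420 r (by omega) c4
  by_cases c5 : r < 630
  · exact allRange_spec e7Ucol_0_525 r (by omega) c5
  by_cases c6 : r < 735
  · exact allRange_spec e7Ucol_0_630 r (by omega) c6
  by_cases c7 : r < 840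
  · exact allRange_spec e7Ucol_0_735 r (by omega) c7
  by_cases c8 : r < 945
  · exact allRange_spec e7Ucol_0_840 r (by omega) c8
  by_cases c9 : r < 1050
  · exact allRange_spec e7Ucol_0_945 r (by omega) c9
  by_cases c10 : r < 1155
  · exact allRange_spec e7Ucol_0_1050 r (by omega) c10
  by_cases c11 : r < 1260
  · exact allRange_spec e7Ucol_0_1155 r (by omega) c11
  by_cases c12 : r < 1365
  · exact allRange_spec e7Ucol_0_1260 r (by omega) c12
  by_cases c13 : r < 1470
  · exact allRange_spec e7Ucol_0_1365 r (by omega) c13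
  by_cases c14 : r < 1575
  · exact allRange_spec e7Ucol_0_1470 r (by omega) c14
  by_cases c15 : r < 1680
  · exact allRange_spec e7Ucol_0_1575 r (by omega) c15
  by_cases c16 : r < 1785
  · exact allRange_spec e7Ucol_0_1680 r (by omega) c16
  by_cases c17 : r < 1890
  · exact allRange_spec e7Ucol_0_1785 r (by omega) c17
  by_cases c18 : r < 1995
  · exact allRange_spec e7Ucol_0_1890 r (by omega) c18
  by_cases c19 : r < 2100
  · exact allRange_spec e7Ucol_0_1995 r (by omega) c19
  by_cases c20 : r < 2205
  · exact allRange_spec e7Ucol_0_2100 r (by omega) c20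
  by_cases c21 : r < 2310
  · exact allRange_spec e7Ucol_0_2205 r (by omega) c21
  by_cases c22 : r < 2415
  · exact allRange_spec e7Ucol_0_2310 r (by omega) c22
  by_cases c23 : r < 2520
  · exact allRange_spec e7Ucol_0_2415 r (by omega) c23
  by_cases c24 : r < 2625
  · exact allRange_spec e7Ucol_0_2520 r (by omega) c24
  by_cases c25 : r < 2730
  · exact allRange_spec e7Ucol_0_2625 r (by omega) c25
  by_cases c26 : r < 2835
  · exact allRange_spec e7Ucol_0_2730 r (by omega) c26
  by_cases c27 : r < 2940
  · exact allRange_spec e7Ucol_0_2835 r (by omega) c27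
  by_cases c28 : r < 3045
  · exact allRange_spec e7Ucol_0_2940 r (by omega) c28
  by_cases c29 : r < 3150
  · exact allRange_spec e7Ucol_0_3045 r (by omega) c29
  by_cases c30 : r < 3255
  · exact allRange_spec e7Ucol_0_3150 r (by omega) c30
  by_cases c31 : r < 3360
  · exact allRange_spec e7Ucol_0_3255 r (by omega) c31
  by_cases c32 : r < 3465
  · exact allRange_spec e7Ucol_0_3360 r (by omega) c32
  by_cases c33 : r < 3570
  · exact allRange_spec e7Ucol_0_3465 r (by omega) c33
  by_cases c34 : r < 3675
  · exact allRange_spec e7Ucol_0_3570 r (by omega) c34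
  by_cases c35 : r < 3780
  · exact allRange_spec e7Ucol_0_3675 r (by omega) c35
  exact allRange_spec e7Ucol_0_3780 r (by omega) h2

end Cfsg.Agent.Lib.Helper3.ChevM
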