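import Cfsg.Prelude.Def_ChevE7
import Cfsg.Agent.Lib.Helper3.ChevData.E7Uni
import Cfsg.Agent.Lib.Helper3.StU10
set_option autoImplicit false
set_option maxRecDepth 1000000
set_option Elab.async false

namespace Cfsg.Agent.Lib.Helper3.ChevM
open Cfsg.Agent.Lib.Helper3.StB Cfsg.Agent.Lib.Helper3.StU

theorem e7Ucolb_3_11655 : allRange 11655 11760 ((fun k => col2OK Cfsg.Lie.chevE7 hposE7 (k / 126) (k % 126))) = true := by decide +kernel
theorem e7Ucolb_3_11760 : allRange 11760 11865 ((fun k => col2OK Cfsg.Lie.chevE7 hposE7 (k / 126) (k % 126))) = true := by decide +kernel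
theorem e7Ucolb_3_11865 : allRange 11865 11970 ((fun k => col2OK Cfsg.Lie.chevE7 hposE7 (k / 126) (k % 126))) = true := by decide +kernel
theorem e7Ucolb_3_11970 : allRange 11970 12075 ((fun k => col2OK Cfsg.Lie.chevE7 hposE7 (k / 126) (k % 126))) = true := by decide +kernel
theorem e7Ucolb_3_12075 : allRange 12075 12180 ((fun k => col2OK Cfsg.Lie.chevE7 hposE7 (k / 126) (k % 126))) = true := by decide +kernel
theorem e7Ucolb_3_12180 : allRange 12180 12285 ((fun k => col2OK Cfsg.Lie.chevE7 hposE7 (k / 126) (k % 126))) = true := by decide +kernel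
theorem e7Ucolb_3_12285 : allRange 12285 12390 ((fun k => col2OK Cfsg.Lie.chevE7 hposE7 (k / 126) (k % 126))) = true := by decide +kernel
theorem e7Ucolb_3_12390 : allRange 12390 12495 ((fun k => col2OK Cfsg.Lie.chevE7 hposE7 (k / 126) (k % 126))) = true := by decide +kernel
theorem e7Ucolb_3_12495 : allRange 12495 12600 ((fun k => col2OK Cfsg.Lie.chevE7 hposE7 (k / 126) (k % 126))) = true := by decide +kernel
theorem e7Ucolb_3_12600 : allRange 12600 12705 ((fun k => col2OK Cfsg.Lie.chevE7 hposE7 (k / 126) (k % 126))) = true := by decide +kernel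
theorem e7Ucolb_3_12705 : allRange 12705 12810 ((fun k => col2OK Cfsg.Lie.chevE7 hposE7 (k / 126) (k % 126))) = true := by decide +kernel
theorem e7Ucolb_3_12810 : allRange 12810 12915 ((fun k => col2OK Cfsg.Lie.chevE7 hposE7 (k / 126) (k % 126))) = true := by decide +kernel
theorem e7Ucolb_3_12915 : allRange 12915 13020 ((fun k => col2OK Cfsg.Lie.chevE7 hposE7 (k / 126) (k % 126))) = true := by decide +kernel
theorem e7Ucolb_3_13020 : allRange 13020 13125 ((fun k => col2OK Cfsg.Lie.chevE7 hposE7 (k / 126) (k % 126))) = true := by decide +kernel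
theorem e7Ucolb_3_13125 : allRange 13125 13230 ((fun k => col2OK Cfsg.Lie.chevE7 hposE7 (k / 126) (k % 126))) = true := by decide +kernel
theorem e7Ucolb_3_13230 : allRange 13230 13335 ((fun k => col2OK Cfsg.Lie.chevE7 hposE7 (k / 126) (k % 126))) = true := by decide +kernel
theorem e7Ucolb_3_13335 : allRange 13335 13440 ((fun k => col2OK Cfsg.Lie.chevE7 hposE7 (k / 126) (k % 126))) = true := by decide +kernel
theorem e7Ucolb_3_13440 : allRange 13440 13545 ((fun k => col2OK Cfsg.Lie.chevE7 hposE7 (k / 126) (k % 126))) = true := by decide +kernel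
theorem e7Ucolb_3_13545 : allRange 13545 13650 ((fun k => col2OK Cfsg.Lie.chevE7 hposE7 (k / 126) (k % 126))) = true := by decide +kernel
theorem e7Ucolb_3_13650 : allRange 13650 13755 ((fun k => col2OK Cfsg.Lie.chevE7 hposE7 (k / 126) (k % 126))) = true := by decide +kernel
theorem e7Ucolb_3_13755 : allRange 13755 13860 ((fun k => col2OK Cfsg.Lie.chevE7 hposE7 (k / 126) (k % 126))) = true := by decide +kernel
theorem e7Ucolb_3_13860 : allRange 13860 13965 ((fun k => col2OK Cfsg.Lie.chevE7 hposE7 (k / 126) (k % 126))) = true := by decide +kernel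
theorem e7Ucolb_3_13965 : allRange 13965 14070 ((fun k => col2OK Cfsg.Lie.chevE7 hposE7 (k / 126) (k % 126))) = true := by decide +kernel
theorem e7Ucolb_3_14070 : allRange 14070 14175 ((fun k => col2OK Cfsg.Lie.chevE7 hposE7 (k / 126) (k % 126))) = true := by decide +kernel
theorem e7Ucolb_3_14175 : allRange 14175 14280 ((fun k => col2OK Cfsg.Lie.chevE7 hposE7 (k / 126) (k % 126))) = true := by decide +kernel
theorem e7Ucolb_3_14280 : allRange 14280 14385 ((fun k => col2OK Cfsg.Lie.chevE7 hposE7 (k / 126) (k % 126))) = true := by decide +kernel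
theorem e7Ucolb_3_14385 : allRange 14385 14490 ((fun k => col2OK Cfsg.Lie.chevE7 hposE7 (k / 126) (k % 126))) = true := by decide +kernel
theorem e7Ucolb_3_14490 : allRange 14490 14595 ((fun k => col2OK Cfsg.Lie.chevE7 hposE7 (k / 126) (k % 126))) = true := by decide +kernel
theorem e7Ucolb_3_14595 : allRange 14595 14700 ((fun k => col2OK Cfsg.Lie.chevE7 hposE7 (k / 126) (k % 126))) = true := by decide +kernel
theorem e7Ucolb_3_14700 : allRange 14700 14805 ((fun k => col2OK Cfsg.Lie.chevE7 hposE7 (k / 126) (k % 126))) = true := by decide +kernel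
theorem e7Ucolb_3_14805 : allRange 14805 14910 ((fun k => col2OK Cfsg.Lie.chevE7 hposE7 (k / 126) (k % 126))) = true := by decide +kernel
theorem e7Ucolb_3_14910 : allRange 14910 15015 ((fun k => col2OK Cfsg.Lie.chevE7 hposE7 (k / 126) (k % 126))) = true := by decide +kernel
theorem e7Ucolb_3_15015 : allRange 15015 15120 ((fun k => col2OK Cfsg.Lie.chevE7 hposE7 (k / 126) (k % 126))) = true := by decide +kernel
theorem e7Ucolb_3_15120 : allRange 15120 15225 ((fun k => col2OK Cfsg.Lie.chevE7 hposE7 (k / 126) (k % 126))) = true := by decide +kernel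
theorem e7Ucolb_3_15225 : allRange 15225 15330 ((fun k => col2OK Cfsg.Lie.chevE7 hposE7 (k / 126) (k % 126))) = true := by decide +kernel
theorem e7Ucolb_3_15330 : allRange 15330 15435 ((fun k => col2OK Cfsg.Lie.chevE7 hposE7 (k / 126) (k % 126))) = true := by decide +kernel
theorem e7Ucolb_3_15435 : allRange 15435 15540 ((fun k => col2OK Cfsg.Lie.chevE7 hposE7 (k / 126) (k % 126))) = true := by decide +kernel

/-- The terms of the commutator formula of type E7 lie higher than the second root (roots 11655 to 15539). -/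
theorem e7Ucolb_3 : ∀ r, 11655 ≤ r → r < 15540 → ((fun k => col2OK Cfsg.Lie.chevE7 hposE7 (k / 126) (k % 126))) r = true := by
  intro r h1 h2
  by_cases c0 : r < 11760
  · exact allRange_spec e7Ucolb_3_11655 r (by omega) c0
  by_cases c1 : r < 11865
  · exact allRange_spec e7Ucolb_3_11760 r (by omega) c1
  by_cases c2 : r < 11970
  · exact allRange_spec e7Ucolb_3_11865 r (by omega) c2
  by_cases c3 : r < 12075
  · exact allRange_spec e7Ucolb_3_11970 r (by omega) c3
  by_cases c4 : r < 12180
  · exact allRange_spec e7Ucolb_3_12075 r (by omega) c4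
  by_cases c5 : r < 12285
  · exact allRange_spec e7Ucolb_3_12180 r (by omega) c5
  by_cases c6 : r < 12390
  · exact allRange_spec e7Ucolb_3_12285 r (by omega) c6
  by_cases c7 : r < 12495
  · exact allRange_spec e7Ucolb_3_12390 r (by omega) c7
  by_cases c8 : r < 12600
  · exact allRange_spec e7Ucolb_3_12495 r (by omega) c8
  by_cases c9 : r < 12705
  · exact allRange_spec e7Ucolb_3_12600 r (by omega) c9
  by_cases c10 : r < 12810
  · exact allRange_spec e7Ucolb_3_12705 r (by omega) c10
  by_cases c11 : r < 12915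
  · exact allRange_spec e7Ucolb_3_12810 r (by omega) c11
  by_cases c12 : r < 13020
  · exact allRange_spec e7Ucolb_3_12915 r (by omega) c12
  by_cases c13 : r < 13125
  · exact allRange_spec e7Ucolb_3_13020 r (by omega) c13
  by_cases c14 : r < 13230
  · exact allRange_spec e7Ucolb_3_13125 r (by omega) c14
  by_cases c15 : r < 13335
  · exact allRange_spec e7Ucolb_3_13230 r (by omega) c15
  by_cases c16 : r < 13440
  · exact allRange_spec e7Ucolb_3_13335 r (by omega) c16
  by_cases c17 : r < 13545
  · exact allRange_spec e7Ucolb_3_13440 r (by omega) c17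
  by_cases c18 : r < 13650
  · exact allRange_spec e7Ucolb_3_13545 r (by omega) c18
  by_cases c19 : r < 13755
  · exact allRange_spec e7Ucolb_3_13650 r (by omega) c19
  by_cases c20 : r < 13860
  · exact allRange_spec e7Ucolb_3_13755 r (by omega) c20
  by_cases c21 : r < 13965
  · exact allRange_spec e7Ucolb_3_13860 r (by omega) c21
  by_cases c22 : r < 14070
  · exact allRange_spec e7Ucolb_3_13965 r (by omega) c22
  by_cases c23 : r < 14175
  · exact allRange_spec e7Ucolb_3_14070 r (by omega) c23
  by_cases c24 : r < 14280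
  · exact allRange_spec e7Ucolb_3_14175 r (by omega) c24
  by_cases c25 : r < 14385
  · exact allRange_spec e7Ucolb_3_14280 r (by omega) c25
  by_cases c26 : r < 14490
  · exact allRange_spec e7Ucolb_3_14385 r (by omega) c26
  by_cases c27 : r < 14595
  · exact allRange_spec e7Ucolb_3_14490 r (by omega) c27
  by_cases c28 : r < 14700
  · exact allRange_spec e7Ucolb_3_14595 r (by omega) c28
  by_cases c29 : r < 14805
  · exact allRange_spec e7Ucolb_3_14700 r (by omega) c29
  by_cases c30 : r < 14910
  · exact allRange_spec e7Ucolb_3_14805 r (by omega) c30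
  by_cases c31 : r < 15015
  · exact allRange_spec e7Ucolb_3_14910 r (by omega) c31
  by_cases c32 : r < 15120
  · exact allRange_spec e7Ucolb_3_15015 r (by omega) c32
  by_cases c33 : r < 15225
  · exact allRange_spec e7Ucolb_3_15120 r (by omega) c33
  by_cases c34 : r < 15330
  · exact allRange_spec e7Ucolb_3_15225 r (by omega) c34
  by_cases c35 : r < 15435
  · exact allRange_spec e7Ucolb_3_15330 r (by omega) c35
  exact allRange_spec e7Ucolb_3_15435 r (by omega) h2

end Cfsg.Agent.Lib.Helper3.ChevM
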