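import Cfsg.Prelude.Def_ChevE7
import Cfsg.Agent.Lib.Helper3.ChevData.E7Uni
import Cfsg.Agent.Lib.Helper3.StU10
set_option autoImplicit false
set_option maxRecDepth 1000000
set_option Elab.async false

namespace Cfsg.Agent.Lib.Helper3.ChevM
open Cfsg.Agent.Lib.Helper3.StB Cfsg.Agent.Lib.Helper3.StU

theorem e7Ucolb_4_15540 : allRange 15540 15645 ((fun k => col2OK Cfsg.Lie.chevE7 hposE7 (k / 126) (k % 126))) = true := by decide +kernel
theorem e7Ucolb_4_15645 : allRange 15645 15750 ((fun k => col2OK Cfsg.Lie.chevE7 hposE7 (k / 126) (k % 126))) = true := by decide +kernel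
theorem e7Ucolb_4_15750 : allRange 15750 15855 ((fun k => col2OK Cfsg.Lie.chevE7 hposE7 (k / 126) (k % 126))) = true := by decide +kernel
theorem e7Ucolb_4_15855 : allRange 15855 15876 ((fun k => col2OK Cfsg.Lie.chevE7 hposE7 (k / 126) (k % 126))) = true := by decide +kernel

/-- The terms of the commutator formula of type E7 lie higher than the second root (roots 15540 to 15875). -/
theorem e7Ucolb_4 : ∀ r, 15540 ≤ r → r < 15876 → ((fun k => col2OK Cfsg.Lie.chevE7 hposE7 (k / 126) (k % 126))) r = true := by
  intro r h1 h2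
  by_cases c0 : r < 15645
  · exact allRange_spec e7Ucolb_4_15540 r (by omega) c0
  by_cases c1 : r < 15750
  · exact allRange_spec e7Ucolb_4_15645 r (by omega) c1
  by_cases c2 : r < 15855
  · exact allRange_spec e7Ucolb_4_15750 r (by omega) c2
  exact allRange_spec e7Ucolb_4_15855 r (by omega) h2

end Cfsg.Agent.Lib.Helper3.ChevM
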