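import Cfsg.Agent.Lib.Helper3.ChevData.E7UcolbA
import Cfsg.Agent.Lib.Helper3.ChevData.E7UcolbB
import Cfsg.Agent.Lib.Helper3.ChevData.E7UcolbC
import Cfsg.Agent.Lib.Helper3.ChevData.E7UcolbD
import Cfsg.Agent.Lib.Helper3.ChevData.E7UcolbE
set_option autoImplicit false

namespace Cfsg.Agent.Lib.Helper3.ChevM
open Cfsg.Agent.Lib.Helper3.StB Cfsg.Agent.Lib.Helper3.StU

/-- The terms of the commutator formula of type E7 lie higher than the second root. -/
theorem e7Ucolb : ∀ r < 15876, ((fun k => col2OK Cfsg.Lie.chevE7 hposE7 (k / 126) (k % 126))) r = true := by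
  intro r hr
  by_cases h0 : r < 3885
  · exact e7Ucolb_0 r (by omega) h0
  by_cases h1 : r < 7770
  · exact e7Ucolb_1 r (by omega) h1
  by_cases h2 : r < 11655
  · exact e7Ucolb_2 r (by omega) h2
  by_cases h3 : r < 15540
  · exact e7Ucolb_3 r (by omega) h3
  exact e7Ucolb_4 r (by omega) hr

end Cfsg.Agent.Lib.Helper3.ChevM
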