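import Cfsg.Agent.Lib.Helper3.ChevData.E7Datum
import Cfsg.Agent.Lib.Helper3.ChevData.E7Uni
import Cfsg.Agent.Lib.Helper3.ChevU3
set_option autoImplicit false
set_option maxRecDepth 1000000
set_option Elab.async false

namespace Cfsg.Agent.Lib.Helper3.ChevM

theorem e7Ulev_0_0 : allRange 0 55 ((fun r => levelCheck cdE7 hfE7 frE7 r)) = true := by decide +kernel
theorem e7Ulev_0_55 : allRange 55 110 ((fun r => levelCheck cdE7 hfE7 frE7 r)) = true := by decide +kernel
theorem e7Ulev_0_110 : allRange 110 126 ((fun r => levelCheck cdE7 hfE7 frE7 r)) = true := by decide +kernel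

/-- The root elements of the positive roots of type E7 raise the level (roots 0 to 125). -/
theorem e7Ulev_0 : ∀ r, 0 ≤ r → r < 126 → ((fun r => levelCheck cdE7 hfE7 frE7 r)) r = true := by
  intro r h1 h2
  by_cases c0 : r < 55
  · exact allRange_spec e7Ulev_0_0 r (by omega) c0
  by_cases c1 : r < 110
  · exact allRange_spec e7Ulev_0_55 r (by omega) c1
  exact allRange_spec e7Ulev_0_110 r (by omega) h2

end Cfsg.Agent.Lib.Helper3.ChevM
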