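import Cfsg.Prelude.Def_ChevE7
import Cfsg.Agent.Lib.Helper3.StU10
set_option autoImplicit false
set_option maxRecDepth 1000000
set_option Elab.async false

namespace Cfsg.Agent.Lib.Helper3.ChevM
open Cfsg.Agent.Lib.Helper3.StB Cfsg.Agent.Lib.Helper3.StU

theorem e7Utor_3_7326 : allRange 7326 7392 ((fun k => posTorOK Cfsg.Lie.chevE7 (k / 126) (k % 126))) = true := by decide +kernel
theorem e7Utor_3_7392 : allRange 7392 7458 ((fun k => posTorOK Cfsg.Lie.chevE7 (k / 126) (k % 126))) = true := by decide +kernel
theorem e7Utor_3_7458 : allRange 7458 7524 ((fun k => posTorOK Cfsg.Lie.chevE7 (k / 126) (k % 126))) = true := by decide +kernel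
theorem e7Utor_3_7524 : allRange 7524 7590 ((fun k => posTorOK Cfsg.Lie.chevE7 (k / 126) (k % 126))) = true := by decide +kernel
theorem e7Utor_3_7590 : allRange 7590 7656 ((fun k => posTorOK Cfsg.Lie.chevE7 (k / 126) (k % 126))) = true := by decide +kernel
theorem e7Utor_3_7656 : allRange 7656 7722 ((fun k => posTorOK Cfsg.Lie.chevE7 (k / 126) (k % 126))) = true := by decide +kernel
theorem e7Utor_3_7722 : allRange 7722 7788 ((fun k => posTorOK Cfsg.Lie.chevE7 (k / 126) (k % 126))) = true := by decide +kernel
theorem e7Utor_3_7788 : allRange 7788 7854 ((fun k => posTorOK Cfsg.Lie.chevE7 (k / 126) (k % 126))) = true := by decide +kernel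
theorem e7Utor_3_7854 : allRange 7854 7920 ((fun k => posTorOK Cfsg.Lie.chevE7 (k / 126) (k % 126))) = true := by decide +kernel
theorem e7Utor_3_7920 : allRange 7920 7986 ((fun k => posTorOK Cfsg.Lie.chevE7 (k / 126) (k % 126))) = true := by decide +kernel
theorem e7Utor_3_7986 : allRange 7986 8052 ((fun k => posTorOK Cfsg.Lie.chevE7 (k / 126) (k % 126))) = true := by decide +kernel
theorem e7Utor_3_8052 : allRange 8052 8118 ((fun k => posTorOK Cfsg.Lie.chevE7 (k / 126) (k % 126))) = true := by decide +kernel
theorem e7Utor_3_8118 : allRange 8118 8184 ((fun k => posTorOK Cfsg.Lie.chevE7 (k / 126) (k % 126))) = true := by decide +kernel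
theorem e7Utor_3_8184 : allRange 8184 8250 ((fun k => posTorOK Cfsg.Lie.chevE7 (k / 126) (k % 126))) = true := by decide +kernel
theorem e7Utor_3_8250 : allRange 8250 8316 ((fun k => posTorOK Cfsg.Lie.chevE7 (k / 126) (k % 126))) = true := by decide +kernel
theorem e7Utor_3_8316 : allRange 8316 8382 ((fun k => posTorOK Cfsg.Lie.chevE7 (k / 126) (k % 126))) = true := by decide +kernel
theorem e7Utor_3_8382 : allRange 8382 8448 ((fun k => posTorOK Cfsg.Lie.chevE7 (k / 126) (k % 126))) = true := by decide +kernel
theorem e7Utor_3_8448 : allRange 8448 8514 ((fun k => posTorOK Cfsg.Lie.chevE7 (k / 126) (k % 126))) = true := by decide +kernel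
theorem e7Utor_3_8514 : allRange 8514 8580 ((fun k => posTorOK Cfsg.Lie.chevE7 (k / 126) (k % 126))) = true := by decide +kernel
theorem e7Utor_3_8580 : allRange 8580 8646 ((fun k => posTorOK Cfsg.Lie.chevE7 (k / 126) (k % 126))) = true := by decide +kernel
theorem e7Utor_3_8646 : allRange 8646 8712 ((fun k => posTorOK Cfsg.Lie.chevE7 (k / 126) (k % 126))) = true := by decide +kernel
theorem e7Utor_3_8712 : allRange 8712 8778 ((fun k => posTorOK Cfsg.Lie.chevE7 (k / 126) (k % 126))) = true := by decide +kernel
theorem e7Utor_3_8778 : allRange 8778 8844 ((fun k => posTorOK Cfsg.Lie.chevE7 (k / 126) (k % 126))) = true := by decide +kernel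
theorem e7Utor_3_8844 : allRange 8844 8910 ((fun k => posTorOK Cfsg.Lie.chevE7 (k / 126) (k % 126))) = true := by decide +kernel
theorem e7Utor_3_8910 : allRange 8910 8976 ((fun k => posTorOK Cfsg.Lie.chevE7 (k / 126) (k % 126))) = true := by decide +kernel
theorem e7Utor_3_8976 : allRange 8976 9042 ((fun k => posTorOK Cfsg.Lie.chevE7 (k / 126) (k % 126))) = true := by decide +kernel
theorem e7Utor_3_9042 : allRange 9042 9108 ((fun k => posTorOK Cfsg.Lie.chevE7 (k / 126) (k % 126))) = true := by decide +kernel
theorem e7Utor_3_9108 : allRange 9108 9174 ((fun k => posTorOK Cfsg.Lie.chevE7 (k / 126) (k % 126))) = true := by decide +kernel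
theorem e7Utor_3_9174 : allRange 9174 9240 ((fun k => posTorOK Cfsg.Lie.chevE7 (k / 126) (k % 126))) = true := by decide +kernel
theorem e7Utor_3_9240 : allRange 9240 9306 ((fun k => posTorOK Cfsg.Lie.chevE7 (k / 126) (k % 126))) = true := by decide +kernel
theorem e7Utor_3_9306 : allRange 9306 9372 ((fun k => posTorOK Cfsg.Lie.chevE7 (k / 126) (k % 126))) = true := by decide +kernel
theorem e7Utor_3_9372 : allRange 9372 9438 ((fun k => posTorOK Cfsg.Lie.chevE7 (k / 126) (k % 126))) = true := by decide +kernel
theorem e7Utor_3_9438 : allRange 9438 9504 ((fun k => posTorOK Cfsg.Lie.chevE7 (k / 126) (k % 126))) = true := by decide +kernel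
theorem e7Utor_3_9504 : allRange 9504 9570 ((fun k => posTorOK Cfsg.Lie.chevE7 (k / 126) (k % 126))) = true := by decide +kernel
theorem e7Utor_3_9570 : allRange 9570 9636 ((fun k => posTorOK Cfsg.Lie.chevE7 (k / 126) (k % 126))) = true := by decide +kernel
theorem e7Utor_3_9636 : allRange 9636 9702 ((fun k => posTorOK Cfsg.Lie.chevE7 (k / 126) (k % 126))) = true := by decide +kernel
theorem e7Utor_3_9702 : allRange 9702 9768 ((fun k => posTorOK Cfsg.Lie.chevE7 (k / 126) (k % 126))) = true := by decide +kernel

/-- Torus elements separating the pairs of positive roots of type E7 (roots 7326 to 9767). -/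
theorem e7Utor_3 : ∀ r, 7326 ≤ r → r < 9768 → ((fun k => posTorOK Cfsg.Lie.chevE7 (k / 126) (k % 126))) r = true := by
  intro r h1 h2
  by_cases c0 : r < 7392
  · exact allRange_spec e7Utor_3_7326 r (by omega) c0
  by_cases c1 : r < 7458
  · exact allRange_spec e7Utor_3_7392 r (by omega) c1
  by_cases c2 : r < 7524
  · exact allRange_spec e7Utor_3_7458 r (by omega) c2
  by_cases c3 : r < 7590
  · exact allRange_spec e7Utor_3_7524 r (by omega) c3
  by_cases c4 : r < 7656
  · exact allRange_spec e7Utor_3_7590 r (by omega) c4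
  by_cases c5 : r < 7722
  · exact allRange_spec e7Utor_3_7656 r (by omega) c5
  by_cases c6 : r < 7788
  · exact allRange_spec e7Utor_3_7722 r (by omega) c6
  by_cases c7 : r < 7854
  · exact allRange_spec e7Utor_3_7788 r (by omega) c7
  by_cases c8 : r < 7920
  · exact allRange_spec e7Utor_3_7854 r (by omega) c8
  by_cases c9 : r < 7986
  · exact allRange_spec e7Utor_3_7920 r (by omega) c9
  by_cases c10 : r < 8052
  · exact allRange_spec e7Utor_3_7986 r (by omega) c10
  by_cases c11 : r < 8118
  · exact allRange_spec e7Utor_3_8052 r (by omega) c11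
  by_cases c12 : r < 8184
  · exact allRange_spec e7Utor_3_8118 r (by omega) c12
  by_cases c13 : r < 8250
  · exact allRange_spec e7Utor_3_8184 r (by omega) c13
  by_cases c14 : r < 8316
  · exact allRange_spec e7Utor_3_8250 r (by omega) c14
  by_cases c15 : r < 8382
  · exact allRange_spec e7Utor_3_8316 r (by omega) c15
  by_cases c16 : r < 8448
  · exact allRange_spec e7Utor_3_8382 r (by omega) c16
  by_cases c17 : r < 8514
  · exact allRange_spec e7Utor_3_8448 r (by omega) c17
  by_cases c18 : r < 8580
  · exact allRange_spec e7Utor_3_8514 r (by omega) c18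
  by_cases c19 : r < 8646
  · exact allRange_spec e7Utor_3_8580 r (by omega) c19
  by_cases c20 : r < 8712
  · exact allRange_spec e7Utor_3_8646 r (by omega) c20
  by_cases c21 : r < 8778
  · exact allRange_spec e7Utor_3_8712 r (by omega) c21
  by_cases c22 : r < 8844
  · exact allRange_spec e7Utor_3_8778 r (by omega) c22
  by_cases c23 : r < 8910
  · exact allRange_spec e7Utor_3_8844 r (by omega) c23
  by_cases c24 : r < 8976
  · exact allRange_spec e7Utor_3_8910 r (by omega) c24
  by_cases c25 : r < 9042
  · exact allRange_spec e7Utor_3_8976 r (by omega) c25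
  by_cases c26 : r < 9108
  · exact allRange_spec e7Utor_3_9042 r (by omega) c26
  by_cases c27 : r < 9174
  · exact allRange_spec e7Utor_3_9108 r (by omega) c27
  by_cases c28 : r < 9240
  · exact allRange_spec e7Utor_3_9174 r (by omega) c28
  by_cases c29 : r < 9306
  · exact allRange_spec e7Utor_3_9240 r (by omega) c29
  by_cases c30 : r < 9372
  · exact allRange_spec e7Utor_3_9306 r (by omega) c30
  by_cases c31 : r < 9438
  · exact allRange_spec e7Utor_3_9372 r (by omega) c31
  by_cases c32 : r < 9504
  · exact allRange_spec e7Utor_3_9438 r (by omega) c32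
  by_cases c33 : r < 9570
  · exact allRange_spec e7Utor_3_9504 r (by omega) c33
  by_cases c34 : r < 9636
  · exact allRange_spec e7Utor_3_9570 r (by omega) c34
  by_cases c35 : r < 9702
  · exact allRange_spec e7Utor_3_9636 r (by omega) c35
  exact allRange_spec e7Utor_3_9702 r (by omega) h2

end Cfsg.Agent.Lib.Helper3.ChevM
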