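import Cfsg.Prelude.Def_ChevE7
import Cfsg.Agent.Lib.Helper3.StU10
set_option autoImplicit false
set_option maxRecDepth 1000000
set_option Elab.async false

namespace Cfsg.Agent.Lib.Helper3.ChevM
open Cfsg.Agent.Lib.Helper3.StB Cfsg.Agent.Lib.Helper3.StU

theorem e7Utor_4_9768 : allRange 9768 9834 ((fun k => posTorOK Cfsg.Lie.chevE7 (k / 126) (k % 126))) = true := by decide +kernel
theorem e7Utor_4_9834 : allRange 9834 9900 ((fun k => posTorOK Cfsg.Lie.chevE7 (k / 126) (k % 126))) = true := by decide +kernel
theorem e7Utor_4_9900 : allRange 9900 9966 ((fun k => posTorOK Cfsg.Lie.chevE7 (k / 126) (k % 126))) = true := by decide +kernel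
theorem e7Utor_4_9966 : allRange 9966 10032 ((fun k => posTorOK Cfsg.Lie.chevE7 (k / 126) (k % 126))) = true := by decide +kernel
theorem e7Utor_4_10032 : allRange 10032 10098 ((fun k => posTorOK Cfsg.Lie.chevE7 (k / 126) (k % 126))) = true := by decide +kernel
theorem e7Utor_4_10098 : allRange 10098 10164 ((fun k => posTorOK Cfsg.Lie.chevE7 (k / 126) (k % 126))) = true := by decide +kernel
theorem e7Utor_4_10164 : allRange 10164 10230 ((fun k => posTorOK Cfsg.Lie.chevE7 (k / 126) (k % 126))) = true := by decide +kernel
theorem e7Utor_4_10230 : allRange 10230 10296 ((fun k => posTorOK Cfsg.Lie.chevE7 (k / 126) (k % 126))) = true := by decide +kernel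
theorem e7Utor_4_10296 : allRange 10296 10362 ((fun k => posTorOK Cfsg.Lie.chevE7 (k / 126) (k % 126))) = true := by decide +kernel
theorem e7Utor_4_10362 : allRange 10362 10428 ((fun k => posTorOK Cfsg.Lie.chevE7 (k / 126) (k % 126))) = true := by decide +kernel
theorem e7Utor_4_10428 : allRange 10428 10494 ((fun k => posTorOK Cfsg.Lie.chevE7 (k / 126) (k % 126))) = true := by decide +kernel
theorem e7Utor_4_10494 : allRange 10494 10560 ((fun k => posTorOK Cfsg.Lie.chevE7 (k / 126) (k % 126))) = true := by decide +kernel
theorem e7Utor_4_10560 : allRange 10560 10626 ((fun k => posTorOK Cfsg.Lie.chevE7 (k / 126) (k % 126))) = true := by decide +kernel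
theorem e7Utor_4_10626 : allRange 10626 10692 ((fun k => posTorOK Cfsg.Lie.chevE7 (k / 126) (k % 126))) = true := by decide +kernel
theorem e7Utor_4_10692 : allRange 10692 10758 ((fun k => posTorOK Cfsg.Lie.chevE7 (k / 126) (k % 126))) = true := by decide +kernel
theorem e7Utor_4_10758 : allRange 10758 10824 ((fun k => posTorOK Cfsg.Lie.chevE7 (k / 126) (k % 126))) = true := by decide +kernel
theorem e7Utor_4_10824 : allRange 10824 10890 ((fun k => posTorOK Cfsg.Lie.chevE7 (k / 126) (k % 126))) = true := by decide +kernel
theorem e7Utor_4_10890 : allRange 10890 10956 ((fun k => posTorOK Cfsg.Lie.chevE7 (k / 126) (k % 126))) = true := by decide +kernel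
theorem e7Utor_4_10956 : allRange 10956 11022 ((fun k => posTorOK Cfsg.Lie.chevE7 (k / 126) (k % 126))) = true := by decide +kernel
theorem e7Utor_4_11022 : allRange 11022 11088 ((fun k => posTorOK Cfsg.Lie.chevE7 (k / 126) (k % 126))) = true := by decide +kernel
theorem e7Utor_4_11088 : allRange 11088 11154 ((fun k => posTorOK Cfsg.Lie.chevE7 (k / 126) (k % 126))) = true := by decide +kernel
theorem e7Utor_4_11154 : allRange 11154 11220 ((fun k => posTorOK Cfsg.Lie.chevE7 (k / 126) (k % 126))) = true := by decide +kernel
theorem e7Utor_4_11220 : allRange 11220 11286 ((fun k => posTorOK Cfsg.Lie.chevE7 (k / 126) (k % 126))) = true := by decide +kernel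
theorem e7Utor_4_11286 : allRange 11286 11352 ((fun k => posTorOK Cfsg.Lie.chevE7 (k / 126) (k % 126))) = true := by decide +kernel
theorem e7Utor_4_11352 : allRange 11352 11418 ((fun k => posTorOK Cfsg.Lie.chevE7 (k / 126) (k % 126))) = true := by decide +kernel
theorem e7Utor_4_11418 : allRange 11418 11484 ((fun k => posTorOK Cfsg.Lie.chevE7 (k / 126) (k % 126))) = true := by decide +kernel
theorem e7Utor_4_11484 : allRange 11484 11550 ((fun k => posTorOK Cfsg.Lie.chevE7 (k / 126) (k % 126))) = true := by decide +kernel
theorem e7Utor_4_11550 : allRange 11550 11616 ((fun k => posTorOK Cfsg.Lie.chevE7 (k / 126) (k % 126))) = true := by decide +kernel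
theorem e7Utor_4_11616 : allRange 11616 11682 ((fun k => posTorOK Cfsg.Lie.chevE7 (k / 126) (k % 126))) = true := by decide +kernel
theorem e7Utor_4_11682 : allRange 11682 11748 ((fun k => posTorOK Cfsg.Lie.chevE7 (k / 126) (k % 126))) = true := by decide +kernel
theorem e7Utor_4_11748 : allRange 11748 11814 ((fun k => posTorOK Cfsg.Lie.chevE7 (k / 126) (k % 126))) = true := by decide +kernel
theorem e7Utor_4_11814 : allRange 11814 11880 ((fun k => posTorOK Cfsg.Lie.chevE7 (k / 126) (k % 126))) = true := by decide +kernel
theorem e7Utor_4_11880 : allRange 11880 11946 ((fun k => posTorOK Cfsg.Lie.chevE7 (k / 126) (k % 126))) = true := by decide +kernel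
theorem e7Utor_4_11946 : allRange 11946 12012 ((fun k => posTorOK Cfsg.Lie.chevE7 (k / 126) (k % 126))) = true := by decide +kernel
theorem e7Utor_4_12012 : allRange 12012 12078 ((fun k => posTorOK Cfsg.Lie.chevE7 (k / 126) (k % 126))) = true := by decide +kernel
theorem e7Utor_4_12078 : allRange 12078 12144 ((fun k => posTorOK Cfsg.Lie.chevE7 (k / 126) (k % 126))) = true := by decide +kernel
theorem e7Utor_4_12144 : allRange 12144 12210 ((fun k => posTorOK Cfsg.Lie.chevE7 (k / 126) (k % 126))) = true := by decide +kernel

/-- Torus elements separating the pairs of positive roots of type E7 (roots 9768 to 12209). -/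
theorem e7Utor_4 : ∀ r, 9768 ≤ r → r < 12210 → ((fun k => posTorOK Cfsg.Lie.chevE7 (k / 126) (k % 126))) r = true := by
  intro r h1 h2
  by_cases c0 : r < 9834
  · exact allRange_spec e7Utor_4_9768 r (by omega) c0
  by_cases c1 : r < 9900
  · exact allRange_spec e7Utor_4_9834 r (by omega) c1
  by_cases c2 : r < 9966
  · exact allRange_spec e7Utor_4_9900 r (by omega) c2
  by_cases c3 : r < 10032
  · exact allRange_spec e7Utor_4_9966 r (by omega) c3
  by_cases c4 : r < 10098
  · exact allRange_spec e7Utor_4_10032 r (by omega) c4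
  by_cases c5 : r < 10164
  · exact allRange_spec e7Utor_4_10098 r (by omega) c5
  by_cases c6 : r < 10230
  · exact allRange_spec e7Utor_4_10164 r (by omega) c6
  by_cases c7 : r < 10296
  · exact allRange_spec e7Utor_4_10230 r (by omega) c7
  by_cases c8 : r < 10362
  · exact allRange_spec e7Utor_4_10296 r (by omega) c8
  by_cases c9 : r < 10428
  · exact allRange_spec e7Utor_4_10362 r (by omega) c9
  by_cases c10 : r < 10494
  · exact allRange_spec e7Utor_4_10428 r (by omega) c10
  by_cases c11 : r < 10560
  · exact allRange_spec e7Utor_4_10494 r (by omega) c11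
  by_cases c12 : r < 10626
  · exact allRange_spec e7Utor_4_10560 r (by omega) c12
  by_cases c13 : r < 10692
  · exact allRange_spec e7Utor_4_10626 r (by omega) c13
  by_cases c14 : r < 10758
  · exact allRange_spec e7Utor_4_10692 r (by omega) c14
  by_cases c15 : r < 10824
  · exact allRange_spec e7Utor_4_10758 r (by omega) c15
  by_cases c16 : r < 10890
  · exact allRange_spec e7Utor_4_10824 r (by omega) c16
  by_cases c17 : r < 10956
  · exact allRange_spec e7Utor_4_10890 r (by omega) c17
  by_cases c18 : r < 11022
  · exact allRange_spec e7Utor_4_10956 r (by omega) c18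
  by_cases c19 : r < 11088
  · exact allRange_spec e7Utor_4_11022 r (by omega) c19
  by_cases c20 : r < 11154
  · exact allRange_spec e7Utor_4_11088 r (by omega) c20
  by_cases c21 : r < 11220
  · exact allRange_spec e7Utor_4_11154 r (by omega) c21
  by_cases c22 : r < 11286
  · exact allRange_spec e7Utor_4_11220 r (by omega) c22
  by_cases c23 : r < 11352
  · exact allRange_spec e7Utor_4_11286 r (by omega) c23
  by_cases c24 : r < 11418
  · exact allRange_spec e7Utor_4_11352 r (by omega) c24
  by_cases c25 : r < 11484
  · exact allRange_spec e7Utor_4_11418 r (by omega) c25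
  by_cases c26 : r < 11550
  · exact allRange_spec e7Utor_4_11484 r (by omega) c26
  by_cases c27 : r < 11616
  · exact allRange_spec e7Utor_4_11550 r (by omega) c27
  by_cases c28 : r < 11682
  · exact allRange_spec e7Utor_4_11616 r (by omega) c28
  by_cases c29 : r < 11748
  · exact allRange_spec e7Utor_4_11682 r (by omega) c29
  by_cases c30 : r < 11814
  · exact allRange_spec e7Utor_4_11748 r (by omega) c30
  by_cases c31 : r < 11880
  · exact allRange_spec e7Utor_4_11814 r (by omega) c31
  by_cases c32 : r < 11946
  · exact allRange_spec e7Utor_4_11880 r (by omega) c32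
  by_cases c33 : r < 12012
  · exact allRange_spec e7Utor_4_11946 r (by omega) c33
  by_cases c34 : r < 12078
  · exact allRange_spec e7Utor_4_12012 r (by omega) c34
  by_cases c35 : r < 12144
  · exact allRange_spec e7Utor_4_12078 r (by omega) c35
  exact allRange_spec e7Utor_4_12144 r (by omega) h2

end Cfsg.Agent.Lib.Helper3.ChevM
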