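import Cfsg.Prelude.Def_ChevE7
import Cfsg.Agent.Lib.Helper3.StU10
set_option autoImplicit false
set_option maxRecDepth 1000000
set_option Elab.async false

namespace Cfsg.Agent.Lib.Helper3.ChevM
open Cfsg.Agent.Lib.Helper3.StB Cfsg.Agent.Lib.Helper3.StU

theorem e7Utor_5_12210 : allRange 12210 12276 ((fun k => posTorOK Cfsg.Lie.chevE7 (k / 126) (k % 126))) = true := by decide +kernel
theorem e7Utor_5_12276 : allRange 12276 12342 ((fun k => posTorOK Cfsg.Lie.chevE7 (k / 126) (k % 126))) = true := by decide +kernel
theorem e7Utor_5_12342 : allRange 12342 12408 ((fun k => posTorOK Cfsg.Lie.chevE7 (k / 126) (k % 126))) = true := by decide +kernel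
theorem e7Utor_5_12408 : allRange 12408 12474 ((fun k => posTorOK Cfsg.Lie.chevE7 (k / 126) (k % 126))) = true := by decide +kernel
theorem e7Utor_5_12474 : allRange 12474 12540 ((fun k => posTorOK Cfsg.Lie.chevE7 (k / 126) (k % 126))) = true := by decide +kernel
theorem e7Utor_5_12540 : allRange 12540 12606 ((fun k => posTorOK Cfsg.Lie.chevE7 (k / 126) (k % 126))) = true := by decide +kernel
theorem e7Utor_5_12606 : allRange 12606 12672 ((fun k => posTorOK Cfsg.Lie.chevE7 (k / 126) (k % 126))) = true := by decide +kernel
theorem e7Utor_5_12672 : allRange 12672 12738 ((fun k => posTorOK Cfsg.Lie.chevE7 (k / 126) (k % 126))) = true := by decide +kernel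
theorem e7Utor_5_12738 : allRange 12738 12804 ((fun k => posTorOK Cfsg.Lie.chevE7 (k / 126) (k % 126))) = true := by decide +kernel
theorem e7Utor_5_12804 : allRange 12804 12870 ((fun k => posTorOK Cfsg.Lie.chevE7 (k / 126) (k % 126))) = true := by decide +kernel
theorem e7Utor_5_12870 : allRange 12870 12936 ((fun k => posTorOK Cfsg.Lie.chevE7 (k / 126) (k % 126))) = true := by decide +kernel
theorem e7Utor_5_12936 : allRange 12936 13002 ((fun k => posTorOK Cfsg.Lie.chevE7 (k / 126) (k % 126))) = true := by decide +kernel
theorem e7Utor_5_13002 : allRange 13002 13068 ((fun k => posTorOK Cfsg.Lie.chevE7 (k / 126) (k % 126))) = true := by decide +kernel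
theorem e7Utor_5_13068 : allRange 13068 13134 ((fun k => posTorOK Cfsg.Lie.chevE7 (k / 126) (k % 126))) = true := by decide +kernel
theorem e7Utor_5_13134 : allRange 13134 13200 ((fun k => posTorOK Cfsg.Lie.chevE7 (k / 126) (k % 126))) = true := by decide +kernel
theorem e7Utor_5_13200 : allRange 13200 13266 ((fun k => posTorOK Cfsg.Lie.chevE7 (k / 126) (k % 126))) = true := by decide +kernel
theorem e7Utor_5_13266 : allRange 13266 13332 ((fun k => posTorOK Cfsg.Lie.chevE7 (k / 126) (k % 126))) = true := by decide +kernel
theorem e7Utor_5_13332 : allRange 13332 13398 ((fun k => posTorOK Cfsg.Lie.chevE7 (k / 126) (k % 126))) = true := by decide +kernel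
theorem e7Utor_5_13398 : allRange 13398 13464 ((fun k => posTorOK Cfsg.Lie.chevE7 (k / 126) (k % 126))) = true := by decide +kernel
theorem e7Utor_5_13464 : allRange 13464 13530 ((fun k => posTorOK Cfsg.Lie.chevE7 (k / 126) (k % 126))) = true := by decide +kernel
theorem e7Utor_5_13530 : allRange 13530 13596 ((fun k => posTorOK Cfsg.Lie.chevE7 (k / 126) (k % 126))) = true := by decide +kernel
theorem e7Utor_5_13596 : allRange 13596 13662 ((fun k => posTorOK Cfsg.Lie.chevE7 (k / 126) (k % 126))) = true := by decide +kernel
theorem e7Utor_5_13662 : allRange 13662 13728 ((fun k => posTorOK Cfsg.Lie.chevE7 (k / 126) (k % 126))) = true := by decide +kernel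
theorem e7Utor_5_13728 : allRange 13728 13794 ((fun k => posTorOK Cfsg.Lie.chevE7 (k / 126) (k % 126))) = true := by decide +kernel
theorem e7Utor_5_13794 : allRange 13794 13860 ((fun k => posTorOK Cfsg.Lie.chevE7 (k / 126) (k % 126))) = true := by decide +kernel
theorem e7Utor_5_13860 : allRange 13860 13926 ((fun k => posTorOK Cfsg.Lie.chevE7 (k / 126) (k % 126))) = true := by decide +kernel
theorem e7Utor_5_13926 : allRange 13926 13992 ((fun k => posTorOK Cfsg.Lie.chevE7 (k / 126) (k % 126))) = true := by decide +kernel
theorem e7Utor_5_13992 : allRange 13992 14058 ((fun k => posTorOK Cfsg.Lie.chevE7 (k / 126) (k % 126))) = true := by decide +kernel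
theorem e7Utor_5_14058 : allRange 14058 14124 ((fun k => posTorOK Cfsg.Lie.chevE7 (k / 126) (k % 126))) = true := by decide +kernel
theorem e7Utor_5_14124 : allRange 14124 14190 ((fun k => posTorOK Cfsg.Lie.chevE7 (k / 126) (k % 126))) = true := by decide +kernel
theorem e7Utor_5_14190 : allRange 14190 14256 ((fun k => posTorOK Cfsg.Lie.chevE7 (k / 126) (k % 126))) = true := by decide +kernel
theorem e7Utor_5_14256 : allRange 14256 14322 ((fun k => posTorOK Cfsg.Lie.chevE7 (k / 126) (k % 126))) = true := by decide +kernel
theorem e7Utor_5_14322 : allRange 14322 14388 ((fun k => posTorOK Cfsg.Lie.chevE7 (k / 126) (k % 126))) = true := by decide +kernel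
theorem e7Utor_5_14388 : allRange 14388 14454 ((fun k => posTorOK Cfsg.Lie.chevE7 (k / 126) (k % 126))) = true := by decide +kernel
theorem e7Utor_5_14454 : allRange 14454 14520 ((fun k => posTorOK Cfsg.Lie.chevE7 (k / 126) (k % 126))) = true := by decide +kernel
theorem e7Utor_5_14520 : allRange 14520 14586 ((fun k => posTorOK Cfsg.Lie.chevE7 (k / 126) (k % 126))) = true := by decide +kernel
theorem e7Utor_5_14586 : allRange 14586 14652 ((fun k => posTorOK Cfsg.Lie.chevE7 (k / 126) (k % 126))) = true := by decide +kernel

/-- Torus elements separating the pairs of positive roots of type E7 (roots 12210 to 14651). -/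
theorem e7Utor_5 : ∀ r, 12210 ≤ r → r < 14652 → ((fun k => posTorOK Cfsg.Lie.chevE7 (k / 126) (k % 126))) r = true := by
  intro r h1 h2
  by_cases c0 : r < 12276
  · exact allRange_spec e7Utor_5_12210 r (by omega) c0
  by_cases c1 : r < 12342
  · exact allRange_spec e7Utor_5_12276 r (by omega) c1
  by_cases c2 : r < 12408
  · exact allRange_spec e7Utor_5_12342 r (by omega) c2
  by_cases c3 : r < 12474
  · exact allRange_spec e7Utor_5_12408 r (by omega) c3
  by_cases c4 : r < 12540
  · exact allRange_spec e7Utor_5_12474 r (by omega) c4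
  by_cases c5 : r < 12606
  · exact allRange_spec e7Utor_5_12540 r (by omega) c5
  by_cases c6 : r < 12672
  · exact allRange_spec e7Utor_5_12606 r (by omega) c6
  by_cases c7 : r < 12738
  · exact allRange_spec e7Utor_5_12672 r (by omega) c7
  by_cases c8 : r < 12804
  · exact allRange_spec e7Utor_5_12738 r (by omega) c8
  by_cases c9 : r < 12870
  · exact allRange_spec e7Utor_5_12804 r (by omega) c9
  by_cases c10 : r < 12936
  · exact allRange_spec e7Utor_5_12870 r (by omega) c10
  by_cases c11 : r < 13002
  · exact allRange_spec e7Utor_5_12936 r (by omega) c11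
  by_cases c12 : r < 13068
  · exact allRange_spec e7Utor_5_13002 r (by omega) c12
  by_cases c13 : r < 13134
  · exact allRange_spec e7Utor_5_13068 r (by omega) c13
  by_cases c14 : r < 13200
  · exact allRange_spec e7Utor_5_13134 r (by omega) c14
  by_cases c15 : r < 13266
  · exact allRange_spec e7Utor_5_13200 r (by omega) c15
  by_cases c16 : r < 13332
  · exact allRange_spec e7Utor_5_13266 r (by omega) c16
  by_cases c17 : r < 13398
  · exact allRange_spec e7Utor_5_13332 r (by omega) c17
  by_cases c18 : r < 13464
  · exact allRange_spec e7Utor_5_13398 r (by omega) c18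
  by_cases c19 : r < 13530
  · exact allRange_spec e7Utor_5_13464 r (by omega) c19
  by_cases c20 : r < 13596
  · exact allRange_spec e7Utor_5_13530 r (by omega) c20
  by_cases c21 : r < 13662
  · exact allRange_spec e7Utor_5_13596 r (by omega) c21
  by_cases c22 : r < 13728
  · exact allRange_spec e7Utor_5_13662 r (by omega) c22
  by_cases c23 : r < 13794
  · exact allRange_spec e7Utor_5_13728 r (by omega) c23
  by_cases c24 : r < 13860
  · exact allRange_spec e7Utor_5_13794 r (by omega) c24
  by_cases c25 : r < 13926
  · exact allRange_spec e7Utor_5_13860 r (by omega) c25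
  by_cases c26 : r < 13992
  · exact allRange_spec e7Utor_5_13926 r (by omega) c26
  by_cases c27 : r < 14058
  · exact allRange_spec e7Utor_5_13992 r (by omega) c27
  by_cases c28 : r < 14124
  · exact allRange_spec e7Utor_5_14058 r (by omega) c28
  by_cases c29 : r < 14190
  · exact allRange_spec e7Utor_5_14124 r (by omega) c29
  by_cases c30 : r < 14256
  · exact allRange_spec e7Utor_5_14190 r (by omega) c30
  by_cases c31 : r < 14322
  · exact allRange_spec e7Utor_5_14256 r (by omega) c31
  by_cases c32 : r < 14388
  · exact allRange_spec e7Utor_5_14322 r (by omega) c32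
  by_cases c33 : r < 14454
  · exact allRange_spec e7Utor_5_14388 r (by omega) c33
  by_cases c34 : r < 14520
  · exact allRange_spec e7Utor_5_14454 r (by omega) c34
  by_cases c35 : r < 14586
  · exact allRange_spec e7Utor_5_14520 r (by omega) c35
  exact allRange_spec e7Utor_5_14586 r (by omega) h2

end Cfsg.Agent.Lib.Helper3.ChevM
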