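import Cfsg.Prelude.Def_ChevE7
import Cfsg.Agent.Lib.Helper3.StU10
set_option autoImplicit false
set_option maxRecDepth 1000000
set_option Elab.async false

namespace Cfsg.Agent.Lib.Helper3.ChevM
open Cfsg.Agent.Lib.Helper3.StB Cfsg.Agent.Lib.Helper3.StU

theorem e7Utor_6_14652 : allRange 14652 14718 ((fun k => posTorOK Cfsg.Lie.chevE7 (k / 126) (k % 126))) = true := by decide +kernel
theorem e7Utor_6_14718 : allRange 14718 14784 ((fun k => posTorOK Cfsg.Lie.chevE7 (k / 126) (k % 126))) = true := by decide +kernel
theorem e7Utor_6_14784 : allRange 14784 14850 ((fun k => posTorOK Cfsg.Lie.chevE7 (k / 126) (k % 126))) = true := by decide +kernel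
theorem e7Utor_6_14850 : allRange 14850 14916 ((fun k => posTorOK Cfsg.Lie.chevE7 (k / 126) (k % 126))) = true := by decide +kernel
theorem e7Utor_6_14916 : allRange 14916 14982 ((fun k => posTorOK Cfsg.Lie.chevE7 (k / 126) (k % 126))) = true := by decide +kernel
theorem e7Utor_6_14982 : allRange 14982 15048 ((fun k => posTorOK Cfsg.Lie.chevE7 (k / 126) (k % 126))) = true := by decide +kernel
theorem e7Utor_6_15048 : allRange 15048 15114 ((fun k => posTorOK Cfsg.Lie.chevE7 (k / 126) (k % 126))) = true := by decide +kernel
theorem e7Utor_6_15114 : allRange 15114 15180 ((fun k => posTorOK Cfsg.Lie.chevE7 (k / 126) (k % 126))) = true := by decide +kernel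
theorem e7Utor_6_15180 : allRange 15180 15246 ((fun k => posTorOK Cfsg.Lie.chevE7 (k / 126) (k % 126))) = true := by decide +kernel
theorem e7Utor_6_15246 : allRange 15246 15312 ((fun k => posTorOK Cfsg.Lie.chevE7 (k / 126) (k % 126))) = true := by decide +kernel
theorem e7Utor_6_15312 : allRange 15312 15378 ((fun k => posTorOK Cfsg.Lie.chevE7 (k / 126) (k % 126))) = true := by decide +kernel
theorem e7Utor_6_15378 : allRange 15378 15444 ((fun k => posTorOK Cfsg.Lie.chevE7 (k / 126) (k % 126))) = true := by decide +kernel
theorem e7Utor_6_15444 : allRange 15444 15510 ((fun k => posTorOK Cfsg.Lie.chevE7 (k / 126) (k % 126))) = true := by decide +kernel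
theorem e7Utor_6_15510 : allRange 15510 15576 ((fun k => posTorOK Cfsg.Lie.chevE7 (k / 126) (k % 126))) = true := by decide +kernel
theorem e7Utor_6_15576 : allRange 15576 15642 ((fun k => posTorOK Cfsg.Lie.chevE7 (k / 126) (k % 126))) = true := by decide +kernel
theorem e7Utor_6_15642 : allRange 15642 15708 ((fun k => posTorOK Cfsg.Lie.chevE7 (k / 126) (k % 126))) = true := by decide +kernel
theorem e7Utor_6_15708 : allRange 15708 15774 ((fun k => posTorOK Cfsg.Lie.chevE7 (k / 126) (k % 126))) = true := by decide +kernel
theorem e7Utor_6_15774 : allRange 15774 15840 ((fun k => posTorOK Cfsg.Lie.chevE7 (k / 126) (k % 126))) = true := by decide +kernel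
theorem e7Utor_6_15840 : allRange 15840 15876 ((fun k => posTorOK Cfsg.Lie.chevE7 (k / 126) (k % 126))) = true := by decide +kernel

/-- Torus elements separating the pairs of positive roots of type E7 (roots 14652 to 15875). -/
theorem e7Utor_6 : ∀ r, 14652 ≤ r → r < 15876 → ((fun k => posTorOK Cfsg.Lie.chevE7 (k / 126) (k % 126))) r = true := by
  intro r h1 h2
  by_cases c0 : r < 14718
  · exact allRange_spec e7Utor_6_14652 r (by omega) c0
  by_cases c1 : r < 14784
  · exact allRange_spec e7Utor_6_14718 r (by omega) c1
  by_cases c2 : r < 14850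
  · exact allRange_spec e7Utor_6_14784 r (by omega) c2
  by_cases c3 : r < 14916
  · exact allRange_spec e7Utor_6_14850 r (by omega) c3
  by_cases c4 : r < 14982
  · exact allRange_spec e7Utor_6_14916 r (by omega) c4
  by_cases c5 : r < 15048
  · exact allRange_spec e7Utor_6_14982 r (by omega) c5
  by_cases c6 : r < 15114
  · exact allRange_spec e7Utor_6_15048 r (by omega) c6
  by_cases c7 : r < 15180
  · exact allRange_spec e7Utor_6_15114 r (by omega) c7
  by_cases c8 : r < 15246
  · exact allRange_spec e7Utor_6_15180 r (by omega) c8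
  by_cases c9 : r < 15312
  · exact allRange_spec e7Utor_6_15246 r (by omega) c9
  by_cases c10 : r < 15378
  · exact allRange_spec e7Utor_6_15312 r (by omega) c10
  by_cases c11 : r < 15444
  · exact allRange_spec e7Utor_6_15378 r (by omega) c11
  by_cases c12 : r < 15510
  · exact allRange_spec e7Utor_6_15444 r (by omega) c12
  by_cases c13 : r < 15576
  · exact allRange_spec e7Utor_6_15510 r (by omega) c13
  by_cases c14 : r < 15642
  · exact allRange_spec e7Utor_6_15576 r (by omega) c14
  by_cases c15 : r < 15708
  · exact allRange_spec e7Utor_6_15642 r (by omega) c15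
  by_cases c16 : r < 15774
  · exact allRange_spec e7Utor_6_15708 r (by omega) c16
  by_cases c17 : r < 15840
  · exact allRange_spec e7Utor_6_15774 r (by omega) c17
  exact allRange_spec e7Utor_6_15840 r (by omega) h2

end Cfsg.Agent.Lib.Helper3.ChevM
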