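import Cfsg.Agent.Lib.Helper3.ChevData.E7UtorA
import Cfsg.Agent.Lib.Helper3.ChevData.E7UtorB
import Cfsg.Agent.Lib.Helper3.ChevData.E7UtorC
import Cfsg.Agent.Lib.Helper3.ChevData.E7UtorD
import Cfsg.Agent.Lib.Helper3.ChevData.E7UtorE
import Cfsg.Agent.Lib.Helper3.ChevData.E7UtorF
import Cfsg.Agent.Lib.Helper3.ChevData.E7UtorG
set_option autoImplicit false

namespace Cfsg.Agent.Lib.Helper3.ChevM
open Cfsg.Agent.Lib.Helper3.StB Cfsg.Agent.Lib.Helper3.StU

/-- Torus elements separating the pairs of positive roots of type E7. -/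
theorem e7Utor : ∀ r < 15876, ((fun k => posTorOK Cfsg.Lie.chevE7 (k / 126) (k % 126))) r = true := by
  intro r hr
  by_cases h0 : r < 2442
  · exact e7Utor_0 r (by omega) h0
  by_cases h1 : r < 4884
  · exact e7Utor_1 r (by omega) h1
  by_cases h2 : r < 7326
  · exact e7Utor_2 r (by omega) h2
  by_cases h3 : r < 9768
  · exact e7Utor_3 r (by omega) h3
  by_cases h4 : r < 12210
  · exact e7Utor_4 r (by omega) h4
  by_cases h5 : r < 14652
  · exact e7Utor_5 r (by omega) h5
  exact e7Utor_6 r (by omega) hr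

end Cfsg.Agent.Lib.Helper3.ChevM
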