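import Cfsg.Agent.Lib.Helper3.ChevData.E7St
import Cfsg.Agent.Lib.Helper3.ChevData.E7Uself
import Cfsg.Agent.Lib.Helper3.ChevData.E7Utex
import Cfsg.Agent.Lib.Helper3.ChevData.E7Utor
import Cfsg.Agent.Lib.Helper3.ChevData.E7Ucolb
import Cfsg.Agent.Lib.Helper3.ChevData.E7Ubase
set_option autoImplicit false
set_option maxRecDepth 1000000

namespace Cfsg.Agent.Lib.Helper3.ChevM
open Cfsg.Agent.Lib.Helper3.StB Cfsg.Agent.Lib.Helper3.StU

/-- The table checks for the splitting of the central extensions of the Steinberg group of type E7. -/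
def univHypE7 : UnivHyp cdE7 relE7 where
  Y := stHypE7
  self := e7Uself
  torEx := e7Utex
  tor := of_pairRange (m := 126) (n := 126) e7Utor
  col2 := of_pairRange (m := 126) (n := 126) e7Ucolb
  bw := bwE7
  base := of_pairRange (m := 126) (n := 126) e7Ubase

end Cfsg.Agent.Lib.Helper3.ChevM
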