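import Cfsg.Prelude.Def_ChevE7
import Cfsg.Agent.Lib.Helper3.ChevG3
set_option autoImplicit false
set_option maxRecDepth 1000000
set_option Elab.async false

namespace Cfsg.Agent.Lib.Helper3.ChevM

theorem e7Up_0_0 : allRange 0 132 ((fun k => upCheck Cfsg.Lie.chevE7 (k / 126) (k % 126))) = true := by decide +kernel
theorem e7Up_0_132 : allRange 132 264 ((fun k => upCheck Cfsg.Lie.chevE7 (k / 126) (k % 126))) = true := by decide +kernel
theorem e7Up_0_264 : allRange 264 396 ((fun k => upCheck Cfsg.Lie.chevE7 (k / 126) (k % 126))) = true := by decide +kernel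
theorem e7Up_0_396 : allRange 396 528 ((fun k => upCheck Cfsg.Lie.chevE7 (k / 126) (k % 126))) = true := by decide +kernel
theorem e7Up_0_528 : allRange 528 660 ((fun k => upCheck Cfsg.Lie.chevE7 (k / 126) (k % 126))) = true := by decide +kernel
theorem e7Up_0_660 : allRange 660 792 ((fun k => upCheck Cfsg.Lie.chevE7 (k / 126) (k % 126))) = true := by decide +kernel
theorem e7Up_0_792 : allRange 792 882 ((fun k => upCheck Cfsg.Lie.chevE7 (k / 126) (k % 126))) = true := by decide +kernel

/-- Roots in the commutators of `x_{±p}` with the positive root elements of type E7 (roots 0 to 881). -/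
theorem e7Up_0 : ∀ r, 0 ≤ r → r < 882 → ((fun k => upCheck Cfsg.Lie.chevE7 (k / 126) (k % 126))) r = true := by
  intro r h1 h2
  by_cases c0 : r < 132
  · exact allRange_spec e7Up_0_0 r (by omega) c0
  by_cases c1 : r < 264
  · exact allRange_spec e7Up_0_132 r (by omega) c1
  by_cases c2 : r < 396
  · exact allRange_spec e7Up_0_264 r (by omega) c2
  by_cases c3 : r < 528
  · exact allRange_spec e7Up_0_396 r (by omega) c3
  by_cases c4 : r < 660
  · exact allRange_spec e7Up_0_528 r (by omega) c4
  by_cases c5 : r < 792
  · exact allRange_spec e7Up_0_660 r (by omega) c5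
  exact allRange_spec e7Up_0_792 r (by omega) h2

end Cfsg.Agent.Lib.Helper3.ChevM
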