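import Cfsg.Prelude.Def_ChevE7
import Cfsg.Agent.Lib.Helper3.StU10
set_option autoImplicit false
set_option maxRecDepth 1000000
set_option Elab.async false

namespace Cfsg.Agent.Lib.Helper3.ChevM
open Cfsg.Agent.Lib.Helper3.StB Cfsg.Agent.Lib.Helper3.StU

theorem e7Utor_0_0 : allRange 0 66 ((fun k => posTorOK Cfsg.Lie.chevE7 (k / 126) (k % 126))) = true := by decide +kernel
theorem e7Utor_0_66 : allRange 66 132 ((fun k => posTorOK Cfsg.Lie.chevE7 (k / 126) (k % 126))) = true := by decide +kernel
theorem e7Utor_0_132 : allRange 132 198 ((fun k => posTorOK Cfsg.Lie.chevE7 (k / 126) (k % 126))) = true := by decide +kernel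
theorem e7Utor_0_198 : allRange 198 264 ((fun k => posTorOK Cfsg.Lie.chevE7 (k / 126) (k % 126))) = true := by decide +kernel
theorem e7Utor_0_264 : allRange 264 330 ((fun k => posTorOK Cfsg.Lie.chevE7 (k / 126) (k % 126))) = true := by decide +kernel
theorem e7Utor_0_330 : allRange 330 396 ((fun k => posTorOK Cfsg.Lie.chevE7 (k / 126) (k % 126))) = true := by decide +kernel
theorem e7Utor_0_396 : allRange 396 462 ((fun k => posTorOK Cfsg.Lie.chevE7 (k / 126) (k % 126))) = true := by decide +kernel
theorem e7Utor_0_462 : allRange 462 528 ((fun k => posTorOK Cfsg.Lie.chevE7 (k / 126) (k % 126))) = true := by decide +kernel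
theorem e7Utor_0_528 : allRange 528 594 ((fun k => posTorOK Cfsg.Lie.chevE7 (k / 126) (k % 126))) = true := by decide +kernel
theorem e7Utor_0_594 : allRange 594 660 ((fun k => posTorOK Cfsg.Lie.chevE7 (k / 126) (k % 126))) = true := by decide +kernel
theorem e7Utor_0_660 : allRange 660 726 ((fun k => posTorOK Cfsg.Lie.chevE7 (k / 126) (k % 126))) = true := by decide +kernel
theorem e7Utor_0_726 : allRange 726 792 ((fun k => posTorOK Cfsg.Lie.chevE7 (k / 126) (k % 126))) = true := by decide +kernel
theorem e7Utor_0_792 : allRange 792 858 ((fun k => posTorOK Cfsg.Lie.chevE7 (k / 126) (k % 126))) = true := by decide +kernel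
theorem e7Utor_0_858 : allRange 858 924 ((fun k => posTorOK Cfsg.Lie.chevE7 (k / 126) (k % 126))) = true := by decide +kernel
theorem e7Utor_0_924 : allRange 924 990 ((fun k => posTorOK Cfsg.Lie.chevE7 (k / 126) (k % 126))) = true := by decide +kernel
theorem e7Utor_0_990 : allRange 990 1056 ((fun k => posTorOK Cfsg.Lie.chevE7 (k / 126) (k % 126))) = true := by decide +kernel
theorem e7Utor_0_1056 : allRange 1056 1122 ((fun k => posTorOK Cfsg.Lie.chevE7 (k / 126) (k % 126))) = true := by decide +kernel
theorem e7Utor_0_1122 : allRange 1122 1188 ((fun k => posTorOK Cfsg.Lie.chevE7 (k / 126) (k % 126))) = true := by decide +kernel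
theorem e7Utor_0_1188 : allRange 1188 1254 ((fun k => posTorOK Cfsg.Lie.chevE7 (k / 126) (k % 126))) = true := by decide +kernel
theorem e7Utor_0_1254 : allRange 1254 1320 ((fun k => posTorOK Cfsg.Lie.chevE7 (k / 126) (k % 126))) = true := by decide +kernel
theorem e7Utor_0_1320 : allRange 1320 1386 ((fun k => posTorOK Cfsg.Lie.chevE7 (k / 126) (k % 126))) = true := by decide +kernel
theorem e7Utor_0_1386 : allRange 1386 1452 ((fun k => posTorOK Cfsg.Lie.chevE7 (k / 126) (k % 126))) = true := by decide +kernel
theorem e7Utor_0_1452 : allRange 1452 1518 ((fun k => posTorOK Cfsg.Lie.chevE7 (k / 126) (k % 126))) = true := by decide +kernel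
theorem e7Utor_0_1518 : allRange 1518 1584 ((fun k => posTorOK Cfsg.Lie.chevE7 (k / 126) (k % 126))) = true := by decide +kernel
theorem e7Utor_0_1584 : allRange 1584 1650 ((fun k => posTorOK Cfsg.Lie.chevE7 (k / 126) (k % 126))) = true := by decide +kernel
theorem e7Utor_0_1650 : allRange 1650 1716 ((fun k => posTorOK Cfsg.Lie.chevE7 (k / 126) (k % 126))) = true := by decide +kernel
theorem e7Utor_0_1716 : allRange 1716 1782 ((fun k => posTorOK Cfsg.Lie.chevE7 (k / 126) (k % 126))) = true := by decide +kernel
theorem e7Utor_0_1782 : allRange 1782 1848 ((fun k => posTorOK Cfsg.Lie.chevE7 (k / 126) (k % 126))) = true := by decide +kernel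
theorem e7Utor_0_1848 : allRange 1848 1914 ((fun k => posTorOK Cfsg.Lie.chevE7 (k / 126) (k % 126))) = true := by decide +kernel
theorem e7Utor_0_1914 : allRange 1914 1980 ((fun k => posTorOK Cfsg.Lie.chevE7 (k / 126) (k % 126))) = true := by decide +kernel
theorem e7Utor_0_1980 : allRange 1980 2046 ((fun k => posTorOK Cfsg.Lie.chevE7 (k / 126) (k % 126))) = true := by decide +kernel
theorem e7Utor_0_2046 : allRange 2046 2112 ((fun k => posTorOK Cfsg.Lie.chevE7 (k / 126) (k % 126))) = true := by decide +kernel
theorem e7Utor_0_2112 : allRange 2112 2178 ((fun k => posTorOK Cfsg.Lie.chevE7 (k / 126) (k % 126))) = true := by decide +kernel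
theorem e7Utor_0_2178 : allRange 2178 2244 ((fun k => posTorOK Cfsg.Lie.chevE7 (k / 126) (k % 126))) = true := by decide +kernel
theorem e7Utor_0_2244 : allRange 2244 2310 ((fun k => posTorOK Cfsg.Lie.chevE7 (k / 126) (k % 126))) = true := by decide +kernel
theorem e7Utor_0_2310 : allRange 2310 2376 ((fun k => posTorOK Cfsg.Lie.chevE7 (k / 126) (k % 126))) = true := by decide +kernel
theorem e7Utor_0_2376 : allRange 2376 2442 ((fun k => posTorOK Cfsg.Lie.chevE7 (k / 126) (k % 126))) = true := by decide +kernel

/-- Torus elements separating the pairs of positive roots of type E7 (roots 0 to 2441). -/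
theorem e7Utor_0 : ∀ r, 0 ≤ r → r < 2442 → ((fun k => posTorOK Cfsg.Lie.chevE7 (k / 126) (k % 126))) r = true := by
  intro r h1 h2
  by_cases c0 : r < 66
  · exact allRange_spec e7Utor_0_0 r (by omega) c0
  by_cases c1 : r < 132
  · exact allRange_spec e7Utor_0_66 r (by omega) c1
  by_cases c2 : r < 198
  · exact allRange_spec e7Utor_0_132 r (by omega) c2
  by_cases c3 : r < 264
  · exact allRange_spec e7Utor_0_198 r (by omega) c3
  by_cases c4 : r < 330
  · exact allRange_spec e7Utor_0_264 r (by omega) c4
  by_cases c5 : r < 396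
  · exact allRange_spec e7Utor_0_330 r (by omega) c5
  by_cases c6 : r < 462
  · exact allRange_spec e7Utor_0_396 r (by omega) c6
  by_cases c7 : r < 528
  · exact allRange_spec e7Utor_0_462 r (by omega) c7
  by_cases c8 : r < 594
  · exact allRange_spec e7Utor_0_528 r (by omega) c8
  by_cases c9 : r < 660
  · exact allRange_spec e7Utor_0_594 r (by omega) c9
  by_cases c10 : r < 726
  · exact allRange_spec e7Utor_0_660 r (by omega) c10
  by_cases c11 : r < 792
  · exact allRange_spec e7Utor_0_726 r (by omega) c11
  by_cases c12 : r < 858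
  · exact allRange_spec e7Utor_0_792 r (by omega) c12
  by_cases c13 : r < 924
  · exact allRange_spec e7Utor_0_858 r (by omega) c13
  by_cases c14 : r < 990
  · exact allRange_spec e7Utor_0_924 r (by omega) c14
  by_cases c15 : r < 1056
  · exact allRange_spec e7Utor_0_990 r (by omega) c15
  by_cases c16 : r < 1122
  · exact allRange_spec e7Utor_0_1056 r (by omega) c16
  by_cases c17 : r < 1188
  · exact allRange_spec e7Utor_0_1122 r (by omega) c17
  by_cases c18 : r < 1254
  · exact allRange_spec e7Utor_0_1188 r (by omega) c18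
  by_cases c19 : r < 1320
  · exact allRange_spec e7Utor_0_1254 r (by omega) c19
  by_cases c20 : r < 1386
  · exact allRange_spec e7Utor_0_1320 r (by omega) c20
  by_cases c21 : r < 1452
  · exact allRange_spec e7Utor_0_1386 r (by omega) c21
  by_cases c22 : r < 1518
  · exact allRange_spec e7Utor_0_1452 r (by omega) c22
  by_cases c23 : r < 1584
  · exact allRange_spec e7Utor_0_1518 r (by omega) c23
  by_cases c24 : r < 1650
  · exact allRange_spec e7Utor_0_1584 r (by omega) c24
  by_cases c25 : r < 1716
  · exact allRange_spec e7Utor_0_1650 r (by omega) c25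
  by_cases c26 : r < 1782
  · exact allRange_spec e7Utor_0_1716 r (by omega) c26
  by_cases c27 : r < 1848
  · exact allRange_spec e7Utor_0_1782 r (by omega) c27
  by_cases c28 : r < 1914
  · exact allRange_spec e7Utor_0_1848 r (by omega) c28
  by_cases c29 : r < 1980
  · exact allRange_spec e7Utor_0_1914 r (by omega) c29
  by_cases c30 : r < 2046
  · exact allRange_spec e7Utor_0_1980 r (by omega) c30
  by_cases c31 : r < 2112
  · exact allRange_spec e7Utor_0_2046 r (by omega) c31
  by_cases c32 : r < 2178
  · exact allRange_spec e7Utor_0_2112 r (by omega) c32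
  by_cases c33 : r < 2244
  · exact allRange_spec e7Utor_0_2178 r (by omega) c33
  by_cases c34 : r < 2310
  · exact allRange_spec e7Utor_0_2244 r (by omega) c34
  by_cases c35 : r < 2376
  · exact allRange_spec e7Utor_0_2310 r (by omega) c35
  exact allRange_spec e7Utor_0_2376 r (by omega) h2

end Cfsg.Agent.Lib.Helper3.ChevM
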