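import Cfsg.Prelude.Def_ChevE7
import Cfsg.Agent.Lib.Helper3.ChevData.E7Hd2
import Cfsg.Agent.Lib.Helper3.ChevH2
set_option autoImplicit false
set_option maxRecDepth 1000000
set_option Elab.async false

namespace Cfsg.Agent.Lib.Helper3.ChevM

theorem e7Vec_0_0 : allRange 0 882 ((fun k => vecCheck Cfsg.Lie.chevE7 vecE7 (k / 126) (k % 126))) = true := by decide +kernel

/-- The Cartan integers of type E7 are linear in the roots (roots 0 to 881). -/
theorem e7Vec_0 : ∀ r, 0 ≤ r → r < 882 → ((fun k => vecCheck Cfsg.Lie.chevE7 vecE7 (k / 126) (k % 126))) r = true := by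
  intro r h1 h2
  exact allRange_spec e7Vec_0_0 r (by omega) h2

end Cfsg.Agent.Lib.Helper3.ChevM
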