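import Cfsg.Prelude.Def_ChevE7
import Cfsg.Agent.Lib.Helper3.ChevData.E7Tabs
import Cfsg.Agent.Lib.Helper3.ChevG5
set_option autoImplicit false
set_option maxRecDepth 1000000
set_option Elab.async false

namespace Cfsg.Agent.Lib.Helper3.ChevM

theorem e7Wp_0_0 : allRange 0 256 ((fun k => wpCheck Cfsg.Lie.chevE7 reflE7 (k / 126) (k % 126))) = true := by decide +kernel
theorem e7Wp_0_256 : allRange 256 512 ((fun k => wpCheck Cfsg.Lie.chevE7 reflE7 (k / 126) (k % 126))) = true := by decide +kernel
theorem e7Wp_0_512 : allRange 512 768 ((fun k => wpCheck Cfsg.Lie.chevE7 reflE7 (k / 126) (k % 126))) = true := by decide +kernel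
theorem e7Wp_0_768 : allRange 768 882 ((fun k => wpCheck Cfsg.Lie.chevE7 reflE7 (k / 126) (k % 126))) = true := by decide +kernel

/-- The fundamental reflections of type E7 permute the other positive roots (roots 0 to 881). -/
theorem e7Wp_0 : ∀ r, 0 ≤ r → r < 882 → ((fun k => wpCheck Cfsg.Lie.chevE7 reflE7 (k / 126) (k % 126))) r = true := by
  intro r h1 h2
  by_cases c0 : r < 256
  · exact allRange_spec e7Wp_0_0 r (by omega) c0
  by_cases c1 : r < 512
  · exact allRange_spec e7Wp_0_256 r (by omega) c1
  by_cases c2 : r < 768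
  · exact allRange_spec e7Wp_0_512 r (by omega) c2
  exact allRange_spec e7Wp_0_768 r (by omega) h2

end Cfsg.Agent.Lib.Helper3.ChevM
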