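import Cfsg.Prelude.Def_ChevE7
import Cfsg.Agent.Lib.Helper3.ChevData.E7Hd2
import Cfsg.Agent.Lib.Helper3.ChevData.E7Datum
import Cfsg.Agent.Lib.Helper3.ChevL2
set_option autoImplicit false
set_option maxRecDepth 1000000
set_option Elab.async false

namespace Cfsg.Agent.Lib.Helper3.ChevM

theorem e7Wt_1_21 : allRange 21 26 (fun r => wtCheck cdE7 vecE7 r) = true := by decide +kernel
theorem e7Wt_1_26 : allRange 26 31 (fun r => wtCheck cdE7 vecE7 r) = true := by decide +kernel
theorem e7Wt_1_31 : allRange 31 36 (fun r => wtCheck cdE7 vecE7 r) = true := by decide +kernel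
theorem e7Wt_1_36 : allRange 36 41 (fun r => wtCheck cdE7 vecE7 r) = true := by decide +kernel
theorem e7Wt_1_41 : allRange 41 42 (fun r => wtCheck cdE7 vecE7 r) = true := by decide +kernel

/-- The entries of the root elements of type E7 raise the weights (roots 21 to 41). -/
theorem e7Wt_1 : ∀ r, 21 ≤ r → r < 42 → (fun r => wtCheck cdE7 vecE7 r) r = true := by
  intro r h1 h2
  by_cases c0 : r < 26
  · exact allRange_spec e7Wt_1_21 r (by omega) c0
  by_cases c1 : r < 31
  · exact allRange_spec e7Wt_1_26 r (by omega) c1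
  by_cases c2 : r < 36
  · exact allRange_spec e7Wt_1_31 r (by omega) c2
  by_cases c3 : r < 41
  · exact allRange_spec e7Wt_1_36 r (by omega) c3
  exact allRange_spec e7Wt_1_41 r (by omega) h2

end Cfsg.Agent.Lib.Helper3.ChevM
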