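import Cfsg.Prelude.Def_ChevE7
import Cfsg.Agent.Lib.Helper3.ChevData.E7Hd2
import Cfsg.Agent.Lib.Helper3.ChevData.E7Datum
import Cfsg.Agent.Lib.Helper3.ChevL2
set_option autoImplicit false
set_option maxRecDepth 1000000
set_option Elab.async false

namespace Cfsg.Agent.Lib.Helper3.ChevM

theorem e7Wt_3_63 : allRange 63 68 (fun r => wtCheck cdE7 vecE7 r) = true := by decide +kernel
theorem e7Wt_3_68 : allRange 68 73 (fun r => wtCheck cdE7 vecE7 r) = true := by decide +kernel
theorem e7Wt_3_73 : allRange 73 78 (fun r => wtCheck cdE7 vecE7 r) = true := by decide +kernel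
theorem e7Wt_3_78 : allRange 78 83 (fun r => wtCheck cdE7 vecE7 r) = true := by decide +kernel
theorem e7Wt_3_83 : allRange 83 84 (fun r => wtCheck cdE7 vecE7 r) = true := by decide +kernel

/-- The entries of the root elements of type E7 raise the weights (roots 63 to 83). -/
theorem e7Wt_3 : ∀ r, 63 ≤ r → r < 84 → (fun r => wtCheck cdE7 vecE7 r) r = true := by
  intro r h1 h2
  by_cases c0 : r < 68
  · exact allRange_spec e7Wt_3_63 r (by omega) c0
  by_cases c1 : r < 73
  · exact allRange_spec e7Wt_3_68 r (by omega) c1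
  by_cases c2 : r < 78
  · exact allRange_spec e7Wt_3_73 r (by omega) c2
  by_cases c3 : r < 83
  · exact allRange_spec e7Wt_3_78 r (by omega) c3
  exact allRange_spec e7Wt_3_83 r (by omega) h2

end Cfsg.Agent.Lib.Helper3.ChevM
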