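import Cfsg.Prelude.Def_ChevE7
import Cfsg.Agent.Lib.Helper3.ChevData.E7Hd2
import Cfsg.Agent.Lib.Helper3.ChevData.E7Datum
import Cfsg.Agent.Lib.Helper3.ChevL2
set_option autoImplicit false
set_option maxRecDepth 1000000
set_option Elab.async false

namespace Cfsg.Agent.Lib.Helper3.ChevM

theorem e7Wt_5_105 : allRange 105 110 (fun r => wtCheck cdE7 vecE7 r) = true := by decide +kernel
theorem e7Wt_5_110 : allRange 110 115 (fun r => wtCheck cdE7 vecE7 r) = true := by decide +kernel
theorem e7Wt_5_115 : allRange 115 120 (fun r => wtCheck cdE7 vecE7 r) = true := by decide +kernel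
theorem e7Wt_5_120 : allRange 120 125 (fun r => wtCheck cdE7 vecE7 r) = true := by decide +kernel
theorem e7Wt_5_125 : allRange 125 126 (fun r => wtCheck cdE7 vecE7 r) = true := by decide +kernel

/-- The entries of the root elements of type E7 raise the weights (roots 105 to 125). -/
theorem e7Wt_5 : ∀ r, 105 ≤ r → r < 126 → (fun r => wtCheck cdE7 vecE7 r) r = true := by
  intro r h1 h2
  by_cases c0 : r < 110
  · exact allRange_spec e7Wt_5_105 r (by omega) c0
  by_cases c1 : r < 115
  · exact allRange_spec e7Wt_5_110 r (by omega) c1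
  by_cases c2 : r < 120
  · exact allRange_spec e7Wt_5_115 r (by omega) c2
  by_cases c3 : r < 125
  · exact allRange_spec e7Wt_5_120 r (by omega) c3
  exact allRange_spec e7Wt_5_125 r (by omega) h2

end Cfsg.Agent.Lib.Helper3.ChevM
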