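import Cfsg.Agent.Lib.Helper3.ChevData.E7WtA
import Cfsg.Agent.Lib.Helper3.ChevData.E7WtB
import Cfsg.Agent.Lib.Helper3.ChevData.E7WtC
import Cfsg.Agent.Lib.Helper3.ChevData.E7WtD
import Cfsg.Agent.Lib.Helper3.ChevData.E7WtE
import Cfsg.Agent.Lib.Helper3.ChevData.E7WtF
set_option autoImplicit false

namespace Cfsg.Agent.Lib.Helper3.ChevM

/-- The entries of the root elements of type E7 raise the weights. -/
theorem e7Wt : ∀ r < 126, (fun r => wtCheck cdE7 vecE7 r) r = true := by
  intro r hr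
  by_cases h0 : r < 21
  · exact e7Wt_0 r (by omega) h0
  by_cases h1 : r < 42
  · exact e7Wt_1 r (by omega) h1
  by_cases h2 : r < 63
  · exact e7Wt_2 r (by omega) h2
  by_cases h3 : r < 84
  · exact e7Wt_3 r (by omega) h3
  by_cases h4 : r < 105
  · exact e7Wt_4 r (by omega) h4
  exact e7Wt_5 r (by omega) hr

end Cfsg.Agent.Lib.Helper3.ChevM
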