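import Cfsg.Agent.Lib.Helper3.ChevData.E8AddA
import Cfsg.Agent.Lib.Helper3.ChevData.E8AddB
import Cfsg.Agent.Lib.Helper3.ChevData.E8AddC
import Cfsg.Agent.Lib.Helper3.ChevData.E8AddD
import Cfsg.Agent.Lib.Helper3.ChevData.E8AddE
import Cfsg.Agent.Lib.Helper3.ChevData.E8AddF
import Cfsg.Agent.Lib.Helper3.ChevData.E8AddG
import Cfsg.Agent.Lib.Helper3.ChevData.E8AddH
set_option autoImplicit false

namespace Cfsg.Agent.Lib.Helper3.ChevM

/-- Additivity check for the root elements of type E8. -/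
theorem e8Add : ∀ r < 240, (cdE8.checkAdd) r = true := by
  intro r hr
  by_cases h0 : r < 30
  · exact e8Add_0 r (by omega) h0
  by_cases h1 : r < 60
  · exact e8Add_1 r (by omega) h1
  by_cases h2 : r < 90
  · exact e8Add_2 r (by omega) h2
  by_cases h3 : r < 120
  · exact e8Add_3 r (by omega) h3
  by_cases h4 : r < 150
  · exact e8Add_4 r (by omega) h4
  by_cases h5 : r < 180
  · exact e8Add_5 r (by omega) h5
  by_cases h6 : r < 210
  · exact e8Add_6 r (by omega) h6
  exact e8Add_7 r (by omega) hr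

end Cfsg.Agent.Lib.Helper3.ChevM
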