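import Cfsg.Prelude.Def_ChevE8
import Cfsg.Agent.Lib.Helper3.StB5
set_option autoImplicit false
set_option maxRecDepth 1000000
set_option Elab.async false

namespace Cfsg.Agent.Lib.Helper3.ChevM
open Cfsg.Agent.Lib.Helper3.StB

theorem e8Cneg_26_19760 : allRange 19760 19780 ((fun k => commNegCheck Cfsg.Lie.chevE8 (k / 240) (k % 240))) = true := by decide +kernel
theorem e8Cneg_26_19780 : allRange 19780 19800 ((fun k => commNegCheck Cfsg.Lie.chevE8 (k / 240) (k % 240))) = true := by decide +kernel
theorem e8Cneg_26_19800 : allRange 19800 19820 ((fun k => commNegCheck Cfsg.Lie.chevE8 (k / 240) (k % 240))) = true := by decide +kernel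
theorem e8Cneg_26_19820 : allRange 19820 19840 ((fun k => commNegCheck Cfsg.Lie.chevE8 (k / 240) (k % 240))) = true := by decide +kernel
theorem e8Cneg_26_19840 : allRange 19840 19860 ((fun k => commNegCheck Cfsg.Lie.chevE8 (k / 240) (k % 240))) = true := by decide +kernel
theorem e8Cneg_26_19860 : allRange 19860 19880 ((fun k => commNegCheck Cfsg.Lie.chevE8 (k / 240) (k % 240))) = true := by decide +kernel
theorem e8Cneg_26_19880 : allRange 19880 19900 ((fun k => commNegCheck Cfsg.Lie.chevE8 (k / 240) (k % 240))) = true := by decide +kernel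
theorem e8Cneg_26_19900 : allRange 19900 19920 ((fun k => commNegCheck Cfsg.Lie.chevE8 (k / 240) (k % 240))) = true := by decide +kernel
theorem e8Cneg_26_19920 : allRange 19920 19940 ((fun k => commNegCheck Cfsg.Lie.chevE8 (k / 240) (k % 240))) = true := by decide +kernel
theorem e8Cneg_26_19940 : allRange 19940 19960 ((fun k => commNegCheck Cfsg.Lie.chevE8 (k / 240) (k % 240))) = true := by decide +kernel
theorem e8Cneg_26_19960 : allRange 19960 19980 ((fun k => commNegCheck Cfsg.Lie.chevE8 (k / 240) (k % 240))) = true := by decide +kernel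
theorem e8Cneg_26_19980 : allRange 19980 20000 ((fun k => commNegCheck Cfsg.Lie.chevE8 (k / 240) (k % 240))) = true := by decide +kernel
theorem e8Cneg_26_20000 : allRange 20000 20020 ((fun k => commNegCheck Cfsg.Lie.chevE8 (k / 240) (k % 240))) = true := by decide +kernel
theorem e8Cneg_26_20020 : allRange 20020 20040 ((fun k => commNegCheck Cfsg.Lie.chevE8 (k / 240) (k % 240))) = true := by decide +kernel
theorem e8Cneg_26_20040 : allRange 20040 20060 ((fun k => commNegCheck Cfsg.Lie.chevE8 (k / 240) (k % 240))) = true := by decide +kernel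
theorem e8Cneg_26_20060 : allRange 20060 20080 ((fun k => commNegCheck Cfsg.Lie.chevE8 (k / 240) (k % 240))) = true := by decide +kernel
theorem e8Cneg_26_20080 : allRange 20080 20100 ((fun k => commNegCheck Cfsg.Lie.chevE8 (k / 240) (k % 240))) = true := by decide +kernel
theorem e8Cneg_26_20100 : allRange 20100 20120 ((fun k => commNegCheck Cfsg.Lie.chevE8 (k / 240) (k % 240))) = true := by decide +kernel
theorem e8Cneg_26_20120 : allRange 20120 20140 ((fun k => commNegCheck Cfsg.Lie.chevE8 (k / 240) (k % 240))) = true := by decide +kernel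
theorem e8Cneg_26_20140 : allRange 20140 20160 ((fun k => commNegCheck Cfsg.Lie.chevE8 (k / 240) (k % 240))) = true := by decide +kernel
theorem e8Cneg_26_20160 : allRange 20160 20180 ((fun k => commNegCheck Cfsg.Lie.chevE8 (k / 240) (k % 240))) = true := by decide +kernel
theorem e8Cneg_26_20180 : allRange 20180 20200 ((fun k => commNegCheck Cfsg.Lie.chevE8 (k / 240) (k % 240))) = true := by decide +kernel
theorem e8Cneg_26_20200 : allRange 20200 20220 ((fun k => commNegCheck Cfsg.Lie.chevE8 (k / 240) (k % 240))) = true := by decide +kernel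
theorem e8Cneg_26_20220 : allRange 20220 20240 ((fun k => commNegCheck Cfsg.Lie.chevE8 (k / 240) (k % 240))) = true := by decide +kernel
theorem e8Cneg_26_20240 : allRange 20240 20260 ((fun k => commNegCheck Cfsg.Lie.chevE8 (k / 240) (k % 240))) = true := by decide +kernel
theorem e8Cneg_26_20260 : allRange 20260 20280 ((fun k => commNegCheck Cfsg.Lie.chevE8 (k / 240) (k % 240))) = true := by decide +kernel
theorem e8Cneg_26_20280 : allRange 20280 20300 ((fun k => commNegCheck Cfsg.Lie.chevE8 (k / 240) (k % 240))) = true := by decide +kernel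
theorem e8Cneg_26_20300 : allRange 20300 20320 ((fun k => commNegCheck Cfsg.Lie.chevE8 (k / 240) (k % 240))) = true := by decide +kernel
theorem e8Cneg_26_20320 : allRange 20320 20340 ((fun k => commNegCheck Cfsg.Lie.chevE8 (k / 240) (k % 240))) = true := by decide +kernel
theorem e8Cneg_26_20340 : allRange 20340 20360 ((fun k => commNegCheck Cfsg.Lie.chevE8 (k / 240) (k % 240))) = true := by decide +kernel
theorem e8Cneg_26_20360 : allRange 20360 20380 ((fun k => commNegCheck Cfsg.Lie.chevE8 (k / 240) (k % 240))) = true := by decide +kernel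
theorem e8Cneg_26_20380 : allRange 20380 20400 ((fun k => commNegCheck Cfsg.Lie.chevE8 (k / 240) (k % 240))) = true := by decide +kernel
theorem e8Cneg_26_20400 : allRange 20400 20420 ((fun k => commNegCheck Cfsg.Lie.chevE8 (k / 240) (k % 240))) = true := by decide +kernel
theorem e8Cneg_26_20420 : allRange 20420 20440 ((fun k => commNegCheck Cfsg.Lie.chevE8 (k / 240) (k % 240))) = true := by decide +kernel
theorem e8Cneg_26_20440 : allRange 20440 20460 ((fun k => commNegCheck Cfsg.Lie.chevE8 (k / 240) (k % 240))) = true := by decide +kernel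
theorem e8Cneg_26_20460 : allRange 20460 20480 ((fun k => commNegCheck Cfsg.Lie.chevE8 (k / 240) (k % 240))) = true := by decide +kernel
theorem e8Cneg_26_20480 : allRange 20480 20500 ((fun k => commNegCheck Cfsg.Lie.chevE8 (k / 240) (k % 240))) = true := by decide +kernel
theorem e8Cneg_26_20500 : allRange 20500 20520 ((fun k => commNegCheck Cfsg.Lie.chevE8 (k / 240) (k % 240))) = true := by decide +kernel

/-- The commutator formula of type E8 for opposite roots (roots 19760 to 20519). -/
theorem e8Cneg_26 : ∀ r, 19760 ≤ r → r < 20520 → ((fun k => commNegCheck Cfsg.Lie.chevE8 (k / 240) (k % 240))) r = true := by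
  intro r h1 h2
  by_cases c0 : r < 19780
  · exact allRange_spec e8Cneg_26_19760 r (by omega) c0
  by_cases c1 : r < 19800
  · exact allRange_spec e8Cneg_26_19780 r (by omega) c1
  by_cases c2 : r < 19820
  · exact allRange_spec e8Cneg_26_19800 r (by omega) c2
  by_cases c3 : r < 19840
  · exact allRange_spec e8Cneg_26_19820 r (by omega) c3
  by_cases c4 : r < 19860
  · exact allRange_spec e8Cneg_26_19840 r (by omega) c4
  by_cases c5 : r < 19880
  · exact allRange_spec e8Cneg_26_19860 r (by omega) c5
  by_cases c6 : r < 19900
  · exact allRange_spec e8Cneg_26_19880 r (by omega) c6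
  by_cases c7 : r < 19920
  · exact allRange_spec e8Cneg_26_19900 r (by omega) c7
  by_cases c8 : r < 19940
  · exact allRange_spec e8Cneg_26_19920 r (by omega) c8
  by_cases c9 : r < 19960
  · exact allRange_spec e8Cneg_26_19940 r (by omega) c9
  by_cases c10 : r < 19980
  · exact allRange_spec e8Cneg_26_19960 r (by omega) c10
  by_cases c11 : r < 20000
  · exact allRange_spec e8Cneg_26_19980 r (by omega) c11
  by_cases c12 : r < 20020
  · exact allRange_spec e8Cneg_26_20000 r (by omega) c12
  by_cases c13 : r < 20040
  · exact allRange_spec e8Cneg_26_20020 r (by omega) c13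
  by_cases c14 : r < 20060
  · exact allRange_spec e8Cneg_26_20040 r (by omega) c14
  by_cases c15 : r < 20080
  · exact allRange_spec e8Cneg_26_20060 r (by omega) c15
  by_cases c16 : r < 20100
  · exact allRange_spec e8Cneg_26_20080 r (by omega) c16
  by_cases c17 : r < 20120
  · exact allRange_spec e8Cneg_26_20100 r (by omega) c17
  by_cases c18 : r < 20140
  · exact allRange_spec e8Cneg_26_20120 r (by omega) c18
  by_cases c19 : r < 20160
  · exact allRange_spec e8Cneg_26_20140 r (by omega) c19
  by_cases c20 : r < 20180
  · exact allRange_spec e8Cneg_26_20160 r (by omega) c20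
  by_cases c21 : r < 20200
  · exact allRange_spec e8Cneg_26_20180 r (by omega) c21
  by_cases c22 : r < 20220
  · exact allRange_spec e8Cneg_26_20200 r (by omega) c22
  by_cases c23 : r < 20240
  · exact allRange_spec e8Cneg_26_20220 r (by omega) c23
  by_cases c24 : r < 20260
  · exact allRange_spec e8Cneg_26_20240 r (by omega) c24
  by_cases c25 : r < 20280
  · exact allRange_spec e8Cneg_26_20260 r (by omega) c25
  by_cases c26 : r < 20300
  · exact allRange_spec e8Cneg_26_20280 r (by omega) c26
  by_cases c27 : r < 20320
  · exact allRange_spec e8Cneg_26_20300 r (by omega) c27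
  by_cases c28 : r < 20340
  · exact allRange_spec e8Cneg_26_20320 r (by omega) c28
  by_cases c29 : r < 20360
  · exact allRange_spec e8Cneg_26_20340 r (by omega) c29
  by_cases c30 : r < 20380
  · exact allRange_spec e8Cneg_26_20360 r (by omega) c30
  by_cases c31 : r < 20400
  · exact allRange_spec e8Cneg_26_20380 r (by omega) c31
  by_cases c32 : r < 20420
  · exact allRange_spec e8Cneg_26_20400 r (by omega) c32
  by_cases c33 : r < 20440
  · exact allRange_spec e8Cneg_26_20420 r (by omega) c33
  by_cases c34 : r < 20460
  · exact allRange_spec e8Cneg_26_20440 r (by omega) c34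
  by_cases c35 : r < 20480
  · exact allRange_spec e8Cneg_26_20460 r (by omega) c35
  by_cases c36 : r < 20500
  · exact allRange_spec e8Cneg_26_20480 r (by omega) c36
  exact allRange_spec e8Cneg_26_20500 r (by omega) h2

end Cfsg.Agent.Lib.Helper3.ChevM
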