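import Cfsg.Prelude.Def_ChevE8
import Cfsg.Agent.Lib.Helper3.StB5
set_option autoImplicit false
set_option maxRecDepth 1000000
set_option Elab.async false

namespace Cfsg.Agent.Lib.Helper3.ChevM
open Cfsg.Agent.Lib.Helper3.StB

theorem e8Cneg_27_20520 : allRange 20520 20540 ((fun k => commNegCheck Cfsg.Lie.chevE8 (k / 240) (k % 240))) = true := by decide +kernel
theorem e8Cneg_27_20540 : allRange 20540 20560 ((fun k => commNegCheck Cfsg.Lie.chevE8 (k / 240) (k % 240))) = true := by decide +kernel
theorem e8Cneg_27_20560 : allRange 20560 20580 ((fun k => commNegCheck Cfsg.Lie.chevE8 (k / 240) (k % 240))) = true := by decide +kernel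
theorem e8Cneg_27_20580 : allRange 20580 20600 ((fun k => commNegCheck Cfsg.Lie.chevE8 (k / 240) (k % 240))) = true := by decide +kernel
theorem e8Cneg_27_20600 : allRange 20600 20620 ((fun k => commNegCheck Cfsg.Lie.chevE8 (k / 240) (k % 240))) = true := by decide +kernel
theorem e8Cneg_27_20620 : allRange 20620 20640 ((fun k => commNegCheck Cfsg.Lie.chevE8 (k / 240) (k % 240))) = true := by decide +kernel
theorem e8Cneg_27_20640 : allRange 20640 20660 ((fun k => commNegCheck Cfsg.Lie.chevE8 (k / 240) (k % 240))) = true := by decide +kernel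
theorem e8Cneg_27_20660 : allRange 20660 20680 ((fun k => commNegCheck Cfsg.Lie.chevE8 (k / 240) (k % 240))) = true := by decide +kernel
theorem e8Cneg_27_20680 : allRange 20680 20700 ((fun k => commNegCheck Cfsg.Lie.chevE8 (k / 240) (k % 240))) = true := by decide +kernel
theorem e8Cneg_27_20700 : allRange 20700 20720 ((fun k => commNegCheck Cfsg.Lie.chevE8 (k / 240) (k % 240))) = true := by decide +kernel
theorem e8Cneg_27_20720 : allRange 20720 20740 ((fun k => commNegCheck Cfsg.Lie.chevE8 (k / 240) (k % 240))) = true := by decide +kernel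
theorem e8Cneg_27_20740 : allRange 20740 20760 ((fun k => commNegCheck Cfsg.Lie.chevE8 (k / 240) (k % 240))) = true := by decide +kernel
theorem e8Cneg_27_20760 : allRange 20760 20780 ((fun k => commNegCheck Cfsg.Lie.chevE8 (k / 240) (k % 240))) = true := by decide +kernel
theorem e8Cneg_27_20780 : allRange 20780 20800 ((fun k => commNegCheck Cfsg.Lie.chevE8 (k / 240) (k % 240))) = true := by decide +kernel
theorem e8Cneg_27_20800 : allRange 20800 20820 ((fun k => commNegCheck Cfsg.Lie.chevE8 (k / 240) (k % 240))) = true := by decide +kernel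
theorem e8Cneg_27_20820 : allRange 20820 20840 ((fun k => commNegCheck Cfsg.Lie.chevE8 (k / 240) (k % 240))) = true := by decide +kernel
theorem e8Cneg_27_20840 : allRange 20840 20860 ((fun k => commNegCheck Cfsg.Lie.chevE8 (k / 240) (k % 240))) = true := by decide +kernel
theorem e8Cneg_27_20860 : allRange 20860 20880 ((fun k => commNegCheck Cfsg.Lie.chevE8 (k / 240) (k % 240))) = true := by decide +kernel
theorem e8Cneg_27_20880 : allRange 20880 20900 ((fun k => commNegCheck Cfsg.Lie.chevE8 (k / 240) (k % 240))) = true := by decide +kernel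
theorem e8Cneg_27_20900 : allRange 20900 20920 ((fun k => commNegCheck Cfsg.Lie.chevE8 (k / 240) (k % 240))) = true := by decide +kernel
theorem e8Cneg_27_20920 : allRange 20920 20940 ((fun k => commNegCheck Cfsg.Lie.chevE8 (k / 240) (k % 240))) = true := by decide +kernel
theorem e8Cneg_27_20940 : allRange 20940 20960 ((fun k => commNegCheck Cfsg.Lie.chevE8 (k / 240) (k % 240))) = true := by decide +kernel
theorem e8Cneg_27_20960 : allRange 20960 20980 ((fun k => commNegCheck Cfsg.Lie.chevE8 (k / 240) (k % 240))) = true := by decide +kernel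
theorem e8Cneg_27_20980 : allRange 20980 21000 ((fun k => commNegCheck Cfsg.Lie.chevE8 (k / 240) (k % 240))) = true := by decide +kernel
theorem e8Cneg_27_21000 : allRange 21000 21020 ((fun k => commNegCheck Cfsg.Lie.chevE8 (k / 240) (k % 240))) = true := by decide +kernel
theorem e8Cneg_27_21020 : allRange 21020 21040 ((fun k => commNegCheck Cfsg.Lie.chevE8 (k / 240) (k % 240))) = true := by decide +kernel
theorem e8Cneg_27_21040 : allRange 21040 21060 ((fun k => commNegCheck Cfsg.Lie.chevE8 (k / 240) (k % 240))) = true := by decide +kernel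
theorem e8Cneg_27_21060 : allRange 21060 21080 ((fun k => commNegCheck Cfsg.Lie.chevE8 (k / 240) (k % 240))) = true := by decide +kernel
theorem e8Cneg_27_21080 : allRange 21080 21100 ((fun k => commNegCheck Cfsg.Lie.chevE8 (k / 240) (k % 240))) = true := by decide +kernel
theorem e8Cneg_27_21100 : allRange 21100 21120 ((fun k => commNegCheck Cfsg.Lie.chevE8 (k / 240) (k % 240))) = true := by decide +kernel
theorem e8Cneg_27_21120 : allRange 21120 21140 ((fun k => commNegCheck Cfsg.Lie.chevE8 (k / 240) (k % 240))) = true := by decide +kernel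
theorem e8Cneg_27_21140 : allRange 21140 21160 ((fun k => commNegCheck Cfsg.Lie.chevE8 (k / 240) (k % 240))) = true := by decide +kernel
theorem e8Cneg_27_21160 : allRange 21160 21180 ((fun k => commNegCheck Cfsg.Lie.chevE8 (k / 240) (k % 240))) = true := by decide +kernel
theorem e8Cneg_27_21180 : allRange 21180 21200 ((fun k => commNegCheck Cfsg.Lie.chevE8 (k / 240) (k % 240))) = true := by decide +kernel
theorem e8Cneg_27_21200 : allRange 21200 21220 ((fun k => commNegCheck Cfsg.Lie.chevE8 (k / 240) (k % 240))) = true := by decide +kernel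
theorem e8Cneg_27_21220 : allRange 21220 21240 ((fun k => commNegCheck Cfsg.Lie.chevE8 (k / 240) (k % 240))) = true := by decide +kernel
theorem e8Cneg_27_21240 : allRange 21240 21260 ((fun k => commNegCheck Cfsg.Lie.chevE8 (k / 240) (k % 240))) = true := by decide +kernel
theorem e8Cneg_27_21260 : allRange 21260 21280 ((fun k => commNegCheck Cfsg.Lie.chevE8 (k / 240) (k % 240))) = true := by decide +kernel

/-- The commutator formula of type E8 for opposite roots (roots 20520 to 21279). -/
theorem e8Cneg_27 : ∀ r, 20520 ≤ r → r < 21280 → ((fun k => commNegCheck Cfsg.Lie.chevE8 (k / 240) (k % 240))) r = true := by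
  intro r h1 h2
  by_cases c0 : r < 20540
  · exact allRange_spec e8Cneg_27_20520 r (by omega) c0
  by_cases c1 : r < 20560
  · exact allRange_spec e8Cneg_27_20540 r (by omega) c1
  by_cases c2 : r < 20580
  · exact allRange_spec e8Cneg_27_20560 r (by omega) c2
  by_cases c3 : r < 20600
  · exact allRange_spec e8Cneg_27_20580 r (by omega) c3
  by_cases c4 : r < 20620
  · exact allRange_spec e8Cneg_27_20600 r (by omega) c4
  by_cases c5 : r < 20640
  · exact allRange_spec e8Cneg_27_20620 r (by omega) c5
  by_cases c6 : r < 20660
  · exact allRange_spec e8Cneg_27_20640 r (by omega) c6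
  by_cases c7 : r < 20680
  · exact allRange_spec e8Cneg_27_20660 r (by omega) c7
  by_cases c8 : r < 20700
  · exact allRange_spec e8Cneg_27_20680 r (by omega) c8
  by_cases c9 : r < 20720
  · exact allRange_spec e8Cneg_27_20700 r (by omega) c9
  by_cases c10 : r < 20740
  · exact allRange_spec e8Cneg_27_20720 r (by omega) c10
  by_cases c11 : r < 20760
  · exact allRange_spec e8Cneg_27_20740 r (by omega) c11
  by_cases c12 : r < 20780
  · exact allRange_spec e8Cneg_27_20760 r (by omega) c12
  by_cases c13 : r < 20800
  · exact allRange_spec e8Cneg_27_20780 r (by omega) c13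
  by_cases c14 : r < 20820
  · exact allRange_spec e8Cneg_27_20800 r (by omega) c14
  by_cases c15 : r < 20840
  · exact allRange_spec e8Cneg_27_20820 r (by omega) c15
  by_cases c16 : r < 20860
  · exact allRange_spec e8Cneg_27_20840 r (by omega) c16
  by_cases c17 : r < 20880
  · exact allRange_spec e8Cneg_27_20860 r (by omega) c17
  by_cases c18 : r < 20900
  · exact allRange_spec e8Cneg_27_20880 r (by omega) c18
  by_cases c19 : r < 20920
  · exact allRange_spec e8Cneg_27_20900 r (by omega) c19
  by_cases c20 : r < 20940
  · exact allRange_spec e8Cneg_27_20920 r (by omega) c20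
  by_cases c21 : r < 20960
  · exact allRange_spec e8Cneg_27_20940 r (by omega) c21
  by_cases c22 : r < 20980
  · exact allRange_spec e8Cneg_27_20960 r (by omega) c22
  by_cases c23 : r < 21000
  · exact allRange_spec e8Cneg_27_20980 r (by omega) c23
  by_cases c24 : r < 21020
  · exact allRange_spec e8Cneg_27_21000 r (by omega) c24
  by_cases c25 : r < 21040
  · exact allRange_spec e8Cneg_27_21020 r (by omega) c25
  by_cases c26 : r < 21060
  · exact allRange_spec e8Cneg_27_21040 r (by omega) c26
  by_cases c27 : r < 21080
  · exact allRange_spec e8Cneg_27_21060 r (by omega) c27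
  by_cases c28 : r < 21100
  · exact allRange_spec e8Cneg_27_21080 r (by omega) c28
  by_cases c29 : r < 21120
  · exact allRange_spec e8Cneg_27_21100 r (by omega) c29
  by_cases c30 : r < 21140
  · exact allRange_spec e8Cneg_27_21120 r (by omega) c30
  by_cases c31 : r < 21160
  · exact allRange_spec e8Cneg_27_21140 r (by omega) c31
  by_cases c32 : r < 21180
  · exact allRange_spec e8Cneg_27_21160 r (by omega) c32
  by_cases c33 : r < 21200
  · exact allRange_spec e8Cneg_27_21180 r (by omega) c33
  by_cases c34 : r < 21220
  · exact allRange_spec e8Cneg_27_21200 r (by omega) c34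
  by_cases c35 : r < 21240
  · exact allRange_spec e8Cneg_27_21220 r (by omega) c35
  by_cases c36 : r < 21260
  · exact allRange_spec e8Cneg_27_21240 r (by omega) c36
  exact allRange_spec e8Cneg_27_21260 r (by omega) h2

end Cfsg.Agent.Lib.Helper3.ChevM
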