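import Cfsg.Prelude.Def_ChevE8
import Cfsg.Agent.Lib.Helper3.StB5
set_option autoImplicit false
set_option maxRecDepth 1000000
set_option Elab.async false

namespace Cfsg.Agent.Lib.Helper3.ChevM
open Cfsg.Agent.Lib.Helper3.StB

theorem e8Cneg_28_21280 : allRange 21280 21300 ((fun k => commNegCheck Cfsg.Lie.chevE8 (k / 240) (k % 240))) = true := by decide +kernel
theorem e8Cneg_28_21300 : allRange 21300 21320 ((fun k => commNegCheck Cfsg.Lie.chevE8 (k / 240) (k % 240))) = true := by decide +kernel
theorem e8Cneg_28_21320 : allRange 21320 21340 ((fun k => commNegCheck Cfsg.Lie.chevE8 (k / 240) (k % 240))) = true := by decide +kernel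
theorem e8Cneg_28_21340 : allRange 21340 21360 ((fun k => commNegCheck Cfsg.Lie.chevE8 (k / 240) (k % 240))) = true := by decide +kernel
theorem e8Cneg_28_21360 : allRange 21360 21380 ((fun k => commNegCheck Cfsg.Lie.chevE8 (k / 240) (k % 240))) = true := by decide +kernel
theorem e8Cneg_28_21380 : allRange 21380 21400 ((fun k => commNegCheck Cfsg.Lie.chevE8 (k / 240) (k % 240))) = true := by decide +kernel
theorem e8Cneg_28_21400 : allRange 21400 21420 ((fun k => commNegCheck Cfsg.Lie.chevE8 (k / 240) (k % 240))) = true := by decide +kernel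
theorem e8Cneg_28_21420 : allRange 21420 21440 ((fun k => commNegCheck Cfsg.Lie.chevE8 (k / 240) (k % 240))) = true := by decide +kernel
theorem e8Cneg_28_21440 : allRange 21440 21460 ((fun k => commNegCheck Cfsg.Lie.chevE8 (k / 240) (k % 240))) = true := by decide +kernel
theorem e8Cneg_28_21460 : allRange 21460 21480 ((fun k => commNegCheck Cfsg.Lie.chevE8 (k / 240) (k % 240))) = true := by decide +kernel
theorem e8Cneg_28_21480 : allRange 21480 21500 ((fun k => commNegCheck Cfsg.Lie.chevE8 (k / 240) (k % 240))) = true := by decide +kernel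
theorem e8Cneg_28_21500 : allRange 21500 21520 ((fun k => commNegCheck Cfsg.Lie.chevE8 (k / 240) (k % 240))) = true := by decide +kernel
theorem e8Cneg_28_21520 : allRange 21520 21540 ((fun k => commNegCheck Cfsg.Lie.chevE8 (k / 240) (k % 240))) = true := by decide +kernel
theorem e8Cneg_28_21540 : allRange 21540 21560 ((fun k => commNegCheck Cfsg.Lie.chevE8 (k / 240) (k % 240))) = true := by decide +kernel
theorem e8Cneg_28_21560 : allRange 21560 21580 ((fun k => commNegCheck Cfsg.Lie.chevE8 (k / 240) (k % 240))) = true := by decide +kernel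
theorem e8Cneg_28_21580 : allRange 21580 21600 ((fun k => commNegCheck Cfsg.Lie.chevE8 (k / 240) (k % 240))) = true := by decide +kernel
theorem e8Cneg_28_21600 : allRange 21600 21620 ((fun k => commNegCheck Cfsg.Lie.chevE8 (k / 240) (k % 240))) = true := by decide +kernel
theorem e8Cneg_28_21620 : allRange 21620 21640 ((fun k => commNegCheck Cfsg.Lie.chevE8 (k / 240) (k % 240))) = true := by decide +kernel
theorem e8Cneg_28_21640 : allRange 21640 21660 ((fun k => commNegCheck Cfsg.Lie.chevE8 (k / 240) (k % 240))) = true := by decide +kernel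
theorem e8Cneg_28_21660 : allRange 21660 21680 ((fun k => commNegCheck Cfsg.Lie.chevE8 (k / 240) (k % 240))) = true := by decide +kernel
theorem e8Cneg_28_21680 : allRange 21680 21700 ((fun k => commNegCheck Cfsg.Lie.chevE8 (k / 240) (k % 240))) = true := by decide +kernel
theorem e8Cneg_28_21700 : allRange 21700 21720 ((fun k => commNegCheck Cfsg.Lie.chevE8 (k / 240) (k % 240))) = true := by decide +kernel
theorem e8Cneg_28_21720 : allRange 21720 21740 ((fun k => commNegCheck Cfsg.Lie.chevE8 (k / 240) (k % 240))) = true := by decide +kernel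
theorem e8Cneg_28_21740 : allRange 21740 21760 ((fun k => commNegCheck Cfsg.Lie.chevE8 (k / 240) (k % 240))) = true := by decide +kernel
theorem e8Cneg_28_21760 : allRange 21760 21780 ((fun k => commNegCheck Cfsg.Lie.chevE8 (k / 240) (k % 240))) = true := by decide +kernel
theorem e8Cneg_28_21780 : allRange 21780 21800 ((fun k => commNegCheck Cfsg.Lie.chevE8 (k / 240) (k % 240))) = true := by decide +kernel
theorem e8Cneg_28_21800 : allRange 21800 21820 ((fun k => commNegCheck Cfsg.Lie.chevE8 (k / 240) (k % 240))) = true := by decide +kernel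
theorem e8Cneg_28_21820 : allRange 21820 21840 ((fun k => commNegCheck Cfsg.Lie.chevE8 (k / 240) (k % 240))) = true := by decide +kernel
theorem e8Cneg_28_21840 : allRange 21840 21860 ((fun k => commNegCheck Cfsg.Lie.chevE8 (k / 240) (k % 240))) = true := by decide +kernel
theorem e8Cneg_28_21860 : allRange 21860 21880 ((fun k => commNegCheck Cfsg.Lie.chevE8 (k / 240) (k % 240))) = true := by decide +kernel
theorem e8Cneg_28_21880 : allRange 21880 21900 ((fun k => commNegCheck Cfsg.Lie.chevE8 (k / 240) (k % 240))) = true := by decide +kernel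
theorem e8Cneg_28_21900 : allRange 21900 21920 ((fun k => commNegCheck Cfsg.Lie.chevE8 (k / 240) (k % 240))) = true := by decide +kernel
theorem e8Cneg_28_21920 : allRange 21920 21940 ((fun k => commNegCheck Cfsg.Lie.chevE8 (k / 240) (k % 240))) = true := by decide +kernel
theorem e8Cneg_28_21940 : allRange 21940 21960 ((fun k => commNegCheck Cfsg.Lie.chevE8 (k / 240) (k % 240))) = true := by decide +kernel
theorem e8Cneg_28_21960 : allRange 21960 21980 ((fun k => commNegCheck Cfsg.Lie.chevE8 (k / 240) (k % 240))) = true := by decide +kernel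
theorem e8Cneg_28_21980 : allRange 21980 22000 ((fun k => commNegCheck Cfsg.Lie.chevE8 (k / 240) (k % 240))) = true := by decide +kernel
theorem e8Cneg_28_22000 : allRange 22000 22020 ((fun k => commNegCheck Cfsg.Lie.chevE8 (k / 240) (k % 240))) = true := by decide +kernel
theorem e8Cneg_28_22020 : allRange 22020 22040 ((fun k => commNegCheck Cfsg.Lie.chevE8 (k / 240) (k % 240))) = true := by decide +kernel

/-- The commutator formula of type E8 for opposite roots (roots 21280 to 22039). -/
theorem e8Cneg_28 : ∀ r, 21280 ≤ r → r < 22040 → ((fun k => commNegCheck Cfsg.Lie.chevE8 (k / 240) (k % 240))) r = true := by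
  intro r h1 h2
  by_cases c0 : r < 21300
  · exact allRange_spec e8Cneg_28_21280 r (by omega) c0
  by_cases c1 : r < 21320
  · exact allRange_spec e8Cneg_28_21300 r (by omega) c1
  by_cases c2 : r < 21340
  · exact allRange_spec e8Cneg_28_21320 r (by omega) c2
  by_cases c3 : r < 21360
  · exact allRange_spec e8Cneg_28_21340 r (by omega) c3
  by_cases c4 : r < 21380
  · exact allRange_spec e8Cneg_28_21360 r (by omega) c4
  by_cases c5 : r < 21400
  · exact allRange_spec e8Cneg_28_21380 r (by omega) c5
  by_cases c6 : r < 21420
  · exact allRange_spec e8Cneg_28_21400 r (by omega) c6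
  by_cases c7 : r < 21440
  · exact allRange_spec e8Cneg_28_21420 r (by omega) c7
  by_cases c8 : r < 21460
  · exact allRange_spec e8Cneg_28_21440 r (by omega) c8
  by_cases c9 : r < 21480
  · exact allRange_spec e8Cneg_28_21460 r (by omega) c9
  by_cases c10 : r < 21500
  · exact allRange_spec e8Cneg_28_21480 r (by omega) c10
  by_cases c11 : r < 21520
  · exact allRange_spec e8Cneg_28_21500 r (by omega) c11
  by_cases c12 : r < 21540
  · exact allRange_spec e8Cneg_28_21520 r (by omega) c12
  by_cases c13 : r < 21560
  · exact allRange_spec e8Cneg_28_21540 r (by omega) c13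
  by_cases c14 : r < 21580
  · exact allRange_spec e8Cneg_28_21560 r (by omega) c14
  by_cases c15 : r < 21600
  · exact allRange_spec e8Cneg_28_21580 r (by omega) c15
  by_cases c16 : r < 21620
  · exact allRange_spec e8Cneg_28_21600 r (by omega) c16
  by_cases c17 : r < 21640
  · exact allRange_spec e8Cneg_28_21620 r (by omega) c17
  by_cases c18 : r < 21660
  · exact allRange_spec e8Cneg_28_21640 r (by omega) c18
  by_cases c19 : r < 21680
  · exact allRange_spec e8Cneg_28_21660 r (by omega) c19
  by_cases c20 : r < 21700
  · exact allRange_spec e8Cneg_28_21680 r (by omega) c20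
  by_cases c21 : r < 21720
  · exact allRange_spec e8Cneg_28_21700 r (by omega) c21
  by_cases c22 : r < 21740
  · exact allRange_spec e8Cneg_28_21720 r (by omega) c22
  by_cases c23 : r < 21760
  · exact allRange_spec e8Cneg_28_21740 r (by omega) c23
  by_cases c24 : r < 21780
  · exact allRange_spec e8Cneg_28_21760 r (by omega) c24
  by_cases c25 : r < 21800
  · exact allRange_spec e8Cneg_28_21780 r (by omega) c25
  by_cases c26 : r < 21820
  · exact allRange_spec e8Cneg_28_21800 r (by omega) c26
  by_cases c27 : r < 21840
  · exact allRange_spec e8Cneg_28_21820 r (by omega) c27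
  by_cases c28 : r < 21860
  · exact allRange_spec e8Cneg_28_21840 r (by omega) c28
  by_cases c29 : r < 21880
  · exact allRange_spec e8Cneg_28_21860 r (by omega) c29
  by_cases c30 : r < 21900
  · exact allRange_spec e8Cneg_28_21880 r (by omega) c30
  by_cases c31 : r < 21920
  · exact allRange_spec e8Cneg_28_21900 r (by omega) c31
  by_cases c32 : r < 21940
  · exact allRange_spec e8Cneg_28_21920 r (by omega) c32
  by_cases c33 : r < 21960
  · exact allRange_spec e8Cneg_28_21940 r (by omega) c33
  by_cases c34 : r < 21980
  · exact allRange_spec e8Cneg_28_21960 r (by omega) c34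
  by_cases c35 : r < 22000
  · exact allRange_spec e8Cneg_28_21980 r (by omega) c35
  by_cases c36 : r < 22020
  · exact allRange_spec e8Cneg_28_22000 r (by omega) c36
  exact allRange_spec e8Cneg_28_22020 r (by omega) h2

end Cfsg.Agent.Lib.Helper3.ChevM
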