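import Cfsg.Prelude.Def_ChevE8
import Cfsg.Agent.Lib.Helper3.StB5
set_option autoImplicit false
set_option maxRecDepth 1000000
set_option Elab.async false

namespace Cfsg.Agent.Lib.Helper3.ChevM
open Cfsg.Agent.Lib.Helper3.StB

theorem e8Cneg_29_22040 : allRange 22040 22060 ((fun k => commNegCheck Cfsg.Lie.chevE8 (k / 240) (k % 240))) = true := by decide +kernel
theorem e8Cneg_29_22060 : allRange 22060 22080 ((fun k => commNegCheck Cfsg.Lie.chevE8 (k / 240) (k % 240))) = true := by decide +kernel
theorem e8Cneg_29_22080 : allRange 22080 22100 ((fun k => commNegCheck Cfsg.Lie.chevE8 (k / 240) (k % 240))) = true := by decide +kernel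
theorem e8Cneg_29_22100 : allRange 22100 22120 ((fun k => commNegCheck Cfsg.Lie.chevE8 (k / 240) (k % 240))) = true := by decide +kernel
theorem e8Cneg_29_22120 : allRange 22120 22140 ((fun k => commNegCheck Cfsg.Lie.chevE8 (k / 240) (k % 240))) = true := by decide +kernel
theorem e8Cneg_29_22140 : allRange 22140 22160 ((fun k => commNegCheck Cfsg.Lie.chevE8 (k / 240) (k % 240))) = true := by decide +kernel
theorem e8Cneg_29_22160 : allRange 22160 22180 ((fun k => commNegCheck Cfsg.Lie.chevE8 (k / 240) (k % 240))) = true := by decide +kernel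
theorem e8Cneg_29_22180 : allRange 22180 22200 ((fun k => commNegCheck Cfsg.Lie.chevE8 (k / 240) (k % 240))) = true := by decide +kernel
theorem e8Cneg_29_22200 : allRange 22200 22220 ((fun k => commNegCheck Cfsg.Lie.chevE8 (k / 240) (k % 240))) = true := by decide +kernel
theorem e8Cneg_29_22220 : allRange 22220 22240 ((fun k => commNegCheck Cfsg.Lie.chevE8 (k / 240) (k % 240))) = true := by decide +kernel
theorem e8Cneg_29_22240 : allRange 22240 22260 ((fun k => commNegCheck Cfsg.Lie.chevE8 (k / 240) (k % 240))) = true := by decide +kernel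
theorem e8Cneg_29_22260 : allRange 22260 22280 ((fun k => commNegCheck Cfsg.Lie.chevE8 (k / 240) (k % 240))) = true := by decide +kernel
theorem e8Cneg_29_22280 : allRange 22280 22300 ((fun k => commNegCheck Cfsg.Lie.chevE8 (k / 240) (k % 240))) = true := by decide +kernel
theorem e8Cneg_29_22300 : allRange 22300 22320 ((fun k => commNegCheck Cfsg.Lie.chevE8 (k / 240) (k % 240))) = true := by decide +kernel
theorem e8Cneg_29_22320 : allRange 22320 22340 ((fun k => commNegCheck Cfsg.Lie.chevE8 (k / 240) (k % 240))) = true := by decide +kernel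
theorem e8Cneg_29_22340 : allRange 22340 22360 ((fun k => commNegCheck Cfsg.Lie.chevE8 (k / 240) (k % 240))) = true := by decide +kernel
theorem e8Cneg_29_22360 : allRange 22360 22380 ((fun k => commNegCheck Cfsg.Lie.chevE8 (k / 240) (k % 240))) = true := by decide +kernel
theorem e8Cneg_29_22380 : allRange 22380 22400 ((fun k => commNegCheck Cfsg.Lie.chevE8 (k / 240) (k % 240))) = true := by decide +kernel
theorem e8Cneg_29_22400 : allRange 22400 22420 ((fun k => commNegCheck Cfsg.Lie.chevE8 (k / 240) (k % 240))) = true := by decide +kernel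
theorem e8Cneg_29_22420 : allRange 22420 22440 ((fun k => commNegCheck Cfsg.Lie.chevE8 (k / 240) (k % 240))) = true := by decide +kernel
theorem e8Cneg_29_22440 : allRange 22440 22460 ((fun k => commNegCheck Cfsg.Lie.chevE8 (k / 240) (k % 240))) = true := by decide +kernel
theorem e8Cneg_29_22460 : allRange 22460 22480 ((fun k => commNegCheck Cfsg.Lie.chevE8 (k / 240) (k % 240))) = true := by decide +kernel
theorem e8Cneg_29_22480 : allRange 22480 22500 ((fun k => commNegCheck Cfsg.Lie.chevE8 (k / 240) (k % 240))) = true := by decide +kernel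
theorem e8Cneg_29_22500 : allRange 22500 22520 ((fun k => commNegCheck Cfsg.Lie.chevE8 (k / 240) (k % 240))) = true := by decide +kernel
theorem e8Cneg_29_22520 : allRange 22520 22540 ((fun k => commNegCheck Cfsg.Lie.chevE8 (k / 240) (k % 240))) = true := by decide +kernel
theorem e8Cneg_29_22540 : allRange 22540 22560 ((fun k => commNegCheck Cfsg.Lie.chevE8 (k / 240) (k % 240))) = true := by decide +kernel
theorem e8Cneg_29_22560 : allRange 22560 22580 ((fun k => commNegCheck Cfsg.Lie.chevE8 (k / 240) (k % 240))) = true := by decide +kernel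
theorem e8Cneg_29_22580 : allRange 22580 22600 ((fun k => commNegCheck Cfsg.Lie.chevE8 (k / 240) (k % 240))) = true := by decide +kernel
theorem e8Cneg_29_22600 : allRange 22600 22620 ((fun k => commNegCheck Cfsg.Lie.chevE8 (k / 240) (k % 240))) = true := by decide +kernel
theorem e8Cneg_29_22620 : allRange 22620 22640 ((fun k => commNegCheck Cfsg.Lie.chevE8 (k / 240) (k % 240))) = true := by decide +kernel
theorem e8Cneg_29_22640 : allRange 22640 22660 ((fun k => commNegCheck Cfsg.Lie.chevE8 (k / 240) (k % 240))) = true := by decide +kernel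
theorem e8Cneg_29_22660 : allRange 22660 22680 ((fun k => commNegCheck Cfsg.Lie.chevE8 (k / 240) (k % 240))) = true := by decide +kernel
theorem e8Cneg_29_22680 : allRange 22680 22700 ((fun k => commNegCheck Cfsg.Lie.chevE8 (k / 240) (k % 240))) = true := by decide +kernel
theorem e8Cneg_29_22700 : allRange 22700 22720 ((fun k => commNegCheck Cfsg.Lie.chevE8 (k / 240) (k % 240))) = true := by decide +kernel
theorem e8Cneg_29_22720 : allRange 22720 22740 ((fun k => commNegCheck Cfsg.Lie.chevE8 (k / 240) (k % 240))) = true := by decide +kernel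
theorem e8Cneg_29_22740 : allRange 22740 22760 ((fun k => commNegCheck Cfsg.Lie.chevE8 (k / 240) (k % 240))) = true := by decide +kernel
theorem e8Cneg_29_22760 : allRange 22760 22780 ((fun k => commNegCheck Cfsg.Lie.chevE8 (k / 240) (k % 240))) = true := by decide +kernel
theorem e8Cneg_29_22780 : allRange 22780 22800 ((fun k => commNegCheck Cfsg.Lie.chevE8 (k / 240) (k % 240))) = true := by decide +kernel

/-- The commutator formula of type E8 for opposite roots (roots 22040 to 22799). -/
theorem e8Cneg_29 : ∀ r, 22040 ≤ r → r < 22800 → ((fun k => commNegCheck Cfsg.Lie.chevE8 (k / 240) (k % 240))) r = true := by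
  intro r h1 h2
  by_cases c0 : r < 22060
  · exact allRange_spec e8Cneg_29_22040 r (by omega) c0
  by_cases c1 : r < 22080
  · exact allRange_spec e8Cneg_29_22060 r (by omega) c1
  by_cases c2 : r < 22100
  · exact allRange_spec e8Cneg_29_22080 r (by omega) c2
  by_cases c3 : r < 22120
  · exact allRange_spec e8Cneg_29_22100 r (by omega) c3
  by_cases c4 : r < 22140
  · exact allRange_spec e8Cneg_29_22120 r (by omega) c4
  by_cases c5 : r < 22160
  · exact allRange_spec e8Cneg_29_22140 r (by omega) c5
  by_cases c6 : r < 22180
  · exact allRange_spec e8Cneg_29_22160 r (by omega) c6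
  by_cases c7 : r < 22200
  · exact allRange_spec e8Cneg_29_22180 r (by omega) c7
  by_cases c8 : r < 22220
  · exact allRange_spec e8Cneg_29_22200 r (by omega) c8
  by_cases c9 : r < 22240
  · exact allRange_spec e8Cneg_29_22220 r (by omega) c9
  by_cases c10 : r < 22260
  · exact allRange_spec e8Cneg_29_22240 r (by omega) c10
  by_cases c11 : r < 22280
  · exact allRange_spec e8Cneg_29_22260 r (by omega) c11
  by_cases c12 : r < 22300
  · exact allRange_spec e8Cneg_29_22280 r (by omega) c12
  by_cases c13 : r < 22320
  · exact allRange_spec e8Cneg_29_22300 r (by omega) c13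
  by_cases c14 : r < 22340
  · exact allRange_spec e8Cneg_29_22320 r (by omega) c14
  by_cases c15 : r < 22360
  · exact allRange_spec e8Cneg_29_22340 r (by omega) c15
  by_cases c16 : r < 22380
  · exact allRange_spec e8Cneg_29_22360 r (by omega) c16
  by_cases c17 : r < 22400
  · exact allRange_spec e8Cneg_29_22380 r (by omega) c17
  by_cases c18 : r < 22420
  · exact allRange_spec e8Cneg_29_22400 r (by omega) c18
  by_cases c19 : r < 22440
  · exact allRange_spec e8Cneg_29_22420 r (by omega) c19
  by_cases c20 : r < 22460
  · exact allRange_spec e8Cneg_29_22440 r (by omega) c20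
  by_cases c21 : r < 22480
  · exact allRange_spec e8Cneg_29_22460 r (by omega) c21
  by_cases c22 : r < 22500
  · exact allRange_spec e8Cneg_29_22480 r (by omega) c22
  by_cases c23 : r < 22520
  · exact allRange_spec e8Cneg_29_22500 r (by omega) c23
  by_cases c24 : r < 22540
  · exact allRange_spec e8Cneg_29_22520 r (by omega) c24
  by_cases c25 : r < 22560
  · exact allRange_spec e8Cneg_29_22540 r (by omega) c25
  by_cases c26 : r < 22580
  · exact allRange_spec e8Cneg_29_22560 r (by omega) c26
  by_cases c27 : r < 22600
  · exact allRange_spec e8Cneg_29_22580 r (by omega) c27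
  by_cases c28 : r < 22620
  · exact allRange_spec e8Cneg_29_22600 r (by omega) c28
  by_cases c29 : r < 22640
  · exact allRange_spec e8Cneg_29_22620 r (by omega) c29
  by_cases c30 : r < 22660
  · exact allRange_spec e8Cneg_29_22640 r (by omega) c30
  by_cases c31 : r < 22680
  · exact allRange_spec e8Cneg_29_22660 r (by omega) c31
  by_cases c32 : r < 22700
  · exact allRange_spec e8Cneg_29_22680 r (by omega) c32
  by_cases c33 : r < 22720
  · exact allRange_spec e8Cneg_29_22700 r (by omega) c33
  by_cases c34 : r < 22740
  · exact allRange_spec e8Cneg_29_22720 r (by omega) c34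
  by_cases c35 : r < 22760
  · exact allRange_spec e8Cneg_29_22740 r (by omega) c35
  by_cases c36 : r < 22780
  · exact allRange_spec e8Cneg_29_22760 r (by omega) c36
  exact allRange_spec e8Cneg_29_22780 r (by omega) h2

end Cfsg.Agent.Lib.Helper3.ChevM
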