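import Cfsg.Prelude.Def_ChevE8
import Cfsg.Agent.Lib.Helper3.StB5
set_option autoImplicit false
set_option maxRecDepth 1000000
set_option Elab.async false

namespace Cfsg.Agent.Lib.Helper3.ChevM
open Cfsg.Agent.Lib.Helper3.StB

theorem e8Cneg_30_22800 : allRange 22800 22820 ((fun k => commNegCheck Cfsg.Lie.chevE8 (k / 240) (k % 240))) = true := by decide +kernel
theorem e8Cneg_30_22820 : allRange 22820 22840 ((fun k => commNegCheck Cfsg.Lie.chevE8 (k / 240) (k % 240))) = true := by decide +kernel
theorem e8Cneg_30_22840 : allRange 22840 22860 ((fun k => commNegCheck Cfsg.Lie.chevE8 (k / 240) (k % 240))) = true := by decide +kernel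
theorem e8Cneg_30_22860 : allRange 22860 22880 ((fun k => commNegCheck Cfsg.Lie.chevE8 (k / 240) (k % 240))) = true := by decide +kernel
theorem e8Cneg_30_22880 : allRange 22880 22900 ((fun k => commNegCheck Cfsg.Lie.chevE8 (k / 240) (k % 240))) = true := by decide +kernel
theorem e8Cneg_30_22900 : allRange 22900 22920 ((fun k => commNegCheck Cfsg.Lie.chevE8 (k / 240) (k % 240))) = true := by decide +kernel
theorem e8Cneg_30_22920 : allRange 22920 22940 ((fun k => commNegCheck Cfsg.Lie.chevE8 (k / 240) (k % 240))) = true := by decide +kernel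
theorem e8Cneg_30_22940 : allRange 22940 22960 ((fun k => commNegCheck Cfsg.Lie.chevE8 (k / 240) (k % 240))) = true := by decide +kernel
theorem e8Cneg_30_22960 : allRange 22960 22980 ((fun k => commNegCheck Cfsg.Lie.chevE8 (k / 240) (k % 240))) = true := by decide +kernel
theorem e8Cneg_30_22980 : allRange 22980 23000 ((fun k => commNegCheck Cfsg.Lie.chevE8 (k / 240) (k % 240))) = true := by decide +kernel
theorem e8Cneg_30_23000 : allRange 23000 23020 ((fun k => commNegCheck Cfsg.Lie.chevE8 (k / 240) (k % 240))) = true := by decide +kernel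
theorem e8Cneg_30_23020 : allRange 23020 23040 ((fun k => commNegCheck Cfsg.Lie.chevE8 (k / 240) (k % 240))) = true := by decide +kernel
theorem e8Cneg_30_23040 : allRange 23040 23060 ((fun k => commNegCheck Cfsg.Lie.chevE8 (k / 240) (k % 240))) = true := by decide +kernel
theorem e8Cneg_30_23060 : allRange 23060 23080 ((fun k => commNegCheck Cfsg.Lie.chevE8 (k / 240) (k % 240))) = true := by decide +kernel
theorem e8Cneg_30_23080 : allRange 23080 23100 ((fun k => commNegCheck Cfsg.Lie.chevE8 (k / 240) (k % 240))) = true := by decide +kernel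
theorem e8Cneg_30_23100 : allRange 23100 23120 ((fun k => commNegCheck Cfsg.Lie.chevE8 (k / 240) (k % 240))) = true := by decide +kernel
theorem e8Cneg_30_23120 : allRange 23120 23140 ((fun k => commNegCheck Cfsg.Lie.chevE8 (k / 240) (k % 240))) = true := by decide +kernel
theorem e8Cneg_30_23140 : allRange 23140 23160 ((fun k => commNegCheck Cfsg.Lie.chevE8 (k / 240) (k % 240))) = true := by decide +kernel
theorem e8Cneg_30_23160 : allRange 23160 23180 ((fun k => commNegCheck Cfsg.Lie.chevE8 (k / 240) (k % 240))) = true := by decide +kernel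
theorem e8Cneg_30_23180 : allRange 23180 23200 ((fun k => commNegCheck Cfsg.Lie.chevE8 (k / 240) (k % 240))) = true := by decide +kernel
theorem e8Cneg_30_23200 : allRange 23200 23220 ((fun k => commNegCheck Cfsg.Lie.chevE8 (k / 240) (k % 240))) = true := by decide +kernel
theorem e8Cneg_30_23220 : allRange 23220 23240 ((fun k => commNegCheck Cfsg.Lie.chevE8 (k / 240) (k % 240))) = true := by decide +kernel
theorem e8Cneg_30_23240 : allRange 23240 23260 ((fun k => commNegCheck Cfsg.Lie.chevE8 (k / 240) (k % 240))) = true := by decide +kernel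
theorem e8Cneg_30_23260 : allRange 23260 23280 ((fun k => commNegCheck Cfsg.Lie.chevE8 (k / 240) (k % 240))) = true := by decide +kernel
theorem e8Cneg_30_23280 : allRange 23280 23300 ((fun k => commNegCheck Cfsg.Lie.chevE8 (k / 240) (k % 240))) = true := by decide +kernel
theorem e8Cneg_30_23300 : allRange 23300 23320 ((fun k => commNegCheck Cfsg.Lie.chevE8 (k / 240) (k % 240))) = true := by decide +kernel
theorem e8Cneg_30_23320 : allRange 23320 23340 ((fun k => commNegCheck Cfsg.Lie.chevE8 (k / 240) (k % 240))) = true := by decide +kernel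
theorem e8Cneg_30_23340 : allRange 23340 23360 ((fun k => commNegCheck Cfsg.Lie.chevE8 (k / 240) (k % 240))) = true := by decide +kernel
theorem e8Cneg_30_23360 : allRange 23360 23380 ((fun k => commNegCheck Cfsg.Lie.chevE8 (k / 240) (k % 240))) = true := by decide +kernel
theorem e8Cneg_30_23380 : allRange 23380 23400 ((fun k => commNegCheck Cfsg.Lie.chevE8 (k / 240) (k % 240))) = true := by decide +kernel
theorem e8Cneg_30_23400 : allRange 23400 23420 ((fun k => commNegCheck Cfsg.Lie.chevE8 (k / 240) (k % 240))) = true := by decide +kernel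
theorem e8Cneg_30_23420 : allRange 23420 23440 ((fun k => commNegCheck Cfsg.Lie.chevE8 (k / 240) (k % 240))) = true := by decide +kernel
theorem e8Cneg_30_23440 : allRange 23440 23460 ((fun k => commNegCheck Cfsg.Lie.chevE8 (k / 240) (k % 240))) = true := by decide +kernel
theorem e8Cneg_30_23460 : allRange 23460 23480 ((fun k => commNegCheck Cfsg.Lie.chevE8 (k / 240) (k % 240))) = true := by decide +kernel
theorem e8Cneg_30_23480 : allRange 23480 23500 ((fun k => commNegCheck Cfsg.Lie.chevE8 (k / 240) (k % 240))) = true := by decide +kernel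
theorem e8Cneg_30_23500 : allRange 23500 23520 ((fun k => commNegCheck Cfsg.Lie.chevE8 (k / 240) (k % 240))) = true := by decide +kernel
theorem e8Cneg_30_23520 : allRange 23520 23540 ((fun k => commNegCheck Cfsg.Lie.chevE8 (k / 240) (k % 240))) = true := by decide +kernel
theorem e8Cneg_30_23540 : allRange 23540 23560 ((fun k => commNegCheck Cfsg.Lie.chevE8 (k / 240) (k % 240))) = true := by decide +kernel

/-- The commutator formula of type E8 for opposite roots (roots 22800 to 23559). -/
theorem e8Cneg_30 : ∀ r, 22800 ≤ r → r < 23560 → ((fun k => commNegCheck Cfsg.Lie.chevE8 (k / 240) (k % 240))) r = true := by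
  intro r h1 h2
  by_cases c0 : r < 22820
  · exact allRange_spec e8Cneg_30_22800 r (by omega) c0
  by_cases c1 : r < 22840
  · exact allRange_spec e8Cneg_30_22820 r (by omega) c1
  by_cases c2 : r < 22860
  · exact allRange_spec e8Cneg_30_22840 r (by omega) c2
  by_cases c3 : r < 22880
  · exact allRange_spec e8Cneg_30_22860 r (by omega) c3
  by_cases c4 : r < 22900
  · exact allRange_spec e8Cneg_30_22880 r (by omega) c4
  by_cases c5 : r < 22920
  · exact allRange_spec e8Cneg_30_22900 r (by omega) c5
  by_cases c6 : r < 22940
  · exact allRange_spec e8Cneg_30_22920 r (by omega) c6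
  by_cases c7 : r < 22960
  · exact allRange_spec e8Cneg_30_22940 r (by omega) c7
  by_cases c8 : r < 22980
  · exact allRange_spec e8Cneg_30_22960 r (by omega) c8
  by_cases c9 : r < 23000
  · exact allRange_spec e8Cneg_30_22980 r (by omega) c9
  by_cases c10 : r < 23020
  · exact allRange_spec e8Cneg_30_23000 r (by omega) c10
  by_cases c11 : r < 23040
  · exact allRange_spec e8Cneg_30_23020 r (by omega) c11
  by_cases c12 : r < 23060
  · exact allRange_spec e8Cneg_30_23040 r (by omega) c12
  by_cases c13 : r < 23080
  · exact allRange_spec e8Cneg_30_23060 r (by omega) c13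
  by_cases c14 : r < 23100
  · exact allRange_spec e8Cneg_30_23080 r (by omega) c14
  by_cases c15 : r < 23120
  · exact allRange_spec e8Cneg_30_23100 r (by omega) c15
  by_cases c16 : r < 23140
  · exact allRange_spec e8Cneg_30_23120 r (by omega) c16
  by_cases c17 : r < 23160
  · exact allRange_spec e8Cneg_30_23140 r (by omega) c17
  by_cases c18 : r < 23180
  · exact allRange_spec e8Cneg_30_23160 r (by omega) c18
  by_cases c19 : r < 23200
  · exact allRange_spec e8Cneg_30_23180 r (by omega) c19
  by_cases c20 : r < 23220
  · exact allRange_spec e8Cneg_30_23200 r (by omega) c20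
  by_cases c21 : r < 23240
  · exact allRange_spec e8Cneg_30_23220 r (by omega) c21
  by_cases c22 : r < 23260
  · exact allRange_spec e8Cneg_30_23240 r (by omega) c22
  by_cases c23 : r < 23280
  · exact allRange_spec e8Cneg_30_23260 r (by omega) c23
  by_cases c24 : r < 23300
  · exact allRange_spec e8Cneg_30_23280 r (by omega) c24
  by_cases c25 : r < 23320
  · exact allRange_spec e8Cneg_30_23300 r (by omega) c25
  by_cases c26 : r < 23340
  · exact allRange_spec e8Cneg_30_23320 r (by omega) c26
  by_cases c27 : r < 23360
  · exact allRange_spec e8Cneg_30_23340 r (by omega) c27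
  by_cases c28 : r < 23380
  · exact allRange_spec e8Cneg_30_23360 r (by omega) c28
  by_cases c29 : r < 23400
  · exact allRange_spec e8Cneg_30_23380 r (by omega) c29
  by_cases c30 : r < 23420
  · exact allRange_spec e8Cneg_30_23400 r (by omega) c30
  by_cases c31 : r < 23440
  · exact allRange_spec e8Cneg_30_23420 r (by omega) c31
  by_cases c32 : r < 23460
  · exact allRange_spec e8Cneg_30_23440 r (by omega) c32
  by_cases c33 : r < 23480
  · exact allRange_spec e8Cneg_30_23460 r (by omega) c33
  by_cases c34 : r < 23500
  · exact allRange_spec e8Cneg_30_23480 r (by omega) c34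
  by_cases c35 : r < 23520
  · exact allRange_spec e8Cneg_30_23500 r (by omega) c35
  by_cases c36 : r < 23540
  · exact allRange_spec e8Cneg_30_23520 r (by omega) c36
  exact allRange_spec e8Cneg_30_23540 r (by omega) h2

end Cfsg.Agent.Lib.Helper3.ChevM
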