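import Cfsg.Prelude.Def_ChevE8
import Cfsg.Agent.Lib.Helper3.StB5
set_option autoImplicit false
set_option maxRecDepth 1000000
set_option Elab.async false

namespace Cfsg.Agent.Lib.Helper3.ChevM
open Cfsg.Agent.Lib.Helper3.StB

theorem e8Cneg_31_23560 : allRange 23560 23580 ((fun k => commNegCheck Cfsg.Lie.chevE8 (k / 240) (k % 240))) = true := by decide +kernel
theorem e8Cneg_31_23580 : allRange 23580 23600 ((fun k => commNegCheck Cfsg.Lie.chevE8 (k / 240) (k % 240))) = true := by decide +kernel
theorem e8Cneg_31_23600 : allRange 23600 23620 ((fun k => commNegCheck Cfsg.Lie.chevE8 (k / 240) (k % 240))) = true := by decide +kernel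
theorem e8Cneg_31_23620 : allRange 23620 23640 ((fun k => commNegCheck Cfsg.Lie.chevE8 (k / 240) (k % 240))) = true := by decide +kernel
theorem e8Cneg_31_23640 : allRange 23640 23660 ((fun k => commNegCheck Cfsg.Lie.chevE8 (k / 240) (k % 240))) = true := by decide +kernel
theorem e8Cneg_31_23660 : allRange 23660 23680 ((fun k => commNegCheck Cfsg.Lie.chevE8 (k / 240) (k % 240))) = true := by decide +kernel
theorem e8Cneg_31_23680 : allRange 23680 23700 ((fun k => commNegCheck Cfsg.Lie.chevE8 (k / 240) (k % 240))) = true := by decide +kernel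
theorem e8Cneg_31_23700 : allRange 23700 23720 ((fun k => commNegCheck Cfsg.Lie.chevE8 (k / 240) (k % 240))) = true := by decide +kernel
theorem e8Cneg_31_23720 : allRange 23720 23740 ((fun k => commNegCheck Cfsg.Lie.chevE8 (k / 240) (k % 240))) = true := by decide +kernel
theorem e8Cneg_31_23740 : allRange 23740 23760 ((fun k => commNegCheck Cfsg.Lie.chevE8 (k / 240) (k % 240))) = true := by decide +kernel
theorem e8Cneg_31_23760 : allRange 23760 23780 ((fun k => commNegCheck Cfsg.Lie.chevE8 (k / 240) (k % 240))) = true := by decide +kernel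
theorem e8Cneg_31_23780 : allRange 23780 23800 ((fun k => commNegCheck Cfsg.Lie.chevE8 (k / 240) (k % 240))) = true := by decide +kernel
theorem e8Cneg_31_23800 : allRange 23800 23820 ((fun k => commNegCheck Cfsg.Lie.chevE8 (k / 240) (k % 240))) = true := by decide +kernel
theorem e8Cneg_31_23820 : allRange 23820 23840 ((fun k => commNegCheck Cfsg.Lie.chevE8 (k / 240) (k % 240))) = true := by decide +kernel
theorem e8Cneg_31_23840 : allRange 23840 23860 ((fun k => commNegCheck Cfsg.Lie.chevE8 (k / 240) (k % 240))) = true := by decide +kernel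
theorem e8Cneg_31_23860 : allRange 23860 23880 ((fun k => commNegCheck Cfsg.Lie.chevE8 (k / 240) (k % 240))) = true := by decide +kernel
theorem e8Cneg_31_23880 : allRange 23880 23900 ((fun k => commNegCheck Cfsg.Lie.chevE8 (k / 240) (k % 240))) = true := by decide +kernel
theorem e8Cneg_31_23900 : allRange 23900 23920 ((fun k => commNegCheck Cfsg.Lie.chevE8 (k / 240) (k % 240))) = true := by decide +kernel
theorem e8Cneg_31_23920 : allRange 23920 23940 ((fun k => commNegCheck Cfsg.Lie.chevE8 (k / 240) (k % 240))) = true := by decide +kernel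
theorem e8Cneg_31_23940 : allRange 23940 23960 ((fun k => commNegCheck Cfsg.Lie.chevE8 (k / 240) (k % 240))) = true := by decide +kernel
theorem e8Cneg_31_23960 : allRange 23960 23980 ((fun k => commNegCheck Cfsg.Lie.chevE8 (k / 240) (k % 240))) = true := by decide +kernel
theorem e8Cneg_31_23980 : allRange 23980 24000 ((fun k => commNegCheck Cfsg.Lie.chevE8 (k / 240) (k % 240))) = true := by decide +kernel
theorem e8Cneg_31_24000 : allRange 24000 24020 ((fun k => commNegCheck Cfsg.Lie.chevE8 (k / 240) (k % 240))) = true := by decide +kernel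
theorem e8Cneg_31_24020 : allRange 24020 24040 ((fun k => commNegCheck Cfsg.Lie.chevE8 (k / 240) (k % 240))) = true := by decide +kernel
theorem e8Cneg_31_24040 : allRange 24040 24060 ((fun k => commNegCheck Cfsg.Lie.chevE8 (k / 240) (k % 240))) = true := by decide +kernel
theorem e8Cneg_31_24060 : allRange 24060 24080 ((fun k => commNegCheck Cfsg.Lie.chevE8 (k / 240) (k % 240))) = true := by decide +kernel
theorem e8Cneg_31_24080 : allRange 24080 24100 ((fun k => commNegCheck Cfsg.Lie.chevE8 (k / 240) (k % 240))) = true := by decide +kernel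
theorem e8Cneg_31_24100 : allRange 24100 24120 ((fun k => commNegCheck Cfsg.Lie.chevE8 (k / 240) (k % 240))) = true := by decide +kernel
theorem e8Cneg_31_24120 : allRange 24120 24140 ((fun k => commNegCheck Cfsg.Lie.chevE8 (k / 240) (k % 240))) = true := by decide +kernel
theorem e8Cneg_31_24140 : allRange 24140 24160 ((fun k => commNegCheck Cfsg.Lie.chevE8 (k / 240) (k % 240))) = true := by decide +kernel
theorem e8Cneg_31_24160 : allRange 24160 24180 ((fun k => commNegCheck Cfsg.Lie.chevE8 (k / 240) (k % 240))) = true := by decide +kernel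
theorem e8Cneg_31_24180 : allRange 24180 24200 ((fun k => commNegCheck Cfsg.Lie.chevE8 (k / 240) (k % 240))) = true := by decide +kernel
theorem e8Cneg_31_24200 : allRange 24200 24220 ((fun k => commNegCheck Cfsg.Lie.chevE8 (k / 240) (k % 240))) = true := by decide +kernel
theorem e8Cneg_31_24220 : allRange 24220 24240 ((fun k => commNegCheck Cfsg.Lie.chevE8 (k / 240) (k % 240))) = true := by decide +kernel
theorem e8Cneg_31_24240 : allRange 24240 24260 ((fun k => commNegCheck Cfsg.Lie.chevE8 (k / 240) (k % 240))) = true := by decide +kernel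
theorem e8Cneg_31_24260 : allRange 24260 24280 ((fun k => commNegCheck Cfsg.Lie.chevE8 (k / 240) (k % 240))) = true := by decide +kernel
theorem e8Cneg_31_24280 : allRange 24280 24300 ((fun k => commNegCheck Cfsg.Lie.chevE8 (k / 240) (k % 240))) = true := by decide +kernel
theorem e8Cneg_31_24300 : allRange 24300 24320 ((fun k => commNegCheck Cfsg.Lie.chevE8 (k / 240) (k % 240))) = true := by decide +kernel

/-- The commutator formula of type E8 for opposite roots (roots 23560 to 24319). -/
theorem e8Cneg_31 : ∀ r, 23560 ≤ r → r < 24320 → ((fun k => commNegCheck Cfsg.Lie.chevE8 (k / 240) (k % 240))) r = true := by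
  intro r h1 h2
  by_cases c0 : r < 23580
  · exact allRange_spec e8Cneg_31_23560 r (by omega) c0
  by_cases c1 : r < 23600
  · exact allRange_spec e8Cneg_31_23580 r (by omega) c1
  by_cases c2 : r < 23620
  · exact allRange_spec e8Cneg_31_23600 r (by omega) c2
  by_cases c3 : r < 23640
  · exact allRange_spec e8Cneg_31_23620 r (by omega) c3
  by_cases c4 : r < 23660
  · exact allRange_spec e8Cneg_31_23640 r (by omega) c4
  by_cases c5 : r < 23680
  · exact allRange_spec e8Cneg_31_23660 r (by omega) c5
  by_cases c6 : r < 23700
  · exact allRange_spec e8Cneg_31_23680 r (by omega) c6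
  by_cases c7 : r < 23720
  · exact allRange_spec e8Cneg_31_23700 r (by omega) c7
  by_cases c8 : r < 23740
  · exact allRange_spec e8Cneg_31_23720 r (by omega) c8
  by_cases c9 : r < 23760
  · exact allRange_spec e8Cneg_31_23740 r (by omega) c9
  by_cases c10 : r < 23780
  · exact allRange_spec e8Cneg_31_23760 r (by omega) c10
  by_cases c11 : r < 23800
  · exact allRange_spec e8Cneg_31_23780 r (by omega) c11
  by_cases c12 : r < 23820
  · exact allRange_spec e8Cneg_31_23800 r (by omega) c12
  by_cases c13 : r < 23840
  · exact allRange_spec e8Cneg_31_23820 r (by omega) c13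
  by_cases c14 : r < 23860
  · exact allRange_spec e8Cneg_31_23840 r (by omega) c14
  by_cases c15 : r < 23880
  · exact allRange_spec e8Cneg_31_23860 r (by omega) c15
  by_cases c16 : r < 23900
  · exact allRange_spec e8Cneg_31_23880 r (by omega) c16
  by_cases c17 : r < 23920
  · exact allRange_spec e8Cneg_31_23900 r (by omega) c17
  by_cases c18 : r < 23940
  · exact allRange_spec e8Cneg_31_23920 r (by omega) c18
  by_cases c19 : r < 23960
  · exact allRange_spec e8Cneg_31_23940 r (by omega) c19
  by_cases c20 : r < 23980
  · exact allRange_spec e8Cneg_31_23960 r (by omega) c20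
  by_cases c21 : r < 24000
  · exact allRange_spec e8Cneg_31_23980 r (by omega) c21
  by_cases c22 : r < 24020
  · exact allRange_spec e8Cneg_31_24000 r (by omega) c22
  by_cases c23 : r < 24040
  · exact allRange_spec e8Cneg_31_24020 r (by omega) c23
  by_cases c24 : r < 24060
  · exact allRange_spec e8Cneg_31_24040 r (by omega) c24
  by_cases c25 : r < 24080
  · exact allRange_spec e8Cneg_31_24060 r (by omega) c25
  by_cases c26 : r < 24100
  · exact allRange_spec e8Cneg_31_24080 r (by omega) c26
  by_cases c27 : r < 24120
  · exact allRange_spec e8Cneg_31_24100 r (by omega) c27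
  by_cases c28 : r < 24140
  · exact allRange_spec e8Cneg_31_24120 r (by omega) c28
  by_cases c29 : r < 24160
  · exact allRange_spec e8Cneg_31_24140 r (by omega) c29
  by_cases c30 : r < 24180
  · exact allRange_spec e8Cneg_31_24160 r (by omega) c30
  by_cases c31 : r < 24200
  · exact allRange_spec e8Cneg_31_24180 r (by omega) c31
  by_cases c32 : r < 24220
  · exact allRange_spec e8Cneg_31_24200 r (by omega) c32
  by_cases c33 : r < 24240
  · exact allRange_spec e8Cneg_31_24220 r (by omega) c33
  by_cases c34 : r < 24260
  · exact allRange_spec e8Cneg_31_24240 r (by omega) c34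
  by_cases c35 : r < 24280
  · exact allRange_spec e8Cneg_31_24260 r (by omega) c35
  by_cases c36 : r < 24300
  · exact allRange_spec e8Cneg_31_24280 r (by omega) c36
  exact allRange_spec e8Cneg_31_24300 r (by omega) h2

end Cfsg.Agent.Lib.Helper3.ChevM
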