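import Cfsg.Prelude.Def_ChevE8
import Cfsg.Agent.Lib.Helper3.StB5
set_option autoImplicit false
set_option maxRecDepth 1000000
set_option Elab.async false

namespace Cfsg.Agent.Lib.Helper3.ChevM
open Cfsg.Agent.Lib.Helper3.StB

theorem e8Cneg_33_25080 : allRange 25080 25100 ((fun k => commNegCheck Cfsg.Lie.chevE8 (k / 240) (k % 240))) = true := by decide +kernel
theorem e8Cneg_33_25100 : allRange 25100 25120 ((fun k => commNegCheck Cfsg.Lie.chevE8 (k / 240) (k % 240))) = true := by decide +kernel
theorem e8Cneg_33_25120 : allRange 25120 25140 ((fun k => commNegCheck Cfsg.Lie.chevE8 (k / 240) (k % 240))) = true := by decide +kernel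
theorem e8Cneg_33_25140 : allRange 25140 25160 ((fun k => commNegCheck Cfsg.Lie.chevE8 (k / 240) (k % 240))) = true := by decide +kernel
theorem e8Cneg_33_25160 : allRange 25160 25180 ((fun k => commNegCheck Cfsg.Lie.chevE8 (k / 240) (k % 240))) = true := by decide +kernel
theorem e8Cneg_33_25180 : allRange 25180 25200 ((fun k => commNegCheck Cfsg.Lie.chevE8 (k / 240) (k % 240))) = true := by decide +kernel
theorem e8Cneg_33_25200 : allRange 25200 25220 ((fun k => commNegCheck Cfsg.Lie.chevE8 (k / 240) (k % 240))) = true := by decide +kernel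
theorem e8Cneg_33_25220 : allRange 25220 25240 ((fun k => commNegCheck Cfsg.Lie.chevE8 (k / 240) (k % 240))) = true := by decide +kernel
theorem e8Cneg_33_25240 : allRange 25240 25260 ((fun k => commNegCheck Cfsg.Lie.chevE8 (k / 240) (k % 240))) = true := by decide +kernel
theorem e8Cneg_33_25260 : allRange 25260 25280 ((fun k => commNegCheck Cfsg.Lie.chevE8 (k / 240) (k % 240))) = true := by decide +kernel
theorem e8Cneg_33_25280 : allRange 25280 25300 ((fun k => commNegCheck Cfsg.Lie.chevE8 (k / 240) (k % 240))) = true := by decide +kernel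
theorem e8Cneg_33_25300 : allRange 25300 25320 ((fun k => commNegCheck Cfsg.Lie.chevE8 (k / 240) (k % 240))) = true := by decide +kernel
theorem e8Cneg_33_25320 : allRange 25320 25340 ((fun k => commNegCheck Cfsg.Lie.chevE8 (k / 240) (k % 240))) = true := by decide +kernel
theorem e8Cneg_33_25340 : allRange 25340 25360 ((fun k => commNegCheck Cfsg.Lie.chevE8 (k / 240) (k % 240))) = true := by decide +kernel
theorem e8Cneg_33_25360 : allRange 25360 25380 ((fun k => commNegCheck Cfsg.Lie.chevE8 (k / 240) (k % 240))) = true := by decide +kernel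
theorem e8Cneg_33_25380 : allRange 25380 25400 ((fun k => commNegCheck Cfsg.Lie.chevE8 (k / 240) (k % 240))) = true := by decide +kernel
theorem e8Cneg_33_25400 : allRange 25400 25420 ((fun k => commNegCheck Cfsg.Lie.chevE8 (k / 240) (k % 240))) = true := by decide +kernel
theorem e8Cneg_33_25420 : allRange 25420 25440 ((fun k => commNegCheck Cfsg.Lie.chevE8 (k / 240) (k % 240))) = true := by decide +kernel
theorem e8Cneg_33_25440 : allRange 25440 25460 ((fun k => commNegCheck Cfsg.Lie.chevE8 (k / 240) (k % 240))) = true := by decide +kernel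
theorem e8Cneg_33_25460 : allRange 25460 25480 ((fun k => commNegCheck Cfsg.Lie.chevE8 (k / 240) (k % 240))) = true := by decide +kernel
theorem e8Cneg_33_25480 : allRange 25480 25500 ((fun k => commNegCheck Cfsg.Lie.chevE8 (k / 240) (k % 240))) = true := by decide +kernel
theorem e8Cneg_33_25500 : allRange 25500 25520 ((fun k => commNegCheck Cfsg.Lie.chevE8 (k / 240) (k % 240))) = true := by decide +kernel
theorem e8Cneg_33_25520 : allRange 25520 25540 ((fun k => commNegCheck Cfsg.Lie.chevE8 (k / 240) (k % 240))) = true := by decide +kernel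
theorem e8Cneg_33_25540 : allRange 25540 25560 ((fun k => commNegCheck Cfsg.Lie.chevE8 (k / 240) (k % 240))) = true := by decide +kernel
theorem e8Cneg_33_25560 : allRange 25560 25580 ((fun k => commNegCheck Cfsg.Lie.chevE8 (k / 240) (k % 240))) = true := by decide +kernel
theorem e8Cneg_33_25580 : allRange 25580 25600 ((fun k => commNegCheck Cfsg.Lie.chevE8 (k / 240) (k % 240))) = true := by decide +kernel
theorem e8Cneg_33_25600 : allRange 25600 25620 ((fun k => commNegCheck Cfsg.Lie.chevE8 (k / 240) (k % 240))) = true := by decide +kernel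
theorem e8Cneg_33_25620 : allRange 25620 25640 ((fun k => commNegCheck Cfsg.Lie.chevE8 (k / 240) (k % 240))) = true := by decide +kernel
theorem e8Cneg_33_25640 : allRange 25640 25660 ((fun k => commNegCheck Cfsg.Lie.chevE8 (k / 240) (k % 240))) = true := by decide +kernel
theorem e8Cneg_33_25660 : allRange 25660 25680 ((fun k => commNegCheck Cfsg.Lie.chevE8 (k / 240) (k % 240))) = true := by decide +kernel
theorem e8Cneg_33_25680 : allRange 25680 25700 ((fun k => commNegCheck Cfsg.Lie.chevE8 (k / 240) (k % 240))) = true := by decide +kernel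
theorem e8Cneg_33_25700 : allRange 25700 25720 ((fun k => commNegCheck Cfsg.Lie.chevE8 (k / 240) (k % 240))) = true := by decide +kernel
theorem e8Cneg_33_25720 : allRange 25720 25740 ((fun k => commNegCheck Cfsg.Lie.chevE8 (k / 240) (k % 240))) = true := by decide +kernel
theorem e8Cneg_33_25740 : allRange 25740 25760 ((fun k => commNegCheck Cfsg.Lie.chevE8 (k / 240) (k % 240))) = true := by decide +kernel
theorem e8Cneg_33_25760 : allRange 25760 25780 ((fun k => commNegCheck Cfsg.Lie.chevE8 (k / 240) (k % 240))) = true := by decide +kernel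
theorem e8Cneg_33_25780 : allRange 25780 25800 ((fun k => commNegCheck Cfsg.Lie.chevE8 (k / 240) (k % 240))) = true := by decide +kernel
theorem e8Cneg_33_25800 : allRange 25800 25820 ((fun k => commNegCheck Cfsg.Lie.chevE8 (k / 240) (k % 240))) = true := by decide +kernel
theorem e8Cneg_33_25820 : allRange 25820 25840 ((fun k => commNegCheck Cfsg.Lie.chevE8 (k / 240) (k % 240))) = true := by decide +kernel

/-- The commutator formula of type E8 for opposite roots (roots 25080 to 25839). -/
theorem e8Cneg_33 : ∀ r, 25080 ≤ r → r < 25840 → ((fun k => commNegCheck Cfsg.Lie.chevE8 (k / 240) (k % 240))) r = true := by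
  intro r h1 h2
  by_cases c0 : r < 25100
  · exact allRange_spec e8Cneg_33_25080 r (by omega) c0
  by_cases c1 : r < 25120
  · exact allRange_spec e8Cneg_33_25100 r (by omega) c1
  by_cases c2 : r < 25140
  · exact allRange_spec e8Cneg_33_25120 r (by omega) c2
  by_cases c3 : r < 25160
  · exact allRange_spec e8Cneg_33_25140 r (by omega) c3
  by_cases c4 : r < 25180
  · exact allRange_spec e8Cneg_33_25160 r (by omega) c4
  by_cases c5 : r < 25200
  · exact allRange_spec e8Cneg_33_25180 r (by omega) c5
  by_cases c6 : r < 25220
  · exact allRange_spec e8Cneg_33_25200 r (by omega) c6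
  by_cases c7 : r < 25240
  · exact allRange_spec e8Cneg_33_25220 r (by omega) c7
  by_cases c8 : r < 25260
  · exact allRange_spec e8Cneg_33_25240 r (by omega) c8
  by_cases c9 : r < 25280
  · exact allRange_spec e8Cneg_33_25260 r (by omega) c9
  by_cases c10 : r < 25300
  · exact allRange_spec e8Cneg_33_25280 r (by omega) c10
  by_cases c11 : r < 25320
  · exact allRange_spec e8Cneg_33_25300 r (by omega) c11
  by_cases c12 : r < 25340
  · exact allRange_spec e8Cneg_33_25320 r (by omega) c12
  by_cases c13 : r < 25360
  · exact allRange_spec e8Cneg_33_25340 r (by omega) c13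
  by_cases c14 : r < 25380
  · exact allRange_spec e8Cneg_33_25360 r (by omega) c14
  by_cases c15 : r < 25400
  · exact allRange_spec e8Cneg_33_25380 r (by omega) c15
  by_cases c16 : r < 25420
  · exact allRange_spec e8Cneg_33_25400 r (by omega) c16
  by_cases c17 : r < 25440
  · exact allRange_spec e8Cneg_33_25420 r (by omega) c17
  by_cases c18 : r < 25460
  · exact allRange_spec e8Cneg_33_25440 r (by omega) c18
  by_cases c19 : r < 25480
  · exact allRange_spec e8Cneg_33_25460 r (by omega) c19
  by_cases c20 : r < 25500
  · exact allRange_spec e8Cneg_33_25480 r (by omega) c20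
  by_cases c21 : r < 25520
  · exact allRange_spec e8Cneg_33_25500 r (by omega) c21
  by_cases c22 : r < 25540
  · exact allRange_spec e8Cneg_33_25520 r (by omega) c22
  by_cases c23 : r < 25560
  · exact allRange_spec e8Cneg_33_25540 r (by omega) c23
  by_cases c24 : r < 25580
  · exact allRange_spec e8Cneg_33_25560 r (by omega) c24
  by_cases c25 : r < 25600
  · exact allRange_spec e8Cneg_33_25580 r (by omega) c25
  by_cases c26 : r < 25620
  · exact allRange_spec e8Cneg_33_25600 r (by omega) c26
  by_cases c27 : r < 25640
  · exact allRange_spec e8Cneg_33_25620 r (by omega) c27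
  by_cases c28 : r < 25660
  · exact allRange_spec e8Cneg_33_25640 r (by omega) c28
  by_cases c29 : r < 25680
  · exact allRange_spec e8Cneg_33_25660 r (by omega) c29
  by_cases c30 : r < 25700
  · exact allRange_spec e8Cneg_33_25680 r (by omega) c30
  by_cases c31 : r < 25720
  · exact allRange_spec e8Cneg_33_25700 r (by omega) c31
  by_cases c32 : r < 25740
  · exact allRange_spec e8Cneg_33_25720 r (by omega) c32
  by_cases c33 : r < 25760
  · exact allRange_spec e8Cneg_33_25740 r (by omega) c33
  by_cases c34 : r < 25780
  · exact allRange_spec e8Cneg_33_25760 r (by omega) c34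
  by_cases c35 : r < 25800
  · exact allRange_spec e8Cneg_33_25780 r (by omega) c35
  by_cases c36 : r < 25820
  · exact allRange_spec e8Cneg_33_25800 r (by omega) c36
  exact allRange_spec e8Cneg_33_25820 r (by omega) h2

end Cfsg.Agent.Lib.Helper3.ChevM
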