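import Cfsg.Prelude.Def_ChevE8
import Cfsg.Agent.Lib.Helper3.StB5
set_option autoImplicit false
set_option maxRecDepth 1000000
set_option Elab.async false

namespace Cfsg.Agent.Lib.Helper3.ChevM
open Cfsg.Agent.Lib.Helper3.StB

theorem e8Cneg_34_25840 : allRange 25840 25860 ((fun k => commNegCheck Cfsg.Lie.chevE8 (k / 240) (k % 240))) = true := by decide +kernel
theorem e8Cneg_34_25860 : allRange 25860 25880 ((fun k => commNegCheck Cfsg.Lie.chevE8 (k / 240) (k % 240))) = true := by decide +kernel
theorem e8Cneg_34_25880 : allRange 25880 25900 ((fun k => commNegCheck Cfsg.Lie.chevE8 (k / 240) (k % 240))) = true := by decide +kernel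
theorem e8Cneg_34_25900 : allRange 25900 25920 ((fun k => commNegCheck Cfsg.Lie.chevE8 (k / 240) (k % 240))) = true := by decide +kernel
theorem e8Cneg_34_25920 : allRange 25920 25940 ((fun k => commNegCheck Cfsg.Lie.chevE8 (k / 240) (k % 240))) = true := by decide +kernel
theorem e8Cneg_34_25940 : allRange 25940 25960 ((fun k => commNegCheck Cfsg.Lie.chevE8 (k / 240) (k % 240))) = true := by decide +kernel
theorem e8Cneg_34_25960 : allRange 25960 25980 ((fun k => commNegCheck Cfsg.Lie.chevE8 (k / 240) (k % 240))) = true := by decide +kernel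
theorem e8Cneg_34_25980 : allRange 25980 26000 ((fun k => commNegCheck Cfsg.Lie.chevE8 (k / 240) (k % 240))) = true := by decide +kernel
theorem e8Cneg_34_26000 : allRange 26000 26020 ((fun k => commNegCheck Cfsg.Lie.chevE8 (k / 240) (k % 240))) = true := by decide +kernel
theorem e8Cneg_34_26020 : allRange 26020 26040 ((fun k => commNegCheck Cfsg.Lie.chevE8 (k / 240) (k % 240))) = true := by decide +kernel
theorem e8Cneg_34_26040 : allRange 26040 26060 ((fun k => commNegCheck Cfsg.Lie.chevE8 (k / 240) (k % 240))) = true := by decide +kernel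
theorem e8Cneg_34_26060 : allRange 26060 26080 ((fun k => commNegCheck Cfsg.Lie.chevE8 (k / 240) (k % 240))) = true := by decide +kernel
theorem e8Cneg_34_26080 : allRange 26080 26100 ((fun k => commNegCheck Cfsg.Lie.chevE8 (k / 240) (k % 240))) = true := by decide +kernel
theorem e8Cneg_34_26100 : allRange 26100 26120 ((fun k => commNegCheck Cfsg.Lie.chevE8 (k / 240) (k % 240))) = true := by decide +kernel
theorem e8Cneg_34_26120 : allRange 26120 26140 ((fun k => commNegCheck Cfsg.Lie.chevE8 (k / 240) (k % 240))) = true := by decide +kernel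
theorem e8Cneg_34_26140 : allRange 26140 26160 ((fun k => commNegCheck Cfsg.Lie.chevE8 (k / 240) (k % 240))) = true := by decide +kernel
theorem e8Cneg_34_26160 : allRange 26160 26180 ((fun k => commNegCheck Cfsg.Lie.chevE8 (k / 240) (k % 240))) = true := by decide +kernel
theorem e8Cneg_34_26180 : allRange 26180 26200 ((fun k => commNegCheck Cfsg.Lie.chevE8 (k / 240) (k % 240))) = true := by decide +kernel
theorem e8Cneg_34_26200 : allRange 26200 26220 ((fun k => commNegCheck Cfsg.Lie.chevE8 (k / 240) (k % 240))) = true := by decide +kernel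
theorem e8Cneg_34_26220 : allRange 26220 26240 ((fun k => commNegCheck Cfsg.Lie.chevE8 (k / 240) (k % 240))) = true := by decide +kernel
theorem e8Cneg_34_26240 : allRange 26240 26260 ((fun k => commNegCheck Cfsg.Lie.chevE8 (k / 240) (k % 240))) = true := by decide +kernel
theorem e8Cneg_34_26260 : allRange 26260 26280 ((fun k => commNegCheck Cfsg.Lie.chevE8 (k / 240) (k % 240))) = true := by decide +kernel
theorem e8Cneg_34_26280 : allRange 26280 26300 ((fun k => commNegCheck Cfsg.Lie.chevE8 (k / 240) (k % 240))) = true := by decide +kernel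
theorem e8Cneg_34_26300 : allRange 26300 26320 ((fun k => commNegCheck Cfsg.Lie.chevE8 (k / 240) (k % 240))) = true := by decide +kernel
theorem e8Cneg_34_26320 : allRange 26320 26340 ((fun k => commNegCheck Cfsg.Lie.chevE8 (k / 240) (k % 240))) = true := by decide +kernel
theorem e8Cneg_34_26340 : allRange 26340 26360 ((fun k => commNegCheck Cfsg.Lie.chevE8 (k / 240) (k % 240))) = true := by decide +kernel
theorem e8Cneg_34_26360 : allRange 26360 26380 ((fun k => commNegCheck Cfsg.Lie.chevE8 (k / 240) (k % 240))) = true := by decide +kernel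
theorem e8Cneg_34_26380 : allRange 26380 26400 ((fun k => commNegCheck Cfsg.Lie.chevE8 (k / 240) (k % 240))) = true := by decide +kernel
theorem e8Cneg_34_26400 : allRange 26400 26420 ((fun k => commNegCheck Cfsg.Lie.chevE8 (k / 240) (k % 240))) = true := by decide +kernel
theorem e8Cneg_34_26420 : allRange 26420 26440 ((fun k => commNegCheck Cfsg.Lie.chevE8 (k / 240) (k % 240))) = true := by decide +kernel
theorem e8Cneg_34_26440 : allRange 26440 26460 ((fun k => commNegCheck Cfsg.Lie.chevE8 (k / 240) (k % 240))) = true := by decide +kernel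
theorem e8Cneg_34_26460 : allRange 26460 26480 ((fun k => commNegCheck Cfsg.Lie.chevE8 (k / 240) (k % 240))) = true := by decide +kernel
theorem e8Cneg_34_26480 : allRange 26480 26500 ((fun k => commNegCheck Cfsg.Lie.chevE8 (k / 240) (k % 240))) = true := by decide +kernel
theorem e8Cneg_34_26500 : allRange 26500 26520 ((fun k => commNegCheck Cfsg.Lie.chevE8 (k / 240) (k % 240))) = true := by decide +kernel
theorem e8Cneg_34_26520 : allRange 26520 26540 ((fun k => commNegCheck Cfsg.Lie.chevE8 (k / 240) (k % 240))) = true := by decide +kernel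
theorem e8Cneg_34_26540 : allRange 26540 26560 ((fun k => commNegCheck Cfsg.Lie.chevE8 (k / 240) (k % 240))) = true := by decide +kernel
theorem e8Cneg_34_26560 : allRange 26560 26580 ((fun k => commNegCheck Cfsg.Lie.chevE8 (k / 240) (k % 240))) = true := by decide +kernel
theorem e8Cneg_34_26580 : allRange 26580 26600 ((fun k => commNegCheck Cfsg.Lie.chevE8 (k / 240) (k % 240))) = true := by decide +kernel

/-- The commutator formula of type E8 for opposite roots (roots 25840 to 26599). -/
theorem e8Cneg_34 : ∀ r, 25840 ≤ r → r < 26600 → ((fun k => commNegCheck Cfsg.Lie.chevE8 (k / 240) (k % 240))) r = true := by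
  intro r h1 h2
  by_cases c0 : r < 25860
  · exact allRange_spec e8Cneg_34_25840 r (by omega) c0
  by_cases c1 : r < 25880
  · exact allRange_spec e8Cneg_34_25860 r (by omega) c1
  by_cases c2 : r < 25900
  · exact allRange_spec e8Cneg_34_25880 r (by omega) c2
  by_cases c3 : r < 25920
  · exact allRange_spec e8Cneg_34_25900 r (by omega) c3
  by_cases c4 : r < 25940
  · exact allRange_spec e8Cneg_34_25920 r (by omega) c4
  by_cases c5 : r < 25960
  · exact allRange_spec e8Cneg_34_25940 r (by omega) c5
  by_cases c6 : r < 25980
  · exact allRange_spec e8Cneg_34_25960 r (by omega) c6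
  by_cases c7 : r < 26000
  · exact allRange_spec e8Cneg_34_25980 r (by omega) c7
  by_cases c8 : r < 26020
  · exact allRange_spec e8Cneg_34_26000 r (by omega) c8
  by_cases c9 : r < 26040
  · exact allRange_spec e8Cneg_34_26020 r (by omega) c9
  by_cases c10 : r < 26060
  · exact allRange_spec e8Cneg_34_26040 r (by omega) c10
  by_cases c11 : r < 26080
  · exact allRange_spec e8Cneg_34_26060 r (by omega) c11
  by_cases c12 : r < 26100
  · exact allRange_spec e8Cneg_34_26080 r (by omega) c12
  by_cases c13 : r < 26120
  · exact allRange_spec e8Cneg_34_26100 r (by omega) c13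
  by_cases c14 : r < 26140
  · exact allRange_spec e8Cneg_34_26120 r (by omega) c14
  by_cases c15 : r < 26160
  · exact allRange_spec e8Cneg_34_26140 r (by omega) c15
  by_cases c16 : r < 26180
  · exact allRange_spec e8Cneg_34_26160 r (by omega) c16
  by_cases c17 : r < 26200
  · exact allRange_spec e8Cneg_34_26180 r (by omega) c17
  by_cases c18 : r < 26220
  · exact allRange_spec e8Cneg_34_26200 r (by omega) c18
  by_cases c19 : r < 26240
  · exact allRange_spec e8Cneg_34_26220 r (by omega) c19
  by_cases c20 : r < 26260
  · exact allRange_spec e8Cneg_34_26240 r (by omega) c20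
  by_cases c21 : r < 26280
  · exact allRange_spec e8Cneg_34_26260 r (by omega) c21
  by_cases c22 : r < 26300
  · exact allRange_spec e8Cneg_34_26280 r (by omega) c22
  by_cases c23 : r < 26320
  · exact allRange_spec e8Cneg_34_26300 r (by omega) c23
  by_cases c24 : r < 26340
  · exact allRange_spec e8Cneg_34_26320 r (by omega) c24
  by_cases c25 : r < 26360
  · exact allRange_spec e8Cneg_34_26340 r (by omega) c25
  by_cases c26 : r < 26380
  · exact allRange_spec e8Cneg_34_26360 r (by omega) c26
  by_cases c27 : r < 26400
  · exact allRange_spec e8Cneg_34_26380 r (by omega) c27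
  by_cases c28 : r < 26420
  · exact allRange_spec e8Cneg_34_26400 r (by omega) c28
  by_cases c29 : r < 26440
  · exact allRange_spec e8Cneg_34_26420 r (by omega) c29
  by_cases c30 : r < 26460
  · exact allRange_spec e8Cneg_34_26440 r (by omega) c30
  by_cases c31 : r < 26480
  · exact allRange_spec e8Cneg_34_26460 r (by omega) c31
  by_cases c32 : r < 26500
  · exact allRange_spec e8Cneg_34_26480 r (by omega) c32
  by_cases c33 : r < 26520
  · exact allRange_spec e8Cneg_34_26500 r (by omega) c33
  by_cases c34 : r < 26540
  · exact allRange_spec e8Cneg_34_26520 r (by omega) c34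
  by_cases c35 : r < 26560
  · exact allRange_spec e8Cneg_34_26540 r (by omega) c35
  by_cases c36 : r < 26580
  · exact allRange_spec e8Cneg_34_26560 r (by omega) c36
  exact allRange_spec e8Cneg_34_26580 r (by omega) h2

end Cfsg.Agent.Lib.Helper3.ChevM
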