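import Cfsg.Prelude.Def_ChevE8
import Cfsg.Agent.Lib.Helper3.StB5
set_option autoImplicit false
set_option maxRecDepth 1000000
set_option Elab.async false

namespace Cfsg.Agent.Lib.Helper3.ChevM
open Cfsg.Agent.Lib.Helper3.StB

theorem e8Cneg_35_26600 : allRange 26600 26620 ((fun k => commNegCheck Cfsg.Lie.chevE8 (k / 240) (k % 240))) = true := by decide +kernel
theorem e8Cneg_35_26620 : allRange 26620 26640 ((fun k => commNegCheck Cfsg.Lie.chevE8 (k / 240) (k % 240))) = true := by decide +kernel
theorem e8Cneg_35_26640 : allRange 26640 26660 ((fun k => commNegCheck Cfsg.Lie.chevE8 (k / 240) (k % 240))) = true := by decide +kernel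
theorem e8Cneg_35_26660 : allRange 26660 26680 ((fun k => commNegCheck Cfsg.Lie.chevE8 (k / 240) (k % 240))) = true := by decide +kernel
theorem e8Cneg_35_26680 : allRange 26680 26700 ((fun k => commNegCheck Cfsg.Lie.chevE8 (k / 240) (k % 240))) = true := by decide +kernel
theorem e8Cneg_35_26700 : allRange 26700 26720 ((fun k => commNegCheck Cfsg.Lie.chevE8 (k / 240) (k % 240))) = true := by decide +kernel
theorem e8Cneg_35_26720 : allRange 26720 26740 ((fun k => commNegCheck Cfsg.Lie.chevE8 (k / 240) (k % 240))) = true := by decide +kernel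
theorem e8Cneg_35_26740 : allRange 26740 26760 ((fun k => commNegCheck Cfsg.Lie.chevE8 (k / 240) (k % 240))) = true := by decide +kernel
theorem e8Cneg_35_26760 : allRange 26760 26780 ((fun k => commNegCheck Cfsg.Lie.chevE8 (k / 240) (k % 240))) = true := by decide +kernel
theorem e8Cneg_35_26780 : allRange 26780 26800 ((fun k => commNegCheck Cfsg.Lie.chevE8 (k / 240) (k % 240))) = true := by decide +kernel
theorem e8Cneg_35_26800 : allRange 26800 26820 ((fun k => commNegCheck Cfsg.Lie.chevE8 (k / 240) (k % 240))) = true := by decide +kernel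
theorem e8Cneg_35_26820 : allRange 26820 26840 ((fun k => commNegCheck Cfsg.Lie.chevE8 (k / 240) (k % 240))) = true := by decide +kernel
theorem e8Cneg_35_26840 : allRange 26840 26860 ((fun k => commNegCheck Cfsg.Lie.chevE8 (k / 240) (k % 240))) = true := by decide +kernel
theorem e8Cneg_35_26860 : allRange 26860 26880 ((fun k => commNegCheck Cfsg.Lie.chevE8 (k / 240) (k % 240))) = true := by decide +kernel
theorem e8Cneg_35_26880 : allRange 26880 26900 ((fun k => commNegCheck Cfsg.Lie.chevE8 (k / 240) (k % 240))) = true := by decide +kernel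
theorem e8Cneg_35_26900 : allRange 26900 26920 ((fun k => commNegCheck Cfsg.Lie.chevE8 (k / 240) (k % 240))) = true := by decide +kernel
theorem e8Cneg_35_26920 : allRange 26920 26940 ((fun k => commNegCheck Cfsg.Lie.chevE8 (k / 240) (k % 240))) = true := by decide +kernel
theorem e8Cneg_35_26940 : allRange 26940 26960 ((fun k => commNegCheck Cfsg.Lie.chevE8 (k / 240) (k % 240))) = true := by decide +kernel
theorem e8Cneg_35_26960 : allRange 26960 26980 ((fun k => commNegCheck Cfsg.Lie.chevE8 (k / 240) (k % 240))) = true := by decide +kernel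
theorem e8Cneg_35_26980 : allRange 26980 27000 ((fun k => commNegCheck Cfsg.Lie.chevE8 (k / 240) (k % 240))) = true := by decide +kernel
theorem e8Cneg_35_27000 : allRange 27000 27020 ((fun k => commNegCheck Cfsg.Lie.chevE8 (k / 240) (k % 240))) = true := by decide +kernel
theorem e8Cneg_35_27020 : allRange 27020 27040 ((fun k => commNegCheck Cfsg.Lie.chevE8 (k / 240) (k % 240))) = true := by decide +kernel
theorem e8Cneg_35_27040 : allRange 27040 27060 ((fun k => commNegCheck Cfsg.Lie.chevE8 (k / 240) (k % 240))) = true := by decide +kernel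
theorem e8Cneg_35_27060 : allRange 27060 27080 ((fun k => commNegCheck Cfsg.Lie.chevE8 (k / 240) (k % 240))) = true := by decide +kernel
theorem e8Cneg_35_27080 : allRange 27080 27100 ((fun k => commNegCheck Cfsg.Lie.chevE8 (k / 240) (k % 240))) = true := by decide +kernel
theorem e8Cneg_35_27100 : allRange 27100 27120 ((fun k => commNegCheck Cfsg.Lie.chevE8 (k / 240) (k % 240))) = true := by decide +kernel
theorem e8Cneg_35_27120 : allRange 27120 27140 ((fun k => commNegCheck Cfsg.Lie.chevE8 (k / 240) (k % 240))) = true := by decide +kernel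
theorem e8Cneg_35_27140 : allRange 27140 27160 ((fun k => commNegCheck Cfsg.Lie.chevE8 (k / 240) (k % 240))) = true := by decide +kernel
theorem e8Cneg_35_27160 : allRange 27160 27180 ((fun k => commNegCheck Cfsg.Lie.chevE8 (k / 240) (k % 240))) = true := by decide +kernel
theorem e8Cneg_35_27180 : allRange 27180 27200 ((fun k => commNegCheck Cfsg.Lie.chevE8 (k / 240) (k % 240))) = true := by decide +kernel
theorem e8Cneg_35_27200 : allRange 27200 27220 ((fun k => commNegCheck Cfsg.Lie.chevE8 (k / 240) (k % 240))) = true := by decide +kernel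
theorem e8Cneg_35_27220 : allRange 27220 27240 ((fun k => commNegCheck Cfsg.Lie.chevE8 (k / 240) (k % 240))) = true := by decide +kernel
theorem e8Cneg_35_27240 : allRange 27240 27260 ((fun k => commNegCheck Cfsg.Lie.chevE8 (k / 240) (k % 240))) = true := by decide +kernel
theorem e8Cneg_35_27260 : allRange 27260 27280 ((fun k => commNegCheck Cfsg.Lie.chevE8 (k / 240) (k % 240))) = true := by decide +kernel
theorem e8Cneg_35_27280 : allRange 27280 27300 ((fun k => commNegCheck Cfsg.Lie.chevE8 (k / 240) (k % 240))) = true := by decide +kernel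
theorem e8Cneg_35_27300 : allRange 27300 27320 ((fun k => commNegCheck Cfsg.Lie.chevE8 (k / 240) (k % 240))) = true := by decide +kernel
theorem e8Cneg_35_27320 : allRange 27320 27340 ((fun k => commNegCheck Cfsg.Lie.chevE8 (k / 240) (k % 240))) = true := by decide +kernel
theorem e8Cneg_35_27340 : allRange 27340 27360 ((fun k => commNegCheck Cfsg.Lie.chevE8 (k / 240) (k % 240))) = true := by decide +kernel

/-- The commutator formula of type E8 for opposite roots (roots 26600 to 27359). -/
theorem e8Cneg_35 : ∀ r, 26600 ≤ r → r < 27360 → ((fun k => commNegCheck Cfsg.Lie.chevE8 (k / 240) (k % 240))) r = true := by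
  intro r h1 h2
  by_cases c0 : r < 26620
  · exact allRange_spec e8Cneg_35_26600 r (by omega) c0
  by_cases c1 : r < 26640
  · exact allRange_spec e8Cneg_35_26620 r (by omega) c1
  by_cases c2 : r < 26660
  · exact allRange_spec e8Cneg_35_26640 r (by omega) c2
  by_cases c3 : r < 26680
  · exact allRange_spec e8Cneg_35_26660 r (by omega) c3
  by_cases c4 : r < 26700
  · exact allRange_spec e8Cneg_35_26680 r (by omega) c4
  by_cases c5 : r < 26720
  · exact allRange_spec e8Cneg_35_26700 r (by omega) c5
  by_cases c6 : r < 26740
  · exact allRange_spec e8Cneg_35_26720 r (by omega) c6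
  by_cases c7 : r < 26760
  · exact allRange_spec e8Cneg_35_26740 r (by omega) c7
  by_cases c8 : r < 26780
  · exact allRange_spec e8Cneg_35_26760 r (by omega) c8
  by_cases c9 : r < 26800
  · exact allRange_spec e8Cneg_35_26780 r (by omega) c9
  by_cases c10 : r < 26820
  · exact allRange_spec e8Cneg_35_26800 r (by omega) c10
  by_cases c11 : r < 26840
  · exact allRange_spec e8Cneg_35_26820 r (by omega) c11
  by_cases c12 : r < 26860
  · exact allRange_spec e8Cneg_35_26840 r (by omega) c12
  by_cases c13 : r < 26880
  · exact allRange_spec e8Cneg_35_26860 r (by omega) c13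
  by_cases c14 : r < 26900
  · exact allRange_spec e8Cneg_35_26880 r (by omega) c14
  by_cases c15 : r < 26920
  · exact allRange_spec e8Cneg_35_26900 r (by omega) c15
  by_cases c16 : r < 26940
  · exact allRange_spec e8Cneg_35_26920 r (by omega) c16
  by_cases c17 : r < 26960
  · exact allRange_spec e8Cneg_35_26940 r (by omega) c17
  by_cases c18 : r < 26980
  · exact allRange_spec e8Cneg_35_26960 r (by omega) c18
  by_cases c19 : r < 27000
  · exact allRange_spec e8Cneg_35_26980 r (by omega) c19
  by_cases c20 : r < 27020
  · exact allRange_spec e8Cneg_35_27000 r (by omega) c20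
  by_cases c21 : r < 27040
  · exact allRange_spec e8Cneg_35_27020 r (by omega) c21
  by_cases c22 : r < 27060
  · exact allRange_spec e8Cneg_35_27040 r (by omega) c22
  by_cases c23 : r < 27080
  · exact allRange_spec e8Cneg_35_27060 r (by omega) c23
  by_cases c24 : r < 27100
  · exact allRange_spec e8Cneg_35_27080 r (by omega) c24
  by_cases c25 : r < 27120
  · exact allRange_spec e8Cneg_35_27100 r (by omega) c25
  by_cases c26 : r < 27140
  · exact allRange_spec e8Cneg_35_27120 r (by omega) c26
  by_cases c27 : r < 27160
  · exact allRange_spec e8Cneg_35_27140 r (by omega) c27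
  by_cases c28 : r < 27180
  · exact allRange_spec e8Cneg_35_27160 r (by omega) c28
  by_cases c29 : r < 27200
  · exact allRange_spec e8Cneg_35_27180 r (by omega) c29
  by_cases c30 : r < 27220
  · exact allRange_spec e8Cneg_35_27200 r (by omega) c30
  by_cases c31 : r < 27240
  · exact allRange_spec e8Cneg_35_27220 r (by omega) c31
  by_cases c32 : r < 27260
  · exact allRange_spec e8Cneg_35_27240 r (by omega) c32
  by_cases c33 : r < 27280
  · exact allRange_spec e8Cneg_35_27260 r (by omega) c33
  by_cases c34 : r < 27300
  · exact allRange_spec e8Cneg_35_27280 r (by omega) c34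
  by_cases c35 : r < 27320
  · exact allRange_spec e8Cneg_35_27300 r (by omega) c35
  by_cases c36 : r < 27340
  · exact allRange_spec e8Cneg_35_27320 r (by omega) c36
  exact allRange_spec e8Cneg_35_27340 r (by omega) h2

end Cfsg.Agent.Lib.Helper3.ChevM
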