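import Cfsg.Prelude.Def_ChevE8
import Cfsg.Agent.Lib.Helper3.StB5
set_option autoImplicit false
set_option maxRecDepth 1000000
set_option Elab.async false

namespace Cfsg.Agent.Lib.Helper3.ChevM
open Cfsg.Agent.Lib.Helper3.StB

theorem e8Cneg_36_27360 : allRange 27360 27380 ((fun k => commNegCheck Cfsg.Lie.chevE8 (k / 240) (k % 240))) = true := by decide +kernel
theorem e8Cneg_36_27380 : allRange 27380 27400 ((fun k => commNegCheck Cfsg.Lie.chevE8 (k / 240) (k % 240))) = true := by decide +kernel
theorem e8Cneg_36_27400 : allRange 27400 27420 ((fun k => commNegCheck Cfsg.Lie.chevE8 (k / 240) (k % 240))) = true := by decide +kernel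
theorem e8Cneg_36_27420 : allRange 27420 27440 ((fun k => commNegCheck Cfsg.Lie.chevE8 (k / 240) (k % 240))) = true := by decide +kernel
theorem e8Cneg_36_27440 : allRange 27440 27460 ((fun k => commNegCheck Cfsg.Lie.chevE8 (k / 240) (k % 240))) = true := by decide +kernel
theorem e8Cneg_36_27460 : allRange 27460 27480 ((fun k => commNegCheck Cfsg.Lie.chevE8 (k / 240) (k % 240))) = true := by decide +kernel
theorem e8Cneg_36_27480 : allRange 27480 27500 ((fun k => commNegCheck Cfsg.Lie.chevE8 (k / 240) (k % 240))) = true := by decide +kernel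
theorem e8Cneg_36_27500 : allRange 27500 27520 ((fun k => commNegCheck Cfsg.Lie.chevE8 (k / 240) (k % 240))) = true := by decide +kernel
theorem e8Cneg_36_27520 : allRange 27520 27540 ((fun k => commNegCheck Cfsg.Lie.chevE8 (k / 240) (k % 240))) = true := by decide +kernel
theorem e8Cneg_36_27540 : allRange 27540 27560 ((fun k => commNegCheck Cfsg.Lie.chevE8 (k / 240) (k % 240))) = true := by decide +kernel
theorem e8Cneg_36_27560 : allRange 27560 27580 ((fun k => commNegCheck Cfsg.Lie.chevE8 (k / 240) (k % 240))) = true := by decide +kernel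
theorem e8Cneg_36_27580 : allRange 27580 27600 ((fun k => commNegCheck Cfsg.Lie.chevE8 (k / 240) (k % 240))) = true := by decide +kernel
theorem e8Cneg_36_27600 : allRange 27600 27620 ((fun k => commNegCheck Cfsg.Lie.chevE8 (k / 240) (k % 240))) = true := by decide +kernel
theorem e8Cneg_36_27620 : allRange 27620 27640 ((fun k => commNegCheck Cfsg.Lie.chevE8 (k / 240) (k % 240))) = true := by decide +kernel
theorem e8Cneg_36_27640 : allRange 27640 27660 ((fun k => commNegCheck Cfsg.Lie.chevE8 (k / 240) (k % 240))) = true := by decide +kernel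
theorem e8Cneg_36_27660 : allRange 27660 27680 ((fun k => commNegCheck Cfsg.Lie.chevE8 (k / 240) (k % 240))) = true := by decide +kernel
theorem e8Cneg_36_27680 : allRange 27680 27700 ((fun k => commNegCheck Cfsg.Lie.chevE8 (k / 240) (k % 240))) = true := by decide +kernel
theorem e8Cneg_36_27700 : allRange 27700 27720 ((fun k => commNegCheck Cfsg.Lie.chevE8 (k / 240) (k % 240))) = true := by decide +kernel
theorem e8Cneg_36_27720 : allRange 27720 27740 ((fun k => commNegCheck Cfsg.Lie.chevE8 (k / 240) (k % 240))) = true := by decide +kernel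
theorem e8Cneg_36_27740 : allRange 27740 27760 ((fun k => commNegCheck Cfsg.Lie.chevE8 (k / 240) (k % 240))) = true := by decide +kernel
theorem e8Cneg_36_27760 : allRange 27760 27780 ((fun k => commNegCheck Cfsg.Lie.chevE8 (k / 240) (k % 240))) = true := by decide +kernel
theorem e8Cneg_36_27780 : allRange 27780 27800 ((fun k => commNegCheck Cfsg.Lie.chevE8 (k / 240) (k % 240))) = true := by decide +kernel
theorem e8Cneg_36_27800 : allRange 27800 27820 ((fun k => commNegCheck Cfsg.Lie.chevE8 (k / 240) (k % 240))) = true := by decide +kernel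
theorem e8Cneg_36_27820 : allRange 27820 27840 ((fun k => commNegCheck Cfsg.Lie.chevE8 (k / 240) (k % 240))) = true := by decide +kernel
theorem e8Cneg_36_27840 : allRange 27840 27860 ((fun k => commNegCheck Cfsg.Lie.chevE8 (k / 240) (k % 240))) = true := by decide +kernel
theorem e8Cneg_36_27860 : allRange 27860 27880 ((fun k => commNegCheck Cfsg.Lie.chevE8 (k / 240) (k % 240))) = true := by decide +kernel
theorem e8Cneg_36_27880 : allRange 27880 27900 ((fun k => commNegCheck Cfsg.Lie.chevE8 (k / 240) (k % 240))) = true := by decide +kernel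
theorem e8Cneg_36_27900 : allRange 27900 27920 ((fun k => commNegCheck Cfsg.Lie.chevE8 (k / 240) (k % 240))) = true := by decide +kernel
theorem e8Cneg_36_27920 : allRange 27920 27940 ((fun k => commNegCheck Cfsg.Lie.chevE8 (k / 240) (k % 240))) = true := by decide +kernel
theorem e8Cneg_36_27940 : allRange 27940 27960 ((fun k => commNegCheck Cfsg.Lie.chevE8 (k / 240) (k % 240))) = true := by decide +kernel
theorem e8Cneg_36_27960 : allRange 27960 27980 ((fun k => commNegCheck Cfsg.Lie.chevE8 (k / 240) (k % 240))) = true := by decide +kernel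
theorem e8Cneg_36_27980 : allRange 27980 28000 ((fun k => commNegCheck Cfsg.Lie.chevE8 (k / 240) (k % 240))) = true := by decide +kernel
theorem e8Cneg_36_28000 : allRange 28000 28020 ((fun k => commNegCheck Cfsg.Lie.chevE8 (k / 240) (k % 240))) = true := by decide +kernel
theorem e8Cneg_36_28020 : allRange 28020 28040 ((fun k => commNegCheck Cfsg.Lie.chevE8 (k / 240) (k % 240))) = true := by decide +kernel
theorem e8Cneg_36_28040 : allRange 28040 28060 ((fun k => commNegCheck Cfsg.Lie.chevE8 (k / 240) (k % 240))) = true := by decide +kernel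
theorem e8Cneg_36_28060 : allRange 28060 28080 ((fun k => commNegCheck Cfsg.Lie.chevE8 (k / 240) (k % 240))) = true := by decide +kernel
theorem e8Cneg_36_28080 : allRange 28080 28100 ((fun k => commNegCheck Cfsg.Lie.chevE8 (k / 240) (k % 240))) = true := by decide +kernel
theorem e8Cneg_36_28100 : allRange 28100 28120 ((fun k => commNegCheck Cfsg.Lie.chevE8 (k / 240) (k % 240))) = true := by decide +kernel

/-- The commutator formula of type E8 for opposite roots (roots 27360 to 28119). -/
theorem e8Cneg_36 : ∀ r, 27360 ≤ r → r < 28120 → ((fun k => commNegCheck Cfsg.Lie.chevE8 (k / 240) (k % 240))) r = true := by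
  intro r h1 h2
  by_cases c0 : r < 27380
  · exact allRange_spec e8Cneg_36_27360 r (by omega) c0
  by_cases c1 : r < 27400
  · exact allRange_spec e8Cneg_36_27380 r (by omega) c1
  by_cases c2 : r < 27420
  · exact allRange_spec e8Cneg_36_27400 r (by omega) c2
  by_cases c3 : r < 27440
  · exact allRange_spec e8Cneg_36_27420 r (by omega) c3
  by_cases c4 : r < 27460
  · exact allRange_spec e8Cneg_36_27440 r (by omega) c4
  by_cases c5 : r < 27480
  · exact allRange_spec e8Cneg_36_27460 r (by omega) c5
  by_cases c6 : r < 27500
  · exact allRange_spec e8Cneg_36_27480 r (by omega) c6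
  by_cases c7 : r < 27520
  · exact allRange_spec e8Cneg_36_27500 r (by omega) c7
  by_cases c8 : r < 27540
  · exact allRange_spec e8Cneg_36_27520 r (by omega) c8
  by_cases c9 : r < 27560
  · exact allRange_spec e8Cneg_36_27540 r (by omega) c9
  by_cases c10 : r < 27580
  · exact allRange_spec e8Cneg_36_27560 r (by omega) c10
  by_cases c11 : r < 27600
  · exact allRange_spec e8Cneg_36_27580 r (by omega) c11
  by_cases c12 : r < 27620
  · exact allRange_spec e8Cneg_36_27600 r (by omega) c12
  by_cases c13 : r < 27640
  · exact allRange_spec e8Cneg_36_27620 r (by omega) c13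
  by_cases c14 : r < 27660
  · exact allRange_spec e8Cneg_36_27640 r (by omega) c14
  by_cases c15 : r < 27680
  · exact allRange_spec e8Cneg_36_27660 r (by omega) c15
  by_cases c16 : r < 27700
  · exact allRange_spec e8Cneg_36_27680 r (by omega) c16
  by_cases c17 : r < 27720
  · exact allRange_spec e8Cneg_36_27700 r (by omega) c17
  by_cases c18 : r < 27740
  · exact allRange_spec e8Cneg_36_27720 r (by omega) c18
  by_cases c19 : r < 27760
  · exact allRange_spec e8Cneg_36_27740 r (by omega) c19
  by_cases c20 : r < 27780
  · exact allRange_spec e8Cneg_36_27760 r (by omega) c20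
  by_cases c21 : r < 27800
  · exact allRange_spec e8Cneg_36_27780 r (by omega) c21
  by_cases c22 : r < 27820
  · exact allRange_spec e8Cneg_36_27800 r (by omega) c22
  by_cases c23 : r < 27840
  · exact allRange_spec e8Cneg_36_27820 r (by omega) c23
  by_cases c24 : r < 27860
  · exact allRange_spec e8Cneg_36_27840 r (by omega) c24
  by_cases c25 : r < 27880
  · exact allRange_spec e8Cneg_36_27860 r (by omega) c25
  by_cases c26 : r < 27900
  · exact allRange_spec e8Cneg_36_27880 r (by omega) c26
  by_cases c27 : r < 27920
  · exact allRange_spec e8Cneg_36_27900 r (by omega) c27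
  by_cases c28 : r < 27940
  · exact allRange_spec e8Cneg_36_27920 r (by omega) c28
  by_cases c29 : r < 27960
  · exact allRange_spec e8Cneg_36_27940 r (by omega) c29
  by_cases c30 : r < 27980
  · exact allRange_spec e8Cneg_36_27960 r (by omega) c30
  by_cases c31 : r < 28000
  · exact allRange_spec e8Cneg_36_27980 r (by omega) c31
  by_cases c32 : r < 28020
  · exact allRange_spec e8Cneg_36_28000 r (by omega) c32
  by_cases c33 : r < 28040
  · exact allRange_spec e8Cneg_36_28020 r (by omega) c33
  by_cases c34 : r < 28060
  · exact allRange_spec e8Cneg_36_28040 r (by omega) c34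
  by_cases c35 : r < 28080
  · exact allRange_spec e8Cneg_36_28060 r (by omega) c35
  by_cases c36 : r < 28100
  · exact allRange_spec e8Cneg_36_28080 r (by omega) c36
  exact allRange_spec e8Cneg_36_28100 r (by omega) h2

end Cfsg.Agent.Lib.Helper3.ChevM
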