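import Cfsg.Prelude.Def_ChevE8
import Cfsg.Agent.Lib.Helper3.StB5
set_option autoImplicit false
set_option maxRecDepth 1000000
set_option Elab.async false

namespace Cfsg.Agent.Lib.Helper3.ChevM
open Cfsg.Agent.Lib.Helper3.StB

theorem e8Cneg_37_28120 : allRange 28120 28140 ((fun k => commNegCheck Cfsg.Lie.chevE8 (k / 240) (k % 240))) = true := by decide +kernel
theorem e8Cneg_37_28140 : allRange 28140 28160 ((fun k => commNegCheck Cfsg.Lie.chevE8 (k / 240) (k % 240))) = true := by decide +kernel
theorem e8Cneg_37_28160 : allRange 28160 28180 ((fun k => commNegCheck Cfsg.Lie.chevE8 (k / 240) (k % 240))) = true := by decide +kernel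
theorem e8Cneg_37_28180 : allRange 28180 28200 ((fun k => commNegCheck Cfsg.Lie.chevE8 (k / 240) (k % 240))) = true := by decide +kernel
theorem e8Cneg_37_28200 : allRange 28200 28220 ((fun k => commNegCheck Cfsg.Lie.chevE8 (k / 240) (k % 240))) = true := by decide +kernel
theorem e8Cneg_37_28220 : allRange 28220 28240 ((fun k => commNegCheck Cfsg.Lie.chevE8 (k / 240) (k % 240))) = true := by decide +kernel
theorem e8Cneg_37_28240 : allRange 28240 28260 ((fun k => commNegCheck Cfsg.Lie.chevE8 (k / 240) (k % 240))) = true := by decide +kernel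
theorem e8Cneg_37_28260 : allRange 28260 28280 ((fun k => commNegCheck Cfsg.Lie.chevE8 (k / 240) (k % 240))) = true := by decide +kernel
theorem e8Cneg_37_28280 : allRange 28280 28300 ((fun k => commNegCheck Cfsg.Lie.chevE8 (k / 240) (k % 240))) = true := by decide +kernel
theorem e8Cneg_37_28300 : allRange 28300 28320 ((fun k => commNegCheck Cfsg.Lie.chevE8 (k / 240) (k % 240))) = true := by decide +kernel
theorem e8Cneg_37_28320 : allRange 28320 28340 ((fun k => commNegCheck Cfsg.Lie.chevE8 (k / 240) (k % 240))) = true := by decide +kernel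
theorem e8Cneg_37_28340 : allRange 28340 28360 ((fun k => commNegCheck Cfsg.Lie.chevE8 (k / 240) (k % 240))) = true := by decide +kernel
theorem e8Cneg_37_28360 : allRange 28360 28380 ((fun k => commNegCheck Cfsg.Lie.chevE8 (k / 240) (k % 240))) = true := by decide +kernel
theorem e8Cneg_37_28380 : allRange 28380 28400 ((fun k => commNegCheck Cfsg.Lie.chevE8 (k / 240) (k % 240))) = true := by decide +kernel
theorem e8Cneg_37_28400 : allRange 28400 28420 ((fun k => commNegCheck Cfsg.Lie.chevE8 (k / 240) (k % 240))) = true := by decide +kernel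
theorem e8Cneg_37_28420 : allRange 28420 28440 ((fun k => commNegCheck Cfsg.Lie.chevE8 (k / 240) (k % 240))) = true := by decide +kernel
theorem e8Cneg_37_28440 : allRange 28440 28460 ((fun k => commNegCheck Cfsg.Lie.chevE8 (k / 240) (k % 240))) = true := by decide +kernel
theorem e8Cneg_37_28460 : allRange 28460 28480 ((fun k => commNegCheck Cfsg.Lie.chevE8 (k / 240) (k % 240))) = true := by decide +kernel
theorem e8Cneg_37_28480 : allRange 28480 28500 ((fun k => commNegCheck Cfsg.Lie.chevE8 (k / 240) (k % 240))) = true := by decide +kernel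
theorem e8Cneg_37_28500 : allRange 28500 28520 ((fun k => commNegCheck Cfsg.Lie.chevE8 (k / 240) (k % 240))) = true := by decide +kernel
theorem e8Cneg_37_28520 : allRange 28520 28540 ((fun k => commNegCheck Cfsg.Lie.chevE8 (k / 240) (k % 240))) = true := by decide +kernel
theorem e8Cneg_37_28540 : allRange 28540 28560 ((fun k => commNegCheck Cfsg.Lie.chevE8 (k / 240) (k % 240))) = true := by decide +kernel
theorem e8Cneg_37_28560 : allRange 28560 28580 ((fun k => commNegCheck Cfsg.Lie.chevE8 (k / 240) (k % 240))) = true := by decide +kernel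
theorem e8Cneg_37_28580 : allRange 28580 28600 ((fun k => commNegCheck Cfsg.Lie.chevE8 (k / 240) (k % 240))) = true := by decide +kernel
theorem e8Cneg_37_28600 : allRange 28600 28620 ((fun k => commNegCheck Cfsg.Lie.chevE8 (k / 240) (k % 240))) = true := by decide +kernel
theorem e8Cneg_37_28620 : allRange 28620 28640 ((fun k => commNegCheck Cfsg.Lie.chevE8 (k / 240) (k % 240))) = true := by decide +kernel
theorem e8Cneg_37_28640 : allRange 28640 28660 ((fun k => commNegCheck Cfsg.Lie.chevE8 (k / 240) (k % 240))) = true := by decide +kernel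
theorem e8Cneg_37_28660 : allRange 28660 28680 ((fun k => commNegCheck Cfsg.Lie.chevE8 (k / 240) (k % 240))) = true := by decide +kernel
theorem e8Cneg_37_28680 : allRange 28680 28700 ((fun k => commNegCheck Cfsg.Lie.chevE8 (k / 240) (k % 240))) = true := by decide +kernel
theorem e8Cneg_37_28700 : allRange 28700 28720 ((fun k => commNegCheck Cfsg.Lie.chevE8 (k / 240) (k % 240))) = true := by decide +kernel
theorem e8Cneg_37_28720 : allRange 28720 28740 ((fun k => commNegCheck Cfsg.Lie.chevE8 (k / 240) (k % 240))) = true := by decide +kernel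
theorem e8Cneg_37_28740 : allRange 28740 28760 ((fun k => commNegCheck Cfsg.Lie.chevE8 (k / 240) (k % 240))) = true := by decide +kernel
theorem e8Cneg_37_28760 : allRange 28760 28780 ((fun k => commNegCheck Cfsg.Lie.chevE8 (k / 240) (k % 240))) = true := by decide +kernel
theorem e8Cneg_37_28780 : allRange 28780 28800 ((fun k => commNegCheck Cfsg.Lie.chevE8 (k / 240) (k % 240))) = true := by decide +kernel
theorem e8Cneg_37_28800 : allRange 28800 28820 ((fun k => commNegCheck Cfsg.Lie.chevE8 (k / 240) (k % 240))) = true := by decide +kernel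
theorem e8Cneg_37_28820 : allRange 28820 28840 ((fun k => commNegCheck Cfsg.Lie.chevE8 (k / 240) (k % 240))) = true := by decide +kernel
theorem e8Cneg_37_28840 : allRange 28840 28860 ((fun k => commNegCheck Cfsg.Lie.chevE8 (k / 240) (k % 240))) = true := by decide +kernel
theorem e8Cneg_37_28860 : allRange 28860 28880 ((fun k => commNegCheck Cfsg.Lie.chevE8 (k / 240) (k % 240))) = true := by decide +kernel

/-- The commutator formula of type E8 for opposite roots (roots 28120 to 28879). -/
theorem e8Cneg_37 : ∀ r, 28120 ≤ r → r < 28880 → ((fun k => commNegCheck Cfsg.Lie.chevE8 (k / 240) (k % 240))) r = true := by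
  intro r h1 h2
  by_cases c0 : r < 28140
  · exact allRange_spec e8Cneg_37_28120 r (by omega) c0
  by_cases c1 : r < 28160
  · exact allRange_spec e8Cneg_37_28140 r (by omega) c1
  by_cases c2 : r < 28180
  · exact allRange_spec e8Cneg_37_28160 r (by omega) c2
  by_cases c3 : r < 28200
  · exact allRange_spec e8Cneg_37_28180 r (by omega) c3
  by_cases c4 : r < 28220
  · exact allRange_spec e8Cneg_37_28200 r (by omega) c4
  by_cases c5 : r < 28240
  · exact allRange_spec e8Cneg_37_28220 r (by omega) c5
  by_cases c6 : r < 28260
  · exact allRange_spec e8Cneg_37_28240 r (by omega) c6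
  by_cases c7 : r < 28280
  · exact allRange_spec e8Cneg_37_28260 r (by omega) c7
  by_cases c8 : r < 28300
  · exact allRange_spec e8Cneg_37_28280 r (by omega) c8
  by_cases c9 : r < 28320
  · exact allRange_spec e8Cneg_37_28300 r (by omega) c9
  by_cases c10 : r < 28340
  · exact allRange_spec e8Cneg_37_28320 r (by omega) c10
  by_cases c11 : r < 28360
  · exact allRange_spec e8Cneg_37_28340 r (by omega) c11
  by_cases c12 : r < 28380
  · exact allRange_spec e8Cneg_37_28360 r (by omega) c12
  by_cases c13 : r < 28400
  · exact allRange_spec e8Cneg_37_28380 r (by omega) c13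
  by_cases c14 : r < 28420
  · exact allRange_spec e8Cneg_37_28400 r (by omega) c14
  by_cases c15 : r < 28440
  · exact allRange_spec e8Cneg_37_28420 r (by omega) c15
  by_cases c16 : r < 28460
  · exact allRange_spec e8Cneg_37_28440 r (by omega) c16
  by_cases c17 : r < 28480
  · exact allRange_spec e8Cneg_37_28460 r (by omega) c17
  by_cases c18 : r < 28500
  · exact allRange_spec e8Cneg_37_28480 r (by omega) c18
  by_cases c19 : r < 28520
  · exact allRange_spec e8Cneg_37_28500 r (by omega) c19
  by_cases c20 : r < 28540
  · exact allRange_spec e8Cneg_37_28520 r (by omega) c20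
  by_cases c21 : r < 28560
  · exact allRange_spec e8Cneg_37_28540 r (by omega) c21
  by_cases c22 : r < 28580
  · exact allRange_spec e8Cneg_37_28560 r (by omega) c22
  by_cases c23 : r < 28600
  · exact allRange_spec e8Cneg_37_28580 r (by omega) c23
  by_cases c24 : r < 28620
  · exact allRange_spec e8Cneg_37_28600 r (by omega) c24
  by_cases c25 : r < 28640
  · exact allRange_spec e8Cneg_37_28620 r (by omega) c25
  by_cases c26 : r < 28660
  · exact allRange_spec e8Cneg_37_28640 r (by omega) c26
  by_cases c27 : r < 28680
  · exact allRange_spec e8Cneg_37_28660 r (by omega) c27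
  by_cases c28 : r < 28700
  · exact allRange_spec e8Cneg_37_28680 r (by omega) c28
  by_cases c29 : r < 28720
  · exact allRange_spec e8Cneg_37_28700 r (by omega) c29
  by_cases c30 : r < 28740
  · exact allRange_spec e8Cneg_37_28720 r (by omega) c30
  by_cases c31 : r < 28760
  · exact allRange_spec e8Cneg_37_28740 r (by omega) c31
  by_cases c32 : r < 28780
  · exact allRange_spec e8Cneg_37_28760 r (by omega) c32
  by_cases c33 : r < 28800
  · exact allRange_spec e8Cneg_37_28780 r (by omega) c33
  by_cases c34 : r < 28820
  · exact allRange_spec e8Cneg_37_28800 r (by omega) c34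
  by_cases c35 : r < 28840
  · exact allRange_spec e8Cneg_37_28820 r (by omega) c35
  by_cases c36 : r < 28860
  · exact allRange_spec e8Cneg_37_28840 r (by omega) c36
  exact allRange_spec e8Cneg_37_28860 r (by omega) h2

end Cfsg.Agent.Lib.Helper3.ChevM
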