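import Cfsg.Prelude.Def_ChevE8
import Cfsg.Agent.Lib.Helper3.StB5
set_option autoImplicit false
set_option maxRecDepth 1000000
set_option Elab.async false

namespace Cfsg.Agent.Lib.Helper3.ChevM
open Cfsg.Agent.Lib.Helper3.StB

theorem e8Cneg_38_28880 : allRange 28880 28900 ((fun k => commNegCheck Cfsg.Lie.chevE8 (k / 240) (k % 240))) = true := by decide +kernel
theorem e8Cneg_38_28900 : allRange 28900 28920 ((fun k => commNegCheck Cfsg.Lie.chevE8 (k / 240) (k % 240))) = true := by decide +kernel
theorem e8Cneg_38_28920 : allRange 28920 28940 ((fun k => commNegCheck Cfsg.Lie.chevE8 (k / 240) (k % 240))) = true := by decide +kernel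
theorem e8Cneg_38_28940 : allRange 28940 28960 ((fun k => commNegCheck Cfsg.Lie.chevE8 (k / 240) (k % 240))) = true := by decide +kernel
theorem e8Cneg_38_28960 : allRange 28960 28980 ((fun k => commNegCheck Cfsg.Lie.chevE8 (k / 240) (k % 240))) = true := by decide +kernel
theorem e8Cneg_38_28980 : allRange 28980 29000 ((fun k => commNegCheck Cfsg.Lie.chevE8 (k / 240) (k % 240))) = true := by decide +kernel
theorem e8Cneg_38_29000 : allRange 29000 29020 ((fun k => commNegCheck Cfsg.Lie.chevE8 (k / 240) (k % 240))) = true := by decide +kernel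
theorem e8Cneg_38_29020 : allRange 29020 29040 ((fun k => commNegCheck Cfsg.Lie.chevE8 (k / 240) (k % 240))) = true := by decide +kernel
theorem e8Cneg_38_29040 : allRange 29040 29060 ((fun k => commNegCheck Cfsg.Lie.chevE8 (k / 240) (k % 240))) = true := by decide +kernel
theorem e8Cneg_38_29060 : allRange 29060 29080 ((fun k => commNegCheck Cfsg.Lie.chevE8 (k / 240) (k % 240))) = true := by decide +kernel
theorem e8Cneg_38_29080 : allRange 29080 29100 ((fun k => commNegCheck Cfsg.Lie.chevE8 (k / 240) (k % 240))) = true := by decide +kernel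
theorem e8Cneg_38_29100 : allRange 29100 29120 ((fun k => commNegCheck Cfsg.Lie.chevE8 (k / 240) (k % 240))) = true := by decide +kernel
theorem e8Cneg_38_29120 : allRange 29120 29140 ((fun k => commNegCheck Cfsg.Lie.chevE8 (k / 240) (k % 240))) = true := by decide +kernel
theorem e8Cneg_38_29140 : allRange 29140 29160 ((fun k => commNegCheck Cfsg.Lie.chevE8 (k / 240) (k % 240))) = true := by decide +kernel
theorem e8Cneg_38_29160 : allRange 29160 29180 ((fun k => commNegCheck Cfsg.Lie.chevE8 (k / 240) (k % 240))) = true := by decide +kernel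
theorem e8Cneg_38_29180 : allRange 29180 29200 ((fun k => commNegCheck Cfsg.Lie.chevE8 (k / 240) (k % 240))) = true := by decide +kernel
theorem e8Cneg_38_29200 : allRange 29200 29220 ((fun k => commNegCheck Cfsg.Lie.chevE8 (k / 240) (k % 240))) = true := by decide +kernel
theorem e8Cneg_38_29220 : allRange 29220 29240 ((fun k => commNegCheck Cfsg.Lie.chevE8 (k / 240) (k % 240))) = true := by decide +kernel
theorem e8Cneg_38_29240 : allRange 29240 29260 ((fun k => commNegCheck Cfsg.Lie.chevE8 (k / 240) (k % 240))) = true := by decide +kernel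
theorem e8Cneg_38_29260 : allRange 29260 29280 ((fun k => commNegCheck Cfsg.Lie.chevE8 (k / 240) (k % 240))) = true := by decide +kernel
theorem e8Cneg_38_29280 : allRange 29280 29300 ((fun k => commNegCheck Cfsg.Lie.chevE8 (k / 240) (k % 240))) = true := by decide +kernel
theorem e8Cneg_38_29300 : allRange 29300 29320 ((fun k => commNegCheck Cfsg.Lie.chevE8 (k / 240) (k % 240))) = true := by decide +kernel
theorem e8Cneg_38_29320 : allRange 29320 29340 ((fun k => commNegCheck Cfsg.Lie.chevE8 (k / 240) (k % 240))) = true := by decide +kernel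
theorem e8Cneg_38_29340 : allRange 29340 29360 ((fun k => commNegCheck Cfsg.Lie.chevE8 (k / 240) (k % 240))) = true := by decide +kernel
theorem e8Cneg_38_29360 : allRange 29360 29380 ((fun k => commNegCheck Cfsg.Lie.chevE8 (k / 240) (k % 240))) = true := by decide +kernel
theorem e8Cneg_38_29380 : allRange 29380 29400 ((fun k => commNegCheck Cfsg.Lie.chevE8 (k / 240) (k % 240))) = true := by decide +kernel
theorem e8Cneg_38_29400 : allRange 29400 29420 ((fun k => commNegCheck Cfsg.Lie.chevE8 (k / 240) (k % 240))) = true := by decide +kernel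
theorem e8Cneg_38_29420 : allRange 29420 29440 ((fun k => commNegCheck Cfsg.Lie.chevE8 (k / 240) (k % 240))) = true := by decide +kernel
theorem e8Cneg_38_29440 : allRange 29440 29460 ((fun k => commNegCheck Cfsg.Lie.chevE8 (k / 240) (k % 240))) = true := by decide +kernel
theorem e8Cneg_38_29460 : allRange 29460 29480 ((fun k => commNegCheck Cfsg.Lie.chevE8 (k / 240) (k % 240))) = true := by decide +kernel
theorem e8Cneg_38_29480 : allRange 29480 29500 ((fun k => commNegCheck Cfsg.Lie.chevE8 (k / 240) (k % 240))) = true := by decide +kernel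
theorem e8Cneg_38_29500 : allRange 29500 29520 ((fun k => commNegCheck Cfsg.Lie.chevE8 (k / 240) (k % 240))) = true := by decide +kernel
theorem e8Cneg_38_29520 : allRange 29520 29540 ((fun k => commNegCheck Cfsg.Lie.chevE8 (k / 240) (k % 240))) = true := by decide +kernel
theorem e8Cneg_38_29540 : allRange 29540 29560 ((fun k => commNegCheck Cfsg.Lie.chevE8 (k / 240) (k % 240))) = true := by decide +kernel
theorem e8Cneg_38_29560 : allRange 29560 29580 ((fun k => commNegCheck Cfsg.Lie.chevE8 (k / 240) (k % 240))) = true := by decide +kernel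
theorem e8Cneg_38_29580 : allRange 29580 29600 ((fun k => commNegCheck Cfsg.Lie.chevE8 (k / 240) (k % 240))) = true := by decide +kernel
theorem e8Cneg_38_29600 : allRange 29600 29620 ((fun k => commNegCheck Cfsg.Lie.chevE8 (k / 240) (k % 240))) = true := by decide +kernel
theorem e8Cneg_38_29620 : allRange 29620 29640 ((fun k => commNegCheck Cfsg.Lie.chevE8 (k / 240) (k % 240))) = true := by decide +kernel

/-- The commutator formula of type E8 for opposite roots (roots 28880 to 29639). -/
theorem e8Cneg_38 : ∀ r, 28880 ≤ r → r < 29640 → ((fun k => commNegCheck Cfsg.Lie.chevE8 (k / 240) (k % 240))) r = true := by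
  intro r h1 h2
  by_cases c0 : r < 28900
  · exact allRange_spec e8Cneg_38_28880 r (by omega) c0
  by_cases c1 : r < 28920
  · exact allRange_spec e8Cneg_38_28900 r (by omega) c1
  by_cases c2 : r < 28940
  · exact allRange_spec e8Cneg_38_28920 r (by omega) c2
  by_cases c3 : r < 28960
  · exact allRange_spec e8Cneg_38_28940 r (by omega) c3
  by_cases c4 : r < 28980
  · exact allRange_spec e8Cneg_38_28960 r (by omega) c4
  by_cases c5 : r < 29000
  · exact allRange_spec e8Cneg_38_28980 r (by omega) c5
  by_cases c6 : r < 29020
  · exact allRange_spec e8Cneg_38_29000 r (by omega) c6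
  by_cases c7 : r < 29040
  · exact allRange_spec e8Cneg_38_29020 r (by omega) c7
  by_cases c8 : r < 29060
  · exact allRange_spec e8Cneg_38_29040 r (by omega) c8
  by_cases c9 : r < 29080
  · exact allRange_spec e8Cneg_38_29060 r (by omega) c9
  by_cases c10 : r < 29100
  · exact allRange_spec e8Cneg_38_29080 r (by omega) c10
  by_cases c11 : r < 29120
  · exact allRange_spec e8Cneg_38_29100 r (by omega) c11
  by_cases c12 : r < 29140
  · exact allRange_spec e8Cneg_38_29120 r (by omega) c12
  by_cases c13 : r < 29160
  · exact allRange_spec e8Cneg_38_29140 r (by omega) c13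
  by_cases c14 : r < 29180
  · exact allRange_spec e8Cneg_38_29160 r (by omega) c14
  by_cases c15 : r < 29200
  · exact allRange_spec e8Cneg_38_29180 r (by omega) c15
  by_cases c16 : r < 29220
  · exact allRange_spec e8Cneg_38_29200 r (by omega) c16
  by_cases c17 : r < 29240
  · exact allRange_spec e8Cneg_38_29220 r (by omega) c17
  by_cases c18 : r < 29260
  · exact allRange_spec e8Cneg_38_29240 r (by omega) c18
  by_cases c19 : r < 29280
  · exact allRange_spec e8Cneg_38_29260 r (by omega) c19
  by_cases c20 : r < 29300
  · exact allRange_spec e8Cneg_38_29280 r (by omega) c20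
  by_cases c21 : r < 29320
  · exact allRange_spec e8Cneg_38_29300 r (by omega) c21
  by_cases c22 : r < 29340
  · exact allRange_spec e8Cneg_38_29320 r (by omega) c22
  by_cases c23 : r < 29360
  · exact allRange_spec e8Cneg_38_29340 r (by omega) c23
  by_cases c24 : r < 29380
  · exact allRange_spec e8Cneg_38_29360 r (by omega) c24
  by_cases c25 : r < 29400
  · exact allRange_spec e8Cneg_38_29380 r (by omega) c25
  by_cases c26 : r < 29420
  · exact allRange_spec e8Cneg_38_29400 r (by omega) c26
  by_cases c27 : r < 29440
  · exact allRange_spec e8Cneg_38_29420 r (by omega) c27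
  by_cases c28 : r < 29460
  · exact allRange_spec e8Cneg_38_29440 r (by omega) c28
  by_cases c29 : r < 29480
  · exact allRange_spec e8Cneg_38_29460 r (by omega) c29
  by_cases c30 : r < 29500
  · exact allRange_spec e8Cneg_38_29480 r (by omega) c30
  by_cases c31 : r < 29520
  · exact allRange_spec e8Cneg_38_29500 r (by omega) c31
  by_cases c32 : r < 29540
  · exact allRange_spec e8Cneg_38_29520 r (by omega) c32
  by_cases c33 : r < 29560
  · exact allRange_spec e8Cneg_38_29540 r (by omega) c33
  by_cases c34 : r < 29580
  · exact allRange_spec e8Cneg_38_29560 r (by omega) c34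
  by_cases c35 : r < 29600
  · exact allRange_spec e8Cneg_38_29580 r (by omega) c35
  by_cases c36 : r < 29620
  · exact allRange_spec e8Cneg_38_29600 r (by omega) c36
  exact allRange_spec e8Cneg_38_29620 r (by omega) h2

end Cfsg.Agent.Lib.Helper3.ChevM
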