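import Cfsg.Prelude.Def_ChevE8
import Cfsg.Agent.Lib.Helper3.StB5
set_option autoImplicit false
set_option maxRecDepth 1000000
set_option Elab.async false

namespace Cfsg.Agent.Lib.Helper3.ChevM
open Cfsg.Agent.Lib.Helper3.StB

theorem e8Cneg_39_29640 : allRange 29640 29660 ((fun k => commNegCheck Cfsg.Lie.chevE8 (k / 240) (k % 240))) = true := by decide +kernel
theorem e8Cneg_39_29660 : allRange 29660 29680 ((fun k => commNegCheck Cfsg.Lie.chevE8 (k / 240) (k % 240))) = true := by decide +kernel
theorem e8Cneg_39_29680 : allRange 29680 29700 ((fun k => commNegCheck Cfsg.Lie.chevE8 (k / 240) (k % 240))) = true := by decide +kernel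
theorem e8Cneg_39_29700 : allRange 29700 29720 ((fun k => commNegCheck Cfsg.Lie.chevE8 (k / 240) (k % 240))) = true := by decide +kernel
theorem e8Cneg_39_29720 : allRange 29720 29740 ((fun k => commNegCheck Cfsg.Lie.chevE8 (k / 240) (k % 240))) = true := by decide +kernel
theorem e8Cneg_39_29740 : allRange 29740 29760 ((fun k => commNegCheck Cfsg.Lie.chevE8 (k / 240) (k % 240))) = true := by decide +kernel
theorem e8Cneg_39_29760 : allRange 29760 29780 ((fun k => commNegCheck Cfsg.Lie.chevE8 (k / 240) (k % 240))) = true := by decide +kernel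
theorem e8Cneg_39_29780 : allRange 29780 29800 ((fun k => commNegCheck Cfsg.Lie.chevE8 (k / 240) (k % 240))) = true := by decide +kernel
theorem e8Cneg_39_29800 : allRange 29800 29820 ((fun k => commNegCheck Cfsg.Lie.chevE8 (k / 240) (k % 240))) = true := by decide +kernel
theorem e8Cneg_39_29820 : allRange 29820 29840 ((fun k => commNegCheck Cfsg.Lie.chevE8 (k / 240) (k % 240))) = true := by decide +kernel
theorem e8Cneg_39_29840 : allRange 29840 29860 ((fun k => commNegCheck Cfsg.Lie.chevE8 (k / 240) (k % 240))) = true := by decide +kernel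
theorem e8Cneg_39_29860 : allRange 29860 29880 ((fun k => commNegCheck Cfsg.Lie.chevE8 (k / 240) (k % 240))) = true := by decide +kernel
theorem e8Cneg_39_29880 : allRange 29880 29900 ((fun k => commNegCheck Cfsg.Lie.chevE8 (k / 240) (k % 240))) = true := by decide +kernel
theorem e8Cneg_39_29900 : allRange 29900 29920 ((fun k => commNegCheck Cfsg.Lie.chevE8 (k / 240) (k % 240))) = true := by decide +kernel
theorem e8Cneg_39_29920 : allRange 29920 29940 ((fun k => commNegCheck Cfsg.Lie.chevE8 (k / 240) (k % 240))) = true := by decide +kernel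
theorem e8Cneg_39_29940 : allRange 29940 29960 ((fun k => commNegCheck Cfsg.Lie.chevE8 (k / 240) (k % 240))) = true := by decide +kernel
theorem e8Cneg_39_29960 : allRange 29960 29980 ((fun k => commNegCheck Cfsg.Lie.chevE8 (k / 240) (k % 240))) = true := by decide +kernel
theorem e8Cneg_39_29980 : allRange 29980 30000 ((fun k => commNegCheck Cfsg.Lie.chevE8 (k / 240) (k % 240))) = true := by decide +kernel
theorem e8Cneg_39_30000 : allRange 30000 30020 ((fun k => commNegCheck Cfsg.Lie.chevE8 (k / 240) (k % 240))) = true := by decide +kernel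
theorem e8Cneg_39_30020 : allRange 30020 30040 ((fun k => commNegCheck Cfsg.Lie.chevE8 (k / 240) (k % 240))) = true := by decide +kernel
theorem e8Cneg_39_30040 : allRange 30040 30060 ((fun k => commNegCheck Cfsg.Lie.chevE8 (k / 240) (k % 240))) = true := by decide +kernel
theorem e8Cneg_39_30060 : allRange 30060 30080 ((fun k => commNegCheck Cfsg.Lie.chevE8 (k / 240) (k % 240))) = true := by decide +kernel
theorem e8Cneg_39_30080 : allRange 30080 30100 ((fun k => commNegCheck Cfsg.Lie.chevE8 (k / 240) (k % 240))) = true := by decide +kernel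
theorem e8Cneg_39_30100 : allRange 30100 30120 ((fun k => commNegCheck Cfsg.Lie.chevE8 (k / 240) (k % 240))) = true := by decide +kernel
theorem e8Cneg_39_30120 : allRange 30120 30140 ((fun k => commNegCheck Cfsg.Lie.chevE8 (k / 240) (k % 240))) = true := by decide +kernel
theorem e8Cneg_39_30140 : allRange 30140 30160 ((fun k => commNegCheck Cfsg.Lie.chevE8 (k / 240) (k % 240))) = true := by decide +kernel
theorem e8Cneg_39_30160 : allRange 30160 30180 ((fun k => commNegCheck Cfsg.Lie.chevE8 (k / 240) (k % 240))) = true := by decide +kernel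
theorem e8Cneg_39_30180 : allRange 30180 30200 ((fun k => commNegCheck Cfsg.Lie.chevE8 (k / 240) (k % 240))) = true := by decide +kernel
theorem e8Cneg_39_30200 : allRange 30200 30220 ((fun k => commNegCheck Cfsg.Lie.chevE8 (k / 240) (k % 240))) = true := by decide +kernel
theorem e8Cneg_39_30220 : allRange 30220 30240 ((fun k => commNegCheck Cfsg.Lie.chevE8 (k / 240) (k % 240))) = true := by decide +kernel
theorem e8Cneg_39_30240 : allRange 30240 30260 ((fun k => commNegCheck Cfsg.Lie.chevE8 (k / 240) (k % 240))) = true := by decide +kernel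
theorem e8Cneg_39_30260 : allRange 30260 30280 ((fun k => commNegCheck Cfsg.Lie.chevE8 (k / 240) (k % 240))) = true := by decide +kernel
theorem e8Cneg_39_30280 : allRange 30280 30300 ((fun k => commNegCheck Cfsg.Lie.chevE8 (k / 240) (k % 240))) = true := by decide +kernel
theorem e8Cneg_39_30300 : allRange 30300 30320 ((fun k => commNegCheck Cfsg.Lie.chevE8 (k / 240) (k % 240))) = true := by decide +kernel
theorem e8Cneg_39_30320 : allRange 30320 30340 ((fun k => commNegCheck Cfsg.Lie.chevE8 (k / 240) (k % 240))) = true := by decide +kernel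
theorem e8Cneg_39_30340 : allRange 30340 30360 ((fun k => commNegCheck Cfsg.Lie.chevE8 (k / 240) (k % 240))) = true := by decide +kernel
theorem e8Cneg_39_30360 : allRange 30360 30380 ((fun k => commNegCheck Cfsg.Lie.chevE8 (k / 240) (k % 240))) = true := by decide +kernel
theorem e8Cneg_39_30380 : allRange 30380 30400 ((fun k => commNegCheck Cfsg.Lie.chevE8 (k / 240) (k % 240))) = true := by decide +kernel

/-- The commutator formula of type E8 for opposite roots (roots 29640 to 30399). -/
theorem e8Cneg_39 : ∀ r, 29640 ≤ r → r < 30400 → ((fun k => commNegCheck Cfsg.Lie.chevE8 (k / 240) (k % 240))) r = true := by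
  intro r h1 h2
  by_cases c0 : r < 29660
  · exact allRange_spec e8Cneg_39_29640 r (by omega) c0
  by_cases c1 : r < 29680
  · exact allRange_spec e8Cneg_39_29660 r (by omega) c1
  by_cases c2 : r < 29700
  · exact allRange_spec e8Cneg_39_29680 r (by omega) c2
  by_cases c3 : r < 29720
  · exact allRange_spec e8Cneg_39_29700 r (by omega) c3
  by_cases c4 : r < 29740
  · exact allRange_spec e8Cneg_39_29720 r (by omega) c4
  by_cases c5 : r < 29760
  · exact allRange_spec e8Cneg_39_29740 r (by omega) c5
  by_cases c6 : r < 29780
  · exact allRange_spec e8Cneg_39_29760 r (by omega) c6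
  by_cases c7 : r < 29800
  · exact allRange_spec e8Cneg_39_29780 r (by omega) c7
  by_cases c8 : r < 29820
  · exact allRange_spec e8Cneg_39_29800 r (by omega) c8
  by_cases c9 : r < 29840
  · exact allRange_spec e8Cneg_39_29820 r (by omega) c9
  by_cases c10 : r < 29860
  · exact allRange_spec e8Cneg_39_29840 r (by omega) c10
  by_cases c11 : r < 29880
  · exact allRange_spec e8Cneg_39_29860 r (by omega) c11
  by_cases c12 : r < 29900
  · exact allRange_spec e8Cneg_39_29880 r (by omega) c12
  by_cases c13 : r < 29920
  · exact allRange_spec e8Cneg_39_29900 r (by omega) c13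
  by_cases c14 : r < 29940
  · exact allRange_spec e8Cneg_39_29920 r (by omega) c14
  by_cases c15 : r < 29960
  · exact allRange_spec e8Cneg_39_29940 r (by omega) c15
  by_cases c16 : r < 29980
  · exact allRange_spec e8Cneg_39_29960 r (by omega) c16
  by_cases c17 : r < 30000
  · exact allRange_spec e8Cneg_39_29980 r (by omega) c17
  by_cases c18 : r < 30020
  · exact allRange_spec e8Cneg_39_30000 r (by omega) c18
  by_cases c19 : r < 30040
  · exact allRange_spec e8Cneg_39_30020 r (by omega) c19
  by_cases c20 : r < 30060
  · exact allRange_spec e8Cneg_39_30040 r (by omega) c20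
  by_cases c21 : r < 30080
  · exact allRange_spec e8Cneg_39_30060 r (by omega) c21
  by_cases c22 : r < 30100
  · exact allRange_spec e8Cneg_39_30080 r (by omega) c22
  by_cases c23 : r < 30120
  · exact allRange_spec e8Cneg_39_30100 r (by omega) c23
  by_cases c24 : r < 30140
  · exact allRange_spec e8Cneg_39_30120 r (by omega) c24
  by_cases c25 : r < 30160
  · exact allRange_spec e8Cneg_39_30140 r (by omega) c25
  by_cases c26 : r < 30180
  · exact allRange_spec e8Cneg_39_30160 r (by omega) c26
  by_cases c27 : r < 30200
  · exact allRange_spec e8Cneg_39_30180 r (by omega) c27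
  by_cases c28 : r < 30220
  · exact allRange_spec e8Cneg_39_30200 r (by omega) c28
  by_cases c29 : r < 30240
  · exact allRange_spec e8Cneg_39_30220 r (by omega) c29
  by_cases c30 : r < 30260
  · exact allRange_spec e8Cneg_39_30240 r (by omega) c30
  by_cases c31 : r < 30280
  · exact allRange_spec e8Cneg_39_30260 r (by omega) c31
  by_cases c32 : r < 30300
  · exact allRange_spec e8Cneg_39_30280 r (by omega) c32
  by_cases c33 : r < 30320
  · exact allRange_spec e8Cneg_39_30300 r (by omega) c33
  by_cases c34 : r < 30340
  · exact allRange_spec e8Cneg_39_30320 r (by omega) c34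
  by_cases c35 : r < 30360
  · exact allRange_spec e8Cneg_39_30340 r (by omega) c35
  by_cases c36 : r < 30380
  · exact allRange_spec e8Cneg_39_30360 r (by omega) c36
  exact allRange_spec e8Cneg_39_30380 r (by omega) h2

end Cfsg.Agent.Lib.Helper3.ChevM
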