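import Cfsg.Prelude.Def_ChevE8
import Cfsg.Agent.Lib.Helper3.StB5
set_option autoImplicit false
set_option maxRecDepth 1000000
set_option Elab.async false

namespace Cfsg.Agent.Lib.Helper3.ChevM
open Cfsg.Agent.Lib.Helper3.StB

theorem e8Cneg_40_30400 : allRange 30400 30420 ((fun k => commNegCheck Cfsg.Lie.chevE8 (k / 240) (k % 240))) = true := by decide +kernel
theorem e8Cneg_40_30420 : allRange 30420 30440 ((fun k => commNegCheck Cfsg.Lie.chevE8 (k / 240) (k % 240))) = true := by decide +kernel
theorem e8Cneg_40_30440 : allRange 30440 30460 ((fun k => commNegCheck Cfsg.Lie.chevE8 (k / 240) (k % 240))) = true := by decide +kernel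
theorem e8Cneg_40_30460 : allRange 30460 30480 ((fun k => commNegCheck Cfsg.Lie.chevE8 (k / 240) (k % 240))) = true := by decide +kernel
theorem e8Cneg_40_30480 : allRange 30480 30500 ((fun k => commNegCheck Cfsg.Lie.chevE8 (k / 240) (k % 240))) = true := by decide +kernel
theorem e8Cneg_40_30500 : allRange 30500 30520 ((fun k => commNegCheck Cfsg.Lie.chevE8 (k / 240) (k % 240))) = true := by decide +kernel
theorem e8Cneg_40_30520 : allRange 30520 30540 ((fun k => commNegCheck Cfsg.Lie.chevE8 (k / 240) (k % 240))) = true := by decide +kernel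
theorem e8Cneg_40_30540 : allRange 30540 30560 ((fun k => commNegCheck Cfsg.Lie.chevE8 (k / 240) (k % 240))) = true := by decide +kernel
theorem e8Cneg_40_30560 : allRange 30560 30580 ((fun k => commNegCheck Cfsg.Lie.chevE8 (k / 240) (k % 240))) = true := by decide +kernel
theorem e8Cneg_40_30580 : allRange 30580 30600 ((fun k => commNegCheck Cfsg.Lie.chevE8 (k / 240) (k % 240))) = true := by decide +kernel
theorem e8Cneg_40_30600 : allRange 30600 30620 ((fun k => commNegCheck Cfsg.Lie.chevE8 (k / 240) (k % 240))) = true := by decide +kernel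
theorem e8Cneg_40_30620 : allRange 30620 30640 ((fun k => commNegCheck Cfsg.Lie.chevE8 (k / 240) (k % 240))) = true := by decide +kernel
theorem e8Cneg_40_30640 : allRange 30640 30660 ((fun k => commNegCheck Cfsg.Lie.chevE8 (k / 240) (k % 240))) = true := by decide +kernel
theorem e8Cneg_40_30660 : allRange 30660 30680 ((fun k => commNegCheck Cfsg.Lie.chevE8 (k / 240) (k % 240))) = true := by decide +kernel
theorem e8Cneg_40_30680 : allRange 30680 30700 ((fun k => commNegCheck Cfsg.Lie.chevE8 (k / 240) (k % 240))) = true := by decide +kernel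
theorem e8Cneg_40_30700 : allRange 30700 30720 ((fun k => commNegCheck Cfsg.Lie.chevE8 (k / 240) (k % 240))) = true := by decide +kernel
theorem e8Cneg_40_30720 : allRange 30720 30740 ((fun k => commNegCheck Cfsg.Lie.chevE8 (k / 240) (k % 240))) = true := by decide +kernel
theorem e8Cneg_40_30740 : allRange 30740 30760 ((fun k => commNegCheck Cfsg.Lie.chevE8 (k / 240) (k % 240))) = true := by decide +kernel
theorem e8Cneg_40_30760 : allRange 30760 30780 ((fun k => commNegCheck Cfsg.Lie.chevE8 (k / 240) (k % 240))) = true := by decide +kernel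
theorem e8Cneg_40_30780 : allRange 30780 30800 ((fun k => commNegCheck Cfsg.Lie.chevE8 (k / 240) (k % 240))) = true := by decide +kernel
theorem e8Cneg_40_30800 : allRange 30800 30820 ((fun k => commNegCheck Cfsg.Lie.chevE8 (k / 240) (k % 240))) = true := by decide +kernel
theorem e8Cneg_40_30820 : allRange 30820 30840 ((fun k => commNegCheck Cfsg.Lie.chevE8 (k / 240) (k % 240))) = true := by decide +kernel
theorem e8Cneg_40_30840 : allRange 30840 30860 ((fun k => commNegCheck Cfsg.Lie.chevE8 (k / 240) (k % 240))) = true := by decide +kernel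
theorem e8Cneg_40_30860 : allRange 30860 30880 ((fun k => commNegCheck Cfsg.Lie.chevE8 (k / 240) (k % 240))) = true := by decide +kernel
theorem e8Cneg_40_30880 : allRange 30880 30900 ((fun k => commNegCheck Cfsg.Lie.chevE8 (k / 240) (k % 240))) = true := by decide +kernel
theorem e8Cneg_40_30900 : allRange 30900 30920 ((fun k => commNegCheck Cfsg.Lie.chevE8 (k / 240) (k % 240))) = true := by decide +kernel
theorem e8Cneg_40_30920 : allRange 30920 30940 ((fun k => commNegCheck Cfsg.Lie.chevE8 (k / 240) (k % 240))) = true := by decide +kernel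
theorem e8Cneg_40_30940 : allRange 30940 30960 ((fun k => commNegCheck Cfsg.Lie.chevE8 (k / 240) (k % 240))) = true := by decide +kernel
theorem e8Cneg_40_30960 : allRange 30960 30980 ((fun k => commNegCheck Cfsg.Lie.chevE8 (k / 240) (k % 240))) = true := by decide +kernel
theorem e8Cneg_40_30980 : allRange 30980 31000 ((fun k => commNegCheck Cfsg.Lie.chevE8 (k / 240) (k % 240))) = true := by decide +kernel
theorem e8Cneg_40_31000 : allRange 31000 31020 ((fun k => commNegCheck Cfsg.Lie.chevE8 (k / 240) (k % 240))) = true := by decide +kernel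
theorem e8Cneg_40_31020 : allRange 31020 31040 ((fun k => commNegCheck Cfsg.Lie.chevE8 (k / 240) (k % 240))) = true := by decide +kernel
theorem e8Cneg_40_31040 : allRange 31040 31060 ((fun k => commNegCheck Cfsg.Lie.chevE8 (k / 240) (k % 240))) = true := by decide +kernel
theorem e8Cneg_40_31060 : allRange 31060 31080 ((fun k => commNegCheck Cfsg.Lie.chevE8 (k / 240) (k % 240))) = true := by decide +kernel
theorem e8Cneg_40_31080 : allRange 31080 31100 ((fun k => commNegCheck Cfsg.Lie.chevE8 (k / 240) (k % 240))) = true := by decide +kernel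
theorem e8Cneg_40_31100 : allRange 31100 31120 ((fun k => commNegCheck Cfsg.Lie.chevE8 (k / 240) (k % 240))) = true := by decide +kernel
theorem e8Cneg_40_31120 : allRange 31120 31140 ((fun k => commNegCheck Cfsg.Lie.chevE8 (k / 240) (k % 240))) = true := by decide +kernel
theorem e8Cneg_40_31140 : allRange 31140 31160 ((fun k => commNegCheck Cfsg.Lie.chevE8 (k / 240) (k % 240))) = true := by decide +kernel

/-- The commutator formula of type E8 for opposite roots (roots 30400 to 31159). -/
theorem e8Cneg_40 : ∀ r, 30400 ≤ r → r < 31160 → ((fun k => commNegCheck Cfsg.Lie.chevE8 (k / 240) (k % 240))) r = true := by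
  intro r h1 h2
  by_cases c0 : r < 30420
  · exact allRange_spec e8Cneg_40_30400 r (by omega) c0
  by_cases c1 : r < 30440
  · exact allRange_spec e8Cneg_40_30420 r (by omega) c1
  by_cases c2 : r < 30460
  · exact allRange_spec e8Cneg_40_30440 r (by omega) c2
  by_cases c3 : r < 30480
  · exact allRange_spec e8Cneg_40_30460 r (by omega) c3
  by_cases c4 : r < 30500
  · exact allRange_spec e8Cneg_40_30480 r (by omega) c4
  by_cases c5 : r < 30520
  · exact allRange_spec e8Cneg_40_30500 r (by omega) c5
  by_cases c6 : r < 30540
  · exact allRange_spec e8Cneg_40_30520 r (by omega) c6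
  by_cases c7 : r < 30560
  · exact allRange_spec e8Cneg_40_30540 r (by omega) c7
  by_cases c8 : r < 30580
  · exact allRange_spec e8Cneg_40_30560 r (by omega) c8
  by_cases c9 : r < 30600
  · exact allRange_spec e8Cneg_40_30580 r (by omega) c9
  by_cases c10 : r < 30620
  · exact allRange_spec e8Cneg_40_30600 r (by omega) c10
  by_cases c11 : r < 30640
  · exact allRange_spec e8Cneg_40_30620 r (by omega) c11
  by_cases c12 : r < 30660
  · exact allRange_spec e8Cneg_40_30640 r (by omega) c12
  by_cases c13 : r < 30680
  · exact allRange_spec e8Cneg_40_30660 r (by omega) c13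
  by_cases c14 : r < 30700
  · exact allRange_spec e8Cneg_40_30680 r (by omega) c14
  by_cases c15 : r < 30720
  · exact allRange_spec e8Cneg_40_30700 r (by omega) c15
  by_cases c16 : r < 30740
  · exact allRange_spec e8Cneg_40_30720 r (by omega) c16
  by_cases c17 : r < 30760
  · exact allRange_spec e8Cneg_40_30740 r (by omega) c17
  by_cases c18 : r < 30780
  · exact allRange_spec e8Cneg_40_30760 r (by omega) c18
  by_cases c19 : r < 30800
  · exact allRange_spec e8Cneg_40_30780 r (by omega) c19
  by_cases c20 : r < 30820
  · exact allRange_spec e8Cneg_40_30800 r (by omega) c20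
  by_cases c21 : r < 30840
  · exact allRange_spec e8Cneg_40_30820 r (by omega) c21
  by_cases c22 : r < 30860
  · exact allRange_spec e8Cneg_40_30840 r (by omega) c22
  by_cases c23 : r < 30880
  · exact allRange_spec e8Cneg_40_30860 r (by omega) c23
  by_cases c24 : r < 30900
  · exact allRange_spec e8Cneg_40_30880 r (by omega) c24
  by_cases c25 : r < 30920
  · exact allRange_spec e8Cneg_40_30900 r (by omega) c25
  by_cases c26 : r < 30940
  · exact allRange_spec e8Cneg_40_30920 r (by omega) c26
  by_cases c27 : r < 30960
  · exact allRange_spec e8Cneg_40_30940 r (by omega) c27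
  by_cases c28 : r < 30980
  · exact allRange_spec e8Cneg_40_30960 r (by omega) c28
  by_cases c29 : r < 31000
  · exact allRange_spec e8Cneg_40_30980 r (by omega) c29
  by_cases c30 : r < 31020
  · exact allRange_spec e8Cneg_40_31000 r (by omega) c30
  by_cases c31 : r < 31040
  · exact allRange_spec e8Cneg_40_31020 r (by omega) c31
  by_cases c32 : r < 31060
  · exact allRange_spec e8Cneg_40_31040 r (by omega) c32
  by_cases c33 : r < 31080
  · exact allRange_spec e8Cneg_40_31060 r (by omega) c33
  by_cases c34 : r < 31100
  · exact allRange_spec e8Cneg_40_31080 r (by omega) c34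
  by_cases c35 : r < 31120
  · exact allRange_spec e8Cneg_40_31100 r (by omega) c35
  by_cases c36 : r < 31140
  · exact allRange_spec e8Cneg_40_31120 r (by omega) c36
  exact allRange_spec e8Cneg_40_31140 r (by omega) h2

end Cfsg.Agent.Lib.Helper3.ChevM
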