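import Cfsg.Prelude.Def_ChevE8
import Cfsg.Agent.Lib.Helper3.StB5
set_option autoImplicit false
set_option maxRecDepth 1000000
set_option Elab.async false

namespace Cfsg.Agent.Lib.Helper3.ChevM
open Cfsg.Agent.Lib.Helper3.StB

theorem e8Cneg_41_31160 : allRange 31160 31180 ((fun k => commNegCheck Cfsg.Lie.chevE8 (k / 240) (k % 240))) = true := by decide +kernel
theorem e8Cneg_41_31180 : allRange 31180 31200 ((fun k => commNegCheck Cfsg.Lie.chevE8 (k / 240) (k % 240))) = true := by decide +kernel
theorem e8Cneg_41_31200 : allRange 31200 31220 ((fun k => commNegCheck Cfsg.Lie.chevE8 (k / 240) (k % 240))) = true := by decide +kernel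
theorem e8Cneg_41_31220 : allRange 31220 31240 ((fun k => commNegCheck Cfsg.Lie.chevE8 (k / 240) (k % 240))) = true := by decide +kernel
theorem e8Cneg_41_31240 : allRange 31240 31260 ((fun k => commNegCheck Cfsg.Lie.chevE8 (k / 240) (k % 240))) = true := by decide +kernel
theorem e8Cneg_41_31260 : allRange 31260 31280 ((fun k => commNegCheck Cfsg.Lie.chevE8 (k / 240) (k % 240))) = true := by decide +kernel
theorem e8Cneg_41_31280 : allRange 31280 31300 ((fun k => commNegCheck Cfsg.Lie.chevE8 (k / 240) (k % 240))) = true := by decide +kernel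
theorem e8Cneg_41_31300 : allRange 31300 31320 ((fun k => commNegCheck Cfsg.Lie.chevE8 (k / 240) (k % 240))) = true := by decide +kernel
theorem e8Cneg_41_31320 : allRange 31320 31340 ((fun k => commNegCheck Cfsg.Lie.chevE8 (k / 240) (k % 240))) = true := by decide +kernel
theorem e8Cneg_41_31340 : allRange 31340 31360 ((fun k => commNegCheck Cfsg.Lie.chevE8 (k / 240) (k % 240))) = true := by decide +kernel
theorem e8Cneg_41_31360 : allRange 31360 31380 ((fun k => commNegCheck Cfsg.Lie.chevE8 (k / 240) (k % 240))) = true := by decide +kernel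
theorem e8Cneg_41_31380 : allRange 31380 31400 ((fun k => commNegCheck Cfsg.Lie.chevE8 (k / 240) (k % 240))) = true := by decide +kernel
theorem e8Cneg_41_31400 : allRange 31400 31420 ((fun k => commNegCheck Cfsg.Lie.chevE8 (k / 240) (k % 240))) = true := by decide +kernel
theorem e8Cneg_41_31420 : allRange 31420 31440 ((fun k => commNegCheck Cfsg.Lie.chevE8 (k / 240) (k % 240))) = true := by decide +kernel
theorem e8Cneg_41_31440 : allRange 31440 31460 ((fun k => commNegCheck Cfsg.Lie.chevE8 (k / 240) (k % 240))) = true := by decide +kernel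
theorem e8Cneg_41_31460 : allRange 31460 31480 ((fun k => commNegCheck Cfsg.Lie.chevE8 (k / 240) (k % 240))) = true := by decide +kernel
theorem e8Cneg_41_31480 : allRange 31480 31500 ((fun k => commNegCheck Cfsg.Lie.chevE8 (k / 240) (k % 240))) = true := by decide +kernel
theorem e8Cneg_41_31500 : allRange 31500 31520 ((fun k => commNegCheck Cfsg.Lie.chevE8 (k / 240) (k % 240))) = true := by decide +kernel
theorem e8Cneg_41_31520 : allRange 31520 31540 ((fun k => commNegCheck Cfsg.Lie.chevE8 (k / 240) (k % 240))) = true := by decide +kernel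
theorem e8Cneg_41_31540 : allRange 31540 31560 ((fun k => commNegCheck Cfsg.Lie.chevE8 (k / 240) (k % 240))) = true := by decide +kernel
theorem e8Cneg_41_31560 : allRange 31560 31580 ((fun k => commNegCheck Cfsg.Lie.chevE8 (k / 240) (k % 240))) = true := by decide +kernel
theorem e8Cneg_41_31580 : allRange 31580 31600 ((fun k => commNegCheck Cfsg.Lie.chevE8 (k / 240) (k % 240))) = true := by decide +kernel
theorem e8Cneg_41_31600 : allRange 31600 31620 ((fun k => commNegCheck Cfsg.Lie.chevE8 (k / 240) (k % 240))) = true := by decide +kernel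
theorem e8Cneg_41_31620 : allRange 31620 31640 ((fun k => commNegCheck Cfsg.Lie.chevE8 (k / 240) (k % 240))) = true := by decide +kernel
theorem e8Cneg_41_31640 : allRange 31640 31660 ((fun k => commNegCheck Cfsg.Lie.chevE8 (k / 240) (k % 240))) = true := by decide +kernel
theorem e8Cneg_41_31660 : allRange 31660 31680 ((fun k => commNegCheck Cfsg.Lie.chevE8 (k / 240) (k % 240))) = true := by decide +kernel
theorem e8Cneg_41_31680 : allRange 31680 31700 ((fun k => commNegCheck Cfsg.Lie.chevE8 (k / 240) (k % 240))) = true := by decide +kernel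
theorem e8Cneg_41_31700 : allRange 31700 31720 ((fun k => commNegCheck Cfsg.Lie.chevE8 (k / 240) (k % 240))) = true := by decide +kernel
theorem e8Cneg_41_31720 : allRange 31720 31740 ((fun k => commNegCheck Cfsg.Lie.chevE8 (k / 240) (k % 240))) = true := by decide +kernel
theorem e8Cneg_41_31740 : allRange 31740 31760 ((fun k => commNegCheck Cfsg.Lie.chevE8 (k / 240) (k % 240))) = true := by decide +kernel
theorem e8Cneg_41_31760 : allRange 31760 31780 ((fun k => commNegCheck Cfsg.Lie.chevE8 (k / 240) (k % 240))) = true := by decide +kernel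
theorem e8Cneg_41_31780 : allRange 31780 31800 ((fun k => commNegCheck Cfsg.Lie.chevE8 (k / 240) (k % 240))) = true := by decide +kernel
theorem e8Cneg_41_31800 : allRange 31800 31820 ((fun k => commNegCheck Cfsg.Lie.chevE8 (k / 240) (k % 240))) = true := by decide +kernel
theorem e8Cneg_41_31820 : allRange 31820 31840 ((fun k => commNegCheck Cfsg.Lie.chevE8 (k / 240) (k % 240))) = true := by decide +kernel
theorem e8Cneg_41_31840 : allRange 31840 31860 ((fun k => commNegCheck Cfsg.Lie.chevE8 (k / 240) (k % 240))) = true := by decide +kernel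
theorem e8Cneg_41_31860 : allRange 31860 31880 ((fun k => commNegCheck Cfsg.Lie.chevE8 (k / 240) (k % 240))) = true := by decide +kernel
theorem e8Cneg_41_31880 : allRange 31880 31900 ((fun k => commNegCheck Cfsg.Lie.chevE8 (k / 240) (k % 240))) = true := by decide +kernel
theorem e8Cneg_41_31900 : allRange 31900 31920 ((fun k => commNegCheck Cfsg.Lie.chevE8 (k / 240) (k % 240))) = true := by decide +kernel

/-- The commutator formula of type E8 for opposite roots (roots 31160 to 31919). -/
theorem e8Cneg_41 : ∀ r, 31160 ≤ r → r < 31920 → ((fun k => commNegCheck Cfsg.Lie.chevE8 (k / 240) (k % 240))) r = true := by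
  intro r h1 h2
  by_cases c0 : r < 31180
  · exact allRange_spec e8Cneg_41_31160 r (by omega) c0
  by_cases c1 : r < 31200
  · exact allRange_spec e8Cneg_41_31180 r (by omega) c1
  by_cases c2 : r < 31220
  · exact allRange_spec e8Cneg_41_31200 r (by omega) c2
  by_cases c3 : r < 31240
  · exact allRange_spec e8Cneg_41_31220 r (by omega) c3
  by_cases c4 : r < 31260
  · exact allRange_spec e8Cneg_41_31240 r (by omega) c4
  by_cases c5 : r < 31280
  · exact allRange_spec e8Cneg_41_31260 r (by omega) c5
  by_cases c6 : r < 31300
  · exact allRange_spec e8Cneg_41_31280 r (by omega) c6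
  by_cases c7 : r < 31320
  · exact allRange_spec e8Cneg_41_31300 r (by omega) c7
  by_cases c8 : r < 31340
  · exact allRange_spec e8Cneg_41_31320 r (by omega) c8
  by_cases c9 : r < 31360
  · exact allRange_spec e8Cneg_41_31340 r (by omega) c9
  by_cases c10 : r < 31380
  · exact allRange_spec e8Cneg_41_31360 r (by omega) c10
  by_cases c11 : r < 31400
  · exact allRange_spec e8Cneg_41_31380 r (by omega) c11
  by_cases c12 : r < 31420
  · exact allRange_spec e8Cneg_41_31400 r (by omega) c12
  by_cases c13 : r < 31440
  · exact allRange_spec e8Cneg_41_31420 r (by omega) c13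
  by_cases c14 : r < 31460
  · exact allRange_spec e8Cneg_41_31440 r (by omega) c14
  by_cases c15 : r < 31480
  · exact allRange_spec e8Cneg_41_31460 r (by omega) c15
  by_cases c16 : r < 31500
  · exact allRange_spec e8Cneg_41_31480 r (by omega) c16
  by_cases c17 : r < 31520
  · exact allRange_spec e8Cneg_41_31500 r (by omega) c17
  by_cases c18 : r < 31540
  · exact allRange_spec e8Cneg_41_31520 r (by omega) c18
  by_cases c19 : r < 31560
  · exact allRange_spec e8Cneg_41_31540 r (by omega) c19
  by_cases c20 : r < 31580
  · exact allRange_spec e8Cneg_41_31560 r (by omega) c20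
  by_cases c21 : r < 31600
  · exact allRange_spec e8Cneg_41_31580 r (by omega) c21
  by_cases c22 : r < 31620
  · exact allRange_spec e8Cneg_41_31600 r (by omega) c22
  by_cases c23 : r < 31640
  · exact allRange_spec e8Cneg_41_31620 r (by omega) c23
  by_cases c24 : r < 31660
  · exact allRange_spec e8Cneg_41_31640 r (by omega) c24
  by_cases c25 : r < 31680
  · exact allRange_spec e8Cneg_41_31660 r (by omega) c25
  by_cases c26 : r < 31700
  · exact allRange_spec e8Cneg_41_31680 r (by omega) c26
  by_cases c27 : r < 31720
  · exact allRange_spec e8Cneg_41_31700 r (by omega) c27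
  by_cases c28 : r < 31740
  · exact allRange_spec e8Cneg_41_31720 r (by omega) c28
  by_cases c29 : r < 31760
  · exact allRange_spec e8Cneg_41_31740 r (by omega) c29
  by_cases c30 : r < 31780
  · exact allRange_spec e8Cneg_41_31760 r (by omega) c30
  by_cases c31 : r < 31800
  · exact allRange_spec e8Cneg_41_31780 r (by omega) c31
  by_cases c32 : r < 31820
  · exact allRange_spec e8Cneg_41_31800 r (by omega) c32
  by_cases c33 : r < 31840
  · exact allRange_spec e8Cneg_41_31820 r (by omega) c33
  by_cases c34 : r < 31860
  · exact allRange_spec e8Cneg_41_31840 r (by omega) c34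
  by_cases c35 : r < 31880
  · exact allRange_spec e8Cneg_41_31860 r (by omega) c35
  by_cases c36 : r < 31900
  · exact allRange_spec e8Cneg_41_31880 r (by omega) c36
  exact allRange_spec e8Cneg_41_31900 r (by omega) h2

end Cfsg.Agent.Lib.Helper3.ChevM
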