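import Cfsg.Prelude.Def_ChevE8
import Cfsg.Agent.Lib.Helper3.StB5
set_option autoImplicit false
set_option maxRecDepth 1000000
set_option Elab.async false

namespace Cfsg.Agent.Lib.Helper3.ChevM
open Cfsg.Agent.Lib.Helper3.StB

theorem e8Cneg_43_32680 : allRange 32680 32700 ((fun k => commNegCheck Cfsg.Lie.chevE8 (k / 240) (k % 240))) = true := by decide +kernel
theorem e8Cneg_43_32700 : allRange 32700 32720 ((fun k => commNegCheck Cfsg.Lie.chevE8 (k / 240) (k % 240))) = true := by decide +kernel
theorem e8Cneg_43_32720 : allRange 32720 32740 ((fun k => commNegCheck Cfsg.Lie.chevE8 (k / 240) (k % 240))) = true := by decide +kernel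
theorem e8Cneg_43_32740 : allRange 32740 32760 ((fun k => commNegCheck Cfsg.Lie.chevE8 (k / 240) (k % 240))) = true := by decide +kernel
theorem e8Cneg_43_32760 : allRange 32760 32780 ((fun k => commNegCheck Cfsg.Lie.chevE8 (k / 240) (k % 240))) = true := by decide +kernel
theorem e8Cneg_43_32780 : allRange 32780 32800 ((fun k => commNegCheck Cfsg.Lie.chevE8 (k / 240) (k % 240))) = true := by decide +kernel
theorem e8Cneg_43_32800 : allRange 32800 32820 ((fun k => commNegCheck Cfsg.Lie.chevE8 (k / 240) (k % 240))) = true := by decide +kernel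
theorem e8Cneg_43_32820 : allRange 32820 32840 ((fun k => commNegCheck Cfsg.Lie.chevE8 (k / 240) (k % 240))) = true := by decide +kernel
theorem e8Cneg_43_32840 : allRange 32840 32860 ((fun k => commNegCheck Cfsg.Lie.chevE8 (k / 240) (k % 240))) = true := by decide +kernel
theorem e8Cneg_43_32860 : allRange 32860 32880 ((fun k => commNegCheck Cfsg.Lie.chevE8 (k / 240) (k % 240))) = true := by decide +kernel
theorem e8Cneg_43_32880 : allRange 32880 32900 ((fun k => commNegCheck Cfsg.Lie.chevE8 (k / 240) (k % 240))) = true := by decide +kernel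
theorem e8Cneg_43_32900 : allRange 32900 32920 ((fun k => commNegCheck Cfsg.Lie.chevE8 (k / 240) (k % 240))) = true := by decide +kernel
theorem e8Cneg_43_32920 : allRange 32920 32940 ((fun k => commNegCheck Cfsg.Lie.chevE8 (k / 240) (k % 240))) = true := by decide +kernel
theorem e8Cneg_43_32940 : allRange 32940 32960 ((fun k => commNegCheck Cfsg.Lie.chevE8 (k / 240) (k % 240))) = true := by decide +kernel
theorem e8Cneg_43_32960 : allRange 32960 32980 ((fun k => commNegCheck Cfsg.Lie.chevE8 (k / 240) (k % 240))) = true := by decide +kernel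
theorem e8Cneg_43_32980 : allRange 32980 33000 ((fun k => commNegCheck Cfsg.Lie.chevE8 (k / 240) (k % 240))) = true := by decide +kernel
theorem e8Cneg_43_33000 : allRange 33000 33020 ((fun k => commNegCheck Cfsg.Lie.chevE8 (k / 240) (k % 240))) = true := by decide +kernel
theorem e8Cneg_43_33020 : allRange 33020 33040 ((fun k => commNegCheck Cfsg.Lie.chevE8 (k / 240) (k % 240))) = true := by decide +kernel
theorem e8Cneg_43_33040 : allRange 33040 33060 ((fun k => commNegCheck Cfsg.Lie.chevE8 (k / 240) (k % 240))) = true := by decide +kernel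
theorem e8Cneg_43_33060 : allRange 33060 33080 ((fun k => commNegCheck Cfsg.Lie.chevE8 (k / 240) (k % 240))) = true := by decide +kernel
theorem e8Cneg_43_33080 : allRange 33080 33100 ((fun k => commNegCheck Cfsg.Lie.chevE8 (k / 240) (k % 240))) = true := by decide +kernel
theorem e8Cneg_43_33100 : allRange 33100 33120 ((fun k => commNegCheck Cfsg.Lie.chevE8 (k / 240) (k % 240))) = true := by decide +kernel
theorem e8Cneg_43_33120 : allRange 33120 33140 ((fun k => commNegCheck Cfsg.Lie.chevE8 (k / 240) (k % 240))) = true := by decide +kernel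
theorem e8Cneg_43_33140 : allRange 33140 33160 ((fun k => commNegCheck Cfsg.Lie.chevE8 (k / 240) (k % 240))) = true := by decide +kernel
theorem e8Cneg_43_33160 : allRange 33160 33180 ((fun k => commNegCheck Cfsg.Lie.chevE8 (k / 240) (k % 240))) = true := by decide +kernel
theorem e8Cneg_43_33180 : allRange 33180 33200 ((fun k => commNegCheck Cfsg.Lie.chevE8 (k / 240) (k % 240))) = true := by decide +kernel
theorem e8Cneg_43_33200 : allRange 33200 33220 ((fun k => commNegCheck Cfsg.Lie.chevE8 (k / 240) (k % 240))) = true := by decide +kernel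
theorem e8Cneg_43_33220 : allRange 33220 33240 ((fun k => commNegCheck Cfsg.Lie.chevE8 (k / 240) (k % 240))) = true := by decide +kernel
theorem e8Cneg_43_33240 : allRange 33240 33260 ((fun k => commNegCheck Cfsg.Lie.chevE8 (k / 240) (k % 240))) = true := by decide +kernel
theorem e8Cneg_43_33260 : allRange 33260 33280 ((fun k => commNegCheck Cfsg.Lie.chevE8 (k / 240) (k % 240))) = true := by decide +kernel
theorem e8Cneg_43_33280 : allRange 33280 33300 ((fun k => commNegCheck Cfsg.Lie.chevE8 (k / 240) (k % 240))) = true := by decide +kernel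
theorem e8Cneg_43_33300 : allRange 33300 33320 ((fun k => commNegCheck Cfsg.Lie.chevE8 (k / 240) (k % 240))) = true := by decide +kernel
theorem e8Cneg_43_33320 : allRange 33320 33340 ((fun k => commNegCheck Cfsg.Lie.chevE8 (k / 240) (k % 240))) = true := by decide +kernel
theorem e8Cneg_43_33340 : allRange 33340 33360 ((fun k => commNegCheck Cfsg.Lie.chevE8 (k / 240) (k % 240))) = true := by decide +kernel
theorem e8Cneg_43_33360 : allRange 33360 33380 ((fun k => commNegCheck Cfsg.Lie.chevE8 (k / 240) (k % 240))) = true := by decide +kernel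
theorem e8Cneg_43_33380 : allRange 33380 33400 ((fun k => commNegCheck Cfsg.Lie.chevE8 (k / 240) (k % 240))) = true := by decide +kernel
theorem e8Cneg_43_33400 : allRange 33400 33420 ((fun k => commNegCheck Cfsg.Lie.chevE8 (k / 240) (k % 240))) = true := by decide +kernel
theorem e8Cneg_43_33420 : allRange 33420 33440 ((fun k => commNegCheck Cfsg.Lie.chevE8 (k / 240) (k % 240))) = true := by decide +kernel

/-- The commutator formula of type E8 for opposite roots (roots 32680 to 33439). -/
theorem e8Cneg_43 : ∀ r, 32680 ≤ r → r < 33440 → ((fun k => commNegCheck Cfsg.Lie.chevE8 (k / 240) (k % 240))) r = true := by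
  intro r h1 h2
  by_cases c0 : r < 32700
  · exact allRange_spec e8Cneg_43_32680 r (by omega) c0
  by_cases c1 : r < 32720
  · exact allRange_spec e8Cneg_43_32700 r (by omega) c1
  by_cases c2 : r < 32740
  · exact allRange_spec e8Cneg_43_32720 r (by omega) c2
  by_cases c3 : r < 32760
  · exact allRange_spec e8Cneg_43_32740 r (by omega) c3
  by_cases c4 : r < 32780
  · exact allRange_spec e8Cneg_43_32760 r (by omega) c4
  by_cases c5 : r < 32800
  · exact allRange_spec e8Cneg_43_32780 r (by omega) c5
  by_cases c6 : r < 32820
  · exact allRange_spec e8Cneg_43_32800 r (by omega) c6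
  by_cases c7 : r < 32840
  · exact allRange_spec e8Cneg_43_32820 r (by omega) c7
  by_cases c8 : r < 32860
  · exact allRange_spec e8Cneg_43_32840 r (by omega) c8
  by_cases c9 : r < 32880
  · exact allRange_spec e8Cneg_43_32860 r (by omega) c9
  by_cases c10 : r < 32900
  · exact allRange_spec e8Cneg_43_32880 r (by omega) c10
  by_cases c11 : r < 32920
  · exact allRange_spec e8Cneg_43_32900 r (by omega) c11
  by_cases c12 : r < 32940
  · exact allRange_spec e8Cneg_43_32920 r (by omega) c12
  by_cases c13 : r < 32960
  · exact allRange_spec e8Cneg_43_32940 r (by omega) c13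
  by_cases c14 : r < 32980
  · exact allRange_spec e8Cneg_43_32960 r (by omega) c14
  by_cases c15 : r < 33000
  · exact allRange_spec e8Cneg_43_32980 r (by omega) c15
  by_cases c16 : r < 33020
  · exact allRange_spec e8Cneg_43_33000 r (by omega) c16
  by_cases c17 : r < 33040
  · exact allRange_spec e8Cneg_43_33020 r (by omega) c17
  by_cases c18 : r < 33060
  · exact allRange_spec e8Cneg_43_33040 r (by omega) c18
  by_cases c19 : r < 33080
  · exact allRange_spec e8Cneg_43_33060 r (by omega) c19
  by_cases c20 : r < 33100
  · exact allRange_spec e8Cneg_43_33080 r (by omega) c20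
  by_cases c21 : r < 33120
  · exact allRange_spec e8Cneg_43_33100 r (by omega) c21
  by_cases c22 : r < 33140
  · exact allRange_spec e8Cneg_43_33120 r (by omega) c22
  by_cases c23 : r < 33160
  · exact allRange_spec e8Cneg_43_33140 r (by omega) c23
  by_cases c24 : r < 33180
  · exact allRange_spec e8Cneg_43_33160 r (by omega) c24
  by_cases c25 : r < 33200
  · exact allRange_spec e8Cneg_43_33180 r (by omega) c25
  by_cases c26 : r < 33220
  · exact allRange_spec e8Cneg_43_33200 r (by omega) c26
  by_cases c27 : r < 33240
  · exact allRange_spec e8Cneg_43_33220 r (by omega) c27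
  by_cases c28 : r < 33260
  · exact allRange_spec e8Cneg_43_33240 r (by omega) c28
  by_cases c29 : r < 33280
  · exact allRange_spec e8Cneg_43_33260 r (by omega) c29
  by_cases c30 : r < 33300
  · exact allRange_spec e8Cneg_43_33280 r (by omega) c30
  by_cases c31 : r < 33320
  · exact allRange_spec e8Cneg_43_33300 r (by omega) c31
  by_cases c32 : r < 33340
  · exact allRange_spec e8Cneg_43_33320 r (by omega) c32
  by_cases c33 : r < 33360
  · exact allRange_spec e8Cneg_43_33340 r (by omega) c33
  by_cases c34 : r < 33380
  · exact allRange_spec e8Cneg_43_33360 r (by omega) c34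
  by_cases c35 : r < 33400
  · exact allRange_spec e8Cneg_43_33380 r (by omega) c35
  by_cases c36 : r < 33420
  · exact allRange_spec e8Cneg_43_33400 r (by omega) c36
  exact allRange_spec e8Cneg_43_33420 r (by omega) h2

end Cfsg.Agent.Lib.Helper3.ChevM
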