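import Cfsg.Prelude.Def_ChevE8
import Cfsg.Agent.Lib.Helper3.StB5
set_option autoImplicit false
set_option maxRecDepth 1000000
set_option Elab.async false

namespace Cfsg.Agent.Lib.Helper3.ChevM
open Cfsg.Agent.Lib.Helper3.StB

theorem e8Cneg_44_33440 : allRange 33440 33460 ((fun k => commNegCheck Cfsg.Lie.chevE8 (k / 240) (k % 240))) = true := by decide +kernel
theorem e8Cneg_44_33460 : allRange 33460 33480 ((fun k => commNegCheck Cfsg.Lie.chevE8 (k / 240) (k % 240))) = true := by decide +kernel
theorem e8Cneg_44_33480 : allRange 33480 33500 ((fun k => commNegCheck Cfsg.Lie.chevE8 (k / 240) (k % 240))) = true := by decide +kernel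
theorem e8Cneg_44_33500 : allRange 33500 33520 ((fun k => commNegCheck Cfsg.Lie.chevE8 (k / 240) (k % 240))) = true := by decide +kernel
theorem e8Cneg_44_33520 : allRange 33520 33540 ((fun k => commNegCheck Cfsg.Lie.chevE8 (k / 240) (k % 240))) = true := by decide +kernel
theorem e8Cneg_44_33540 : allRange 33540 33560 ((fun k => commNegCheck Cfsg.Lie.chevE8 (k / 240) (k % 240))) = true := by decide +kernel
theorem e8Cneg_44_33560 : allRange 33560 33580 ((fun k => commNegCheck Cfsg.Lie.chevE8 (k / 240) (k % 240))) = true := by decide +kernel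
theorem e8Cneg_44_33580 : allRange 33580 33600 ((fun k => commNegCheck Cfsg.Lie.chevE8 (k / 240) (k % 240))) = true := by decide +kernel
theorem e8Cneg_44_33600 : allRange 33600 33620 ((fun k => commNegCheck Cfsg.Lie.chevE8 (k / 240) (k % 240))) = true := by decide +kernel
theorem e8Cneg_44_33620 : allRange 33620 33640 ((fun k => commNegCheck Cfsg.Lie.chevE8 (k / 240) (k % 240))) = true := by decide +kernel
theorem e8Cneg_44_33640 : allRange 33640 33660 ((fun k => commNegCheck Cfsg.Lie.chevE8 (k / 240) (k % 240))) = true := by decide +kernel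
theorem e8Cneg_44_33660 : allRange 33660 33680 ((fun k => commNegCheck Cfsg.Lie.chevE8 (k / 240) (k % 240))) = true := by decide +kernel
theorem e8Cneg_44_33680 : allRange 33680 33700 ((fun k => commNegCheck Cfsg.Lie.chevE8 (k / 240) (k % 240))) = true := by decide +kernel
theorem e8Cneg_44_33700 : allRange 33700 33720 ((fun k => commNegCheck Cfsg.Lie.chevE8 (k / 240) (k % 240))) = true := by decide +kernel
theorem e8Cneg_44_33720 : allRange 33720 33740 ((fun k => commNegCheck Cfsg.Lie.chevE8 (k / 240) (k % 240))) = true := by decide +kernel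
theorem e8Cneg_44_33740 : allRange 33740 33760 ((fun k => commNegCheck Cfsg.Lie.chevE8 (k / 240) (k % 240))) = true := by decide +kernel
theorem e8Cneg_44_33760 : allRange 33760 33780 ((fun k => commNegCheck Cfsg.Lie.chevE8 (k / 240) (k % 240))) = true := by decide +kernel
theorem e8Cneg_44_33780 : allRange 33780 33800 ((fun k => commNegCheck Cfsg.Lie.chevE8 (k / 240) (k % 240))) = true := by decide +kernel
theorem e8Cneg_44_33800 : allRange 33800 33820 ((fun k => commNegCheck Cfsg.Lie.chevE8 (k / 240) (k % 240))) = true := by decide +kernel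
theorem e8Cneg_44_33820 : allRange 33820 33840 ((fun k => commNegCheck Cfsg.Lie.chevE8 (k / 240) (k % 240))) = true := by decide +kernel
theorem e8Cneg_44_33840 : allRange 33840 33860 ((fun k => commNegCheck Cfsg.Lie.chevE8 (k / 240) (k % 240))) = true := by decide +kernel
theorem e8Cneg_44_33860 : allRange 33860 33880 ((fun k => commNegCheck Cfsg.Lie.chevE8 (k / 240) (k % 240))) = true := by decide +kernel
theorem e8Cneg_44_33880 : allRange 33880 33900 ((fun k => commNegCheck Cfsg.Lie.chevE8 (k / 240) (k % 240))) = true := by decide +kernel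
theorem e8Cneg_44_33900 : allRange 33900 33920 ((fun k => commNegCheck Cfsg.Lie.chevE8 (k / 240) (k % 240))) = true := by decide +kernel
theorem e8Cneg_44_33920 : allRange 33920 33940 ((fun k => commNegCheck Cfsg.Lie.chevE8 (k / 240) (k % 240))) = true := by decide +kernel
theorem e8Cneg_44_33940 : allRange 33940 33960 ((fun k => commNegCheck Cfsg.Lie.chevE8 (k / 240) (k % 240))) = true := by decide +kernel
theorem e8Cneg_44_33960 : allRange 33960 33980 ((fun k => commNegCheck Cfsg.Lie.chevE8 (k / 240) (k % 240))) = true := by decide +kernel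
theorem e8Cneg_44_33980 : allRange 33980 34000 ((fun k => commNegCheck Cfsg.Lie.chevE8 (k / 240) (k % 240))) = true := by decide +kernel
theorem e8Cneg_44_34000 : allRange 34000 34020 ((fun k => commNegCheck Cfsg.Lie.chevE8 (k / 240) (k % 240))) = true := by decide +kernel
theorem e8Cneg_44_34020 : allRange 34020 34040 ((fun k => commNegCheck Cfsg.Lie.chevE8 (k / 240) (k % 240))) = true := by decide +kernel
theorem e8Cneg_44_34040 : allRange 34040 34060 ((fun k => commNegCheck Cfsg.Lie.chevE8 (k / 240) (k % 240))) = true := by decide +kernel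
theorem e8Cneg_44_34060 : allRange 34060 34080 ((fun k => commNegCheck Cfsg.Lie.chevE8 (k / 240) (k % 240))) = true := by decide +kernel
theorem e8Cneg_44_34080 : allRange 34080 34100 ((fun k => commNegCheck Cfsg.Lie.chevE8 (k / 240) (k % 240))) = true := by decide +kernel
theorem e8Cneg_44_34100 : allRange 34100 34120 ((fun k => commNegCheck Cfsg.Lie.chevE8 (k / 240) (k % 240))) = true := by decide +kernel
theorem e8Cneg_44_34120 : allRange 34120 34140 ((fun k => commNegCheck Cfsg.Lie.chevE8 (k / 240) (k % 240))) = true := by decide +kernel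
theorem e8Cneg_44_34140 : allRange 34140 34160 ((fun k => commNegCheck Cfsg.Lie.chevE8 (k / 240) (k % 240))) = true := by decide +kernel
theorem e8Cneg_44_34160 : allRange 34160 34180 ((fun k => commNegCheck Cfsg.Lie.chevE8 (k / 240) (k % 240))) = true := by decide +kernel
theorem e8Cneg_44_34180 : allRange 34180 34200 ((fun k => commNegCheck Cfsg.Lie.chevE8 (k / 240) (k % 240))) = true := by decide +kernel

/-- The commutator formula of type E8 for opposite roots (roots 33440 to 34199). -/
theorem e8Cneg_44 : ∀ r, 33440 ≤ r → r < 34200 → ((fun k => commNegCheck Cfsg.Lie.chevE8 (k / 240) (k % 240))) r = true := by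
  intro r h1 h2
  by_cases c0 : r < 33460
  · exact allRange_spec e8Cneg_44_33440 r (by omega) c0
  by_cases c1 : r < 33480
  · exact allRange_spec e8Cneg_44_33460 r (by omega) c1
  by_cases c2 : r < 33500
  · exact allRange_spec e8Cneg_44_33480 r (by omega) c2
  by_cases c3 : r < 33520
  · exact allRange_spec e8Cneg_44_33500 r (by omega) c3
  by_cases c4 : r < 33540
  · exact allRange_spec e8Cneg_44_33520 r (by omega) c4
  by_cases c5 : r < 33560
  · exact allRange_spec e8Cneg_44_33540 r (by omega) c5
  by_cases c6 : r < 33580
  · exact allRange_spec e8Cneg_44_33560 r (by omega) c6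
  by_cases c7 : r < 33600
  · exact allRange_spec e8Cneg_44_33580 r (by omega) c7
  by_cases c8 : r < 33620
  · exact allRange_spec e8Cneg_44_33600 r (by omega) c8
  by_cases c9 : r < 33640
  · exact allRange_spec e8Cneg_44_33620 r (by omega) c9
  by_cases c10 : r < 33660
  · exact allRange_spec e8Cneg_44_33640 r (by omega) c10
  by_cases c11 : r < 33680
  · exact allRange_spec e8Cneg_44_33660 r (by omega) c11
  by_cases c12 : r < 33700
  · exact allRange_spec e8Cneg_44_33680 r (by omega) c12
  by_cases c13 : r < 33720
  · exact allRange_spec e8Cneg_44_33700 r (by omega) c13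
  by_cases c14 : r < 33740
  · exact allRange_spec e8Cneg_44_33720 r (by omega) c14
  by_cases c15 : r < 33760
  · exact allRange_spec e8Cneg_44_33740 r (by omega) c15
  by_cases c16 : r < 33780
  · exact allRange_spec e8Cneg_44_33760 r (by omega) c16
  by_cases c17 : r < 33800
  · exact allRange_spec e8Cneg_44_33780 r (by omega) c17
  by_cases c18 : r < 33820
  · exact allRange_spec e8Cneg_44_33800 r (by omega) c18
  by_cases c19 : r < 33840
  · exact allRange_spec e8Cneg_44_33820 r (by omega) c19
  by_cases c20 : r < 33860
  · exact allRange_spec e8Cneg_44_33840 r (by omega) c20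
  by_cases c21 : r < 33880
  · exact allRange_spec e8Cneg_44_33860 r (by omega) c21
  by_cases c22 : r < 33900
  · exact allRange_spec e8Cneg_44_33880 r (by omega) c22
  by_cases c23 : r < 33920
  · exact allRange_spec e8Cneg_44_33900 r (by omega) c23
  by_cases c24 : r < 33940
  · exact allRange_spec e8Cneg_44_33920 r (by omega) c24
  by_cases c25 : r < 33960
  · exact allRange_spec e8Cneg_44_33940 r (by omega) c25
  by_cases c26 : r < 33980
  · exact allRange_spec e8Cneg_44_33960 r (by omega) c26
  by_cases c27 : r < 34000
  · exact allRange_spec e8Cneg_44_33980 r (by omega) c27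
  by_cases c28 : r < 34020
  · exact allRange_spec e8Cneg_44_34000 r (by omega) c28
  by_cases c29 : r < 34040
  · exact allRange_spec e8Cneg_44_34020 r (by omega) c29
  by_cases c30 : r < 34060
  · exact allRange_spec e8Cneg_44_34040 r (by omega) c30
  by_cases c31 : r < 34080
  · exact allRange_spec e8Cneg_44_34060 r (by omega) c31
  by_cases c32 : r < 34100
  · exact allRange_spec e8Cneg_44_34080 r (by omega) c32
  by_cases c33 : r < 34120
  · exact allRange_spec e8Cneg_44_34100 r (by omega) c33
  by_cases c34 : r < 34140
  · exact allRange_spec e8Cneg_44_34120 r (by omega) c34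
  by_cases c35 : r < 34160
  · exact allRange_spec e8Cneg_44_34140 r (by omega) c35
  by_cases c36 : r < 34180
  · exact allRange_spec e8Cneg_44_34160 r (by omega) c36
  exact allRange_spec e8Cneg_44_34180 r (by omega) h2

end Cfsg.Agent.Lib.Helper3.ChevM
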