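import Cfsg.Prelude.Def_ChevE8
import Cfsg.Agent.Lib.Helper3.StB5
set_option autoImplicit false
set_option maxRecDepth 1000000
set_option Elab.async false

namespace Cfsg.Agent.Lib.Helper3.ChevM
open Cfsg.Agent.Lib.Helper3.StB

theorem e8Cneg_45_34200 : allRange 34200 34220 ((fun k => commNegCheck Cfsg.Lie.chevE8 (k / 240) (k % 240))) = true := by decide +kernel
theorem e8Cneg_45_34220 : allRange 34220 34240 ((fun k => commNegCheck Cfsg.Lie.chevE8 (k / 240) (k % 240))) = true := by decide +kernel
theorem e8Cneg_45_34240 : allRange 34240 34260 ((fun k => commNegCheck Cfsg.Lie.chevE8 (k / 240) (k % 240))) = true := by decide +kernel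
theorem e8Cneg_45_34260 : allRange 34260 34280 ((fun k => commNegCheck Cfsg.Lie.chevE8 (k / 240) (k % 240))) = true := by decide +kernel
theorem e8Cneg_45_34280 : allRange 34280 34300 ((fun k => commNegCheck Cfsg.Lie.chevE8 (k / 240) (k % 240))) = true := by decide +kernel
theorem e8Cneg_45_34300 : allRange 34300 34320 ((fun k => commNegCheck Cfsg.Lie.chevE8 (k / 240) (k % 240))) = true := by decide +kernel
theorem e8Cneg_45_34320 : allRange 34320 34340 ((fun k => commNegCheck Cfsg.Lie.chevE8 (k / 240) (k % 240))) = true := by decide +kernel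
theorem e8Cneg_45_34340 : allRange 34340 34360 ((fun k => commNegCheck Cfsg.Lie.chevE8 (k / 240) (k % 240))) = true := by decide +kernel
theorem e8Cneg_45_34360 : allRange 34360 34380 ((fun k => commNegCheck Cfsg.Lie.chevE8 (k / 240) (k % 240))) = true := by decide +kernel
theorem e8Cneg_45_34380 : allRange 34380 34400 ((fun k => commNegCheck Cfsg.Lie.chevE8 (k / 240) (k % 240))) = true := by decide +kernel
theorem e8Cneg_45_34400 : allRange 34400 34420 ((fun k => commNegCheck Cfsg.Lie.chevE8 (k / 240) (k % 240))) = true := by decide +kernel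
theorem e8Cneg_45_34420 : allRange 34420 34440 ((fun k => commNegCheck Cfsg.Lie.chevE8 (k / 240) (k % 240))) = true := by decide +kernel
theorem e8Cneg_45_34440 : allRange 34440 34460 ((fun k => commNegCheck Cfsg.Lie.chevE8 (k / 240) (k % 240))) = true := by decide +kernel
theorem e8Cneg_45_34460 : allRange 34460 34480 ((fun k => commNegCheck Cfsg.Lie.chevE8 (k / 240) (k % 240))) = true := by decide +kernel
theorem e8Cneg_45_34480 : allRange 34480 34500 ((fun k => commNegCheck Cfsg.Lie.chevE8 (k / 240) (k % 240))) = true := by decide +kernel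
theorem e8Cneg_45_34500 : allRange 34500 34520 ((fun k => commNegCheck Cfsg.Lie.chevE8 (k / 240) (k % 240))) = true := by decide +kernel
theorem e8Cneg_45_34520 : allRange 34520 34540 ((fun k => commNegCheck Cfsg.Lie.chevE8 (k / 240) (k % 240))) = true := by decide +kernel
theorem e8Cneg_45_34540 : allRange 34540 34560 ((fun k => commNegCheck Cfsg.Lie.chevE8 (k / 240) (k % 240))) = true := by decide +kernel
theorem e8Cneg_45_34560 : allRange 34560 34580 ((fun k => commNegCheck Cfsg.Lie.chevE8 (k / 240) (k % 240))) = true := by decide +kernel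
theorem e8Cneg_45_34580 : allRange 34580 34600 ((fun k => commNegCheck Cfsg.Lie.chevE8 (k / 240) (k % 240))) = true := by decide +kernel
theorem e8Cneg_45_34600 : allRange 34600 34620 ((fun k => commNegCheck Cfsg.Lie.chevE8 (k / 240) (k % 240))) = true := by decide +kernel
theorem e8Cneg_45_34620 : allRange 34620 34640 ((fun k => commNegCheck Cfsg.Lie.chevE8 (k / 240) (k % 240))) = true := by decide +kernel
theorem e8Cneg_45_34640 : allRange 34640 34660 ((fun k => commNegCheck Cfsg.Lie.chevE8 (k / 240) (k % 240))) = true := by decide +kernel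
theorem e8Cneg_45_34660 : allRange 34660 34680 ((fun k => commNegCheck Cfsg.Lie.chevE8 (k / 240) (k % 240))) = true := by decide +kernel
theorem e8Cneg_45_34680 : allRange 34680 34700 ((fun k => commNegCheck Cfsg.Lie.chevE8 (k / 240) (k % 240))) = true := by decide +kernel
theorem e8Cneg_45_34700 : allRange 34700 34720 ((fun k => commNegCheck Cfsg.Lie.chevE8 (k / 240) (k % 240))) = true := by decide +kernel
theorem e8Cneg_45_34720 : allRange 34720 34740 ((fun k => commNegCheck Cfsg.Lie.chevE8 (k / 240) (k % 240))) = true := by decide +kernel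
theorem e8Cneg_45_34740 : allRange 34740 34760 ((fun k => commNegCheck Cfsg.Lie.chevE8 (k / 240) (k % 240))) = true := by decide +kernel
theorem e8Cneg_45_34760 : allRange 34760 34780 ((fun k => commNegCheck Cfsg.Lie.chevE8 (k / 240) (k % 240))) = true := by decide +kernel
theorem e8Cneg_45_34780 : allRange 34780 34800 ((fun k => commNegCheck Cfsg.Lie.chevE8 (k / 240) (k % 240))) = true := by decide +kernel
theorem e8Cneg_45_34800 : allRange 34800 34820 ((fun k => commNegCheck Cfsg.Lie.chevE8 (k / 240) (k % 240))) = true := by decide +kernel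
theorem e8Cneg_45_34820 : allRange 34820 34840 ((fun k => commNegCheck Cfsg.Lie.chevE8 (k / 240) (k % 240))) = true := by decide +kernel
theorem e8Cneg_45_34840 : allRange 34840 34860 ((fun k => commNegCheck Cfsg.Lie.chevE8 (k / 240) (k % 240))) = true := by decide +kernel
theorem e8Cneg_45_34860 : allRange 34860 34880 ((fun k => commNegCheck Cfsg.Lie.chevE8 (k / 240) (k % 240))) = true := by decide +kernel
theorem e8Cneg_45_34880 : allRange 34880 34900 ((fun k => commNegCheck Cfsg.Lie.chevE8 (k / 240) (k % 240))) = true := by decide +kernel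
theorem e8Cneg_45_34900 : allRange 34900 34920 ((fun k => commNegCheck Cfsg.Lie.chevE8 (k / 240) (k % 240))) = true := by decide +kernel
theorem e8Cneg_45_34920 : allRange 34920 34940 ((fun k => commNegCheck Cfsg.Lie.chevE8 (k / 240) (k % 240))) = true := by decide +kernel
theorem e8Cneg_45_34940 : allRange 34940 34960 ((fun k => commNegCheck Cfsg.Lie.chevE8 (k / 240) (k % 240))) = true := by decide +kernel

/-- The commutator formula of type E8 for opposite roots (roots 34200 to 34959). -/
theorem e8Cneg_45 : ∀ r, 34200 ≤ r → r < 34960 → ((fun k => commNegCheck Cfsg.Lie.chevE8 (k / 240) (k % 240))) r = true := by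
  intro r h1 h2
  by_cases c0 : r < 34220
  · exact allRange_spec e8Cneg_45_34200 r (by omega) c0
  by_cases c1 : r < 34240
  · exact allRange_spec e8Cneg_45_34220 r (by omega) c1
  by_cases c2 : r < 34260
  · exact allRange_spec e8Cneg_45_34240 r (by omega) c2
  by_cases c3 : r < 34280
  · exact allRange_spec e8Cneg_45_34260 r (by omega) c3
  by_cases c4 : r < 34300
  · exact allRange_spec e8Cneg_45_34280 r (by omega) c4
  by_cases c5 : r < 34320
  · exact allRange_spec e8Cneg_45_34300 r (by omega) c5
  by_cases c6 : r < 34340
  · exact allRange_spec e8Cneg_45_34320 r (by omega) c6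
  by_cases c7 : r < 34360
  · exact allRange_spec e8Cneg_45_34340 r (by omega) c7
  by_cases c8 : r < 34380
  · exact allRange_spec e8Cneg_45_34360 r (by omega) c8
  by_cases c9 : r < 34400
  · exact allRange_spec e8Cneg_45_34380 r (by omega) c9
  by_cases c10 : r < 34420
  · exact allRange_spec e8Cneg_45_34400 r (by omega) c10
  by_cases c11 : r < 34440
  · exact allRange_spec e8Cneg_45_34420 r (by omega) c11
  by_cases c12 : r < 34460
  · exact allRange_spec e8Cneg_45_34440 r (by omega) c12
  by_cases c13 : r < 34480
  · exact allRange_spec e8Cneg_45_34460 r (by omega) c13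
  by_cases c14 : r < 34500
  · exact allRange_spec e8Cneg_45_34480 r (by omega) c14
  by_cases c15 : r < 34520
  · exact allRange_spec e8Cneg_45_34500 r (by omega) c15
  by_cases c16 : r < 34540
  · exact allRange_spec e8Cneg_45_34520 r (by omega) c16
  by_cases c17 : r < 34560
  · exact allRange_spec e8Cneg_45_34540 r (by omega) c17
  by_cases c18 : r < 34580
  · exact allRange_spec e8Cneg_45_34560 r (by omega) c18
  by_cases c19 : r < 34600
  · exact allRange_spec e8Cneg_45_34580 r (by omega) c19
  by_cases c20 : r < 34620
  · exact allRange_spec e8Cneg_45_34600 r (by omega) c20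
  by_cases c21 : r < 34640
  · exact allRange_spec e8Cneg_45_34620 r (by omega) c21
  by_cases c22 : r < 34660
  · exact allRange_spec e8Cneg_45_34640 r (by omega) c22
  by_cases c23 : r < 34680
  · exact allRange_spec e8Cneg_45_34660 r (by omega) c23
  by_cases c24 : r < 34700
  · exact allRange_spec e8Cneg_45_34680 r (by omega) c24
  by_cases c25 : r < 34720
  · exact allRange_spec e8Cneg_45_34700 r (by omega) c25
  by_cases c26 : r < 34740
  · exact allRange_spec e8Cneg_45_34720 r (by omega) c26
  by_cases c27 : r < 34760
  · exact allRange_spec e8Cneg_45_34740 r (by omega) c27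
  by_cases c28 : r < 34780
  · exact allRange_spec e8Cneg_45_34760 r (by omega) c28
  by_cases c29 : r < 34800
  · exact allRange_spec e8Cneg_45_34780 r (by omega) c29
  by_cases c30 : r < 34820
  · exact allRange_spec e8Cneg_45_34800 r (by omega) c30
  by_cases c31 : r < 34840
  · exact allRange_spec e8Cneg_45_34820 r (by omega) c31
  by_cases c32 : r < 34860
  · exact allRange_spec e8Cneg_45_34840 r (by omega) c32
  by_cases c33 : r < 34880
  · exact allRange_spec e8Cneg_45_34860 r (by omega) c33
  by_cases c34 : r < 34900
  · exact allRange_spec e8Cneg_45_34880 r (by omega) c34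
  by_cases c35 : r < 34920
  · exact allRange_spec e8Cneg_45_34900 r (by omega) c35
  by_cases c36 : r < 34940
  · exact allRange_spec e8Cneg_45_34920 r (by omega) c36
  exact allRange_spec e8Cneg_45_34940 r (by omega) h2

end Cfsg.Agent.Lib.Helper3.ChevM
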