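import Cfsg.Prelude.Def_ChevE8
import Cfsg.Agent.Lib.Helper3.StB5
set_option autoImplicit false
set_option maxRecDepth 1000000
set_option Elab.async false

namespace Cfsg.Agent.Lib.Helper3.ChevM
open Cfsg.Agent.Lib.Helper3.StB

theorem e8Cneg_46_34960 : allRange 34960 34980 ((fun k => commNegCheck Cfsg.Lie.chevE8 (k / 240) (k % 240))) = true := by decide +kernel
theorem e8Cneg_46_34980 : allRange 34980 35000 ((fun k => commNegCheck Cfsg.Lie.chevE8 (k / 240) (k % 240))) = true := by decide +kernel
theorem e8Cneg_46_35000 : allRange 35000 35020 ((fun k => commNegCheck Cfsg.Lie.chevE8 (k / 240) (k % 240))) = true := by decide +kernel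
theorem e8Cneg_46_35020 : allRange 35020 35040 ((fun k => commNegCheck Cfsg.Lie.chevE8 (k / 240) (k % 240))) = true := by decide +kernel
theorem e8Cneg_46_35040 : allRange 35040 35060 ((fun k => commNegCheck Cfsg.Lie.chevE8 (k / 240) (k % 240))) = true := by decide +kernel
theorem e8Cneg_46_35060 : allRange 35060 35080 ((fun k => commNegCheck Cfsg.Lie.chevE8 (k / 240) (k % 240))) = true := by decide +kernel
theorem e8Cneg_46_35080 : allRange 35080 35100 ((fun k => commNegCheck Cfsg.Lie.chevE8 (k / 240) (k % 240))) = true := by decide +kernel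
theorem e8Cneg_46_35100 : allRange 35100 35120 ((fun k => commNegCheck Cfsg.Lie.chevE8 (k / 240) (k % 240))) = true := by decide +kernel
theorem e8Cneg_46_35120 : allRange 35120 35140 ((fun k => commNegCheck Cfsg.Lie.chevE8 (k / 240) (k % 240))) = true := by decide +kernel
theorem e8Cneg_46_35140 : allRange 35140 35160 ((fun k => commNegCheck Cfsg.Lie.chevE8 (k / 240) (k % 240))) = true := by decide +kernel
theorem e8Cneg_46_35160 : allRange 35160 35180 ((fun k => commNegCheck Cfsg.Lie.chevE8 (k / 240) (k % 240))) = true := by decide +kernel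
theorem e8Cneg_46_35180 : allRange 35180 35200 ((fun k => commNegCheck Cfsg.Lie.chevE8 (k / 240) (k % 240))) = true := by decide +kernel
theorem e8Cneg_46_35200 : allRange 35200 35220 ((fun k => commNegCheck Cfsg.Lie.chevE8 (k / 240) (k % 240))) = true := by decide +kernel
theorem e8Cneg_46_35220 : allRange 35220 35240 ((fun k => commNegCheck Cfsg.Lie.chevE8 (k / 240) (k % 240))) = true := by decide +kernel
theorem e8Cneg_46_35240 : allRange 35240 35260 ((fun k => commNegCheck Cfsg.Lie.chevE8 (k / 240) (k % 240))) = true := by decide +kernel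
theorem e8Cneg_46_35260 : allRange 35260 35280 ((fun k => commNegCheck Cfsg.Lie.chevE8 (k / 240) (k % 240))) = true := by decide +kernel
theorem e8Cneg_46_35280 : allRange 35280 35300 ((fun k => commNegCheck Cfsg.Lie.chevE8 (k / 240) (k % 240))) = true := by decide +kernel
theorem e8Cneg_46_35300 : allRange 35300 35320 ((fun k => commNegCheck Cfsg.Lie.chevE8 (k / 240) (k % 240))) = true := by decide +kernel
theorem e8Cneg_46_35320 : allRange 35320 35340 ((fun k => commNegCheck Cfsg.Lie.chevE8 (k / 240) (k % 240))) = true := by decide +kernel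
theorem e8Cneg_46_35340 : allRange 35340 35360 ((fun k => commNegCheck Cfsg.Lie.chevE8 (k / 240) (k % 240))) = true := by decide +kernel
theorem e8Cneg_46_35360 : allRange 35360 35380 ((fun k => commNegCheck Cfsg.Lie.chevE8 (k / 240) (k % 240))) = true := by decide +kernel
theorem e8Cneg_46_35380 : allRange 35380 35400 ((fun k => commNegCheck Cfsg.Lie.chevE8 (k / 240) (k % 240))) = true := by decide +kernel
theorem e8Cneg_46_35400 : allRange 35400 35420 ((fun k => commNegCheck Cfsg.Lie.chevE8 (k / 240) (k % 240))) = true := by decide +kernel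
theorem e8Cneg_46_35420 : allRange 35420 35440 ((fun k => commNegCheck Cfsg.Lie.chevE8 (k / 240) (k % 240))) = true := by decide +kernel
theorem e8Cneg_46_35440 : allRange 35440 35460 ((fun k => commNegCheck Cfsg.Lie.chevE8 (k / 240) (k % 240))) = true := by decide +kernel
theorem e8Cneg_46_35460 : allRange 35460 35480 ((fun k => commNegCheck Cfsg.Lie.chevE8 (k / 240) (k % 240))) = true := by decide +kernel
theorem e8Cneg_46_35480 : allRange 35480 35500 ((fun k => commNegCheck Cfsg.Lie.chevE8 (k / 240) (k % 240))) = true := by decide +kernel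
theorem e8Cneg_46_35500 : allRange 35500 35520 ((fun k => commNegCheck Cfsg.Lie.chevE8 (k / 240) (k % 240))) = true := by decide +kernel
theorem e8Cneg_46_35520 : allRange 35520 35540 ((fun k => commNegCheck Cfsg.Lie.chevE8 (k / 240) (k % 240))) = true := by decide +kernel
theorem e8Cneg_46_35540 : allRange 35540 35560 ((fun k => commNegCheck Cfsg.Lie.chevE8 (k / 240) (k % 240))) = true := by decide +kernel
theorem e8Cneg_46_35560 : allRange 35560 35580 ((fun k => commNegCheck Cfsg.Lie.chevE8 (k / 240) (k % 240))) = true := by decide +kernel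
theorem e8Cneg_46_35580 : allRange 35580 35600 ((fun k => commNegCheck Cfsg.Lie.chevE8 (k / 240) (k % 240))) = true := by decide +kernel
theorem e8Cneg_46_35600 : allRange 35600 35620 ((fun k => commNegCheck Cfsg.Lie.chevE8 (k / 240) (k % 240))) = true := by decide +kernel
theorem e8Cneg_46_35620 : allRange 35620 35640 ((fun k => commNegCheck Cfsg.Lie.chevE8 (k / 240) (k % 240))) = true := by decide +kernel
theorem e8Cneg_46_35640 : allRange 35640 35660 ((fun k => commNegCheck Cfsg.Lie.chevE8 (k / 240) (k % 240))) = true := by decide +kernel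
theorem e8Cneg_46_35660 : allRange 35660 35680 ((fun k => commNegCheck Cfsg.Lie.chevE8 (k / 240) (k % 240))) = true := by decide +kernel
theorem e8Cneg_46_35680 : allRange 35680 35700 ((fun k => commNegCheck Cfsg.Lie.chevE8 (k / 240) (k % 240))) = true := by decide +kernel
theorem e8Cneg_46_35700 : allRange 35700 35720 ((fun k => commNegCheck Cfsg.Lie.chevE8 (k / 240) (k % 240))) = true := by decide +kernel

/-- The commutator formula of type E8 for opposite roots (roots 34960 to 35719). -/
theorem e8Cneg_46 : ∀ r, 34960 ≤ r → r < 35720 → ((fun k => commNegCheck Cfsg.Lie.chevE8 (k / 240) (k % 240))) r = true := by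
  intro r h1 h2
  by_cases c0 : r < 34980
  · exact allRange_spec e8Cneg_46_34960 r (by omega) c0
  by_cases c1 : r < 35000
  · exact allRange_spec e8Cneg_46_34980 r (by omega) c1
  by_cases c2 : r < 35020
  · exact allRange_spec e8Cneg_46_35000 r (by omega) c2
  by_cases c3 : r < 35040
  · exact allRange_spec e8Cneg_46_35020 r (by omega) c3
  by_cases c4 : r < 35060
  · exact allRange_spec e8Cneg_46_35040 r (by omega) c4
  by_cases c5 : r < 35080
  · exact allRange_spec e8Cneg_46_35060 r (by omega) c5
  by_cases c6 : r < 35100
  · exact allRange_spec e8Cneg_46_35080 r (by omega) c6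
  by_cases c7 : r < 35120
  · exact allRange_spec e8Cneg_46_35100 r (by omega) c7
  by_cases c8 : r < 35140
  · exact allRange_spec e8Cneg_46_35120 r (by omega) c8
  by_cases c9 : r < 35160
  · exact allRange_spec e8Cneg_46_35140 r (by omega) c9
  by_cases c10 : r < 35180
  · exact allRange_spec e8Cneg_46_35160 r (by omega) c10
  by_cases c11 : r < 35200
  · exact allRange_spec e8Cneg_46_35180 r (by omega) c11
  by_cases c12 : r < 35220
  · exact allRange_spec e8Cneg_46_35200 r (by omega) c12
  by_cases c13 : r < 35240
  · exact allRange_spec e8Cneg_46_35220 r (by omega) c13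
  by_cases c14 : r < 35260
  · exact allRange_spec e8Cneg_46_35240 r (by omega) c14
  by_cases c15 : r < 35280
  · exact allRange_spec e8Cneg_46_35260 r (by omega) c15
  by_cases c16 : r < 35300
  · exact allRange_spec e8Cneg_46_35280 r (by omega) c16
  by_cases c17 : r < 35320
  · exact allRange_spec e8Cneg_46_35300 r (by omega) c17
  by_cases c18 : r < 35340
  · exact allRange_spec e8Cneg_46_35320 r (by omega) c18
  by_cases c19 : r < 35360
  · exact allRange_spec e8Cneg_46_35340 r (by omega) c19
  by_cases c20 : r < 35380
  · exact allRange_spec e8Cneg_46_35360 r (by omega) c20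
  by_cases c21 : r < 35400
  · exact allRange_spec e8Cneg_46_35380 r (by omega) c21
  by_cases c22 : r < 35420
  · exact allRange_spec e8Cneg_46_35400 r (by omega) c22
  by_cases c23 : r < 35440
  · exact allRange_spec e8Cneg_46_35420 r (by omega) c23
  by_cases c24 : r < 35460
  · exact allRange_spec e8Cneg_46_35440 r (by omega) c24
  by_cases c25 : r < 35480
  · exact allRange_spec e8Cneg_46_35460 r (by omega) c25
  by_cases c26 : r < 35500
  · exact allRange_spec e8Cneg_46_35480 r (by omega) c26
  by_cases c27 : r < 35520
  · exact allRange_spec e8Cneg_46_35500 r (by omega) c27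
  by_cases c28 : r < 35540
  · exact allRange_spec e8Cneg_46_35520 r (by omega) c28
  by_cases c29 : r < 35560
  · exact allRange_spec e8Cneg_46_35540 r (by omega) c29
  by_cases c30 : r < 35580
  · exact allRange_spec e8Cneg_46_35560 r (by omega) c30
  by_cases c31 : r < 35600
  · exact allRange_spec e8Cneg_46_35580 r (by omega) c31
  by_cases c32 : r < 35620
  · exact allRange_spec e8Cneg_46_35600 r (by omega) c32
  by_cases c33 : r < 35640
  · exact allRange_spec e8Cneg_46_35620 r (by omega) c33
  by_cases c34 : r < 35660
  · exact allRange_spec e8Cneg_46_35640 r (by omega) c34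
  by_cases c35 : r < 35680
  · exact allRange_spec e8Cneg_46_35660 r (by omega) c35
  by_cases c36 : r < 35700
  · exact allRange_spec e8Cneg_46_35680 r (by omega) c36
  exact allRange_spec e8Cneg_46_35700 r (by omega) h2

end Cfsg.Agent.Lib.Helper3.ChevM
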