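import Cfsg.Prelude.Def_ChevE8
import Cfsg.Agent.Lib.Helper3.StB5
set_option autoImplicit false
set_option maxRecDepth 1000000
set_option Elab.async false

namespace Cfsg.Agent.Lib.Helper3.ChevM
open Cfsg.Agent.Lib.Helper3.StB

theorem e8Cneg_47_35720 : allRange 35720 35740 ((fun k => commNegCheck Cfsg.Lie.chevE8 (k / 240) (k % 240))) = true := by decide +kernel
theorem e8Cneg_47_35740 : allRange 35740 35760 ((fun k => commNegCheck Cfsg.Lie.chevE8 (k / 240) (k % 240))) = true := by decide +kernel
theorem e8Cneg_47_35760 : allRange 35760 35780 ((fun k => commNegCheck Cfsg.Lie.chevE8 (k / 240) (k % 240))) = true := by decide +kernel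
theorem e8Cneg_47_35780 : allRange 35780 35800 ((fun k => commNegCheck Cfsg.Lie.chevE8 (k / 240) (k % 240))) = true := by decide +kernel
theorem e8Cneg_47_35800 : allRange 35800 35820 ((fun k => commNegCheck Cfsg.Lie.chevE8 (k / 240) (k % 240))) = true := by decide +kernel
theorem e8Cneg_47_35820 : allRange 35820 35840 ((fun k => commNegCheck Cfsg.Lie.chevE8 (k / 240) (k % 240))) = true := by decide +kernel
theorem e8Cneg_47_35840 : allRange 35840 35860 ((fun k => commNegCheck Cfsg.Lie.chevE8 (k / 240) (k % 240))) = true := by decide +kernel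
theorem e8Cneg_47_35860 : allRange 35860 35880 ((fun k => commNegCheck Cfsg.Lie.chevE8 (k / 240) (k % 240))) = true := by decide +kernel
theorem e8Cneg_47_35880 : allRange 35880 35900 ((fun k => commNegCheck Cfsg.Lie.chevE8 (k / 240) (k % 240))) = true := by decide +kernel
theorem e8Cneg_47_35900 : allRange 35900 35920 ((fun k => commNegCheck Cfsg.Lie.chevE8 (k / 240) (k % 240))) = true := by decide +kernel
theorem e8Cneg_47_35920 : allRange 35920 35940 ((fun k => commNegCheck Cfsg.Lie.chevE8 (k / 240) (k % 240))) = true := by decide +kernel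
theorem e8Cneg_47_35940 : allRange 35940 35960 ((fun k => commNegCheck Cfsg.Lie.chevE8 (k / 240) (k % 240))) = true := by decide +kernel
theorem e8Cneg_47_35960 : allRange 35960 35980 ((fun k => commNegCheck Cfsg.Lie.chevE8 (k / 240) (k % 240))) = true := by decide +kernel
theorem e8Cneg_47_35980 : allRange 35980 36000 ((fun k => commNegCheck Cfsg.Lie.chevE8 (k / 240) (k % 240))) = true := by decide +kernel
theorem e8Cneg_47_36000 : allRange 36000 36020 ((fun k => commNegCheck Cfsg.Lie.chevE8 (k / 240) (k % 240))) = true := by decide +kernel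
theorem e8Cneg_47_36020 : allRange 36020 36040 ((fun k => commNegCheck Cfsg.Lie.chevE8 (k / 240) (k % 240))) = true := by decide +kernel
theorem e8Cneg_47_36040 : allRange 36040 36060 ((fun k => commNegCheck Cfsg.Lie.chevE8 (k / 240) (k % 240))) = true := by decide +kernel
theorem e8Cneg_47_36060 : allRange 36060 36080 ((fun k => commNegCheck Cfsg.Lie.chevE8 (k / 240) (k % 240))) = true := by decide +kernel
theorem e8Cneg_47_36080 : allRange 36080 36100 ((fun k => commNegCheck Cfsg.Lie.chevE8 (k / 240) (k % 240))) = true := by decide +kernel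
theorem e8Cneg_47_36100 : allRange 36100 36120 ((fun k => commNegCheck Cfsg.Lie.chevE8 (k / 240) (k % 240))) = true := by decide +kernel
theorem e8Cneg_47_36120 : allRange 36120 36140 ((fun k => commNegCheck Cfsg.Lie.chevE8 (k / 240) (k % 240))) = true := by decide +kernel
theorem e8Cneg_47_36140 : allRange 36140 36160 ((fun k => commNegCheck Cfsg.Lie.chevE8 (k / 240) (k % 240))) = true := by decide +kernel
theorem e8Cneg_47_36160 : allRange 36160 36180 ((fun k => commNegCheck Cfsg.Lie.chevE8 (k / 240) (k % 240))) = true := by decide +kernel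
theorem e8Cneg_47_36180 : allRange 36180 36200 ((fun k => commNegCheck Cfsg.Lie.chevE8 (k / 240) (k % 240))) = true := by decide +kernel
theorem e8Cneg_47_36200 : allRange 36200 36220 ((fun k => commNegCheck Cfsg.Lie.chevE8 (k / 240) (k % 240))) = true := by decide +kernel
theorem e8Cneg_47_36220 : allRange 36220 36240 ((fun k => commNegCheck Cfsg.Lie.chevE8 (k / 240) (k % 240))) = true := by decide +kernel
theorem e8Cneg_47_36240 : allRange 36240 36260 ((fun k => commNegCheck Cfsg.Lie.chevE8 (k / 240) (k % 240))) = true := by decide +kernel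
theorem e8Cneg_47_36260 : allRange 36260 36280 ((fun k => commNegCheck Cfsg.Lie.chevE8 (k / 240) (k % 240))) = true := by decide +kernel
theorem e8Cneg_47_36280 : allRange 36280 36300 ((fun k => commNegCheck Cfsg.Lie.chevE8 (k / 240) (k % 240))) = true := by decide +kernel
theorem e8Cneg_47_36300 : allRange 36300 36320 ((fun k => commNegCheck Cfsg.Lie.chevE8 (k / 240) (k % 240))) = true := by decide +kernel
theorem e8Cneg_47_36320 : allRange 36320 36340 ((fun k => commNegCheck Cfsg.Lie.chevE8 (k / 240) (k % 240))) = true := by decide +kernel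
theorem e8Cneg_47_36340 : allRange 36340 36360 ((fun k => commNegCheck Cfsg.Lie.chevE8 (k / 240) (k % 240))) = true := by decide +kernel
theorem e8Cneg_47_36360 : allRange 36360 36380 ((fun k => commNegCheck Cfsg.Lie.chevE8 (k / 240) (k % 240))) = true := by decide +kernel
theorem e8Cneg_47_36380 : allRange 36380 36400 ((fun k => commNegCheck Cfsg.Lie.chevE8 (k / 240) (k % 240))) = true := by decide +kernel
theorem e8Cneg_47_36400 : allRange 36400 36420 ((fun k => commNegCheck Cfsg.Lie.chevE8 (k / 240) (k % 240))) = true := by decide +kernel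
theorem e8Cneg_47_36420 : allRange 36420 36440 ((fun k => commNegCheck Cfsg.Lie.chevE8 (k / 240) (k % 240))) = true := by decide +kernel
theorem e8Cneg_47_36440 : allRange 36440 36460 ((fun k => commNegCheck Cfsg.Lie.chevE8 (k / 240) (k % 240))) = true := by decide +kernel
theorem e8Cneg_47_36460 : allRange 36460 36480 ((fun k => commNegCheck Cfsg.Lie.chevE8 (k / 240) (k % 240))) = true := by decide +kernel

/-- The commutator formula of type E8 for opposite roots (roots 35720 to 36479). -/
theorem e8Cneg_47 : ∀ r, 35720 ≤ r → r < 36480 → ((fun k => commNegCheck Cfsg.Lie.chevE8 (k / 240) (k % 240))) r = true := by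
  intro r h1 h2
  by_cases c0 : r < 35740
  · exact allRange_spec e8Cneg_47_35720 r (by omega) c0
  by_cases c1 : r < 35760
  · exact allRange_spec e8Cneg_47_35740 r (by omega) c1
  by_cases c2 : r < 35780
  · exact allRange_spec e8Cneg_47_35760 r (by omega) c2
  by_cases c3 : r < 35800
  · exact allRange_spec e8Cneg_47_35780 r (by omega) c3
  by_cases c4 : r < 35820
  · exact allRange_spec e8Cneg_47_35800 r (by omega) c4
  by_cases c5 : r < 35840
  · exact allRange_spec e8Cneg_47_35820 r (by omega) c5
  by_cases c6 : r < 35860
  · exact allRange_spec e8Cneg_47_35840 r (by omega) c6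
  by_cases c7 : r < 35880
  · exact allRange_spec e8Cneg_47_35860 r (by omega) c7
  by_cases c8 : r < 35900
  · exact allRange_spec e8Cneg_47_35880 r (by omega) c8
  by_cases c9 : r < 35920
  · exact allRange_spec e8Cneg_47_35900 r (by omega) c9
  by_cases c10 : r < 35940
  · exact allRange_spec e8Cneg_47_35920 r (by omega) c10
  by_cases c11 : r < 35960
  · exact allRange_spec e8Cneg_47_35940 r (by omega) c11
  by_cases c12 : r < 35980
  · exact allRange_spec e8Cneg_47_35960 r (by omega) c12
  by_cases c13 : r < 36000
  · exact allRange_spec e8Cneg_47_35980 r (by omega) c13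
  by_cases c14 : r < 36020
  · exact allRange_spec e8Cneg_47_36000 r (by omega) c14
  by_cases c15 : r < 36040
  · exact allRange_spec e8Cneg_47_36020 r (by omega) c15
  by_cases c16 : r < 36060
  · exact allRange_spec e8Cneg_47_36040 r (by omega) c16
  by_cases c17 : r < 36080
  · exact allRange_spec e8Cneg_47_36060 r (by omega) c17
  by_cases c18 : r < 36100
  · exact allRange_spec e8Cneg_47_36080 r (by omega) c18
  by_cases c19 : r < 36120
  · exact allRange_spec e8Cneg_47_36100 r (by omega) c19
  by_cases c20 : r < 36140
  · exact allRange_spec e8Cneg_47_36120 r (by omega) c20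
  by_cases c21 : r < 36160
  · exact allRange_spec e8Cneg_47_36140 r (by omega) c21
  by_cases c22 : r < 36180
  · exact allRange_spec e8Cneg_47_36160 r (by omega) c22
  by_cases c23 : r < 36200
  · exact allRange_spec e8Cneg_47_36180 r (by omega) c23
  by_cases c24 : r < 36220
  · exact allRange_spec e8Cneg_47_36200 r (by omega) c24
  by_cases c25 : r < 36240
  · exact allRange_spec e8Cneg_47_36220 r (by omega) c25
  by_cases c26 : r < 36260
  · exact allRange_spec e8Cneg_47_36240 r (by omega) c26
  by_cases c27 : r < 36280
  · exact allRange_spec e8Cneg_47_36260 r (by omega) c27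
  by_cases c28 : r < 36300
  · exact allRange_spec e8Cneg_47_36280 r (by omega) c28
  by_cases c29 : r < 36320
  · exact allRange_spec e8Cneg_47_36300 r (by omega) c29
  by_cases c30 : r < 36340
  · exact allRange_spec e8Cneg_47_36320 r (by omega) c30
  by_cases c31 : r < 36360
  · exact allRange_spec e8Cneg_47_36340 r (by omega) c31
  by_cases c32 : r < 36380
  · exact allRange_spec e8Cneg_47_36360 r (by omega) c32
  by_cases c33 : r < 36400
  · exact allRange_spec e8Cneg_47_36380 r (by omega) c33
  by_cases c34 : r < 36420
  · exact allRange_spec e8Cneg_47_36400 r (by omega) c34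
  by_cases c35 : r < 36440
  · exact allRange_spec e8Cneg_47_36420 r (by omega) c35
  by_cases c36 : r < 36460
  · exact allRange_spec e8Cneg_47_36440 r (by omega) c36
  exact allRange_spec e8Cneg_47_36460 r (by omega) h2

end Cfsg.Agent.Lib.Helper3.ChevM
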