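import Cfsg.Prelude.Def_ChevE8
import Cfsg.Agent.Lib.Helper3.StB5
set_option autoImplicit false
set_option maxRecDepth 1000000
set_option Elab.async false

namespace Cfsg.Agent.Lib.Helper3.ChevM
open Cfsg.Agent.Lib.Helper3.StB

theorem e8Cneg_48_36480 : allRange 36480 36500 ((fun k => commNegCheck Cfsg.Lie.chevE8 (k / 240) (k % 240))) = true := by decide +kernel
theorem e8Cneg_48_36500 : allRange 36500 36520 ((fun k => commNegCheck Cfsg.Lie.chevE8 (k / 240) (k % 240))) = true := by decide +kernel
theorem e8Cneg_48_36520 : allRange 36520 36540 ((fun k => commNegCheck Cfsg.Lie.chevE8 (k / 240) (k % 240))) = true := by decide +kernel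
theorem e8Cneg_48_36540 : allRange 36540 36560 ((fun k => commNegCheck Cfsg.Lie.chevE8 (k / 240) (k % 240))) = true := by decide +kernel
theorem e8Cneg_48_36560 : allRange 36560 36580 ((fun k => commNegCheck Cfsg.Lie.chevE8 (k / 240) (k % 240))) = true := by decide +kernel
theorem e8Cneg_48_36580 : allRange 36580 36600 ((fun k => commNegCheck Cfsg.Lie.chevE8 (k / 240) (k % 240))) = true := by decide +kernel
theorem e8Cneg_48_36600 : allRange 36600 36620 ((fun k => commNegCheck Cfsg.Lie.chevE8 (k / 240) (k % 240))) = true := by decide +kernel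
theorem e8Cneg_48_36620 : allRange 36620 36640 ((fun k => commNegCheck Cfsg.Lie.chevE8 (k / 240) (k % 240))) = true := by decide +kernel
theorem e8Cneg_48_36640 : allRange 36640 36660 ((fun k => commNegCheck Cfsg.Lie.chevE8 (k / 240) (k % 240))) = true := by decide +kernel
theorem e8Cneg_48_36660 : allRange 36660 36680 ((fun k => commNegCheck Cfsg.Lie.chevE8 (k / 240) (k % 240))) = true := by decide +kernel
theorem e8Cneg_48_36680 : allRange 36680 36700 ((fun k => commNegCheck Cfsg.Lie.chevE8 (k / 240) (k % 240))) = true := by decide +kernel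
theorem e8Cneg_48_36700 : allRange 36700 36720 ((fun k => commNegCheck Cfsg.Lie.chevE8 (k / 240) (k % 240))) = true := by decide +kernel
theorem e8Cneg_48_36720 : allRange 36720 36740 ((fun k => commNegCheck Cfsg.Lie.chevE8 (k / 240) (k % 240))) = true := by decide +kernel
theorem e8Cneg_48_36740 : allRange 36740 36760 ((fun k => commNegCheck Cfsg.Lie.chevE8 (k / 240) (k % 240))) = true := by decide +kernel
theorem e8Cneg_48_36760 : allRange 36760 36780 ((fun k => commNegCheck Cfsg.Lie.chevE8 (k / 240) (k % 240))) = true := by decide +kernel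
theorem e8Cneg_48_36780 : allRange 36780 36800 ((fun k => commNegCheck Cfsg.Lie.chevE8 (k / 240) (k % 240))) = true := by decide +kernel
theorem e8Cneg_48_36800 : allRange 36800 36820 ((fun k => commNegCheck Cfsg.Lie.chevE8 (k / 240) (k % 240))) = true := by decide +kernel
theorem e8Cneg_48_36820 : allRange 36820 36840 ((fun k => commNegCheck Cfsg.Lie.chevE8 (k / 240) (k % 240))) = true := by decide +kernel
theorem e8Cneg_48_36840 : allRange 36840 36860 ((fun k => commNegCheck Cfsg.Lie.chevE8 (k / 240) (k % 240))) = true := by decide +kernel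
theorem e8Cneg_48_36860 : allRange 36860 36880 ((fun k => commNegCheck Cfsg.Lie.chevE8 (k / 240) (k % 240))) = true := by decide +kernel
theorem e8Cneg_48_36880 : allRange 36880 36900 ((fun k => commNegCheck Cfsg.Lie.chevE8 (k / 240) (k % 240))) = true := by decide +kernel
theorem e8Cneg_48_36900 : allRange 36900 36920 ((fun k => commNegCheck Cfsg.Lie.chevE8 (k / 240) (k % 240))) = true := by decide +kernel
theorem e8Cneg_48_36920 : allRange 36920 36940 ((fun k => commNegCheck Cfsg.Lie.chevE8 (k / 240) (k % 240))) = true := by decide +kernel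
theorem e8Cneg_48_36940 : allRange 36940 36960 ((fun k => commNegCheck Cfsg.Lie.chevE8 (k / 240) (k % 240))) = true := by decide +kernel
theorem e8Cneg_48_36960 : allRange 36960 36980 ((fun k => commNegCheck Cfsg.Lie.chevE8 (k / 240) (k % 240))) = true := by decide +kernel
theorem e8Cneg_48_36980 : allRange 36980 37000 ((fun k => commNegCheck Cfsg.Lie.chevE8 (k / 240) (k % 240))) = true := by decide +kernel
theorem e8Cneg_48_37000 : allRange 37000 37020 ((fun k => commNegCheck Cfsg.Lie.chevE8 (k / 240) (k % 240))) = true := by decide +kernel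
theorem e8Cneg_48_37020 : allRange 37020 37040 ((fun k => commNegCheck Cfsg.Lie.chevE8 (k / 240) (k % 240))) = true := by decide +kernel
theorem e8Cneg_48_37040 : allRange 37040 37060 ((fun k => commNegCheck Cfsg.Lie.chevE8 (k / 240) (k % 240))) = true := by decide +kernel
theorem e8Cneg_48_37060 : allRange 37060 37080 ((fun k => commNegCheck Cfsg.Lie.chevE8 (k / 240) (k % 240))) = true := by decide +kernel
theorem e8Cneg_48_37080 : allRange 37080 37100 ((fun k => commNegCheck Cfsg.Lie.chevE8 (k / 240) (k % 240))) = true := by decide +kernel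
theorem e8Cneg_48_37100 : allRange 37100 37120 ((fun k => commNegCheck Cfsg.Lie.chevE8 (k / 240) (k % 240))) = true := by decide +kernel
theorem e8Cneg_48_37120 : allRange 37120 37140 ((fun k => commNegCheck Cfsg.Lie.chevE8 (k / 240) (k % 240))) = true := by decide +kernel
theorem e8Cneg_48_37140 : allRange 37140 37160 ((fun k => commNegCheck Cfsg.Lie.chevE8 (k / 240) (k % 240))) = true := by decide +kernel
theorem e8Cneg_48_37160 : allRange 37160 37180 ((fun k => commNegCheck Cfsg.Lie.chevE8 (k / 240) (k % 240))) = true := by decide +kernel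
theorem e8Cneg_48_37180 : allRange 37180 37200 ((fun k => commNegCheck Cfsg.Lie.chevE8 (k / 240) (k % 240))) = true := by decide +kernel
theorem e8Cneg_48_37200 : allRange 37200 37220 ((fun k => commNegCheck Cfsg.Lie.chevE8 (k / 240) (k % 240))) = true := by decide +kernel
theorem e8Cneg_48_37220 : allRange 37220 37240 ((fun k => commNegCheck Cfsg.Lie.chevE8 (k / 240) (k % 240))) = true := by decide +kernel

/-- The commutator formula of type E8 for opposite roots (roots 36480 to 37239). -/
theorem e8Cneg_48 : ∀ r, 36480 ≤ r → r < 37240 → ((fun k => commNegCheck Cfsg.Lie.chevE8 (k / 240) (k % 240))) r = true := by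
  intro r h1 h2
  by_cases c0 : r < 36500
  · exact allRange_spec e8Cneg_48_36480 r (by omega) c0
  by_cases c1 : r < 36520
  · exact allRange_spec e8Cneg_48_36500 r (by omega) c1
  by_cases c2 : r < 36540
  · exact allRange_spec e8Cneg_48_36520 r (by omega) c2
  by_cases c3 : r < 36560
  · exact allRange_spec e8Cneg_48_36540 r (by omega) c3
  by_cases c4 : r < 36580
  · exact allRange_spec e8Cneg_48_36560 r (by omega) c4
  by_cases c5 : r < 36600
  · exact allRange_spec e8Cneg_48_36580 r (by omega) c5
  by_cases c6 : r < 36620
  · exact allRange_spec e8Cneg_48_36600 r (by omega) c6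
  by_cases c7 : r < 36640
  · exact allRange_spec e8Cneg_48_36620 r (by omega) c7
  by_cases c8 : r < 36660
  · exact allRange_spec e8Cneg_48_36640 r (by omega) c8
  by_cases c9 : r < 36680
  · exact allRange_spec e8Cneg_48_36660 r (by omega) c9
  by_cases c10 : r < 36700
  · exact allRange_spec e8Cneg_48_36680 r (by omega) c10
  by_cases c11 : r < 36720
  · exact allRange_spec e8Cneg_48_36700 r (by omega) c11
  by_cases c12 : r < 36740
  · exact allRange_spec e8Cneg_48_36720 r (by omega) c12
  by_cases c13 : r < 36760
  · exact allRange_spec e8Cneg_48_36740 r (by omega) c13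
  by_cases c14 : r < 36780
  · exact allRange_spec e8Cneg_48_36760 r (by omega) c14
  by_cases c15 : r < 36800
  · exact allRange_spec e8Cneg_48_36780 r (by omega) c15
  by_cases c16 : r < 36820
  · exact allRange_spec e8Cneg_48_36800 r (by omega) c16
  by_cases c17 : r < 36840
  · exact allRange_spec e8Cneg_48_36820 r (by omega) c17
  by_cases c18 : r < 36860
  · exact allRange_spec e8Cneg_48_36840 r (by omega) c18
  by_cases c19 : r < 36880
  · exact allRange_spec e8Cneg_48_36860 r (by omega) c19
  by_cases c20 : r < 36900
  · exact allRange_spec e8Cneg_48_36880 r (by omega) c20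
  by_cases c21 : r < 36920
  · exact allRange_spec e8Cneg_48_36900 r (by omega) c21
  by_cases c22 : r < 36940
  · exact allRange_spec e8Cneg_48_36920 r (by omega) c22
  by_cases c23 : r < 36960
  · exact allRange_spec e8Cneg_48_36940 r (by omega) c23
  by_cases c24 : r < 36980
  · exact allRange_spec e8Cneg_48_36960 r (by omega) c24
  by_cases c25 : r < 37000
  · exact allRange_spec e8Cneg_48_36980 r (by omega) c25
  by_cases c26 : r < 37020
  · exact allRange_spec e8Cneg_48_37000 r (by omega) c26
  by_cases c27 : r < 37040
  · exact allRange_spec e8Cneg_48_37020 r (by omega) c27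
  by_cases c28 : r < 37060
  · exact allRange_spec e8Cneg_48_37040 r (by omega) c28
  by_cases c29 : r < 37080
  · exact allRange_spec e8Cneg_48_37060 r (by omega) c29
  by_cases c30 : r < 37100
  · exact allRange_spec e8Cneg_48_37080 r (by omega) c30
  by_cases c31 : r < 37120
  · exact allRange_spec e8Cneg_48_37100 r (by omega) c31
  by_cases c32 : r < 37140
  · exact allRange_spec e8Cneg_48_37120 r (by omega) c32
  by_cases c33 : r < 37160
  · exact allRange_spec e8Cneg_48_37140 r (by omega) c33
  by_cases c34 : r < 37180
  · exact allRange_spec e8Cneg_48_37160 r (by omega) c34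
  by_cases c35 : r < 37200
  · exact allRange_spec e8Cneg_48_37180 r (by omega) c35
  by_cases c36 : r < 37220
  · exact allRange_spec e8Cneg_48_37200 r (by omega) c36
  exact allRange_spec e8Cneg_48_37220 r (by omega) h2

end Cfsg.Agent.Lib.Helper3.ChevM
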