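import Cfsg.Prelude.Def_ChevE8
import Cfsg.Agent.Lib.Helper3.StB5
set_option autoImplicit false
set_option maxRecDepth 1000000
set_option Elab.async false

namespace Cfsg.Agent.Lib.Helper3.ChevM
open Cfsg.Agent.Lib.Helper3.StB

theorem e8Cneg_49_37240 : allRange 37240 37260 ((fun k => commNegCheck Cfsg.Lie.chevE8 (k / 240) (k % 240))) = true := by decide +kernel
theorem e8Cneg_49_37260 : allRange 37260 37280 ((fun k => commNegCheck Cfsg.Lie.chevE8 (k / 240) (k % 240))) = true := by decide +kernel
theorem e8Cneg_49_37280 : allRange 37280 37300 ((fun k => commNegCheck Cfsg.Lie.chevE8 (k / 240) (k % 240))) = true := by decide +kernel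
theorem e8Cneg_49_37300 : allRange 37300 37320 ((fun k => commNegCheck Cfsg.Lie.chevE8 (k / 240) (k % 240))) = true := by decide +kernel
theorem e8Cneg_49_37320 : allRange 37320 37340 ((fun k => commNegCheck Cfsg.Lie.chevE8 (k / 240) (k % 240))) = true := by decide +kernel
theorem e8Cneg_49_37340 : allRange 37340 37360 ((fun k => commNegCheck Cfsg.Lie.chevE8 (k / 240) (k % 240))) = true := by decide +kernel
theorem e8Cneg_49_37360 : allRange 37360 37380 ((fun k => commNegCheck Cfsg.Lie.chevE8 (k / 240) (k % 240))) = true := by decide +kernel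
theorem e8Cneg_49_37380 : allRange 37380 37400 ((fun k => commNegCheck Cfsg.Lie.chevE8 (k / 240) (k % 240))) = true := by decide +kernel
theorem e8Cneg_49_37400 : allRange 37400 37420 ((fun k => commNegCheck Cfsg.Lie.chevE8 (k / 240) (k % 240))) = true := by decide +kernel
theorem e8Cneg_49_37420 : allRange 37420 37440 ((fun k => commNegCheck Cfsg.Lie.chevE8 (k / 240) (k % 240))) = true := by decide +kernel
theorem e8Cneg_49_37440 : allRange 37440 37460 ((fun k => commNegCheck Cfsg.Lie.chevE8 (k / 240) (k % 240))) = true := by decide +kernel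
theorem e8Cneg_49_37460 : allRange 37460 37480 ((fun k => commNegCheck Cfsg.Lie.chevE8 (k / 240) (k % 240))) = true := by decide +kernel
theorem e8Cneg_49_37480 : allRange 37480 37500 ((fun k => commNegCheck Cfsg.Lie.chevE8 (k / 240) (k % 240))) = true := by decide +kernel
theorem e8Cneg_49_37500 : allRange 37500 37520 ((fun k => commNegCheck Cfsg.Lie.chevE8 (k / 240) (k % 240))) = true := by decide +kernel
theorem e8Cneg_49_37520 : allRange 37520 37540 ((fun k => commNegCheck Cfsg.Lie.chevE8 (k / 240) (k % 240))) = true := by decide +kernel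
theorem e8Cneg_49_37540 : allRange 37540 37560 ((fun k => commNegCheck Cfsg.Lie.chevE8 (k / 240) (k % 240))) = true := by decide +kernel
theorem e8Cneg_49_37560 : allRange 37560 37580 ((fun k => commNegCheck Cfsg.Lie.chevE8 (k / 240) (k % 240))) = true := by decide +kernel
theorem e8Cneg_49_37580 : allRange 37580 37600 ((fun k => commNegCheck Cfsg.Lie.chevE8 (k / 240) (k % 240))) = true := by decide +kernel
theorem e8Cneg_49_37600 : allRange 37600 37620 ((fun k => commNegCheck Cfsg.Lie.chevE8 (k / 240) (k % 240))) = true := by decide +kernel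
theorem e8Cneg_49_37620 : allRange 37620 37640 ((fun k => commNegCheck Cfsg.Lie.chevE8 (k / 240) (k % 240))) = true := by decide +kernel
theorem e8Cneg_49_37640 : allRange 37640 37660 ((fun k => commNegCheck Cfsg.Lie.chevE8 (k / 240) (k % 240))) = true := by decide +kernel
theorem e8Cneg_49_37660 : allRange 37660 37680 ((fun k => commNegCheck Cfsg.Lie.chevE8 (k / 240) (k % 240))) = true := by decide +kernel
theorem e8Cneg_49_37680 : allRange 37680 37700 ((fun k => commNegCheck Cfsg.Lie.chevE8 (k / 240) (k % 240))) = true := by decide +kernel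
theorem e8Cneg_49_37700 : allRange 37700 37720 ((fun k => commNegCheck Cfsg.Lie.chevE8 (k / 240) (k % 240))) = true := by decide +kernel
theorem e8Cneg_49_37720 : allRange 37720 37740 ((fun k => commNegCheck Cfsg.Lie.chevE8 (k / 240) (k % 240))) = true := by decide +kernel
theorem e8Cneg_49_37740 : allRange 37740 37760 ((fun k => commNegCheck Cfsg.Lie.chevE8 (k / 240) (k % 240))) = true := by decide +kernel
theorem e8Cneg_49_37760 : allRange 37760 37780 ((fun k => commNegCheck Cfsg.Lie.chevE8 (k / 240) (k % 240))) = true := by decide +kernel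
theorem e8Cneg_49_37780 : allRange 37780 37800 ((fun k => commNegCheck Cfsg.Lie.chevE8 (k / 240) (k % 240))) = true := by decide +kernel
theorem e8Cneg_49_37800 : allRange 37800 37820 ((fun k => commNegCheck Cfsg.Lie.chevE8 (k / 240) (k % 240))) = true := by decide +kernel
theorem e8Cneg_49_37820 : allRange 37820 37840 ((fun k => commNegCheck Cfsg.Lie.chevE8 (k / 240) (k % 240))) = true := by decide +kernel
theorem e8Cneg_49_37840 : allRange 37840 37860 ((fun k => commNegCheck Cfsg.Lie.chevE8 (k / 240) (k % 240))) = true := by decide +kernel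
theorem e8Cneg_49_37860 : allRange 37860 37880 ((fun k => commNegCheck Cfsg.Lie.chevE8 (k / 240) (k % 240))) = true := by decide +kernel
theorem e8Cneg_49_37880 : allRange 37880 37900 ((fun k => commNegCheck Cfsg.Lie.chevE8 (k / 240) (k % 240))) = true := by decide +kernel
theorem e8Cneg_49_37900 : allRange 37900 37920 ((fun k => commNegCheck Cfsg.Lie.chevE8 (k / 240) (k % 240))) = true := by decide +kernel
theorem e8Cneg_49_37920 : allRange 37920 37940 ((fun k => commNegCheck Cfsg.Lie.chevE8 (k / 240) (k % 240))) = true := by decide +kernel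
theorem e8Cneg_49_37940 : allRange 37940 37960 ((fun k => commNegCheck Cfsg.Lie.chevE8 (k / 240) (k % 240))) = true := by decide +kernel
theorem e8Cneg_49_37960 : allRange 37960 37980 ((fun k => commNegCheck Cfsg.Lie.chevE8 (k / 240) (k % 240))) = true := by decide +kernel
theorem e8Cneg_49_37980 : allRange 37980 38000 ((fun k => commNegCheck Cfsg.Lie.chevE8 (k / 240) (k % 240))) = true := by decide +kernel

/-- The commutator formula of type E8 for opposite roots (roots 37240 to 37999). -/
theorem e8Cneg_49 : ∀ r, 37240 ≤ r → r < 38000 → ((fun k => commNegCheck Cfsg.Lie.chevE8 (k / 240) (k % 240))) r = true := by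
  intro r h1 h2
  by_cases c0 : r < 37260
  · exact allRange_spec e8Cneg_49_37240 r (by omega) c0
  by_cases c1 : r < 37280
  · exact allRange_spec e8Cneg_49_37260 r (by omega) c1
  by_cases c2 : r < 37300
  · exact allRange_spec e8Cneg_49_37280 r (by omega) c2
  by_cases c3 : r < 37320
  · exact allRange_spec e8Cneg_49_37300 r (by omega) c3
  by_cases c4 : r < 37340
  · exact allRange_spec e8Cneg_49_37320 r (by omega) c4
  by_cases c5 : r < 37360
  · exact allRange_spec e8Cneg_49_37340 r (by omega) c5
  by_cases c6 : r < 37380
  · exact allRange_spec e8Cneg_49_37360 r (by omega) c6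
  by_cases c7 : r < 37400
  · exact allRange_spec e8Cneg_49_37380 r (by omega) c7
  by_cases c8 : r < 37420
  · exact allRange_spec e8Cneg_49_37400 r (by omega) c8
  by_cases c9 : r < 37440
  · exact allRange_spec e8Cneg_49_37420 r (by omega) c9
  by_cases c10 : r < 37460
  · exact allRange_spec e8Cneg_49_37440 r (by omega) c10
  by_cases c11 : r < 37480
  · exact allRange_spec e8Cneg_49_37460 r (by omega) c11
  by_cases c12 : r < 37500
  · exact allRange_spec e8Cneg_49_37480 r (by omega) c12
  by_cases c13 : r < 37520
  · exact allRange_spec e8Cneg_49_37500 r (by omega) c13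
  by_cases c14 : r < 37540
  · exact allRange_spec e8Cneg_49_37520 r (by omega) c14
  by_cases c15 : r < 37560
  · exact allRange_spec e8Cneg_49_37540 r (by omega) c15
  by_cases c16 : r < 37580
  · exact allRange_spec e8Cneg_49_37560 r (by omega) c16
  by_cases c17 : r < 37600
  · exact allRange_spec e8Cneg_49_37580 r (by omega) c17
  by_cases c18 : r < 37620
  · exact allRange_spec e8Cneg_49_37600 r (by omega) c18
  by_cases c19 : r < 37640
  · exact allRange_spec e8Cneg_49_37620 r (by omega) c19
  by_cases c20 : r < 37660
  · exact allRange_spec e8Cneg_49_37640 r (by omega) c20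
  by_cases c21 : r < 37680
  · exact allRange_spec e8Cneg_49_37660 r (by omega) c21
  by_cases c22 : r < 37700
  · exact allRange_spec e8Cneg_49_37680 r (by omega) c22
  by_cases c23 : r < 37720
  · exact allRange_spec e8Cneg_49_37700 r (by omega) c23
  by_cases c24 : r < 37740
  · exact allRange_spec e8Cneg_49_37720 r (by omega) c24
  by_cases c25 : r < 37760
  · exact allRange_spec e8Cneg_49_37740 r (by omega) c25
  by_cases c26 : r < 37780
  · exact allRange_spec e8Cneg_49_37760 r (by omega) c26
  by_cases c27 : r < 37800
  · exact allRange_spec e8Cneg_49_37780 r (by omega) c27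
  by_cases c28 : r < 37820
  · exact allRange_spec e8Cneg_49_37800 r (by omega) c28
  by_cases c29 : r < 37840
  · exact allRange_spec e8Cneg_49_37820 r (by omega) c29
  by_cases c30 : r < 37860
  · exact allRange_spec e8Cneg_49_37840 r (by omega) c30
  by_cases c31 : r < 37880
  · exact allRange_spec e8Cneg_49_37860 r (by omega) c31
  by_cases c32 : r < 37900
  · exact allRange_spec e8Cneg_49_37880 r (by omega) c32
  by_cases c33 : r < 37920
  · exact allRange_spec e8Cneg_49_37900 r (by omega) c33
  by_cases c34 : r < 37940
  · exact allRange_spec e8Cneg_49_37920 r (by omega) c34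
  by_cases c35 : r < 37960
  · exact allRange_spec e8Cneg_49_37940 r (by omega) c35
  by_cases c36 : r < 37980
  · exact allRange_spec e8Cneg_49_37960 r (by omega) c36
  exact allRange_spec e8Cneg_49_37980 r (by omega) h2

end Cfsg.Agent.Lib.Helper3.ChevM
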