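import Cfsg.Prelude.Def_ChevE8
import Cfsg.Agent.Lib.Helper3.StB5
set_option autoImplicit false
set_option maxRecDepth 1000000
set_option Elab.async false

namespace Cfsg.Agent.Lib.Helper3.ChevM
open Cfsg.Agent.Lib.Helper3.StB

theorem e8Cneg_50_38000 : allRange 38000 38020 ((fun k => commNegCheck Cfsg.Lie.chevE8 (k / 240) (k % 240))) = true := by decide +kernel
theorem e8Cneg_50_38020 : allRange 38020 38040 ((fun k => commNegCheck Cfsg.Lie.chevE8 (k / 240) (k % 240))) = true := by decide +kernel
theorem e8Cneg_50_38040 : allRange 38040 38060 ((fun k => commNegCheck Cfsg.Lie.chevE8 (k / 240) (k % 240))) = true := by decide +kernel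
theorem e8Cneg_50_38060 : allRange 38060 38080 ((fun k => commNegCheck Cfsg.Lie.chevE8 (k / 240) (k % 240))) = true := by decide +kernel
theorem e8Cneg_50_38080 : allRange 38080 38100 ((fun k => commNegCheck Cfsg.Lie.chevE8 (k / 240) (k % 240))) = true := by decide +kernel
theorem e8Cneg_50_38100 : allRange 38100 38120 ((fun k => commNegCheck Cfsg.Lie.chevE8 (k / 240) (k % 240))) = true := by decide +kernel
theorem e8Cneg_50_38120 : allRange 38120 38140 ((fun k => commNegCheck Cfsg.Lie.chevE8 (k / 240) (k % 240))) = true := by decide +kernel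
theorem e8Cneg_50_38140 : allRange 38140 38160 ((fun k => commNegCheck Cfsg.Lie.chevE8 (k / 240) (k % 240))) = true := by decide +kernel
theorem e8Cneg_50_38160 : allRange 38160 38180 ((fun k => commNegCheck Cfsg.Lie.chevE8 (k / 240) (k % 240))) = true := by decide +kernel
theorem e8Cneg_50_38180 : allRange 38180 38200 ((fun k => commNegCheck Cfsg.Lie.chevE8 (k / 240) (k % 240))) = true := by decide +kernel
theorem e8Cneg_50_38200 : allRange 38200 38220 ((fun k => commNegCheck Cfsg.Lie.chevE8 (k / 240) (k % 240))) = true := by decide +kernel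
theorem e8Cneg_50_38220 : allRange 38220 38240 ((fun k => commNegCheck Cfsg.Lie.chevE8 (k / 240) (k % 240))) = true := by decide +kernel
theorem e8Cneg_50_38240 : allRange 38240 38260 ((fun k => commNegCheck Cfsg.Lie.chevE8 (k / 240) (k % 240))) = true := by decide +kernel
theorem e8Cneg_50_38260 : allRange 38260 38280 ((fun k => commNegCheck Cfsg.Lie.chevE8 (k / 240) (k % 240))) = true := by decide +kernel
theorem e8Cneg_50_38280 : allRange 38280 38300 ((fun k => commNegCheck Cfsg.Lie.chevE8 (k / 240) (k % 240))) = true := by decide +kernel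
theorem e8Cneg_50_38300 : allRange 38300 38320 ((fun k => commNegCheck Cfsg.Lie.chevE8 (k / 240) (k % 240))) = true := by decide +kernel
theorem e8Cneg_50_38320 : allRange 38320 38340 ((fun k => commNegCheck Cfsg.Lie.chevE8 (k / 240) (k % 240))) = true := by decide +kernel
theorem e8Cneg_50_38340 : allRange 38340 38360 ((fun k => commNegCheck Cfsg.Lie.chevE8 (k / 240) (k % 240))) = true := by decide +kernel
theorem e8Cneg_50_38360 : allRange 38360 38380 ((fun k => commNegCheck Cfsg.Lie.chevE8 (k / 240) (k % 240))) = true := by decide +kernel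
theorem e8Cneg_50_38380 : allRange 38380 38400 ((fun k => commNegCheck Cfsg.Lie.chevE8 (k / 240) (k % 240))) = true := by decide +kernel
theorem e8Cneg_50_38400 : allRange 38400 38420 ((fun k => commNegCheck Cfsg.Lie.chevE8 (k / 240) (k % 240))) = true := by decide +kernel
theorem e8Cneg_50_38420 : allRange 38420 38440 ((fun k => commNegCheck Cfsg.Lie.chevE8 (k / 240) (k % 240))) = true := by decide +kernel
theorem e8Cneg_50_38440 : allRange 38440 38460 ((fun k => commNegCheck Cfsg.Lie.chevE8 (k / 240) (k % 240))) = true := by decide +kernel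
theorem e8Cneg_50_38460 : allRange 38460 38480 ((fun k => commNegCheck Cfsg.Lie.chevE8 (k / 240) (k % 240))) = true := by decide +kernel
theorem e8Cneg_50_38480 : allRange 38480 38500 ((fun k => commNegCheck Cfsg.Lie.chevE8 (k / 240) (k % 240))) = true := by decide +kernel
theorem e8Cneg_50_38500 : allRange 38500 38520 ((fun k => commNegCheck Cfsg.Lie.chevE8 (k / 240) (k % 240))) = true := by decide +kernel
theorem e8Cneg_50_38520 : allRange 38520 38540 ((fun k => commNegCheck Cfsg.Lie.chevE8 (k / 240) (k % 240))) = true := by decide +kernel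
theorem e8Cneg_50_38540 : allRange 38540 38560 ((fun k => commNegCheck Cfsg.Lie.chevE8 (k / 240) (k % 240))) = true := by decide +kernel
theorem e8Cneg_50_38560 : allRange 38560 38580 ((fun k => commNegCheck Cfsg.Lie.chevE8 (k / 240) (k % 240))) = true := by decide +kernel
theorem e8Cneg_50_38580 : allRange 38580 38600 ((fun k => commNegCheck Cfsg.Lie.chevE8 (k / 240) (k % 240))) = true := by decide +kernel
theorem e8Cneg_50_38600 : allRange 38600 38620 ((fun k => commNegCheck Cfsg.Lie.chevE8 (k / 240) (k % 240))) = true := by decide +kernel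
theorem e8Cneg_50_38620 : allRange 38620 38640 ((fun k => commNegCheck Cfsg.Lie.chevE8 (k / 240) (k % 240))) = true := by decide +kernel
theorem e8Cneg_50_38640 : allRange 38640 38660 ((fun k => commNegCheck Cfsg.Lie.chevE8 (k / 240) (k % 240))) = true := by decide +kernel
theorem e8Cneg_50_38660 : allRange 38660 38680 ((fun k => commNegCheck Cfsg.Lie.chevE8 (k / 240) (k % 240))) = true := by decide +kernel
theorem e8Cneg_50_38680 : allRange 38680 38700 ((fun k => commNegCheck Cfsg.Lie.chevE8 (k / 240) (k % 240))) = true := by decide +kernel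
theorem e8Cneg_50_38700 : allRange 38700 38720 ((fun k => commNegCheck Cfsg.Lie.chevE8 (k / 240) (k % 240))) = true := by decide +kernel
theorem e8Cneg_50_38720 : allRange 38720 38740 ((fun k => commNegCheck Cfsg.Lie.chevE8 (k / 240) (k % 240))) = true := by decide +kernel
theorem e8Cneg_50_38740 : allRange 38740 38760 ((fun k => commNegCheck Cfsg.Lie.chevE8 (k / 240) (k % 240))) = true := by decide +kernel

/-- The commutator formula of type E8 for opposite roots (roots 38000 to 38759). -/
theorem e8Cneg_50 : ∀ r, 38000 ≤ r → r < 38760 → ((fun k => commNegCheck Cfsg.Lie.chevE8 (k / 240) (k % 240))) r = true := by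
  intro r h1 h2
  by_cases c0 : r < 38020
  · exact allRange_spec e8Cneg_50_38000 r (by omega) c0
  by_cases c1 : r < 38040
  · exact allRange_spec e8Cneg_50_38020 r (by omega) c1
  by_cases c2 : r < 38060
  · exact allRange_spec e8Cneg_50_38040 r (by omega) c2
  by_cases c3 : r < 38080
  · exact allRange_spec e8Cneg_50_38060 r (by omega) c3
  by_cases c4 : r < 38100
  · exact allRange_spec e8Cneg_50_38080 r (by omega) c4
  by_cases c5 : r < 38120
  · exact allRange_spec e8Cneg_50_38100 r (by omega) c5
  by_cases c6 : r < 38140
  · exact allRange_spec e8Cneg_50_38120 r (by omega) c6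
  by_cases c7 : r < 38160
  · exact allRange_spec e8Cneg_50_38140 r (by omega) c7
  by_cases c8 : r < 38180
  · exact allRange_spec e8Cneg_50_38160 r (by omega) c8
  by_cases c9 : r < 38200
  · exact allRange_spec e8Cneg_50_38180 r (by omega) c9
  by_cases c10 : r < 38220
  · exact allRange_spec e8Cneg_50_38200 r (by omega) c10
  by_cases c11 : r < 38240
  · exact allRange_spec e8Cneg_50_38220 r (by omega) c11
  by_cases c12 : r < 38260
  · exact allRange_spec e8Cneg_50_38240 r (by omega) c12
  by_cases c13 : r < 38280
  · exact allRange_spec e8Cneg_50_38260 r (by omega) c13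
  by_cases c14 : r < 38300
  · exact allRange_spec e8Cneg_50_38280 r (by omega) c14
  by_cases c15 : r < 38320
  · exact allRange_spec e8Cneg_50_38300 r (by omega) c15
  by_cases c16 : r < 38340
  · exact allRange_spec e8Cneg_50_38320 r (by omega) c16
  by_cases c17 : r < 38360
  · exact allRange_spec e8Cneg_50_38340 r (by omega) c17
  by_cases c18 : r < 38380
  · exact allRange_spec e8Cneg_50_38360 r (by omega) c18
  by_cases c19 : r < 38400
  · exact allRange_spec e8Cneg_50_38380 r (by omega) c19
  by_cases c20 : r < 38420
  · exact allRange_spec e8Cneg_50_38400 r (by omega) c20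
  by_cases c21 : r < 38440
  · exact allRange_spec e8Cneg_50_38420 r (by omega) c21
  by_cases c22 : r < 38460
  · exact allRange_spec e8Cneg_50_38440 r (by omega) c22
  by_cases c23 : r < 38480
  · exact allRange_spec e8Cneg_50_38460 r (by omega) c23
  by_cases c24 : r < 38500
  · exact allRange_spec e8Cneg_50_38480 r (by omega) c24
  by_cases c25 : r < 38520
  · exact allRange_spec e8Cneg_50_38500 r (by omega) c25
  by_cases c26 : r < 38540
  · exact allRange_spec e8Cneg_50_38520 r (by omega) c26
  by_cases c27 : r < 38560
  · exact allRange_spec e8Cneg_50_38540 r (by omega) c27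
  by_cases c28 : r < 38580
  · exact allRange_spec e8Cneg_50_38560 r (by omega) c28
  by_cases c29 : r < 38600
  · exact allRange_spec e8Cneg_50_38580 r (by omega) c29
  by_cases c30 : r < 38620
  · exact allRange_spec e8Cneg_50_38600 r (by omega) c30
  by_cases c31 : r < 38640
  · exact allRange_spec e8Cneg_50_38620 r (by omega) c31
  by_cases c32 : r < 38660
  · exact allRange_spec e8Cneg_50_38640 r (by omega) c32
  by_cases c33 : r < 38680
  · exact allRange_spec e8Cneg_50_38660 r (by omega) c33
  by_cases c34 : r < 38700
  · exact allRange_spec e8Cneg_50_38680 r (by omega) c34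
  by_cases c35 : r < 38720
  · exact allRange_spec e8Cneg_50_38700 r (by omega) c35
  by_cases c36 : r < 38740
  · exact allRange_spec e8Cneg_50_38720 r (by omega) c36
  exact allRange_spec e8Cneg_50_38740 r (by omega) h2

end Cfsg.Agent.Lib.Helper3.ChevM
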