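import Cfsg.Prelude.Def_ChevE8
import Cfsg.Agent.Lib.Helper3.StB5
set_option autoImplicit false
set_option maxRecDepth 1000000
set_option Elab.async false

namespace Cfsg.Agent.Lib.Helper3.ChevM
open Cfsg.Agent.Lib.Helper3.StB

theorem e8Cneg_51_38760 : allRange 38760 38780 ((fun k => commNegCheck Cfsg.Lie.chevE8 (k / 240) (k % 240))) = true := by decide +kernel
theorem e8Cneg_51_38780 : allRange 38780 38800 ((fun k => commNegCheck Cfsg.Lie.chevE8 (k / 240) (k % 240))) = true := by decide +kernel
theorem e8Cneg_51_38800 : allRange 38800 38820 ((fun k => commNegCheck Cfsg.Lie.chevE8 (k / 240) (k % 240))) = true := by decide +kernel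
theorem e8Cneg_51_38820 : allRange 38820 38840 ((fun k => commNegCheck Cfsg.Lie.chevE8 (k / 240) (k % 240))) = true := by decide +kernel
theorem e8Cneg_51_38840 : allRange 38840 38860 ((fun k => commNegCheck Cfsg.Lie.chevE8 (k / 240) (k % 240))) = true := by decide +kernel
theorem e8Cneg_51_38860 : allRange 38860 38880 ((fun k => commNegCheck Cfsg.Lie.chevE8 (k / 240) (k % 240))) = true := by decide +kernel
theorem e8Cneg_51_38880 : allRange 38880 38900 ((fun k => commNegCheck Cfsg.Lie.chevE8 (k / 240) (k % 240))) = true := by decide +kernel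
theorem e8Cneg_51_38900 : allRange 38900 38920 ((fun k => commNegCheck Cfsg.Lie.chevE8 (k / 240) (k % 240))) = true := by decide +kernel
theorem e8Cneg_51_38920 : allRange 38920 38940 ((fun k => commNegCheck Cfsg.Lie.chevE8 (k / 240) (k % 240))) = true := by decide +kernel
theorem e8Cneg_51_38940 : allRange 38940 38960 ((fun k => commNegCheck Cfsg.Lie.chevE8 (k / 240) (k % 240))) = true := by decide +kernel
theorem e8Cneg_51_38960 : allRange 38960 38980 ((fun k => commNegCheck Cfsg.Lie.chevE8 (k / 240) (k % 240))) = true := by decide +kernel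
theorem e8Cneg_51_38980 : allRange 38980 39000 ((fun k => commNegCheck Cfsg.Lie.chevE8 (k / 240) (k % 240))) = true := by decide +kernel
theorem e8Cneg_51_39000 : allRange 39000 39020 ((fun k => commNegCheck Cfsg.Lie.chevE8 (k / 240) (k % 240))) = true := by decide +kernel
theorem e8Cneg_51_39020 : allRange 39020 39040 ((fun k => commNegCheck Cfsg.Lie.chevE8 (k / 240) (k % 240))) = true := by decide +kernel
theorem e8Cneg_51_39040 : allRange 39040 39060 ((fun k => commNegCheck Cfsg.Lie.chevE8 (k / 240) (k % 240))) = true := by decide +kernel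
theorem e8Cneg_51_39060 : allRange 39060 39080 ((fun k => commNegCheck Cfsg.Lie.chevE8 (k / 240) (k % 240))) = true := by decide +kernel
theorem e8Cneg_51_39080 : allRange 39080 39100 ((fun k => commNegCheck Cfsg.Lie.chevE8 (k / 240) (k % 240))) = true := by decide +kernel
theorem e8Cneg_51_39100 : allRange 39100 39120 ((fun k => commNegCheck Cfsg.Lie.chevE8 (k / 240) (k % 240))) = true := by decide +kernel
theorem e8Cneg_51_39120 : allRange 39120 39140 ((fun k => commNegCheck Cfsg.Lie.chevE8 (k / 240) (k % 240))) = true := by decide +kernel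
theorem e8Cneg_51_39140 : allRange 39140 39160 ((fun k => commNegCheck Cfsg.Lie.chevE8 (k / 240) (k % 240))) = true := by decide +kernel
theorem e8Cneg_51_39160 : allRange 39160 39180 ((fun k => commNegCheck Cfsg.Lie.chevE8 (k / 240) (k % 240))) = true := by decide +kernel
theorem e8Cneg_51_39180 : allRange 39180 39200 ((fun k => commNegCheck Cfsg.Lie.chevE8 (k / 240) (k % 240))) = true := by decide +kernel
theorem e8Cneg_51_39200 : allRange 39200 39220 ((fun k => commNegCheck Cfsg.Lie.chevE8 (k / 240) (k % 240))) = true := by decide +kernel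
theorem e8Cneg_51_39220 : allRange 39220 39240 ((fun k => commNegCheck Cfsg.Lie.chevE8 (k / 240) (k % 240))) = true := by decide +kernel
theorem e8Cneg_51_39240 : allRange 39240 39260 ((fun k => commNegCheck Cfsg.Lie.chevE8 (k / 240) (k % 240))) = true := by decide +kernel
theorem e8Cneg_51_39260 : allRange 39260 39280 ((fun k => commNegCheck Cfsg.Lie.chevE8 (k / 240) (k % 240))) = true := by decide +kernel
theorem e8Cneg_51_39280 : allRange 39280 39300 ((fun k => commNegCheck Cfsg.Lie.chevE8 (k / 240) (k % 240))) = true := by decide +kernel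
theorem e8Cneg_51_39300 : allRange 39300 39320 ((fun k => commNegCheck Cfsg.Lie.chevE8 (k / 240) (k % 240))) = true := by decide +kernel
theorem e8Cneg_51_39320 : allRange 39320 39340 ((fun k => commNegCheck Cfsg.Lie.chevE8 (k / 240) (k % 240))) = true := by decide +kernel
theorem e8Cneg_51_39340 : allRange 39340 39360 ((fun k => commNegCheck Cfsg.Lie.chevE8 (k / 240) (k % 240))) = true := by decide +kernel
theorem e8Cneg_51_39360 : allRange 39360 39380 ((fun k => commNegCheck Cfsg.Lie.chevE8 (k / 240) (k % 240))) = true := by decide +kernel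
theorem e8Cneg_51_39380 : allRange 39380 39400 ((fun k => commNegCheck Cfsg.Lie.chevE8 (k / 240) (k % 240))) = true := by decide +kernel
theorem e8Cneg_51_39400 : allRange 39400 39420 ((fun k => commNegCheck Cfsg.Lie.chevE8 (k / 240) (k % 240))) = true := by decide +kernel
theorem e8Cneg_51_39420 : allRange 39420 39440 ((fun k => commNegCheck Cfsg.Lie.chevE8 (k / 240) (k % 240))) = true := by decide +kernel
theorem e8Cneg_51_39440 : allRange 39440 39460 ((fun k => commNegCheck Cfsg.Lie.chevE8 (k / 240) (k % 240))) = true := by decide +kernel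
theorem e8Cneg_51_39460 : allRange 39460 39480 ((fun k => commNegCheck Cfsg.Lie.chevE8 (k / 240) (k % 240))) = true := by decide +kernel
theorem e8Cneg_51_39480 : allRange 39480 39500 ((fun k => commNegCheck Cfsg.Lie.chevE8 (k / 240) (k % 240))) = true := by decide +kernel
theorem e8Cneg_51_39500 : allRange 39500 39520 ((fun k => commNegCheck Cfsg.Lie.chevE8 (k / 240) (k % 240))) = true := by decide +kernel

/-- The commutator formula of type E8 for opposite roots (roots 38760 to 39519). -/
theorem e8Cneg_51 : ∀ r, 38760 ≤ r → r < 39520 → ((fun k => commNegCheck Cfsg.Lie.chevE8 (k / 240) (k % 240))) r = true := by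
  intro r h1 h2
  by_cases c0 : r < 38780
  · exact allRange_spec e8Cneg_51_38760 r (by omega) c0
  by_cases c1 : r < 38800
  · exact allRange_spec e8Cneg_51_38780 r (by omega) c1
  by_cases c2 : r < 38820
  · exact allRange_spec e8Cneg_51_38800 r (by omega) c2
  by_cases c3 : r < 38840
  · exact allRange_spec e8Cneg_51_38820 r (by omega) c3
  by_cases c4 : r < 38860
  · exact allRange_spec e8Cneg_51_38840 r (by omega) c4
  by_cases c5 : r < 38880
  · exact allRange_spec e8Cneg_51_38860 r (by omega) c5
  by_cases c6 : r < 38900
  · exact allRange_spec e8Cneg_51_38880 r (by omega) c6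
  by_cases c7 : r < 38920
  · exact allRange_spec e8Cneg_51_38900 r (by omega) c7
  by_cases c8 : r < 38940
  · exact allRange_spec e8Cneg_51_38920 r (by omega) c8
  by_cases c9 : r < 38960
  · exact allRange_spec e8Cneg_51_38940 r (by omega) c9
  by_cases c10 : r < 38980
  · exact allRange_spec e8Cneg_51_38960 r (by omega) c10
  by_cases c11 : r < 39000
  · exact allRange_spec e8Cneg_51_38980 r (by omega) c11
  by_cases c12 : r < 39020
  · exact allRange_spec e8Cneg_51_39000 r (by omega) c12
  by_cases c13 : r < 39040
  · exact allRange_spec e8Cneg_51_39020 r (by omega) c13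
  by_cases c14 : r < 39060
  · exact allRange_spec e8Cneg_51_39040 r (by omega) c14
  by_cases c15 : r < 39080
  · exact allRange_spec e8Cneg_51_39060 r (by omega) c15
  by_cases c16 : r < 39100
  · exact allRange_spec e8Cneg_51_39080 r (by omega) c16
  by_cases c17 : r < 39120
  · exact allRange_spec e8Cneg_51_39100 r (by omega) c17
  by_cases c18 : r < 39140
  · exact allRange_spec e8Cneg_51_39120 r (by omega) c18
  by_cases c19 : r < 39160
  · exact allRange_spec e8Cneg_51_39140 r (by omega) c19
  by_cases c20 : r < 39180
  · exact allRange_spec e8Cneg_51_39160 r (by omega) c20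
  by_cases c21 : r < 39200
  · exact allRange_spec e8Cneg_51_39180 r (by omega) c21
  by_cases c22 : r < 39220
  · exact allRange_spec e8Cneg_51_39200 r (by omega) c22
  by_cases c23 : r < 39240
  · exact allRange_spec e8Cneg_51_39220 r (by omega) c23
  by_cases c24 : r < 39260
  · exact allRange_spec e8Cneg_51_39240 r (by omega) c24
  by_cases c25 : r < 39280
  · exact allRange_spec e8Cneg_51_39260 r (by omega) c25
  by_cases c26 : r < 39300
  · exact allRange_spec e8Cneg_51_39280 r (by omega) c26
  by_cases c27 : r < 39320
  · exact allRange_spec e8Cneg_51_39300 r (by omega) c27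
  by_cases c28 : r < 39340
  · exact allRange_spec e8Cneg_51_39320 r (by omega) c28
  by_cases c29 : r < 39360
  · exact allRange_spec e8Cneg_51_39340 r (by omega) c29
  by_cases c30 : r < 39380
  · exact allRange_spec e8Cneg_51_39360 r (by omega) c30
  by_cases c31 : r < 39400
  · exact allRange_spec e8Cneg_51_39380 r (by omega) c31
  by_cases c32 : r < 39420
  · exact allRange_spec e8Cneg_51_39400 r (by omega) c32
  by_cases c33 : r < 39440
  · exact allRange_spec e8Cneg_51_39420 r (by omega) c33
  by_cases c34 : r < 39460
  · exact allRange_spec e8Cneg_51_39440 r (by omega) c34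
  by_cases c35 : r < 39480
  · exact allRange_spec e8Cneg_51_39460 r (by omega) c35
  by_cases c36 : r < 39500
  · exact allRange_spec e8Cneg_51_39480 r (by omega) c36
  exact allRange_spec e8Cneg_51_39500 r (by omega) h2

end Cfsg.Agent.Lib.Helper3.ChevM
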