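import Cfsg.Prelude.Def_ChevE8
import Cfsg.Agent.Lib.Helper3.StB5
set_option autoImplicit false
set_option maxRecDepth 1000000
set_option Elab.async false

namespace Cfsg.Agent.Lib.Helper3.ChevM
open Cfsg.Agent.Lib.Helper3.StB

theorem e8Cneg_1_760 : allRange 760 780 ((fun k => commNegCheck Cfsg.Lie.chevE8 (k / 240) (k % 240))) = true := by decide +kernel
theorem e8Cneg_1_780 : allRange 780 800 ((fun k => commNegCheck Cfsg.Lie.chevE8 (k / 240) (k % 240))) = true := by decide +kernel
theorem e8Cneg_1_800 : allRange 800 820 ((fun k => commNegCheck Cfsg.Lie.chevE8 (k / 240) (k % 240))) = true := by decide +kernel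
theorem e8Cneg_1_820 : allRange 820 840 ((fun k => commNegCheck Cfsg.Lie.chevE8 (k / 240) (k % 240))) = true := by decide +kernel
theorem e8Cneg_1_840 : allRange 840 860 ((fun k => commNegCheck Cfsg.Lie.chevE8 (k / 240) (k % 240))) = true := by decide +kernel
theorem e8Cneg_1_860 : allRange 860 880 ((fun k => commNegCheck Cfsg.Lie.chevE8 (k / 240) (k % 240))) = true := by decide +kernel
theorem e8Cneg_1_880 : allRange 880 900 ((fun k => commNegCheck Cfsg.Lie.chevE8 (k / 240) (k % 240))) = true := by decide +kernel
theorem e8Cneg_1_900 : allRange 900 920 ((fun k => commNegCheck Cfsg.Lie.chevE8 (k / 240) (k % 240))) = true := by decide +kernel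
theorem e8Cneg_1_920 : allRange 920 940 ((fun k => commNegCheck Cfsg.Lie.chevE8 (k / 240) (k % 240))) = true := by decide +kernel
theorem e8Cneg_1_940 : allRange 940 960 ((fun k => commNegCheck Cfsg.Lie.chevE8 (k / 240) (k % 240))) = true := by decide +kernel
theorem e8Cneg_1_960 : allRange 960 980 ((fun k => commNegCheck Cfsg.Lie.chevE8 (k / 240) (k % 240))) = true := by decide +kernel
theorem e8Cneg_1_980 : allRange 980 1000 ((fun k => commNegCheck Cfsg.Lie.chevE8 (k / 240) (k % 240))) = true := by decide +kernel
theorem e8Cneg_1_1000 : allRange 1000 1020 ((fun k => commNegCheck Cfsg.Lie.chevE8 (k / 240) (k % 240))) = true := by decide +kernel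
theorem e8Cneg_1_1020 : allRange 1020 1040 ((fun k => commNegCheck Cfsg.Lie.chevE8 (k / 240) (k % 240))) = true := by decide +kernel
theorem e8Cneg_1_1040 : allRange 1040 1060 ((fun k => commNegCheck Cfsg.Lie.chevE8 (k / 240) (k % 240))) = true := by decide +kernel
theorem e8Cneg_1_1060 : allRange 1060 1080 ((fun k => commNegCheck Cfsg.Lie.chevE8 (k / 240) (k % 240))) = true := by decide +kernel
theorem e8Cneg_1_1080 : allRange 1080 1100 ((fun k => commNegCheck Cfsg.Lie.chevE8 (k / 240) (k % 240))) = true := by decide +kernel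
theorem e8Cneg_1_1100 : allRange 1100 1120 ((fun k => commNegCheck Cfsg.Lie.chevE8 (k / 240) (k % 240))) = true := by decide +kernel
theorem e8Cneg_1_1120 : allRange 1120 1140 ((fun k => commNegCheck Cfsg.Lie.chevE8 (k / 240) (k % 240))) = true := by decide +kernel
theorem e8Cneg_1_1140 : allRange 1140 1160 ((fun k => commNegCheck Cfsg.Lie.chevE8 (k / 240) (k % 240))) = true := by decide +kernel
theorem e8Cneg_1_1160 : allRange 1160 1180 ((fun k => commNegCheck Cfsg.Lie.chevE8 (k / 240) (k % 240))) = true := by decide +kernel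
theorem e8Cneg_1_1180 : allRange 1180 1200 ((fun k => commNegCheck Cfsg.Lie.chevE8 (k / 240) (k % 240))) = true := by decide +kernel
theorem e8Cneg_1_1200 : allRange 1200 1220 ((fun k => commNegCheck Cfsg.Lie.chevE8 (k / 240) (k % 240))) = true := by decide +kernel
theorem e8Cneg_1_1220 : allRange 1220 1240 ((fun k => commNegCheck Cfsg.Lie.chevE8 (k / 240) (k % 240))) = true := by decide +kernel
theorem e8Cneg_1_1240 : allRange 1240 1260 ((fun k => commNegCheck Cfsg.Lie.chevE8 (k / 240) (k % 240))) = true := by decide +kernel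
theorem e8Cneg_1_1260 : allRange 1260 1280 ((fun k => commNegCheck Cfsg.Lie.chevE8 (k / 240) (k % 240))) = true := by decide +kernel
theorem e8Cneg_1_1280 : allRange 1280 1300 ((fun k => commNegCheck Cfsg.Lie.chevE8 (k / 240) (k % 240))) = true := by decide +kernel
theorem e8Cneg_1_1300 : allRange 1300 1320 ((fun k => commNegCheck Cfsg.Lie.chevE8 (k / 240) (k % 240))) = true := by decide +kernel
theorem e8Cneg_1_1320 : allRange 1320 1340 ((fun k => commNegCheck Cfsg.Lie.chevE8 (k / 240) (k % 240))) = true := by decide +kernel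
theorem e8Cneg_1_1340 : allRange 1340 1360 ((fun k => commNegCheck Cfsg.Lie.chevE8 (k / 240) (k % 240))) = true := by decide +kernel
theorem e8Cneg_1_1360 : allRange 1360 1380 ((fun k => commNegCheck Cfsg.Lie.chevE8 (k / 240) (k % 240))) = true := by decide +kernel
theorem e8Cneg_1_1380 : allRange 1380 1400 ((fun k => commNegCheck Cfsg.Lie.chevE8 (k / 240) (k % 240))) = true := by decide +kernel
theorem e8Cneg_1_1400 : allRange 1400 1420 ((fun k => commNegCheck Cfsg.Lie.chevE8 (k / 240) (k % 240))) = true := by decide +kernel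
theorem e8Cneg_1_1420 : allRange 1420 1440 ((fun k => commNegCheck Cfsg.Lie.chevE8 (k / 240) (k % 240))) = true := by decide +kernel
theorem e8Cneg_1_1440 : allRange 1440 1460 ((fun k => commNegCheck Cfsg.Lie.chevE8 (k / 240) (k % 240))) = true := by decide +kernel
theorem e8Cneg_1_1460 : allRange 1460 1480 ((fun k => commNegCheck Cfsg.Lie.chevE8 (k / 240) (k % 240))) = true := by decide +kernel
theorem e8Cneg_1_1480 : allRange 1480 1500 ((fun k => commNegCheck Cfsg.Lie.chevE8 (k / 240) (k % 240))) = true := by decide +kernel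
theorem e8Cneg_1_1500 : allRange 1500 1520 ((fun k => commNegCheck Cfsg.Lie.chevE8 (k / 240) (k % 240))) = true := by decide +kernel

/-- The commutator formula of type E8 for opposite roots (roots 760 to 1519). -/
theorem e8Cneg_1 : ∀ r, 760 ≤ r → r < 1520 → ((fun k => commNegCheck Cfsg.Lie.chevE8 (k / 240) (k % 240))) r = true := by
  intro r h1 h2
  by_cases c0 : r < 780
  · exact allRange_spec e8Cneg_1_760 r (by omega) c0
  by_cases c1 : r < 800
  · exact allRange_spec e8Cneg_1_780 r (by omega) c1
  by_cases c2 : r < 820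
  · exact allRange_spec e8Cneg_1_800 r (by omega) c2
  by_cases c3 : r < 840
  · exact allRange_spec e8Cneg_1_820 r (by omega) c3
  by_cases c4 : r < 860
  · exact allRange_spec e8Cneg_1_840 r (by omega) c4
  by_cases c5 : r < 880
  · exact allRange_spec e8Cneg_1_860 r (by omega) c5
  by_cases c6 : r < 900
  · exact allRange_spec e8Cneg_1_880 r (by omega) c6
  by_cases c7 : r < 920
  · exact allRange_spec e8Cneg_1_900 r (by omega) c7
  by_cases c8 : r < 940
  · exact allRange_spec e8Cneg_1_920 r (by omega) c8
  by_cases c9 : r < 960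
  · exact allRange_spec e8Cneg_1_940 r (by omega) c9
  by_cases c10 : r < 980
  · exact allRange_spec e8Cneg_1_960 r (by omega) c10
  by_cases c11 : r < 1000
  · exact allRange_spec e8Cneg_1_980 r (by omega) c11
  by_cases c12 : r < 1020
  · exact allRange_spec e8Cneg_1_1000 r (by omega) c12
  by_cases c13 : r < 1040
  · exact allRange_spec e8Cneg_1_1020 r (by omega) c13
  by_cases c14 : r < 1060
  · exact allRange_spec e8Cneg_1_1040 r (by omega) c14
  by_cases c15 : r < 1080
  · exact allRange_spec e8Cneg_1_1060 r (by omega) c15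
  by_cases c16 : r < 1100
  · exact allRange_spec e8Cneg_1_1080 r (by omega) c16
  by_cases c17 : r < 1120
  · exact allRange_spec e8Cneg_1_1100 r (by omega) c17
  by_cases c18 : r < 1140
  · exact allRange_spec e8Cneg_1_1120 r (by omega) c18
  by_cases c19 : r < 1160
  · exact allRange_spec e8Cneg_1_1140 r (by omega) c19
  by_cases c20 : r < 1180
  · exact allRange_spec e8Cneg_1_1160 r (by omega) c20
  by_cases c21 : r < 1200
  · exact allRange_spec e8Cneg_1_1180 r (by omega) c21
  by_cases c22 : r < 1220
  · exact allRange_spec e8Cneg_1_1200 r (by omega) c22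
  by_cases c23 : r < 1240
  · exact allRange_spec e8Cneg_1_1220 r (by omega) c23
  by_cases c24 : r < 1260
  · exact allRange_spec e8Cneg_1_1240 r (by omega) c24
  by_cases c25 : r < 1280
  · exact allRange_spec e8Cneg_1_1260 r (by omega) c25
  by_cases c26 : r < 1300
  · exact allRange_spec e8Cneg_1_1280 r (by omega) c26
  by_cases c27 : r < 1320
  · exact allRange_spec e8Cneg_1_1300 r (by omega) c27
  by_cases c28 : r < 1340
  · exact allRange_spec e8Cneg_1_1320 r (by omega) c28
  by_cases c29 : r < 1360
  · exact allRange_spec e8Cneg_1_1340 r (by omega) c29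
  by_cases c30 : r < 1380
  · exact allRange_spec e8Cneg_1_1360 r (by omega) c30
  by_cases c31 : r < 1400
  · exact allRange_spec e8Cneg_1_1380 r (by omega) c31
  by_cases c32 : r < 1420
  · exact allRange_spec e8Cneg_1_1400 r (by omega) c32
  by_cases c33 : r < 1440
  · exact allRange_spec e8Cneg_1_1420 r (by omega) c33
  by_cases c34 : r < 1460
  · exact allRange_spec e8Cneg_1_1440 r (by omega) c34
  by_cases c35 : r < 1480
  · exact allRange_spec e8Cneg_1_1460 r (by omega) c35
  by_cases c36 : r < 1500
  · exact allRange_spec e8Cneg_1_1480 r (by omega) c36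
  exact allRange_spec e8Cneg_1_1500 r (by omega) h2

end Cfsg.Agent.Lib.Helper3.ChevM
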