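import Cfsg.Prelude.Def_ChevE8
import Cfsg.Agent.Lib.Helper3.StB5
set_option autoImplicit false
set_option maxRecDepth 1000000
set_option Elab.async false

namespace Cfsg.Agent.Lib.Helper3.ChevM
open Cfsg.Agent.Lib.Helper3.StB

theorem e8Cneg_53_40280 : allRange 40280 40300 ((fun k => commNegCheck Cfsg.Lie.chevE8 (k / 240) (k % 240))) = true := by decide +kernel
theorem e8Cneg_53_40300 : allRange 40300 40320 ((fun k => commNegCheck Cfsg.Lie.chevE8 (k / 240) (k % 240))) = true := by decide +kernel
theorem e8Cneg_53_40320 : allRange 40320 40340 ((fun k => commNegCheck Cfsg.Lie.chevE8 (k / 240) (k % 240))) = true := by decide +kernel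
theorem e8Cneg_53_40340 : allRange 40340 40360 ((fun k => commNegCheck Cfsg.Lie.chevE8 (k / 240) (k % 240))) = true := by decide +kernel
theorem e8Cneg_53_40360 : allRange 40360 40380 ((fun k => commNegCheck Cfsg.Lie.chevE8 (k / 240) (k % 240))) = true := by decide +kernel
theorem e8Cneg_53_40380 : allRange 40380 40400 ((fun k => commNegCheck Cfsg.Lie.chevE8 (k / 240) (k % 240))) = true := by decide +kernel
theorem e8Cneg_53_40400 : allRange 40400 40420 ((fun k => commNegCheck Cfsg.Lie.chevE8 (k / 240) (k % 240))) = true := by decide +kernel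
theorem e8Cneg_53_40420 : allRange 40420 40440 ((fun k => commNegCheck Cfsg.Lie.chevE8 (k / 240) (k % 240))) = true := by decide +kernel
theorem e8Cneg_53_40440 : allRange 40440 40460 ((fun k => commNegCheck Cfsg.Lie.chevE8 (k / 240) (k % 240))) = true := by decide +kernel
theorem e8Cneg_53_40460 : allRange 40460 40480 ((fun k => commNegCheck Cfsg.Lie.chevE8 (k / 240) (k % 240))) = true := by decide +kernel
theorem e8Cneg_53_40480 : allRange 40480 40500 ((fun k => commNegCheck Cfsg.Lie.chevE8 (k / 240) (k % 240))) = true := by decide +kernel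
theorem e8Cneg_53_40500 : allRange 40500 40520 ((fun k => commNegCheck Cfsg.Lie.chevE8 (k / 240) (k % 240))) = true := by decide +kernel
theorem e8Cneg_53_40520 : allRange 40520 40540 ((fun k => commNegCheck Cfsg.Lie.chevE8 (k / 240) (k % 240))) = true := by decide +kernel
theorem e8Cneg_53_40540 : allRange 40540 40560 ((fun k => commNegCheck Cfsg.Lie.chevE8 (k / 240) (k % 240))) = true := by decide +kernel
theorem e8Cneg_53_40560 : allRange 40560 40580 ((fun k => commNegCheck Cfsg.Lie.chevE8 (k / 240) (k % 240))) = true := by decide +kernel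
theorem e8Cneg_53_40580 : allRange 40580 40600 ((fun k => commNegCheck Cfsg.Lie.chevE8 (k / 240) (k % 240))) = true := by decide +kernel
theorem e8Cneg_53_40600 : allRange 40600 40620 ((fun k => commNegCheck Cfsg.Lie.chevE8 (k / 240) (k % 240))) = true := by decide +kernel
theorem e8Cneg_53_40620 : allRange 40620 40640 ((fun k => commNegCheck Cfsg.Lie.chevE8 (k / 240) (k % 240))) = true := by decide +kernel
theorem e8Cneg_53_40640 : allRange 40640 40660 ((fun k => commNegCheck Cfsg.Lie.chevE8 (k / 240) (k % 240))) = true := by decide +kernel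
theorem e8Cneg_53_40660 : allRange 40660 40680 ((fun k => commNegCheck Cfsg.Lie.chevE8 (k / 240) (k % 240))) = true := by decide +kernel
theorem e8Cneg_53_40680 : allRange 40680 40700 ((fun k => commNegCheck Cfsg.Lie.chevE8 (k / 240) (k % 240))) = true := by decide +kernel
theorem e8Cneg_53_40700 : allRange 40700 40720 ((fun k => commNegCheck Cfsg.Lie.chevE8 (k / 240) (k % 240))) = true := by decide +kernel
theorem e8Cneg_53_40720 : allRange 40720 40740 ((fun k => commNegCheck Cfsg.Lie.chevE8 (k / 240) (k % 240))) = true := by decide +kernel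
theorem e8Cneg_53_40740 : allRange 40740 40760 ((fun k => commNegCheck Cfsg.Lie.chevE8 (k / 240) (k % 240))) = true := by decide +kernel
theorem e8Cneg_53_40760 : allRange 40760 40780 ((fun k => commNegCheck Cfsg.Lie.chevE8 (k / 240) (k % 240))) = true := by decide +kernel
theorem e8Cneg_53_40780 : allRange 40780 40800 ((fun k => commNegCheck Cfsg.Lie.chevE8 (k / 240) (k % 240))) = true := by decide +kernel
theorem e8Cneg_53_40800 : allRange 40800 40820 ((fun k => commNegCheck Cfsg.Lie.chevE8 (k / 240) (k % 240))) = true := by decide +kernel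
theorem e8Cneg_53_40820 : allRange 40820 40840 ((fun k => commNegCheck Cfsg.Lie.chevE8 (k / 240) (k % 240))) = true := by decide +kernel
theorem e8Cneg_53_40840 : allRange 40840 40860 ((fun k => commNegCheck Cfsg.Lie.chevE8 (k / 240) (k % 240))) = true := by decide +kernel
theorem e8Cneg_53_40860 : allRange 40860 40880 ((fun k => commNegCheck Cfsg.Lie.chevE8 (k / 240) (k % 240))) = true := by decide +kernel
theorem e8Cneg_53_40880 : allRange 40880 40900 ((fun k => commNegCheck Cfsg.Lie.chevE8 (k / 240) (k % 240))) = true := by decide +kernel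
theorem e8Cneg_53_40900 : allRange 40900 40920 ((fun k => commNegCheck Cfsg.Lie.chevE8 (k / 240) (k % 240))) = true := by decide +kernel
theorem e8Cneg_53_40920 : allRange 40920 40940 ((fun k => commNegCheck Cfsg.Lie.chevE8 (k / 240) (k % 240))) = true := by decide +kernel
theorem e8Cneg_53_40940 : allRange 40940 40960 ((fun k => commNegCheck Cfsg.Lie.chevE8 (k / 240) (k % 240))) = true := by decide +kernel
theorem e8Cneg_53_40960 : allRange 40960 40980 ((fun k => commNegCheck Cfsg.Lie.chevE8 (k / 240) (k % 240))) = true := by decide +kernel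
theorem e8Cneg_53_40980 : allRange 40980 41000 ((fun k => commNegCheck Cfsg.Lie.chevE8 (k / 240) (k % 240))) = true := by decide +kernel
theorem e8Cneg_53_41000 : allRange 41000 41020 ((fun k => commNegCheck Cfsg.Lie.chevE8 (k / 240) (k % 240))) = true := by decide +kernel
theorem e8Cneg_53_41020 : allRange 41020 41040 ((fun k => commNegCheck Cfsg.Lie.chevE8 (k / 240) (k % 240))) = true := by decide +kernel

/-- The commutator formula of type E8 for opposite roots (roots 40280 to 41039). -/
theorem e8Cneg_53 : ∀ r, 40280 ≤ r → r < 41040 → ((fun k => commNegCheck Cfsg.Lie.chevE8 (k / 240) (k % 240))) r = true := by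
  intro r h1 h2
  by_cases c0 : r < 40300
  · exact allRange_spec e8Cneg_53_40280 r (by omega) c0
  by_cases c1 : r < 40320
  · exact allRange_spec e8Cneg_53_40300 r (by omega) c1
  by_cases c2 : r < 40340
  · exact allRange_spec e8Cneg_53_40320 r (by omega) c2
  by_cases c3 : r < 40360
  · exact allRange_spec e8Cneg_53_40340 r (by omega) c3
  by_cases c4 : r < 40380
  · exact allRange_spec e8Cneg_53_40360 r (by omega) c4
  by_cases c5 : r < 40400
  · exact allRange_spec e8Cneg_53_40380 r (by omega) c5
  by_cases c6 : r < 40420
  · exact allRange_spec e8Cneg_53_40400 r (by omega) c6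
  by_cases c7 : r < 40440
  · exact allRange_spec e8Cneg_53_40420 r (by omega) c7
  by_cases c8 : r < 40460
  · exact allRange_spec e8Cneg_53_40440 r (by omega) c8
  by_cases c9 : r < 40480
  · exact allRange_spec e8Cneg_53_40460 r (by omega) c9
  by_cases c10 : r < 40500
  · exact allRange_spec e8Cneg_53_40480 r (by omega) c10
  by_cases c11 : r < 40520
  · exact allRange_spec e8Cneg_53_40500 r (by omega) c11
  by_cases c12 : r < 40540
  · exact allRange_spec e8Cneg_53_40520 r (by omega) c12
  by_cases c13 : r < 40560
  · exact allRange_spec e8Cneg_53_40540 r (by omega) c13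
  by_cases c14 : r < 40580
  · exact allRange_spec e8Cneg_53_40560 r (by omega) c14
  by_cases c15 : r < 40600
  · exact allRange_spec e8Cneg_53_40580 r (by omega) c15
  by_cases c16 : r < 40620
  · exact allRange_spec e8Cneg_53_40600 r (by omega) c16
  by_cases c17 : r < 40640
  · exact allRange_spec e8Cneg_53_40620 r (by omega) c17
  by_cases c18 : r < 40660
  · exact allRange_spec e8Cneg_53_40640 r (by omega) c18
  by_cases c19 : r < 40680
  · exact allRange_spec e8Cneg_53_40660 r (by omega) c19
  by_cases c20 : r < 40700
  · exact allRange_spec e8Cneg_53_40680 r (by omega) c20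
  by_cases c21 : r < 40720
  · exact allRange_spec e8Cneg_53_40700 r (by omega) c21
  by_cases c22 : r < 40740
  · exact allRange_spec e8Cneg_53_40720 r (by omega) c22
  by_cases c23 : r < 40760
  · exact allRange_spec e8Cneg_53_40740 r (by omega) c23
  by_cases c24 : r < 40780
  · exact allRange_spec e8Cneg_53_40760 r (by omega) c24
  by_cases c25 : r < 40800
  · exact allRange_spec e8Cneg_53_40780 r (by omega) c25
  by_cases c26 : r < 40820
  · exact allRange_spec e8Cneg_53_40800 r (by omega) c26
  by_cases c27 : r < 40840
  · exact allRange_spec e8Cneg_53_40820 r (by omega) c27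
  by_cases c28 : r < 40860
  · exact allRange_spec e8Cneg_53_40840 r (by omega) c28
  by_cases c29 : r < 40880
  · exact allRange_spec e8Cneg_53_40860 r (by omega) c29
  by_cases c30 : r < 40900
  · exact allRange_spec e8Cneg_53_40880 r (by omega) c30
  by_cases c31 : r < 40920
  · exact allRange_spec e8Cneg_53_40900 r (by omega) c31
  by_cases c32 : r < 40940
  · exact allRange_spec e8Cneg_53_40920 r (by omega) c32
  by_cases c33 : r < 40960
  · exact allRange_spec e8Cneg_53_40940 r (by omega) c33
  by_cases c34 : r < 40980
  · exact allRange_spec e8Cneg_53_40960 r (by omega) c34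
  by_cases c35 : r < 41000
  · exact allRange_spec e8Cneg_53_40980 r (by omega) c35
  by_cases c36 : r < 41020
  · exact allRange_spec e8Cneg_53_41000 r (by omega) c36
  exact allRange_spec e8Cneg_53_41020 r (by omega) h2

end Cfsg.Agent.Lib.Helper3.ChevM
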