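import Cfsg.Prelude.Def_ChevE8
import Cfsg.Agent.Lib.Helper3.StB5
set_option autoImplicit false
set_option maxRecDepth 1000000
set_option Elab.async false

namespace Cfsg.Agent.Lib.Helper3.ChevM
open Cfsg.Agent.Lib.Helper3.StB

theorem e8Cneg_54_41040 : allRange 41040 41060 ((fun k => commNegCheck Cfsg.Lie.chevE8 (k / 240) (k % 240))) = true := by decide +kernel
theorem e8Cneg_54_41060 : allRange 41060 41080 ((fun k => commNegCheck Cfsg.Lie.chevE8 (k / 240) (k % 240))) = true := by decide +kernel
theorem e8Cneg_54_41080 : allRange 41080 41100 ((fun k => commNegCheck Cfsg.Lie.chevE8 (k / 240) (k % 240))) = true := by decide +kernel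
theorem e8Cneg_54_41100 : allRange 41100 41120 ((fun k => commNegCheck Cfsg.Lie.chevE8 (k / 240) (k % 240))) = true := by decide +kernel
theorem e8Cneg_54_41120 : allRange 41120 41140 ((fun k => commNegCheck Cfsg.Lie.chevE8 (k / 240) (k % 240))) = true := by decide +kernel
theorem e8Cneg_54_41140 : allRange 41140 41160 ((fun k => commNegCheck Cfsg.Lie.chevE8 (k / 240) (k % 240))) = true := by decide +kernel
theorem e8Cneg_54_41160 : allRange 41160 41180 ((fun k => commNegCheck Cfsg.Lie.chevE8 (k / 240) (k % 240))) = true := by decide +kernel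
theorem e8Cneg_54_41180 : allRange 41180 41200 ((fun k => commNegCheck Cfsg.Lie.chevE8 (k / 240) (k % 240))) = true := by decide +kernel
theorem e8Cneg_54_41200 : allRange 41200 41220 ((fun k => commNegCheck Cfsg.Lie.chevE8 (k / 240) (k % 240))) = true := by decide +kernel
theorem e8Cneg_54_41220 : allRange 41220 41240 ((fun k => commNegCheck Cfsg.Lie.chevE8 (k / 240) (k % 240))) = true := by decide +kernel
theorem e8Cneg_54_41240 : allRange 41240 41260 ((fun k => commNegCheck Cfsg.Lie.chevE8 (k / 240) (k % 240))) = true := by decide +kernel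
theorem e8Cneg_54_41260 : allRange 41260 41280 ((fun k => commNegCheck Cfsg.Lie.chevE8 (k / 240) (k % 240))) = true := by decide +kernel
theorem e8Cneg_54_41280 : allRange 41280 41300 ((fun k => commNegCheck Cfsg.Lie.chevE8 (k / 240) (k % 240))) = true := by decide +kernel
theorem e8Cneg_54_41300 : allRange 41300 41320 ((fun k => commNegCheck Cfsg.Lie.chevE8 (k / 240) (k % 240))) = true := by decide +kernel
theorem e8Cneg_54_41320 : allRange 41320 41340 ((fun k => commNegCheck Cfsg.Lie.chevE8 (k / 240) (k % 240))) = true := by decide +kernel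
theorem e8Cneg_54_41340 : allRange 41340 41360 ((fun k => commNegCheck Cfsg.Lie.chevE8 (k / 240) (k % 240))) = true := by decide +kernel
theorem e8Cneg_54_41360 : allRange 41360 41380 ((fun k => commNegCheck Cfsg.Lie.chevE8 (k / 240) (k % 240))) = true := by decide +kernel
theorem e8Cneg_54_41380 : allRange 41380 41400 ((fun k => commNegCheck Cfsg.Lie.chevE8 (k / 240) (k % 240))) = true := by decide +kernel
theorem e8Cneg_54_41400 : allRange 41400 41420 ((fun k => commNegCheck Cfsg.Lie.chevE8 (k / 240) (k % 240))) = true := by decide +kernel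
theorem e8Cneg_54_41420 : allRange 41420 41440 ((fun k => commNegCheck Cfsg.Lie.chevE8 (k / 240) (k % 240))) = true := by decide +kernel
theorem e8Cneg_54_41440 : allRange 41440 41460 ((fun k => commNegCheck Cfsg.Lie.chevE8 (k / 240) (k % 240))) = true := by decide +kernel
theorem e8Cneg_54_41460 : allRange 41460 41480 ((fun k => commNegCheck Cfsg.Lie.chevE8 (k / 240) (k % 240))) = true := by decide +kernel
theorem e8Cneg_54_41480 : allRange 41480 41500 ((fun k => commNegCheck Cfsg.Lie.chevE8 (k / 240) (k % 240))) = true := by decide +kernel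
theorem e8Cneg_54_41500 : allRange 41500 41520 ((fun k => commNegCheck Cfsg.Lie.chevE8 (k / 240) (k % 240))) = true := by decide +kernel
theorem e8Cneg_54_41520 : allRange 41520 41540 ((fun k => commNegCheck Cfsg.Lie.chevE8 (k / 240) (k % 240))) = true := by decide +kernel
theorem e8Cneg_54_41540 : allRange 41540 41560 ((fun k => commNegCheck Cfsg.Lie.chevE8 (k / 240) (k % 240))) = true := by decide +kernel
theorem e8Cneg_54_41560 : allRange 41560 41580 ((fun k => commNegCheck Cfsg.Lie.chevE8 (k / 240) (k % 240))) = true := by decide +kernel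
theorem e8Cneg_54_41580 : allRange 41580 41600 ((fun k => commNegCheck Cfsg.Lie.chevE8 (k / 240) (k % 240))) = true := by decide +kernel
theorem e8Cneg_54_41600 : allRange 41600 41620 ((fun k => commNegCheck Cfsg.Lie.chevE8 (k / 240) (k % 240))) = true := by decide +kernel
theorem e8Cneg_54_41620 : allRange 41620 41640 ((fun k => commNegCheck Cfsg.Lie.chevE8 (k / 240) (k % 240))) = true := by decide +kernel
theorem e8Cneg_54_41640 : allRange 41640 41660 ((fun k => commNegCheck Cfsg.Lie.chevE8 (k / 240) (k % 240))) = true := by decide +kernel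
theorem e8Cneg_54_41660 : allRange 41660 41680 ((fun k => commNegCheck Cfsg.Lie.chevE8 (k / 240) (k % 240))) = true := by decide +kernel
theorem e8Cneg_54_41680 : allRange 41680 41700 ((fun k => commNegCheck Cfsg.Lie.chevE8 (k / 240) (k % 240))) = true := by decide +kernel
theorem e8Cneg_54_41700 : allRange 41700 41720 ((fun k => commNegCheck Cfsg.Lie.chevE8 (k / 240) (k % 240))) = true := by decide +kernel
theorem e8Cneg_54_41720 : allRange 41720 41740 ((fun k => commNegCheck Cfsg.Lie.chevE8 (k / 240) (k % 240))) = true := by decide +kernel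
theorem e8Cneg_54_41740 : allRange 41740 41760 ((fun k => commNegCheck Cfsg.Lie.chevE8 (k / 240) (k % 240))) = true := by decide +kernel
theorem e8Cneg_54_41760 : allRange 41760 41780 ((fun k => commNegCheck Cfsg.Lie.chevE8 (k / 240) (k % 240))) = true := by decide +kernel
theorem e8Cneg_54_41780 : allRange 41780 41800 ((fun k => commNegCheck Cfsg.Lie.chevE8 (k / 240) (k % 240))) = true := by decide +kernel

/-- The commutator formula of type E8 for opposite roots (roots 41040 to 41799). -/
theorem e8Cneg_54 : ∀ r, 41040 ≤ r → r < 41800 → ((fun k => commNegCheck Cfsg.Lie.chevE8 (k / 240) (k % 240))) r = true := by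
  intro r h1 h2
  by_cases c0 : r < 41060
  · exact allRange_spec e8Cneg_54_41040 r (by omega) c0
  by_cases c1 : r < 41080
  · exact allRange_spec e8Cneg_54_41060 r (by omega) c1
  by_cases c2 : r < 41100
  · exact allRange_spec e8Cneg_54_41080 r (by omega) c2
  by_cases c3 : r < 41120
  · exact allRange_spec e8Cneg_54_41100 r (by omega) c3
  by_cases c4 : r < 41140
  · exact allRange_spec e8Cneg_54_41120 r (by omega) c4
  by_cases c5 : r < 41160
  · exact allRange_spec e8Cneg_54_41140 r (by omega) c5
  by_cases c6 : r < 41180
  · exact allRange_spec e8Cneg_54_41160 r (by omega) c6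
  by_cases c7 : r < 41200
  · exact allRange_spec e8Cneg_54_41180 r (by omega) c7
  by_cases c8 : r < 41220
  · exact allRange_spec e8Cneg_54_41200 r (by omega) c8
  by_cases c9 : r < 41240
  · exact allRange_spec e8Cneg_54_41220 r (by omega) c9
  by_cases c10 : r < 41260
  · exact allRange_spec e8Cneg_54_41240 r (by omega) c10
  by_cases c11 : r < 41280
  · exact allRange_spec e8Cneg_54_41260 r (by omega) c11
  by_cases c12 : r < 41300
  · exact allRange_spec e8Cneg_54_41280 r (by omega) c12
  by_cases c13 : r < 41320
  · exact allRange_spec e8Cneg_54_41300 r (by omega) c13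
  by_cases c14 : r < 41340
  · exact allRange_spec e8Cneg_54_41320 r (by omega) c14
  by_cases c15 : r < 41360
  · exact allRange_spec e8Cneg_54_41340 r (by omega) c15
  by_cases c16 : r < 41380
  · exact allRange_spec e8Cneg_54_41360 r (by omega) c16
  by_cases c17 : r < 41400
  · exact allRange_spec e8Cneg_54_41380 r (by omega) c17
  by_cases c18 : r < 41420
  · exact allRange_spec e8Cneg_54_41400 r (by omega) c18
  by_cases c19 : r < 41440
  · exact allRange_spec e8Cneg_54_41420 r (by omega) c19
  by_cases c20 : r < 41460
  · exact allRange_spec e8Cneg_54_41440 r (by omega) c20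
  by_cases c21 : r < 41480
  · exact allRange_spec e8Cneg_54_41460 r (by omega) c21
  by_cases c22 : r < 41500
  · exact allRange_spec e8Cneg_54_41480 r (by omega) c22
  by_cases c23 : r < 41520
  · exact allRange_spec e8Cneg_54_41500 r (by omega) c23
  by_cases c24 : r < 41540
  · exact allRange_spec e8Cneg_54_41520 r (by omega) c24
  by_cases c25 : r < 41560
  · exact allRange_spec e8Cneg_54_41540 r (by omega) c25
  by_cases c26 : r < 41580
  · exact allRange_spec e8Cneg_54_41560 r (by omega) c26
  by_cases c27 : r < 41600
  · exact allRange_spec e8Cneg_54_41580 r (by omega) c27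
  by_cases c28 : r < 41620
  · exact allRange_spec e8Cneg_54_41600 r (by omega) c28
  by_cases c29 : r < 41640
  · exact allRange_spec e8Cneg_54_41620 r (by omega) c29
  by_cases c30 : r < 41660
  · exact allRange_spec e8Cneg_54_41640 r (by omega) c30
  by_cases c31 : r < 41680
  · exact allRange_spec e8Cneg_54_41660 r (by omega) c31
  by_cases c32 : r < 41700
  · exact allRange_spec e8Cneg_54_41680 r (by omega) c32
  by_cases c33 : r < 41720
  · exact allRange_spec e8Cneg_54_41700 r (by omega) c33
  by_cases c34 : r < 41740
  · exact allRange_spec e8Cneg_54_41720 r (by omega) c34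
  by_cases c35 : r < 41760
  · exact allRange_spec e8Cneg_54_41740 r (by omega) c35
  by_cases c36 : r < 41780
  · exact allRange_spec e8Cneg_54_41760 r (by omega) c36
  exact allRange_spec e8Cneg_54_41780 r (by omega) h2

end Cfsg.Agent.Lib.Helper3.ChevM
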