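import Cfsg.Prelude.Def_ChevE8
import Cfsg.Agent.Lib.Helper3.StB5
set_option autoImplicit false
set_option maxRecDepth 1000000
set_option Elab.async false

namespace Cfsg.Agent.Lib.Helper3.ChevM
open Cfsg.Agent.Lib.Helper3.StB

theorem e8Cneg_55_41800 : allRange 41800 41820 ((fun k => commNegCheck Cfsg.Lie.chevE8 (k / 240) (k % 240))) = true := by decide +kernel
theorem e8Cneg_55_41820 : allRange 41820 41840 ((fun k => commNegCheck Cfsg.Lie.chevE8 (k / 240) (k % 240))) = true := by decide +kernel
theorem e8Cneg_55_41840 : allRange 41840 41860 ((fun k => commNegCheck Cfsg.Lie.chevE8 (k / 240) (k % 240))) = true := by decide +kernel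
theorem e8Cneg_55_41860 : allRange 41860 41880 ((fun k => commNegCheck Cfsg.Lie.chevE8 (k / 240) (k % 240))) = true := by decide +kernel
theorem e8Cneg_55_41880 : allRange 41880 41900 ((fun k => commNegCheck Cfsg.Lie.chevE8 (k / 240) (k % 240))) = true := by decide +kernel
theorem e8Cneg_55_41900 : allRange 41900 41920 ((fun k => commNegCheck Cfsg.Lie.chevE8 (k / 240) (k % 240))) = true := by decide +kernel
theorem e8Cneg_55_41920 : allRange 41920 41940 ((fun k => commNegCheck Cfsg.Lie.chevE8 (k / 240) (k % 240))) = true := by decide +kernel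
theorem e8Cneg_55_41940 : allRange 41940 41960 ((fun k => commNegCheck Cfsg.Lie.chevE8 (k / 240) (k % 240))) = true := by decide +kernel
theorem e8Cneg_55_41960 : allRange 41960 41980 ((fun k => commNegCheck Cfsg.Lie.chevE8 (k / 240) (k % 240))) = true := by decide +kernel
theorem e8Cneg_55_41980 : allRange 41980 42000 ((fun k => commNegCheck Cfsg.Lie.chevE8 (k / 240) (k % 240))) = true := by decide +kernel
theorem e8Cneg_55_42000 : allRange 42000 42020 ((fun k => commNegCheck Cfsg.Lie.chevE8 (k / 240) (k % 240))) = true := by decide +kernel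
theorem e8Cneg_55_42020 : allRange 42020 42040 ((fun k => commNegCheck Cfsg.Lie.chevE8 (k / 240) (k % 240))) = true := by decide +kernel
theorem e8Cneg_55_42040 : allRange 42040 42060 ((fun k => commNegCheck Cfsg.Lie.chevE8 (k / 240) (k % 240))) = true := by decide +kernel
theorem e8Cneg_55_42060 : allRange 42060 42080 ((fun k => commNegCheck Cfsg.Lie.chevE8 (k / 240) (k % 240))) = true := by decide +kernel
theorem e8Cneg_55_42080 : allRange 42080 42100 ((fun k => commNegCheck Cfsg.Lie.chevE8 (k / 240) (k % 240))) = true := by decide +kernel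
theorem e8Cneg_55_42100 : allRange 42100 42120 ((fun k => commNegCheck Cfsg.Lie.chevE8 (k / 240) (k % 240))) = true := by decide +kernel
theorem e8Cneg_55_42120 : allRange 42120 42140 ((fun k => commNegCheck Cfsg.Lie.chevE8 (k / 240) (k % 240))) = true := by decide +kernel
theorem e8Cneg_55_42140 : allRange 42140 42160 ((fun k => commNegCheck Cfsg.Lie.chevE8 (k / 240) (k % 240))) = true := by decide +kernel
theorem e8Cneg_55_42160 : allRange 42160 42180 ((fun k => commNegCheck Cfsg.Lie.chevE8 (k / 240) (k % 240))) = true := by decide +kernel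
theorem e8Cneg_55_42180 : allRange 42180 42200 ((fun k => commNegCheck Cfsg.Lie.chevE8 (k / 240) (k % 240))) = true := by decide +kernel
theorem e8Cneg_55_42200 : allRange 42200 42220 ((fun k => commNegCheck Cfsg.Lie.chevE8 (k / 240) (k % 240))) = true := by decide +kernel
theorem e8Cneg_55_42220 : allRange 42220 42240 ((fun k => commNegCheck Cfsg.Lie.chevE8 (k / 240) (k % 240))) = true := by decide +kernel
theorem e8Cneg_55_42240 : allRange 42240 42260 ((fun k => commNegCheck Cfsg.Lie.chevE8 (k / 240) (k % 240))) = true := by decide +kernel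
theorem e8Cneg_55_42260 : allRange 42260 42280 ((fun k => commNegCheck Cfsg.Lie.chevE8 (k / 240) (k % 240))) = true := by decide +kernel
theorem e8Cneg_55_42280 : allRange 42280 42300 ((fun k => commNegCheck Cfsg.Lie.chevE8 (k / 240) (k % 240))) = true := by decide +kernel
theorem e8Cneg_55_42300 : allRange 42300 42320 ((fun k => commNegCheck Cfsg.Lie.chevE8 (k / 240) (k % 240))) = true := by decide +kernel
theorem e8Cneg_55_42320 : allRange 42320 42340 ((fun k => commNegCheck Cfsg.Lie.chevE8 (k / 240) (k % 240))) = true := by decide +kernel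
theorem e8Cneg_55_42340 : allRange 42340 42360 ((fun k => commNegCheck Cfsg.Lie.chevE8 (k / 240) (k % 240))) = true := by decide +kernel
theorem e8Cneg_55_42360 : allRange 42360 42380 ((fun k => commNegCheck Cfsg.Lie.chevE8 (k / 240) (k % 240))) = true := by decide +kernel
theorem e8Cneg_55_42380 : allRange 42380 42400 ((fun k => commNegCheck Cfsg.Lie.chevE8 (k / 240) (k % 240))) = true := by decide +kernel
theorem e8Cneg_55_42400 : allRange 42400 42420 ((fun k => commNegCheck Cfsg.Lie.chevE8 (k / 240) (k % 240))) = true := by decide +kernel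
theorem e8Cneg_55_42420 : allRange 42420 42440 ((fun k => commNegCheck Cfsg.Lie.chevE8 (k / 240) (k % 240))) = true := by decide +kernel
theorem e8Cneg_55_42440 : allRange 42440 42460 ((fun k => commNegCheck Cfsg.Lie.chevE8 (k / 240) (k % 240))) = true := by decide +kernel
theorem e8Cneg_55_42460 : allRange 42460 42480 ((fun k => commNegCheck Cfsg.Lie.chevE8 (k / 240) (k % 240))) = true := by decide +kernel
theorem e8Cneg_55_42480 : allRange 42480 42500 ((fun k => commNegCheck Cfsg.Lie.chevE8 (k / 240) (k % 240))) = true := by decide +kernel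
theorem e8Cneg_55_42500 : allRange 42500 42520 ((fun k => commNegCheck Cfsg.Lie.chevE8 (k / 240) (k % 240))) = true := by decide +kernel
theorem e8Cneg_55_42520 : allRange 42520 42540 ((fun k => commNegCheck Cfsg.Lie.chevE8 (k / 240) (k % 240))) = true := by decide +kernel
theorem e8Cneg_55_42540 : allRange 42540 42560 ((fun k => commNegCheck Cfsg.Lie.chevE8 (k / 240) (k % 240))) = true := by decide +kernel

/-- The commutator formula of type E8 for opposite roots (roots 41800 to 42559). -/
theorem e8Cneg_55 : ∀ r, 41800 ≤ r → r < 42560 → ((fun k => commNegCheck Cfsg.Lie.chevE8 (k / 240) (k % 240))) r = true := by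
  intro r h1 h2
  by_cases c0 : r < 41820
  · exact allRange_spec e8Cneg_55_41800 r (by omega) c0
  by_cases c1 : r < 41840
  · exact allRange_spec e8Cneg_55_41820 r (by omega) c1
  by_cases c2 : r < 41860
  · exact allRange_spec e8Cneg_55_41840 r (by omega) c2
  by_cases c3 : r < 41880
  · exact allRange_spec e8Cneg_55_41860 r (by omega) c3
  by_cases c4 : r < 41900
  · exact allRange_spec e8Cneg_55_41880 r (by omega) c4
  by_cases c5 : r < 41920
  · exact allRange_spec e8Cneg_55_41900 r (by omega) c5
  by_cases c6 : r < 41940
  · exact allRange_spec e8Cneg_55_41920 r (by omega) c6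
  by_cases c7 : r < 41960
  · exact allRange_spec e8Cneg_55_41940 r (by omega) c7
  by_cases c8 : r < 41980
  · exact allRange_spec e8Cneg_55_41960 r (by omega) c8
  by_cases c9 : r < 42000
  · exact allRange_spec e8Cneg_55_41980 r (by omega) c9
  by_cases c10 : r < 42020
  · exact allRange_spec e8Cneg_55_42000 r (by omega) c10
  by_cases c11 : r < 42040
  · exact allRange_spec e8Cneg_55_42020 r (by omega) c11
  by_cases c12 : r < 42060
  · exact allRange_spec e8Cneg_55_42040 r (by omega) c12
  by_cases c13 : r < 42080
  · exact allRange_spec e8Cneg_55_42060 r (by omega) c13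
  by_cases c14 : r < 42100
  · exact allRange_spec e8Cneg_55_42080 r (by omega) c14
  by_cases c15 : r < 42120
  · exact allRange_spec e8Cneg_55_42100 r (by omega) c15
  by_cases c16 : r < 42140
  · exact allRange_spec e8Cneg_55_42120 r (by omega) c16
  by_cases c17 : r < 42160
  · exact allRange_spec e8Cneg_55_42140 r (by omega) c17
  by_cases c18 : r < 42180
  · exact allRange_spec e8Cneg_55_42160 r (by omega) c18
  by_cases c19 : r < 42200
  · exact allRange_spec e8Cneg_55_42180 r (by omega) c19
  by_cases c20 : r < 42220
  · exact allRange_spec e8Cneg_55_42200 r (by omega) c20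
  by_cases c21 : r < 42240
  · exact allRange_spec e8Cneg_55_42220 r (by omega) c21
  by_cases c22 : r < 42260
  · exact allRange_spec e8Cneg_55_42240 r (by omega) c22
  by_cases c23 : r < 42280
  · exact allRange_spec e8Cneg_55_42260 r (by omega) c23
  by_cases c24 : r < 42300
  · exact allRange_spec e8Cneg_55_42280 r (by omega) c24
  by_cases c25 : r < 42320
  · exact allRange_spec e8Cneg_55_42300 r (by omega) c25
  by_cases c26 : r < 42340
  · exact allRange_spec e8Cneg_55_42320 r (by omega) c26
  by_cases c27 : r < 42360
  · exact allRange_spec e8Cneg_55_42340 r (by omega) c27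
  by_cases c28 : r < 42380
  · exact allRange_spec e8Cneg_55_42360 r (by omega) c28
  by_cases c29 : r < 42400
  · exact allRange_spec e8Cneg_55_42380 r (by omega) c29
  by_cases c30 : r < 42420
  · exact allRange_spec e8Cneg_55_42400 r (by omega) c30
  by_cases c31 : r < 42440
  · exact allRange_spec e8Cneg_55_42420 r (by omega) c31
  by_cases c32 : r < 42460
  · exact allRange_spec e8Cneg_55_42440 r (by omega) c32
  by_cases c33 : r < 42480
  · exact allRange_spec e8Cneg_55_42460 r (by omega) c33
  by_cases c34 : r < 42500
  · exact allRange_spec e8Cneg_55_42480 r (by omega) c34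
  by_cases c35 : r < 42520
  · exact allRange_spec e8Cneg_55_42500 r (by omega) c35
  by_cases c36 : r < 42540
  · exact allRange_spec e8Cneg_55_42520 r (by omega) c36
  exact allRange_spec e8Cneg_55_42540 r (by omega) h2

end Cfsg.Agent.Lib.Helper3.ChevM
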