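import Cfsg.Prelude.Def_ChevE8
import Cfsg.Agent.Lib.Helper3.StB5
set_option autoImplicit false
set_option maxRecDepth 1000000
set_option Elab.async false

namespace Cfsg.Agent.Lib.Helper3.ChevM
open Cfsg.Agent.Lib.Helper3.StB

theorem e8Cneg_56_42560 : allRange 42560 42580 ((fun k => commNegCheck Cfsg.Lie.chevE8 (k / 240) (k % 240))) = true := by decide +kernel
theorem e8Cneg_56_42580 : allRange 42580 42600 ((fun k => commNegCheck Cfsg.Lie.chevE8 (k / 240) (k % 240))) = true := by decide +kernel
theorem e8Cneg_56_42600 : allRange 42600 42620 ((fun k => commNegCheck Cfsg.Lie.chevE8 (k / 240) (k % 240))) = true := by decide +kernel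
theorem e8Cneg_56_42620 : allRange 42620 42640 ((fun k => commNegCheck Cfsg.Lie.chevE8 (k / 240) (k % 240))) = true := by decide +kernel
theorem e8Cneg_56_42640 : allRange 42640 42660 ((fun k => commNegCheck Cfsg.Lie.chevE8 (k / 240) (k % 240))) = true := by decide +kernel
theorem e8Cneg_56_42660 : allRange 42660 42680 ((fun k => commNegCheck Cfsg.Lie.chevE8 (k / 240) (k % 240))) = true := by decide +kernel
theorem e8Cneg_56_42680 : allRange 42680 42700 ((fun k => commNegCheck Cfsg.Lie.chevE8 (k / 240) (k % 240))) = true := by decide +kernel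
theorem e8Cneg_56_42700 : allRange 42700 42720 ((fun k => commNegCheck Cfsg.Lie.chevE8 (k / 240) (k % 240))) = true := by decide +kernel
theorem e8Cneg_56_42720 : allRange 42720 42740 ((fun k => commNegCheck Cfsg.Lie.chevE8 (k / 240) (k % 240))) = true := by decide +kernel
theorem e8Cneg_56_42740 : allRange 42740 42760 ((fun k => commNegCheck Cfsg.Lie.chevE8 (k / 240) (k % 240))) = true := by decide +kernel
theorem e8Cneg_56_42760 : allRange 42760 42780 ((fun k => commNegCheck Cfsg.Lie.chevE8 (k / 240) (k % 240))) = true := by decide +kernel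
theorem e8Cneg_56_42780 : allRange 42780 42800 ((fun k => commNegCheck Cfsg.Lie.chevE8 (k / 240) (k % 240))) = true := by decide +kernel
theorem e8Cneg_56_42800 : allRange 42800 42820 ((fun k => commNegCheck Cfsg.Lie.chevE8 (k / 240) (k % 240))) = true := by decide +kernel
theorem e8Cneg_56_42820 : allRange 42820 42840 ((fun k => commNegCheck Cfsg.Lie.chevE8 (k / 240) (k % 240))) = true := by decide +kernel
theorem e8Cneg_56_42840 : allRange 42840 42860 ((fun k => commNegCheck Cfsg.Lie.chevE8 (k / 240) (k % 240))) = true := by decide +kernel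
theorem e8Cneg_56_42860 : allRange 42860 42880 ((fun k => commNegCheck Cfsg.Lie.chevE8 (k / 240) (k % 240))) = true := by decide +kernel
theorem e8Cneg_56_42880 : allRange 42880 42900 ((fun k => commNegCheck Cfsg.Lie.chevE8 (k / 240) (k % 240))) = true := by decide +kernel
theorem e8Cneg_56_42900 : allRange 42900 42920 ((fun k => commNegCheck Cfsg.Lie.chevE8 (k / 240) (k % 240))) = true := by decide +kernel
theorem e8Cneg_56_42920 : allRange 42920 42940 ((fun k => commNegCheck Cfsg.Lie.chevE8 (k / 240) (k % 240))) = true := by decide +kernel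
theorem e8Cneg_56_42940 : allRange 42940 42960 ((fun k => commNegCheck Cfsg.Lie.chevE8 (k / 240) (k % 240))) = true := by decide +kernel
theorem e8Cneg_56_42960 : allRange 42960 42980 ((fun k => commNegCheck Cfsg.Lie.chevE8 (k / 240) (k % 240))) = true := by decide +kernel
theorem e8Cneg_56_42980 : allRange 42980 43000 ((fun k => commNegCheck Cfsg.Lie.chevE8 (k / 240) (k % 240))) = true := by decide +kernel
theorem e8Cneg_56_43000 : allRange 43000 43020 ((fun k => commNegCheck Cfsg.Lie.chevE8 (k / 240) (k % 240))) = true := by decide +kernel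
theorem e8Cneg_56_43020 : allRange 43020 43040 ((fun k => commNegCheck Cfsg.Lie.chevE8 (k / 240) (k % 240))) = true := by decide +kernel
theorem e8Cneg_56_43040 : allRange 43040 43060 ((fun k => commNegCheck Cfsg.Lie.chevE8 (k / 240) (k % 240))) = true := by decide +kernel
theorem e8Cneg_56_43060 : allRange 43060 43080 ((fun k => commNegCheck Cfsg.Lie.chevE8 (k / 240) (k % 240))) = true := by decide +kernel
theorem e8Cneg_56_43080 : allRange 43080 43100 ((fun k => commNegCheck Cfsg.Lie.chevE8 (k / 240) (k % 240))) = true := by decide +kernel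
theorem e8Cneg_56_43100 : allRange 43100 43120 ((fun k => commNegCheck Cfsg.Lie.chevE8 (k / 240) (k % 240))) = true := by decide +kernel
theorem e8Cneg_56_43120 : allRange 43120 43140 ((fun k => commNegCheck Cfsg.Lie.chevE8 (k / 240) (k % 240))) = true := by decide +kernel
theorem e8Cneg_56_43140 : allRange 43140 43160 ((fun k => commNegCheck Cfsg.Lie.chevE8 (k / 240) (k % 240))) = true := by decide +kernel
theorem e8Cneg_56_43160 : allRange 43160 43180 ((fun k => commNegCheck Cfsg.Lie.chevE8 (k / 240) (k % 240))) = true := by decide +kernel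
theorem e8Cneg_56_43180 : allRange 43180 43200 ((fun k => commNegCheck Cfsg.Lie.chevE8 (k / 240) (k % 240))) = true := by decide +kernel
theorem e8Cneg_56_43200 : allRange 43200 43220 ((fun k => commNegCheck Cfsg.Lie.chevE8 (k / 240) (k % 240))) = true := by decide +kernel
theorem e8Cneg_56_43220 : allRange 43220 43240 ((fun k => commNegCheck Cfsg.Lie.chevE8 (k / 240) (k % 240))) = true := by decide +kernel
theorem e8Cneg_56_43240 : allRange 43240 43260 ((fun k => commNegCheck Cfsg.Lie.chevE8 (k / 240) (k % 240))) = true := by decide +kernel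
theorem e8Cneg_56_43260 : allRange 43260 43280 ((fun k => commNegCheck Cfsg.Lie.chevE8 (k / 240) (k % 240))) = true := by decide +kernel
theorem e8Cneg_56_43280 : allRange 43280 43300 ((fun k => commNegCheck Cfsg.Lie.chevE8 (k / 240) (k % 240))) = true := by decide +kernel
theorem e8Cneg_56_43300 : allRange 43300 43320 ((fun k => commNegCheck Cfsg.Lie.chevE8 (k / 240) (k % 240))) = true := by decide +kernel

/-- The commutator formula of type E8 for opposite roots (roots 42560 to 43319). -/
theorem e8Cneg_56 : ∀ r, 42560 ≤ r → r < 43320 → ((fun k => commNegCheck Cfsg.Lie.chevE8 (k / 240) (k % 240))) r = true := by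
  intro r h1 h2
  by_cases c0 : r < 42580
  · exact allRange_spec e8Cneg_56_42560 r (by omega) c0
  by_cases c1 : r < 42600
  · exact allRange_spec e8Cneg_56_42580 r (by omega) c1
  by_cases c2 : r < 42620
  · exact allRange_spec e8Cneg_56_42600 r (by omega) c2
  by_cases c3 : r < 42640
  · exact allRange_spec e8Cneg_56_42620 r (by omega) c3
  by_cases c4 : r < 42660
  · exact allRange_spec e8Cneg_56_42640 r (by omega) c4
  by_cases c5 : r < 42680
  · exact allRange_spec e8Cneg_56_42660 r (by omega) c5
  by_cases c6 : r < 42700
  · exact allRange_spec e8Cneg_56_42680 r (by omega) c6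
  by_cases c7 : r < 42720
  · exact allRange_spec e8Cneg_56_42700 r (by omega) c7
  by_cases c8 : r < 42740
  · exact allRange_spec e8Cneg_56_42720 r (by omega) c8
  by_cases c9 : r < 42760
  · exact allRange_spec e8Cneg_56_42740 r (by omega) c9
  by_cases c10 : r < 42780
  · exact allRange_spec e8Cneg_56_42760 r (by omega) c10
  by_cases c11 : r < 42800
  · exact allRange_spec e8Cneg_56_42780 r (by omega) c11
  by_cases c12 : r < 42820
  · exact allRange_spec e8Cneg_56_42800 r (by omega) c12
  by_cases c13 : r < 42840
  · exact allRange_spec e8Cneg_56_42820 r (by omega) c13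
  by_cases c14 : r < 42860
  · exact allRange_spec e8Cneg_56_42840 r (by omega) c14
  by_cases c15 : r < 42880
  · exact allRange_spec e8Cneg_56_42860 r (by omega) c15
  by_cases c16 : r < 42900
  · exact allRange_spec e8Cneg_56_42880 r (by omega) c16
  by_cases c17 : r < 42920
  · exact allRange_spec e8Cneg_56_42900 r (by omega) c17
  by_cases c18 : r < 42940
  · exact allRange_spec e8Cneg_56_42920 r (by omega) c18
  by_cases c19 : r < 42960
  · exact allRange_spec e8Cneg_56_42940 r (by omega) c19
  by_cases c20 : r < 42980
  · exact allRange_spec e8Cneg_56_42960 r (by omega) c20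
  by_cases c21 : r < 43000
  · exact allRange_spec e8Cneg_56_42980 r (by omega) c21
  by_cases c22 : r < 43020
  · exact allRange_spec e8Cneg_56_43000 r (by omega) c22
  by_cases c23 : r < 43040
  · exact allRange_spec e8Cneg_56_43020 r (by omega) c23
  by_cases c24 : r < 43060
  · exact allRange_spec e8Cneg_56_43040 r (by omega) c24
  by_cases c25 : r < 43080
  · exact allRange_spec e8Cneg_56_43060 r (by omega) c25
  by_cases c26 : r < 43100
  · exact allRange_spec e8Cneg_56_43080 r (by omega) c26
  by_cases c27 : r < 43120
  · exact allRange_spec e8Cneg_56_43100 r (by omega) c27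
  by_cases c28 : r < 43140
  · exact allRange_spec e8Cneg_56_43120 r (by omega) c28
  by_cases c29 : r < 43160
  · exact allRange_spec e8Cneg_56_43140 r (by omega) c29
  by_cases c30 : r < 43180
  · exact allRange_spec e8Cneg_56_43160 r (by omega) c30
  by_cases c31 : r < 43200
  · exact allRange_spec e8Cneg_56_43180 r (by omega) c31
  by_cases c32 : r < 43220
  · exact allRange_spec e8Cneg_56_43200 r (by omega) c32
  by_cases c33 : r < 43240
  · exact allRange_spec e8Cneg_56_43220 r (by omega) c33
  by_cases c34 : r < 43260
  · exact allRange_spec e8Cneg_56_43240 r (by omega) c34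
  by_cases c35 : r < 43280
  · exact allRange_spec e8Cneg_56_43260 r (by omega) c35
  by_cases c36 : r < 43300
  · exact allRange_spec e8Cneg_56_43280 r (by omega) c36
  exact allRange_spec e8Cneg_56_43300 r (by omega) h2

end Cfsg.Agent.Lib.Helper3.ChevM
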