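import Cfsg.Prelude.Def_ChevE8
import Cfsg.Agent.Lib.Helper3.StB5
set_option autoImplicit false
set_option maxRecDepth 1000000
set_option Elab.async false

namespace Cfsg.Agent.Lib.Helper3.ChevM
open Cfsg.Agent.Lib.Helper3.StB

theorem e8Cneg_57_43320 : allRange 43320 43340 ((fun k => commNegCheck Cfsg.Lie.chevE8 (k / 240) (k % 240))) = true := by decide +kernel
theorem e8Cneg_57_43340 : allRange 43340 43360 ((fun k => commNegCheck Cfsg.Lie.chevE8 (k / 240) (k % 240))) = true := by decide +kernel
theorem e8Cneg_57_43360 : allRange 43360 43380 ((fun k => commNegCheck Cfsg.Lie.chevE8 (k / 240) (k % 240))) = true := by decide +kernel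
theorem e8Cneg_57_43380 : allRange 43380 43400 ((fun k => commNegCheck Cfsg.Lie.chevE8 (k / 240) (k % 240))) = true := by decide +kernel
theorem e8Cneg_57_43400 : allRange 43400 43420 ((fun k => commNegCheck Cfsg.Lie.chevE8 (k / 240) (k % 240))) = true := by decide +kernel
theorem e8Cneg_57_43420 : allRange 43420 43440 ((fun k => commNegCheck Cfsg.Lie.chevE8 (k / 240) (k % 240))) = true := by decide +kernel
theorem e8Cneg_57_43440 : allRange 43440 43460 ((fun k => commNegCheck Cfsg.Lie.chevE8 (k / 240) (k % 240))) = true := by decide +kernel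
theorem e8Cneg_57_43460 : allRange 43460 43480 ((fun k => commNegCheck Cfsg.Lie.chevE8 (k / 240) (k % 240))) = true := by decide +kernel
theorem e8Cneg_57_43480 : allRange 43480 43500 ((fun k => commNegCheck Cfsg.Lie.chevE8 (k / 240) (k % 240))) = true := by decide +kernel
theorem e8Cneg_57_43500 : allRange 43500 43520 ((fun k => commNegCheck Cfsg.Lie.chevE8 (k / 240) (k % 240))) = true := by decide +kernel
theorem e8Cneg_57_43520 : allRange 43520 43540 ((fun k => commNegCheck Cfsg.Lie.chevE8 (k / 240) (k % 240))) = true := by decide +kernel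
theorem e8Cneg_57_43540 : allRange 43540 43560 ((fun k => commNegCheck Cfsg.Lie.chevE8 (k / 240) (k % 240))) = true := by decide +kernel
theorem e8Cneg_57_43560 : allRange 43560 43580 ((fun k => commNegCheck Cfsg.Lie.chevE8 (k / 240) (k % 240))) = true := by decide +kernel
theorem e8Cneg_57_43580 : allRange 43580 43600 ((fun k => commNegCheck Cfsg.Lie.chevE8 (k / 240) (k % 240))) = true := by decide +kernel
theorem e8Cneg_57_43600 : allRange 43600 43620 ((fun k => commNegCheck Cfsg.Lie.chevE8 (k / 240) (k % 240))) = true := by decide +kernel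
theorem e8Cneg_57_43620 : allRange 43620 43640 ((fun k => commNegCheck Cfsg.Lie.chevE8 (k / 240) (k % 240))) = true := by decide +kernel
theorem e8Cneg_57_43640 : allRange 43640 43660 ((fun k => commNegCheck Cfsg.Lie.chevE8 (k / 240) (k % 240))) = true := by decide +kernel
theorem e8Cneg_57_43660 : allRange 43660 43680 ((fun k => commNegCheck Cfsg.Lie.chevE8 (k / 240) (k % 240))) = true := by decide +kernel
theorem e8Cneg_57_43680 : allRange 43680 43700 ((fun k => commNegCheck Cfsg.Lie.chevE8 (k / 240) (k % 240))) = true := by decide +kernel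
theorem e8Cneg_57_43700 : allRange 43700 43720 ((fun k => commNegCheck Cfsg.Lie.chevE8 (k / 240) (k % 240))) = true := by decide +kernel
theorem e8Cneg_57_43720 : allRange 43720 43740 ((fun k => commNegCheck Cfsg.Lie.chevE8 (k / 240) (k % 240))) = true := by decide +kernel
theorem e8Cneg_57_43740 : allRange 43740 43760 ((fun k => commNegCheck Cfsg.Lie.chevE8 (k / 240) (k % 240))) = true := by decide +kernel
theorem e8Cneg_57_43760 : allRange 43760 43780 ((fun k => commNegCheck Cfsg.Lie.chevE8 (k / 240) (k % 240))) = true := by decide +kernel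
theorem e8Cneg_57_43780 : allRange 43780 43800 ((fun k => commNegCheck Cfsg.Lie.chevE8 (k / 240) (k % 240))) = true := by decide +kernel
theorem e8Cneg_57_43800 : allRange 43800 43820 ((fun k => commNegCheck Cfsg.Lie.chevE8 (k / 240) (k % 240))) = true := by decide +kernel
theorem e8Cneg_57_43820 : allRange 43820 43840 ((fun k => commNegCheck Cfsg.Lie.chevE8 (k / 240) (k % 240))) = true := by decide +kernel
theorem e8Cneg_57_43840 : allRange 43840 43860 ((fun k => commNegCheck Cfsg.Lie.chevE8 (k / 240) (k % 240))) = true := by decide +kernel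
theorem e8Cneg_57_43860 : allRange 43860 43880 ((fun k => commNegCheck Cfsg.Lie.chevE8 (k / 240) (k % 240))) = true := by decide +kernel
theorem e8Cneg_57_43880 : allRange 43880 43900 ((fun k => commNegCheck Cfsg.Lie.chevE8 (k / 240) (k % 240))) = true := by decide +kernel
theorem e8Cneg_57_43900 : allRange 43900 43920 ((fun k => commNegCheck Cfsg.Lie.chevE8 (k / 240) (k % 240))) = true := by decide +kernel
theorem e8Cneg_57_43920 : allRange 43920 43940 ((fun k => commNegCheck Cfsg.Lie.chevE8 (k / 240) (k % 240))) = true := by decide +kernel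
theorem e8Cneg_57_43940 : allRange 43940 43960 ((fun k => commNegCheck Cfsg.Lie.chevE8 (k / 240) (k % 240))) = true := by decide +kernel
theorem e8Cneg_57_43960 : allRange 43960 43980 ((fun k => commNegCheck Cfsg.Lie.chevE8 (k / 240) (k % 240))) = true := by decide +kernel
theorem e8Cneg_57_43980 : allRange 43980 44000 ((fun k => commNegCheck Cfsg.Lie.chevE8 (k / 240) (k % 240))) = true := by decide +kernel
theorem e8Cneg_57_44000 : allRange 44000 44020 ((fun k => commNegCheck Cfsg.Lie.chevE8 (k / 240) (k % 240))) = true := by decide +kernel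
theorem e8Cneg_57_44020 : allRange 44020 44040 ((fun k => commNegCheck Cfsg.Lie.chevE8 (k / 240) (k % 240))) = true := by decide +kernel
theorem e8Cneg_57_44040 : allRange 44040 44060 ((fun k => commNegCheck Cfsg.Lie.chevE8 (k / 240) (k % 240))) = true := by decide +kernel
theorem e8Cneg_57_44060 : allRange 44060 44080 ((fun k => commNegCheck Cfsg.Lie.chevE8 (k / 240) (k % 240))) = true := by decide +kernel

/-- The commutator formula of type E8 for opposite roots (roots 43320 to 44079). -/
theorem e8Cneg_57 : ∀ r, 43320 ≤ r → r < 44080 → ((fun k => commNegCheck Cfsg.Lie.chevE8 (k / 240) (k % 240))) r = true := by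
  intro r h1 h2
  by_cases c0 : r < 43340
  · exact allRange_spec e8Cneg_57_43320 r (by omega) c0
  by_cases c1 : r < 43360
  · exact allRange_spec e8Cneg_57_43340 r (by omega) c1
  by_cases c2 : r < 43380
  · exact allRange_spec e8Cneg_57_43360 r (by omega) c2
  by_cases c3 : r < 43400
  · exact allRange_spec e8Cneg_57_43380 r (by omega) c3
  by_cases c4 : r < 43420
  · exact allRange_spec e8Cneg_57_43400 r (by omega) c4
  by_cases c5 : r < 43440
  · exact allRange_spec e8Cneg_57_43420 r (by omega) c5
  by_cases c6 : r < 43460
  · exact allRange_spec e8Cneg_57_43440 r (by omega) c6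
  by_cases c7 : r < 43480
  · exact allRange_spec e8Cneg_57_43460 r (by omega) c7
  by_cases c8 : r < 43500
  · exact allRange_spec e8Cneg_57_43480 r (by omega) c8
  by_cases c9 : r < 43520
  · exact allRange_spec e8Cneg_57_43500 r (by omega) c9
  by_cases c10 : r < 43540
  · exact allRange_spec e8Cneg_57_43520 r (by omega) c10
  by_cases c11 : r < 43560
  · exact allRange_spec e8Cneg_57_43540 r (by omega) c11
  by_cases c12 : r < 43580
  · exact allRange_spec e8Cneg_57_43560 r (by omega) c12
  by_cases c13 : r < 43600
  · exact allRange_spec e8Cneg_57_43580 r (by omega) c13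
  by_cases c14 : r < 43620
  · exact allRange_spec e8Cneg_57_43600 r (by omega) c14
  by_cases c15 : r < 43640
  · exact allRange_spec e8Cneg_57_43620 r (by omega) c15
  by_cases c16 : r < 43660
  · exact allRange_spec e8Cneg_57_43640 r (by omega) c16
  by_cases c17 : r < 43680
  · exact allRange_spec e8Cneg_57_43660 r (by omega) c17
  by_cases c18 : r < 43700
  · exact allRange_spec e8Cneg_57_43680 r (by omega) c18
  by_cases c19 : r < 43720
  · exact allRange_spec e8Cneg_57_43700 r (by omega) c19
  by_cases c20 : r < 43740
  · exact allRange_spec e8Cneg_57_43720 r (by omega) c20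
  by_cases c21 : r < 43760
  · exact allRange_spec e8Cneg_57_43740 r (by omega) c21
  by_cases c22 : r < 43780
  · exact allRange_spec e8Cneg_57_43760 r (by omega) c22
  by_cases c23 : r < 43800
  · exact allRange_spec e8Cneg_57_43780 r (by omega) c23
  by_cases c24 : r < 43820
  · exact allRange_spec e8Cneg_57_43800 r (by omega) c24
  by_cases c25 : r < 43840
  · exact allRange_spec e8Cneg_57_43820 r (by omega) c25
  by_cases c26 : r < 43860
  · exact allRange_spec e8Cneg_57_43840 r (by omega) c26
  by_cases c27 : r < 43880
  · exact allRange_spec e8Cneg_57_43860 r (by omega) c27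
  by_cases c28 : r < 43900
  · exact allRange_spec e8Cneg_57_43880 r (by omega) c28
  by_cases c29 : r < 43920
  · exact allRange_spec e8Cneg_57_43900 r (by omega) c29
  by_cases c30 : r < 43940
  · exact allRange_spec e8Cneg_57_43920 r (by omega) c30
  by_cases c31 : r < 43960
  · exact allRange_spec e8Cneg_57_43940 r (by omega) c31
  by_cases c32 : r < 43980
  · exact allRange_spec e8Cneg_57_43960 r (by omega) c32
  by_cases c33 : r < 44000
  · exact allRange_spec e8Cneg_57_43980 r (by omega) c33
  by_cases c34 : r < 44020
  · exact allRange_spec e8Cneg_57_44000 r (by omega) c34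
  by_cases c35 : r < 44040
  · exact allRange_spec e8Cneg_57_44020 r (by omega) c35
  by_cases c36 : r < 44060
  · exact allRange_spec e8Cneg_57_44040 r (by omega) c36
  exact allRange_spec e8Cneg_57_44060 r (by omega) h2

end Cfsg.Agent.Lib.Helper3.ChevM
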