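import Cfsg.Prelude.Def_ChevE8
import Cfsg.Agent.Lib.Helper3.StB5
set_option autoImplicit false
set_option maxRecDepth 1000000
set_option Elab.async false

namespace Cfsg.Agent.Lib.Helper3.ChevM
open Cfsg.Agent.Lib.Helper3.StB

theorem e8Cneg_58_44080 : allRange 44080 44100 ((fun k => commNegCheck Cfsg.Lie.chevE8 (k / 240) (k % 240))) = true := by decide +kernel
theorem e8Cneg_58_44100 : allRange 44100 44120 ((fun k => commNegCheck Cfsg.Lie.chevE8 (k / 240) (k % 240))) = true := by decide +kernel
theorem e8Cneg_58_44120 : allRange 44120 44140 ((fun k => commNegCheck Cfsg.Lie.chevE8 (k / 240) (k % 240))) = true := by decide +kernel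
theorem e8Cneg_58_44140 : allRange 44140 44160 ((fun k => commNegCheck Cfsg.Lie.chevE8 (k / 240) (k % 240))) = true := by decide +kernel
theorem e8Cneg_58_44160 : allRange 44160 44180 ((fun k => commNegCheck Cfsg.Lie.chevE8 (k / 240) (k % 240))) = true := by decide +kernel
theorem e8Cneg_58_44180 : allRange 44180 44200 ((fun k => commNegCheck Cfsg.Lie.chevE8 (k / 240) (k % 240))) = true := by decide +kernel
theorem e8Cneg_58_44200 : allRange 44200 44220 ((fun k => commNegCheck Cfsg.Lie.chevE8 (k / 240) (k % 240))) = true := by decide +kernel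
theorem e8Cneg_58_44220 : allRange 44220 44240 ((fun k => commNegCheck Cfsg.Lie.chevE8 (k / 240) (k % 240))) = true := by decide +kernel
theorem e8Cneg_58_44240 : allRange 44240 44260 ((fun k => commNegCheck Cfsg.Lie.chevE8 (k / 240) (k % 240))) = true := by decide +kernel
theorem e8Cneg_58_44260 : allRange 44260 44280 ((fun k => commNegCheck Cfsg.Lie.chevE8 (k / 240) (k % 240))) = true := by decide +kernel
theorem e8Cneg_58_44280 : allRange 44280 44300 ((fun k => commNegCheck Cfsg.Lie.chevE8 (k / 240) (k % 240))) = true := by decide +kernel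
theorem e8Cneg_58_44300 : allRange 44300 44320 ((fun k => commNegCheck Cfsg.Lie.chevE8 (k / 240) (k % 240))) = true := by decide +kernel
theorem e8Cneg_58_44320 : allRange 44320 44340 ((fun k => commNegCheck Cfsg.Lie.chevE8 (k / 240) (k % 240))) = true := by decide +kernel
theorem e8Cneg_58_44340 : allRange 44340 44360 ((fun k => commNegCheck Cfsg.Lie.chevE8 (k / 240) (k % 240))) = true := by decide +kernel
theorem e8Cneg_58_44360 : allRange 44360 44380 ((fun k => commNegCheck Cfsg.Lie.chevE8 (k / 240) (k % 240))) = true := by decide +kernel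
theorem e8Cneg_58_44380 : allRange 44380 44400 ((fun k => commNegCheck Cfsg.Lie.chevE8 (k / 240) (k % 240))) = true := by decide +kernel
theorem e8Cneg_58_44400 : allRange 44400 44420 ((fun k => commNegCheck Cfsg.Lie.chevE8 (k / 240) (k % 240))) = true := by decide +kernel
theorem e8Cneg_58_44420 : allRange 44420 44440 ((fun k => commNegCheck Cfsg.Lie.chevE8 (k / 240) (k % 240))) = true := by decide +kernel
theorem e8Cneg_58_44440 : allRange 44440 44460 ((fun k => commNegCheck Cfsg.Lie.chevE8 (k / 240) (k % 240))) = true := by decide +kernel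
theorem e8Cneg_58_44460 : allRange 44460 44480 ((fun k => commNegCheck Cfsg.Lie.chevE8 (k / 240) (k % 240))) = true := by decide +kernel
theorem e8Cneg_58_44480 : allRange 44480 44500 ((fun k => commNegCheck Cfsg.Lie.chevE8 (k / 240) (k % 240))) = true := by decide +kernel
theorem e8Cneg_58_44500 : allRange 44500 44520 ((fun k => commNegCheck Cfsg.Lie.chevE8 (k / 240) (k % 240))) = true := by decide +kernel
theorem e8Cneg_58_44520 : allRange 44520 44540 ((fun k => commNegCheck Cfsg.Lie.chevE8 (k / 240) (k % 240))) = true := by decide +kernel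
theorem e8Cneg_58_44540 : allRange 44540 44560 ((fun k => commNegCheck Cfsg.Lie.chevE8 (k / 240) (k % 240))) = true := by decide +kernel
theorem e8Cneg_58_44560 : allRange 44560 44580 ((fun k => commNegCheck Cfsg.Lie.chevE8 (k / 240) (k % 240))) = true := by decide +kernel
theorem e8Cneg_58_44580 : allRange 44580 44600 ((fun k => commNegCheck Cfsg.Lie.chevE8 (k / 240) (k % 240))) = true := by decide +kernel
theorem e8Cneg_58_44600 : allRange 44600 44620 ((fun k => commNegCheck Cfsg.Lie.chevE8 (k / 240) (k % 240))) = true := by decide +kernel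
theorem e8Cneg_58_44620 : allRange 44620 44640 ((fun k => commNegCheck Cfsg.Lie.chevE8 (k / 240) (k % 240))) = true := by decide +kernel
theorem e8Cneg_58_44640 : allRange 44640 44660 ((fun k => commNegCheck Cfsg.Lie.chevE8 (k / 240) (k % 240))) = true := by decide +kernel
theorem e8Cneg_58_44660 : allRange 44660 44680 ((fun k => commNegCheck Cfsg.Lie.chevE8 (k / 240) (k % 240))) = true := by decide +kernel
theorem e8Cneg_58_44680 : allRange 44680 44700 ((fun k => commNegCheck Cfsg.Lie.chevE8 (k / 240) (k % 240))) = true := by decide +kernel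
theorem e8Cneg_58_44700 : allRange 44700 44720 ((fun k => commNegCheck Cfsg.Lie.chevE8 (k / 240) (k % 240))) = true := by decide +kernel
theorem e8Cneg_58_44720 : allRange 44720 44740 ((fun k => commNegCheck Cfsg.Lie.chevE8 (k / 240) (k % 240))) = true := by decide +kernel
theorem e8Cneg_58_44740 : allRange 44740 44760 ((fun k => commNegCheck Cfsg.Lie.chevE8 (k / 240) (k % 240))) = true := by decide +kernel
theorem e8Cneg_58_44760 : allRange 44760 44780 ((fun k => commNegCheck Cfsg.Lie.chevE8 (k / 240) (k % 240))) = true := by decide +kernel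
theorem e8Cneg_58_44780 : allRange 44780 44800 ((fun k => commNegCheck Cfsg.Lie.chevE8 (k / 240) (k % 240))) = true := by decide +kernel
theorem e8Cneg_58_44800 : allRange 44800 44820 ((fun k => commNegCheck Cfsg.Lie.chevE8 (k / 240) (k % 240))) = true := by decide +kernel
theorem e8Cneg_58_44820 : allRange 44820 44840 ((fun k => commNegCheck Cfsg.Lie.chevE8 (k / 240) (k % 240))) = true := by decide +kernel

/-- The commutator formula of type E8 for opposite roots (roots 44080 to 44839). -/
theorem e8Cneg_58 : ∀ r, 44080 ≤ r → r < 44840 → ((fun k => commNegCheck Cfsg.Lie.chevE8 (k / 240) (k % 240))) r = true := by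
  intro r h1 h2
  by_cases c0 : r < 44100
  · exact allRange_spec e8Cneg_58_44080 r (by omega) c0
  by_cases c1 : r < 44120
  · exact allRange_spec e8Cneg_58_44100 r (by omega) c1
  by_cases c2 : r < 44140
  · exact allRange_spec e8Cneg_58_44120 r (by omega) c2
  by_cases c3 : r < 44160
  · exact allRange_spec e8Cneg_58_44140 r (by omega) c3
  by_cases c4 : r < 44180
  · exact allRange_spec e8Cneg_58_44160 r (by omega) c4
  by_cases c5 : r < 44200
  · exact allRange_spec e8Cneg_58_44180 r (by omega) c5
  by_cases c6 : r < 44220
  · exact allRange_spec e8Cneg_58_44200 r (by omega) c6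
  by_cases c7 : r < 44240
  · exact allRange_spec e8Cneg_58_44220 r (by omega) c7
  by_cases c8 : r < 44260
  · exact allRange_spec e8Cneg_58_44240 r (by omega) c8
  by_cases c9 : r < 44280
  · exact allRange_spec e8Cneg_58_44260 r (by omega) c9
  by_cases c10 : r < 44300
  · exact allRange_spec e8Cneg_58_44280 r (by omega) c10
  by_cases c11 : r < 44320
  · exact allRange_spec e8Cneg_58_44300 r (by omega) c11
  by_cases c12 : r < 44340
  · exact allRange_spec e8Cneg_58_44320 r (by omega) c12
  by_cases c13 : r < 44360
  · exact allRange_spec e8Cneg_58_44340 r (by omega) c13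
  by_cases c14 : r < 44380
  · exact allRange_spec e8Cneg_58_44360 r (by omega) c14
  by_cases c15 : r < 44400
  · exact allRange_spec e8Cneg_58_44380 r (by omega) c15
  by_cases c16 : r < 44420
  · exact allRange_spec e8Cneg_58_44400 r (by omega) c16
  by_cases c17 : r < 44440
  · exact allRange_spec e8Cneg_58_44420 r (by omega) c17
  by_cases c18 : r < 44460
  · exact allRange_spec e8Cneg_58_44440 r (by omega) c18
  by_cases c19 : r < 44480
  · exact allRange_spec e8Cneg_58_44460 r (by omega) c19
  by_cases c20 : r < 44500
  · exact allRange_spec e8Cneg_58_44480 r (by omega) c20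
  by_cases c21 : r < 44520
  · exact allRange_spec e8Cneg_58_44500 r (by omega) c21
  by_cases c22 : r < 44540
  · exact allRange_spec e8Cneg_58_44520 r (by omega) c22
  by_cases c23 : r < 44560
  · exact allRange_spec e8Cneg_58_44540 r (by omega) c23
  by_cases c24 : r < 44580
  · exact allRange_spec e8Cneg_58_44560 r (by omega) c24
  by_cases c25 : r < 44600
  · exact allRange_spec e8Cneg_58_44580 r (by omega) c25
  by_cases c26 : r < 44620
  · exact allRange_spec e8Cneg_58_44600 r (by omega) c26
  by_cases c27 : r < 44640
  · exact allRange_spec e8Cneg_58_44620 r (by omega) c27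
  by_cases c28 : r < 44660
  · exact allRange_spec e8Cneg_58_44640 r (by omega) c28
  by_cases c29 : r < 44680
  · exact allRange_spec e8Cneg_58_44660 r (by omega) c29
  by_cases c30 : r < 44700
  · exact allRange_spec e8Cneg_58_44680 r (by omega) c30
  by_cases c31 : r < 44720
  · exact allRange_spec e8Cneg_58_44700 r (by omega) c31
  by_cases c32 : r < 44740
  · exact allRange_spec e8Cneg_58_44720 r (by omega) c32
  by_cases c33 : r < 44760
  · exact allRange_spec e8Cneg_58_44740 r (by omega) c33
  by_cases c34 : r < 44780
  · exact allRange_spec e8Cneg_58_44760 r (by omega) c34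
  by_cases c35 : r < 44800
  · exact allRange_spec e8Cneg_58_44780 r (by omega) c35
  by_cases c36 : r < 44820
  · exact allRange_spec e8Cneg_58_44800 r (by omega) c36
  exact allRange_spec e8Cneg_58_44820 r (by omega) h2

end Cfsg.Agent.Lib.Helper3.ChevM
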