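import Cfsg.Prelude.Def_ChevE8
import Cfsg.Agent.Lib.Helper3.StB5
set_option autoImplicit false
set_option maxRecDepth 1000000
set_option Elab.async false

namespace Cfsg.Agent.Lib.Helper3.ChevM
open Cfsg.Agent.Lib.Helper3.StB

theorem e8Cneg_59_44840 : allRange 44840 44860 ((fun k => commNegCheck Cfsg.Lie.chevE8 (k / 240) (k % 240))) = true := by decide +kernel
theorem e8Cneg_59_44860 : allRange 44860 44880 ((fun k => commNegCheck Cfsg.Lie.chevE8 (k / 240) (k % 240))) = true := by decide +kernel
theorem e8Cneg_59_44880 : allRange 44880 44900 ((fun k => commNegCheck Cfsg.Lie.chevE8 (k / 240) (k % 240))) = true := by decide +kernel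
theorem e8Cneg_59_44900 : allRange 44900 44920 ((fun k => commNegCheck Cfsg.Lie.chevE8 (k / 240) (k % 240))) = true := by decide +kernel
theorem e8Cneg_59_44920 : allRange 44920 44940 ((fun k => commNegCheck Cfsg.Lie.chevE8 (k / 240) (k % 240))) = true := by decide +kernel
theorem e8Cneg_59_44940 : allRange 44940 44960 ((fun k => commNegCheck Cfsg.Lie.chevE8 (k / 240) (k % 240))) = true := by decide +kernel
theorem e8Cneg_59_44960 : allRange 44960 44980 ((fun k => commNegCheck Cfsg.Lie.chevE8 (k / 240) (k % 240))) = true := by decide +kernel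
theorem e8Cneg_59_44980 : allRange 44980 45000 ((fun k => commNegCheck Cfsg.Lie.chevE8 (k / 240) (k % 240))) = true := by decide +kernel
theorem e8Cneg_59_45000 : allRange 45000 45020 ((fun k => commNegCheck Cfsg.Lie.chevE8 (k / 240) (k % 240))) = true := by decide +kernel
theorem e8Cneg_59_45020 : allRange 45020 45040 ((fun k => commNegCheck Cfsg.Lie.chevE8 (k / 240) (k % 240))) = true := by decide +kernel
theorem e8Cneg_59_45040 : allRange 45040 45060 ((fun k => commNegCheck Cfsg.Lie.chevE8 (k / 240) (k % 240))) = true := by decide +kernel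
theorem e8Cneg_59_45060 : allRange 45060 45080 ((fun k => commNegCheck Cfsg.Lie.chevE8 (k / 240) (k % 240))) = true := by decide +kernel
theorem e8Cneg_59_45080 : allRange 45080 45100 ((fun k => commNegCheck Cfsg.Lie.chevE8 (k / 240) (k % 240))) = true := by decide +kernel
theorem e8Cneg_59_45100 : allRange 45100 45120 ((fun k => commNegCheck Cfsg.Lie.chevE8 (k / 240) (k % 240))) = true := by decide +kernel
theorem e8Cneg_59_45120 : allRange 45120 45140 ((fun k => commNegCheck Cfsg.Lie.chevE8 (k / 240) (k % 240))) = true := by decide +kernel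
theorem e8Cneg_59_45140 : allRange 45140 45160 ((fun k => commNegCheck Cfsg.Lie.chevE8 (k / 240) (k % 240))) = true := by decide +kernel
theorem e8Cneg_59_45160 : allRange 45160 45180 ((fun k => commNegCheck Cfsg.Lie.chevE8 (k / 240) (k % 240))) = true := by decide +kernel
theorem e8Cneg_59_45180 : allRange 45180 45200 ((fun k => commNegCheck Cfsg.Lie.chevE8 (k / 240) (k % 240))) = true := by decide +kernel
theorem e8Cneg_59_45200 : allRange 45200 45220 ((fun k => commNegCheck Cfsg.Lie.chevE8 (k / 240) (k % 240))) = true := by decide +kernel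
theorem e8Cneg_59_45220 : allRange 45220 45240 ((fun k => commNegCheck Cfsg.Lie.chevE8 (k / 240) (k % 240))) = true := by decide +kernel
theorem e8Cneg_59_45240 : allRange 45240 45260 ((fun k => commNegCheck Cfsg.Lie.chevE8 (k / 240) (k % 240))) = true := by decide +kernel
theorem e8Cneg_59_45260 : allRange 45260 45280 ((fun k => commNegCheck Cfsg.Lie.chevE8 (k / 240) (k % 240))) = true := by decide +kernel
theorem e8Cneg_59_45280 : allRange 45280 45300 ((fun k => commNegCheck Cfsg.Lie.chevE8 (k / 240) (k % 240))) = true := by decide +kernel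
theorem e8Cneg_59_45300 : allRange 45300 45320 ((fun k => commNegCheck Cfsg.Lie.chevE8 (k / 240) (k % 240))) = true := by decide +kernel
theorem e8Cneg_59_45320 : allRange 45320 45340 ((fun k => commNegCheck Cfsg.Lie.chevE8 (k / 240) (k % 240))) = true := by decide +kernel
theorem e8Cneg_59_45340 : allRange 45340 45360 ((fun k => commNegCheck Cfsg.Lie.chevE8 (k / 240) (k % 240))) = true := by decide +kernel
theorem e8Cneg_59_45360 : allRange 45360 45380 ((fun k => commNegCheck Cfsg.Lie.chevE8 (k / 240) (k % 240))) = true := by decide +kernel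
theorem e8Cneg_59_45380 : allRange 45380 45400 ((fun k => commNegCheck Cfsg.Lie.chevE8 (k / 240) (k % 240))) = true := by decide +kernel
theorem e8Cneg_59_45400 : allRange 45400 45420 ((fun k => commNegCheck Cfsg.Lie.chevE8 (k / 240) (k % 240))) = true := by decide +kernel
theorem e8Cneg_59_45420 : allRange 45420 45440 ((fun k => commNegCheck Cfsg.Lie.chevE8 (k / 240) (k % 240))) = true := by decide +kernel
theorem e8Cneg_59_45440 : allRange 45440 45460 ((fun k => commNegCheck Cfsg.Lie.chevE8 (k / 240) (k % 240))) = true := by decide +kernel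
theorem e8Cneg_59_45460 : allRange 45460 45480 ((fun k => commNegCheck Cfsg.Lie.chevE8 (k / 240) (k % 240))) = true := by decide +kernel
theorem e8Cneg_59_45480 : allRange 45480 45500 ((fun k => commNegCheck Cfsg.Lie.chevE8 (k / 240) (k % 240))) = true := by decide +kernel
theorem e8Cneg_59_45500 : allRange 45500 45520 ((fun k => commNegCheck Cfsg.Lie.chevE8 (k / 240) (k % 240))) = true := by decide +kernel
theorem e8Cneg_59_45520 : allRange 45520 45540 ((fun k => commNegCheck Cfsg.Lie.chevE8 (k / 240) (k % 240))) = true := by decide +kernel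
theorem e8Cneg_59_45540 : allRange 45540 45560 ((fun k => commNegCheck Cfsg.Lie.chevE8 (k / 240) (k % 240))) = true := by decide +kernel
theorem e8Cneg_59_45560 : allRange 45560 45580 ((fun k => commNegCheck Cfsg.Lie.chevE8 (k / 240) (k % 240))) = true := by decide +kernel
theorem e8Cneg_59_45580 : allRange 45580 45600 ((fun k => commNegCheck Cfsg.Lie.chevE8 (k / 240) (k % 240))) = true := by decide +kernel

/-- The commutator formula of type E8 for opposite roots (roots 44840 to 45599). -/
theorem e8Cneg_59 : ∀ r, 44840 ≤ r → r < 45600 → ((fun k => commNegCheck Cfsg.Lie.chevE8 (k / 240) (k % 240))) r = true := by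
  intro r h1 h2
  by_cases c0 : r < 44860
  · exact allRange_spec e8Cneg_59_44840 r (by omega) c0
  by_cases c1 : r < 44880
  · exact allRange_spec e8Cneg_59_44860 r (by omega) c1
  by_cases c2 : r < 44900
  · exact allRange_spec e8Cneg_59_44880 r (by omega) c2
  by_cases c3 : r < 44920
  · exact allRange_spec e8Cneg_59_44900 r (by omega) c3
  by_cases c4 : r < 44940
  · exact allRange_spec e8Cneg_59_44920 r (by omega) c4
  by_cases c5 : r < 44960
  · exact allRange_spec e8Cneg_59_44940 r (by omega) c5
  by_cases c6 : r < 44980
  · exact allRange_spec e8Cneg_59_44960 r (by omega) c6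
  by_cases c7 : r < 45000
  · exact allRange_spec e8Cneg_59_44980 r (by omega) c7
  by_cases c8 : r < 45020
  · exact allRange_spec e8Cneg_59_45000 r (by omega) c8
  by_cases c9 : r < 45040
  · exact allRange_spec e8Cneg_59_45020 r (by omega) c9
  by_cases c10 : r < 45060
  · exact allRange_spec e8Cneg_59_45040 r (by omega) c10
  by_cases c11 : r < 45080
  · exact allRange_spec e8Cneg_59_45060 r (by omega) c11
  by_cases c12 : r < 45100
  · exact allRange_spec e8Cneg_59_45080 r (by omega) c12
  by_cases c13 : r < 45120
  · exact allRange_spec e8Cneg_59_45100 r (by omega) c13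
  by_cases c14 : r < 45140
  · exact allRange_spec e8Cneg_59_45120 r (by omega) c14
  by_cases c15 : r < 45160
  · exact allRange_spec e8Cneg_59_45140 r (by omega) c15
  by_cases c16 : r < 45180
  · exact allRange_spec e8Cneg_59_45160 r (by omega) c16
  by_cases c17 : r < 45200
  · exact allRange_spec e8Cneg_59_45180 r (by omega) c17
  by_cases c18 : r < 45220
  · exact allRange_spec e8Cneg_59_45200 r (by omega) c18
  by_cases c19 : r < 45240
  · exact allRange_spec e8Cneg_59_45220 r (by omega) c19
  by_cases c20 : r < 45260
  · exact allRange_spec e8Cneg_59_45240 r (by omega) c20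
  by_cases c21 : r < 45280
  · exact allRange_spec e8Cneg_59_45260 r (by omega) c21
  by_cases c22 : r < 45300
  · exact allRange_spec e8Cneg_59_45280 r (by omega) c22
  by_cases c23 : r < 45320
  · exact allRange_spec e8Cneg_59_45300 r (by omega) c23
  by_cases c24 : r < 45340
  · exact allRange_spec e8Cneg_59_45320 r (by omega) c24
  by_cases c25 : r < 45360
  · exact allRange_spec e8Cneg_59_45340 r (by omega) c25
  by_cases c26 : r < 45380
  · exact allRange_spec e8Cneg_59_45360 r (by omega) c26
  by_cases c27 : r < 45400
  · exact allRange_spec e8Cneg_59_45380 r (by omega) c27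
  by_cases c28 : r < 45420
  · exact allRange_spec e8Cneg_59_45400 r (by omega) c28
  by_cases c29 : r < 45440
  · exact allRange_spec e8Cneg_59_45420 r (by omega) c29
  by_cases c30 : r < 45460
  · exact allRange_spec e8Cneg_59_45440 r (by omega) c30
  by_cases c31 : r < 45480
  · exact allRange_spec e8Cneg_59_45460 r (by omega) c31
  by_cases c32 : r < 45500
  · exact allRange_spec e8Cneg_59_45480 r (by omega) c32
  by_cases c33 : r < 45520
  · exact allRange_spec e8Cneg_59_45500 r (by omega) c33
  by_cases c34 : r < 45540
  · exact allRange_spec e8Cneg_59_45520 r (by omega) c34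
  by_cases c35 : r < 45560
  · exact allRange_spec e8Cneg_59_45540 r (by omega) c35
  by_cases c36 : r < 45580
  · exact allRange_spec e8Cneg_59_45560 r (by omega) c36
  exact allRange_spec e8Cneg_59_45580 r (by omega) h2

end Cfsg.Agent.Lib.Helper3.ChevM
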