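import Cfsg.Prelude.Def_ChevE8
import Cfsg.Agent.Lib.Helper3.StB5
set_option autoImplicit false
set_option maxRecDepth 1000000
set_option Elab.async false

namespace Cfsg.Agent.Lib.Helper3.ChevM
open Cfsg.Agent.Lib.Helper3.StB

theorem e8Cneg_60_45600 : allRange 45600 45620 ((fun k => commNegCheck Cfsg.Lie.chevE8 (k / 240) (k % 240))) = true := by decide +kernel
theorem e8Cneg_60_45620 : allRange 45620 45640 ((fun k => commNegCheck Cfsg.Lie.chevE8 (k / 240) (k % 240))) = true := by decide +kernel
theorem e8Cneg_60_45640 : allRange 45640 45660 ((fun k => commNegCheck Cfsg.Lie.chevE8 (k / 240) (k % 240))) = true := by decide +kernel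
theorem e8Cneg_60_45660 : allRange 45660 45680 ((fun k => commNegCheck Cfsg.Lie.chevE8 (k / 240) (k % 240))) = true := by decide +kernel
theorem e8Cneg_60_45680 : allRange 45680 45700 ((fun k => commNegCheck Cfsg.Lie.chevE8 (k / 240) (k % 240))) = true := by decide +kernel
theorem e8Cneg_60_45700 : allRange 45700 45720 ((fun k => commNegCheck Cfsg.Lie.chevE8 (k / 240) (k % 240))) = true := by decide +kernel
theorem e8Cneg_60_45720 : allRange 45720 45740 ((fun k => commNegCheck Cfsg.Lie.chevE8 (k / 240) (k % 240))) = true := by decide +kernel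
theorem e8Cneg_60_45740 : allRange 45740 45760 ((fun k => commNegCheck Cfsg.Lie.chevE8 (k / 240) (k % 240))) = true := by decide +kernel
theorem e8Cneg_60_45760 : allRange 45760 45780 ((fun k => commNegCheck Cfsg.Lie.chevE8 (k / 240) (k % 240))) = true := by decide +kernel
theorem e8Cneg_60_45780 : allRange 45780 45800 ((fun k => commNegCheck Cfsg.Lie.chevE8 (k / 240) (k % 240))) = true := by decide +kernel
theorem e8Cneg_60_45800 : allRange 45800 45820 ((fun k => commNegCheck Cfsg.Lie.chevE8 (k / 240) (k % 240))) = true := by decide +kernel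
theorem e8Cneg_60_45820 : allRange 45820 45840 ((fun k => commNegCheck Cfsg.Lie.chevE8 (k / 240) (k % 240))) = true := by decide +kernel
theorem e8Cneg_60_45840 : allRange 45840 45860 ((fun k => commNegCheck Cfsg.Lie.chevE8 (k / 240) (k % 240))) = true := by decide +kernel
theorem e8Cneg_60_45860 : allRange 45860 45880 ((fun k => commNegCheck Cfsg.Lie.chevE8 (k / 240) (k % 240))) = true := by decide +kernel
theorem e8Cneg_60_45880 : allRange 45880 45900 ((fun k => commNegCheck Cfsg.Lie.chevE8 (k / 240) (k % 240))) = true := by decide +kernel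
theorem e8Cneg_60_45900 : allRange 45900 45920 ((fun k => commNegCheck Cfsg.Lie.chevE8 (k / 240) (k % 240))) = true := by decide +kernel
theorem e8Cneg_60_45920 : allRange 45920 45940 ((fun k => commNegCheck Cfsg.Lie.chevE8 (k / 240) (k % 240))) = true := by decide +kernel
theorem e8Cneg_60_45940 : allRange 45940 45960 ((fun k => commNegCheck Cfsg.Lie.chevE8 (k / 240) (k % 240))) = true := by decide +kernel
theorem e8Cneg_60_45960 : allRange 45960 45980 ((fun k => commNegCheck Cfsg.Lie.chevE8 (k / 240) (k % 240))) = true := by decide +kernel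
theorem e8Cneg_60_45980 : allRange 45980 46000 ((fun k => commNegCheck Cfsg.Lie.chevE8 (k / 240) (k % 240))) = true := by decide +kernel
theorem e8Cneg_60_46000 : allRange 46000 46020 ((fun k => commNegCheck Cfsg.Lie.chevE8 (k / 240) (k % 240))) = true := by decide +kernel
theorem e8Cneg_60_46020 : allRange 46020 46040 ((fun k => commNegCheck Cfsg.Lie.chevE8 (k / 240) (k % 240))) = true := by decide +kernel
theorem e8Cneg_60_46040 : allRange 46040 46060 ((fun k => commNegCheck Cfsg.Lie.chevE8 (k / 240) (k % 240))) = true := by decide +kernel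
theorem e8Cneg_60_46060 : allRange 46060 46080 ((fun k => commNegCheck Cfsg.Lie.chevE8 (k / 240) (k % 240))) = true := by decide +kernel
theorem e8Cneg_60_46080 : allRange 46080 46100 ((fun k => commNegCheck Cfsg.Lie.chevE8 (k / 240) (k % 240))) = true := by decide +kernel
theorem e8Cneg_60_46100 : allRange 46100 46120 ((fun k => commNegCheck Cfsg.Lie.chevE8 (k / 240) (k % 240))) = true := by decide +kernel
theorem e8Cneg_60_46120 : allRange 46120 46140 ((fun k => commNegCheck Cfsg.Lie.chevE8 (k / 240) (k % 240))) = true := by decide +kernel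
theorem e8Cneg_60_46140 : allRange 46140 46160 ((fun k => commNegCheck Cfsg.Lie.chevE8 (k / 240) (k % 240))) = true := by decide +kernel
theorem e8Cneg_60_46160 : allRange 46160 46180 ((fun k => commNegCheck Cfsg.Lie.chevE8 (k / 240) (k % 240))) = true := by decide +kernel
theorem e8Cneg_60_46180 : allRange 46180 46200 ((fun k => commNegCheck Cfsg.Lie.chevE8 (k / 240) (k % 240))) = true := by decide +kernel
theorem e8Cneg_60_46200 : allRange 46200 46220 ((fun k => commNegCheck Cfsg.Lie.chevE8 (k / 240) (k % 240))) = true := by decide +kernel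
theorem e8Cneg_60_46220 : allRange 46220 46240 ((fun k => commNegCheck Cfsg.Lie.chevE8 (k / 240) (k % 240))) = true := by decide +kernel
theorem e8Cneg_60_46240 : allRange 46240 46260 ((fun k => commNegCheck Cfsg.Lie.chevE8 (k / 240) (k % 240))) = true := by decide +kernel
theorem e8Cneg_60_46260 : allRange 46260 46280 ((fun k => commNegCheck Cfsg.Lie.chevE8 (k / 240) (k % 240))) = true := by decide +kernel
theorem e8Cneg_60_46280 : allRange 46280 46300 ((fun k => commNegCheck Cfsg.Lie.chevE8 (k / 240) (k % 240))) = true := by decide +kernel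
theorem e8Cneg_60_46300 : allRange 46300 46320 ((fun k => commNegCheck Cfsg.Lie.chevE8 (k / 240) (k % 240))) = true := by decide +kernel
theorem e8Cneg_60_46320 : allRange 46320 46340 ((fun k => commNegCheck Cfsg.Lie.chevE8 (k / 240) (k % 240))) = true := by decide +kernel
theorem e8Cneg_60_46340 : allRange 46340 46360 ((fun k => commNegCheck Cfsg.Lie.chevE8 (k / 240) (k % 240))) = true := by decide +kernel

/-- The commutator formula of type E8 for opposite roots (roots 45600 to 46359). -/
theorem e8Cneg_60 : ∀ r, 45600 ≤ r → r < 46360 → ((fun k => commNegCheck Cfsg.Lie.chevE8 (k / 240) (k % 240))) r = true := by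
  intro r h1 h2
  by_cases c0 : r < 45620
  · exact allRange_spec e8Cneg_60_45600 r (by omega) c0
  by_cases c1 : r < 45640
  · exact allRange_spec e8Cneg_60_45620 r (by omega) c1
  by_cases c2 : r < 45660
  · exact allRange_spec e8Cneg_60_45640 r (by omega) c2
  by_cases c3 : r < 45680
  · exact allRange_spec e8Cneg_60_45660 r (by omega) c3
  by_cases c4 : r < 45700
  · exact allRange_spec e8Cneg_60_45680 r (by omega) c4
  by_cases c5 : r < 45720
  · exact allRange_spec e8Cneg_60_45700 r (by omega) c5
  by_cases c6 : r < 45740
  · exact allRange_spec e8Cneg_60_45720 r (by omega) c6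
  by_cases c7 : r < 45760
  · exact allRange_spec e8Cneg_60_45740 r (by omega) c7
  by_cases c8 : r < 45780
  · exact allRange_spec e8Cneg_60_45760 r (by omega) c8
  by_cases c9 : r < 45800
  · exact allRange_spec e8Cneg_60_45780 r (by omega) c9
  by_cases c10 : r < 45820
  · exact allRange_spec e8Cneg_60_45800 r (by omega) c10
  by_cases c11 : r < 45840
  · exact allRange_spec e8Cneg_60_45820 r (by omega) c11
  by_cases c12 : r < 45860
  · exact allRange_spec e8Cneg_60_45840 r (by omega) c12
  by_cases c13 : r < 45880
  · exact allRange_spec e8Cneg_60_45860 r (by omega) c13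
  by_cases c14 : r < 45900
  · exact allRange_spec e8Cneg_60_45880 r (by omega) c14
  by_cases c15 : r < 45920
  · exact allRange_spec e8Cneg_60_45900 r (by omega) c15
  by_cases c16 : r < 45940
  · exact allRange_spec e8Cneg_60_45920 r (by omega) c16
  by_cases c17 : r < 45960
  · exact allRange_spec e8Cneg_60_45940 r (by omega) c17
  by_cases c18 : r < 45980
  · exact allRange_spec e8Cneg_60_45960 r (by omega) c18
  by_cases c19 : r < 46000
  · exact allRange_spec e8Cneg_60_45980 r (by omega) c19
  by_cases c20 : r < 46020
  · exact allRange_spec e8Cneg_60_46000 r (by omega) c20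
  by_cases c21 : r < 46040
  · exact allRange_spec e8Cneg_60_46020 r (by omega) c21
  by_cases c22 : r < 46060
  · exact allRange_spec e8Cneg_60_46040 r (by omega) c22
  by_cases c23 : r < 46080
  · exact allRange_spec e8Cneg_60_46060 r (by omega) c23
  by_cases c24 : r < 46100
  · exact allRange_spec e8Cneg_60_46080 r (by omega) c24
  by_cases c25 : r < 46120
  · exact allRange_spec e8Cneg_60_46100 r (by omega) c25
  by_cases c26 : r < 46140
  · exact allRange_spec e8Cneg_60_46120 r (by omega) c26
  by_cases c27 : r < 46160
  · exact allRange_spec e8Cneg_60_46140 r (by omega) c27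
  by_cases c28 : r < 46180
  · exact allRange_spec e8Cneg_60_46160 r (by omega) c28
  by_cases c29 : r < 46200
  · exact allRange_spec e8Cneg_60_46180 r (by omega) c29
  by_cases c30 : r < 46220
  · exact allRange_spec e8Cneg_60_46200 r (by omega) c30
  by_cases c31 : r < 46240
  · exact allRange_spec e8Cneg_60_46220 r (by omega) c31
  by_cases c32 : r < 46260
  · exact allRange_spec e8Cneg_60_46240 r (by omega) c32
  by_cases c33 : r < 46280
  · exact allRange_spec e8Cneg_60_46260 r (by omega) c33
  by_cases c34 : r < 46300
  · exact allRange_spec e8Cneg_60_46280 r (by omega) c34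
  by_cases c35 : r < 46320
  · exact allRange_spec e8Cneg_60_46300 r (by omega) c35
  by_cases c36 : r < 46340
  · exact allRange_spec e8Cneg_60_46320 r (by omega) c36
  exact allRange_spec e8Cneg_60_46340 r (by omega) h2

end Cfsg.Agent.Lib.Helper3.ChevM
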