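import Cfsg.Prelude.Def_ChevE8
import Cfsg.Agent.Lib.Helper3.StB5
set_option autoImplicit false
set_option maxRecDepth 1000000
set_option Elab.async false

namespace Cfsg.Agent.Lib.Helper3.ChevM
open Cfsg.Agent.Lib.Helper3.StB

theorem e8Cneg_61_46360 : allRange 46360 46380 ((fun k => commNegCheck Cfsg.Lie.chevE8 (k / 240) (k % 240))) = true := by decide +kernel
theorem e8Cneg_61_46380 : allRange 46380 46400 ((fun k => commNegCheck Cfsg.Lie.chevE8 (k / 240) (k % 240))) = true := by decide +kernel
theorem e8Cneg_61_46400 : allRange 46400 46420 ((fun k => commNegCheck Cfsg.Lie.chevE8 (k / 240) (k % 240))) = true := by decide +kernel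
theorem e8Cneg_61_46420 : allRange 46420 46440 ((fun k => commNegCheck Cfsg.Lie.chevE8 (k / 240) (k % 240))) = true := by decide +kernel
theorem e8Cneg_61_46440 : allRange 46440 46460 ((fun k => commNegCheck Cfsg.Lie.chevE8 (k / 240) (k % 240))) = true := by decide +kernel
theorem e8Cneg_61_46460 : allRange 46460 46480 ((fun k => commNegCheck Cfsg.Lie.chevE8 (k / 240) (k % 240))) = true := by decide +kernel
theorem e8Cneg_61_46480 : allRange 46480 46500 ((fun k => commNegCheck Cfsg.Lie.chevE8 (k / 240) (k % 240))) = true := by decide +kernel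
theorem e8Cneg_61_46500 : allRange 46500 46520 ((fun k => commNegCheck Cfsg.Lie.chevE8 (k / 240) (k % 240))) = true := by decide +kernel
theorem e8Cneg_61_46520 : allRange 46520 46540 ((fun k => commNegCheck Cfsg.Lie.chevE8 (k / 240) (k % 240))) = true := by decide +kernel
theorem e8Cneg_61_46540 : allRange 46540 46560 ((fun k => commNegCheck Cfsg.Lie.chevE8 (k / 240) (k % 240))) = true := by decide +kernel
theorem e8Cneg_61_46560 : allRange 46560 46580 ((fun k => commNegCheck Cfsg.Lie.chevE8 (k / 240) (k % 240))) = true := by decide +kernel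
theorem e8Cneg_61_46580 : allRange 46580 46600 ((fun k => commNegCheck Cfsg.Lie.chevE8 (k / 240) (k % 240))) = true := by decide +kernel
theorem e8Cneg_61_46600 : allRange 46600 46620 ((fun k => commNegCheck Cfsg.Lie.chevE8 (k / 240) (k % 240))) = true := by decide +kernel
theorem e8Cneg_61_46620 : allRange 46620 46640 ((fun k => commNegCheck Cfsg.Lie.chevE8 (k / 240) (k % 240))) = true := by decide +kernel
theorem e8Cneg_61_46640 : allRange 46640 46660 ((fun k => commNegCheck Cfsg.Lie.chevE8 (k / 240) (k % 240))) = true := by decide +kernel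
theorem e8Cneg_61_46660 : allRange 46660 46680 ((fun k => commNegCheck Cfsg.Lie.chevE8 (k / 240) (k % 240))) = true := by decide +kernel
theorem e8Cneg_61_46680 : allRange 46680 46700 ((fun k => commNegCheck Cfsg.Lie.chevE8 (k / 240) (k % 240))) = true := by decide +kernel
theorem e8Cneg_61_46700 : allRange 46700 46720 ((fun k => commNegCheck Cfsg.Lie.chevE8 (k / 240) (k % 240))) = true := by decide +kernel
theorem e8Cneg_61_46720 : allRange 46720 46740 ((fun k => commNegCheck Cfsg.Lie.chevE8 (k / 240) (k % 240))) = true := by decide +kernel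
theorem e8Cneg_61_46740 : allRange 46740 46760 ((fun k => commNegCheck Cfsg.Lie.chevE8 (k / 240) (k % 240))) = true := by decide +kernel
theorem e8Cneg_61_46760 : allRange 46760 46780 ((fun k => commNegCheck Cfsg.Lie.chevE8 (k / 240) (k % 240))) = true := by decide +kernel
theorem e8Cneg_61_46780 : allRange 46780 46800 ((fun k => commNegCheck Cfsg.Lie.chevE8 (k / 240) (k % 240))) = true := by decide +kernel
theorem e8Cneg_61_46800 : allRange 46800 46820 ((fun k => commNegCheck Cfsg.Lie.chevE8 (k / 240) (k % 240))) = true := by decide +kernel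
theorem e8Cneg_61_46820 : allRange 46820 46840 ((fun k => commNegCheck Cfsg.Lie.chevE8 (k / 240) (k % 240))) = true := by decide +kernel
theorem e8Cneg_61_46840 : allRange 46840 46860 ((fun k => commNegCheck Cfsg.Lie.chevE8 (k / 240) (k % 240))) = true := by decide +kernel
theorem e8Cneg_61_46860 : allRange 46860 46880 ((fun k => commNegCheck Cfsg.Lie.chevE8 (k / 240) (k % 240))) = true := by decide +kernel
theorem e8Cneg_61_46880 : allRange 46880 46900 ((fun k => commNegCheck Cfsg.Lie.chevE8 (k / 240) (k % 240))) = true := by decide +kernel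
theorem e8Cneg_61_46900 : allRange 46900 46920 ((fun k => commNegCheck Cfsg.Lie.chevE8 (k / 240) (k % 240))) = true := by decide +kernel
theorem e8Cneg_61_46920 : allRange 46920 46940 ((fun k => commNegCheck Cfsg.Lie.chevE8 (k / 240) (k % 240))) = true := by decide +kernel
theorem e8Cneg_61_46940 : allRange 46940 46960 ((fun k => commNegCheck Cfsg.Lie.chevE8 (k / 240) (k % 240))) = true := by decide +kernel
theorem e8Cneg_61_46960 : allRange 46960 46980 ((fun k => commNegCheck Cfsg.Lie.chevE8 (k / 240) (k % 240))) = true := by decide +kernel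
theorem e8Cneg_61_46980 : allRange 46980 47000 ((fun k => commNegCheck Cfsg.Lie.chevE8 (k / 240) (k % 240))) = true := by decide +kernel
theorem e8Cneg_61_47000 : allRange 47000 47020 ((fun k => commNegCheck Cfsg.Lie.chevE8 (k / 240) (k % 240))) = true := by decide +kernel
theorem e8Cneg_61_47020 : allRange 47020 47040 ((fun k => commNegCheck Cfsg.Lie.chevE8 (k / 240) (k % 240))) = true := by decide +kernel
theorem e8Cneg_61_47040 : allRange 47040 47060 ((fun k => commNegCheck Cfsg.Lie.chevE8 (k / 240) (k % 240))) = true := by decide +kernel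
theorem e8Cneg_61_47060 : allRange 47060 47080 ((fun k => commNegCheck Cfsg.Lie.chevE8 (k / 240) (k % 240))) = true := by decide +kernel
theorem e8Cneg_61_47080 : allRange 47080 47100 ((fun k => commNegCheck Cfsg.Lie.chevE8 (k / 240) (k % 240))) = true := by decide +kernel
theorem e8Cneg_61_47100 : allRange 47100 47120 ((fun k => commNegCheck Cfsg.Lie.chevE8 (k / 240) (k % 240))) = true := by decide +kernel

/-- The commutator formula of type E8 for opposite roots (roots 46360 to 47119). -/
theorem e8Cneg_61 : ∀ r, 46360 ≤ r → r < 47120 → ((fun k => commNegCheck Cfsg.Lie.chevE8 (k / 240) (k % 240))) r = true := by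
  intro r h1 h2
  by_cases c0 : r < 46380
  · exact allRange_spec e8Cneg_61_46360 r (by omega) c0
  by_cases c1 : r < 46400
  · exact allRange_spec e8Cneg_61_46380 r (by omega) c1
  by_cases c2 : r < 46420
  · exact allRange_spec e8Cneg_61_46400 r (by omega) c2
  by_cases c3 : r < 46440
  · exact allRange_spec e8Cneg_61_46420 r (by omega) c3
  by_cases c4 : r < 46460
  · exact allRange_spec e8Cneg_61_46440 r (by omega) c4
  by_cases c5 : r < 46480
  · exact allRange_spec e8Cneg_61_46460 r (by omega) c5
  by_cases c6 : r < 46500
  · exact allRange_spec e8Cneg_61_46480 r (by omega) c6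
  by_cases c7 : r < 46520
  · exact allRange_spec e8Cneg_61_46500 r (by omega) c7
  by_cases c8 : r < 46540
  · exact allRange_spec e8Cneg_61_46520 r (by omega) c8
  by_cases c9 : r < 46560
  · exact allRange_spec e8Cneg_61_46540 r (by omega) c9
  by_cases c10 : r < 46580
  · exact allRange_spec e8Cneg_61_46560 r (by omega) c10
  by_cases c11 : r < 46600
  · exact allRange_spec e8Cneg_61_46580 r (by omega) c11
  by_cases c12 : r < 46620
  · exact allRange_spec e8Cneg_61_46600 r (by omega) c12
  by_cases c13 : r < 46640
  · exact allRange_spec e8Cneg_61_46620 r (by omega) c13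
  by_cases c14 : r < 46660
  · exact allRange_spec e8Cneg_61_46640 r (by omega) c14
  by_cases c15 : r < 46680
  · exact allRange_spec e8Cneg_61_46660 r (by omega) c15
  by_cases c16 : r < 46700
  · exact allRange_spec e8Cneg_61_46680 r (by omega) c16
  by_cases c17 : r < 46720
  · exact allRange_spec e8Cneg_61_46700 r (by omega) c17
  by_cases c18 : r < 46740
  · exact allRange_spec e8Cneg_61_46720 r (by omega) c18
  by_cases c19 : r < 46760
  · exact allRange_spec e8Cneg_61_46740 r (by omega) c19
  by_cases c20 : r < 46780
  · exact allRange_spec e8Cneg_61_46760 r (by omega) c20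
  by_cases c21 : r < 46800
  · exact allRange_spec e8Cneg_61_46780 r (by omega) c21
  by_cases c22 : r < 46820
  · exact allRange_spec e8Cneg_61_46800 r (by omega) c22
  by_cases c23 : r < 46840
  · exact allRange_spec e8Cneg_61_46820 r (by omega) c23
  by_cases c24 : r < 46860
  · exact allRange_spec e8Cneg_61_46840 r (by omega) c24
  by_cases c25 : r < 46880
  · exact allRange_spec e8Cneg_61_46860 r (by omega) c25
  by_cases c26 : r < 46900
  · exact allRange_spec e8Cneg_61_46880 r (by omega) c26
  by_cases c27 : r < 46920
  · exact allRange_spec e8Cneg_61_46900 r (by omega) c27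
  by_cases c28 : r < 46940
  · exact allRange_spec e8Cneg_61_46920 r (by omega) c28
  by_cases c29 : r < 46960
  · exact allRange_spec e8Cneg_61_46940 r (by omega) c29
  by_cases c30 : r < 46980
  · exact allRange_spec e8Cneg_61_46960 r (by omega) c30
  by_cases c31 : r < 47000
  · exact allRange_spec e8Cneg_61_46980 r (by omega) c31
  by_cases c32 : r < 47020
  · exact allRange_spec e8Cneg_61_47000 r (by omega) c32
  by_cases c33 : r < 47040
  · exact allRange_spec e8Cneg_61_47020 r (by omega) c33
  by_cases c34 : r < 47060
  · exact allRange_spec e8Cneg_61_47040 r (by omega) c34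
  by_cases c35 : r < 47080
  · exact allRange_spec e8Cneg_61_47060 r (by omega) c35
  by_cases c36 : r < 47100
  · exact allRange_spec e8Cneg_61_47080 r (by omega) c36
  exact allRange_spec e8Cneg_61_47100 r (by omega) h2

end Cfsg.Agent.Lib.Helper3.ChevM
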