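import Cfsg.Prelude.Def_ChevE8
import Cfsg.Agent.Lib.Helper3.StB5
set_option autoImplicit false
set_option maxRecDepth 1000000
set_option Elab.async false

namespace Cfsg.Agent.Lib.Helper3.ChevM
open Cfsg.Agent.Lib.Helper3.StB

theorem e8Cneg_63_47880 : allRange 47880 47900 ((fun k => commNegCheck Cfsg.Lie.chevE8 (k / 240) (k % 240))) = true := by decide +kernel
theorem e8Cneg_63_47900 : allRange 47900 47920 ((fun k => commNegCheck Cfsg.Lie.chevE8 (k / 240) (k % 240))) = true := by decide +kernel
theorem e8Cneg_63_47920 : allRange 47920 47940 ((fun k => commNegCheck Cfsg.Lie.chevE8 (k / 240) (k % 240))) = true := by decide +kernel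
theorem e8Cneg_63_47940 : allRange 47940 47960 ((fun k => commNegCheck Cfsg.Lie.chevE8 (k / 240) (k % 240))) = true := by decide +kernel
theorem e8Cneg_63_47960 : allRange 47960 47980 ((fun k => commNegCheck Cfsg.Lie.chevE8 (k / 240) (k % 240))) = true := by decide +kernel
theorem e8Cneg_63_47980 : allRange 47980 48000 ((fun k => commNegCheck Cfsg.Lie.chevE8 (k / 240) (k % 240))) = true := by decide +kernel
theorem e8Cneg_63_48000 : allRange 48000 48020 ((fun k => commNegCheck Cfsg.Lie.chevE8 (k / 240) (k % 240))) = true := by decide +kernel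
theorem e8Cneg_63_48020 : allRange 48020 48040 ((fun k => commNegCheck Cfsg.Lie.chevE8 (k / 240) (k % 240))) = true := by decide +kernel
theorem e8Cneg_63_48040 : allRange 48040 48060 ((fun k => commNegCheck Cfsg.Lie.chevE8 (k / 240) (k % 240))) = true := by decide +kernel
theorem e8Cneg_63_48060 : allRange 48060 48080 ((fun k => commNegCheck Cfsg.Lie.chevE8 (k / 240) (k % 240))) = true := by decide +kernel
theorem e8Cneg_63_48080 : allRange 48080 48100 ((fun k => commNegCheck Cfsg.Lie.chevE8 (k / 240) (k % 240))) = true := by decide +kernel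
theorem e8Cneg_63_48100 : allRange 48100 48120 ((fun k => commNegCheck Cfsg.Lie.chevE8 (k / 240) (k % 240))) = true := by decide +kernel
theorem e8Cneg_63_48120 : allRange 48120 48140 ((fun k => commNegCheck Cfsg.Lie.chevE8 (k / 240) (k % 240))) = true := by decide +kernel
theorem e8Cneg_63_48140 : allRange 48140 48160 ((fun k => commNegCheck Cfsg.Lie.chevE8 (k / 240) (k % 240))) = true := by decide +kernel
theorem e8Cneg_63_48160 : allRange 48160 48180 ((fun k => commNegCheck Cfsg.Lie.chevE8 (k / 240) (k % 240))) = true := by decide +kernel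
theorem e8Cneg_63_48180 : allRange 48180 48200 ((fun k => commNegCheck Cfsg.Lie.chevE8 (k / 240) (k % 240))) = true := by decide +kernel
theorem e8Cneg_63_48200 : allRange 48200 48220 ((fun k => commNegCheck Cfsg.Lie.chevE8 (k / 240) (k % 240))) = true := by decide +kernel
theorem e8Cneg_63_48220 : allRange 48220 48240 ((fun k => commNegCheck Cfsg.Lie.chevE8 (k / 240) (k % 240))) = true := by decide +kernel
theorem e8Cneg_63_48240 : allRange 48240 48260 ((fun k => commNegCheck Cfsg.Lie.chevE8 (k / 240) (k % 240))) = true := by decide +kernel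
theorem e8Cneg_63_48260 : allRange 48260 48280 ((fun k => commNegCheck Cfsg.Lie.chevE8 (k / 240) (k % 240))) = true := by decide +kernel
theorem e8Cneg_63_48280 : allRange 48280 48300 ((fun k => commNegCheck Cfsg.Lie.chevE8 (k / 240) (k % 240))) = true := by decide +kernel
theorem e8Cneg_63_48300 : allRange 48300 48320 ((fun k => commNegCheck Cfsg.Lie.chevE8 (k / 240) (k % 240))) = true := by decide +kernel
theorem e8Cneg_63_48320 : allRange 48320 48340 ((fun k => commNegCheck Cfsg.Lie.chevE8 (k / 240) (k % 240))) = true := by decide +kernel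
theorem e8Cneg_63_48340 : allRange 48340 48360 ((fun k => commNegCheck Cfsg.Lie.chevE8 (k / 240) (k % 240))) = true := by decide +kernel
theorem e8Cneg_63_48360 : allRange 48360 48380 ((fun k => commNegCheck Cfsg.Lie.chevE8 (k / 240) (k % 240))) = true := by decide +kernel
theorem e8Cneg_63_48380 : allRange 48380 48400 ((fun k => commNegCheck Cfsg.Lie.chevE8 (k / 240) (k % 240))) = true := by decide +kernel
theorem e8Cneg_63_48400 : allRange 48400 48420 ((fun k => commNegCheck Cfsg.Lie.chevE8 (k / 240) (k % 240))) = true := by decide +kernel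
theorem e8Cneg_63_48420 : allRange 48420 48440 ((fun k => commNegCheck Cfsg.Lie.chevE8 (k / 240) (k % 240))) = true := by decide +kernel
theorem e8Cneg_63_48440 : allRange 48440 48460 ((fun k => commNegCheck Cfsg.Lie.chevE8 (k / 240) (k % 240))) = true := by decide +kernel
theorem e8Cneg_63_48460 : allRange 48460 48480 ((fun k => commNegCheck Cfsg.Lie.chevE8 (k / 240) (k % 240))) = true := by decide +kernel
theorem e8Cneg_63_48480 : allRange 48480 48500 ((fun k => commNegCheck Cfsg.Lie.chevE8 (k / 240) (k % 240))) = true := by decide +kernel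
theorem e8Cneg_63_48500 : allRange 48500 48520 ((fun k => commNegCheck Cfsg.Lie.chevE8 (k / 240) (k % 240))) = true := by decide +kernel
theorem e8Cneg_63_48520 : allRange 48520 48540 ((fun k => commNegCheck Cfsg.Lie.chevE8 (k / 240) (k % 240))) = true := by decide +kernel
theorem e8Cneg_63_48540 : allRange 48540 48560 ((fun k => commNegCheck Cfsg.Lie.chevE8 (k / 240) (k % 240))) = true := by decide +kernel
theorem e8Cneg_63_48560 : allRange 48560 48580 ((fun k => commNegCheck Cfsg.Lie.chevE8 (k / 240) (k % 240))) = true := by decide +kernel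
theorem e8Cneg_63_48580 : allRange 48580 48600 ((fun k => commNegCheck Cfsg.Lie.chevE8 (k / 240) (k % 240))) = true := by decide +kernel
theorem e8Cneg_63_48600 : allRange 48600 48620 ((fun k => commNegCheck Cfsg.Lie.chevE8 (k / 240) (k % 240))) = true := by decide +kernel
theorem e8Cneg_63_48620 : allRange 48620 48640 ((fun k => commNegCheck Cfsg.Lie.chevE8 (k / 240) (k % 240))) = true := by decide +kernel

/-- The commutator formula of type E8 for opposite roots (roots 47880 to 48639). -/
theorem e8Cneg_63 : ∀ r, 47880 ≤ r → r < 48640 → ((fun k => commNegCheck Cfsg.Lie.chevE8 (k / 240) (k % 240))) r = true := by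
  intro r h1 h2
  by_cases c0 : r < 47900
  · exact allRange_spec e8Cneg_63_47880 r (by omega) c0
  by_cases c1 : r < 47920
  · exact allRange_spec e8Cneg_63_47900 r (by omega) c1
  by_cases c2 : r < 47940
  · exact allRange_spec e8Cneg_63_47920 r (by omega) c2
  by_cases c3 : r < 47960
  · exact allRange_spec e8Cneg_63_47940 r (by omega) c3
  by_cases c4 : r < 47980
  · exact allRange_spec e8Cneg_63_47960 r (by omega) c4
  by_cases c5 : r < 48000
  · exact allRange_spec e8Cneg_63_47980 r (by omega) c5
  by_cases c6 : r < 48020
  · exact allRange_spec e8Cneg_63_48000 r (by omega) c6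
  by_cases c7 : r < 48040
  · exact allRange_spec e8Cneg_63_48020 r (by omega) c7
  by_cases c8 : r < 48060
  · exact allRange_spec e8Cneg_63_48040 r (by omega) c8
  by_cases c9 : r < 48080
  · exact allRange_spec e8Cneg_63_48060 r (by omega) c9
  by_cases c10 : r < 48100
  · exact allRange_spec e8Cneg_63_48080 r (by omega) c10
  by_cases c11 : r < 48120
  · exact allRange_spec e8Cneg_63_48100 r (by omega) c11
  by_cases c12 : r < 48140
  · exact allRange_spec e8Cneg_63_48120 r (by omega) c12
  by_cases c13 : r < 48160
  · exact allRange_spec e8Cneg_63_48140 r (by omega) c13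
  by_cases c14 : r < 48180
  · exact allRange_spec e8Cneg_63_48160 r (by omega) c14
  by_cases c15 : r < 48200
  · exact allRange_spec e8Cneg_63_48180 r (by omega) c15
  by_cases c16 : r < 48220
  · exact allRange_spec e8Cneg_63_48200 r (by omega) c16
  by_cases c17 : r < 48240
  · exact allRange_spec e8Cneg_63_48220 r (by omega) c17
  by_cases c18 : r < 48260
  · exact allRange_spec e8Cneg_63_48240 r (by omega) c18
  by_cases c19 : r < 48280
  · exact allRange_spec e8Cneg_63_48260 r (by omega) c19
  by_cases c20 : r < 48300
  · exact allRange_spec e8Cneg_63_48280 r (by omega) c20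
  by_cases c21 : r < 48320
  · exact allRange_spec e8Cneg_63_48300 r (by omega) c21
  by_cases c22 : r < 48340
  · exact allRange_spec e8Cneg_63_48320 r (by omega) c22
  by_cases c23 : r < 48360
  · exact allRange_spec e8Cneg_63_48340 r (by omega) c23
  by_cases c24 : r < 48380
  · exact allRange_spec e8Cneg_63_48360 r (by omega) c24
  by_cases c25 : r < 48400
  · exact allRange_spec e8Cneg_63_48380 r (by omega) c25
  by_cases c26 : r < 48420
  · exact allRange_spec e8Cneg_63_48400 r (by omega) c26
  by_cases c27 : r < 48440
  · exact allRange_spec e8Cneg_63_48420 r (by omega) c27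
  by_cases c28 : r < 48460
  · exact allRange_spec e8Cneg_63_48440 r (by omega) c28
  by_cases c29 : r < 48480
  · exact allRange_spec e8Cneg_63_48460 r (by omega) c29
  by_cases c30 : r < 48500
  · exact allRange_spec e8Cneg_63_48480 r (by omega) c30
  by_cases c31 : r < 48520
  · exact allRange_spec e8Cneg_63_48500 r (by omega) c31
  by_cases c32 : r < 48540
  · exact allRange_spec e8Cneg_63_48520 r (by omega) c32
  by_cases c33 : r < 48560
  · exact allRange_spec e8Cneg_63_48540 r (by omega) c33
  by_cases c34 : r < 48580
  · exact allRange_spec e8Cneg_63_48560 r (by omega) c34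
  by_cases c35 : r < 48600
  · exact allRange_spec e8Cneg_63_48580 r (by omega) c35
  by_cases c36 : r < 48620
  · exact allRange_spec e8Cneg_63_48600 r (by omega) c36
  exact allRange_spec e8Cneg_63_48620 r (by omega) h2

end Cfsg.Agent.Lib.Helper3.ChevM
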