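import Cfsg.Prelude.Def_ChevE8
import Cfsg.Agent.Lib.Helper3.StB5
set_option autoImplicit false
set_option maxRecDepth 1000000
set_option Elab.async false

namespace Cfsg.Agent.Lib.Helper3.ChevM
open Cfsg.Agent.Lib.Helper3.StB

theorem e8Cneg_64_48640 : allRange 48640 48660 ((fun k => commNegCheck Cfsg.Lie.chevE8 (k / 240) (k % 240))) = true := by decide +kernel
theorem e8Cneg_64_48660 : allRange 48660 48680 ((fun k => commNegCheck Cfsg.Lie.chevE8 (k / 240) (k % 240))) = true := by decide +kernel
theorem e8Cneg_64_48680 : allRange 48680 48700 ((fun k => commNegCheck Cfsg.Lie.chevE8 (k / 240) (k % 240))) = true := by decide +kernel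
theorem e8Cneg_64_48700 : allRange 48700 48720 ((fun k => commNegCheck Cfsg.Lie.chevE8 (k / 240) (k % 240))) = true := by decide +kernel
theorem e8Cneg_64_48720 : allRange 48720 48740 ((fun k => commNegCheck Cfsg.Lie.chevE8 (k / 240) (k % 240))) = true := by decide +kernel
theorem e8Cneg_64_48740 : allRange 48740 48760 ((fun k => commNegCheck Cfsg.Lie.chevE8 (k / 240) (k % 240))) = true := by decide +kernel
theorem e8Cneg_64_48760 : allRange 48760 48780 ((fun k => commNegCheck Cfsg.Lie.chevE8 (k / 240) (k % 240))) = true := by decide +kernel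
theorem e8Cneg_64_48780 : allRange 48780 48800 ((fun k => commNegCheck Cfsg.Lie.chevE8 (k / 240) (k % 240))) = true := by decide +kernel
theorem e8Cneg_64_48800 : allRange 48800 48820 ((fun k => commNegCheck Cfsg.Lie.chevE8 (k / 240) (k % 240))) = true := by decide +kernel
theorem e8Cneg_64_48820 : allRange 48820 48840 ((fun k => commNegCheck Cfsg.Lie.chevE8 (k / 240) (k % 240))) = true := by decide +kernel
theorem e8Cneg_64_48840 : allRange 48840 48860 ((fun k => commNegCheck Cfsg.Lie.chevE8 (k / 240) (k % 240))) = true := by decide +kernel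
theorem e8Cneg_64_48860 : allRange 48860 48880 ((fun k => commNegCheck Cfsg.Lie.chevE8 (k / 240) (k % 240))) = true := by decide +kernel
theorem e8Cneg_64_48880 : allRange 48880 48900 ((fun k => commNegCheck Cfsg.Lie.chevE8 (k / 240) (k % 240))) = true := by decide +kernel
theorem e8Cneg_64_48900 : allRange 48900 48920 ((fun k => commNegCheck Cfsg.Lie.chevE8 (k / 240) (k % 240))) = true := by decide +kernel
theorem e8Cneg_64_48920 : allRange 48920 48940 ((fun k => commNegCheck Cfsg.Lie.chevE8 (k / 240) (k % 240))) = true := by decide +kernel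
theorem e8Cneg_64_48940 : allRange 48940 48960 ((fun k => commNegCheck Cfsg.Lie.chevE8 (k / 240) (k % 240))) = true := by decide +kernel
theorem e8Cneg_64_48960 : allRange 48960 48980 ((fun k => commNegCheck Cfsg.Lie.chevE8 (k / 240) (k % 240))) = true := by decide +kernel
theorem e8Cneg_64_48980 : allRange 48980 49000 ((fun k => commNegCheck Cfsg.Lie.chevE8 (k / 240) (k % 240))) = true := by decide +kernel
theorem e8Cneg_64_49000 : allRange 49000 49020 ((fun k => commNegCheck Cfsg.Lie.chevE8 (k / 240) (k % 240))) = true := by decide +kernel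
theorem e8Cneg_64_49020 : allRange 49020 49040 ((fun k => commNegCheck Cfsg.Lie.chevE8 (k / 240) (k % 240))) = true := by decide +kernel
theorem e8Cneg_64_49040 : allRange 49040 49060 ((fun k => commNegCheck Cfsg.Lie.chevE8 (k / 240) (k % 240))) = true := by decide +kernel
theorem e8Cneg_64_49060 : allRange 49060 49080 ((fun k => commNegCheck Cfsg.Lie.chevE8 (k / 240) (k % 240))) = true := by decide +kernel
theorem e8Cneg_64_49080 : allRange 49080 49100 ((fun k => commNegCheck Cfsg.Lie.chevE8 (k / 240) (k % 240))) = true := by decide +kernel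
theorem e8Cneg_64_49100 : allRange 49100 49120 ((fun k => commNegCheck Cfsg.Lie.chevE8 (k / 240) (k % 240))) = true := by decide +kernel
theorem e8Cneg_64_49120 : allRange 49120 49140 ((fun k => commNegCheck Cfsg.Lie.chevE8 (k / 240) (k % 240))) = true := by decide +kernel
theorem e8Cneg_64_49140 : allRange 49140 49160 ((fun k => commNegCheck Cfsg.Lie.chevE8 (k / 240) (k % 240))) = true := by decide +kernel
theorem e8Cneg_64_49160 : allRange 49160 49180 ((fun k => commNegCheck Cfsg.Lie.chevE8 (k / 240) (k % 240))) = true := by decide +kernel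
theorem e8Cneg_64_49180 : allRange 49180 49200 ((fun k => commNegCheck Cfsg.Lie.chevE8 (k / 240) (k % 240))) = true := by decide +kernel
theorem e8Cneg_64_49200 : allRange 49200 49220 ((fun k => commNegCheck Cfsg.Lie.chevE8 (k / 240) (k % 240))) = true := by decide +kernel
theorem e8Cneg_64_49220 : allRange 49220 49240 ((fun k => commNegCheck Cfsg.Lie.chevE8 (k / 240) (k % 240))) = true := by decide +kernel
theorem e8Cneg_64_49240 : allRange 49240 49260 ((fun k => commNegCheck Cfsg.Lie.chevE8 (k / 240) (k % 240))) = true := by decide +kernel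
theorem e8Cneg_64_49260 : allRange 49260 49280 ((fun k => commNegCheck Cfsg.Lie.chevE8 (k / 240) (k % 240))) = true := by decide +kernel
theorem e8Cneg_64_49280 : allRange 49280 49300 ((fun k => commNegCheck Cfsg.Lie.chevE8 (k / 240) (k % 240))) = true := by decide +kernel
theorem e8Cneg_64_49300 : allRange 49300 49320 ((fun k => commNegCheck Cfsg.Lie.chevE8 (k / 240) (k % 240))) = true := by decide +kernel
theorem e8Cneg_64_49320 : allRange 49320 49340 ((fun k => commNegCheck Cfsg.Lie.chevE8 (k / 240) (k % 240))) = true := by decide +kernel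
theorem e8Cneg_64_49340 : allRange 49340 49360 ((fun k => commNegCheck Cfsg.Lie.chevE8 (k / 240) (k % 240))) = true := by decide +kernel
theorem e8Cneg_64_49360 : allRange 49360 49380 ((fun k => commNegCheck Cfsg.Lie.chevE8 (k / 240) (k % 240))) = true := by decide +kernel
theorem e8Cneg_64_49380 : allRange 49380 49400 ((fun k => commNegCheck Cfsg.Lie.chevE8 (k / 240) (k % 240))) = true := by decide +kernel

/-- The commutator formula of type E8 for opposite roots (roots 48640 to 49399). -/
theorem e8Cneg_64 : ∀ r, 48640 ≤ r → r < 49400 → ((fun k => commNegCheck Cfsg.Lie.chevE8 (k / 240) (k % 240))) r = true := by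
  intro r h1 h2
  by_cases c0 : r < 48660
  · exact allRange_spec e8Cneg_64_48640 r (by omega) c0
  by_cases c1 : r < 48680
  · exact allRange_spec e8Cneg_64_48660 r (by omega) c1
  by_cases c2 : r < 48700
  · exact allRange_spec e8Cneg_64_48680 r (by omega) c2
  by_cases c3 : r < 48720
  · exact allRange_spec e8Cneg_64_48700 r (by omega) c3
  by_cases c4 : r < 48740
  · exact allRange_spec e8Cneg_64_48720 r (by omega) c4
  by_cases c5 : r < 48760
  · exact allRange_spec e8Cneg_64_48740 r (by omega) c5
  by_cases c6 : r < 48780
  · exact allRange_spec e8Cneg_64_48760 r (by omega) c6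
  by_cases c7 : r < 48800
  · exact allRange_spec e8Cneg_64_48780 r (by omega) c7
  by_cases c8 : r < 48820
  · exact allRange_spec e8Cneg_64_48800 r (by omega) c8
  by_cases c9 : r < 48840
  · exact allRange_spec e8Cneg_64_48820 r (by omega) c9
  by_cases c10 : r < 48860
  · exact allRange_spec e8Cneg_64_48840 r (by omega) c10
  by_cases c11 : r < 48880
  · exact allRange_spec e8Cneg_64_48860 r (by omega) c11
  by_cases c12 : r < 48900
  · exact allRange_spec e8Cneg_64_48880 r (by omega) c12
  by_cases c13 : r < 48920
  · exact allRange_spec e8Cneg_64_48900 r (by omega) c13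
  by_cases c14 : r < 48940
  · exact allRange_spec e8Cneg_64_48920 r (by omega) c14
  by_cases c15 : r < 48960
  · exact allRange_spec e8Cneg_64_48940 r (by omega) c15
  by_cases c16 : r < 48980
  · exact allRange_spec e8Cneg_64_48960 r (by omega) c16
  by_cases c17 : r < 49000
  · exact allRange_spec e8Cneg_64_48980 r (by omega) c17
  by_cases c18 : r < 49020
  · exact allRange_spec e8Cneg_64_49000 r (by omega) c18
  by_cases c19 : r < 49040
  · exact allRange_spec e8Cneg_64_49020 r (by omega) c19
  by_cases c20 : r < 49060
  · exact allRange_spec e8Cneg_64_49040 r (by omega) c20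
  by_cases c21 : r < 49080
  · exact allRange_spec e8Cneg_64_49060 r (by omega) c21
  by_cases c22 : r < 49100
  · exact allRange_spec e8Cneg_64_49080 r (by omega) c22
  by_cases c23 : r < 49120
  · exact allRange_spec e8Cneg_64_49100 r (by omega) c23
  by_cases c24 : r < 49140
  · exact allRange_spec e8Cneg_64_49120 r (by omega) c24
  by_cases c25 : r < 49160
  · exact allRange_spec e8Cneg_64_49140 r (by omega) c25
  by_cases c26 : r < 49180
  · exact allRange_spec e8Cneg_64_49160 r (by omega) c26
  by_cases c27 : r < 49200
  · exact allRange_spec e8Cneg_64_49180 r (by omega) c27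
  by_cases c28 : r < 49220
  · exact allRange_spec e8Cneg_64_49200 r (by omega) c28
  by_cases c29 : r < 49240
  · exact allRange_spec e8Cneg_64_49220 r (by omega) c29
  by_cases c30 : r < 49260
  · exact allRange_spec e8Cneg_64_49240 r (by omega) c30
  by_cases c31 : r < 49280
  · exact allRange_spec e8Cneg_64_49260 r (by omega) c31
  by_cases c32 : r < 49300
  · exact allRange_spec e8Cneg_64_49280 r (by omega) c32
  by_cases c33 : r < 49320
  · exact allRange_spec e8Cneg_64_49300 r (by omega) c33
  by_cases c34 : r < 49340
  · exact allRange_spec e8Cneg_64_49320 r (by omega) c34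
  by_cases c35 : r < 49360
  · exact allRange_spec e8Cneg_64_49340 r (by omega) c35
  by_cases c36 : r < 49380
  · exact allRange_spec e8Cneg_64_49360 r (by omega) c36
  exact allRange_spec e8Cneg_64_49380 r (by omega) h2

end Cfsg.Agent.Lib.Helper3.ChevM
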