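import Cfsg.Prelude.Def_ChevE8
import Cfsg.Agent.Lib.Helper3.StB5
set_option autoImplicit false
set_option maxRecDepth 1000000
set_option Elab.async false

namespace Cfsg.Agent.Lib.Helper3.ChevM
open Cfsg.Agent.Lib.Helper3.StB

theorem e8Cneg_65_49400 : allRange 49400 49420 ((fun k => commNegCheck Cfsg.Lie.chevE8 (k / 240) (k % 240))) = true := by decide +kernel
theorem e8Cneg_65_49420 : allRange 49420 49440 ((fun k => commNegCheck Cfsg.Lie.chevE8 (k / 240) (k % 240))) = true := by decide +kernel
theorem e8Cneg_65_49440 : allRange 49440 49460 ((fun k => commNegCheck Cfsg.Lie.chevE8 (k / 240) (k % 240))) = true := by decide +kernel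
theorem e8Cneg_65_49460 : allRange 49460 49480 ((fun k => commNegCheck Cfsg.Lie.chevE8 (k / 240) (k % 240))) = true := by decide +kernel
theorem e8Cneg_65_49480 : allRange 49480 49500 ((fun k => commNegCheck Cfsg.Lie.chevE8 (k / 240) (k % 240))) = true := by decide +kernel
theorem e8Cneg_65_49500 : allRange 49500 49520 ((fun k => commNegCheck Cfsg.Lie.chevE8 (k / 240) (k % 240))) = true := by decide +kernel
theorem e8Cneg_65_49520 : allRange 49520 49540 ((fun k => commNegCheck Cfsg.Lie.chevE8 (k / 240) (k % 240))) = true := by decide +kernel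
theorem e8Cneg_65_49540 : allRange 49540 49560 ((fun k => commNegCheck Cfsg.Lie.chevE8 (k / 240) (k % 240))) = true := by decide +kernel
theorem e8Cneg_65_49560 : allRange 49560 49580 ((fun k => commNegCheck Cfsg.Lie.chevE8 (k / 240) (k % 240))) = true := by decide +kernel
theorem e8Cneg_65_49580 : allRange 49580 49600 ((fun k => commNegCheck Cfsg.Lie.chevE8 (k / 240) (k % 240))) = true := by decide +kernel
theorem e8Cneg_65_49600 : allRange 49600 49620 ((fun k => commNegCheck Cfsg.Lie.chevE8 (k / 240) (k % 240))) = true := by decide +kernel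
theorem e8Cneg_65_49620 : allRange 49620 49640 ((fun k => commNegCheck Cfsg.Lie.chevE8 (k / 240) (k % 240))) = true := by decide +kernel
theorem e8Cneg_65_49640 : allRange 49640 49660 ((fun k => commNegCheck Cfsg.Lie.chevE8 (k / 240) (k % 240))) = true := by decide +kernel
theorem e8Cneg_65_49660 : allRange 49660 49680 ((fun k => commNegCheck Cfsg.Lie.chevE8 (k / 240) (k % 240))) = true := by decide +kernel
theorem e8Cneg_65_49680 : allRange 49680 49700 ((fun k => commNegCheck Cfsg.Lie.chevE8 (k / 240) (k % 240))) = true := by decide +kernel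
theorem e8Cneg_65_49700 : allRange 49700 49720 ((fun k => commNegCheck Cfsg.Lie.chevE8 (k / 240) (k % 240))) = true := by decide +kernel
theorem e8Cneg_65_49720 : allRange 49720 49740 ((fun k => commNegCheck Cfsg.Lie.chevE8 (k / 240) (k % 240))) = true := by decide +kernel
theorem e8Cneg_65_49740 : allRange 49740 49760 ((fun k => commNegCheck Cfsg.Lie.chevE8 (k / 240) (k % 240))) = true := by decide +kernel
theorem e8Cneg_65_49760 : allRange 49760 49780 ((fun k => commNegCheck Cfsg.Lie.chevE8 (k / 240) (k % 240))) = true := by decide +kernel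
theorem e8Cneg_65_49780 : allRange 49780 49800 ((fun k => commNegCheck Cfsg.Lie.chevE8 (k / 240) (k % 240))) = true := by decide +kernel
theorem e8Cneg_65_49800 : allRange 49800 49820 ((fun k => commNegCheck Cfsg.Lie.chevE8 (k / 240) (k % 240))) = true := by decide +kernel
theorem e8Cneg_65_49820 : allRange 49820 49840 ((fun k => commNegCheck Cfsg.Lie.chevE8 (k / 240) (k % 240))) = true := by decide +kernel
theorem e8Cneg_65_49840 : allRange 49840 49860 ((fun k => commNegCheck Cfsg.Lie.chevE8 (k / 240) (k % 240))) = true := by decide +kernel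
theorem e8Cneg_65_49860 : allRange 49860 49880 ((fun k => commNegCheck Cfsg.Lie.chevE8 (k / 240) (k % 240))) = true := by decide +kernel
theorem e8Cneg_65_49880 : allRange 49880 49900 ((fun k => commNegCheck Cfsg.Lie.chevE8 (k / 240) (k % 240))) = true := by decide +kernel
theorem e8Cneg_65_49900 : allRange 49900 49920 ((fun k => commNegCheck Cfsg.Lie.chevE8 (k / 240) (k % 240))) = true := by decide +kernel
theorem e8Cneg_65_49920 : allRange 49920 49940 ((fun k => commNegCheck Cfsg.Lie.chevE8 (k / 240) (k % 240))) = true := by decide +kernel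
theorem e8Cneg_65_49940 : allRange 49940 49960 ((fun k => commNegCheck Cfsg.Lie.chevE8 (k / 240) (k % 240))) = true := by decide +kernel
theorem e8Cneg_65_49960 : allRange 49960 49980 ((fun k => commNegCheck Cfsg.Lie.chevE8 (k / 240) (k % 240))) = true := by decide +kernel
theorem e8Cneg_65_49980 : allRange 49980 50000 ((fun k => commNegCheck Cfsg.Lie.chevE8 (k / 240) (k % 240))) = true := by decide +kernel
theorem e8Cneg_65_50000 : allRange 50000 50020 ((fun k => commNegCheck Cfsg.Lie.chevE8 (k / 240) (k % 240))) = true := by decide +kernel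
theorem e8Cneg_65_50020 : allRange 50020 50040 ((fun k => commNegCheck Cfsg.Lie.chevE8 (k / 240) (k % 240))) = true := by decide +kernel
theorem e8Cneg_65_50040 : allRange 50040 50060 ((fun k => commNegCheck Cfsg.Lie.chevE8 (k / 240) (k % 240))) = true := by decide +kernel
theorem e8Cneg_65_50060 : allRange 50060 50080 ((fun k => commNegCheck Cfsg.Lie.chevE8 (k / 240) (k % 240))) = true := by decide +kernel
theorem e8Cneg_65_50080 : allRange 50080 50100 ((fun k => commNegCheck Cfsg.Lie.chevE8 (k / 240) (k % 240))) = true := by decide +kernel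
theorem e8Cneg_65_50100 : allRange 50100 50120 ((fun k => commNegCheck Cfsg.Lie.chevE8 (k / 240) (k % 240))) = true := by decide +kernel
theorem e8Cneg_65_50120 : allRange 50120 50140 ((fun k => commNegCheck Cfsg.Lie.chevE8 (k / 240) (k % 240))) = true := by decide +kernel
theorem e8Cneg_65_50140 : allRange 50140 50160 ((fun k => commNegCheck Cfsg.Lie.chevE8 (k / 240) (k % 240))) = true := by decide +kernel

/-- The commutator formula of type E8 for opposite roots (roots 49400 to 50159). -/
theorem e8Cneg_65 : ∀ r, 49400 ≤ r → r < 50160 → ((fun k => commNegCheck Cfsg.Lie.chevE8 (k / 240) (k % 240))) r = true := by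
  intro r h1 h2
  by_cases c0 : r < 49420
  · exact allRange_spec e8Cneg_65_49400 r (by omega) c0
  by_cases c1 : r < 49440
  · exact allRange_spec e8Cneg_65_49420 r (by omega) c1
  by_cases c2 : r < 49460
  · exact allRange_spec e8Cneg_65_49440 r (by omega) c2
  by_cases c3 : r < 49480
  · exact allRange_spec e8Cneg_65_49460 r (by omega) c3
  by_cases c4 : r < 49500
  · exact allRange_spec e8Cneg_65_49480 r (by omega) c4
  by_cases c5 : r < 49520
  · exact allRange_spec e8Cneg_65_49500 r (by omega) c5
  by_cases c6 : r < 49540
  · exact allRange_spec e8Cneg_65_49520 r (by omega) c6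
  by_cases c7 : r < 49560
  · exact allRange_spec e8Cneg_65_49540 r (by omega) c7
  by_cases c8 : r < 49580
  · exact allRange_spec e8Cneg_65_49560 r (by omega) c8
  by_cases c9 : r < 49600
  · exact allRange_spec e8Cneg_65_49580 r (by omega) c9
  by_cases c10 : r < 49620
  · exact allRange_spec e8Cneg_65_49600 r (by omega) c10
  by_cases c11 : r < 49640
  · exact allRange_spec e8Cneg_65_49620 r (by omega) c11
  by_cases c12 : r < 49660
  · exact allRange_spec e8Cneg_65_49640 r (by omega) c12
  by_cases c13 : r < 49680
  · exact allRange_spec e8Cneg_65_49660 r (by omega) c13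
  by_cases c14 : r < 49700
  · exact allRange_spec e8Cneg_65_49680 r (by omega) c14
  by_cases c15 : r < 49720
  · exact allRange_spec e8Cneg_65_49700 r (by omega) c15
  by_cases c16 : r < 49740
  · exact allRange_spec e8Cneg_65_49720 r (by omega) c16
  by_cases c17 : r < 49760
  · exact allRange_spec e8Cneg_65_49740 r (by omega) c17
  by_cases c18 : r < 49780
  · exact allRange_spec e8Cneg_65_49760 r (by omega) c18
  by_cases c19 : r < 49800
  · exact allRange_spec e8Cneg_65_49780 r (by omega) c19
  by_cases c20 : r < 49820
  · exact allRange_spec e8Cneg_65_49800 r (by omega) c20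
  by_cases c21 : r < 49840
  · exact allRange_spec e8Cneg_65_49820 r (by omega) c21
  by_cases c22 : r < 49860
  · exact allRange_spec e8Cneg_65_49840 r (by omega) c22
  by_cases c23 : r < 49880
  · exact allRange_spec e8Cneg_65_49860 r (by omega) c23
  by_cases c24 : r < 49900
  · exact allRange_spec e8Cneg_65_49880 r (by omega) c24
  by_cases c25 : r < 49920
  · exact allRange_spec e8Cneg_65_49900 r (by omega) c25
  by_cases c26 : r < 49940
  · exact allRange_spec e8Cneg_65_49920 r (by omega) c26
  by_cases c27 : r < 49960
  · exact allRange_spec e8Cneg_65_49940 r (by omega) c27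
  by_cases c28 : r < 49980
  · exact allRange_spec e8Cneg_65_49960 r (by omega) c28
  by_cases c29 : r < 50000
  · exact allRange_spec e8Cneg_65_49980 r (by omega) c29
  by_cases c30 : r < 50020
  · exact allRange_spec e8Cneg_65_50000 r (by omega) c30
  by_cases c31 : r < 50040
  · exact allRange_spec e8Cneg_65_50020 r (by omega) c31
  by_cases c32 : r < 50060
  · exact allRange_spec e8Cneg_65_50040 r (by omega) c32
  by_cases c33 : r < 50080
  · exact allRange_spec e8Cneg_65_50060 r (by omega) c33
  by_cases c34 : r < 50100
  · exact allRange_spec e8Cneg_65_50080 r (by omega) c34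
  by_cases c35 : r < 50120
  · exact allRange_spec e8Cneg_65_50100 r (by omega) c35
  by_cases c36 : r < 50140
  · exact allRange_spec e8Cneg_65_50120 r (by omega) c36
  exact allRange_spec e8Cneg_65_50140 r (by omega) h2

end Cfsg.Agent.Lib.Helper3.ChevM
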