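import Cfsg.Prelude.Def_ChevE8
import Cfsg.Agent.Lib.Helper3.StB5
set_option autoImplicit false
set_option maxRecDepth 1000000
set_option Elab.async false

namespace Cfsg.Agent.Lib.Helper3.ChevM
open Cfsg.Agent.Lib.Helper3.StB

theorem e8Cneg_66_50160 : allRange 50160 50180 ((fun k => commNegCheck Cfsg.Lie.chevE8 (k / 240) (k % 240))) = true := by decide +kernel
theorem e8Cneg_66_50180 : allRange 50180 50200 ((fun k => commNegCheck Cfsg.Lie.chevE8 (k / 240) (k % 240))) = true := by decide +kernel
theorem e8Cneg_66_50200 : allRange 50200 50220 ((fun k => commNegCheck Cfsg.Lie.chevE8 (k / 240) (k % 240))) = true := by decide +kernel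
theorem e8Cneg_66_50220 : allRange 50220 50240 ((fun k => commNegCheck Cfsg.Lie.chevE8 (k / 240) (k % 240))) = true := by decide +kernel
theorem e8Cneg_66_50240 : allRange 50240 50260 ((fun k => commNegCheck Cfsg.Lie.chevE8 (k / 240) (k % 240))) = true := by decide +kernel
theorem e8Cneg_66_50260 : allRange 50260 50280 ((fun k => commNegCheck Cfsg.Lie.chevE8 (k / 240) (k % 240))) = true := by decide +kernel
theorem e8Cneg_66_50280 : allRange 50280 50300 ((fun k => commNegCheck Cfsg.Lie.chevE8 (k / 240) (k % 240))) = true := by decide +kernel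
theorem e8Cneg_66_50300 : allRange 50300 50320 ((fun k => commNegCheck Cfsg.Lie.chevE8 (k / 240) (k % 240))) = true := by decide +kernel
theorem e8Cneg_66_50320 : allRange 50320 50340 ((fun k => commNegCheck Cfsg.Lie.chevE8 (k / 240) (k % 240))) = true := by decide +kernel
theorem e8Cneg_66_50340 : allRange 50340 50360 ((fun k => commNegCheck Cfsg.Lie.chevE8 (k / 240) (k % 240))) = true := by decide +kernel
theorem e8Cneg_66_50360 : allRange 50360 50380 ((fun k => commNegCheck Cfsg.Lie.chevE8 (k / 240) (k % 240))) = true := by decide +kernel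
theorem e8Cneg_66_50380 : allRange 50380 50400 ((fun k => commNegCheck Cfsg.Lie.chevE8 (k / 240) (k % 240))) = true := by decide +kernel
theorem e8Cneg_66_50400 : allRange 50400 50420 ((fun k => commNegCheck Cfsg.Lie.chevE8 (k / 240) (k % 240))) = true := by decide +kernel
theorem e8Cneg_66_50420 : allRange 50420 50440 ((fun k => commNegCheck Cfsg.Lie.chevE8 (k / 240) (k % 240))) = true := by decide +kernel
theorem e8Cneg_66_50440 : allRange 50440 50460 ((fun k => commNegCheck Cfsg.Lie.chevE8 (k / 240) (k % 240))) = true := by decide +kernel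
theorem e8Cneg_66_50460 : allRange 50460 50480 ((fun k => commNegCheck Cfsg.Lie.chevE8 (k / 240) (k % 240))) = true := by decide +kernel
theorem e8Cneg_66_50480 : allRange 50480 50500 ((fun k => commNegCheck Cfsg.Lie.chevE8 (k / 240) (k % 240))) = true := by decide +kernel
theorem e8Cneg_66_50500 : allRange 50500 50520 ((fun k => commNegCheck Cfsg.Lie.chevE8 (k / 240) (k % 240))) = true := by decide +kernel
theorem e8Cneg_66_50520 : allRange 50520 50540 ((fun k => commNegCheck Cfsg.Lie.chevE8 (k / 240) (k % 240))) = true := by decide +kernel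
theorem e8Cneg_66_50540 : allRange 50540 50560 ((fun k => commNegCheck Cfsg.Lie.chevE8 (k / 240) (k % 240))) = true := by decide +kernel
theorem e8Cneg_66_50560 : allRange 50560 50580 ((fun k => commNegCheck Cfsg.Lie.chevE8 (k / 240) (k % 240))) = true := by decide +kernel
theorem e8Cneg_66_50580 : allRange 50580 50600 ((fun k => commNegCheck Cfsg.Lie.chevE8 (k / 240) (k % 240))) = true := by decide +kernel
theorem e8Cneg_66_50600 : allRange 50600 50620 ((fun k => commNegCheck Cfsg.Lie.chevE8 (k / 240) (k % 240))) = true := by decide +kernel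
theorem e8Cneg_66_50620 : allRange 50620 50640 ((fun k => commNegCheck Cfsg.Lie.chevE8 (k / 240) (k % 240))) = true := by decide +kernel
theorem e8Cneg_66_50640 : allRange 50640 50660 ((fun k => commNegCheck Cfsg.Lie.chevE8 (k / 240) (k % 240))) = true := by decide +kernel
theorem e8Cneg_66_50660 : allRange 50660 50680 ((fun k => commNegCheck Cfsg.Lie.chevE8 (k / 240) (k % 240))) = true := by decide +kernel
theorem e8Cneg_66_50680 : allRange 50680 50700 ((fun k => commNegCheck Cfsg.Lie.chevE8 (k / 240) (k % 240))) = true := by decide +kernel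
theorem e8Cneg_66_50700 : allRange 50700 50720 ((fun k => commNegCheck Cfsg.Lie.chevE8 (k / 240) (k % 240))) = true := by decide +kernel
theorem e8Cneg_66_50720 : allRange 50720 50740 ((fun k => commNegCheck Cfsg.Lie.chevE8 (k / 240) (k % 240))) = true := by decide +kernel
theorem e8Cneg_66_50740 : allRange 50740 50760 ((fun k => commNegCheck Cfsg.Lie.chevE8 (k / 240) (k % 240))) = true := by decide +kernel
theorem e8Cneg_66_50760 : allRange 50760 50780 ((fun k => commNegCheck Cfsg.Lie.chevE8 (k / 240) (k % 240))) = true := by decide +kernel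
theorem e8Cneg_66_50780 : allRange 50780 50800 ((fun k => commNegCheck Cfsg.Lie.chevE8 (k / 240) (k % 240))) = true := by decide +kernel
theorem e8Cneg_66_50800 : allRange 50800 50820 ((fun k => commNegCheck Cfsg.Lie.chevE8 (k / 240) (k % 240))) = true := by decide +kernel
theorem e8Cneg_66_50820 : allRange 50820 50840 ((fun k => commNegCheck Cfsg.Lie.chevE8 (k / 240) (k % 240))) = true := by decide +kernel
theorem e8Cneg_66_50840 : allRange 50840 50860 ((fun k => commNegCheck Cfsg.Lie.chevE8 (k / 240) (k % 240))) = true := by decide +kernel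
theorem e8Cneg_66_50860 : allRange 50860 50880 ((fun k => commNegCheck Cfsg.Lie.chevE8 (k / 240) (k % 240))) = true := by decide +kernel
theorem e8Cneg_66_50880 : allRange 50880 50900 ((fun k => commNegCheck Cfsg.Lie.chevE8 (k / 240) (k % 240))) = true := by decide +kernel
theorem e8Cneg_66_50900 : allRange 50900 50920 ((fun k => commNegCheck Cfsg.Lie.chevE8 (k / 240) (k % 240))) = true := by decide +kernel

/-- The commutator formula of type E8 for opposite roots (roots 50160 to 50919). -/
theorem e8Cneg_66 : ∀ r, 50160 ≤ r → r < 50920 → ((fun k => commNegCheck Cfsg.Lie.chevE8 (k / 240) (k % 240))) r = true := by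
  intro r h1 h2
  by_cases c0 : r < 50180
  · exact allRange_spec e8Cneg_66_50160 r (by omega) c0
  by_cases c1 : r < 50200
  · exact allRange_spec e8Cneg_66_50180 r (by omega) c1
  by_cases c2 : r < 50220
  · exact allRange_spec e8Cneg_66_50200 r (by omega) c2
  by_cases c3 : r < 50240
  · exact allRange_spec e8Cneg_66_50220 r (by omega) c3
  by_cases c4 : r < 50260
  · exact allRange_spec e8Cneg_66_50240 r (by omega) c4
  by_cases c5 : r < 50280
  · exact allRange_spec e8Cneg_66_50260 r (by omega) c5
  by_cases c6 : r < 50300
  · exact allRange_spec e8Cneg_66_50280 r (by omega) c6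
  by_cases c7 : r < 50320
  · exact allRange_spec e8Cneg_66_50300 r (by omega) c7
  by_cases c8 : r < 50340
  · exact allRange_spec e8Cneg_66_50320 r (by omega) c8
  by_cases c9 : r < 50360
  · exact allRange_spec e8Cneg_66_50340 r (by omega) c9
  by_cases c10 : r < 50380
  · exact allRange_spec e8Cneg_66_50360 r (by omega) c10
  by_cases c11 : r < 50400
  · exact allRange_spec e8Cneg_66_50380 r (by omega) c11
  by_cases c12 : r < 50420
  · exact allRange_spec e8Cneg_66_50400 r (by omega) c12
  by_cases c13 : r < 50440
  · exact allRange_spec e8Cneg_66_50420 r (by omega) c13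
  by_cases c14 : r < 50460
  · exact allRange_spec e8Cneg_66_50440 r (by omega) c14
  by_cases c15 : r < 50480
  · exact allRange_spec e8Cneg_66_50460 r (by omega) c15
  by_cases c16 : r < 50500
  · exact allRange_spec e8Cneg_66_50480 r (by omega) c16
  by_cases c17 : r < 50520
  · exact allRange_spec e8Cneg_66_50500 r (by omega) c17
  by_cases c18 : r < 50540
  · exact allRange_spec e8Cneg_66_50520 r (by omega) c18
  by_cases c19 : r < 50560
  · exact allRange_spec e8Cneg_66_50540 r (by omega) c19
  by_cases c20 : r < 50580
  · exact allRange_spec e8Cneg_66_50560 r (by omega) c20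
  by_cases c21 : r < 50600
  · exact allRange_spec e8Cneg_66_50580 r (by omega) c21
  by_cases c22 : r < 50620
  · exact allRange_spec e8Cneg_66_50600 r (by omega) c22
  by_cases c23 : r < 50640
  · exact allRange_spec e8Cneg_66_50620 r (by omega) c23
  by_cases c24 : r < 50660
  · exact allRange_spec e8Cneg_66_50640 r (by omega) c24
  by_cases c25 : r < 50680
  · exact allRange_spec e8Cneg_66_50660 r (by omega) c25
  by_cases c26 : r < 50700
  · exact allRange_spec e8Cneg_66_50680 r (by omega) c26
  by_cases c27 : r < 50720
  · exact allRange_spec e8Cneg_66_50700 r (by omega) c27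
  by_cases c28 : r < 50740
  · exact allRange_spec e8Cneg_66_50720 r (by omega) c28
  by_cases c29 : r < 50760
  · exact allRange_spec e8Cneg_66_50740 r (by omega) c29
  by_cases c30 : r < 50780
  · exact allRange_spec e8Cneg_66_50760 r (by omega) c30
  by_cases c31 : r < 50800
  · exact allRange_spec e8Cneg_66_50780 r (by omega) c31
  by_cases c32 : r < 50820
  · exact allRange_spec e8Cneg_66_50800 r (by omega) c32
  by_cases c33 : r < 50840
  · exact allRange_spec e8Cneg_66_50820 r (by omega) c33
  by_cases c34 : r < 50860
  · exact allRange_spec e8Cneg_66_50840 r (by omega) c34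
  by_cases c35 : r < 50880
  · exact allRange_spec e8Cneg_66_50860 r (by omega) c35
  by_cases c36 : r < 50900
  · exact allRange_spec e8Cneg_66_50880 r (by omega) c36
  exact allRange_spec e8Cneg_66_50900 r (by omega) h2

end Cfsg.Agent.Lib.Helper3.ChevM
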