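import Cfsg.Prelude.Def_ChevE8
import Cfsg.Agent.Lib.Helper3.StB5
set_option autoImplicit false
set_option maxRecDepth 1000000
set_option Elab.async false

namespace Cfsg.Agent.Lib.Helper3.ChevM
open Cfsg.Agent.Lib.Helper3.StB

theorem e8Cneg_67_50920 : allRange 50920 50940 ((fun k => commNegCheck Cfsg.Lie.chevE8 (k / 240) (k % 240))) = true := by decide +kernel
theorem e8Cneg_67_50940 : allRange 50940 50960 ((fun k => commNegCheck Cfsg.Lie.chevE8 (k / 240) (k % 240))) = true := by decide +kernel
theorem e8Cneg_67_50960 : allRange 50960 50980 ((fun k => commNegCheck Cfsg.Lie.chevE8 (k / 240) (k % 240))) = true := by decide +kernel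
theorem e8Cneg_67_50980 : allRange 50980 51000 ((fun k => commNegCheck Cfsg.Lie.chevE8 (k / 240) (k % 240))) = true := by decide +kernel
theorem e8Cneg_67_51000 : allRange 51000 51020 ((fun k => commNegCheck Cfsg.Lie.chevE8 (k / 240) (k % 240))) = true := by decide +kernel
theorem e8Cneg_67_51020 : allRange 51020 51040 ((fun k => commNegCheck Cfsg.Lie.chevE8 (k / 240) (k % 240))) = true := by decide +kernel
theorem e8Cneg_67_51040 : allRange 51040 51060 ((fun k => commNegCheck Cfsg.Lie.chevE8 (k / 240) (k % 240))) = true := by decide +kernel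
theorem e8Cneg_67_51060 : allRange 51060 51080 ((fun k => commNegCheck Cfsg.Lie.chevE8 (k / 240) (k % 240))) = true := by decide +kernel
theorem e8Cneg_67_51080 : allRange 51080 51100 ((fun k => commNegCheck Cfsg.Lie.chevE8 (k / 240) (k % 240))) = true := by decide +kernel
theorem e8Cneg_67_51100 : allRange 51100 51120 ((fun k => commNegCheck Cfsg.Lie.chevE8 (k / 240) (k % 240))) = true := by decide +kernel
theorem e8Cneg_67_51120 : allRange 51120 51140 ((fun k => commNegCheck Cfsg.Lie.chevE8 (k / 240) (k % 240))) = true := by decide +kernel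
theorem e8Cneg_67_51140 : allRange 51140 51160 ((fun k => commNegCheck Cfsg.Lie.chevE8 (k / 240) (k % 240))) = true := by decide +kernel
theorem e8Cneg_67_51160 : allRange 51160 51180 ((fun k => commNegCheck Cfsg.Lie.chevE8 (k / 240) (k % 240))) = true := by decide +kernel
theorem e8Cneg_67_51180 : allRange 51180 51200 ((fun k => commNegCheck Cfsg.Lie.chevE8 (k / 240) (k % 240))) = true := by decide +kernel
theorem e8Cneg_67_51200 : allRange 51200 51220 ((fun k => commNegCheck Cfsg.Lie.chevE8 (k / 240) (k % 240))) = true := by decide +kernel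
theorem e8Cneg_67_51220 : allRange 51220 51240 ((fun k => commNegCheck Cfsg.Lie.chevE8 (k / 240) (k % 240))) = true := by decide +kernel
theorem e8Cneg_67_51240 : allRange 51240 51260 ((fun k => commNegCheck Cfsg.Lie.chevE8 (k / 240) (k % 240))) = true := by decide +kernel
theorem e8Cneg_67_51260 : allRange 51260 51280 ((fun k => commNegCheck Cfsg.Lie.chevE8 (k / 240) (k % 240))) = true := by decide +kernel
theorem e8Cneg_67_51280 : allRange 51280 51300 ((fun k => commNegCheck Cfsg.Lie.chevE8 (k / 240) (k % 240))) = true := by decide +kernel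
theorem e8Cneg_67_51300 : allRange 51300 51320 ((fun k => commNegCheck Cfsg.Lie.chevE8 (k / 240) (k % 240))) = true := by decide +kernel
theorem e8Cneg_67_51320 : allRange 51320 51340 ((fun k => commNegCheck Cfsg.Lie.chevE8 (k / 240) (k % 240))) = true := by decide +kernel
theorem e8Cneg_67_51340 : allRange 51340 51360 ((fun k => commNegCheck Cfsg.Lie.chevE8 (k / 240) (k % 240))) = true := by decide +kernel
theorem e8Cneg_67_51360 : allRange 51360 51380 ((fun k => commNegCheck Cfsg.Lie.chevE8 (k / 240) (k % 240))) = true := by decide +kernel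
theorem e8Cneg_67_51380 : allRange 51380 51400 ((fun k => commNegCheck Cfsg.Lie.chevE8 (k / 240) (k % 240))) = true := by decide +kernel
theorem e8Cneg_67_51400 : allRange 51400 51420 ((fun k => commNegCheck Cfsg.Lie.chevE8 (k / 240) (k % 240))) = true := by decide +kernel
theorem e8Cneg_67_51420 : allRange 51420 51440 ((fun k => commNegCheck Cfsg.Lie.chevE8 (k / 240) (k % 240))) = true := by decide +kernel
theorem e8Cneg_67_51440 : allRange 51440 51460 ((fun k => commNegCheck Cfsg.Lie.chevE8 (k / 240) (k % 240))) = true := by decide +kernel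
theorem e8Cneg_67_51460 : allRange 51460 51480 ((fun k => commNegCheck Cfsg.Lie.chevE8 (k / 240) (k % 240))) = true := by decide +kernel
theorem e8Cneg_67_51480 : allRange 51480 51500 ((fun k => commNegCheck Cfsg.Lie.chevE8 (k / 240) (k % 240))) = true := by decide +kernel
theorem e8Cneg_67_51500 : allRange 51500 51520 ((fun k => commNegCheck Cfsg.Lie.chevE8 (k / 240) (k % 240))) = true := by decide +kernel
theorem e8Cneg_67_51520 : allRange 51520 51540 ((fun k => commNegCheck Cfsg.Lie.chevE8 (k / 240) (k % 240))) = true := by decide +kernel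
theorem e8Cneg_67_51540 : allRange 51540 51560 ((fun k => commNegCheck Cfsg.Lie.chevE8 (k / 240) (k % 240))) = true := by decide +kernel
theorem e8Cneg_67_51560 : allRange 51560 51580 ((fun k => commNegCheck Cfsg.Lie.chevE8 (k / 240) (k % 240))) = true := by decide +kernel
theorem e8Cneg_67_51580 : allRange 51580 51600 ((fun k => commNegCheck Cfsg.Lie.chevE8 (k / 240) (k % 240))) = true := by decide +kernel
theorem e8Cneg_67_51600 : allRange 51600 51620 ((fun k => commNegCheck Cfsg.Lie.chevE8 (k / 240) (k % 240))) = true := by decide +kernel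
theorem e8Cneg_67_51620 : allRange 51620 51640 ((fun k => commNegCheck Cfsg.Lie.chevE8 (k / 240) (k % 240))) = true := by decide +kernel
theorem e8Cneg_67_51640 : allRange 51640 51660 ((fun k => commNegCheck Cfsg.Lie.chevE8 (k / 240) (k % 240))) = true := by decide +kernel
theorem e8Cneg_67_51660 : allRange 51660 51680 ((fun k => commNegCheck Cfsg.Lie.chevE8 (k / 240) (k % 240))) = true := by decide +kernel

/-- The commutator formula of type E8 for opposite roots (roots 50920 to 51679). -/
theorem e8Cneg_67 : ∀ r, 50920 ≤ r → r < 51680 → ((fun k => commNegCheck Cfsg.Lie.chevE8 (k / 240) (k % 240))) r = true := by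
  intro r h1 h2
  by_cases c0 : r < 50940
  · exact allRange_spec e8Cneg_67_50920 r (by omega) c0
  by_cases c1 : r < 50960
  · exact allRange_spec e8Cneg_67_50940 r (by omega) c1
  by_cases c2 : r < 50980
  · exact allRange_spec e8Cneg_67_50960 r (by omega) c2
  by_cases c3 : r < 51000
  · exact allRange_spec e8Cneg_67_50980 r (by omega) c3
  by_cases c4 : r < 51020
  · exact allRange_spec e8Cneg_67_51000 r (by omega) c4
  by_cases c5 : r < 51040
  · exact allRange_spec e8Cneg_67_51020 r (by omega) c5
  by_cases c6 : r < 51060
  · exact allRange_spec e8Cneg_67_51040 r (by omega) c6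
  by_cases c7 : r < 51080
  · exact allRange_spec e8Cneg_67_51060 r (by omega) c7
  by_cases c8 : r < 51100
  · exact allRange_spec e8Cneg_67_51080 r (by omega) c8
  by_cases c9 : r < 51120
  · exact allRange_spec e8Cneg_67_51100 r (by omega) c9
  by_cases c10 : r < 51140
  · exact allRange_spec e8Cneg_67_51120 r (by omega) c10
  by_cases c11 : r < 51160
  · exact allRange_spec e8Cneg_67_51140 r (by omega) c11
  by_cases c12 : r < 51180
  · exact allRange_spec e8Cneg_67_51160 r (by omega) c12
  by_cases c13 : r < 51200
  · exact allRange_spec e8Cneg_67_51180 r (by omega) c13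
  by_cases c14 : r < 51220
  · exact allRange_spec e8Cneg_67_51200 r (by omega) c14
  by_cases c15 : r < 51240
  · exact allRange_spec e8Cneg_67_51220 r (by omega) c15
  by_cases c16 : r < 51260
  · exact allRange_spec e8Cneg_67_51240 r (by omega) c16
  by_cases c17 : r < 51280
  · exact allRange_spec e8Cneg_67_51260 r (by omega) c17
  by_cases c18 : r < 51300
  · exact allRange_spec e8Cneg_67_51280 r (by omega) c18
  by_cases c19 : r < 51320
  · exact allRange_spec e8Cneg_67_51300 r (by omega) c19
  by_cases c20 : r < 51340
  · exact allRange_spec e8Cneg_67_51320 r (by omega) c20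
  by_cases c21 : r < 51360
  · exact allRange_spec e8Cneg_67_51340 r (by omega) c21
  by_cases c22 : r < 51380
  · exact allRange_spec e8Cneg_67_51360 r (by omega) c22
  by_cases c23 : r < 51400
  · exact allRange_spec e8Cneg_67_51380 r (by omega) c23
  by_cases c24 : r < 51420
  · exact allRange_spec e8Cneg_67_51400 r (by omega) c24
  by_cases c25 : r < 51440
  · exact allRange_spec e8Cneg_67_51420 r (by omega) c25
  by_cases c26 : r < 51460
  · exact allRange_spec e8Cneg_67_51440 r (by omega) c26
  by_cases c27 : r < 51480
  · exact allRange_spec e8Cneg_67_51460 r (by omega) c27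
  by_cases c28 : r < 51500
  · exact allRange_spec e8Cneg_67_51480 r (by omega) c28
  by_cases c29 : r < 51520
  · exact allRange_spec e8Cneg_67_51500 r (by omega) c29
  by_cases c30 : r < 51540
  · exact allRange_spec e8Cneg_67_51520 r (by omega) c30
  by_cases c31 : r < 51560
  · exact allRange_spec e8Cneg_67_51540 r (by omega) c31
  by_cases c32 : r < 51580
  · exact allRange_spec e8Cneg_67_51560 r (by omega) c32
  by_cases c33 : r < 51600
  · exact allRange_spec e8Cneg_67_51580 r (by omega) c33
  by_cases c34 : r < 51620
  · exact allRange_spec e8Cneg_67_51600 r (by omega) c34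
  by_cases c35 : r < 51640
  · exact allRange_spec e8Cneg_67_51620 r (by omega) c35
  by_cases c36 : r < 51660
  · exact allRange_spec e8Cneg_67_51640 r (by omega) c36
  exact allRange_spec e8Cneg_67_51660 r (by omega) h2

end Cfsg.Agent.Lib.Helper3.ChevM
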