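import Cfsg.Prelude.Def_ChevE8
import Cfsg.Agent.Lib.Helper3.StB5
set_option autoImplicit false
set_option maxRecDepth 1000000
set_option Elab.async false

namespace Cfsg.Agent.Lib.Helper3.ChevM
open Cfsg.Agent.Lib.Helper3.StB

theorem e8Cneg_68_51680 : allRange 51680 51700 ((fun k => commNegCheck Cfsg.Lie.chevE8 (k / 240) (k % 240))) = true := by decide +kernel
theorem e8Cneg_68_51700 : allRange 51700 51720 ((fun k => commNegCheck Cfsg.Lie.chevE8 (k / 240) (k % 240))) = true := by decide +kernel
theorem e8Cneg_68_51720 : allRange 51720 51740 ((fun k => commNegCheck Cfsg.Lie.chevE8 (k / 240) (k % 240))) = true := by decide +kernel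
theorem e8Cneg_68_51740 : allRange 51740 51760 ((fun k => commNegCheck Cfsg.Lie.chevE8 (k / 240) (k % 240))) = true := by decide +kernel
theorem e8Cneg_68_51760 : allRange 51760 51780 ((fun k => commNegCheck Cfsg.Lie.chevE8 (k / 240) (k % 240))) = true := by decide +kernel
theorem e8Cneg_68_51780 : allRange 51780 51800 ((fun k => commNegCheck Cfsg.Lie.chevE8 (k / 240) (k % 240))) = true := by decide +kernel
theorem e8Cneg_68_51800 : allRange 51800 51820 ((fun k => commNegCheck Cfsg.Lie.chevE8 (k / 240) (k % 240))) = true := by decide +kernel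
theorem e8Cneg_68_51820 : allRange 51820 51840 ((fun k => commNegCheck Cfsg.Lie.chevE8 (k / 240) (k % 240))) = true := by decide +kernel
theorem e8Cneg_68_51840 : allRange 51840 51860 ((fun k => commNegCheck Cfsg.Lie.chevE8 (k / 240) (k % 240))) = true := by decide +kernel
theorem e8Cneg_68_51860 : allRange 51860 51880 ((fun k => commNegCheck Cfsg.Lie.chevE8 (k / 240) (k % 240))) = true := by decide +kernel
theorem e8Cneg_68_51880 : allRange 51880 51900 ((fun k => commNegCheck Cfsg.Lie.chevE8 (k / 240) (k % 240))) = true := by decide +kernel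
theorem e8Cneg_68_51900 : allRange 51900 51920 ((fun k => commNegCheck Cfsg.Lie.chevE8 (k / 240) (k % 240))) = true := by decide +kernel
theorem e8Cneg_68_51920 : allRange 51920 51940 ((fun k => commNegCheck Cfsg.Lie.chevE8 (k / 240) (k % 240))) = true := by decide +kernel
theorem e8Cneg_68_51940 : allRange 51940 51960 ((fun k => commNegCheck Cfsg.Lie.chevE8 (k / 240) (k % 240))) = true := by decide +kernel
theorem e8Cneg_68_51960 : allRange 51960 51980 ((fun k => commNegCheck Cfsg.Lie.chevE8 (k / 240) (k % 240))) = true := by decide +kernel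
theorem e8Cneg_68_51980 : allRange 51980 52000 ((fun k => commNegCheck Cfsg.Lie.chevE8 (k / 240) (k % 240))) = true := by decide +kernel
theorem e8Cneg_68_52000 : allRange 52000 52020 ((fun k => commNegCheck Cfsg.Lie.chevE8 (k / 240) (k % 240))) = true := by decide +kernel
theorem e8Cneg_68_52020 : allRange 52020 52040 ((fun k => commNegCheck Cfsg.Lie.chevE8 (k / 240) (k % 240))) = true := by decide +kernel
theorem e8Cneg_68_52040 : allRange 52040 52060 ((fun k => commNegCheck Cfsg.Lie.chevE8 (k / 240) (k % 240))) = true := by decide +kernel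
theorem e8Cneg_68_52060 : allRange 52060 52080 ((fun k => commNegCheck Cfsg.Lie.chevE8 (k / 240) (k % 240))) = true := by decide +kernel
theorem e8Cneg_68_52080 : allRange 52080 52100 ((fun k => commNegCheck Cfsg.Lie.chevE8 (k / 240) (k % 240))) = true := by decide +kernel
theorem e8Cneg_68_52100 : allRange 52100 52120 ((fun k => commNegCheck Cfsg.Lie.chevE8 (k / 240) (k % 240))) = true := by decide +kernel
theorem e8Cneg_68_52120 : allRange 52120 52140 ((fun k => commNegCheck Cfsg.Lie.chevE8 (k / 240) (k % 240))) = true := by decide +kernel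
theorem e8Cneg_68_52140 : allRange 52140 52160 ((fun k => commNegCheck Cfsg.Lie.chevE8 (k / 240) (k % 240))) = true := by decide +kernel
theorem e8Cneg_68_52160 : allRange 52160 52180 ((fun k => commNegCheck Cfsg.Lie.chevE8 (k / 240) (k % 240))) = true := by decide +kernel
theorem e8Cneg_68_52180 : allRange 52180 52200 ((fun k => commNegCheck Cfsg.Lie.chevE8 (k / 240) (k % 240))) = true := by decide +kernel
theorem e8Cneg_68_52200 : allRange 52200 52220 ((fun k => commNegCheck Cfsg.Lie.chevE8 (k / 240) (k % 240))) = true := by decide +kernel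
theorem e8Cneg_68_52220 : allRange 52220 52240 ((fun k => commNegCheck Cfsg.Lie.chevE8 (k / 240) (k % 240))) = true := by decide +kernel
theorem e8Cneg_68_52240 : allRange 52240 52260 ((fun k => commNegCheck Cfsg.Lie.chevE8 (k / 240) (k % 240))) = true := by decide +kernel
theorem e8Cneg_68_52260 : allRange 52260 52280 ((fun k => commNegCheck Cfsg.Lie.chevE8 (k / 240) (k % 240))) = true := by decide +kernel
theorem e8Cneg_68_52280 : allRange 52280 52300 ((fun k => commNegCheck Cfsg.Lie.chevE8 (k / 240) (k % 240))) = true := by decide +kernel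
theorem e8Cneg_68_52300 : allRange 52300 52320 ((fun k => commNegCheck Cfsg.Lie.chevE8 (k / 240) (k % 240))) = true := by decide +kernel
theorem e8Cneg_68_52320 : allRange 52320 52340 ((fun k => commNegCheck Cfsg.Lie.chevE8 (k / 240) (k % 240))) = true := by decide +kernel
theorem e8Cneg_68_52340 : allRange 52340 52360 ((fun k => commNegCheck Cfsg.Lie.chevE8 (k / 240) (k % 240))) = true := by decide +kernel
theorem e8Cneg_68_52360 : allRange 52360 52380 ((fun k => commNegCheck Cfsg.Lie.chevE8 (k / 240) (k % 240))) = true := by decide +kernel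
theorem e8Cneg_68_52380 : allRange 52380 52400 ((fun k => commNegCheck Cfsg.Lie.chevE8 (k / 240) (k % 240))) = true := by decide +kernel
theorem e8Cneg_68_52400 : allRange 52400 52420 ((fun k => commNegCheck Cfsg.Lie.chevE8 (k / 240) (k % 240))) = true := by decide +kernel
theorem e8Cneg_68_52420 : allRange 52420 52440 ((fun k => commNegCheck Cfsg.Lie.chevE8 (k / 240) (k % 240))) = true := by decide +kernel

/-- The commutator formula of type E8 for opposite roots (roots 51680 to 52439). -/
theorem e8Cneg_68 : ∀ r, 51680 ≤ r → r < 52440 → ((fun k => commNegCheck Cfsg.Lie.chevE8 (k / 240) (k % 240))) r = true := by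
  intro r h1 h2
  by_cases c0 : r < 51700
  · exact allRange_spec e8Cneg_68_51680 r (by omega) c0
  by_cases c1 : r < 51720
  · exact allRange_spec e8Cneg_68_51700 r (by omega) c1
  by_cases c2 : r < 51740
  · exact allRange_spec e8Cneg_68_51720 r (by omega) c2
  by_cases c3 : r < 51760
  · exact allRange_spec e8Cneg_68_51740 r (by omega) c3
  by_cases c4 : r < 51780
  · exact allRange_spec e8Cneg_68_51760 r (by omega) c4
  by_cases c5 : r < 51800
  · exact allRange_spec e8Cneg_68_51780 r (by omega) c5
  by_cases c6 : r < 51820
  · exact allRange_spec e8Cneg_68_51800 r (by omega) c6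
  by_cases c7 : r < 51840
  · exact allRange_spec e8Cneg_68_51820 r (by omega) c7
  by_cases c8 : r < 51860
  · exact allRange_spec e8Cneg_68_51840 r (by omega) c8
  by_cases c9 : r < 51880
  · exact allRange_spec e8Cneg_68_51860 r (by omega) c9
  by_cases c10 : r < 51900
  · exact allRange_spec e8Cneg_68_51880 r (by omega) c10
  by_cases c11 : r < 51920
  · exact allRange_spec e8Cneg_68_51900 r (by omega) c11
  by_cases c12 : r < 51940
  · exact allRange_spec e8Cneg_68_51920 r (by omega) c12
  by_cases c13 : r < 51960
  · exact allRange_spec e8Cneg_68_51940 r (by omega) c13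
  by_cases c14 : r < 51980
  · exact allRange_spec e8Cneg_68_51960 r (by omega) c14
  by_cases c15 : r < 52000
  · exact allRange_spec e8Cneg_68_51980 r (by omega) c15
  by_cases c16 : r < 52020
  · exact allRange_spec e8Cneg_68_52000 r (by omega) c16
  by_cases c17 : r < 52040
  · exact allRange_spec e8Cneg_68_52020 r (by omega) c17
  by_cases c18 : r < 52060
  · exact allRange_spec e8Cneg_68_52040 r (by omega) c18
  by_cases c19 : r < 52080
  · exact allRange_spec e8Cneg_68_52060 r (by omega) c19
  by_cases c20 : r < 52100
  · exact allRange_spec e8Cneg_68_52080 r (by omega) c20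
  by_cases c21 : r < 52120
  · exact allRange_spec e8Cneg_68_52100 r (by omega) c21
  by_cases c22 : r < 52140
  · exact allRange_spec e8Cneg_68_52120 r (by omega) c22
  by_cases c23 : r < 52160
  · exact allRange_spec e8Cneg_68_52140 r (by omega) c23
  by_cases c24 : r < 52180
  · exact allRange_spec e8Cneg_68_52160 r (by omega) c24
  by_cases c25 : r < 52200
  · exact allRange_spec e8Cneg_68_52180 r (by omega) c25
  by_cases c26 : r < 52220
  · exact allRange_spec e8Cneg_68_52200 r (by omega) c26
  by_cases c27 : r < 52240
  · exact allRange_spec e8Cneg_68_52220 r (by omega) c27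
  by_cases c28 : r < 52260
  · exact allRange_spec e8Cneg_68_52240 r (by omega) c28
  by_cases c29 : r < 52280
  · exact allRange_spec e8Cneg_68_52260 r (by omega) c29
  by_cases c30 : r < 52300
  · exact allRange_spec e8Cneg_68_52280 r (by omega) c30
  by_cases c31 : r < 52320
  · exact allRange_spec e8Cneg_68_52300 r (by omega) c31
  by_cases c32 : r < 52340
  · exact allRange_spec e8Cneg_68_52320 r (by omega) c32
  by_cases c33 : r < 52360
  · exact allRange_spec e8Cneg_68_52340 r (by omega) c33
  by_cases c34 : r < 52380
  · exact allRange_spec e8Cneg_68_52360 r (by omega) c34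
  by_cases c35 : r < 52400
  · exact allRange_spec e8Cneg_68_52380 r (by omega) c35
  by_cases c36 : r < 52420
  · exact allRange_spec e8Cneg_68_52400 r (by omega) c36
  exact allRange_spec e8Cneg_68_52420 r (by omega) h2

end Cfsg.Agent.Lib.Helper3.ChevM
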