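import Cfsg.Prelude.Def_ChevE8
import Cfsg.Agent.Lib.Helper3.StB5
set_option autoImplicit false
set_option maxRecDepth 1000000
set_option Elab.async false

namespace Cfsg.Agent.Lib.Helper3.ChevM
open Cfsg.Agent.Lib.Helper3.StB

theorem e8Cneg_69_52440 : allRange 52440 52460 ((fun k => commNegCheck Cfsg.Lie.chevE8 (k / 240) (k % 240))) = true := by decide +kernel
theorem e8Cneg_69_52460 : allRange 52460 52480 ((fun k => commNegCheck Cfsg.Lie.chevE8 (k / 240) (k % 240))) = true := by decide +kernel
theorem e8Cneg_69_52480 : allRange 52480 52500 ((fun k => commNegCheck Cfsg.Lie.chevE8 (k / 240) (k % 240))) = true := by decide +kernel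
theorem e8Cneg_69_52500 : allRange 52500 52520 ((fun k => commNegCheck Cfsg.Lie.chevE8 (k / 240) (k % 240))) = true := by decide +kernel
theorem e8Cneg_69_52520 : allRange 52520 52540 ((fun k => commNegCheck Cfsg.Lie.chevE8 (k / 240) (k % 240))) = true := by decide +kernel
theorem e8Cneg_69_52540 : allRange 52540 52560 ((fun k => commNegCheck Cfsg.Lie.chevE8 (k / 240) (k % 240))) = true := by decide +kernel
theorem e8Cneg_69_52560 : allRange 52560 52580 ((fun k => commNegCheck Cfsg.Lie.chevE8 (k / 240) (k % 240))) = true := by decide +kernel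
theorem e8Cneg_69_52580 : allRange 52580 52600 ((fun k => commNegCheck Cfsg.Lie.chevE8 (k / 240) (k % 240))) = true := by decide +kernel
theorem e8Cneg_69_52600 : allRange 52600 52620 ((fun k => commNegCheck Cfsg.Lie.chevE8 (k / 240) (k % 240))) = true := by decide +kernel
theorem e8Cneg_69_52620 : allRange 52620 52640 ((fun k => commNegCheck Cfsg.Lie.chevE8 (k / 240) (k % 240))) = true := by decide +kernel
theorem e8Cneg_69_52640 : allRange 52640 52660 ((fun k => commNegCheck Cfsg.Lie.chevE8 (k / 240) (k % 240))) = true := by decide +kernel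
theorem e8Cneg_69_52660 : allRange 52660 52680 ((fun k => commNegCheck Cfsg.Lie.chevE8 (k / 240) (k % 240))) = true := by decide +kernel
theorem e8Cneg_69_52680 : allRange 52680 52700 ((fun k => commNegCheck Cfsg.Lie.chevE8 (k / 240) (k % 240))) = true := by decide +kernel
theorem e8Cneg_69_52700 : allRange 52700 52720 ((fun k => commNegCheck Cfsg.Lie.chevE8 (k / 240) (k % 240))) = true := by decide +kernel
theorem e8Cneg_69_52720 : allRange 52720 52740 ((fun k => commNegCheck Cfsg.Lie.chevE8 (k / 240) (k % 240))) = true := by decide +kernel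
theorem e8Cneg_69_52740 : allRange 52740 52760 ((fun k => commNegCheck Cfsg.Lie.chevE8 (k / 240) (k % 240))) = true := by decide +kernel
theorem e8Cneg_69_52760 : allRange 52760 52780 ((fun k => commNegCheck Cfsg.Lie.chevE8 (k / 240) (k % 240))) = true := by decide +kernel
theorem e8Cneg_69_52780 : allRange 52780 52800 ((fun k => commNegCheck Cfsg.Lie.chevE8 (k / 240) (k % 240))) = true := by decide +kernel
theorem e8Cneg_69_52800 : allRange 52800 52820 ((fun k => commNegCheck Cfsg.Lie.chevE8 (k / 240) (k % 240))) = true := by decide +kernel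
theorem e8Cneg_69_52820 : allRange 52820 52840 ((fun k => commNegCheck Cfsg.Lie.chevE8 (k / 240) (k % 240))) = true := by decide +kernel
theorem e8Cneg_69_52840 : allRange 52840 52860 ((fun k => commNegCheck Cfsg.Lie.chevE8 (k / 240) (k % 240))) = true := by decide +kernel
theorem e8Cneg_69_52860 : allRange 52860 52880 ((fun k => commNegCheck Cfsg.Lie.chevE8 (k / 240) (k % 240))) = true := by decide +kernel
theorem e8Cneg_69_52880 : allRange 52880 52900 ((fun k => commNegCheck Cfsg.Lie.chevE8 (k / 240) (k % 240))) = true := by decide +kernel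
theorem e8Cneg_69_52900 : allRange 52900 52920 ((fun k => commNegCheck Cfsg.Lie.chevE8 (k / 240) (k % 240))) = true := by decide +kernel
theorem e8Cneg_69_52920 : allRange 52920 52940 ((fun k => commNegCheck Cfsg.Lie.chevE8 (k / 240) (k % 240))) = true := by decide +kernel
theorem e8Cneg_69_52940 : allRange 52940 52960 ((fun k => commNegCheck Cfsg.Lie.chevE8 (k / 240) (k % 240))) = true := by decide +kernel
theorem e8Cneg_69_52960 : allRange 52960 52980 ((fun k => commNegCheck Cfsg.Lie.chevE8 (k / 240) (k % 240))) = true := by decide +kernel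
theorem e8Cneg_69_52980 : allRange 52980 53000 ((fun k => commNegCheck Cfsg.Lie.chevE8 (k / 240) (k % 240))) = true := by decide +kernel
theorem e8Cneg_69_53000 : allRange 53000 53020 ((fun k => commNegCheck Cfsg.Lie.chevE8 (k / 240) (k % 240))) = true := by decide +kernel
theorem e8Cneg_69_53020 : allRange 53020 53040 ((fun k => commNegCheck Cfsg.Lie.chevE8 (k / 240) (k % 240))) = true := by decide +kernel
theorem e8Cneg_69_53040 : allRange 53040 53060 ((fun k => commNegCheck Cfsg.Lie.chevE8 (k / 240) (k % 240))) = true := by decide +kernel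
theorem e8Cneg_69_53060 : allRange 53060 53080 ((fun k => commNegCheck Cfsg.Lie.chevE8 (k / 240) (k % 240))) = true := by decide +kernel
theorem e8Cneg_69_53080 : allRange 53080 53100 ((fun k => commNegCheck Cfsg.Lie.chevE8 (k / 240) (k % 240))) = true := by decide +kernel
theorem e8Cneg_69_53100 : allRange 53100 53120 ((fun k => commNegCheck Cfsg.Lie.chevE8 (k / 240) (k % 240))) = true := by decide +kernel
theorem e8Cneg_69_53120 : allRange 53120 53140 ((fun k => commNegCheck Cfsg.Lie.chevE8 (k / 240) (k % 240))) = true := by decide +kernel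
theorem e8Cneg_69_53140 : allRange 53140 53160 ((fun k => commNegCheck Cfsg.Lie.chevE8 (k / 240) (k % 240))) = true := by decide +kernel
theorem e8Cneg_69_53160 : allRange 53160 53180 ((fun k => commNegCheck Cfsg.Lie.chevE8 (k / 240) (k % 240))) = true := by decide +kernel
theorem e8Cneg_69_53180 : allRange 53180 53200 ((fun k => commNegCheck Cfsg.Lie.chevE8 (k / 240) (k % 240))) = true := by decide +kernel

/-- The commutator formula of type E8 for opposite roots (roots 52440 to 53199). -/
theorem e8Cneg_69 : ∀ r, 52440 ≤ r → r < 53200 → ((fun k => commNegCheck Cfsg.Lie.chevE8 (k / 240) (k % 240))) r = true := by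
  intro r h1 h2
  by_cases c0 : r < 52460
  · exact allRange_spec e8Cneg_69_52440 r (by omega) c0
  by_cases c1 : r < 52480
  · exact allRange_spec e8Cneg_69_52460 r (by omega) c1
  by_cases c2 : r < 52500
  · exact allRange_spec e8Cneg_69_52480 r (by omega) c2
  by_cases c3 : r < 52520
  · exact allRange_spec e8Cneg_69_52500 r (by omega) c3
  by_cases c4 : r < 52540
  · exact allRange_spec e8Cneg_69_52520 r (by omega) c4
  by_cases c5 : r < 52560
  · exact allRange_spec e8Cneg_69_52540 r (by omega) c5
  by_cases c6 : r < 52580
  · exact allRange_spec e8Cneg_69_52560 r (by omega) c6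
  by_cases c7 : r < 52600
  · exact allRange_spec e8Cneg_69_52580 r (by omega) c7
  by_cases c8 : r < 52620
  · exact allRange_spec e8Cneg_69_52600 r (by omega) c8
  by_cases c9 : r < 52640
  · exact allRange_spec e8Cneg_69_52620 r (by omega) c9
  by_cases c10 : r < 52660
  · exact allRange_spec e8Cneg_69_52640 r (by omega) c10
  by_cases c11 : r < 52680
  · exact allRange_spec e8Cneg_69_52660 r (by omega) c11
  by_cases c12 : r < 52700
  · exact allRange_spec e8Cneg_69_52680 r (by omega) c12
  by_cases c13 : r < 52720
  · exact allRange_spec e8Cneg_69_52700 r (by omega) c13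
  by_cases c14 : r < 52740
  · exact allRange_spec e8Cneg_69_52720 r (by omega) c14
  by_cases c15 : r < 52760
  · exact allRange_spec e8Cneg_69_52740 r (by omega) c15
  by_cases c16 : r < 52780
  · exact allRange_spec e8Cneg_69_52760 r (by omega) c16
  by_cases c17 : r < 52800
  · exact allRange_spec e8Cneg_69_52780 r (by omega) c17
  by_cases c18 : r < 52820
  · exact allRange_spec e8Cneg_69_52800 r (by omega) c18
  by_cases c19 : r < 52840
  · exact allRange_spec e8Cneg_69_52820 r (by omega) c19
  by_cases c20 : r < 52860
  · exact allRange_spec e8Cneg_69_52840 r (by omega) c20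
  by_cases c21 : r < 52880
  · exact allRange_spec e8Cneg_69_52860 r (by omega) c21
  by_cases c22 : r < 52900
  · exact allRange_spec e8Cneg_69_52880 r (by omega) c22
  by_cases c23 : r < 52920
  · exact allRange_spec e8Cneg_69_52900 r (by omega) c23
  by_cases c24 : r < 52940
  · exact allRange_spec e8Cneg_69_52920 r (by omega) c24
  by_cases c25 : r < 52960
  · exact allRange_spec e8Cneg_69_52940 r (by omega) c25
  by_cases c26 : r < 52980
  · exact allRange_spec e8Cneg_69_52960 r (by omega) c26
  by_cases c27 : r < 53000
  · exact allRange_spec e8Cneg_69_52980 r (by omega) c27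
  by_cases c28 : r < 53020
  · exact allRange_spec e8Cneg_69_53000 r (by omega) c28
  by_cases c29 : r < 53040
  · exact allRange_spec e8Cneg_69_53020 r (by omega) c29
  by_cases c30 : r < 53060
  · exact allRange_spec e8Cneg_69_53040 r (by omega) c30
  by_cases c31 : r < 53080
  · exact allRange_spec e8Cneg_69_53060 r (by omega) c31
  by_cases c32 : r < 53100
  · exact allRange_spec e8Cneg_69_53080 r (by omega) c32
  by_cases c33 : r < 53120
  · exact allRange_spec e8Cneg_69_53100 r (by omega) c33
  by_cases c34 : r < 53140
  · exact allRange_spec e8Cneg_69_53120 r (by omega) c34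
  by_cases c35 : r < 53160
  · exact allRange_spec e8Cneg_69_53140 r (by omega) c35
  by_cases c36 : r < 53180
  · exact allRange_spec e8Cneg_69_53160 r (by omega) c36
  exact allRange_spec e8Cneg_69_53180 r (by omega) h2

end Cfsg.Agent.Lib.Helper3.ChevM
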