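import Cfsg.Prelude.Def_ChevE8
import Cfsg.Agent.Lib.Helper3.StB5
set_option autoImplicit false
set_option maxRecDepth 1000000
set_option Elab.async false

namespace Cfsg.Agent.Lib.Helper3.ChevM
open Cfsg.Agent.Lib.Helper3.StB

theorem e8Cneg_70_53200 : allRange 53200 53220 ((fun k => commNegCheck Cfsg.Lie.chevE8 (k / 240) (k % 240))) = true := by decide +kernel
theorem e8Cneg_70_53220 : allRange 53220 53240 ((fun k => commNegCheck Cfsg.Lie.chevE8 (k / 240) (k % 240))) = true := by decide +kernel
theorem e8Cneg_70_53240 : allRange 53240 53260 ((fun k => commNegCheck Cfsg.Lie.chevE8 (k / 240) (k % 240))) = true := by decide +kernel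
theorem e8Cneg_70_53260 : allRange 53260 53280 ((fun k => commNegCheck Cfsg.Lie.chevE8 (k / 240) (k % 240))) = true := by decide +kernel
theorem e8Cneg_70_53280 : allRange 53280 53300 ((fun k => commNegCheck Cfsg.Lie.chevE8 (k / 240) (k % 240))) = true := by decide +kernel
theorem e8Cneg_70_53300 : allRange 53300 53320 ((fun k => commNegCheck Cfsg.Lie.chevE8 (k / 240) (k % 240))) = true := by decide +kernel
theorem e8Cneg_70_53320 : allRange 53320 53340 ((fun k => commNegCheck Cfsg.Lie.chevE8 (k / 240) (k % 240))) = true := by decide +kernel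
theorem e8Cneg_70_53340 : allRange 53340 53360 ((fun k => commNegCheck Cfsg.Lie.chevE8 (k / 240) (k % 240))) = true := by decide +kernel
theorem e8Cneg_70_53360 : allRange 53360 53380 ((fun k => commNegCheck Cfsg.Lie.chevE8 (k / 240) (k % 240))) = true := by decide +kernel
theorem e8Cneg_70_53380 : allRange 53380 53400 ((fun k => commNegCheck Cfsg.Lie.chevE8 (k / 240) (k % 240))) = true := by decide +kernel
theorem e8Cneg_70_53400 : allRange 53400 53420 ((fun k => commNegCheck Cfsg.Lie.chevE8 (k / 240) (k % 240))) = true := by decide +kernel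
theorem e8Cneg_70_53420 : allRange 53420 53440 ((fun k => commNegCheck Cfsg.Lie.chevE8 (k / 240) (k % 240))) = true := by decide +kernel
theorem e8Cneg_70_53440 : allRange 53440 53460 ((fun k => commNegCheck Cfsg.Lie.chevE8 (k / 240) (k % 240))) = true := by decide +kernel
theorem e8Cneg_70_53460 : allRange 53460 53480 ((fun k => commNegCheck Cfsg.Lie.chevE8 (k / 240) (k % 240))) = true := by decide +kernel
theorem e8Cneg_70_53480 : allRange 53480 53500 ((fun k => commNegCheck Cfsg.Lie.chevE8 (k / 240) (k % 240))) = true := by decide +kernel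
theorem e8Cneg_70_53500 : allRange 53500 53520 ((fun k => commNegCheck Cfsg.Lie.chevE8 (k / 240) (k % 240))) = true := by decide +kernel
theorem e8Cneg_70_53520 : allRange 53520 53540 ((fun k => commNegCheck Cfsg.Lie.chevE8 (k / 240) (k % 240))) = true := by decide +kernel
theorem e8Cneg_70_53540 : allRange 53540 53560 ((fun k => commNegCheck Cfsg.Lie.chevE8 (k / 240) (k % 240))) = true := by decide +kernel
theorem e8Cneg_70_53560 : allRange 53560 53580 ((fun k => commNegCheck Cfsg.Lie.chevE8 (k / 240) (k % 240))) = true := by decide +kernel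
theorem e8Cneg_70_53580 : allRange 53580 53600 ((fun k => commNegCheck Cfsg.Lie.chevE8 (k / 240) (k % 240))) = true := by decide +kernel
theorem e8Cneg_70_53600 : allRange 53600 53620 ((fun k => commNegCheck Cfsg.Lie.chevE8 (k / 240) (k % 240))) = true := by decide +kernel
theorem e8Cneg_70_53620 : allRange 53620 53640 ((fun k => commNegCheck Cfsg.Lie.chevE8 (k / 240) (k % 240))) = true := by decide +kernel
theorem e8Cneg_70_53640 : allRange 53640 53660 ((fun k => commNegCheck Cfsg.Lie.chevE8 (k / 240) (k % 240))) = true := by decide +kernel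
theorem e8Cneg_70_53660 : allRange 53660 53680 ((fun k => commNegCheck Cfsg.Lie.chevE8 (k / 240) (k % 240))) = true := by decide +kernel
theorem e8Cneg_70_53680 : allRange 53680 53700 ((fun k => commNegCheck Cfsg.Lie.chevE8 (k / 240) (k % 240))) = true := by decide +kernel
theorem e8Cneg_70_53700 : allRange 53700 53720 ((fun k => commNegCheck Cfsg.Lie.chevE8 (k / 240) (k % 240))) = true := by decide +kernel
theorem e8Cneg_70_53720 : allRange 53720 53740 ((fun k => commNegCheck Cfsg.Lie.chevE8 (k / 240) (k % 240))) = true := by decide +kernel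
theorem e8Cneg_70_53740 : allRange 53740 53760 ((fun k => commNegCheck Cfsg.Lie.chevE8 (k / 240) (k % 240))) = true := by decide +kernel
theorem e8Cneg_70_53760 : allRange 53760 53780 ((fun k => commNegCheck Cfsg.Lie.chevE8 (k / 240) (k % 240))) = true := by decide +kernel
theorem e8Cneg_70_53780 : allRange 53780 53800 ((fun k => commNegCheck Cfsg.Lie.chevE8 (k / 240) (k % 240))) = true := by decide +kernel
theorem e8Cneg_70_53800 : allRange 53800 53820 ((fun k => commNegCheck Cfsg.Lie.chevE8 (k / 240) (k % 240))) = true := by decide +kernel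
theorem e8Cneg_70_53820 : allRange 53820 53840 ((fun k => commNegCheck Cfsg.Lie.chevE8 (k / 240) (k % 240))) = true := by decide +kernel
theorem e8Cneg_70_53840 : allRange 53840 53860 ((fun k => commNegCheck Cfsg.Lie.chevE8 (k / 240) (k % 240))) = true := by decide +kernel
theorem e8Cneg_70_53860 : allRange 53860 53880 ((fun k => commNegCheck Cfsg.Lie.chevE8 (k / 240) (k % 240))) = true := by decide +kernel
theorem e8Cneg_70_53880 : allRange 53880 53900 ((fun k => commNegCheck Cfsg.Lie.chevE8 (k / 240) (k % 240))) = true := by decide +kernel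
theorem e8Cneg_70_53900 : allRange 53900 53920 ((fun k => commNegCheck Cfsg.Lie.chevE8 (k / 240) (k % 240))) = true := by decide +kernel
theorem e8Cneg_70_53920 : allRange 53920 53940 ((fun k => commNegCheck Cfsg.Lie.chevE8 (k / 240) (k % 240))) = true := by decide +kernel
theorem e8Cneg_70_53940 : allRange 53940 53960 ((fun k => commNegCheck Cfsg.Lie.chevE8 (k / 240) (k % 240))) = true := by decide +kernel

/-- The commutator formula of type E8 for opposite roots (roots 53200 to 53959). -/
theorem e8Cneg_70 : ∀ r, 53200 ≤ r → r < 53960 → ((fun k => commNegCheck Cfsg.Lie.chevE8 (k / 240) (k % 240))) r = true := by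
  intro r h1 h2
  by_cases c0 : r < 53220
  · exact allRange_spec e8Cneg_70_53200 r (by omega) c0
  by_cases c1 : r < 53240
  · exact allRange_spec e8Cneg_70_53220 r (by omega) c1
  by_cases c2 : r < 53260
  · exact allRange_spec e8Cneg_70_53240 r (by omega) c2
  by_cases c3 : r < 53280
  · exact allRange_spec e8Cneg_70_53260 r (by omega) c3
  by_cases c4 : r < 53300
  · exact allRange_spec e8Cneg_70_53280 r (by omega) c4
  by_cases c5 : r < 53320
  · exact allRange_spec e8Cneg_70_53300 r (by omega) c5
  by_cases c6 : r < 53340
  · exact allRange_spec e8Cneg_70_53320 r (by omega) c6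
  by_cases c7 : r < 53360
  · exact allRange_spec e8Cneg_70_53340 r (by omega) c7
  by_cases c8 : r < 53380
  · exact allRange_spec e8Cneg_70_53360 r (by omega) c8
  by_cases c9 : r < 53400
  · exact allRange_spec e8Cneg_70_53380 r (by omega) c9
  by_cases c10 : r < 53420
  · exact allRange_spec e8Cneg_70_53400 r (by omega) c10
  by_cases c11 : r < 53440
  · exact allRange_spec e8Cneg_70_53420 r (by omega) c11
  by_cases c12 : r < 53460
  · exact allRange_spec e8Cneg_70_53440 r (by omega) c12
  by_cases c13 : r < 53480
  · exact allRange_spec e8Cneg_70_53460 r (by omega) c13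
  by_cases c14 : r < 53500
  · exact allRange_spec e8Cneg_70_53480 r (by omega) c14
  by_cases c15 : r < 53520
  · exact allRange_spec e8Cneg_70_53500 r (by omega) c15
  by_cases c16 : r < 53540
  · exact allRange_spec e8Cneg_70_53520 r (by omega) c16
  by_cases c17 : r < 53560
  · exact allRange_spec e8Cneg_70_53540 r (by omega) c17
  by_cases c18 : r < 53580
  · exact allRange_spec e8Cneg_70_53560 r (by omega) c18
  by_cases c19 : r < 53600
  · exact allRange_spec e8Cneg_70_53580 r (by omega) c19
  by_cases c20 : r < 53620
  · exact allRange_spec e8Cneg_70_53600 r (by omega) c20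
  by_cases c21 : r < 53640
  · exact allRange_spec e8Cneg_70_53620 r (by omega) c21
  by_cases c22 : r < 53660
  · exact allRange_spec e8Cneg_70_53640 r (by omega) c22
  by_cases c23 : r < 53680
  · exact allRange_spec e8Cneg_70_53660 r (by omega) c23
  by_cases c24 : r < 53700
  · exact allRange_spec e8Cneg_70_53680 r (by omega) c24
  by_cases c25 : r < 53720
  · exact allRange_spec e8Cneg_70_53700 r (by omega) c25
  by_cases c26 : r < 53740
  · exact allRange_spec e8Cneg_70_53720 r (by omega) c26
  by_cases c27 : r < 53760
  · exact allRange_spec e8Cneg_70_53740 r (by omega) c27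
  by_cases c28 : r < 53780
  · exact allRange_spec e8Cneg_70_53760 r (by omega) c28
  by_cases c29 : r < 53800
  · exact allRange_spec e8Cneg_70_53780 r (by omega) c29
  by_cases c30 : r < 53820
  · exact allRange_spec e8Cneg_70_53800 r (by omega) c30
  by_cases c31 : r < 53840
  · exact allRange_spec e8Cneg_70_53820 r (by omega) c31
  by_cases c32 : r < 53860
  · exact allRange_spec e8Cneg_70_53840 r (by omega) c32
  by_cases c33 : r < 53880
  · exact allRange_spec e8Cneg_70_53860 r (by omega) c33
  by_cases c34 : r < 53900
  · exact allRange_spec e8Cneg_70_53880 r (by omega) c34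
  by_cases c35 : r < 53920
  · exact allRange_spec e8Cneg_70_53900 r (by omega) c35
  by_cases c36 : r < 53940
  · exact allRange_spec e8Cneg_70_53920 r (by omega) c36
  exact allRange_spec e8Cneg_70_53940 r (by omega) h2

end Cfsg.Agent.Lib.Helper3.ChevM
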