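import Cfsg.Prelude.Def_ChevE8
import Cfsg.Agent.Lib.Helper3.StB5
set_option autoImplicit false
set_option maxRecDepth 1000000
set_option Elab.async false

namespace Cfsg.Agent.Lib.Helper3.ChevM
open Cfsg.Agent.Lib.Helper3.StB

theorem e8Cneg_71_53960 : allRange 53960 53980 ((fun k => commNegCheck Cfsg.Lie.chevE8 (k / 240) (k % 240))) = true := by decide +kernel
theorem e8Cneg_71_53980 : allRange 53980 54000 ((fun k => commNegCheck Cfsg.Lie.chevE8 (k / 240) (k % 240))) = true := by decide +kernel
theorem e8Cneg_71_54000 : allRange 54000 54020 ((fun k => commNegCheck Cfsg.Lie.chevE8 (k / 240) (k % 240))) = true := by decide +kernel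
theorem e8Cneg_71_54020 : allRange 54020 54040 ((fun k => commNegCheck Cfsg.Lie.chevE8 (k / 240) (k % 240))) = true := by decide +kernel
theorem e8Cneg_71_54040 : allRange 54040 54060 ((fun k => commNegCheck Cfsg.Lie.chevE8 (k / 240) (k % 240))) = true := by decide +kernel
theorem e8Cneg_71_54060 : allRange 54060 54080 ((fun k => commNegCheck Cfsg.Lie.chevE8 (k / 240) (k % 240))) = true := by decide +kernel
theorem e8Cneg_71_54080 : allRange 54080 54100 ((fun k => commNegCheck Cfsg.Lie.chevE8 (k / 240) (k % 240))) = true := by decide +kernel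
theorem e8Cneg_71_54100 : allRange 54100 54120 ((fun k => commNegCheck Cfsg.Lie.chevE8 (k / 240) (k % 240))) = true := by decide +kernel
theorem e8Cneg_71_54120 : allRange 54120 54140 ((fun k => commNegCheck Cfsg.Lie.chevE8 (k / 240) (k % 240))) = true := by decide +kernel
theorem e8Cneg_71_54140 : allRange 54140 54160 ((fun k => commNegCheck Cfsg.Lie.chevE8 (k / 240) (k % 240))) = true := by decide +kernel
theorem e8Cneg_71_54160 : allRange 54160 54180 ((fun k => commNegCheck Cfsg.Lie.chevE8 (k / 240) (k % 240))) = true := by decide +kernel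
theorem e8Cneg_71_54180 : allRange 54180 54200 ((fun k => commNegCheck Cfsg.Lie.chevE8 (k / 240) (k % 240))) = true := by decide +kernel
theorem e8Cneg_71_54200 : allRange 54200 54220 ((fun k => commNegCheck Cfsg.Lie.chevE8 (k / 240) (k % 240))) = true := by decide +kernel
theorem e8Cneg_71_54220 : allRange 54220 54240 ((fun k => commNegCheck Cfsg.Lie.chevE8 (k / 240) (k % 240))) = true := by decide +kernel
theorem e8Cneg_71_54240 : allRange 54240 54260 ((fun k => commNegCheck Cfsg.Lie.chevE8 (k / 240) (k % 240))) = true := by decide +kernel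
theorem e8Cneg_71_54260 : allRange 54260 54280 ((fun k => commNegCheck Cfsg.Lie.chevE8 (k / 240) (k % 240))) = true := by decide +kernel
theorem e8Cneg_71_54280 : allRange 54280 54300 ((fun k => commNegCheck Cfsg.Lie.chevE8 (k / 240) (k % 240))) = true := by decide +kernel
theorem e8Cneg_71_54300 : allRange 54300 54320 ((fun k => commNegCheck Cfsg.Lie.chevE8 (k / 240) (k % 240))) = true := by decide +kernel
theorem e8Cneg_71_54320 : allRange 54320 54340 ((fun k => commNegCheck Cfsg.Lie.chevE8 (k / 240) (k % 240))) = true := by decide +kernel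
theorem e8Cneg_71_54340 : allRange 54340 54360 ((fun k => commNegCheck Cfsg.Lie.chevE8 (k / 240) (k % 240))) = true := by decide +kernel
theorem e8Cneg_71_54360 : allRange 54360 54380 ((fun k => commNegCheck Cfsg.Lie.chevE8 (k / 240) (k % 240))) = true := by decide +kernel
theorem e8Cneg_71_54380 : allRange 54380 54400 ((fun k => commNegCheck Cfsg.Lie.chevE8 (k / 240) (k % 240))) = true := by decide +kernel
theorem e8Cneg_71_54400 : allRange 54400 54420 ((fun k => commNegCheck Cfsg.Lie.chevE8 (k / 240) (k % 240))) = true := by decide +kernel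
theorem e8Cneg_71_54420 : allRange 54420 54440 ((fun k => commNegCheck Cfsg.Lie.chevE8 (k / 240) (k % 240))) = true := by decide +kernel
theorem e8Cneg_71_54440 : allRange 54440 54460 ((fun k => commNegCheck Cfsg.Lie.chevE8 (k / 240) (k % 240))) = true := by decide +kernel
theorem e8Cneg_71_54460 : allRange 54460 54480 ((fun k => commNegCheck Cfsg.Lie.chevE8 (k / 240) (k % 240))) = true := by decide +kernel
theorem e8Cneg_71_54480 : allRange 54480 54500 ((fun k => commNegCheck Cfsg.Lie.chevE8 (k / 240) (k % 240))) = true := by decide +kernel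
theorem e8Cneg_71_54500 : allRange 54500 54520 ((fun k => commNegCheck Cfsg.Lie.chevE8 (k / 240) (k % 240))) = true := by decide +kernel
theorem e8Cneg_71_54520 : allRange 54520 54540 ((fun k => commNegCheck Cfsg.Lie.chevE8 (k / 240) (k % 240))) = true := by decide +kernel
theorem e8Cneg_71_54540 : allRange 54540 54560 ((fun k => commNegCheck Cfsg.Lie.chevE8 (k / 240) (k % 240))) = true := by decide +kernel
theorem e8Cneg_71_54560 : allRange 54560 54580 ((fun k => commNegCheck Cfsg.Lie.chevE8 (k / 240) (k % 240))) = true := by decide +kernel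
theorem e8Cneg_71_54580 : allRange 54580 54600 ((fun k => commNegCheck Cfsg.Lie.chevE8 (k / 240) (k % 240))) = true := by decide +kernel
theorem e8Cneg_71_54600 : allRange 54600 54620 ((fun k => commNegCheck Cfsg.Lie.chevE8 (k / 240) (k % 240))) = true := by decide +kernel
theorem e8Cneg_71_54620 : allRange 54620 54640 ((fun k => commNegCheck Cfsg.Lie.chevE8 (k / 240) (k % 240))) = true := by decide +kernel
theorem e8Cneg_71_54640 : allRange 54640 54660 ((fun k => commNegCheck Cfsg.Lie.chevE8 (k / 240) (k % 240))) = true := by decide +kernel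
theorem e8Cneg_71_54660 : allRange 54660 54680 ((fun k => commNegCheck Cfsg.Lie.chevE8 (k / 240) (k % 240))) = true := by decide +kernel
theorem e8Cneg_71_54680 : allRange 54680 54700 ((fun k => commNegCheck Cfsg.Lie.chevE8 (k / 240) (k % 240))) = true := by decide +kernel
theorem e8Cneg_71_54700 : allRange 54700 54720 ((fun k => commNegCheck Cfsg.Lie.chevE8 (k / 240) (k % 240))) = true := by decide +kernel

/-- The commutator formula of type E8 for opposite roots (roots 53960 to 54719). -/
theorem e8Cneg_71 : ∀ r, 53960 ≤ r → r < 54720 → ((fun k => commNegCheck Cfsg.Lie.chevE8 (k / 240) (k % 240))) r = true := by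
  intro r h1 h2
  by_cases c0 : r < 53980
  · exact allRange_spec e8Cneg_71_53960 r (by omega) c0
  by_cases c1 : r < 54000
  · exact allRange_spec e8Cneg_71_53980 r (by omega) c1
  by_cases c2 : r < 54020
  · exact allRange_spec e8Cneg_71_54000 r (by omega) c2
  by_cases c3 : r < 54040
  · exact allRange_spec e8Cneg_71_54020 r (by omega) c3
  by_cases c4 : r < 54060
  · exact allRange_spec e8Cneg_71_54040 r (by omega) c4
  by_cases c5 : r < 54080
  · exact allRange_spec e8Cneg_71_54060 r (by omega) c5
  by_cases c6 : r < 54100
  · exact allRange_spec e8Cneg_71_54080 r (by omega) c6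
  by_cases c7 : r < 54120
  · exact allRange_spec e8Cneg_71_54100 r (by omega) c7
  by_cases c8 : r < 54140
  · exact allRange_spec e8Cneg_71_54120 r (by omega) c8
  by_cases c9 : r < 54160
  · exact allRange_spec e8Cneg_71_54140 r (by omega) c9
  by_cases c10 : r < 54180
  · exact allRange_spec e8Cneg_71_54160 r (by omega) c10
  by_cases c11 : r < 54200
  · exact allRange_spec e8Cneg_71_54180 r (by omega) c11
  by_cases c12 : r < 54220
  · exact allRange_spec e8Cneg_71_54200 r (by omega) c12
  by_cases c13 : r < 54240
  · exact allRange_spec e8Cneg_71_54220 r (by omega) c13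
  by_cases c14 : r < 54260
  · exact allRange_spec e8Cneg_71_54240 r (by omega) c14
  by_cases c15 : r < 54280
  · exact allRange_spec e8Cneg_71_54260 r (by omega) c15
  by_cases c16 : r < 54300
  · exact allRange_spec e8Cneg_71_54280 r (by omega) c16
  by_cases c17 : r < 54320
  · exact allRange_spec e8Cneg_71_54300 r (by omega) c17
  by_cases c18 : r < 54340
  · exact allRange_spec e8Cneg_71_54320 r (by omega) c18
  by_cases c19 : r < 54360
  · exact allRange_spec e8Cneg_71_54340 r (by omega) c19
  by_cases c20 : r < 54380
  · exact allRange_spec e8Cneg_71_54360 r (by omega) c20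
  by_cases c21 : r < 54400
  · exact allRange_spec e8Cneg_71_54380 r (by omega) c21
  by_cases c22 : r < 54420
  · exact allRange_spec e8Cneg_71_54400 r (by omega) c22
  by_cases c23 : r < 54440
  · exact allRange_spec e8Cneg_71_54420 r (by omega) c23
  by_cases c24 : r < 54460
  · exact allRange_spec e8Cneg_71_54440 r (by omega) c24
  by_cases c25 : r < 54480
  · exact allRange_spec e8Cneg_71_54460 r (by omega) c25
  by_cases c26 : r < 54500
  · exact allRange_spec e8Cneg_71_54480 r (by omega) c26
  by_cases c27 : r < 54520
  · exact allRange_spec e8Cneg_71_54500 r (by omega) c27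
  by_cases c28 : r < 54540
  · exact allRange_spec e8Cneg_71_54520 r (by omega) c28
  by_cases c29 : r < 54560
  · exact allRange_spec e8Cneg_71_54540 r (by omega) c29
  by_cases c30 : r < 54580
  · exact allRange_spec e8Cneg_71_54560 r (by omega) c30
  by_cases c31 : r < 54600
  · exact allRange_spec e8Cneg_71_54580 r (by omega) c31
  by_cases c32 : r < 54620
  · exact allRange_spec e8Cneg_71_54600 r (by omega) c32
  by_cases c33 : r < 54640
  · exact allRange_spec e8Cneg_71_54620 r (by omega) c33
  by_cases c34 : r < 54660
  · exact allRange_spec e8Cneg_71_54640 r (by omega) c34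
  by_cases c35 : r < 54680
  · exact allRange_spec e8Cneg_71_54660 r (by omega) c35
  by_cases c36 : r < 54700
  · exact allRange_spec e8Cneg_71_54680 r (by omega) c36
  exact allRange_spec e8Cneg_71_54700 r (by omega) h2

end Cfsg.Agent.Lib.Helper3.ChevM
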