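import Cfsg.Prelude.Def_ChevE8
import Cfsg.Agent.Lib.Helper3.StB5
set_option autoImplicit false
set_option maxRecDepth 1000000
set_option Elab.async false

namespace Cfsg.Agent.Lib.Helper3.ChevM
open Cfsg.Agent.Lib.Helper3.StB

theorem e8Cneg_73_55480 : allRange 55480 55500 ((fun k => commNegCheck Cfsg.Lie.chevE8 (k / 240) (k % 240))) = true := by decide +kernel
theorem e8Cneg_73_55500 : allRange 55500 55520 ((fun k => commNegCheck Cfsg.Lie.chevE8 (k / 240) (k % 240))) = true := by decide +kernel
theorem e8Cneg_73_55520 : allRange 55520 55540 ((fun k => commNegCheck Cfsg.Lie.chevE8 (k / 240) (k % 240))) = true := by decide +kernel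
theorem e8Cneg_73_55540 : allRange 55540 55560 ((fun k => commNegCheck Cfsg.Lie.chevE8 (k / 240) (k % 240))) = true := by decide +kernel
theorem e8Cneg_73_55560 : allRange 55560 55580 ((fun k => commNegCheck Cfsg.Lie.chevE8 (k / 240) (k % 240))) = true := by decide +kernel
theorem e8Cneg_73_55580 : allRange 55580 55600 ((fun k => commNegCheck Cfsg.Lie.chevE8 (k / 240) (k % 240))) = true := by decide +kernel
theorem e8Cneg_73_55600 : allRange 55600 55620 ((fun k => commNegCheck Cfsg.Lie.chevE8 (k / 240) (k % 240))) = true := by decide +kernel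
theorem e8Cneg_73_55620 : allRange 55620 55640 ((fun k => commNegCheck Cfsg.Lie.chevE8 (k / 240) (k % 240))) = true := by decide +kernel
theorem e8Cneg_73_55640 : allRange 55640 55660 ((fun k => commNegCheck Cfsg.Lie.chevE8 (k / 240) (k % 240))) = true := by decide +kernel
theorem e8Cneg_73_55660 : allRange 55660 55680 ((fun k => commNegCheck Cfsg.Lie.chevE8 (k / 240) (k % 240))) = true := by decide +kernel
theorem e8Cneg_73_55680 : allRange 55680 55700 ((fun k => commNegCheck Cfsg.Lie.chevE8 (k / 240) (k % 240))) = true := by decide +kernel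
theorem e8Cneg_73_55700 : allRange 55700 55720 ((fun k => commNegCheck Cfsg.Lie.chevE8 (k / 240) (k % 240))) = true := by decide +kernel
theorem e8Cneg_73_55720 : allRange 55720 55740 ((fun k => commNegCheck Cfsg.Lie.chevE8 (k / 240) (k % 240))) = true := by decide +kernel
theorem e8Cneg_73_55740 : allRange 55740 55760 ((fun k => commNegCheck Cfsg.Lie.chevE8 (k / 240) (k % 240))) = true := by decide +kernel
theorem e8Cneg_73_55760 : allRange 55760 55780 ((fun k => commNegCheck Cfsg.Lie.chevE8 (k / 240) (k % 240))) = true := by decide +kernel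
theorem e8Cneg_73_55780 : allRange 55780 55800 ((fun k => commNegCheck Cfsg.Lie.chevE8 (k / 240) (k % 240))) = true := by decide +kernel
theorem e8Cneg_73_55800 : allRange 55800 55820 ((fun k => commNegCheck Cfsg.Lie.chevE8 (k / 240) (k % 240))) = true := by decide +kernel
theorem e8Cneg_73_55820 : allRange 55820 55840 ((fun k => commNegCheck Cfsg.Lie.chevE8 (k / 240) (k % 240))) = true := by decide +kernel
theorem e8Cneg_73_55840 : allRange 55840 55860 ((fun k => commNegCheck Cfsg.Lie.chevE8 (k / 240) (k % 240))) = true := by decide +kernel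
theorem e8Cneg_73_55860 : allRange 55860 55880 ((fun k => commNegCheck Cfsg.Lie.chevE8 (k / 240) (k % 240))) = true := by decide +kernel
theorem e8Cneg_73_55880 : allRange 55880 55900 ((fun k => commNegCheck Cfsg.Lie.chevE8 (k / 240) (k % 240))) = true := by decide +kernel
theorem e8Cneg_73_55900 : allRange 55900 55920 ((fun k => commNegCheck Cfsg.Lie.chevE8 (k / 240) (k % 240))) = true := by decide +kernel
theorem e8Cneg_73_55920 : allRange 55920 55940 ((fun k => commNegCheck Cfsg.Lie.chevE8 (k / 240) (k % 240))) = true := by decide +kernel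
theorem e8Cneg_73_55940 : allRange 55940 55960 ((fun k => commNegCheck Cfsg.Lie.chevE8 (k / 240) (k % 240))) = true := by decide +kernel
theorem e8Cneg_73_55960 : allRange 55960 55980 ((fun k => commNegCheck Cfsg.Lie.chevE8 (k / 240) (k % 240))) = true := by decide +kernel
theorem e8Cneg_73_55980 : allRange 55980 56000 ((fun k => commNegCheck Cfsg.Lie.chevE8 (k / 240) (k % 240))) = true := by decide +kernel
theorem e8Cneg_73_56000 : allRange 56000 56020 ((fun k => commNegCheck Cfsg.Lie.chevE8 (k / 240) (k % 240))) = true := by decide +kernel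
theorem e8Cneg_73_56020 : allRange 56020 56040 ((fun k => commNegCheck Cfsg.Lie.chevE8 (k / 240) (k % 240))) = true := by decide +kernel
theorem e8Cneg_73_56040 : allRange 56040 56060 ((fun k => commNegCheck Cfsg.Lie.chevE8 (k / 240) (k % 240))) = true := by decide +kernel
theorem e8Cneg_73_56060 : allRange 56060 56080 ((fun k => commNegCheck Cfsg.Lie.chevE8 (k / 240) (k % 240))) = true := by decide +kernel
theorem e8Cneg_73_56080 : allRange 56080 56100 ((fun k => commNegCheck Cfsg.Lie.chevE8 (k / 240) (k % 240))) = true := by decide +kernel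
theorem e8Cneg_73_56100 : allRange 56100 56120 ((fun k => commNegCheck Cfsg.Lie.chevE8 (k / 240) (k % 240))) = true := by decide +kernel
theorem e8Cneg_73_56120 : allRange 56120 56140 ((fun k => commNegCheck Cfsg.Lie.chevE8 (k / 240) (k % 240))) = true := by decide +kernel
theorem e8Cneg_73_56140 : allRange 56140 56160 ((fun k => commNegCheck Cfsg.Lie.chevE8 (k / 240) (k % 240))) = true := by decide +kernel
theorem e8Cneg_73_56160 : allRange 56160 56180 ((fun k => commNegCheck Cfsg.Lie.chevE8 (k / 240) (k % 240))) = true := by decide +kernel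
theorem e8Cneg_73_56180 : allRange 56180 56200 ((fun k => commNegCheck Cfsg.Lie.chevE8 (k / 240) (k % 240))) = true := by decide +kernel
theorem e8Cneg_73_56200 : allRange 56200 56220 ((fun k => commNegCheck Cfsg.Lie.chevE8 (k / 240) (k % 240))) = true := by decide +kernel
theorem e8Cneg_73_56220 : allRange 56220 56240 ((fun k => commNegCheck Cfsg.Lie.chevE8 (k / 240) (k % 240))) = true := by decide +kernel

/-- The commutator formula of type E8 for opposite roots (roots 55480 to 56239). -/
theorem e8Cneg_73 : ∀ r, 55480 ≤ r → r < 56240 → ((fun k => commNegCheck Cfsg.Lie.chevE8 (k / 240) (k % 240))) r = true := by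
  intro r h1 h2
  by_cases c0 : r < 55500
  · exact allRange_spec e8Cneg_73_55480 r (by omega) c0
  by_cases c1 : r < 55520
  · exact allRange_spec e8Cneg_73_55500 r (by omega) c1
  by_cases c2 : r < 55540
  · exact allRange_spec e8Cneg_73_55520 r (by omega) c2
  by_cases c3 : r < 55560
  · exact allRange_spec e8Cneg_73_55540 r (by omega) c3
  by_cases c4 : r < 55580
  · exact allRange_spec e8Cneg_73_55560 r (by omega) c4
  by_cases c5 : r < 55600
  · exact allRange_spec e8Cneg_73_55580 r (by omega) c5
  by_cases c6 : r < 55620
  · exact allRange_spec e8Cneg_73_55600 r (by omega) c6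
  by_cases c7 : r < 55640
  · exact allRange_spec e8Cneg_73_55620 r (by omega) c7
  by_cases c8 : r < 55660
  · exact allRange_spec e8Cneg_73_55640 r (by omega) c8
  by_cases c9 : r < 55680
  · exact allRange_spec e8Cneg_73_55660 r (by omega) c9
  by_cases c10 : r < 55700
  · exact allRange_spec e8Cneg_73_55680 r (by omega) c10
  by_cases c11 : r < 55720
  · exact allRange_spec e8Cneg_73_55700 r (by omega) c11
  by_cases c12 : r < 55740
  · exact allRange_spec e8Cneg_73_55720 r (by omega) c12
  by_cases c13 : r < 55760
  · exact allRange_spec e8Cneg_73_55740 r (by omega) c13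
  by_cases c14 : r < 55780
  · exact allRange_spec e8Cneg_73_55760 r (by omega) c14
  by_cases c15 : r < 55800
  · exact allRange_spec e8Cneg_73_55780 r (by omega) c15
  by_cases c16 : r < 55820
  · exact allRange_spec e8Cneg_73_55800 r (by omega) c16
  by_cases c17 : r < 55840
  · exact allRange_spec e8Cneg_73_55820 r (by omega) c17
  by_cases c18 : r < 55860
  · exact allRange_spec e8Cneg_73_55840 r (by omega) c18
  by_cases c19 : r < 55880
  · exact allRange_spec e8Cneg_73_55860 r (by omega) c19
  by_cases c20 : r < 55900
  · exact allRange_spec e8Cneg_73_55880 r (by omega) c20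
  by_cases c21 : r < 55920
  · exact allRange_spec e8Cneg_73_55900 r (by omega) c21
  by_cases c22 : r < 55940
  · exact allRange_spec e8Cneg_73_55920 r (by omega) c22
  by_cases c23 : r < 55960
  · exact allRange_spec e8Cneg_73_55940 r (by omega) c23
  by_cases c24 : r < 55980
  · exact allRange_spec e8Cneg_73_55960 r (by omega) c24
  by_cases c25 : r < 56000
  · exact allRange_spec e8Cneg_73_55980 r (by omega) c25
  by_cases c26 : r < 56020
  · exact allRange_spec e8Cneg_73_56000 r (by omega) c26
  by_cases c27 : r < 56040
  · exact allRange_spec e8Cneg_73_56020 r (by omega) c27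
  by_cases c28 : r < 56060
  · exact allRange_spec e8Cneg_73_56040 r (by omega) c28
  by_cases c29 : r < 56080
  · exact allRange_spec e8Cneg_73_56060 r (by omega) c29
  by_cases c30 : r < 56100
  · exact allRange_spec e8Cneg_73_56080 r (by omega) c30
  by_cases c31 : r < 56120
  · exact allRange_spec e8Cneg_73_56100 r (by omega) c31
  by_cases c32 : r < 56140
  · exact allRange_spec e8Cneg_73_56120 r (by omega) c32
  by_cases c33 : r < 56160
  · exact allRange_spec e8Cneg_73_56140 r (by omega) c33
  by_cases c34 : r < 56180
  · exact allRange_spec e8Cneg_73_56160 r (by omega) c34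
  by_cases c35 : r < 56200
  · exact allRange_spec e8Cneg_73_56180 r (by omega) c35
  by_cases c36 : r < 56220
  · exact allRange_spec e8Cneg_73_56200 r (by omega) c36
  exact allRange_spec e8Cneg_73_56220 r (by omega) h2

end Cfsg.Agent.Lib.Helper3.ChevM
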