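import Cfsg.Prelude.Def_ChevE8
import Cfsg.Agent.Lib.Helper3.StB5
set_option autoImplicit false
set_option maxRecDepth 1000000
set_option Elab.async false

namespace Cfsg.Agent.Lib.Helper3.ChevM
open Cfsg.Agent.Lib.Helper3.StB

theorem e8Cneg_74_56240 : allRange 56240 56260 ((fun k => commNegCheck Cfsg.Lie.chevE8 (k / 240) (k % 240))) = true := by decide +kernel
theorem e8Cneg_74_56260 : allRange 56260 56280 ((fun k => commNegCheck Cfsg.Lie.chevE8 (k / 240) (k % 240))) = true := by decide +kernel
theorem e8Cneg_74_56280 : allRange 56280 56300 ((fun k => commNegCheck Cfsg.Lie.chevE8 (k / 240) (k % 240))) = true := by decide +kernel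
theorem e8Cneg_74_56300 : allRange 56300 56320 ((fun k => commNegCheck Cfsg.Lie.chevE8 (k / 240) (k % 240))) = true := by decide +kernel
theorem e8Cneg_74_56320 : allRange 56320 56340 ((fun k => commNegCheck Cfsg.Lie.chevE8 (k / 240) (k % 240))) = true := by decide +kernel
theorem e8Cneg_74_56340 : allRange 56340 56360 ((fun k => commNegCheck Cfsg.Lie.chevE8 (k / 240) (k % 240))) = true := by decide +kernel
theorem e8Cneg_74_56360 : allRange 56360 56380 ((fun k => commNegCheck Cfsg.Lie.chevE8 (k / 240) (k % 240))) = true := by decide +kernel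
theorem e8Cneg_74_56380 : allRange 56380 56400 ((fun k => commNegCheck Cfsg.Lie.chevE8 (k / 240) (k % 240))) = true := by decide +kernel
theorem e8Cneg_74_56400 : allRange 56400 56420 ((fun k => commNegCheck Cfsg.Lie.chevE8 (k / 240) (k % 240))) = true := by decide +kernel
theorem e8Cneg_74_56420 : allRange 56420 56440 ((fun k => commNegCheck Cfsg.Lie.chevE8 (k / 240) (k % 240))) = true := by decide +kernel
theorem e8Cneg_74_56440 : allRange 56440 56460 ((fun k => commNegCheck Cfsg.Lie.chevE8 (k / 240) (k % 240))) = true := by decide +kernel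
theorem e8Cneg_74_56460 : allRange 56460 56480 ((fun k => commNegCheck Cfsg.Lie.chevE8 (k / 240) (k % 240))) = true := by decide +kernel
theorem e8Cneg_74_56480 : allRange 56480 56500 ((fun k => commNegCheck Cfsg.Lie.chevE8 (k / 240) (k % 240))) = true := by decide +kernel
theorem e8Cneg_74_56500 : allRange 56500 56520 ((fun k => commNegCheck Cfsg.Lie.chevE8 (k / 240) (k % 240))) = true := by decide +kernel
theorem e8Cneg_74_56520 : allRange 56520 56540 ((fun k => commNegCheck Cfsg.Lie.chevE8 (k / 240) (k % 240))) = true := by decide +kernel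
theorem e8Cneg_74_56540 : allRange 56540 56560 ((fun k => commNegCheck Cfsg.Lie.chevE8 (k / 240) (k % 240))) = true := by decide +kernel
theorem e8Cneg_74_56560 : allRange 56560 56580 ((fun k => commNegCheck Cfsg.Lie.chevE8 (k / 240) (k % 240))) = true := by decide +kernel
theorem e8Cneg_74_56580 : allRange 56580 56600 ((fun k => commNegCheck Cfsg.Lie.chevE8 (k / 240) (k % 240))) = true := by decide +kernel
theorem e8Cneg_74_56600 : allRange 56600 56620 ((fun k => commNegCheck Cfsg.Lie.chevE8 (k / 240) (k % 240))) = true := by decide +kernel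
theorem e8Cneg_74_56620 : allRange 56620 56640 ((fun k => commNegCheck Cfsg.Lie.chevE8 (k / 240) (k % 240))) = true := by decide +kernel
theorem e8Cneg_74_56640 : allRange 56640 56660 ((fun k => commNegCheck Cfsg.Lie.chevE8 (k / 240) (k % 240))) = true := by decide +kernel
theorem e8Cneg_74_56660 : allRange 56660 56680 ((fun k => commNegCheck Cfsg.Lie.chevE8 (k / 240) (k % 240))) = true := by decide +kernel
theorem e8Cneg_74_56680 : allRange 56680 56700 ((fun k => commNegCheck Cfsg.Lie.chevE8 (k / 240) (k % 240))) = true := by decide +kernel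
theorem e8Cneg_74_56700 : allRange 56700 56720 ((fun k => commNegCheck Cfsg.Lie.chevE8 (k / 240) (k % 240))) = true := by decide +kernel
theorem e8Cneg_74_56720 : allRange 56720 56740 ((fun k => commNegCheck Cfsg.Lie.chevE8 (k / 240) (k % 240))) = true := by decide +kernel
theorem e8Cneg_74_56740 : allRange 56740 56760 ((fun k => commNegCheck Cfsg.Lie.chevE8 (k / 240) (k % 240))) = true := by decide +kernel
theorem e8Cneg_74_56760 : allRange 56760 56780 ((fun k => commNegCheck Cfsg.Lie.chevE8 (k / 240) (k % 240))) = true := by decide +kernel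
theorem e8Cneg_74_56780 : allRange 56780 56800 ((fun k => commNegCheck Cfsg.Lie.chevE8 (k / 240) (k % 240))) = true := by decide +kernel
theorem e8Cneg_74_56800 : allRange 56800 56820 ((fun k => commNegCheck Cfsg.Lie.chevE8 (k / 240) (k % 240))) = true := by decide +kernel
theorem e8Cneg_74_56820 : allRange 56820 56840 ((fun k => commNegCheck Cfsg.Lie.chevE8 (k / 240) (k % 240))) = true := by decide +kernel
theorem e8Cneg_74_56840 : allRange 56840 56860 ((fun k => commNegCheck Cfsg.Lie.chevE8 (k / 240) (k % 240))) = true := by decide +kernel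
theorem e8Cneg_74_56860 : allRange 56860 56880 ((fun k => commNegCheck Cfsg.Lie.chevE8 (k / 240) (k % 240))) = true := by decide +kernel
theorem e8Cneg_74_56880 : allRange 56880 56900 ((fun k => commNegCheck Cfsg.Lie.chevE8 (k / 240) (k % 240))) = true := by decide +kernel
theorem e8Cneg_74_56900 : allRange 56900 56920 ((fun k => commNegCheck Cfsg.Lie.chevE8 (k / 240) (k % 240))) = true := by decide +kernel
theorem e8Cneg_74_56920 : allRange 56920 56940 ((fun k => commNegCheck Cfsg.Lie.chevE8 (k / 240) (k % 240))) = true := by decide +kernel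
theorem e8Cneg_74_56940 : allRange 56940 56960 ((fun k => commNegCheck Cfsg.Lie.chevE8 (k / 240) (k % 240))) = true := by decide +kernel
theorem e8Cneg_74_56960 : allRange 56960 56980 ((fun k => commNegCheck Cfsg.Lie.chevE8 (k / 240) (k % 240))) = true := by decide +kernel
theorem e8Cneg_74_56980 : allRange 56980 57000 ((fun k => commNegCheck Cfsg.Lie.chevE8 (k / 240) (k % 240))) = true := by decide +kernel

/-- The commutator formula of type E8 for opposite roots (roots 56240 to 56999). -/
theorem e8Cneg_74 : ∀ r, 56240 ≤ r → r < 57000 → ((fun k => commNegCheck Cfsg.Lie.chevE8 (k / 240) (k % 240))) r = true := by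
  intro r h1 h2
  by_cases c0 : r < 56260
  · exact allRange_spec e8Cneg_74_56240 r (by omega) c0
  by_cases c1 : r < 56280
  · exact allRange_spec e8Cneg_74_56260 r (by omega) c1
  by_cases c2 : r < 56300
  · exact allRange_spec e8Cneg_74_56280 r (by omega) c2
  by_cases c3 : r < 56320
  · exact allRange_spec e8Cneg_74_56300 r (by omega) c3
  by_cases c4 : r < 56340
  · exact allRange_spec e8Cneg_74_56320 r (by omega) c4
  by_cases c5 : r < 56360
  · exact allRange_spec e8Cneg_74_56340 r (by omega) c5
  by_cases c6 : r < 56380
  · exact allRange_spec e8Cneg_74_56360 r (by omega) c6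
  by_cases c7 : r < 56400
  · exact allRange_spec e8Cneg_74_56380 r (by omega) c7
  by_cases c8 : r < 56420
  · exact allRange_spec e8Cneg_74_56400 r (by omega) c8
  by_cases c9 : r < 56440
  · exact allRange_spec e8Cneg_74_56420 r (by omega) c9
  by_cases c10 : r < 56460
  · exact allRange_spec e8Cneg_74_56440 r (by omega) c10
  by_cases c11 : r < 56480
  · exact allRange_spec e8Cneg_74_56460 r (by omega) c11
  by_cases c12 : r < 56500
  · exact allRange_spec e8Cneg_74_56480 r (by omega) c12
  by_cases c13 : r < 56520
  · exact allRange_spec e8Cneg_74_56500 r (by omega) c13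
  by_cases c14 : r < 56540
  · exact allRange_spec e8Cneg_74_56520 r (by omega) c14
  by_cases c15 : r < 56560
  · exact allRange_spec e8Cneg_74_56540 r (by omega) c15
  by_cases c16 : r < 56580
  · exact allRange_spec e8Cneg_74_56560 r (by omega) c16
  by_cases c17 : r < 56600
  · exact allRange_spec e8Cneg_74_56580 r (by omega) c17
  by_cases c18 : r < 56620
  · exact allRange_spec e8Cneg_74_56600 r (by omega) c18
  by_cases c19 : r < 56640
  · exact allRange_spec e8Cneg_74_56620 r (by omega) c19
  by_cases c20 : r < 56660
  · exact allRange_spec e8Cneg_74_56640 r (by omega) c20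
  by_cases c21 : r < 56680
  · exact allRange_spec e8Cneg_74_56660 r (by omega) c21
  by_cases c22 : r < 56700
  · exact allRange_spec e8Cneg_74_56680 r (by omega) c22
  by_cases c23 : r < 56720
  · exact allRange_spec e8Cneg_74_56700 r (by omega) c23
  by_cases c24 : r < 56740
  · exact allRange_spec e8Cneg_74_56720 r (by omega) c24
  by_cases c25 : r < 56760
  · exact allRange_spec e8Cneg_74_56740 r (by omega) c25
  by_cases c26 : r < 56780
  · exact allRange_spec e8Cneg_74_56760 r (by omega) c26
  by_cases c27 : r < 56800
  · exact allRange_spec e8Cneg_74_56780 r (by omega) c27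
  by_cases c28 : r < 56820
  · exact allRange_spec e8Cneg_74_56800 r (by omega) c28
  by_cases c29 : r < 56840
  · exact allRange_spec e8Cneg_74_56820 r (by omega) c29
  by_cases c30 : r < 56860
  · exact allRange_spec e8Cneg_74_56840 r (by omega) c30
  by_cases c31 : r < 56880
  · exact allRange_spec e8Cneg_74_56860 r (by omega) c31
  by_cases c32 : r < 56900
  · exact allRange_spec e8Cneg_74_56880 r (by omega) c32
  by_cases c33 : r < 56920
  · exact allRange_spec e8Cneg_74_56900 r (by omega) c33
  by_cases c34 : r < 56940
  · exact allRange_spec e8Cneg_74_56920 r (by omega) c34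
  by_cases c35 : r < 56960
  · exact allRange_spec e8Cneg_74_56940 r (by omega) c35
  by_cases c36 : r < 56980
  · exact allRange_spec e8Cneg_74_56960 r (by omega) c36
  exact allRange_spec e8Cneg_74_56980 r (by omega) h2

end Cfsg.Agent.Lib.Helper3.ChevM
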