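import Cfsg.Prelude.Def_ChevE8
import Cfsg.Agent.Lib.Helper3.StB5
set_option autoImplicit false
set_option maxRecDepth 1000000
set_option Elab.async false

namespace Cfsg.Agent.Lib.Helper3.ChevM
open Cfsg.Agent.Lib.Helper3.StB

theorem e8Cneg_75_57000 : allRange 57000 57020 ((fun k => commNegCheck Cfsg.Lie.chevE8 (k / 240) (k % 240))) = true := by decide +kernel
theorem e8Cneg_75_57020 : allRange 57020 57040 ((fun k => commNegCheck Cfsg.Lie.chevE8 (k / 240) (k % 240))) = true := by decide +kernel
theorem e8Cneg_75_57040 : allRange 57040 57060 ((fun k => commNegCheck Cfsg.Lie.chevE8 (k / 240) (k % 240))) = true := by decide +kernel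
theorem e8Cneg_75_57060 : allRange 57060 57080 ((fun k => commNegCheck Cfsg.Lie.chevE8 (k / 240) (k % 240))) = true := by decide +kernel
theorem e8Cneg_75_57080 : allRange 57080 57100 ((fun k => commNegCheck Cfsg.Lie.chevE8 (k / 240) (k % 240))) = true := by decide +kernel
theorem e8Cneg_75_57100 : allRange 57100 57120 ((fun k => commNegCheck Cfsg.Lie.chevE8 (k / 240) (k % 240))) = true := by decide +kernel
theorem e8Cneg_75_57120 : allRange 57120 57140 ((fun k => commNegCheck Cfsg.Lie.chevE8 (k / 240) (k % 240))) = true := by decide +kernel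
theorem e8Cneg_75_57140 : allRange 57140 57160 ((fun k => commNegCheck Cfsg.Lie.chevE8 (k / 240) (k % 240))) = true := by decide +kernel
theorem e8Cneg_75_57160 : allRange 57160 57180 ((fun k => commNegCheck Cfsg.Lie.chevE8 (k / 240) (k % 240))) = true := by decide +kernel
theorem e8Cneg_75_57180 : allRange 57180 57200 ((fun k => commNegCheck Cfsg.Lie.chevE8 (k / 240) (k % 240))) = true := by decide +kernel
theorem e8Cneg_75_57200 : allRange 57200 57220 ((fun k => commNegCheck Cfsg.Lie.chevE8 (k / 240) (k % 240))) = true := by decide +kernel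
theorem e8Cneg_75_57220 : allRange 57220 57240 ((fun k => commNegCheck Cfsg.Lie.chevE8 (k / 240) (k % 240))) = true := by decide +kernel
theorem e8Cneg_75_57240 : allRange 57240 57260 ((fun k => commNegCheck Cfsg.Lie.chevE8 (k / 240) (k % 240))) = true := by decide +kernel
theorem e8Cneg_75_57260 : allRange 57260 57280 ((fun k => commNegCheck Cfsg.Lie.chevE8 (k / 240) (k % 240))) = true := by decide +kernel
theorem e8Cneg_75_57280 : allRange 57280 57300 ((fun k => commNegCheck Cfsg.Lie.chevE8 (k / 240) (k % 240))) = true := by decide +kernel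
theorem e8Cneg_75_57300 : allRange 57300 57320 ((fun k => commNegCheck Cfsg.Lie.chevE8 (k / 240) (k % 240))) = true := by decide +kernel
theorem e8Cneg_75_57320 : allRange 57320 57340 ((fun k => commNegCheck Cfsg.Lie.chevE8 (k / 240) (k % 240))) = true := by decide +kernel
theorem e8Cneg_75_57340 : allRange 57340 57360 ((fun k => commNegCheck Cfsg.Lie.chevE8 (k / 240) (k % 240))) = true := by decide +kernel
theorem e8Cneg_75_57360 : allRange 57360 57380 ((fun k => commNegCheck Cfsg.Lie.chevE8 (k / 240) (k % 240))) = true := by decide +kernel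
theorem e8Cneg_75_57380 : allRange 57380 57400 ((fun k => commNegCheck Cfsg.Lie.chevE8 (k / 240) (k % 240))) = true := by decide +kernel
theorem e8Cneg_75_57400 : allRange 57400 57420 ((fun k => commNegCheck Cfsg.Lie.chevE8 (k / 240) (k % 240))) = true := by decide +kernel
theorem e8Cneg_75_57420 : allRange 57420 57440 ((fun k => commNegCheck Cfsg.Lie.chevE8 (k / 240) (k % 240))) = true := by decide +kernel
theorem e8Cneg_75_57440 : allRange 57440 57460 ((fun k => commNegCheck Cfsg.Lie.chevE8 (k / 240) (k % 240))) = true := by decide +kernel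
theorem e8Cneg_75_57460 : allRange 57460 57480 ((fun k => commNegCheck Cfsg.Lie.chevE8 (k / 240) (k % 240))) = true := by decide +kernel
theorem e8Cneg_75_57480 : allRange 57480 57500 ((fun k => commNegCheck Cfsg.Lie.chevE8 (k / 240) (k % 240))) = true := by decide +kernel
theorem e8Cneg_75_57500 : allRange 57500 57520 ((fun k => commNegCheck Cfsg.Lie.chevE8 (k / 240) (k % 240))) = true := by decide +kernel
theorem e8Cneg_75_57520 : allRange 57520 57540 ((fun k => commNegCheck Cfsg.Lie.chevE8 (k / 240) (k % 240))) = true := by decide +kernel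
theorem e8Cneg_75_57540 : allRange 57540 57560 ((fun k => commNegCheck Cfsg.Lie.chevE8 (k / 240) (k % 240))) = true := by decide +kernel
theorem e8Cneg_75_57560 : allRange 57560 57580 ((fun k => commNegCheck Cfsg.Lie.chevE8 (k / 240) (k % 240))) = true := by decide +kernel
theorem e8Cneg_75_57580 : allRange 57580 57600 ((fun k => commNegCheck Cfsg.Lie.chevE8 (k / 240) (k % 240))) = true := by decide +kernel

/-- The commutator formula of type E8 for opposite roots (roots 57000 to 57599). -/
theorem e8Cneg_75 : ∀ r, 57000 ≤ r → r < 57600 → ((fun k => commNegCheck Cfsg.Lie.chevE8 (k / 240) (k % 240))) r = true := by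
  intro r h1 h2
  by_cases c0 : r < 57020
  · exact allRange_spec e8Cneg_75_57000 r (by omega) c0
  by_cases c1 : r < 57040
  · exact allRange_spec e8Cneg_75_57020 r (by omega) c1
  by_cases c2 : r < 57060
  · exact allRange_spec e8Cneg_75_57040 r (by omega) c2
  by_cases c3 : r < 57080
  · exact allRange_spec e8Cneg_75_57060 r (by omega) c3
  by_cases c4 : r < 57100
  · exact allRange_spec e8Cneg_75_57080 r (by omega) c4
  by_cases c5 : r < 57120
  · exact allRange_spec e8Cneg_75_57100 r (by omega) c5
  by_cases c6 : r < 57140
  · exact allRange_spec e8Cneg_75_57120 r (by omega) c6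
  by_cases c7 : r < 57160
  · exact allRange_spec e8Cneg_75_57140 r (by omega) c7
  by_cases c8 : r < 57180
  · exact allRange_spec e8Cneg_75_57160 r (by omega) c8
  by_cases c9 : r < 57200
  · exact allRange_spec e8Cneg_75_57180 r (by omega) c9
  by_cases c10 : r < 57220
  · exact allRange_spec e8Cneg_75_57200 r (by omega) c10
  by_cases c11 : r < 57240
  · exact allRange_spec e8Cneg_75_57220 r (by omega) c11
  by_cases c12 : r < 57260
  · exact allRange_spec e8Cneg_75_57240 r (by omega) c12
  by_cases c13 : r < 57280
  · exact allRange_spec e8Cneg_75_57260 r (by omega) c13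
  by_cases c14 : r < 57300
  · exact allRange_spec e8Cneg_75_57280 r (by omega) c14
  by_cases c15 : r < 57320
  · exact allRange_spec e8Cneg_75_57300 r (by omega) c15
  by_cases c16 : r < 57340
  · exact allRange_spec e8Cneg_75_57320 r (by omega) c16
  by_cases c17 : r < 57360
  · exact allRange_spec e8Cneg_75_57340 r (by omega) c17
  by_cases c18 : r < 57380
  · exact allRange_spec e8Cneg_75_57360 r (by omega) c18
  by_cases c19 : r < 57400
  · exact allRange_spec e8Cneg_75_57380 r (by omega) c19
  by_cases c20 : r < 57420
  · exact allRange_spec e8Cneg_75_57400 r (by omega) c20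
  by_cases c21 : r < 57440
  · exact allRange_spec e8Cneg_75_57420 r (by omega) c21
  by_cases c22 : r < 57460
  · exact allRange_spec e8Cneg_75_57440 r (by omega) c22
  by_cases c23 : r < 57480
  · exact allRange_spec e8Cneg_75_57460 r (by omega) c23
  by_cases c24 : r < 57500
  · exact allRange_spec e8Cneg_75_57480 r (by omega) c24
  by_cases c25 : r < 57520
  · exact allRange_spec e8Cneg_75_57500 r (by omega) c25
  by_cases c26 : r < 57540
  · exact allRange_spec e8Cneg_75_57520 r (by omega) c26
  by_cases c27 : r < 57560
  · exact allRange_spec e8Cneg_75_57540 r (by omega) c27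
  by_cases c28 : r < 57580
  · exact allRange_spec e8Cneg_75_57560 r (by omega) c28
  exact allRange_spec e8Cneg_75_57580 r (by omega) h2

end Cfsg.Agent.Lib.Helper3.ChevM
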