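import Cfsg.Prelude.Def_ChevE8
import Cfsg.Agent.Lib.Helper3.StB5
set_option autoImplicit false
set_option maxRecDepth 1000000
set_option Elab.async false

namespace Cfsg.Agent.Lib.Helper3.ChevM
open Cfsg.Agent.Lib.Helper3.StB

theorem e8Cneg_2_1520 : allRange 1520 1540 ((fun k => commNegCheck Cfsg.Lie.chevE8 (k / 240) (k % 240))) = true := by decide +kernel
theorem e8Cneg_2_1540 : allRange 1540 1560 ((fun k => commNegCheck Cfsg.Lie.chevE8 (k / 240) (k % 240))) = true := by decide +kernel
theorem e8Cneg_2_1560 : allRange 1560 1580 ((fun k => commNegCheck Cfsg.Lie.chevE8 (k / 240) (k % 240))) = true := by decide +kernel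
theorem e8Cneg_2_1580 : allRange 1580 1600 ((fun k => commNegCheck Cfsg.Lie.chevE8 (k / 240) (k % 240))) = true := by decide +kernel
theorem e8Cneg_2_1600 : allRange 1600 1620 ((fun k => commNegCheck Cfsg.Lie.chevE8 (k / 240) (k % 240))) = true := by decide +kernel
theorem e8Cneg_2_1620 : allRange 1620 1640 ((fun k => commNegCheck Cfsg.Lie.chevE8 (k / 240) (k % 240))) = true := by decide +kernel
theorem e8Cneg_2_1640 : allRange 1640 1660 ((fun k => commNegCheck Cfsg.Lie.chevE8 (k / 240) (k % 240))) = true := by decide +kernel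
theorem e8Cneg_2_1660 : allRange 1660 1680 ((fun k => commNegCheck Cfsg.Lie.chevE8 (k / 240) (k % 240))) = true := by decide +kernel
theorem e8Cneg_2_1680 : allRange 1680 1700 ((fun k => commNegCheck Cfsg.Lie.chevE8 (k / 240) (k % 240))) = true := by decide +kernel
theorem e8Cneg_2_1700 : allRange 1700 1720 ((fun k => commNegCheck Cfsg.Lie.chevE8 (k / 240) (k % 240))) = true := by decide +kernel
theorem e8Cneg_2_1720 : allRange 1720 1740 ((fun k => commNegCheck Cfsg.Lie.chevE8 (k / 240) (k % 240))) = true := by decide +kernel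
theorem e8Cneg_2_1740 : allRange 1740 1760 ((fun k => commNegCheck Cfsg.Lie.chevE8 (k / 240) (k % 240))) = true := by decide +kernel
theorem e8Cneg_2_1760 : allRange 1760 1780 ((fun k => commNegCheck Cfsg.Lie.chevE8 (k / 240) (k % 240))) = true := by decide +kernel
theorem e8Cneg_2_1780 : allRange 1780 1800 ((fun k => commNegCheck Cfsg.Lie.chevE8 (k / 240) (k % 240))) = true := by decide +kernel
theorem e8Cneg_2_1800 : allRange 1800 1820 ((fun k => commNegCheck Cfsg.Lie.chevE8 (k / 240) (k % 240))) = true := by decide +kernel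
theorem e8Cneg_2_1820 : allRange 1820 1840 ((fun k => commNegCheck Cfsg.Lie.chevE8 (k / 240) (k % 240))) = true := by decide +kernel
theorem e8Cneg_2_1840 : allRange 1840 1860 ((fun k => commNegCheck Cfsg.Lie.chevE8 (k / 240) (k % 240))) = true := by decide +kernel
theorem e8Cneg_2_1860 : allRange 1860 1880 ((fun k => commNegCheck Cfsg.Lie.chevE8 (k / 240) (k % 240))) = true := by decide +kernel
theorem e8Cneg_2_1880 : allRange 1880 1900 ((fun k => commNegCheck Cfsg.Lie.chevE8 (k / 240) (k % 240))) = true := by decide +kernel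
theorem e8Cneg_2_1900 : allRange 1900 1920 ((fun k => commNegCheck Cfsg.Lie.chevE8 (k / 240) (k % 240))) = true := by decide +kernel
theorem e8Cneg_2_1920 : allRange 1920 1940 ((fun k => commNegCheck Cfsg.Lie.chevE8 (k / 240) (k % 240))) = true := by decide +kernel
theorem e8Cneg_2_1940 : allRange 1940 1960 ((fun k => commNegCheck Cfsg.Lie.chevE8 (k / 240) (k % 240))) = true := by decide +kernel
theorem e8Cneg_2_1960 : allRange 1960 1980 ((fun k => commNegCheck Cfsg.Lie.chevE8 (k / 240) (k % 240))) = true := by decide +kernel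
theorem e8Cneg_2_1980 : allRange 1980 2000 ((fun k => commNegCheck Cfsg.Lie.chevE8 (k / 240) (k % 240))) = true := by decide +kernel
theorem e8Cneg_2_2000 : allRange 2000 2020 ((fun k => commNegCheck Cfsg.Lie.chevE8 (k / 240) (k % 240))) = true := by decide +kernel
theorem e8Cneg_2_2020 : allRange 2020 2040 ((fun k => commNegCheck Cfsg.Lie.chevE8 (k / 240) (k % 240))) = true := by decide +kernel
theorem e8Cneg_2_2040 : allRange 2040 2060 ((fun k => commNegCheck Cfsg.Lie.chevE8 (k / 240) (k % 240))) = true := by decide +kernel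
theorem e8Cneg_2_2060 : allRange 2060 2080 ((fun k => commNegCheck Cfsg.Lie.chevE8 (k / 240) (k % 240))) = true := by decide +kernel
theorem e8Cneg_2_2080 : allRange 2080 2100 ((fun k => commNegCheck Cfsg.Lie.chevE8 (k / 240) (k % 240))) = true := by decide +kernel
theorem e8Cneg_2_2100 : allRange 2100 2120 ((fun k => commNegCheck Cfsg.Lie.chevE8 (k / 240) (k % 240))) = true := by decide +kernel
theorem e8Cneg_2_2120 : allRange 2120 2140 ((fun k => commNegCheck Cfsg.Lie.chevE8 (k / 240) (k % 240))) = true := by decide +kernel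
theorem e8Cneg_2_2140 : allRange 2140 2160 ((fun k => commNegCheck Cfsg.Lie.chevE8 (k / 240) (k % 240))) = true := by decide +kernel
theorem e8Cneg_2_2160 : allRange 2160 2180 ((fun k => commNegCheck Cfsg.Lie.chevE8 (k / 240) (k % 240))) = true := by decide +kernel
theorem e8Cneg_2_2180 : allRange 2180 2200 ((fun k => commNegCheck Cfsg.Lie.chevE8 (k / 240) (k % 240))) = true := by decide +kernel
theorem e8Cneg_2_2200 : allRange 2200 2220 ((fun k => commNegCheck Cfsg.Lie.chevE8 (k / 240) (k % 240))) = true := by decide +kernel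
theorem e8Cneg_2_2220 : allRange 2220 2240 ((fun k => commNegCheck Cfsg.Lie.chevE8 (k / 240) (k % 240))) = true := by decide +kernel
theorem e8Cneg_2_2240 : allRange 2240 2260 ((fun k => commNegCheck Cfsg.Lie.chevE8 (k / 240) (k % 240))) = true := by decide +kernel
theorem e8Cneg_2_2260 : allRange 2260 2280 ((fun k => commNegCheck Cfsg.Lie.chevE8 (k / 240) (k % 240))) = true := by decide +kernel

/-- The commutator formula of type E8 for opposite roots (roots 1520 to 2279). -/
theorem e8Cneg_2 : ∀ r, 1520 ≤ r → r < 2280 → ((fun k => commNegCheck Cfsg.Lie.chevE8 (k / 240) (k % 240))) r = true := by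
  intro r h1 h2
  by_cases c0 : r < 1540
  · exact allRange_spec e8Cneg_2_1520 r (by omega) c0
  by_cases c1 : r < 1560
  · exact allRange_spec e8Cneg_2_1540 r (by omega) c1
  by_cases c2 : r < 1580
  · exact allRange_spec e8Cneg_2_1560 r (by omega) c2
  by_cases c3 : r < 1600
  · exact allRange_spec e8Cneg_2_1580 r (by omega) c3
  by_cases c4 : r < 1620
  · exact allRange_spec e8Cneg_2_1600 r (by omega) c4
  by_cases c5 : r < 1640
  · exact allRange_spec e8Cneg_2_1620 r (by omega) c5
  by_cases c6 : r < 1660
  · exact allRange_spec e8Cneg_2_1640 r (by omega) c6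
  by_cases c7 : r < 1680
  · exact allRange_spec e8Cneg_2_1660 r (by omega) c7
  by_cases c8 : r < 1700
  · exact allRange_spec e8Cneg_2_1680 r (by omega) c8
  by_cases c9 : r < 1720
  · exact allRange_spec e8Cneg_2_1700 r (by omega) c9
  by_cases c10 : r < 1740
  · exact allRange_spec e8Cneg_2_1720 r (by omega) c10
  by_cases c11 : r < 1760
  · exact allRange_spec e8Cneg_2_1740 r (by omega) c11
  by_cases c12 : r < 1780
  · exact allRange_spec e8Cneg_2_1760 r (by omega) c12
  by_cases c13 : r < 1800
  · exact allRange_spec e8Cneg_2_1780 r (by omega) c13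
  by_cases c14 : r < 1820
  · exact allRange_spec e8Cneg_2_1800 r (by omega) c14
  by_cases c15 : r < 1840
  · exact allRange_spec e8Cneg_2_1820 r (by omega) c15
  by_cases c16 : r < 1860
  · exact allRange_spec e8Cneg_2_1840 r (by omega) c16
  by_cases c17 : r < 1880
  · exact allRange_spec e8Cneg_2_1860 r (by omega) c17
  by_cases c18 : r < 1900
  · exact allRange_spec e8Cneg_2_1880 r (by omega) c18
  by_cases c19 : r < 1920
  · exact allRange_spec e8Cneg_2_1900 r (by omega) c19
  by_cases c20 : r < 1940
  · exact allRange_spec e8Cneg_2_1920 r (by omega) c20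
  by_cases c21 : r < 1960
  · exact allRange_spec e8Cneg_2_1940 r (by omega) c21
  by_cases c22 : r < 1980
  · exact allRange_spec e8Cneg_2_1960 r (by omega) c22
  by_cases c23 : r < 2000
  · exact allRange_spec e8Cneg_2_1980 r (by omega) c23
  by_cases c24 : r < 2020
  · exact allRange_spec e8Cneg_2_2000 r (by omega) c24
  by_cases c25 : r < 2040
  · exact allRange_spec e8Cneg_2_2020 r (by omega) c25
  by_cases c26 : r < 2060
  · exact allRange_spec e8Cneg_2_2040 r (by omega) c26
  by_cases c27 : r < 2080
  · exact allRange_spec e8Cneg_2_2060 r (by omega) c27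
  by_cases c28 : r < 2100
  · exact allRange_spec e8Cneg_2_2080 r (by omega) c28
  by_cases c29 : r < 2120
  · exact allRange_spec e8Cneg_2_2100 r (by omega) c29
  by_cases c30 : r < 2140
  · exact allRange_spec e8Cneg_2_2120 r (by omega) c30
  by_cases c31 : r < 2160
  · exact allRange_spec e8Cneg_2_2140 r (by omega) c31
  by_cases c32 : r < 2180
  · exact allRange_spec e8Cneg_2_2160 r (by omega) c32
  by_cases c33 : r < 2200
  · exact allRange_spec e8Cneg_2_2180 r (by omega) c33
  by_cases c34 : r < 2220
  · exact allRange_spec e8Cneg_2_2200 r (by omega) c34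
  by_cases c35 : r < 2240
  · exact allRange_spec e8Cneg_2_2220 r (by omega) c35
  by_cases c36 : r < 2260
  · exact allRange_spec e8Cneg_2_2240 r (by omega) c36
  exact allRange_spec e8Cneg_2_2260 r (by omega) h2

end Cfsg.Agent.Lib.Helper3.ChevM
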