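import Cfsg.Prelude.Def_ChevE8
import Cfsg.Agent.Lib.Helper3.StB5
set_option autoImplicit false
set_option maxRecDepth 1000000
set_option Elab.async false

namespace Cfsg.Agent.Lib.Helper3.ChevM
open Cfsg.Agent.Lib.Helper3.StB

theorem e8Cneg_3_2280 : allRange 2280 2300 ((fun k => commNegCheck Cfsg.Lie.chevE8 (k / 240) (k % 240))) = true := by decide +kernel
theorem e8Cneg_3_2300 : allRange 2300 2320 ((fun k => commNegCheck Cfsg.Lie.chevE8 (k / 240) (k % 240))) = true := by decide +kernel
theorem e8Cneg_3_2320 : allRange 2320 2340 ((fun k => commNegCheck Cfsg.Lie.chevE8 (k / 240) (k % 240))) = true := by decide +kernel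
theorem e8Cneg_3_2340 : allRange 2340 2360 ((fun k => commNegCheck Cfsg.Lie.chevE8 (k / 240) (k % 240))) = true := by decide +kernel
theorem e8Cneg_3_2360 : allRange 2360 2380 ((fun k => commNegCheck Cfsg.Lie.chevE8 (k / 240) (k % 240))) = true := by decide +kernel
theorem e8Cneg_3_2380 : allRange 2380 2400 ((fun k => commNegCheck Cfsg.Lie.chevE8 (k / 240) (k % 240))) = true := by decide +kernel
theorem e8Cneg_3_2400 : allRange 2400 2420 ((fun k => commNegCheck Cfsg.Lie.chevE8 (k / 240) (k % 240))) = true := by decide +kernel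
theorem e8Cneg_3_2420 : allRange 2420 2440 ((fun k => commNegCheck Cfsg.Lie.chevE8 (k / 240) (k % 240))) = true := by decide +kernel
theorem e8Cneg_3_2440 : allRange 2440 2460 ((fun k => commNegCheck Cfsg.Lie.chevE8 (k / 240) (k % 240))) = true := by decide +kernel
theorem e8Cneg_3_2460 : allRange 2460 2480 ((fun k => commNegCheck Cfsg.Lie.chevE8 (k / 240) (k % 240))) = true := by decide +kernel
theorem e8Cneg_3_2480 : allRange 2480 2500 ((fun k => commNegCheck Cfsg.Lie.chevE8 (k / 240) (k % 240))) = true := by decide +kernel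
theorem e8Cneg_3_2500 : allRange 2500 2520 ((fun k => commNegCheck Cfsg.Lie.chevE8 (k / 240) (k % 240))) = true := by decide +kernel
theorem e8Cneg_3_2520 : allRange 2520 2540 ((fun k => commNegCheck Cfsg.Lie.chevE8 (k / 240) (k % 240))) = true := by decide +kernel
theorem e8Cneg_3_2540 : allRange 2540 2560 ((fun k => commNegCheck Cfsg.Lie.chevE8 (k / 240) (k % 240))) = true := by decide +kernel
theorem e8Cneg_3_2560 : allRange 2560 2580 ((fun k => commNegCheck Cfsg.Lie.chevE8 (k / 240) (k % 240))) = true := by decide +kernel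
theorem e8Cneg_3_2580 : allRange 2580 2600 ((fun k => commNegCheck Cfsg.Lie.chevE8 (k / 240) (k % 240))) = true := by decide +kernel
theorem e8Cneg_3_2600 : allRange 2600 2620 ((fun k => commNegCheck Cfsg.Lie.chevE8 (k / 240) (k % 240))) = true := by decide +kernel
theorem e8Cneg_3_2620 : allRange 2620 2640 ((fun k => commNegCheck Cfsg.Lie.chevE8 (k / 240) (k % 240))) = true := by decide +kernel
theorem e8Cneg_3_2640 : allRange 2640 2660 ((fun k => commNegCheck Cfsg.Lie.chevE8 (k / 240) (k % 240))) = true := by decide +kernel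
theorem e8Cneg_3_2660 : allRange 2660 2680 ((fun k => commNegCheck Cfsg.Lie.chevE8 (k / 240) (k % 240))) = true := by decide +kernel
theorem e8Cneg_3_2680 : allRange 2680 2700 ((fun k => commNegCheck Cfsg.Lie.chevE8 (k / 240) (k % 240))) = true := by decide +kernel
theorem e8Cneg_3_2700 : allRange 2700 2720 ((fun k => commNegCheck Cfsg.Lie.chevE8 (k / 240) (k % 240))) = true := by decide +kernel
theorem e8Cneg_3_2720 : allRange 2720 2740 ((fun k => commNegCheck Cfsg.Lie.chevE8 (k / 240) (k % 240))) = true := by decide +kernel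
theorem e8Cneg_3_2740 : allRange 2740 2760 ((fun k => commNegCheck Cfsg.Lie.chevE8 (k / 240) (k % 240))) = true := by decide +kernel
theorem e8Cneg_3_2760 : allRange 2760 2780 ((fun k => commNegCheck Cfsg.Lie.chevE8 (k / 240) (k % 240))) = true := by decide +kernel
theorem e8Cneg_3_2780 : allRange 2780 2800 ((fun k => commNegCheck Cfsg.Lie.chevE8 (k / 240) (k % 240))) = true := by decide +kernel
theorem e8Cneg_3_2800 : allRange 2800 2820 ((fun k => commNegCheck Cfsg.Lie.chevE8 (k / 240) (k % 240))) = true := by decide +kernel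
theorem e8Cneg_3_2820 : allRange 2820 2840 ((fun k => commNegCheck Cfsg.Lie.chevE8 (k / 240) (k % 240))) = true := by decide +kernel
theorem e8Cneg_3_2840 : allRange 2840 2860 ((fun k => commNegCheck Cfsg.Lie.chevE8 (k / 240) (k % 240))) = true := by decide +kernel
theorem e8Cneg_3_2860 : allRange 2860 2880 ((fun k => commNegCheck Cfsg.Lie.chevE8 (k / 240) (k % 240))) = true := by decide +kernel
theorem e8Cneg_3_2880 : allRange 2880 2900 ((fun k => commNegCheck Cfsg.Lie.chevE8 (k / 240) (k % 240))) = true := by decide +kernel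
theorem e8Cneg_3_2900 : allRange 2900 2920 ((fun k => commNegCheck Cfsg.Lie.chevE8 (k / 240) (k % 240))) = true := by decide +kernel
theorem e8Cneg_3_2920 : allRange 2920 2940 ((fun k => commNegCheck Cfsg.Lie.chevE8 (k / 240) (k % 240))) = true := by decide +kernel
theorem e8Cneg_3_2940 : allRange 2940 2960 ((fun k => commNegCheck Cfsg.Lie.chevE8 (k / 240) (k % 240))) = true := by decide +kernel
theorem e8Cneg_3_2960 : allRange 2960 2980 ((fun k => commNegCheck Cfsg.Lie.chevE8 (k / 240) (k % 240))) = true := by decide +kernel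
theorem e8Cneg_3_2980 : allRange 2980 3000 ((fun k => commNegCheck Cfsg.Lie.chevE8 (k / 240) (k % 240))) = true := by decide +kernel
theorem e8Cneg_3_3000 : allRange 3000 3020 ((fun k => commNegCheck Cfsg.Lie.chevE8 (k / 240) (k % 240))) = true := by decide +kernel
theorem e8Cneg_3_3020 : allRange 3020 3040 ((fun k => commNegCheck Cfsg.Lie.chevE8 (k / 240) (k % 240))) = true := by decide +kernel

/-- The commutator formula of type E8 for opposite roots (roots 2280 to 3039). -/
theorem e8Cneg_3 : ∀ r, 2280 ≤ r → r < 3040 → ((fun k => commNegCheck Cfsg.Lie.chevE8 (k / 240) (k % 240))) r = true := by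
  intro r h1 h2
  by_cases c0 : r < 2300
  · exact allRange_spec e8Cneg_3_2280 r (by omega) c0
  by_cases c1 : r < 2320
  · exact allRange_spec e8Cneg_3_2300 r (by omega) c1
  by_cases c2 : r < 2340
  · exact allRange_spec e8Cneg_3_2320 r (by omega) c2
  by_cases c3 : r < 2360
  · exact allRange_spec e8Cneg_3_2340 r (by omega) c3
  by_cases c4 : r < 2380
  · exact allRange_spec e8Cneg_3_2360 r (by omega) c4
  by_cases c5 : r < 2400
  · exact allRange_spec e8Cneg_3_2380 r (by omega) c5
  by_cases c6 : r < 2420
  · exact allRange_spec e8Cneg_3_2400 r (by omega) c6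
  by_cases c7 : r < 2440
  · exact allRange_spec e8Cneg_3_2420 r (by omega) c7
  by_cases c8 : r < 2460
  · exact allRange_spec e8Cneg_3_2440 r (by omega) c8
  by_cases c9 : r < 2480
  · exact allRange_spec e8Cneg_3_2460 r (by omega) c9
  by_cases c10 : r < 2500
  · exact allRange_spec e8Cneg_3_2480 r (by omega) c10
  by_cases c11 : r < 2520
  · exact allRange_spec e8Cneg_3_2500 r (by omega) c11
  by_cases c12 : r < 2540
  · exact allRange_spec e8Cneg_3_2520 r (by omega) c12
  by_cases c13 : r < 2560
  · exact allRange_spec e8Cneg_3_2540 r (by omega) c13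
  by_cases c14 : r < 2580
  · exact allRange_spec e8Cneg_3_2560 r (by omega) c14
  by_cases c15 : r < 2600
  · exact allRange_spec e8Cneg_3_2580 r (by omega) c15
  by_cases c16 : r < 2620
  · exact allRange_spec e8Cneg_3_2600 r (by omega) c16
  by_cases c17 : r < 2640
  · exact allRange_spec e8Cneg_3_2620 r (by omega) c17
  by_cases c18 : r < 2660
  · exact allRange_spec e8Cneg_3_2640 r (by omega) c18
  by_cases c19 : r < 2680
  · exact allRange_spec e8Cneg_3_2660 r (by omega) c19
  by_cases c20 : r < 2700
  · exact allRange_spec e8Cneg_3_2680 r (by omega) c20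
  by_cases c21 : r < 2720
  · exact allRange_spec e8Cneg_3_2700 r (by omega) c21
  by_cases c22 : r < 2740
  · exact allRange_spec e8Cneg_3_2720 r (by omega) c22
  by_cases c23 : r < 2760
  · exact allRange_spec e8Cneg_3_2740 r (by omega) c23
  by_cases c24 : r < 2780
  · exact allRange_spec e8Cneg_3_2760 r (by omega) c24
  by_cases c25 : r < 2800
  · exact allRange_spec e8Cneg_3_2780 r (by omega) c25
  by_cases c26 : r < 2820
  · exact allRange_spec e8Cneg_3_2800 r (by omega) c26
  by_cases c27 : r < 2840
  · exact allRange_spec e8Cneg_3_2820 r (by omega) c27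
  by_cases c28 : r < 2860
  · exact allRange_spec e8Cneg_3_2840 r (by omega) c28
  by_cases c29 : r < 2880
  · exact allRange_spec e8Cneg_3_2860 r (by omega) c29
  by_cases c30 : r < 2900
  · exact allRange_spec e8Cneg_3_2880 r (by omega) c30
  by_cases c31 : r < 2920
  · exact allRange_spec e8Cneg_3_2900 r (by omega) c31
  by_cases c32 : r < 2940
  · exact allRange_spec e8Cneg_3_2920 r (by omega) c32
  by_cases c33 : r < 2960
  · exact allRange_spec e8Cneg_3_2940 r (by omega) c33
  by_cases c34 : r < 2980
  · exact allRange_spec e8Cneg_3_2960 r (by omega) c34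
  by_cases c35 : r < 3000
  · exact allRange_spec e8Cneg_3_2980 r (by omega) c35
  by_cases c36 : r < 3020
  · exact allRange_spec e8Cneg_3_3000 r (by omega) c36
  exact allRange_spec e8Cneg_3_3020 r (by omega) h2

end Cfsg.Agent.Lib.Helper3.ChevM
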