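import Cfsg.Prelude.Def_ChevE8
import Cfsg.Agent.Lib.Helper3.StB5
set_option autoImplicit false
set_option maxRecDepth 1000000
set_option Elab.async false

namespace Cfsg.Agent.Lib.Helper3.ChevM
open Cfsg.Agent.Lib.Helper3.StB

theorem e8Cneg_4_3040 : allRange 3040 3060 ((fun k => commNegCheck Cfsg.Lie.chevE8 (k / 240) (k % 240))) = true := by decide +kernel
theorem e8Cneg_4_3060 : allRange 3060 3080 ((fun k => commNegCheck Cfsg.Lie.chevE8 (k / 240) (k % 240))) = true := by decide +kernel
theorem e8Cneg_4_3080 : allRange 3080 3100 ((fun k => commNegCheck Cfsg.Lie.chevE8 (k / 240) (k % 240))) = true := by decide +kernel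
theorem e8Cneg_4_3100 : allRange 3100 3120 ((fun k => commNegCheck Cfsg.Lie.chevE8 (k / 240) (k % 240))) = true := by decide +kernel
theorem e8Cneg_4_3120 : allRange 3120 3140 ((fun k => commNegCheck Cfsg.Lie.chevE8 (k / 240) (k % 240))) = true := by decide +kernel
theorem e8Cneg_4_3140 : allRange 3140 3160 ((fun k => commNegCheck Cfsg.Lie.chevE8 (k / 240) (k % 240))) = true := by decide +kernel
theorem e8Cneg_4_3160 : allRange 3160 3180 ((fun k => commNegCheck Cfsg.Lie.chevE8 (k / 240) (k % 240))) = true := by decide +kernel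
theorem e8Cneg_4_3180 : allRange 3180 3200 ((fun k => commNegCheck Cfsg.Lie.chevE8 (k / 240) (k % 240))) = true := by decide +kernel
theorem e8Cneg_4_3200 : allRange 3200 3220 ((fun k => commNegCheck Cfsg.Lie.chevE8 (k / 240) (k % 240))) = true := by decide +kernel
theorem e8Cneg_4_3220 : allRange 3220 3240 ((fun k => commNegCheck Cfsg.Lie.chevE8 (k / 240) (k % 240))) = true := by decide +kernel
theorem e8Cneg_4_3240 : allRange 3240 3260 ((fun k => commNegCheck Cfsg.Lie.chevE8 (k / 240) (k % 240))) = true := by decide +kernel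
theorem e8Cneg_4_3260 : allRange 3260 3280 ((fun k => commNegCheck Cfsg.Lie.chevE8 (k / 240) (k % 240))) = true := by decide +kernel
theorem e8Cneg_4_3280 : allRange 3280 3300 ((fun k => commNegCheck Cfsg.Lie.chevE8 (k / 240) (k % 240))) = true := by decide +kernel
theorem e8Cneg_4_3300 : allRange 3300 3320 ((fun k => commNegCheck Cfsg.Lie.chevE8 (k / 240) (k % 240))) = true := by decide +kernel
theorem e8Cneg_4_3320 : allRange 3320 3340 ((fun k => commNegCheck Cfsg.Lie.chevE8 (k / 240) (k % 240))) = true := by decide +kernel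
theorem e8Cneg_4_3340 : allRange 3340 3360 ((fun k => commNegCheck Cfsg.Lie.chevE8 (k / 240) (k % 240))) = true := by decide +kernel
theorem e8Cneg_4_3360 : allRange 3360 3380 ((fun k => commNegCheck Cfsg.Lie.chevE8 (k / 240) (k % 240))) = true := by decide +kernel
theorem e8Cneg_4_3380 : allRange 3380 3400 ((fun k => commNegCheck Cfsg.Lie.chevE8 (k / 240) (k % 240))) = true := by decide +kernel
theorem e8Cneg_4_3400 : allRange 3400 3420 ((fun k => commNegCheck Cfsg.Lie.chevE8 (k / 240) (k % 240))) = true := by decide +kernel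
theorem e8Cneg_4_3420 : allRange 3420 3440 ((fun k => commNegCheck Cfsg.Lie.chevE8 (k / 240) (k % 240))) = true := by decide +kernel
theorem e8Cneg_4_3440 : allRange 3440 3460 ((fun k => commNegCheck Cfsg.Lie.chevE8 (k / 240) (k % 240))) = true := by decide +kernel
theorem e8Cneg_4_3460 : allRange 3460 3480 ((fun k => commNegCheck Cfsg.Lie.chevE8 (k / 240) (k % 240))) = true := by decide +kernel
theorem e8Cneg_4_3480 : allRange 3480 3500 ((fun k => commNegCheck Cfsg.Lie.chevE8 (k / 240) (k % 240))) = true := by decide +kernel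
theorem e8Cneg_4_3500 : allRange 3500 3520 ((fun k => commNegCheck Cfsg.Lie.chevE8 (k / 240) (k % 240))) = true := by decide +kernel
theorem e8Cneg_4_3520 : allRange 3520 3540 ((fun k => commNegCheck Cfsg.Lie.chevE8 (k / 240) (k % 240))) = true := by decide +kernel
theorem e8Cneg_4_3540 : allRange 3540 3560 ((fun k => commNegCheck Cfsg.Lie.chevE8 (k / 240) (k % 240))) = true := by decide +kernel
theorem e8Cneg_4_3560 : allRange 3560 3580 ((fun k => commNegCheck Cfsg.Lie.chevE8 (k / 240) (k % 240))) = true := by decide +kernel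
theorem e8Cneg_4_3580 : allRange 3580 3600 ((fun k => commNegCheck Cfsg.Lie.chevE8 (k / 240) (k % 240))) = true := by decide +kernel
theorem e8Cneg_4_3600 : allRange 3600 3620 ((fun k => commNegCheck Cfsg.Lie.chevE8 (k / 240) (k % 240))) = true := by decide +kernel
theorem e8Cneg_4_3620 : allRange 3620 3640 ((fun k => commNegCheck Cfsg.Lie.chevE8 (k / 240) (k % 240))) = true := by decide +kernel
theorem e8Cneg_4_3640 : allRange 3640 3660 ((fun k => commNegCheck Cfsg.Lie.chevE8 (k / 240) (k % 240))) = true := by decide +kernel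
theorem e8Cneg_4_3660 : allRange 3660 3680 ((fun k => commNegCheck Cfsg.Lie.chevE8 (k / 240) (k % 240))) = true := by decide +kernel
theorem e8Cneg_4_3680 : allRange 3680 3700 ((fun k => commNegCheck Cfsg.Lie.chevE8 (k / 240) (k % 240))) = true := by decide +kernel
theorem e8Cneg_4_3700 : allRange 3700 3720 ((fun k => commNegCheck Cfsg.Lie.chevE8 (k / 240) (k % 240))) = true := by decide +kernel
theorem e8Cneg_4_3720 : allRange 3720 3740 ((fun k => commNegCheck Cfsg.Lie.chevE8 (k / 240) (k % 240))) = true := by decide +kernel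
theorem e8Cneg_4_3740 : allRange 3740 3760 ((fun k => commNegCheck Cfsg.Lie.chevE8 (k / 240) (k % 240))) = true := by decide +kernel
theorem e8Cneg_4_3760 : allRange 3760 3780 ((fun k => commNegCheck Cfsg.Lie.chevE8 (k / 240) (k % 240))) = true := by decide +kernel
theorem e8Cneg_4_3780 : allRange 3780 3800 ((fun k => commNegCheck Cfsg.Lie.chevE8 (k / 240) (k % 240))) = true := by decide +kernel

/-- The commutator formula of type E8 for opposite roots (roots 3040 to 3799). -/
theorem e8Cneg_4 : ∀ r, 3040 ≤ r → r < 3800 → ((fun k => commNegCheck Cfsg.Lie.chevE8 (k / 240) (k % 240))) r = true := by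
  intro r h1 h2
  by_cases c0 : r < 3060
  · exact allRange_spec e8Cneg_4_3040 r (by omega) c0
  by_cases c1 : r < 3080
  · exact allRange_spec e8Cneg_4_3060 r (by omega) c1
  by_cases c2 : r < 3100
  · exact allRange_spec e8Cneg_4_3080 r (by omega) c2
  by_cases c3 : r < 3120
  · exact allRange_spec e8Cneg_4_3100 r (by omega) c3
  by_cases c4 : r < 3140
  · exact allRange_spec e8Cneg_4_3120 r (by omega) c4
  by_cases c5 : r < 3160
  · exact allRange_spec e8Cneg_4_3140 r (by omega) c5
  by_cases c6 : r < 3180
  · exact allRange_spec e8Cneg_4_3160 r (by omega) c6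
  by_cases c7 : r < 3200
  · exact allRange_spec e8Cneg_4_3180 r (by omega) c7
  by_cases c8 : r < 3220
  · exact allRange_spec e8Cneg_4_3200 r (by omega) c8
  by_cases c9 : r < 3240
  · exact allRange_spec e8Cneg_4_3220 r (by omega) c9
  by_cases c10 : r < 3260
  · exact allRange_spec e8Cneg_4_3240 r (by omega) c10
  by_cases c11 : r < 3280
  · exact allRange_spec e8Cneg_4_3260 r (by omega) c11
  by_cases c12 : r < 3300
  · exact allRange_spec e8Cneg_4_3280 r (by omega) c12
  by_cases c13 : r < 3320
  · exact allRange_spec e8Cneg_4_3300 r (by omega) c13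
  by_cases c14 : r < 3340
  · exact allRange_spec e8Cneg_4_3320 r (by omega) c14
  by_cases c15 : r < 3360
  · exact allRange_spec e8Cneg_4_3340 r (by omega) c15
  by_cases c16 : r < 3380
  · exact allRange_spec e8Cneg_4_3360 r (by omega) c16
  by_cases c17 : r < 3400
  · exact allRange_spec e8Cneg_4_3380 r (by omega) c17
  by_cases c18 : r < 3420
  · exact allRange_spec e8Cneg_4_3400 r (by omega) c18
  by_cases c19 : r < 3440
  · exact allRange_spec e8Cneg_4_3420 r (by omega) c19
  by_cases c20 : r < 3460
  · exact allRange_spec e8Cneg_4_3440 r (by omega) c20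
  by_cases c21 : r < 3480
  · exact allRange_spec e8Cneg_4_3460 r (by omega) c21
  by_cases c22 : r < 3500
  · exact allRange_spec e8Cneg_4_3480 r (by omega) c22
  by_cases c23 : r < 3520
  · exact allRange_spec e8Cneg_4_3500 r (by omega) c23
  by_cases c24 : r < 3540
  · exact allRange_spec e8Cneg_4_3520 r (by omega) c24
  by_cases c25 : r < 3560
  · exact allRange_spec e8Cneg_4_3540 r (by omega) c25
  by_cases c26 : r < 3580
  · exact allRange_spec e8Cneg_4_3560 r (by omega) c26
  by_cases c27 : r < 3600
  · exact allRange_spec e8Cneg_4_3580 r (by omega) c27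
  by_cases c28 : r < 3620
  · exact allRange_spec e8Cneg_4_3600 r (by omega) c28
  by_cases c29 : r < 3640
  · exact allRange_spec e8Cneg_4_3620 r (by omega) c29
  by_cases c30 : r < 3660
  · exact allRange_spec e8Cneg_4_3640 r (by omega) c30
  by_cases c31 : r < 3680
  · exact allRange_spec e8Cneg_4_3660 r (by omega) c31
  by_cases c32 : r < 3700
  · exact allRange_spec e8Cneg_4_3680 r (by omega) c32
  by_cases c33 : r < 3720
  · exact allRange_spec e8Cneg_4_3700 r (by omega) c33
  by_cases c34 : r < 3740
  · exact allRange_spec e8Cneg_4_3720 r (by omega) c34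
  by_cases c35 : r < 3760
  · exact allRange_spec e8Cneg_4_3740 r (by omega) c35
  by_cases c36 : r < 3780
  · exact allRange_spec e8Cneg_4_3760 r (by omega) c36
  exact allRange_spec e8Cneg_4_3780 r (by omega) h2

end Cfsg.Agent.Lib.Helper3.ChevM
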