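import Cfsg.Prelude.Def_ChevE8
import Cfsg.Agent.Lib.Helper3.StB5
set_option autoImplicit false
set_option maxRecDepth 1000000
set_option Elab.async false

namespace Cfsg.Agent.Lib.Helper3.ChevM
open Cfsg.Agent.Lib.Helper3.StB

theorem e8Cneg_5_3800 : allRange 3800 3820 ((fun k => commNegCheck Cfsg.Lie.chevE8 (k / 240) (k % 240))) = true := by decide +kernel
theorem e8Cneg_5_3820 : allRange 3820 3840 ((fun k => commNegCheck Cfsg.Lie.chevE8 (k / 240) (k % 240))) = true := by decide +kernel
theorem e8Cneg_5_3840 : allRange 3840 3860 ((fun k => commNegCheck Cfsg.Lie.chevE8 (k / 240) (k % 240))) = true := by decide +kernel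
theorem e8Cneg_5_3860 : allRange 3860 3880 ((fun k => commNegCheck Cfsg.Lie.chevE8 (k / 240) (k % 240))) = true := by decide +kernel
theorem e8Cneg_5_3880 : allRange 3880 3900 ((fun k => commNegCheck Cfsg.Lie.chevE8 (k / 240) (k % 240))) = true := by decide +kernel
theorem e8Cneg_5_3900 : allRange 3900 3920 ((fun k => commNegCheck Cfsg.Lie.chevE8 (k / 240) (k % 240))) = true := by decide +kernel
theorem e8Cneg_5_3920 : allRange 3920 3940 ((fun k => commNegCheck Cfsg.Lie.chevE8 (k / 240) (k % 240))) = true := by decide +kernel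
theorem e8Cneg_5_3940 : allRange 3940 3960 ((fun k => commNegCheck Cfsg.Lie.chevE8 (k / 240) (k % 240))) = true := by decide +kernel
theorem e8Cneg_5_3960 : allRange 3960 3980 ((fun k => commNegCheck Cfsg.Lie.chevE8 (k / 240) (k % 240))) = true := by decide +kernel
theorem e8Cneg_5_3980 : allRange 3980 4000 ((fun k => commNegCheck Cfsg.Lie.chevE8 (k / 240) (k % 240))) = true := by decide +kernel
theorem e8Cneg_5_4000 : allRange 4000 4020 ((fun k => commNegCheck Cfsg.Lie.chevE8 (k / 240) (k % 240))) = true := by decide +kernel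
theorem e8Cneg_5_4020 : allRange 4020 4040 ((fun k => commNegCheck Cfsg.Lie.chevE8 (k / 240) (k % 240))) = true := by decide +kernel
theorem e8Cneg_5_4040 : allRange 4040 4060 ((fun k => commNegCheck Cfsg.Lie.chevE8 (k / 240) (k % 240))) = true := by decide +kernel
theorem e8Cneg_5_4060 : allRange 4060 4080 ((fun k => commNegCheck Cfsg.Lie.chevE8 (k / 240) (k % 240))) = true := by decide +kernel
theorem e8Cneg_5_4080 : allRange 4080 4100 ((fun k => commNegCheck Cfsg.Lie.chevE8 (k / 240) (k % 240))) = true := by decide +kernel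
theorem e8Cneg_5_4100 : allRange 4100 4120 ((fun k => commNegCheck Cfsg.Lie.chevE8 (k / 240) (k % 240))) = true := by decide +kernel
theorem e8Cneg_5_4120 : allRange 4120 4140 ((fun k => commNegCheck Cfsg.Lie.chevE8 (k / 240) (k % 240))) = true := by decide +kernel
theorem e8Cneg_5_4140 : allRange 4140 4160 ((fun k => commNegCheck Cfsg.Lie.chevE8 (k / 240) (k % 240))) = true := by decide +kernel
theorem e8Cneg_5_4160 : allRange 4160 4180 ((fun k => commNegCheck Cfsg.Lie.chevE8 (k / 240) (k % 240))) = true := by decide +kernel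
theorem e8Cneg_5_4180 : allRange 4180 4200 ((fun k => commNegCheck Cfsg.Lie.chevE8 (k / 240) (k % 240))) = true := by decide +kernel
theorem e8Cneg_5_4200 : allRange 4200 4220 ((fun k => commNegCheck Cfsg.Lie.chevE8 (k / 240) (k % 240))) = true := by decide +kernel
theorem e8Cneg_5_4220 : allRange 4220 4240 ((fun k => commNegCheck Cfsg.Lie.chevE8 (k / 240) (k % 240))) = true := by decide +kernel
theorem e8Cneg_5_4240 : allRange 4240 4260 ((fun k => commNegCheck Cfsg.Lie.chevE8 (k / 240) (k % 240))) = true := by decide +kernel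
theorem e8Cneg_5_4260 : allRange 4260 4280 ((fun k => commNegCheck Cfsg.Lie.chevE8 (k / 240) (k % 240))) = true := by decide +kernel
theorem e8Cneg_5_4280 : allRange 4280 4300 ((fun k => commNegCheck Cfsg.Lie.chevE8 (k / 240) (k % 240))) = true := by decide +kernel
theorem e8Cneg_5_4300 : allRange 4300 4320 ((fun k => commNegCheck Cfsg.Lie.chevE8 (k / 240) (k % 240))) = true := by decide +kernel
theorem e8Cneg_5_4320 : allRange 4320 4340 ((fun k => commNegCheck Cfsg.Lie.chevE8 (k / 240) (k % 240))) = true := by decide +kernel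
theorem e8Cneg_5_4340 : allRange 4340 4360 ((fun k => commNegCheck Cfsg.Lie.chevE8 (k / 240) (k % 240))) = true := by decide +kernel
theorem e8Cneg_5_4360 : allRange 4360 4380 ((fun k => commNegCheck Cfsg.Lie.chevE8 (k / 240) (k % 240))) = true := by decide +kernel
theorem e8Cneg_5_4380 : allRange 4380 4400 ((fun k => commNegCheck Cfsg.Lie.chevE8 (k / 240) (k % 240))) = true := by decide +kernel
theorem e8Cneg_5_4400 : allRange 4400 4420 ((fun k => commNegCheck Cfsg.Lie.chevE8 (k / 240) (k % 240))) = true := by decide +kernel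
theorem e8Cneg_5_4420 : allRange 4420 4440 ((fun k => commNegCheck Cfsg.Lie.chevE8 (k / 240) (k % 240))) = true := by decide +kernel
theorem e8Cneg_5_4440 : allRange 4440 4460 ((fun k => commNegCheck Cfsg.Lie.chevE8 (k / 240) (k % 240))) = true := by decide +kernel
theorem e8Cneg_5_4460 : allRange 4460 4480 ((fun k => commNegCheck Cfsg.Lie.chevE8 (k / 240) (k % 240))) = true := by decide +kernel
theorem e8Cneg_5_4480 : allRange 4480 4500 ((fun k => commNegCheck Cfsg.Lie.chevE8 (k / 240) (k % 240))) = true := by decide +kernel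
theorem e8Cneg_5_4500 : allRange 4500 4520 ((fun k => commNegCheck Cfsg.Lie.chevE8 (k / 240) (k % 240))) = true := by decide +kernel
theorem e8Cneg_5_4520 : allRange 4520 4540 ((fun k => commNegCheck Cfsg.Lie.chevE8 (k / 240) (k % 240))) = true := by decide +kernel
theorem e8Cneg_5_4540 : allRange 4540 4560 ((fun k => commNegCheck Cfsg.Lie.chevE8 (k / 240) (k % 240))) = true := by decide +kernel

/-- The commutator formula of type E8 for opposite roots (roots 3800 to 4559). -/
theorem e8Cneg_5 : ∀ r, 3800 ≤ r → r < 4560 → ((fun k => commNegCheck Cfsg.Lie.chevE8 (k / 240) (k % 240))) r = true := by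
  intro r h1 h2
  by_cases c0 : r < 3820
  · exact allRange_spec e8Cneg_5_3800 r (by omega) c0
  by_cases c1 : r < 3840
  · exact allRange_spec e8Cneg_5_3820 r (by omega) c1
  by_cases c2 : r < 3860
  · exact allRange_spec e8Cneg_5_3840 r (by omega) c2
  by_cases c3 : r < 3880
  · exact allRange_spec e8Cneg_5_3860 r (by omega) c3
  by_cases c4 : r < 3900
  · exact allRange_spec e8Cneg_5_3880 r (by omega) c4
  by_cases c5 : r < 3920
  · exact allRange_spec e8Cneg_5_3900 r (by omega) c5
  by_cases c6 : r < 3940
  · exact allRange_spec e8Cneg_5_3920 r (by omega) c6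
  by_cases c7 : r < 3960
  · exact allRange_spec e8Cneg_5_3940 r (by omega) c7
  by_cases c8 : r < 3980
  · exact allRange_spec e8Cneg_5_3960 r (by omega) c8
  by_cases c9 : r < 4000
  · exact allRange_spec e8Cneg_5_3980 r (by omega) c9
  by_cases c10 : r < 4020
  · exact allRange_spec e8Cneg_5_4000 r (by omega) c10
  by_cases c11 : r < 4040
  · exact allRange_spec e8Cneg_5_4020 r (by omega) c11
  by_cases c12 : r < 4060
  · exact allRange_spec e8Cneg_5_4040 r (by omega) c12
  by_cases c13 : r < 4080
  · exact allRange_spec e8Cneg_5_4060 r (by omega) c13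
  by_cases c14 : r < 4100
  · exact allRange_spec e8Cneg_5_4080 r (by omega) c14
  by_cases c15 : r < 4120
  · exact allRange_spec e8Cneg_5_4100 r (by omega) c15
  by_cases c16 : r < 4140
  · exact allRange_spec e8Cneg_5_4120 r (by omega) c16
  by_cases c17 : r < 4160
  · exact allRange_spec e8Cneg_5_4140 r (by omega) c17
  by_cases c18 : r < 4180
  · exact allRange_spec e8Cneg_5_4160 r (by omega) c18
  by_cases c19 : r < 4200
  · exact allRange_spec e8Cneg_5_4180 r (by omega) c19
  by_cases c20 : r < 4220
  · exact allRange_spec e8Cneg_5_4200 r (by omega) c20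
  by_cases c21 : r < 4240
  · exact allRange_spec e8Cneg_5_4220 r (by omega) c21
  by_cases c22 : r < 4260
  · exact allRange_spec e8Cneg_5_4240 r (by omega) c22
  by_cases c23 : r < 4280
  · exact allRange_spec e8Cneg_5_4260 r (by omega) c23
  by_cases c24 : r < 4300
  · exact allRange_spec e8Cneg_5_4280 r (by omega) c24
  by_cases c25 : r < 4320
  · exact allRange_spec e8Cneg_5_4300 r (by omega) c25
  by_cases c26 : r < 4340
  · exact allRange_spec e8Cneg_5_4320 r (by omega) c26
  by_cases c27 : r < 4360
  · exact allRange_spec e8Cneg_5_4340 r (by omega) c27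
  by_cases c28 : r < 4380
  · exact allRange_spec e8Cneg_5_4360 r (by omega) c28
  by_cases c29 : r < 4400
  · exact allRange_spec e8Cneg_5_4380 r (by omega) c29
  by_cases c30 : r < 4420
  · exact allRange_spec e8Cneg_5_4400 r (by omega) c30
  by_cases c31 : r < 4440
  · exact allRange_spec e8Cneg_5_4420 r (by omega) c31
  by_cases c32 : r < 4460
  · exact allRange_spec e8Cneg_5_4440 r (by omega) c32
  by_cases c33 : r < 4480
  · exact allRange_spec e8Cneg_5_4460 r (by omega) c33
  by_cases c34 : r < 4500
  · exact allRange_spec e8Cneg_5_4480 r (by omega) c34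
  by_cases c35 : r < 4520
  · exact allRange_spec e8Cneg_5_4500 r (by omega) c35
  by_cases c36 : r < 4540
  · exact allRange_spec e8Cneg_5_4520 r (by omega) c36
  exact allRange_spec e8Cneg_5_4540 r (by omega) h2

end Cfsg.Agent.Lib.Helper3.ChevM
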