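import Cfsg.Prelude.Def_ChevE8
import Cfsg.Agent.Lib.Helper3.StB5
set_option autoImplicit false
set_option maxRecDepth 1000000
set_option Elab.async false

namespace Cfsg.Agent.Lib.Helper3.ChevM
open Cfsg.Agent.Lib.Helper3.StB

theorem e8Cneg_6_4560 : allRange 4560 4580 ((fun k => commNegCheck Cfsg.Lie.chevE8 (k / 240) (k % 240))) = true := by decide +kernel
theorem e8Cneg_6_4580 : allRange 4580 4600 ((fun k => commNegCheck Cfsg.Lie.chevE8 (k / 240) (k % 240))) = true := by decide +kernel
theorem e8Cneg_6_4600 : allRange 4600 4620 ((fun k => commNegCheck Cfsg.Lie.chevE8 (k / 240) (k % 240))) = true := by decide +kernel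
theorem e8Cneg_6_4620 : allRange 4620 4640 ((fun k => commNegCheck Cfsg.Lie.chevE8 (k / 240) (k % 240))) = true := by decide +kernel
theorem e8Cneg_6_4640 : allRange 4640 4660 ((fun k => commNegCheck Cfsg.Lie.chevE8 (k / 240) (k % 240))) = true := by decide +kernel
theorem e8Cneg_6_4660 : allRange 4660 4680 ((fun k => commNegCheck Cfsg.Lie.chevE8 (k / 240) (k % 240))) = true := by decide +kernel
theorem e8Cneg_6_4680 : allRange 4680 4700 ((fun k => commNegCheck Cfsg.Lie.chevE8 (k / 240) (k % 240))) = true := by decide +kernel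
theorem e8Cneg_6_4700 : allRange 4700 4720 ((fun k => commNegCheck Cfsg.Lie.chevE8 (k / 240) (k % 240))) = true := by decide +kernel
theorem e8Cneg_6_4720 : allRange 4720 4740 ((fun k => commNegCheck Cfsg.Lie.chevE8 (k / 240) (k % 240))) = true := by decide +kernel
theorem e8Cneg_6_4740 : allRange 4740 4760 ((fun k => commNegCheck Cfsg.Lie.chevE8 (k / 240) (k % 240))) = true := by decide +kernel
theorem e8Cneg_6_4760 : allRange 4760 4780 ((fun k => commNegCheck Cfsg.Lie.chevE8 (k / 240) (k % 240))) = true := by decide +kernel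
theorem e8Cneg_6_4780 : allRange 4780 4800 ((fun k => commNegCheck Cfsg.Lie.chevE8 (k / 240) (k % 240))) = true := by decide +kernel
theorem e8Cneg_6_4800 : allRange 4800 4820 ((fun k => commNegCheck Cfsg.Lie.chevE8 (k / 240) (k % 240))) = true := by decide +kernel
theorem e8Cneg_6_4820 : allRange 4820 4840 ((fun k => commNegCheck Cfsg.Lie.chevE8 (k / 240) (k % 240))) = true := by decide +kernel
theorem e8Cneg_6_4840 : allRange 4840 4860 ((fun k => commNegCheck Cfsg.Lie.chevE8 (k / 240) (k % 240))) = true := by decide +kernel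
theorem e8Cneg_6_4860 : allRange 4860 4880 ((fun k => commNegCheck Cfsg.Lie.chevE8 (k / 240) (k % 240))) = true := by decide +kernel
theorem e8Cneg_6_4880 : allRange 4880 4900 ((fun k => commNegCheck Cfsg.Lie.chevE8 (k / 240) (k % 240))) = true := by decide +kernel
theorem e8Cneg_6_4900 : allRange 4900 4920 ((fun k => commNegCheck Cfsg.Lie.chevE8 (k / 240) (k % 240))) = true := by decide +kernel
theorem e8Cneg_6_4920 : allRange 4920 4940 ((fun k => commNegCheck Cfsg.Lie.chevE8 (k / 240) (k % 240))) = true := by decide +kernel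
theorem e8Cneg_6_4940 : allRange 4940 4960 ((fun k => commNegCheck Cfsg.Lie.chevE8 (k / 240) (k % 240))) = true := by decide +kernel
theorem e8Cneg_6_4960 : allRange 4960 4980 ((fun k => commNegCheck Cfsg.Lie.chevE8 (k / 240) (k % 240))) = true := by decide +kernel
theorem e8Cneg_6_4980 : allRange 4980 5000 ((fun k => commNegCheck Cfsg.Lie.chevE8 (k / 240) (k % 240))) = true := by decide +kernel
theorem e8Cneg_6_5000 : allRange 5000 5020 ((fun k => commNegCheck Cfsg.Lie.chevE8 (k / 240) (k % 240))) = true := by decide +kernel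
theorem e8Cneg_6_5020 : allRange 5020 5040 ((fun k => commNegCheck Cfsg.Lie.chevE8 (k / 240) (k % 240))) = true := by decide +kernel
theorem e8Cneg_6_5040 : allRange 5040 5060 ((fun k => commNegCheck Cfsg.Lie.chevE8 (k / 240) (k % 240))) = true := by decide +kernel
theorem e8Cneg_6_5060 : allRange 5060 5080 ((fun k => commNegCheck Cfsg.Lie.chevE8 (k / 240) (k % 240))) = true := by decide +kernel
theorem e8Cneg_6_5080 : allRange 5080 5100 ((fun k => commNegCheck Cfsg.Lie.chevE8 (k / 240) (k % 240))) = true := by decide +kernel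
theorem e8Cneg_6_5100 : allRange 5100 5120 ((fun k => commNegCheck Cfsg.Lie.chevE8 (k / 240) (k % 240))) = true := by decide +kernel
theorem e8Cneg_6_5120 : allRange 5120 5140 ((fun k => commNegCheck Cfsg.Lie.chevE8 (k / 240) (k % 240))) = true := by decide +kernel
theorem e8Cneg_6_5140 : allRange 5140 5160 ((fun k => commNegCheck Cfsg.Lie.chevE8 (k / 240) (k % 240))) = true := by decide +kernel
theorem e8Cneg_6_5160 : allRange 5160 5180 ((fun k => commNegCheck Cfsg.Lie.chevE8 (k / 240) (k % 240))) = true := by decide +kernel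
theorem e8Cneg_6_5180 : allRange 5180 5200 ((fun k => commNegCheck Cfsg.Lie.chevE8 (k / 240) (k % 240))) = true := by decide +kernel
theorem e8Cneg_6_5200 : allRange 5200 5220 ((fun k => commNegCheck Cfsg.Lie.chevE8 (k / 240) (k % 240))) = true := by decide +kernel
theorem e8Cneg_6_5220 : allRange 5220 5240 ((fun k => commNegCheck Cfsg.Lie.chevE8 (k / 240) (k % 240))) = true := by decide +kernel
theorem e8Cneg_6_5240 : allRange 5240 5260 ((fun k => commNegCheck Cfsg.Lie.chevE8 (k / 240) (k % 240))) = true := by decide +kernel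
theorem e8Cneg_6_5260 : allRange 5260 5280 ((fun k => commNegCheck Cfsg.Lie.chevE8 (k / 240) (k % 240))) = true := by decide +kernel
theorem e8Cneg_6_5280 : allRange 5280 5300 ((fun k => commNegCheck Cfsg.Lie.chevE8 (k / 240) (k % 240))) = true := by decide +kernel
theorem e8Cneg_6_5300 : allRange 5300 5320 ((fun k => commNegCheck Cfsg.Lie.chevE8 (k / 240) (k % 240))) = true := by decide +kernel

/-- The commutator formula of type E8 for opposite roots (roots 4560 to 5319). -/
theorem e8Cneg_6 : ∀ r, 4560 ≤ r → r < 5320 → ((fun k => commNegCheck Cfsg.Lie.chevE8 (k / 240) (k % 240))) r = true := by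
  intro r h1 h2
  by_cases c0 : r < 4580
  · exact allRange_spec e8Cneg_6_4560 r (by omega) c0
  by_cases c1 : r < 4600
  · exact allRange_spec e8Cneg_6_4580 r (by omega) c1
  by_cases c2 : r < 4620
  · exact allRange_spec e8Cneg_6_4600 r (by omega) c2
  by_cases c3 : r < 4640
  · exact allRange_spec e8Cneg_6_4620 r (by omega) c3
  by_cases c4 : r < 4660
  · exact allRange_spec e8Cneg_6_4640 r (by omega) c4
  by_cases c5 : r < 4680
  · exact allRange_spec e8Cneg_6_4660 r (by omega) c5
  by_cases c6 : r < 4700
  · exact allRange_spec e8Cneg_6_4680 r (by omega) c6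
  by_cases c7 : r < 4720
  · exact allRange_spec e8Cneg_6_4700 r (by omega) c7
  by_cases c8 : r < 4740
  · exact allRange_spec e8Cneg_6_4720 r (by omega) c8
  by_cases c9 : r < 4760
  · exact allRange_spec e8Cneg_6_4740 r (by omega) c9
  by_cases c10 : r < 4780
  · exact allRange_spec e8Cneg_6_4760 r (by omega) c10
  by_cases c11 : r < 4800
  · exact allRange_spec e8Cneg_6_4780 r (by omega) c11
  by_cases c12 : r < 4820
  · exact allRange_spec e8Cneg_6_4800 r (by omega) c12
  by_cases c13 : r < 4840
  · exact allRange_spec e8Cneg_6_4820 r (by omega) c13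
  by_cases c14 : r < 4860
  · exact allRange_spec e8Cneg_6_4840 r (by omega) c14
  by_cases c15 : r < 4880
  · exact allRange_spec e8Cneg_6_4860 r (by omega) c15
  by_cases c16 : r < 4900
  · exact allRange_spec e8Cneg_6_4880 r (by omega) c16
  by_cases c17 : r < 4920
  · exact allRange_spec e8Cneg_6_4900 r (by omega) c17
  by_cases c18 : r < 4940
  · exact allRange_spec e8Cneg_6_4920 r (by omega) c18
  by_cases c19 : r < 4960
  · exact allRange_spec e8Cneg_6_4940 r (by omega) c19
  by_cases c20 : r < 4980
  · exact allRange_spec e8Cneg_6_4960 r (by omega) c20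
  by_cases c21 : r < 5000
  · exact allRange_spec e8Cneg_6_4980 r (by omega) c21
  by_cases c22 : r < 5020
  · exact allRange_spec e8Cneg_6_5000 r (by omega) c22
  by_cases c23 : r < 5040
  · exact allRange_spec e8Cneg_6_5020 r (by omega) c23
  by_cases c24 : r < 5060
  · exact allRange_spec e8Cneg_6_5040 r (by omega) c24
  by_cases c25 : r < 5080
  · exact allRange_spec e8Cneg_6_5060 r (by omega) c25
  by_cases c26 : r < 5100
  · exact allRange_spec e8Cneg_6_5080 r (by omega) c26
  by_cases c27 : r < 5120
  · exact allRange_spec e8Cneg_6_5100 r (by omega) c27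
  by_cases c28 : r < 5140
  · exact allRange_spec e8Cneg_6_5120 r (by omega) c28
  by_cases c29 : r < 5160
  · exact allRange_spec e8Cneg_6_5140 r (by omega) c29
  by_cases c30 : r < 5180
  · exact allRange_spec e8Cneg_6_5160 r (by omega) c30
  by_cases c31 : r < 5200
  · exact allRange_spec e8Cneg_6_5180 r (by omega) c31
  by_cases c32 : r < 5220
  · exact allRange_spec e8Cneg_6_5200 r (by omega) c32
  by_cases c33 : r < 5240
  · exact allRange_spec e8Cneg_6_5220 r (by omega) c33
  by_cases c34 : r < 5260
  · exact allRange_spec e8Cneg_6_5240 r (by omega) c34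
  by_cases c35 : r < 5280
  · exact allRange_spec e8Cneg_6_5260 r (by omega) c35
  by_cases c36 : r < 5300
  · exact allRange_spec e8Cneg_6_5280 r (by omega) c36
  exact allRange_spec e8Cneg_6_5300 r (by omega) h2

end Cfsg.Agent.Lib.Helper3.ChevM
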