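import Cfsg.Prelude.Def_ChevE8
import Cfsg.Agent.Lib.Helper3.StB5
set_option autoImplicit false
set_option maxRecDepth 1000000
set_option Elab.async false

namespace Cfsg.Agent.Lib.Helper3.ChevM
open Cfsg.Agent.Lib.Helper3.StB

theorem e8Cneg_7_5320 : allRange 5320 5340 ((fun k => commNegCheck Cfsg.Lie.chevE8 (k / 240) (k % 240))) = true := by decide +kernel
theorem e8Cneg_7_5340 : allRange 5340 5360 ((fun k => commNegCheck Cfsg.Lie.chevE8 (k / 240) (k % 240))) = true := by decide +kernel
theorem e8Cneg_7_5360 : allRange 5360 5380 ((fun k => commNegCheck Cfsg.Lie.chevE8 (k / 240) (k % 240))) = true := by decide +kernel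
theorem e8Cneg_7_5380 : allRange 5380 5400 ((fun k => commNegCheck Cfsg.Lie.chevE8 (k / 240) (k % 240))) = true := by decide +kernel
theorem e8Cneg_7_5400 : allRange 5400 5420 ((fun k => commNegCheck Cfsg.Lie.chevE8 (k / 240) (k % 240))) = true := by decide +kernel
theorem e8Cneg_7_5420 : allRange 5420 5440 ((fun k => commNegCheck Cfsg.Lie.chevE8 (k / 240) (k % 240))) = true := by decide +kernel
theorem e8Cneg_7_5440 : allRange 5440 5460 ((fun k => commNegCheck Cfsg.Lie.chevE8 (k / 240) (k % 240))) = true := by decide +kernel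
theorem e8Cneg_7_5460 : allRange 5460 5480 ((fun k => commNegCheck Cfsg.Lie.chevE8 (k / 240) (k % 240))) = true := by decide +kernel
theorem e8Cneg_7_5480 : allRange 5480 5500 ((fun k => commNegCheck Cfsg.Lie.chevE8 (k / 240) (k % 240))) = true := by decide +kernel
theorem e8Cneg_7_5500 : allRange 5500 5520 ((fun k => commNegCheck Cfsg.Lie.chevE8 (k / 240) (k % 240))) = true := by decide +kernel
theorem e8Cneg_7_5520 : allRange 5520 5540 ((fun k => commNegCheck Cfsg.Lie.chevE8 (k / 240) (k % 240))) = true := by decide +kernel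
theorem e8Cneg_7_5540 : allRange 5540 5560 ((fun k => commNegCheck Cfsg.Lie.chevE8 (k / 240) (k % 240))) = true := by decide +kernel
theorem e8Cneg_7_5560 : allRange 5560 5580 ((fun k => commNegCheck Cfsg.Lie.chevE8 (k / 240) (k % 240))) = true := by decide +kernel
theorem e8Cneg_7_5580 : allRange 5580 5600 ((fun k => commNegCheck Cfsg.Lie.chevE8 (k / 240) (k % 240))) = true := by decide +kernel
theorem e8Cneg_7_5600 : allRange 5600 5620 ((fun k => commNegCheck Cfsg.Lie.chevE8 (k / 240) (k % 240))) = true := by decide +kernel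
theorem e8Cneg_7_5620 : allRange 5620 5640 ((fun k => commNegCheck Cfsg.Lie.chevE8 (k / 240) (k % 240))) = true := by decide +kernel
theorem e8Cneg_7_5640 : allRange 5640 5660 ((fun k => commNegCheck Cfsg.Lie.chevE8 (k / 240) (k % 240))) = true := by decide +kernel
theorem e8Cneg_7_5660 : allRange 5660 5680 ((fun k => commNegCheck Cfsg.Lie.chevE8 (k / 240) (k % 240))) = true := by decide +kernel
theorem e8Cneg_7_5680 : allRange 5680 5700 ((fun k => commNegCheck Cfsg.Lie.chevE8 (k / 240) (k % 240))) = true := by decide +kernel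
theorem e8Cneg_7_5700 : allRange 5700 5720 ((fun k => commNegCheck Cfsg.Lie.chevE8 (k / 240) (k % 240))) = true := by decide +kernel
theorem e8Cneg_7_5720 : allRange 5720 5740 ((fun k => commNegCheck Cfsg.Lie.chevE8 (k / 240) (k % 240))) = true := by decide +kernel
theorem e8Cneg_7_5740 : allRange 5740 5760 ((fun k => commNegCheck Cfsg.Lie.chevE8 (k / 240) (k % 240))) = true := by decide +kernel
theorem e8Cneg_7_5760 : allRange 5760 5780 ((fun k => commNegCheck Cfsg.Lie.chevE8 (k / 240) (k % 240))) = true := by decide +kernel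
theorem e8Cneg_7_5780 : allRange 5780 5800 ((fun k => commNegCheck Cfsg.Lie.chevE8 (k / 240) (k % 240))) = true := by decide +kernel
theorem e8Cneg_7_5800 : allRange 5800 5820 ((fun k => commNegCheck Cfsg.Lie.chevE8 (k / 240) (k % 240))) = true := by decide +kernel
theorem e8Cneg_7_5820 : allRange 5820 5840 ((fun k => commNegCheck Cfsg.Lie.chevE8 (k / 240) (k % 240))) = true := by decide +kernel
theorem e8Cneg_7_5840 : allRange 5840 5860 ((fun k => commNegCheck Cfsg.Lie.chevE8 (k / 240) (k % 240))) = true := by decide +kernel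
theorem e8Cneg_7_5860 : allRange 5860 5880 ((fun k => commNegCheck Cfsg.Lie.chevE8 (k / 240) (k % 240))) = true := by decide +kernel
theorem e8Cneg_7_5880 : allRange 5880 5900 ((fun k => commNegCheck Cfsg.Lie.chevE8 (k / 240) (k % 240))) = true := by decide +kernel
theorem e8Cneg_7_5900 : allRange 5900 5920 ((fun k => commNegCheck Cfsg.Lie.chevE8 (k / 240) (k % 240))) = true := by decide +kernel
theorem e8Cneg_7_5920 : allRange 5920 5940 ((fun k => commNegCheck Cfsg.Lie.chevE8 (k / 240) (k % 240))) = true := by decide +kernel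
theorem e8Cneg_7_5940 : allRange 5940 5960 ((fun k => commNegCheck Cfsg.Lie.chevE8 (k / 240) (k % 240))) = true := by decide +kernel
theorem e8Cneg_7_5960 : allRange 5960 5980 ((fun k => commNegCheck Cfsg.Lie.chevE8 (k / 240) (k % 240))) = true := by decide +kernel
theorem e8Cneg_7_5980 : allRange 5980 6000 ((fun k => commNegCheck Cfsg.Lie.chevE8 (k / 240) (k % 240))) = true := by decide +kernel
theorem e8Cneg_7_6000 : allRange 6000 6020 ((fun k => commNegCheck Cfsg.Lie.chevE8 (k / 240) (k % 240))) = true := by decide +kernel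
theorem e8Cneg_7_6020 : allRange 6020 6040 ((fun k => commNegCheck Cfsg.Lie.chevE8 (k / 240) (k % 240))) = true := by decide +kernel
theorem e8Cneg_7_6040 : allRange 6040 6060 ((fun k => commNegCheck Cfsg.Lie.chevE8 (k / 240) (k % 240))) = true := by decide +kernel
theorem e8Cneg_7_6060 : allRange 6060 6080 ((fun k => commNegCheck Cfsg.Lie.chevE8 (k / 240) (k % 240))) = true := by decide +kernel

/-- The commutator formula of type E8 for opposite roots (roots 5320 to 6079). -/
theorem e8Cneg_7 : ∀ r, 5320 ≤ r → r < 6080 → ((fun k => commNegCheck Cfsg.Lie.chevE8 (k / 240) (k % 240))) r = true := by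
  intro r h1 h2
  by_cases c0 : r < 5340
  · exact allRange_spec e8Cneg_7_5320 r (by omega) c0
  by_cases c1 : r < 5360
  · exact allRange_spec e8Cneg_7_5340 r (by omega) c1
  by_cases c2 : r < 5380
  · exact allRange_spec e8Cneg_7_5360 r (by omega) c2
  by_cases c3 : r < 5400
  · exact allRange_spec e8Cneg_7_5380 r (by omega) c3
  by_cases c4 : r < 5420
  · exact allRange_spec e8Cneg_7_5400 r (by omega) c4
  by_cases c5 : r < 5440
  · exact allRange_spec e8Cneg_7_5420 r (by omega) c5
  by_cases c6 : r < 5460
  · exact allRange_spec e8Cneg_7_5440 r (by omega) c6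
  by_cases c7 : r < 5480
  · exact allRange_spec e8Cneg_7_5460 r (by omega) c7
  by_cases c8 : r < 5500
  · exact allRange_spec e8Cneg_7_5480 r (by omega) c8
  by_cases c9 : r < 5520
  · exact allRange_spec e8Cneg_7_5500 r (by omega) c9
  by_cases c10 : r < 5540
  · exact allRange_spec e8Cneg_7_5520 r (by omega) c10
  by_cases c11 : r < 5560
  · exact allRange_spec e8Cneg_7_5540 r (by omega) c11
  by_cases c12 : r < 5580
  · exact allRange_spec e8Cneg_7_5560 r (by omega) c12
  by_cases c13 : r < 5600
  · exact allRange_spec e8Cneg_7_5580 r (by omega) c13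
  by_cases c14 : r < 5620
  · exact allRange_spec e8Cneg_7_5600 r (by omega) c14
  by_cases c15 : r < 5640
  · exact allRange_spec e8Cneg_7_5620 r (by omega) c15
  by_cases c16 : r < 5660
  · exact allRange_spec e8Cneg_7_5640 r (by omega) c16
  by_cases c17 : r < 5680
  · exact allRange_spec e8Cneg_7_5660 r (by omega) c17
  by_cases c18 : r < 5700
  · exact allRange_spec e8Cneg_7_5680 r (by omega) c18
  by_cases c19 : r < 5720
  · exact allRange_spec e8Cneg_7_5700 r (by omega) c19
  by_cases c20 : r < 5740
  · exact allRange_spec e8Cneg_7_5720 r (by omega) c20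
  by_cases c21 : r < 5760
  · exact allRange_spec e8Cneg_7_5740 r (by omega) c21
  by_cases c22 : r < 5780
  · exact allRange_spec e8Cneg_7_5760 r (by omega) c22
  by_cases c23 : r < 5800
  · exact allRange_spec e8Cneg_7_5780 r (by omega) c23
  by_cases c24 : r < 5820
  · exact allRange_spec e8Cneg_7_5800 r (by omega) c24
  by_cases c25 : r < 5840
  · exact allRange_spec e8Cneg_7_5820 r (by omega) c25
  by_cases c26 : r < 5860
  · exact allRange_spec e8Cneg_7_5840 r (by omega) c26
  by_cases c27 : r < 5880
  · exact allRange_spec e8Cneg_7_5860 r (by omega) c27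
  by_cases c28 : r < 5900
  · exact allRange_spec e8Cneg_7_5880 r (by omega) c28
  by_cases c29 : r < 5920
  · exact allRange_spec e8Cneg_7_5900 r (by omega) c29
  by_cases c30 : r < 5940
  · exact allRange_spec e8Cneg_7_5920 r (by omega) c30
  by_cases c31 : r < 5960
  · exact allRange_spec e8Cneg_7_5940 r (by omega) c31
  by_cases c32 : r < 5980
  · exact allRange_spec e8Cneg_7_5960 r (by omega) c32
  by_cases c33 : r < 6000
  · exact allRange_spec e8Cneg_7_5980 r (by omega) c33
  by_cases c34 : r < 6020
  · exact allRange_spec e8Cneg_7_6000 r (by omega) c34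
  by_cases c35 : r < 6040
  · exact allRange_spec e8Cneg_7_6020 r (by omega) c35
  by_cases c36 : r < 6060
  · exact allRange_spec e8Cneg_7_6040 r (by omega) c36
  exact allRange_spec e8Cneg_7_6060 r (by omega) h2

end Cfsg.Agent.Lib.Helper3.ChevM
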