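import Cfsg.Prelude.Def_ChevE8
import Cfsg.Agent.Lib.Helper3.StB5
set_option autoImplicit false
set_option maxRecDepth 1000000
set_option Elab.async false

namespace Cfsg.Agent.Lib.Helper3.ChevM
open Cfsg.Agent.Lib.Helper3.StB

theorem e8Cneg_8_6080 : allRange 6080 6100 ((fun k => commNegCheck Cfsg.Lie.chevE8 (k / 240) (k % 240))) = true := by decide +kernel
theorem e8Cneg_8_6100 : allRange 6100 6120 ((fun k => commNegCheck Cfsg.Lie.chevE8 (k / 240) (k % 240))) = true := by decide +kernel
theorem e8Cneg_8_6120 : allRange 6120 6140 ((fun k => commNegCheck Cfsg.Lie.chevE8 (k / 240) (k % 240))) = true := by decide +kernel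
theorem e8Cneg_8_6140 : allRange 6140 6160 ((fun k => commNegCheck Cfsg.Lie.chevE8 (k / 240) (k % 240))) = true := by decide +kernel
theorem e8Cneg_8_6160 : allRange 6160 6180 ((fun k => commNegCheck Cfsg.Lie.chevE8 (k / 240) (k % 240))) = true := by decide +kernel
theorem e8Cneg_8_6180 : allRange 6180 6200 ((fun k => commNegCheck Cfsg.Lie.chevE8 (k / 240) (k % 240))) = true := by decide +kernel
theorem e8Cneg_8_6200 : allRange 6200 6220 ((fun k => commNegCheck Cfsg.Lie.chevE8 (k / 240) (k % 240))) = true := by decide +kernel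
theorem e8Cneg_8_6220 : allRange 6220 6240 ((fun k => commNegCheck Cfsg.Lie.chevE8 (k / 240) (k % 240))) = true := by decide +kernel
theorem e8Cneg_8_6240 : allRange 6240 6260 ((fun k => commNegCheck Cfsg.Lie.chevE8 (k / 240) (k % 240))) = true := by decide +kernel
theorem e8Cneg_8_6260 : allRange 6260 6280 ((fun k => commNegCheck Cfsg.Lie.chevE8 (k / 240) (k % 240))) = true := by decide +kernel
theorem e8Cneg_8_6280 : allRange 6280 6300 ((fun k => commNegCheck Cfsg.Lie.chevE8 (k / 240) (k % 240))) = true := by decide +kernel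
theorem e8Cneg_8_6300 : allRange 6300 6320 ((fun k => commNegCheck Cfsg.Lie.chevE8 (k / 240) (k % 240))) = true := by decide +kernel
theorem e8Cneg_8_6320 : allRange 6320 6340 ((fun k => commNegCheck Cfsg.Lie.chevE8 (k / 240) (k % 240))) = true := by decide +kernel
theorem e8Cneg_8_6340 : allRange 6340 6360 ((fun k => commNegCheck Cfsg.Lie.chevE8 (k / 240) (k % 240))) = true := by decide +kernel
theorem e8Cneg_8_6360 : allRange 6360 6380 ((fun k => commNegCheck Cfsg.Lie.chevE8 (k / 240) (k % 240))) = true := by decide +kernel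
theorem e8Cneg_8_6380 : allRange 6380 6400 ((fun k => commNegCheck Cfsg.Lie.chevE8 (k / 240) (k % 240))) = true := by decide +kernel
theorem e8Cneg_8_6400 : allRange 6400 6420 ((fun k => commNegCheck Cfsg.Lie.chevE8 (k / 240) (k % 240))) = true := by decide +kernel
theorem e8Cneg_8_6420 : allRange 6420 6440 ((fun k => commNegCheck Cfsg.Lie.chevE8 (k / 240) (k % 240))) = true := by decide +kernel
theorem e8Cneg_8_6440 : allRange 6440 6460 ((fun k => commNegCheck Cfsg.Lie.chevE8 (k / 240) (k % 240))) = true := by decide +kernel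
theorem e8Cneg_8_6460 : allRange 6460 6480 ((fun k => commNegCheck Cfsg.Lie.chevE8 (k / 240) (k % 240))) = true := by decide +kernel
theorem e8Cneg_8_6480 : allRange 6480 6500 ((fun k => commNegCheck Cfsg.Lie.chevE8 (k / 240) (k % 240))) = true := by decide +kernel
theorem e8Cneg_8_6500 : allRange 6500 6520 ((fun k => commNegCheck Cfsg.Lie.chevE8 (k / 240) (k % 240))) = true := by decide +kernel
theorem e8Cneg_8_6520 : allRange 6520 6540 ((fun k => commNegCheck Cfsg.Lie.chevE8 (k / 240) (k % 240))) = true := by decide +kernel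
theorem e8Cneg_8_6540 : allRange 6540 6560 ((fun k => commNegCheck Cfsg.Lie.chevE8 (k / 240) (k % 240))) = true := by decide +kernel
theorem e8Cneg_8_6560 : allRange 6560 6580 ((fun k => commNegCheck Cfsg.Lie.chevE8 (k / 240) (k % 240))) = true := by decide +kernel
theorem e8Cneg_8_6580 : allRange 6580 6600 ((fun k => commNegCheck Cfsg.Lie.chevE8 (k / 240) (k % 240))) = true := by decide +kernel
theorem e8Cneg_8_6600 : allRange 6600 6620 ((fun k => commNegCheck Cfsg.Lie.chevE8 (k / 240) (k % 240))) = true := by decide +kernel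
theorem e8Cneg_8_6620 : allRange 6620 6640 ((fun k => commNegCheck Cfsg.Lie.chevE8 (k / 240) (k % 240))) = true := by decide +kernel
theorem e8Cneg_8_6640 : allRange 6640 6660 ((fun k => commNegCheck Cfsg.Lie.chevE8 (k / 240) (k % 240))) = true := by decide +kernel
theorem e8Cneg_8_6660 : allRange 6660 6680 ((fun k => commNegCheck Cfsg.Lie.chevE8 (k / 240) (k % 240))) = true := by decide +kernel
theorem e8Cneg_8_6680 : allRange 6680 6700 ((fun k => commNegCheck Cfsg.Lie.chevE8 (k / 240) (k % 240))) = true := by decide +kernel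
theorem e8Cneg_8_6700 : allRange 6700 6720 ((fun k => commNegCheck Cfsg.Lie.chevE8 (k / 240) (k % 240))) = true := by decide +kernel
theorem e8Cneg_8_6720 : allRange 6720 6740 ((fun k => commNegCheck Cfsg.Lie.chevE8 (k / 240) (k % 240))) = true := by decide +kernel
theorem e8Cneg_8_6740 : allRange 6740 6760 ((fun k => commNegCheck Cfsg.Lie.chevE8 (k / 240) (k % 240))) = true := by decide +kernel
theorem e8Cneg_8_6760 : allRange 6760 6780 ((fun k => commNegCheck Cfsg.Lie.chevE8 (k / 240) (k % 240))) = true := by decide +kernel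
theorem e8Cneg_8_6780 : allRange 6780 6800 ((fun k => commNegCheck Cfsg.Lie.chevE8 (k / 240) (k % 240))) = true := by decide +kernel
theorem e8Cneg_8_6800 : allRange 6800 6820 ((fun k => commNegCheck Cfsg.Lie.chevE8 (k / 240) (k % 240))) = true := by decide +kernel
theorem e8Cneg_8_6820 : allRange 6820 6840 ((fun k => commNegCheck Cfsg.Lie.chevE8 (k / 240) (k % 240))) = true := by decide +kernel

/-- The commutator formula of type E8 for opposite roots (roots 6080 to 6839). -/
theorem e8Cneg_8 : ∀ r, 6080 ≤ r → r < 6840 → ((fun k => commNegCheck Cfsg.Lie.chevE8 (k / 240) (k % 240))) r = true := by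
  intro r h1 h2
  by_cases c0 : r < 6100
  · exact allRange_spec e8Cneg_8_6080 r (by omega) c0
  by_cases c1 : r < 6120
  · exact allRange_spec e8Cneg_8_6100 r (by omega) c1
  by_cases c2 : r < 6140
  · exact allRange_spec e8Cneg_8_6120 r (by omega) c2
  by_cases c3 : r < 6160
  · exact allRange_spec e8Cneg_8_6140 r (by omega) c3
  by_cases c4 : r < 6180
  · exact allRange_spec e8Cneg_8_6160 r (by omega) c4
  by_cases c5 : r < 6200
  · exact allRange_spec e8Cneg_8_6180 r (by omega) c5
  by_cases c6 : r < 6220
  · exact allRange_spec e8Cneg_8_6200 r (by omega) c6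
  by_cases c7 : r < 6240
  · exact allRange_spec e8Cneg_8_6220 r (by omega) c7
  by_cases c8 : r < 6260
  · exact allRange_spec e8Cneg_8_6240 r (by omega) c8
  by_cases c9 : r < 6280
  · exact allRange_spec e8Cneg_8_6260 r (by omega) c9
  by_cases c10 : r < 6300
  · exact allRange_spec e8Cneg_8_6280 r (by omega) c10
  by_cases c11 : r < 6320
  · exact allRange_spec e8Cneg_8_6300 r (by omega) c11
  by_cases c12 : r < 6340
  · exact allRange_spec e8Cneg_8_6320 r (by omega) c12
  by_cases c13 : r < 6360
  · exact allRange_spec e8Cneg_8_6340 r (by omega) c13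
  by_cases c14 : r < 6380
  · exact allRange_spec e8Cneg_8_6360 r (by omega) c14
  by_cases c15 : r < 6400
  · exact allRange_spec e8Cneg_8_6380 r (by omega) c15
  by_cases c16 : r < 6420
  · exact allRange_spec e8Cneg_8_6400 r (by omega) c16
  by_cases c17 : r < 6440
  · exact allRange_spec e8Cneg_8_6420 r (by omega) c17
  by_cases c18 : r < 6460
  · exact allRange_spec e8Cneg_8_6440 r (by omega) c18
  by_cases c19 : r < 6480
  · exact allRange_spec e8Cneg_8_6460 r (by omega) c19
  by_cases c20 : r < 6500
  · exact allRange_spec e8Cneg_8_6480 r (by omega) c20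
  by_cases c21 : r < 6520
  · exact allRange_spec e8Cneg_8_6500 r (by omega) c21
  by_cases c22 : r < 6540
  · exact allRange_spec e8Cneg_8_6520 r (by omega) c22
  by_cases c23 : r < 6560
  · exact allRange_spec e8Cneg_8_6540 r (by omega) c23
  by_cases c24 : r < 6580
  · exact allRange_spec e8Cneg_8_6560 r (by omega) c24
  by_cases c25 : r < 6600
  · exact allRange_spec e8Cneg_8_6580 r (by omega) c25
  by_cases c26 : r < 6620
  · exact allRange_spec e8Cneg_8_6600 r (by omega) c26
  by_cases c27 : r < 6640
  · exact allRange_spec e8Cneg_8_6620 r (by omega) c27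
  by_cases c28 : r < 6660
  · exact allRange_spec e8Cneg_8_6640 r (by omega) c28
  by_cases c29 : r < 6680
  · exact allRange_spec e8Cneg_8_6660 r (by omega) c29
  by_cases c30 : r < 6700
  · exact allRange_spec e8Cneg_8_6680 r (by omega) c30
  by_cases c31 : r < 6720
  · exact allRange_spec e8Cneg_8_6700 r (by omega) c31
  by_cases c32 : r < 6740
  · exact allRange_spec e8Cneg_8_6720 r (by omega) c32
  by_cases c33 : r < 6760
  · exact allRange_spec e8Cneg_8_6740 r (by omega) c33
  by_cases c34 : r < 6780
  · exact allRange_spec e8Cneg_8_6760 r (by omega) c34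
  by_cases c35 : r < 6800
  · exact allRange_spec e8Cneg_8_6780 r (by omega) c35
  by_cases c36 : r < 6820
  · exact allRange_spec e8Cneg_8_6800 r (by omega) c36
  exact allRange_spec e8Cneg_8_6820 r (by omega) h2

end Cfsg.Agent.Lib.Helper3.ChevM
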