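import Cfsg.Prelude.Def_ChevE8
import Cfsg.Agent.Lib.Helper3.StB5
set_option autoImplicit false
set_option maxRecDepth 1000000
set_option Elab.async false

namespace Cfsg.Agent.Lib.Helper3.ChevM
open Cfsg.Agent.Lib.Helper3.StB

theorem e8Cneg_9_6840 : allRange 6840 6860 ((fun k => commNegCheck Cfsg.Lie.chevE8 (k / 240) (k % 240))) = true := by decide +kernel
theorem e8Cneg_9_6860 : allRange 6860 6880 ((fun k => commNegCheck Cfsg.Lie.chevE8 (k / 240) (k % 240))) = true := by decide +kernel
theorem e8Cneg_9_6880 : allRange 6880 6900 ((fun k => commNegCheck Cfsg.Lie.chevE8 (k / 240) (k % 240))) = true := by decide +kernel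
theorem e8Cneg_9_6900 : allRange 6900 6920 ((fun k => commNegCheck Cfsg.Lie.chevE8 (k / 240) (k % 240))) = true := by decide +kernel
theorem e8Cneg_9_6920 : allRange 6920 6940 ((fun k => commNegCheck Cfsg.Lie.chevE8 (k / 240) (k % 240))) = true := by decide +kernel
theorem e8Cneg_9_6940 : allRange 6940 6960 ((fun k => commNegCheck Cfsg.Lie.chevE8 (k / 240) (k % 240))) = true := by decide +kernel
theorem e8Cneg_9_6960 : allRange 6960 6980 ((fun k => commNegCheck Cfsg.Lie.chevE8 (k / 240) (k % 240))) = true := by decide +kernel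
theorem e8Cneg_9_6980 : allRange 6980 7000 ((fun k => commNegCheck Cfsg.Lie.chevE8 (k / 240) (k % 240))) = true := by decide +kernel
theorem e8Cneg_9_7000 : allRange 7000 7020 ((fun k => commNegCheck Cfsg.Lie.chevE8 (k / 240) (k % 240))) = true := by decide +kernel
theorem e8Cneg_9_7020 : allRange 7020 7040 ((fun k => commNegCheck Cfsg.Lie.chevE8 (k / 240) (k % 240))) = true := by decide +kernel
theorem e8Cneg_9_7040 : allRange 7040 7060 ((fun k => commNegCheck Cfsg.Lie.chevE8 (k / 240) (k % 240))) = true := by decide +kernel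
theorem e8Cneg_9_7060 : allRange 7060 7080 ((fun k => commNegCheck Cfsg.Lie.chevE8 (k / 240) (k % 240))) = true := by decide +kernel
theorem e8Cneg_9_7080 : allRange 7080 7100 ((fun k => commNegCheck Cfsg.Lie.chevE8 (k / 240) (k % 240))) = true := by decide +kernel
theorem e8Cneg_9_7100 : allRange 7100 7120 ((fun k => commNegCheck Cfsg.Lie.chevE8 (k / 240) (k % 240))) = true := by decide +kernel
theorem e8Cneg_9_7120 : allRange 7120 7140 ((fun k => commNegCheck Cfsg.Lie.chevE8 (k / 240) (k % 240))) = true := by decide +kernel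
theorem e8Cneg_9_7140 : allRange 7140 7160 ((fun k => commNegCheck Cfsg.Lie.chevE8 (k / 240) (k % 240))) = true := by decide +kernel
theorem e8Cneg_9_7160 : allRange 7160 7180 ((fun k => commNegCheck Cfsg.Lie.chevE8 (k / 240) (k % 240))) = true := by decide +kernel
theorem e8Cneg_9_7180 : allRange 7180 7200 ((fun k => commNegCheck Cfsg.Lie.chevE8 (k / 240) (k % 240))) = true := by decide +kernel
theorem e8Cneg_9_7200 : allRange 7200 7220 ((fun k => commNegCheck Cfsg.Lie.chevE8 (k / 240) (k % 240))) = true := by decide +kernel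
theorem e8Cneg_9_7220 : allRange 7220 7240 ((fun k => commNegCheck Cfsg.Lie.chevE8 (k / 240) (k % 240))) = true := by decide +kernel
theorem e8Cneg_9_7240 : allRange 7240 7260 ((fun k => commNegCheck Cfsg.Lie.chevE8 (k / 240) (k % 240))) = true := by decide +kernel
theorem e8Cneg_9_7260 : allRange 7260 7280 ((fun k => commNegCheck Cfsg.Lie.chevE8 (k / 240) (k % 240))) = true := by decide +kernel
theorem e8Cneg_9_7280 : allRange 7280 7300 ((fun k => commNegCheck Cfsg.Lie.chevE8 (k / 240) (k % 240))) = true := by decide +kernel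
theorem e8Cneg_9_7300 : allRange 7300 7320 ((fun k => commNegCheck Cfsg.Lie.chevE8 (k / 240) (k % 240))) = true := by decide +kernel
theorem e8Cneg_9_7320 : allRange 7320 7340 ((fun k => commNegCheck Cfsg.Lie.chevE8 (k / 240) (k % 240))) = true := by decide +kernel
theorem e8Cneg_9_7340 : allRange 7340 7360 ((fun k => commNegCheck Cfsg.Lie.chevE8 (k / 240) (k % 240))) = true := by decide +kernel
theorem e8Cneg_9_7360 : allRange 7360 7380 ((fun k => commNegCheck Cfsg.Lie.chevE8 (k / 240) (k % 240))) = true := by decide +kernel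
theorem e8Cneg_9_7380 : allRange 7380 7400 ((fun k => commNegCheck Cfsg.Lie.chevE8 (k / 240) (k % 240))) = true := by decide +kernel
theorem e8Cneg_9_7400 : allRange 7400 7420 ((fun k => commNegCheck Cfsg.Lie.chevE8 (k / 240) (k % 240))) = true := by decide +kernel
theorem e8Cneg_9_7420 : allRange 7420 7440 ((fun k => commNegCheck Cfsg.Lie.chevE8 (k / 240) (k % 240))) = true := by decide +kernel
theorem e8Cneg_9_7440 : allRange 7440 7460 ((fun k => commNegCheck Cfsg.Lie.chevE8 (k / 240) (k % 240))) = true := by decide +kernel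
theorem e8Cneg_9_7460 : allRange 7460 7480 ((fun k => commNegCheck Cfsg.Lie.chevE8 (k / 240) (k % 240))) = true := by decide +kernel
theorem e8Cneg_9_7480 : allRange 7480 7500 ((fun k => commNegCheck Cfsg.Lie.chevE8 (k / 240) (k % 240))) = true := by decide +kernel
theorem e8Cneg_9_7500 : allRange 7500 7520 ((fun k => commNegCheck Cfsg.Lie.chevE8 (k / 240) (k % 240))) = true := by decide +kernel
theorem e8Cneg_9_7520 : allRange 7520 7540 ((fun k => commNegCheck Cfsg.Lie.chevE8 (k / 240) (k % 240))) = true := by decide +kernel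
theorem e8Cneg_9_7540 : allRange 7540 7560 ((fun k => commNegCheck Cfsg.Lie.chevE8 (k / 240) (k % 240))) = true := by decide +kernel
theorem e8Cneg_9_7560 : allRange 7560 7580 ((fun k => commNegCheck Cfsg.Lie.chevE8 (k / 240) (k % 240))) = true := by decide +kernel
theorem e8Cneg_9_7580 : allRange 7580 7600 ((fun k => commNegCheck Cfsg.Lie.chevE8 (k / 240) (k % 240))) = true := by decide +kernel

/-- The commutator formula of type E8 for opposite roots (roots 6840 to 7599). -/
theorem e8Cneg_9 : ∀ r, 6840 ≤ r → r < 7600 → ((fun k => commNegCheck Cfsg.Lie.chevE8 (k / 240) (k % 240))) r = true := by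
  intro r h1 h2
  by_cases c0 : r < 6860
  · exact allRange_spec e8Cneg_9_6840 r (by omega) c0
  by_cases c1 : r < 6880
  · exact allRange_spec e8Cneg_9_6860 r (by omega) c1
  by_cases c2 : r < 6900
  · exact allRange_spec e8Cneg_9_6880 r (by omega) c2
  by_cases c3 : r < 6920
  · exact allRange_spec e8Cneg_9_6900 r (by omega) c3
  by_cases c4 : r < 6940
  · exact allRange_spec e8Cneg_9_6920 r (by omega) c4
  by_cases c5 : r < 6960
  · exact allRange_spec e8Cneg_9_6940 r (by omega) c5
  by_cases c6 : r < 6980
  · exact allRange_spec e8Cneg_9_6960 r (by omega) c6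
  by_cases c7 : r < 7000
  · exact allRange_spec e8Cneg_9_6980 r (by omega) c7
  by_cases c8 : r < 7020
  · exact allRange_spec e8Cneg_9_7000 r (by omega) c8
  by_cases c9 : r < 7040
  · exact allRange_spec e8Cneg_9_7020 r (by omega) c9
  by_cases c10 : r < 7060
  · exact allRange_spec e8Cneg_9_7040 r (by omega) c10
  by_cases c11 : r < 7080
  · exact allRange_spec e8Cneg_9_7060 r (by omega) c11
  by_cases c12 : r < 7100
  · exact allRange_spec e8Cneg_9_7080 r (by omega) c12
  by_cases c13 : r < 7120
  · exact allRange_spec e8Cneg_9_7100 r (by omega) c13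
  by_cases c14 : r < 7140
  · exact allRange_spec e8Cneg_9_7120 r (by omega) c14
  by_cases c15 : r < 7160
  · exact allRange_spec e8Cneg_9_7140 r (by omega) c15
  by_cases c16 : r < 7180
  · exact allRange_spec e8Cneg_9_7160 r (by omega) c16
  by_cases c17 : r < 7200
  · exact allRange_spec e8Cneg_9_7180 r (by omega) c17
  by_cases c18 : r < 7220
  · exact allRange_spec e8Cneg_9_7200 r (by omega) c18
  by_cases c19 : r < 7240
  · exact allRange_spec e8Cneg_9_7220 r (by omega) c19
  by_cases c20 : r < 7260
  · exact allRange_spec e8Cneg_9_7240 r (by omega) c20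
  by_cases c21 : r < 7280
  · exact allRange_spec e8Cneg_9_7260 r (by omega) c21
  by_cases c22 : r < 7300
  · exact allRange_spec e8Cneg_9_7280 r (by omega) c22
  by_cases c23 : r < 7320
  · exact allRange_spec e8Cneg_9_7300 r (by omega) c23
  by_cases c24 : r < 7340
  · exact allRange_spec e8Cneg_9_7320 r (by omega) c24
  by_cases c25 : r < 7360
  · exact allRange_spec e8Cneg_9_7340 r (by omega) c25
  by_cases c26 : r < 7380
  · exact allRange_spec e8Cneg_9_7360 r (by omega) c26
  by_cases c27 : r < 7400
  · exact allRange_spec e8Cneg_9_7380 r (by omega) c27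
  by_cases c28 : r < 7420
  · exact allRange_spec e8Cneg_9_7400 r (by omega) c28
  by_cases c29 : r < 7440
  · exact allRange_spec e8Cneg_9_7420 r (by omega) c29
  by_cases c30 : r < 7460
  · exact allRange_spec e8Cneg_9_7440 r (by omega) c30
  by_cases c31 : r < 7480
  · exact allRange_spec e8Cneg_9_7460 r (by omega) c31
  by_cases c32 : r < 7500
  · exact allRange_spec e8Cneg_9_7480 r (by omega) c32
  by_cases c33 : r < 7520
  · exact allRange_spec e8Cneg_9_7500 r (by omega) c33
  by_cases c34 : r < 7540
  · exact allRange_spec e8Cneg_9_7520 r (by omega) c34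
  by_cases c35 : r < 7560
  · exact allRange_spec e8Cneg_9_7540 r (by omega) c35
  by_cases c36 : r < 7580
  · exact allRange_spec e8Cneg_9_7560 r (by omega) c36
  exact allRange_spec e8Cneg_9_7580 r (by omega) h2

end Cfsg.Agent.Lib.Helper3.ChevM
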