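import Cfsg.Prelude.Def_ChevE8
import Cfsg.Agent.Lib.Helper3.StB5
set_option autoImplicit false
set_option maxRecDepth 1000000
set_option Elab.async false

namespace Cfsg.Agent.Lib.Helper3.ChevM
open Cfsg.Agent.Lib.Helper3.StB

theorem e8Cneg_11_8360 : allRange 8360 8380 ((fun k => commNegCheck Cfsg.Lie.chevE8 (k / 240) (k % 240))) = true := by decide +kernel
theorem e8Cneg_11_8380 : allRange 8380 8400 ((fun k => commNegCheck Cfsg.Lie.chevE8 (k / 240) (k % 240))) = true := by decide +kernel
theorem e8Cneg_11_8400 : allRange 8400 8420 ((fun k => commNegCheck Cfsg.Lie.chevE8 (k / 240) (k % 240))) = true := by decide +kernel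
theorem e8Cneg_11_8420 : allRange 8420 8440 ((fun k => commNegCheck Cfsg.Lie.chevE8 (k / 240) (k % 240))) = true := by decide +kernel
theorem e8Cneg_11_8440 : allRange 8440 8460 ((fun k => commNegCheck Cfsg.Lie.chevE8 (k / 240) (k % 240))) = true := by decide +kernel
theorem e8Cneg_11_8460 : allRange 8460 8480 ((fun k => commNegCheck Cfsg.Lie.chevE8 (k / 240) (k % 240))) = true := by decide +kernel
theorem e8Cneg_11_8480 : allRange 8480 8500 ((fun k => commNegCheck Cfsg.Lie.chevE8 (k / 240) (k % 240))) = true := by decide +kernel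
theorem e8Cneg_11_8500 : allRange 8500 8520 ((fun k => commNegCheck Cfsg.Lie.chevE8 (k / 240) (k % 240))) = true := by decide +kernel
theorem e8Cneg_11_8520 : allRange 8520 8540 ((fun k => commNegCheck Cfsg.Lie.chevE8 (k / 240) (k % 240))) = true := by decide +kernel
theorem e8Cneg_11_8540 : allRange 8540 8560 ((fun k => commNegCheck Cfsg.Lie.chevE8 (k / 240) (k % 240))) = true := by decide +kernel
theorem e8Cneg_11_8560 : allRange 8560 8580 ((fun k => commNegCheck Cfsg.Lie.chevE8 (k / 240) (k % 240))) = true := by decide +kernel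
theorem e8Cneg_11_8580 : allRange 8580 8600 ((fun k => commNegCheck Cfsg.Lie.chevE8 (k / 240) (k % 240))) = true := by decide +kernel
theorem e8Cneg_11_8600 : allRange 8600 8620 ((fun k => commNegCheck Cfsg.Lie.chevE8 (k / 240) (k % 240))) = true := by decide +kernel
theorem e8Cneg_11_8620 : allRange 8620 8640 ((fun k => commNegCheck Cfsg.Lie.chevE8 (k / 240) (k % 240))) = true := by decide +kernel
theorem e8Cneg_11_8640 : allRange 8640 8660 ((fun k => commNegCheck Cfsg.Lie.chevE8 (k / 240) (k % 240))) = true := by decide +kernel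
theorem e8Cneg_11_8660 : allRange 8660 8680 ((fun k => commNegCheck Cfsg.Lie.chevE8 (k / 240) (k % 240))) = true := by decide +kernel
theorem e8Cneg_11_8680 : allRange 8680 8700 ((fun k => commNegCheck Cfsg.Lie.chevE8 (k / 240) (k % 240))) = true := by decide +kernel
theorem e8Cneg_11_8700 : allRange 8700 8720 ((fun k => commNegCheck Cfsg.Lie.chevE8 (k / 240) (k % 240))) = true := by decide +kernel
theorem e8Cneg_11_8720 : allRange 8720 8740 ((fun k => commNegCheck Cfsg.Lie.chevE8 (k / 240) (k % 240))) = true := by decide +kernel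
theorem e8Cneg_11_8740 : allRange 8740 8760 ((fun k => commNegCheck Cfsg.Lie.chevE8 (k / 240) (k % 240))) = true := by decide +kernel
theorem e8Cneg_11_8760 : allRange 8760 8780 ((fun k => commNegCheck Cfsg.Lie.chevE8 (k / 240) (k % 240))) = true := by decide +kernel
theorem e8Cneg_11_8780 : allRange 8780 8800 ((fun k => commNegCheck Cfsg.Lie.chevE8 (k / 240) (k % 240))) = true := by decide +kernel
theorem e8Cneg_11_8800 : allRange 8800 8820 ((fun k => commNegCheck Cfsg.Lie.chevE8 (k / 240) (k % 240))) = true := by decide +kernel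
theorem e8Cneg_11_8820 : allRange 8820 8840 ((fun k => commNegCheck Cfsg.Lie.chevE8 (k / 240) (k % 240))) = true := by decide +kernel
theorem e8Cneg_11_8840 : allRange 8840 8860 ((fun k => commNegCheck Cfsg.Lie.chevE8 (k / 240) (k % 240))) = true := by decide +kernel
theorem e8Cneg_11_8860 : allRange 8860 8880 ((fun k => commNegCheck Cfsg.Lie.chevE8 (k / 240) (k % 240))) = true := by decide +kernel
theorem e8Cneg_11_8880 : allRange 8880 8900 ((fun k => commNegCheck Cfsg.Lie.chevE8 (k / 240) (k % 240))) = true := by decide +kernel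
theorem e8Cneg_11_8900 : allRange 8900 8920 ((fun k => commNegCheck Cfsg.Lie.chevE8 (k / 240) (k % 240))) = true := by decide +kernel
theorem e8Cneg_11_8920 : allRange 8920 8940 ((fun k => commNegCheck Cfsg.Lie.chevE8 (k / 240) (k % 240))) = true := by decide +kernel
theorem e8Cneg_11_8940 : allRange 8940 8960 ((fun k => commNegCheck Cfsg.Lie.chevE8 (k / 240) (k % 240))) = true := by decide +kernel
theorem e8Cneg_11_8960 : allRange 8960 8980 ((fun k => commNegCheck Cfsg.Lie.chevE8 (k / 240) (k % 240))) = true := by decide +kernel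
theorem e8Cneg_11_8980 : allRange 8980 9000 ((fun k => commNegCheck Cfsg.Lie.chevE8 (k / 240) (k % 240))) = true := by decide +kernel
theorem e8Cneg_11_9000 : allRange 9000 9020 ((fun k => commNegCheck Cfsg.Lie.chevE8 (k / 240) (k % 240))) = true := by decide +kernel
theorem e8Cneg_11_9020 : allRange 9020 9040 ((fun k => commNegCheck Cfsg.Lie.chevE8 (k / 240) (k % 240))) = true := by decide +kernel
theorem e8Cneg_11_9040 : allRange 9040 9060 ((fun k => commNegCheck Cfsg.Lie.chevE8 (k / 240) (k % 240))) = true := by decide +kernel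
theorem e8Cneg_11_9060 : allRange 9060 9080 ((fun k => commNegCheck Cfsg.Lie.chevE8 (k / 240) (k % 240))) = true := by decide +kernel
theorem e8Cneg_11_9080 : allRange 9080 9100 ((fun k => commNegCheck Cfsg.Lie.chevE8 (k / 240) (k % 240))) = true := by decide +kernel
theorem e8Cneg_11_9100 : allRange 9100 9120 ((fun k => commNegCheck Cfsg.Lie.chevE8 (k / 240) (k % 240))) = true := by decide +kernel

/-- The commutator formula of type E8 for opposite roots (roots 8360 to 9119). -/
theorem e8Cneg_11 : ∀ r, 8360 ≤ r → r < 9120 → ((fun k => commNegCheck Cfsg.Lie.chevE8 (k / 240) (k % 240))) r = true := by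
  intro r h1 h2
  by_cases c0 : r < 8380
  · exact allRange_spec e8Cneg_11_8360 r (by omega) c0
  by_cases c1 : r < 8400
  · exact allRange_spec e8Cneg_11_8380 r (by omega) c1
  by_cases c2 : r < 8420
  · exact allRange_spec e8Cneg_11_8400 r (by omega) c2
  by_cases c3 : r < 8440
  · exact allRange_spec e8Cneg_11_8420 r (by omega) c3
  by_cases c4 : r < 8460
  · exact allRange_spec e8Cneg_11_8440 r (by omega) c4
  by_cases c5 : r < 8480
  · exact allRange_spec e8Cneg_11_8460 r (by omega) c5
  by_cases c6 : r < 8500
  · exact allRange_spec e8Cneg_11_8480 r (by omega) c6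
  by_cases c7 : r < 8520
  · exact allRange_spec e8Cneg_11_8500 r (by omega) c7
  by_cases c8 : r < 8540
  · exact allRange_spec e8Cneg_11_8520 r (by omega) c8
  by_cases c9 : r < 8560
  · exact allRange_spec e8Cneg_11_8540 r (by omega) c9
  by_cases c10 : r < 8580
  · exact allRange_spec e8Cneg_11_8560 r (by omega) c10
  by_cases c11 : r < 8600
  · exact allRange_spec e8Cneg_11_8580 r (by omega) c11
  by_cases c12 : r < 8620
  · exact allRange_spec e8Cneg_11_8600 r (by omega) c12
  by_cases c13 : r < 8640
  · exact allRange_spec e8Cneg_11_8620 r (by omega) c13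
  by_cases c14 : r < 8660
  · exact allRange_spec e8Cneg_11_8640 r (by omega) c14
  by_cases c15 : r < 8680
  · exact allRange_spec e8Cneg_11_8660 r (by omega) c15
  by_cases c16 : r < 8700
  · exact allRange_spec e8Cneg_11_8680 r (by omega) c16
  by_cases c17 : r < 8720
  · exact allRange_spec e8Cneg_11_8700 r (by omega) c17
  by_cases c18 : r < 8740
  · exact allRange_spec e8Cneg_11_8720 r (by omega) c18
  by_cases c19 : r < 8760
  · exact allRange_spec e8Cneg_11_8740 r (by omega) c19
  by_cases c20 : r < 8780
  · exact allRange_spec e8Cneg_11_8760 r (by omega) c20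
  by_cases c21 : r < 8800
  · exact allRange_spec e8Cneg_11_8780 r (by omega) c21
  by_cases c22 : r < 8820
  · exact allRange_spec e8Cneg_11_8800 r (by omega) c22
  by_cases c23 : r < 8840
  · exact allRange_spec e8Cneg_11_8820 r (by omega) c23
  by_cases c24 : r < 8860
  · exact allRange_spec e8Cneg_11_8840 r (by omega) c24
  by_cases c25 : r < 8880
  · exact allRange_spec e8Cneg_11_8860 r (by omega) c25
  by_cases c26 : r < 8900
  · exact allRange_spec e8Cneg_11_8880 r (by omega) c26
  by_cases c27 : r < 8920
  · exact allRange_spec e8Cneg_11_8900 r (by omega) c27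
  by_cases c28 : r < 8940
  · exact allRange_spec e8Cneg_11_8920 r (by omega) c28
  by_cases c29 : r < 8960
  · exact allRange_spec e8Cneg_11_8940 r (by omega) c29
  by_cases c30 : r < 8980
  · exact allRange_spec e8Cneg_11_8960 r (by omega) c30
  by_cases c31 : r < 9000
  · exact allRange_spec e8Cneg_11_8980 r (by omega) c31
  by_cases c32 : r < 9020
  · exact allRange_spec e8Cneg_11_9000 r (by omega) c32
  by_cases c33 : r < 9040
  · exact allRange_spec e8Cneg_11_9020 r (by omega) c33
  by_cases c34 : r < 9060
  · exact allRange_spec e8Cneg_11_9040 r (by omega) c34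
  by_cases c35 : r < 9080
  · exact allRange_spec e8Cneg_11_9060 r (by omega) c35
  by_cases c36 : r < 9100
  · exact allRange_spec e8Cneg_11_9080 r (by omega) c36
  exact allRange_spec e8Cneg_11_9100 r (by omega) h2

end Cfsg.Agent.Lib.Helper3.ChevM
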