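import Cfsg.Prelude.Def_ChevE8
import Cfsg.Agent.Lib.Helper3.StB5
set_option autoImplicit false
set_option maxRecDepth 1000000
set_option Elab.async false

namespace Cfsg.Agent.Lib.Helper3.ChevM
open Cfsg.Agent.Lib.Helper3.StB

theorem e8Cneg_12_9120 : allRange 9120 9140 ((fun k => commNegCheck Cfsg.Lie.chevE8 (k / 240) (k % 240))) = true := by decide +kernel
theorem e8Cneg_12_9140 : allRange 9140 9160 ((fun k => commNegCheck Cfsg.Lie.chevE8 (k / 240) (k % 240))) = true := by decide +kernel
theorem e8Cneg_12_9160 : allRange 9160 9180 ((fun k => commNegCheck Cfsg.Lie.chevE8 (k / 240) (k % 240))) = true := by decide +kernel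
theorem e8Cneg_12_9180 : allRange 9180 9200 ((fun k => commNegCheck Cfsg.Lie.chevE8 (k / 240) (k % 240))) = true := by decide +kernel
theorem e8Cneg_12_9200 : allRange 9200 9220 ((fun k => commNegCheck Cfsg.Lie.chevE8 (k / 240) (k % 240))) = true := by decide +kernel
theorem e8Cneg_12_9220 : allRange 9220 9240 ((fun k => commNegCheck Cfsg.Lie.chevE8 (k / 240) (k % 240))) = true := by decide +kernel
theorem e8Cneg_12_9240 : allRange 9240 9260 ((fun k => commNegCheck Cfsg.Lie.chevE8 (k / 240) (k % 240))) = true := by decide +kernel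
theorem e8Cneg_12_9260 : allRange 9260 9280 ((fun k => commNegCheck Cfsg.Lie.chevE8 (k / 240) (k % 240))) = true := by decide +kernel
theorem e8Cneg_12_9280 : allRange 9280 9300 ((fun k => commNegCheck Cfsg.Lie.chevE8 (k / 240) (k % 240))) = true := by decide +kernel
theorem e8Cneg_12_9300 : allRange 9300 9320 ((fun k => commNegCheck Cfsg.Lie.chevE8 (k / 240) (k % 240))) = true := by decide +kernel
theorem e8Cneg_12_9320 : allRange 9320 9340 ((fun k => commNegCheck Cfsg.Lie.chevE8 (k / 240) (k % 240))) = true := by decide +kernel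
theorem e8Cneg_12_9340 : allRange 9340 9360 ((fun k => commNegCheck Cfsg.Lie.chevE8 (k / 240) (k % 240))) = true := by decide +kernel
theorem e8Cneg_12_9360 : allRange 9360 9380 ((fun k => commNegCheck Cfsg.Lie.chevE8 (k / 240) (k % 240))) = true := by decide +kernel
theorem e8Cneg_12_9380 : allRange 9380 9400 ((fun k => commNegCheck Cfsg.Lie.chevE8 (k / 240) (k % 240))) = true := by decide +kernel
theorem e8Cneg_12_9400 : allRange 9400 9420 ((fun k => commNegCheck Cfsg.Lie.chevE8 (k / 240) (k % 240))) = true := by decide +kernel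
theorem e8Cneg_12_9420 : allRange 9420 9440 ((fun k => commNegCheck Cfsg.Lie.chevE8 (k / 240) (k % 240))) = true := by decide +kernel
theorem e8Cneg_12_9440 : allRange 9440 9460 ((fun k => commNegCheck Cfsg.Lie.chevE8 (k / 240) (k % 240))) = true := by decide +kernel
theorem e8Cneg_12_9460 : allRange 9460 9480 ((fun k => commNegCheck Cfsg.Lie.chevE8 (k / 240) (k % 240))) = true := by decide +kernel
theorem e8Cneg_12_9480 : allRange 9480 9500 ((fun k => commNegCheck Cfsg.Lie.chevE8 (k / 240) (k % 240))) = true := by decide +kernel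
theorem e8Cneg_12_9500 : allRange 9500 9520 ((fun k => commNegCheck Cfsg.Lie.chevE8 (k / 240) (k % 240))) = true := by decide +kernel
theorem e8Cneg_12_9520 : allRange 9520 9540 ((fun k => commNegCheck Cfsg.Lie.chevE8 (k / 240) (k % 240))) = true := by decide +kernel
theorem e8Cneg_12_9540 : allRange 9540 9560 ((fun k => commNegCheck Cfsg.Lie.chevE8 (k / 240) (k % 240))) = true := by decide +kernel
theorem e8Cneg_12_9560 : allRange 9560 9580 ((fun k => commNegCheck Cfsg.Lie.chevE8 (k / 240) (k % 240))) = true := by decide +kernel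
theorem e8Cneg_12_9580 : allRange 9580 9600 ((fun k => commNegCheck Cfsg.Lie.chevE8 (k / 240) (k % 240))) = true := by decide +kernel
theorem e8Cneg_12_9600 : allRange 9600 9620 ((fun k => commNegCheck Cfsg.Lie.chevE8 (k / 240) (k % 240))) = true := by decide +kernel
theorem e8Cneg_12_9620 : allRange 9620 9640 ((fun k => commNegCheck Cfsg.Lie.chevE8 (k / 240) (k % 240))) = true := by decide +kernel
theorem e8Cneg_12_9640 : allRange 9640 9660 ((fun k => commNegCheck Cfsg.Lie.chevE8 (k / 240) (k % 240))) = true := by decide +kernel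
theorem e8Cneg_12_9660 : allRange 9660 9680 ((fun k => commNegCheck Cfsg.Lie.chevE8 (k / 240) (k % 240))) = true := by decide +kernel
theorem e8Cneg_12_9680 : allRange 9680 9700 ((fun k => commNegCheck Cfsg.Lie.chevE8 (k / 240) (k % 240))) = true := by decide +kernel
theorem e8Cneg_12_9700 : allRange 9700 9720 ((fun k => commNegCheck Cfsg.Lie.chevE8 (k / 240) (k % 240))) = true := by decide +kernel
theorem e8Cneg_12_9720 : allRange 9720 9740 ((fun k => commNegCheck Cfsg.Lie.chevE8 (k / 240) (k % 240))) = true := by decide +kernel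
theorem e8Cneg_12_9740 : allRange 9740 9760 ((fun k => commNegCheck Cfsg.Lie.chevE8 (k / 240) (k % 240))) = true := by decide +kernel
theorem e8Cneg_12_9760 : allRange 9760 9780 ((fun k => commNegCheck Cfsg.Lie.chevE8 (k / 240) (k % 240))) = true := by decide +kernel
theorem e8Cneg_12_9780 : allRange 9780 9800 ((fun k => commNegCheck Cfsg.Lie.chevE8 (k / 240) (k % 240))) = true := by decide +kernel
theorem e8Cneg_12_9800 : allRange 9800 9820 ((fun k => commNegCheck Cfsg.Lie.chevE8 (k / 240) (k % 240))) = true := by decide +kernel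
theorem e8Cneg_12_9820 : allRange 9820 9840 ((fun k => commNegCheck Cfsg.Lie.chevE8 (k / 240) (k % 240))) = true := by decide +kernel
theorem e8Cneg_12_9840 : allRange 9840 9860 ((fun k => commNegCheck Cfsg.Lie.chevE8 (k / 240) (k % 240))) = true := by decide +kernel
theorem e8Cneg_12_9860 : allRange 9860 9880 ((fun k => commNegCheck Cfsg.Lie.chevE8 (k / 240) (k % 240))) = true := by decide +kernel

/-- The commutator formula of type E8 for opposite roots (roots 9120 to 9879). -/
theorem e8Cneg_12 : ∀ r, 9120 ≤ r → r < 9880 → ((fun k => commNegCheck Cfsg.Lie.chevE8 (k / 240) (k % 240))) r = true := by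
  intro r h1 h2
  by_cases c0 : r < 9140
  · exact allRange_spec e8Cneg_12_9120 r (by omega) c0
  by_cases c1 : r < 9160
  · exact allRange_spec e8Cneg_12_9140 r (by omega) c1
  by_cases c2 : r < 9180
  · exact allRange_spec e8Cneg_12_9160 r (by omega) c2
  by_cases c3 : r < 9200
  · exact allRange_spec e8Cneg_12_9180 r (by omega) c3
  by_cases c4 : r < 9220
  · exact allRange_spec e8Cneg_12_9200 r (by omega) c4
  by_cases c5 : r < 9240
  · exact allRange_spec e8Cneg_12_9220 r (by omega) c5
  by_cases c6 : r < 9260
  · exact allRange_spec e8Cneg_12_9240 r (by omega) c6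
  by_cases c7 : r < 9280
  · exact allRange_spec e8Cneg_12_9260 r (by omega) c7
  by_cases c8 : r < 9300
  · exact allRange_spec e8Cneg_12_9280 r (by omega) c8
  by_cases c9 : r < 9320
  · exact allRange_spec e8Cneg_12_9300 r (by omega) c9
  by_cases c10 : r < 9340
  · exact allRange_spec e8Cneg_12_9320 r (by omega) c10
  by_cases c11 : r < 9360
  · exact allRange_spec e8Cneg_12_9340 r (by omega) c11
  by_cases c12 : r < 9380
  · exact allRange_spec e8Cneg_12_9360 r (by omega) c12
  by_cases c13 : r < 9400
  · exact allRange_spec e8Cneg_12_9380 r (by omega) c13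
  by_cases c14 : r < 9420
  · exact allRange_spec e8Cneg_12_9400 r (by omega) c14
  by_cases c15 : r < 9440
  · exact allRange_spec e8Cneg_12_9420 r (by omega) c15
  by_cases c16 : r < 9460
  · exact allRange_spec e8Cneg_12_9440 r (by omega) c16
  by_cases c17 : r < 9480
  · exact allRange_spec e8Cneg_12_9460 r (by omega) c17
  by_cases c18 : r < 9500
  · exact allRange_spec e8Cneg_12_9480 r (by omega) c18
  by_cases c19 : r < 9520
  · exact allRange_spec e8Cneg_12_9500 r (by omega) c19
  by_cases c20 : r < 9540
  · exact allRange_spec e8Cneg_12_9520 r (by omega) c20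
  by_cases c21 : r < 9560
  · exact allRange_spec e8Cneg_12_9540 r (by omega) c21
  by_cases c22 : r < 9580
  · exact allRange_spec e8Cneg_12_9560 r (by omega) c22
  by_cases c23 : r < 9600
  · exact allRange_spec e8Cneg_12_9580 r (by omega) c23
  by_cases c24 : r < 9620
  · exact allRange_spec e8Cneg_12_9600 r (by omega) c24
  by_cases c25 : r < 9640
  · exact allRange_spec e8Cneg_12_9620 r (by omega) c25
  by_cases c26 : r < 9660
  · exact allRange_spec e8Cneg_12_9640 r (by omega) c26
  by_cases c27 : r < 9680
  · exact allRange_spec e8Cneg_12_9660 r (by omega) c27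
  by_cases c28 : r < 9700
  · exact allRange_spec e8Cneg_12_9680 r (by omega) c28
  by_cases c29 : r < 9720
  · exact allRange_spec e8Cneg_12_9700 r (by omega) c29
  by_cases c30 : r < 9740
  · exact allRange_spec e8Cneg_12_9720 r (by omega) c30
  by_cases c31 : r < 9760
  · exact allRange_spec e8Cneg_12_9740 r (by omega) c31
  by_cases c32 : r < 9780
  · exact allRange_spec e8Cneg_12_9760 r (by omega) c32
  by_cases c33 : r < 9800
  · exact allRange_spec e8Cneg_12_9780 r (by omega) c33
  by_cases c34 : r < 9820
  · exact allRange_spec e8Cneg_12_9800 r (by omega) c34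
  by_cases c35 : r < 9840
  · exact allRange_spec e8Cneg_12_9820 r (by omega) c35
  by_cases c36 : r < 9860
  · exact allRange_spec e8Cneg_12_9840 r (by omega) c36
  exact allRange_spec e8Cneg_12_9860 r (by omega) h2

end Cfsg.Agent.Lib.Helper3.ChevM
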