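import Cfsg.Prelude.Def_ChevE8
import Cfsg.Agent.Lib.Helper3.StB5
set_option autoImplicit false
set_option maxRecDepth 1000000
set_option Elab.async false

namespace Cfsg.Agent.Lib.Helper3.ChevM
open Cfsg.Agent.Lib.Helper3.StB

theorem e8Cneg_13_9880 : allRange 9880 9900 ((fun k => commNegCheck Cfsg.Lie.chevE8 (k / 240) (k % 240))) = true := by decide +kernel
theorem e8Cneg_13_9900 : allRange 9900 9920 ((fun k => commNegCheck Cfsg.Lie.chevE8 (k / 240) (k % 240))) = true := by decide +kernel
theorem e8Cneg_13_9920 : allRange 9920 9940 ((fun k => commNegCheck Cfsg.Lie.chevE8 (k / 240) (k % 240))) = true := by decide +kernel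
theorem e8Cneg_13_9940 : allRange 9940 9960 ((fun k => commNegCheck Cfsg.Lie.chevE8 (k / 240) (k % 240))) = true := by decide +kernel
theorem e8Cneg_13_9960 : allRange 9960 9980 ((fun k => commNegCheck Cfsg.Lie.chevE8 (k / 240) (k % 240))) = true := by decide +kernel
theorem e8Cneg_13_9980 : allRange 9980 10000 ((fun k => commNegCheck Cfsg.Lie.chevE8 (k / 240) (k % 240))) = true := by decide +kernel
theorem e8Cneg_13_10000 : allRange 10000 10020 ((fun k => commNegCheck Cfsg.Lie.chevE8 (k / 240) (k % 240))) = true := by decide +kernel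
theorem e8Cneg_13_10020 : allRange 10020 10040 ((fun k => commNegCheck Cfsg.Lie.chevE8 (k / 240) (k % 240))) = true := by decide +kernel
theorem e8Cneg_13_10040 : allRange 10040 10060 ((fun k => commNegCheck Cfsg.Lie.chevE8 (k / 240) (k % 240))) = true := by decide +kernel
theorem e8Cneg_13_10060 : allRange 10060 10080 ((fun k => commNegCheck Cfsg.Lie.chevE8 (k / 240) (k % 240))) = true := by decide +kernel
theorem e8Cneg_13_10080 : allRange 10080 10100 ((fun k => commNegCheck Cfsg.Lie.chevE8 (k / 240) (k % 240))) = true := by decide +kernel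
theorem e8Cneg_13_10100 : allRange 10100 10120 ((fun k => commNegCheck Cfsg.Lie.chevE8 (k / 240) (k % 240))) = true := by decide +kernel
theorem e8Cneg_13_10120 : allRange 10120 10140 ((fun k => commNegCheck Cfsg.Lie.chevE8 (k / 240) (k % 240))) = true := by decide +kernel
theorem e8Cneg_13_10140 : allRange 10140 10160 ((fun k => commNegCheck Cfsg.Lie.chevE8 (k / 240) (k % 240))) = true := by decide +kernel
theorem e8Cneg_13_10160 : allRange 10160 10180 ((fun k => commNegCheck Cfsg.Lie.chevE8 (k / 240) (k % 240))) = true := by decide +kernel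
theorem e8Cneg_13_10180 : allRange 10180 10200 ((fun k => commNegCheck Cfsg.Lie.chevE8 (k / 240) (k % 240))) = true := by decide +kernel
theorem e8Cneg_13_10200 : allRange 10200 10220 ((fun k => commNegCheck Cfsg.Lie.chevE8 (k / 240) (k % 240))) = true := by decide +kernel
theorem e8Cneg_13_10220 : allRange 10220 10240 ((fun k => commNegCheck Cfsg.Lie.chevE8 (k / 240) (k % 240))) = true := by decide +kernel
theorem e8Cneg_13_10240 : allRange 10240 10260 ((fun k => commNegCheck Cfsg.Lie.chevE8 (k / 240) (k % 240))) = true := by decide +kernel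
theorem e8Cneg_13_10260 : allRange 10260 10280 ((fun k => commNegCheck Cfsg.Lie.chevE8 (k / 240) (k % 240))) = true := by decide +kernel
theorem e8Cneg_13_10280 : allRange 10280 10300 ((fun k => commNegCheck Cfsg.Lie.chevE8 (k / 240) (k % 240))) = true := by decide +kernel
theorem e8Cneg_13_10300 : allRange 10300 10320 ((fun k => commNegCheck Cfsg.Lie.chevE8 (k / 240) (k % 240))) = true := by decide +kernel
theorem e8Cneg_13_10320 : allRange 10320 10340 ((fun k => commNegCheck Cfsg.Lie.chevE8 (k / 240) (k % 240))) = true := by decide +kernel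
theorem e8Cneg_13_10340 : allRange 10340 10360 ((fun k => commNegCheck Cfsg.Lie.chevE8 (k / 240) (k % 240))) = true := by decide +kernel
theorem e8Cneg_13_10360 : allRange 10360 10380 ((fun k => commNegCheck Cfsg.Lie.chevE8 (k / 240) (k % 240))) = true := by decide +kernel
theorem e8Cneg_13_10380 : allRange 10380 10400 ((fun k => commNegCheck Cfsg.Lie.chevE8 (k / 240) (k % 240))) = true := by decide +kernel
theorem e8Cneg_13_10400 : allRange 10400 10420 ((fun k => commNegCheck Cfsg.Lie.chevE8 (k / 240) (k % 240))) = true := by decide +kernel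
theorem e8Cneg_13_10420 : allRange 10420 10440 ((fun k => commNegCheck Cfsg.Lie.chevE8 (k / 240) (k % 240))) = true := by decide +kernel
theorem e8Cneg_13_10440 : allRange 10440 10460 ((fun k => commNegCheck Cfsg.Lie.chevE8 (k / 240) (k % 240))) = true := by decide +kernel
theorem e8Cneg_13_10460 : allRange 10460 10480 ((fun k => commNegCheck Cfsg.Lie.chevE8 (k / 240) (k % 240))) = true := by decide +kernel
theorem e8Cneg_13_10480 : allRange 10480 10500 ((fun k => commNegCheck Cfsg.Lie.chevE8 (k / 240) (k % 240))) = true := by decide +kernel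
theorem e8Cneg_13_10500 : allRange 10500 10520 ((fun k => commNegCheck Cfsg.Lie.chevE8 (k / 240) (k % 240))) = true := by decide +kernel
theorem e8Cneg_13_10520 : allRange 10520 10540 ((fun k => commNegCheck Cfsg.Lie.chevE8 (k / 240) (k % 240))) = true := by decide +kernel
theorem e8Cneg_13_10540 : allRange 10540 10560 ((fun k => commNegCheck Cfsg.Lie.chevE8 (k / 240) (k % 240))) = true := by decide +kernel
theorem e8Cneg_13_10560 : allRange 10560 10580 ((fun k => commNegCheck Cfsg.Lie.chevE8 (k / 240) (k % 240))) = true := by decide +kernel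
theorem e8Cneg_13_10580 : allRange 10580 10600 ((fun k => commNegCheck Cfsg.Lie.chevE8 (k / 240) (k % 240))) = true := by decide +kernel
theorem e8Cneg_13_10600 : allRange 10600 10620 ((fun k => commNegCheck Cfsg.Lie.chevE8 (k / 240) (k % 240))) = true := by decide +kernel
theorem e8Cneg_13_10620 : allRange 10620 10640 ((fun k => commNegCheck Cfsg.Lie.chevE8 (k / 240) (k % 240))) = true := by decide +kernel

/-- The commutator formula of type E8 for opposite roots (roots 9880 to 10639). -/
theorem e8Cneg_13 : ∀ r, 9880 ≤ r → r < 10640 → ((fun k => commNegCheck Cfsg.Lie.chevE8 (k / 240) (k % 240))) r = true := by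
  intro r h1 h2
  by_cases c0 : r < 9900
  · exact allRange_spec e8Cneg_13_9880 r (by omega) c0
  by_cases c1 : r < 9920
  · exact allRange_spec e8Cneg_13_9900 r (by omega) c1
  by_cases c2 : r < 9940
  · exact allRange_spec e8Cneg_13_9920 r (by omega) c2
  by_cases c3 : r < 9960
  · exact allRange_spec e8Cneg_13_9940 r (by omega) c3
  by_cases c4 : r < 9980
  · exact allRange_spec e8Cneg_13_9960 r (by omega) c4
  by_cases c5 : r < 10000
  · exact allRange_spec e8Cneg_13_9980 r (by omega) c5
  by_cases c6 : r < 10020
  · exact allRange_spec e8Cneg_13_10000 r (by omega) c6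
  by_cases c7 : r < 10040
  · exact allRange_spec e8Cneg_13_10020 r (by omega) c7
  by_cases c8 : r < 10060
  · exact allRange_spec e8Cneg_13_10040 r (by omega) c8
  by_cases c9 : r < 10080
  · exact allRange_spec e8Cneg_13_10060 r (by omega) c9
  by_cases c10 : r < 10100
  · exact allRange_spec e8Cneg_13_10080 r (by omega) c10
  by_cases c11 : r < 10120
  · exact allRange_spec e8Cneg_13_10100 r (by omega) c11
  by_cases c12 : r < 10140
  · exact allRange_spec e8Cneg_13_10120 r (by omega) c12
  by_cases c13 : r < 10160
  · exact allRange_spec e8Cneg_13_10140 r (by omega) c13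
  by_cases c14 : r < 10180
  · exact allRange_spec e8Cneg_13_10160 r (by omega) c14
  by_cases c15 : r < 10200
  · exact allRange_spec e8Cneg_13_10180 r (by omega) c15
  by_cases c16 : r < 10220
  · exact allRange_spec e8Cneg_13_10200 r (by omega) c16
  by_cases c17 : r < 10240
  · exact allRange_spec e8Cneg_13_10220 r (by omega) c17
  by_cases c18 : r < 10260
  · exact allRange_spec e8Cneg_13_10240 r (by omega) c18
  by_cases c19 : r < 10280
  · exact allRange_spec e8Cneg_13_10260 r (by omega) c19
  by_cases c20 : r < 10300
  · exact allRange_spec e8Cneg_13_10280 r (by omega) c20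
  by_cases c21 : r < 10320
  · exact allRange_spec e8Cneg_13_10300 r (by omega) c21
  by_cases c22 : r < 10340
  · exact allRange_spec e8Cneg_13_10320 r (by omega) c22
  by_cases c23 : r < 10360
  · exact allRange_spec e8Cneg_13_10340 r (by omega) c23
  by_cases c24 : r < 10380
  · exact allRange_spec e8Cneg_13_10360 r (by omega) c24
  by_cases c25 : r < 10400
  · exact allRange_spec e8Cneg_13_10380 r (by omega) c25
  by_cases c26 : r < 10420
  · exact allRange_spec e8Cneg_13_10400 r (by omega) c26
  by_cases c27 : r < 10440
  · exact allRange_spec e8Cneg_13_10420 r (by omega) c27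
  by_cases c28 : r < 10460
  · exact allRange_spec e8Cneg_13_10440 r (by omega) c28
  by_cases c29 : r < 10480
  · exact allRange_spec e8Cneg_13_10460 r (by omega) c29
  by_cases c30 : r < 10500
  · exact allRange_spec e8Cneg_13_10480 r (by omega) c30
  by_cases c31 : r < 10520
  · exact allRange_spec e8Cneg_13_10500 r (by omega) c31
  by_cases c32 : r < 10540
  · exact allRange_spec e8Cneg_13_10520 r (by omega) c32
  by_cases c33 : r < 10560
  · exact allRange_spec e8Cneg_13_10540 r (by omega) c33
  by_cases c34 : r < 10580
  · exact allRange_spec e8Cneg_13_10560 r (by omega) c34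
  by_cases c35 : r < 10600
  · exact allRange_spec e8Cneg_13_10580 r (by omega) c35
  by_cases c36 : r < 10620
  · exact allRange_spec e8Cneg_13_10600 r (by omega) c36
  exact allRange_spec e8Cneg_13_10620 r (by omega) h2

end Cfsg.Agent.Lib.Helper3.ChevM
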