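import Cfsg.Prelude.Def_ChevE8
import Cfsg.Agent.Lib.Helper3.StB5
set_option autoImplicit false
set_option maxRecDepth 1000000
set_option Elab.async false

namespace Cfsg.Agent.Lib.Helper3.ChevM
open Cfsg.Agent.Lib.Helper3.StB

theorem e8Cneg_14_10640 : allRange 10640 10660 ((fun k => commNegCheck Cfsg.Lie.chevE8 (k / 240) (k % 240))) = true := by decide +kernel
theorem e8Cneg_14_10660 : allRange 10660 10680 ((fun k => commNegCheck Cfsg.Lie.chevE8 (k / 240) (k % 240))) = true := by decide +kernel
theorem e8Cneg_14_10680 : allRange 10680 10700 ((fun k => commNegCheck Cfsg.Lie.chevE8 (k / 240) (k % 240))) = true := by decide +kernel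
theorem e8Cneg_14_10700 : allRange 10700 10720 ((fun k => commNegCheck Cfsg.Lie.chevE8 (k / 240) (k % 240))) = true := by decide +kernel
theorem e8Cneg_14_10720 : allRange 10720 10740 ((fun k => commNegCheck Cfsg.Lie.chevE8 (k / 240) (k % 240))) = true := by decide +kernel
theorem e8Cneg_14_10740 : allRange 10740 10760 ((fun k => commNegCheck Cfsg.Lie.chevE8 (k / 240) (k % 240))) = true := by decide +kernel
theorem e8Cneg_14_10760 : allRange 10760 10780 ((fun k => commNegCheck Cfsg.Lie.chevE8 (k / 240) (k % 240))) = true := by decide +kernel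
theorem e8Cneg_14_10780 : allRange 10780 10800 ((fun k => commNegCheck Cfsg.Lie.chevE8 (k / 240) (k % 240))) = true := by decide +kernel
theorem e8Cneg_14_10800 : allRange 10800 10820 ((fun k => commNegCheck Cfsg.Lie.chevE8 (k / 240) (k % 240))) = true := by decide +kernel
theorem e8Cneg_14_10820 : allRange 10820 10840 ((fun k => commNegCheck Cfsg.Lie.chevE8 (k / 240) (k % 240))) = true := by decide +kernel
theorem e8Cneg_14_10840 : allRange 10840 10860 ((fun k => commNegCheck Cfsg.Lie.chevE8 (k / 240) (k % 240))) = true := by decide +kernel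
theorem e8Cneg_14_10860 : allRange 10860 10880 ((fun k => commNegCheck Cfsg.Lie.chevE8 (k / 240) (k % 240))) = true := by decide +kernel
theorem e8Cneg_14_10880 : allRange 10880 10900 ((fun k => commNegCheck Cfsg.Lie.chevE8 (k / 240) (k % 240))) = true := by decide +kernel
theorem e8Cneg_14_10900 : allRange 10900 10920 ((fun k => commNegCheck Cfsg.Lie.chevE8 (k / 240) (k % 240))) = true := by decide +kernel
theorem e8Cneg_14_10920 : allRange 10920 10940 ((fun k => commNegCheck Cfsg.Lie.chevE8 (k / 240) (k % 240))) = true := by decide +kernel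
theorem e8Cneg_14_10940 : allRange 10940 10960 ((fun k => commNegCheck Cfsg.Lie.chevE8 (k / 240) (k % 240))) = true := by decide +kernel
theorem e8Cneg_14_10960 : allRange 10960 10980 ((fun k => commNegCheck Cfsg.Lie.chevE8 (k / 240) (k % 240))) = true := by decide +kernel
theorem e8Cneg_14_10980 : allRange 10980 11000 ((fun k => commNegCheck Cfsg.Lie.chevE8 (k / 240) (k % 240))) = true := by decide +kernel
theorem e8Cneg_14_11000 : allRange 11000 11020 ((fun k => commNegCheck Cfsg.Lie.chevE8 (k / 240) (k % 240))) = true := by decide +kernel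
theorem e8Cneg_14_11020 : allRange 11020 11040 ((fun k => commNegCheck Cfsg.Lie.chevE8 (k / 240) (k % 240))) = true := by decide +kernel
theorem e8Cneg_14_11040 : allRange 11040 11060 ((fun k => commNegCheck Cfsg.Lie.chevE8 (k / 240) (k % 240))) = true := by decide +kernel
theorem e8Cneg_14_11060 : allRange 11060 11080 ((fun k => commNegCheck Cfsg.Lie.chevE8 (k / 240) (k % 240))) = true := by decide +kernel
theorem e8Cneg_14_11080 : allRange 11080 11100 ((fun k => commNegCheck Cfsg.Lie.chevE8 (k / 240) (k % 240))) = true := by decide +kernel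
theorem e8Cneg_14_11100 : allRange 11100 11120 ((fun k => commNegCheck Cfsg.Lie.chevE8 (k / 240) (k % 240))) = true := by decide +kernel
theorem e8Cneg_14_11120 : allRange 11120 11140 ((fun k => commNegCheck Cfsg.Lie.chevE8 (k / 240) (k % 240))) = true := by decide +kernel
theorem e8Cneg_14_11140 : allRange 11140 11160 ((fun k => commNegCheck Cfsg.Lie.chevE8 (k / 240) (k % 240))) = true := by decide +kernel
theorem e8Cneg_14_11160 : allRange 11160 11180 ((fun k => commNegCheck Cfsg.Lie.chevE8 (k / 240) (k % 240))) = true := by decide +kernel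
theorem e8Cneg_14_11180 : allRange 11180 11200 ((fun k => commNegCheck Cfsg.Lie.chevE8 (k / 240) (k % 240))) = true := by decide +kernel
theorem e8Cneg_14_11200 : allRange 11200 11220 ((fun k => commNegCheck Cfsg.Lie.chevE8 (k / 240) (k % 240))) = true := by decide +kernel
theorem e8Cneg_14_11220 : allRange 11220 11240 ((fun k => commNegCheck Cfsg.Lie.chevE8 (k / 240) (k % 240))) = true := by decide +kernel
theorem e8Cneg_14_11240 : allRange 11240 11260 ((fun k => commNegCheck Cfsg.Lie.chevE8 (k / 240) (k % 240))) = true := by decide +kernel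
theorem e8Cneg_14_11260 : allRange 11260 11280 ((fun k => commNegCheck Cfsg.Lie.chevE8 (k / 240) (k % 240))) = true := by decide +kernel
theorem e8Cneg_14_11280 : allRange 11280 11300 ((fun k => commNegCheck Cfsg.Lie.chevE8 (k / 240) (k % 240))) = true := by decide +kernel
theorem e8Cneg_14_11300 : allRange 11300 11320 ((fun k => commNegCheck Cfsg.Lie.chevE8 (k / 240) (k % 240))) = true := by decide +kernel
theorem e8Cneg_14_11320 : allRange 11320 11340 ((fun k => commNegCheck Cfsg.Lie.chevE8 (k / 240) (k % 240))) = true := by decide +kernel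
theorem e8Cneg_14_11340 : allRange 11340 11360 ((fun k => commNegCheck Cfsg.Lie.chevE8 (k / 240) (k % 240))) = true := by decide +kernel
theorem e8Cneg_14_11360 : allRange 11360 11380 ((fun k => commNegCheck Cfsg.Lie.chevE8 (k / 240) (k % 240))) = true := by decide +kernel
theorem e8Cneg_14_11380 : allRange 11380 11400 ((fun k => commNegCheck Cfsg.Lie.chevE8 (k / 240) (k % 240))) = true := by decide +kernel

/-- The commutator formula of type E8 for opposite roots (roots 10640 to 11399). -/
theorem e8Cneg_14 : ∀ r, 10640 ≤ r → r < 11400 → ((fun k => commNegCheck Cfsg.Lie.chevE8 (k / 240) (k % 240))) r = true := by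
  intro r h1 h2
  by_cases c0 : r < 10660
  · exact allRange_spec e8Cneg_14_10640 r (by omega) c0
  by_cases c1 : r < 10680
  · exact allRange_spec e8Cneg_14_10660 r (by omega) c1
  by_cases c2 : r < 10700
  · exact allRange_spec e8Cneg_14_10680 r (by omega) c2
  by_cases c3 : r < 10720
  · exact allRange_spec e8Cneg_14_10700 r (by omega) c3
  by_cases c4 : r < 10740
  · exact allRange_spec e8Cneg_14_10720 r (by omega) c4
  by_cases c5 : r < 10760
  · exact allRange_spec e8Cneg_14_10740 r (by omega) c5
  by_cases c6 : r < 10780
  · exact allRange_spec e8Cneg_14_10760 r (by omega) c6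
  by_cases c7 : r < 10800
  · exact allRange_spec e8Cneg_14_10780 r (by omega) c7
  by_cases c8 : r < 10820
  · exact allRange_spec e8Cneg_14_10800 r (by omega) c8
  by_cases c9 : r < 10840
  · exact allRange_spec e8Cneg_14_10820 r (by omega) c9
  by_cases c10 : r < 10860
  · exact allRange_spec e8Cneg_14_10840 r (by omega) c10
  by_cases c11 : r < 10880
  · exact allRange_spec e8Cneg_14_10860 r (by omega) c11
  by_cases c12 : r < 10900
  · exact allRange_spec e8Cneg_14_10880 r (by omega) c12
  by_cases c13 : r < 10920
  · exact allRange_spec e8Cneg_14_10900 r (by omega) c13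
  by_cases c14 : r < 10940
  · exact allRange_spec e8Cneg_14_10920 r (by omega) c14
  by_cases c15 : r < 10960
  · exact allRange_spec e8Cneg_14_10940 r (by omega) c15
  by_cases c16 : r < 10980
  · exact allRange_spec e8Cneg_14_10960 r (by omega) c16
  by_cases c17 : r < 11000
  · exact allRange_spec e8Cneg_14_10980 r (by omega) c17
  by_cases c18 : r < 11020
  · exact allRange_spec e8Cneg_14_11000 r (by omega) c18
  by_cases c19 : r < 11040
  · exact allRange_spec e8Cneg_14_11020 r (by omega) c19
  by_cases c20 : r < 11060
  · exact allRange_spec e8Cneg_14_11040 r (by omega) c20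
  by_cases c21 : r < 11080
  · exact allRange_spec e8Cneg_14_11060 r (by omega) c21
  by_cases c22 : r < 11100
  · exact allRange_spec e8Cneg_14_11080 r (by omega) c22
  by_cases c23 : r < 11120
  · exact allRange_spec e8Cneg_14_11100 r (by omega) c23
  by_cases c24 : r < 11140
  · exact allRange_spec e8Cneg_14_11120 r (by omega) c24
  by_cases c25 : r < 11160
  · exact allRange_spec e8Cneg_14_11140 r (by omega) c25
  by_cases c26 : r < 11180
  · exact allRange_spec e8Cneg_14_11160 r (by omega) c26
  by_cases c27 : r < 11200
  · exact allRange_spec e8Cneg_14_11180 r (by omega) c27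
  by_cases c28 : r < 11220
  · exact allRange_spec e8Cneg_14_11200 r (by omega) c28
  by_cases c29 : r < 11240
  · exact allRange_spec e8Cneg_14_11220 r (by omega) c29
  by_cases c30 : r < 11260
  · exact allRange_spec e8Cneg_14_11240 r (by omega) c30
  by_cases c31 : r < 11280
  · exact allRange_spec e8Cneg_14_11260 r (by omega) c31
  by_cases c32 : r < 11300
  · exact allRange_spec e8Cneg_14_11280 r (by omega) c32
  by_cases c33 : r < 11320
  · exact allRange_spec e8Cneg_14_11300 r (by omega) c33
  by_cases c34 : r < 11340
  · exact allRange_spec e8Cneg_14_11320 r (by omega) c34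
  by_cases c35 : r < 11360
  · exact allRange_spec e8Cneg_14_11340 r (by omega) c35
  by_cases c36 : r < 11380
  · exact allRange_spec e8Cneg_14_11360 r (by omega) c36
  exact allRange_spec e8Cneg_14_11380 r (by omega) h2

end Cfsg.Agent.Lib.Helper3.ChevM
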