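import Cfsg.Prelude.Def_ChevE8
import Cfsg.Agent.Lib.Helper3.StB5
set_option autoImplicit false
set_option maxRecDepth 1000000
set_option Elab.async false

namespace Cfsg.Agent.Lib.Helper3.ChevM
open Cfsg.Agent.Lib.Helper3.StB

theorem e8Cneg_15_11400 : allRange 11400 11420 ((fun k => commNegCheck Cfsg.Lie.chevE8 (k / 240) (k % 240))) = true := by decide +kernel
theorem e8Cneg_15_11420 : allRange 11420 11440 ((fun k => commNegCheck Cfsg.Lie.chevE8 (k / 240) (k % 240))) = true := by decide +kernel
theorem e8Cneg_15_11440 : allRange 11440 11460 ((fun k => commNegCheck Cfsg.Lie.chevE8 (k / 240) (k % 240))) = true := by decide +kernel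
theorem e8Cneg_15_11460 : allRange 11460 11480 ((fun k => commNegCheck Cfsg.Lie.chevE8 (k / 240) (k % 240))) = true := by decide +kernel
theorem e8Cneg_15_11480 : allRange 11480 11500 ((fun k => commNegCheck Cfsg.Lie.chevE8 (k / 240) (k % 240))) = true := by decide +kernel
theorem e8Cneg_15_11500 : allRange 11500 11520 ((fun k => commNegCheck Cfsg.Lie.chevE8 (k / 240) (k % 240))) = true := by decide +kernel
theorem e8Cneg_15_11520 : allRange 11520 11540 ((fun k => commNegCheck Cfsg.Lie.chevE8 (k / 240) (k % 240))) = true := by decide +kernel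
theorem e8Cneg_15_11540 : allRange 11540 11560 ((fun k => commNegCheck Cfsg.Lie.chevE8 (k / 240) (k % 240))) = true := by decide +kernel
theorem e8Cneg_15_11560 : allRange 11560 11580 ((fun k => commNegCheck Cfsg.Lie.chevE8 (k / 240) (k % 240))) = true := by decide +kernel
theorem e8Cneg_15_11580 : allRange 11580 11600 ((fun k => commNegCheck Cfsg.Lie.chevE8 (k / 240) (k % 240))) = true := by decide +kernel
theorem e8Cneg_15_11600 : allRange 11600 11620 ((fun k => commNegCheck Cfsg.Lie.chevE8 (k / 240) (k % 240))) = true := by decide +kernel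
theorem e8Cneg_15_11620 : allRange 11620 11640 ((fun k => commNegCheck Cfsg.Lie.chevE8 (k / 240) (k % 240))) = true := by decide +kernel
theorem e8Cneg_15_11640 : allRange 11640 11660 ((fun k => commNegCheck Cfsg.Lie.chevE8 (k / 240) (k % 240))) = true := by decide +kernel
theorem e8Cneg_15_11660 : allRange 11660 11680 ((fun k => commNegCheck Cfsg.Lie.chevE8 (k / 240) (k % 240))) = true := by decide +kernel
theorem e8Cneg_15_11680 : allRange 11680 11700 ((fun k => commNegCheck Cfsg.Lie.chevE8 (k / 240) (k % 240))) = true := by decide +kernel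
theorem e8Cneg_15_11700 : allRange 11700 11720 ((fun k => commNegCheck Cfsg.Lie.chevE8 (k / 240) (k % 240))) = true := by decide +kernel
theorem e8Cneg_15_11720 : allRange 11720 11740 ((fun k => commNegCheck Cfsg.Lie.chevE8 (k / 240) (k % 240))) = true := by decide +kernel
theorem e8Cneg_15_11740 : allRange 11740 11760 ((fun k => commNegCheck Cfsg.Lie.chevE8 (k / 240) (k % 240))) = true := by decide +kernel
theorem e8Cneg_15_11760 : allRange 11760 11780 ((fun k => commNegCheck Cfsg.Lie.chevE8 (k / 240) (k % 240))) = true := by decide +kernel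
theorem e8Cneg_15_11780 : allRange 11780 11800 ((fun k => commNegCheck Cfsg.Lie.chevE8 (k / 240) (k % 240))) = true := by decide +kernel
theorem e8Cneg_15_11800 : allRange 11800 11820 ((fun k => commNegCheck Cfsg.Lie.chevE8 (k / 240) (k % 240))) = true := by decide +kernel
theorem e8Cneg_15_11820 : allRange 11820 11840 ((fun k => commNegCheck Cfsg.Lie.chevE8 (k / 240) (k % 240))) = true := by decide +kernel
theorem e8Cneg_15_11840 : allRange 11840 11860 ((fun k => commNegCheck Cfsg.Lie.chevE8 (k / 240) (k % 240))) = true := by decide +kernel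
theorem e8Cneg_15_11860 : allRange 11860 11880 ((fun k => commNegCheck Cfsg.Lie.chevE8 (k / 240) (k % 240))) = true := by decide +kernel
theorem e8Cneg_15_11880 : allRange 11880 11900 ((fun k => commNegCheck Cfsg.Lie.chevE8 (k / 240) (k % 240))) = true := by decide +kernel
theorem e8Cneg_15_11900 : allRange 11900 11920 ((fun k => commNegCheck Cfsg.Lie.chevE8 (k / 240) (k % 240))) = true := by decide +kernel
theorem e8Cneg_15_11920 : allRange 11920 11940 ((fun k => commNegCheck Cfsg.Lie.chevE8 (k / 240) (k % 240))) = true := by decide +kernel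
theorem e8Cneg_15_11940 : allRange 11940 11960 ((fun k => commNegCheck Cfsg.Lie.chevE8 (k / 240) (k % 240))) = true := by decide +kernel
theorem e8Cneg_15_11960 : allRange 11960 11980 ((fun k => commNegCheck Cfsg.Lie.chevE8 (k / 240) (k % 240))) = true := by decide +kernel
theorem e8Cneg_15_11980 : allRange 11980 12000 ((fun k => commNegCheck Cfsg.Lie.chevE8 (k / 240) (k % 240))) = true := by decide +kernel
theorem e8Cneg_15_12000 : allRange 12000 12020 ((fun k => commNegCheck Cfsg.Lie.chevE8 (k / 240) (k % 240))) = true := by decide +kernel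
theorem e8Cneg_15_12020 : allRange 12020 12040 ((fun k => commNegCheck Cfsg.Lie.chevE8 (k / 240) (k % 240))) = true := by decide +kernel
theorem e8Cneg_15_12040 : allRange 12040 12060 ((fun k => commNegCheck Cfsg.Lie.chevE8 (k / 240) (k % 240))) = true := by decide +kernel
theorem e8Cneg_15_12060 : allRange 12060 12080 ((fun k => commNegCheck Cfsg.Lie.chevE8 (k / 240) (k % 240))) = true := by decide +kernel
theorem e8Cneg_15_12080 : allRange 12080 12100 ((fun k => commNegCheck Cfsg.Lie.chevE8 (k / 240) (k % 240))) = true := by decide +kernel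
theorem e8Cneg_15_12100 : allRange 12100 12120 ((fun k => commNegCheck Cfsg.Lie.chevE8 (k / 240) (k % 240))) = true := by decide +kernel
theorem e8Cneg_15_12120 : allRange 12120 12140 ((fun k => commNegCheck Cfsg.Lie.chevE8 (k / 240) (k % 240))) = true := by decide +kernel
theorem e8Cneg_15_12140 : allRange 12140 12160 ((fun k => commNegCheck Cfsg.Lie.chevE8 (k / 240) (k % 240))) = true := by decide +kernel

/-- The commutator formula of type E8 for opposite roots (roots 11400 to 12159). -/
theorem e8Cneg_15 : ∀ r, 11400 ≤ r → r < 12160 → ((fun k => commNegCheck Cfsg.Lie.chevE8 (k / 240) (k % 240))) r = true := by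
  intro r h1 h2
  by_cases c0 : r < 11420
  · exact allRange_spec e8Cneg_15_11400 r (by omega) c0
  by_cases c1 : r < 11440
  · exact allRange_spec e8Cneg_15_11420 r (by omega) c1
  by_cases c2 : r < 11460
  · exact allRange_spec e8Cneg_15_11440 r (by omega) c2
  by_cases c3 : r < 11480
  · exact allRange_spec e8Cneg_15_11460 r (by omega) c3
  by_cases c4 : r < 11500
  · exact allRange_spec e8Cneg_15_11480 r (by omega) c4
  by_cases c5 : r < 11520
  · exact allRange_spec e8Cneg_15_11500 r (by omega) c5
  by_cases c6 : r < 11540
  · exact allRange_spec e8Cneg_15_11520 r (by omega) c6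
  by_cases c7 : r < 11560
  · exact allRange_spec e8Cneg_15_11540 r (by omega) c7
  by_cases c8 : r < 11580
  · exact allRange_spec e8Cneg_15_11560 r (by omega) c8
  by_cases c9 : r < 11600
  · exact allRange_spec e8Cneg_15_11580 r (by omega) c9
  by_cases c10 : r < 11620
  · exact allRange_spec e8Cneg_15_11600 r (by omega) c10
  by_cases c11 : r < 11640
  · exact allRange_spec e8Cneg_15_11620 r (by omega) c11
  by_cases c12 : r < 11660
  · exact allRange_spec e8Cneg_15_11640 r (by omega) c12
  by_cases c13 : r < 11680
  · exact allRange_spec e8Cneg_15_11660 r (by omega) c13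
  by_cases c14 : r < 11700
  · exact allRange_spec e8Cneg_15_11680 r (by omega) c14
  by_cases c15 : r < 11720
  · exact allRange_spec e8Cneg_15_11700 r (by omega) c15
  by_cases c16 : r < 11740
  · exact allRange_spec e8Cneg_15_11720 r (by omega) c16
  by_cases c17 : r < 11760
  · exact allRange_spec e8Cneg_15_11740 r (by omega) c17
  by_cases c18 : r < 11780
  · exact allRange_spec e8Cneg_15_11760 r (by omega) c18
  by_cases c19 : r < 11800
  · exact allRange_spec e8Cneg_15_11780 r (by omega) c19
  by_cases c20 : r < 11820
  · exact allRange_spec e8Cneg_15_11800 r (by omega) c20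
  by_cases c21 : r < 11840
  · exact allRange_spec e8Cneg_15_11820 r (by omega) c21
  by_cases c22 : r < 11860
  · exact allRange_spec e8Cneg_15_11840 r (by omega) c22
  by_cases c23 : r < 11880
  · exact allRange_spec e8Cneg_15_11860 r (by omega) c23
  by_cases c24 : r < 11900
  · exact allRange_spec e8Cneg_15_11880 r (by omega) c24
  by_cases c25 : r < 11920
  · exact allRange_spec e8Cneg_15_11900 r (by omega) c25
  by_cases c26 : r < 11940
  · exact allRange_spec e8Cneg_15_11920 r (by omega) c26
  by_cases c27 : r < 11960
  · exact allRange_spec e8Cneg_15_11940 r (by omega) c27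
  by_cases c28 : r < 11980
  · exact allRange_spec e8Cneg_15_11960 r (by omega) c28
  by_cases c29 : r < 12000
  · exact allRange_spec e8Cneg_15_11980 r (by omega) c29
  by_cases c30 : r < 12020
  · exact allRange_spec e8Cneg_15_12000 r (by omega) c30
  by_cases c31 : r < 12040
  · exact allRange_spec e8Cneg_15_12020 r (by omega) c31
  by_cases c32 : r < 12060
  · exact allRange_spec e8Cneg_15_12040 r (by omega) c32
  by_cases c33 : r < 12080
  · exact allRange_spec e8Cneg_15_12060 r (by omega) c33
  by_cases c34 : r < 12100
  · exact allRange_spec e8Cneg_15_12080 r (by omega) c34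
  by_cases c35 : r < 12120
  · exact allRange_spec e8Cneg_15_12100 r (by omega) c35
  by_cases c36 : r < 12140
  · exact allRange_spec e8Cneg_15_12120 r (by omega) c36
  exact allRange_spec e8Cneg_15_12140 r (by omega) h2

end Cfsg.Agent.Lib.Helper3.ChevM
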