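import Cfsg.Prelude.Def_ChevE8
import Cfsg.Agent.Lib.Helper3.StB5
set_option autoImplicit false
set_option maxRecDepth 1000000
set_option Elab.async false

namespace Cfsg.Agent.Lib.Helper3.ChevM
open Cfsg.Agent.Lib.Helper3.StB

theorem e8Cneg_16_12160 : allRange 12160 12180 ((fun k => commNegCheck Cfsg.Lie.chevE8 (k / 240) (k % 240))) = true := by decide +kernel
theorem e8Cneg_16_12180 : allRange 12180 12200 ((fun k => commNegCheck Cfsg.Lie.chevE8 (k / 240) (k % 240))) = true := by decide +kernel
theorem e8Cneg_16_12200 : allRange 12200 12220 ((fun k => commNegCheck Cfsg.Lie.chevE8 (k / 240) (k % 240))) = true := by decide +kernel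
theorem e8Cneg_16_12220 : allRange 12220 12240 ((fun k => commNegCheck Cfsg.Lie.chevE8 (k / 240) (k % 240))) = true := by decide +kernel
theorem e8Cneg_16_12240 : allRange 12240 12260 ((fun k => commNegCheck Cfsg.Lie.chevE8 (k / 240) (k % 240))) = true := by decide +kernel
theorem e8Cneg_16_12260 : allRange 12260 12280 ((fun k => commNegCheck Cfsg.Lie.chevE8 (k / 240) (k % 240))) = true := by decide +kernel
theorem e8Cneg_16_12280 : allRange 12280 12300 ((fun k => commNegCheck Cfsg.Lie.chevE8 (k / 240) (k % 240))) = true := by decide +kernel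
theorem e8Cneg_16_12300 : allRange 12300 12320 ((fun k => commNegCheck Cfsg.Lie.chevE8 (k / 240) (k % 240))) = true := by decide +kernel
theorem e8Cneg_16_12320 : allRange 12320 12340 ((fun k => commNegCheck Cfsg.Lie.chevE8 (k / 240) (k % 240))) = true := by decide +kernel
theorem e8Cneg_16_12340 : allRange 12340 12360 ((fun k => commNegCheck Cfsg.Lie.chevE8 (k / 240) (k % 240))) = true := by decide +kernel
theorem e8Cneg_16_12360 : allRange 12360 12380 ((fun k => commNegCheck Cfsg.Lie.chevE8 (k / 240) (k % 240))) = true := by decide +kernel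
theorem e8Cneg_16_12380 : allRange 12380 12400 ((fun k => commNegCheck Cfsg.Lie.chevE8 (k / 240) (k % 240))) = true := by decide +kernel
theorem e8Cneg_16_12400 : allRange 12400 12420 ((fun k => commNegCheck Cfsg.Lie.chevE8 (k / 240) (k % 240))) = true := by decide +kernel
theorem e8Cneg_16_12420 : allRange 12420 12440 ((fun k => commNegCheck Cfsg.Lie.chevE8 (k / 240) (k % 240))) = true := by decide +kernel
theorem e8Cneg_16_12440 : allRange 12440 12460 ((fun k => commNegCheck Cfsg.Lie.chevE8 (k / 240) (k % 240))) = true := by decide +kernel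
theorem e8Cneg_16_12460 : allRange 12460 12480 ((fun k => commNegCheck Cfsg.Lie.chevE8 (k / 240) (k % 240))) = true := by decide +kernel
theorem e8Cneg_16_12480 : allRange 12480 12500 ((fun k => commNegCheck Cfsg.Lie.chevE8 (k / 240) (k % 240))) = true := by decide +kernel
theorem e8Cneg_16_12500 : allRange 12500 12520 ((fun k => commNegCheck Cfsg.Lie.chevE8 (k / 240) (k % 240))) = true := by decide +kernel
theorem e8Cneg_16_12520 : allRange 12520 12540 ((fun k => commNegCheck Cfsg.Lie.chevE8 (k / 240) (k % 240))) = true := by decide +kernel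
theorem e8Cneg_16_12540 : allRange 12540 12560 ((fun k => commNegCheck Cfsg.Lie.chevE8 (k / 240) (k % 240))) = true := by decide +kernel
theorem e8Cneg_16_12560 : allRange 12560 12580 ((fun k => commNegCheck Cfsg.Lie.chevE8 (k / 240) (k % 240))) = true := by decide +kernel
theorem e8Cneg_16_12580 : allRange 12580 12600 ((fun k => commNegCheck Cfsg.Lie.chevE8 (k / 240) (k % 240))) = true := by decide +kernel
theorem e8Cneg_16_12600 : allRange 12600 12620 ((fun k => commNegCheck Cfsg.Lie.chevE8 (k / 240) (k % 240))) = true := by decide +kernel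
theorem e8Cneg_16_12620 : allRange 12620 12640 ((fun k => commNegCheck Cfsg.Lie.chevE8 (k / 240) (k % 240))) = true := by decide +kernel
theorem e8Cneg_16_12640 : allRange 12640 12660 ((fun k => commNegCheck Cfsg.Lie.chevE8 (k / 240) (k % 240))) = true := by decide +kernel
theorem e8Cneg_16_12660 : allRange 12660 12680 ((fun k => commNegCheck Cfsg.Lie.chevE8 (k / 240) (k % 240))) = true := by decide +kernel
theorem e8Cneg_16_12680 : allRange 12680 12700 ((fun k => commNegCheck Cfsg.Lie.chevE8 (k / 240) (k % 240))) = true := by decide +kernel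
theorem e8Cneg_16_12700 : allRange 12700 12720 ((fun k => commNegCheck Cfsg.Lie.chevE8 (k / 240) (k % 240))) = true := by decide +kernel
theorem e8Cneg_16_12720 : allRange 12720 12740 ((fun k => commNegCheck Cfsg.Lie.chevE8 (k / 240) (k % 240))) = true := by decide +kernel
theorem e8Cneg_16_12740 : allRange 12740 12760 ((fun k => commNegCheck Cfsg.Lie.chevE8 (k / 240) (k % 240))) = true := by decide +kernel
theorem e8Cneg_16_12760 : allRange 12760 12780 ((fun k => commNegCheck Cfsg.Lie.chevE8 (k / 240) (k % 240))) = true := by decide +kernel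
theorem e8Cneg_16_12780 : allRange 12780 12800 ((fun k => commNegCheck Cfsg.Lie.chevE8 (k / 240) (k % 240))) = true := by decide +kernel
theorem e8Cneg_16_12800 : allRange 12800 12820 ((fun k => commNegCheck Cfsg.Lie.chevE8 (k / 240) (k % 240))) = true := by decide +kernel
theorem e8Cneg_16_12820 : allRange 12820 12840 ((fun k => commNegCheck Cfsg.Lie.chevE8 (k / 240) (k % 240))) = true := by decide +kernel
theorem e8Cneg_16_12840 : allRange 12840 12860 ((fun k => commNegCheck Cfsg.Lie.chevE8 (k / 240) (k % 240))) = true := by decide +kernel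
theorem e8Cneg_16_12860 : allRange 12860 12880 ((fun k => commNegCheck Cfsg.Lie.chevE8 (k / 240) (k % 240))) = true := by decide +kernel
theorem e8Cneg_16_12880 : allRange 12880 12900 ((fun k => commNegCheck Cfsg.Lie.chevE8 (k / 240) (k % 240))) = true := by decide +kernel
theorem e8Cneg_16_12900 : allRange 12900 12920 ((fun k => commNegCheck Cfsg.Lie.chevE8 (k / 240) (k % 240))) = true := by decide +kernel

/-- The commutator formula of type E8 for opposite roots (roots 12160 to 12919). -/
theorem e8Cneg_16 : ∀ r, 12160 ≤ r → r < 12920 → ((fun k => commNegCheck Cfsg.Lie.chevE8 (k / 240) (k % 240))) r = true := by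
  intro r h1 h2
  by_cases c0 : r < 12180
  · exact allRange_spec e8Cneg_16_12160 r (by omega) c0
  by_cases c1 : r < 12200
  · exact allRange_spec e8Cneg_16_12180 r (by omega) c1
  by_cases c2 : r < 12220
  · exact allRange_spec e8Cneg_16_12200 r (by omega) c2
  by_cases c3 : r < 12240
  · exact allRange_spec e8Cneg_16_12220 r (by omega) c3
  by_cases c4 : r < 12260
  · exact allRange_spec e8Cneg_16_12240 r (by omega) c4
  by_cases c5 : r < 12280
  · exact allRange_spec e8Cneg_16_12260 r (by omega) c5
  by_cases c6 : r < 12300
  · exact allRange_spec e8Cneg_16_12280 r (by omega) c6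
  by_cases c7 : r < 12320
  · exact allRange_spec e8Cneg_16_12300 r (by omega) c7
  by_cases c8 : r < 12340
  · exact allRange_spec e8Cneg_16_12320 r (by omega) c8
  by_cases c9 : r < 12360
  · exact allRange_spec e8Cneg_16_12340 r (by omega) c9
  by_cases c10 : r < 12380
  · exact allRange_spec e8Cneg_16_12360 r (by omega) c10
  by_cases c11 : r < 12400
  · exact allRange_spec e8Cneg_16_12380 r (by omega) c11
  by_cases c12 : r < 12420
  · exact allRange_spec e8Cneg_16_12400 r (by omega) c12
  by_cases c13 : r < 12440
  · exact allRange_spec e8Cneg_16_12420 r (by omega) c13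
  by_cases c14 : r < 12460
  · exact allRange_spec e8Cneg_16_12440 r (by omega) c14
  by_cases c15 : r < 12480
  · exact allRange_spec e8Cneg_16_12460 r (by omega) c15
  by_cases c16 : r < 12500
  · exact allRange_spec e8Cneg_16_12480 r (by omega) c16
  by_cases c17 : r < 12520
  · exact allRange_spec e8Cneg_16_12500 r (by omega) c17
  by_cases c18 : r < 12540
  · exact allRange_spec e8Cneg_16_12520 r (by omega) c18
  by_cases c19 : r < 12560
  · exact allRange_spec e8Cneg_16_12540 r (by omega) c19
  by_cases c20 : r < 12580
  · exact allRange_spec e8Cneg_16_12560 r (by omega) c20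
  by_cases c21 : r < 12600
  · exact allRange_spec e8Cneg_16_12580 r (by omega) c21
  by_cases c22 : r < 12620
  · exact allRange_spec e8Cneg_16_12600 r (by omega) c22
  by_cases c23 : r < 12640
  · exact allRange_spec e8Cneg_16_12620 r (by omega) c23
  by_cases c24 : r < 12660
  · exact allRange_spec e8Cneg_16_12640 r (by omega) c24
  by_cases c25 : r < 12680
  · exact allRange_spec e8Cneg_16_12660 r (by omega) c25
  by_cases c26 : r < 12700
  · exact allRange_spec e8Cneg_16_12680 r (by omega) c26
  by_cases c27 : r < 12720
  · exact allRange_spec e8Cneg_16_12700 r (by omega) c27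
  by_cases c28 : r < 12740
  · exact allRange_spec e8Cneg_16_12720 r (by omega) c28
  by_cases c29 : r < 12760
  · exact allRange_spec e8Cneg_16_12740 r (by omega) c29
  by_cases c30 : r < 12780
  · exact allRange_spec e8Cneg_16_12760 r (by omega) c30
  by_cases c31 : r < 12800
  · exact allRange_spec e8Cneg_16_12780 r (by omega) c31
  by_cases c32 : r < 12820
  · exact allRange_spec e8Cneg_16_12800 r (by omega) c32
  by_cases c33 : r < 12840
  · exact allRange_spec e8Cneg_16_12820 r (by omega) c33
  by_cases c34 : r < 12860
  · exact allRange_spec e8Cneg_16_12840 r (by omega) c34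
  by_cases c35 : r < 12880
  · exact allRange_spec e8Cneg_16_12860 r (by omega) c35
  by_cases c36 : r < 12900
  · exact allRange_spec e8Cneg_16_12880 r (by omega) c36
  exact allRange_spec e8Cneg_16_12900 r (by omega) h2

end Cfsg.Agent.Lib.Helper3.ChevM
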