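import Cfsg.Prelude.Def_ChevE8
import Cfsg.Agent.Lib.Helper3.StB5
set_option autoImplicit false
set_option maxRecDepth 1000000
set_option Elab.async false

namespace Cfsg.Agent.Lib.Helper3.ChevM
open Cfsg.Agent.Lib.Helper3.StB

theorem e8Cneg_17_12920 : allRange 12920 12940 ((fun k => commNegCheck Cfsg.Lie.chevE8 (k / 240) (k % 240))) = true := by decide +kernel
theorem e8Cneg_17_12940 : allRange 12940 12960 ((fun k => commNegCheck Cfsg.Lie.chevE8 (k / 240) (k % 240))) = true := by decide +kernel
theorem e8Cneg_17_12960 : allRange 12960 12980 ((fun k => commNegCheck Cfsg.Lie.chevE8 (k / 240) (k % 240))) = true := by decide +kernel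
theorem e8Cneg_17_12980 : allRange 12980 13000 ((fun k => commNegCheck Cfsg.Lie.chevE8 (k / 240) (k % 240))) = true := by decide +kernel
theorem e8Cneg_17_13000 : allRange 13000 13020 ((fun k => commNegCheck Cfsg.Lie.chevE8 (k / 240) (k % 240))) = true := by decide +kernel
theorem e8Cneg_17_13020 : allRange 13020 13040 ((fun k => commNegCheck Cfsg.Lie.chevE8 (k / 240) (k % 240))) = true := by decide +kernel
theorem e8Cneg_17_13040 : allRange 13040 13060 ((fun k => commNegCheck Cfsg.Lie.chevE8 (k / 240) (k % 240))) = true := by decide +kernel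
theorem e8Cneg_17_13060 : allRange 13060 13080 ((fun k => commNegCheck Cfsg.Lie.chevE8 (k / 240) (k % 240))) = true := by decide +kernel
theorem e8Cneg_17_13080 : allRange 13080 13100 ((fun k => commNegCheck Cfsg.Lie.chevE8 (k / 240) (k % 240))) = true := by decide +kernel
theorem e8Cneg_17_13100 : allRange 13100 13120 ((fun k => commNegCheck Cfsg.Lie.chevE8 (k / 240) (k % 240))) = true := by decide +kernel
theorem e8Cneg_17_13120 : allRange 13120 13140 ((fun k => commNegCheck Cfsg.Lie.chevE8 (k / 240) (k % 240))) = true := by decide +kernel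
theorem e8Cneg_17_13140 : allRange 13140 13160 ((fun k => commNegCheck Cfsg.Lie.chevE8 (k / 240) (k % 240))) = true := by decide +kernel
theorem e8Cneg_17_13160 : allRange 13160 13180 ((fun k => commNegCheck Cfsg.Lie.chevE8 (k / 240) (k % 240))) = true := by decide +kernel
theorem e8Cneg_17_13180 : allRange 13180 13200 ((fun k => commNegCheck Cfsg.Lie.chevE8 (k / 240) (k % 240))) = true := by decide +kernel
theorem e8Cneg_17_13200 : allRange 13200 13220 ((fun k => commNegCheck Cfsg.Lie.chevE8 (k / 240) (k % 240))) = true := by decide +kernel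
theorem e8Cneg_17_13220 : allRange 13220 13240 ((fun k => commNegCheck Cfsg.Lie.chevE8 (k / 240) (k % 240))) = true := by decide +kernel
theorem e8Cneg_17_13240 : allRange 13240 13260 ((fun k => commNegCheck Cfsg.Lie.chevE8 (k / 240) (k % 240))) = true := by decide +kernel
theorem e8Cneg_17_13260 : allRange 13260 13280 ((fun k => commNegCheck Cfsg.Lie.chevE8 (k / 240) (k % 240))) = true := by decide +kernel
theorem e8Cneg_17_13280 : allRange 13280 13300 ((fun k => commNegCheck Cfsg.Lie.chevE8 (k / 240) (k % 240))) = true := by decide +kernel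
theorem e8Cneg_17_13300 : allRange 13300 13320 ((fun k => commNegCheck Cfsg.Lie.chevE8 (k / 240) (k % 240))) = true := by decide +kernel
theorem e8Cneg_17_13320 : allRange 13320 13340 ((fun k => commNegCheck Cfsg.Lie.chevE8 (k / 240) (k % 240))) = true := by decide +kernel
theorem e8Cneg_17_13340 : allRange 13340 13360 ((fun k => commNegCheck Cfsg.Lie.chevE8 (k / 240) (k % 240))) = true := by decide +kernel
theorem e8Cneg_17_13360 : allRange 13360 13380 ((fun k => commNegCheck Cfsg.Lie.chevE8 (k / 240) (k % 240))) = true := by decide +kernel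
theorem e8Cneg_17_13380 : allRange 13380 13400 ((fun k => commNegCheck Cfsg.Lie.chevE8 (k / 240) (k % 240))) = true := by decide +kernel
theorem e8Cneg_17_13400 : allRange 13400 13420 ((fun k => commNegCheck Cfsg.Lie.chevE8 (k / 240) (k % 240))) = true := by decide +kernel
theorem e8Cneg_17_13420 : allRange 13420 13440 ((fun k => commNegCheck Cfsg.Lie.chevE8 (k / 240) (k % 240))) = true := by decide +kernel
theorem e8Cneg_17_13440 : allRange 13440 13460 ((fun k => commNegCheck Cfsg.Lie.chevE8 (k / 240) (k % 240))) = true := by decide +kernel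
theorem e8Cneg_17_13460 : allRange 13460 13480 ((fun k => commNegCheck Cfsg.Lie.chevE8 (k / 240) (k % 240))) = true := by decide +kernel
theorem e8Cneg_17_13480 : allRange 13480 13500 ((fun k => commNegCheck Cfsg.Lie.chevE8 (k / 240) (k % 240))) = true := by decide +kernel
theorem e8Cneg_17_13500 : allRange 13500 13520 ((fun k => commNegCheck Cfsg.Lie.chevE8 (k / 240) (k % 240))) = true := by decide +kernel
theorem e8Cneg_17_13520 : allRange 13520 13540 ((fun k => commNegCheck Cfsg.Lie.chevE8 (k / 240) (k % 240))) = true := by decide +kernel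
theorem e8Cneg_17_13540 : allRange 13540 13560 ((fun k => commNegCheck Cfsg.Lie.chevE8 (k / 240) (k % 240))) = true := by decide +kernel
theorem e8Cneg_17_13560 : allRange 13560 13580 ((fun k => commNegCheck Cfsg.Lie.chevE8 (k / 240) (k % 240))) = true := by decide +kernel
theorem e8Cneg_17_13580 : allRange 13580 13600 ((fun k => commNegCheck Cfsg.Lie.chevE8 (k / 240) (k % 240))) = true := by decide +kernel
theorem e8Cneg_17_13600 : allRange 13600 13620 ((fun k => commNegCheck Cfsg.Lie.chevE8 (k / 240) (k % 240))) = true := by decide +kernel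
theorem e8Cneg_17_13620 : allRange 13620 13640 ((fun k => commNegCheck Cfsg.Lie.chevE8 (k / 240) (k % 240))) = true := by decide +kernel
theorem e8Cneg_17_13640 : allRange 13640 13660 ((fun k => commNegCheck Cfsg.Lie.chevE8 (k / 240) (k % 240))) = true := by decide +kernel
theorem e8Cneg_17_13660 : allRange 13660 13680 ((fun k => commNegCheck Cfsg.Lie.chevE8 (k / 240) (k % 240))) = true := by decide +kernel

/-- The commutator formula of type E8 for opposite roots (roots 12920 to 13679). -/
theorem e8Cneg_17 : ∀ r, 12920 ≤ r → r < 13680 → ((fun k => commNegCheck Cfsg.Lie.chevE8 (k / 240) (k % 240))) r = true := by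
  intro r h1 h2
  by_cases c0 : r < 12940
  · exact allRange_spec e8Cneg_17_12920 r (by omega) c0
  by_cases c1 : r < 12960
  · exact allRange_spec e8Cneg_17_12940 r (by omega) c1
  by_cases c2 : r < 12980
  · exact allRange_spec e8Cneg_17_12960 r (by omega) c2
  by_cases c3 : r < 13000
  · exact allRange_spec e8Cneg_17_12980 r (by omega) c3
  by_cases c4 : r < 13020
  · exact allRange_spec e8Cneg_17_13000 r (by omega) c4
  by_cases c5 : r < 13040
  · exact allRange_spec e8Cneg_17_13020 r (by omega) c5
  by_cases c6 : r < 13060
  · exact allRange_spec e8Cneg_17_13040 r (by omega) c6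
  by_cases c7 : r < 13080
  · exact allRange_spec e8Cneg_17_13060 r (by omega) c7
  by_cases c8 : r < 13100
  · exact allRange_spec e8Cneg_17_13080 r (by omega) c8
  by_cases c9 : r < 13120
  · exact allRange_spec e8Cneg_17_13100 r (by omega) c9
  by_cases c10 : r < 13140
  · exact allRange_spec e8Cneg_17_13120 r (by omega) c10
  by_cases c11 : r < 13160
  · exact allRange_spec e8Cneg_17_13140 r (by omega) c11
  by_cases c12 : r < 13180
  · exact allRange_spec e8Cneg_17_13160 r (by omega) c12
  by_cases c13 : r < 13200
  · exact allRange_spec e8Cneg_17_13180 r (by omega) c13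
  by_cases c14 : r < 13220
  · exact allRange_spec e8Cneg_17_13200 r (by omega) c14
  by_cases c15 : r < 13240
  · exact allRange_spec e8Cneg_17_13220 r (by omega) c15
  by_cases c16 : r < 13260
  · exact allRange_spec e8Cneg_17_13240 r (by omega) c16
  by_cases c17 : r < 13280
  · exact allRange_spec e8Cneg_17_13260 r (by omega) c17
  by_cases c18 : r < 13300
  · exact allRange_spec e8Cneg_17_13280 r (by omega) c18
  by_cases c19 : r < 13320
  · exact allRange_spec e8Cneg_17_13300 r (by omega) c19
  by_cases c20 : r < 13340
  · exact allRange_spec e8Cneg_17_13320 r (by omega) c20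
  by_cases c21 : r < 13360
  · exact allRange_spec e8Cneg_17_13340 r (by omega) c21
  by_cases c22 : r < 13380
  · exact allRange_spec e8Cneg_17_13360 r (by omega) c22
  by_cases c23 : r < 13400
  · exact allRange_spec e8Cneg_17_13380 r (by omega) c23
  by_cases c24 : r < 13420
  · exact allRange_spec e8Cneg_17_13400 r (by omega) c24
  by_cases c25 : r < 13440
  · exact allRange_spec e8Cneg_17_13420 r (by omega) c25
  by_cases c26 : r < 13460
  · exact allRange_spec e8Cneg_17_13440 r (by omega) c26
  by_cases c27 : r < 13480
  · exact allRange_spec e8Cneg_17_13460 r (by omega) c27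
  by_cases c28 : r < 13500
  · exact allRange_spec e8Cneg_17_13480 r (by omega) c28
  by_cases c29 : r < 13520
  · exact allRange_spec e8Cneg_17_13500 r (by omega) c29
  by_cases c30 : r < 13540
  · exact allRange_spec e8Cneg_17_13520 r (by omega) c30
  by_cases c31 : r < 13560
  · exact allRange_spec e8Cneg_17_13540 r (by omega) c31
  by_cases c32 : r < 13580
  · exact allRange_spec e8Cneg_17_13560 r (by omega) c32
  by_cases c33 : r < 13600
  · exact allRange_spec e8Cneg_17_13580 r (by omega) c33
  by_cases c34 : r < 13620
  · exact allRange_spec e8Cneg_17_13600 r (by omega) c34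
  by_cases c35 : r < 13640
  · exact allRange_spec e8Cneg_17_13620 r (by omega) c35
  by_cases c36 : r < 13660
  · exact allRange_spec e8Cneg_17_13640 r (by omega) c36
  exact allRange_spec e8Cneg_17_13660 r (by omega) h2

end Cfsg.Agent.Lib.Helper3.ChevM
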