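import Cfsg.Prelude.Def_ChevE8
import Cfsg.Agent.Lib.Helper3.StB5
set_option autoImplicit false
set_option maxRecDepth 1000000
set_option Elab.async false

namespace Cfsg.Agent.Lib.Helper3.ChevM
open Cfsg.Agent.Lib.Helper3.StB

theorem e8Cneg_18_13680 : allRange 13680 13700 ((fun k => commNegCheck Cfsg.Lie.chevE8 (k / 240) (k % 240))) = true := by decide +kernel
theorem e8Cneg_18_13700 : allRange 13700 13720 ((fun k => commNegCheck Cfsg.Lie.chevE8 (k / 240) (k % 240))) = true := by decide +kernel
theorem e8Cneg_18_13720 : allRange 13720 13740 ((fun k => commNegCheck Cfsg.Lie.chevE8 (k / 240) (k % 240))) = true := by decide +kernel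
theorem e8Cneg_18_13740 : allRange 13740 13760 ((fun k => commNegCheck Cfsg.Lie.chevE8 (k / 240) (k % 240))) = true := by decide +kernel
theorem e8Cneg_18_13760 : allRange 13760 13780 ((fun k => commNegCheck Cfsg.Lie.chevE8 (k / 240) (k % 240))) = true := by decide +kernel
theorem e8Cneg_18_13780 : allRange 13780 13800 ((fun k => commNegCheck Cfsg.Lie.chevE8 (k / 240) (k % 240))) = true := by decide +kernel
theorem e8Cneg_18_13800 : allRange 13800 13820 ((fun k => commNegCheck Cfsg.Lie.chevE8 (k / 240) (k % 240))) = true := by decide +kernel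
theorem e8Cneg_18_13820 : allRange 13820 13840 ((fun k => commNegCheck Cfsg.Lie.chevE8 (k / 240) (k % 240))) = true := by decide +kernel
theorem e8Cneg_18_13840 : allRange 13840 13860 ((fun k => commNegCheck Cfsg.Lie.chevE8 (k / 240) (k % 240))) = true := by decide +kernel
theorem e8Cneg_18_13860 : allRange 13860 13880 ((fun k => commNegCheck Cfsg.Lie.chevE8 (k / 240) (k % 240))) = true := by decide +kernel
theorem e8Cneg_18_13880 : allRange 13880 13900 ((fun k => commNegCheck Cfsg.Lie.chevE8 (k / 240) (k % 240))) = true := by decide +kernel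
theorem e8Cneg_18_13900 : allRange 13900 13920 ((fun k => commNegCheck Cfsg.Lie.chevE8 (k / 240) (k % 240))) = true := by decide +kernel
theorem e8Cneg_18_13920 : allRange 13920 13940 ((fun k => commNegCheck Cfsg.Lie.chevE8 (k / 240) (k % 240))) = true := by decide +kernel
theorem e8Cneg_18_13940 : allRange 13940 13960 ((fun k => commNegCheck Cfsg.Lie.chevE8 (k / 240) (k % 240))) = true := by decide +kernel
theorem e8Cneg_18_13960 : allRange 13960 13980 ((fun k => commNegCheck Cfsg.Lie.chevE8 (k / 240) (k % 240))) = true := by decide +kernel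
theorem e8Cneg_18_13980 : allRange 13980 14000 ((fun k => commNegCheck Cfsg.Lie.chevE8 (k / 240) (k % 240))) = true := by decide +kernel
theorem e8Cneg_18_14000 : allRange 14000 14020 ((fun k => commNegCheck Cfsg.Lie.chevE8 (k / 240) (k % 240))) = true := by decide +kernel
theorem e8Cneg_18_14020 : allRange 14020 14040 ((fun k => commNegCheck Cfsg.Lie.chevE8 (k / 240) (k % 240))) = true := by decide +kernel
theorem e8Cneg_18_14040 : allRange 14040 14060 ((fun k => commNegCheck Cfsg.Lie.chevE8 (k / 240) (k % 240))) = true := by decide +kernel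
theorem e8Cneg_18_14060 : allRange 14060 14080 ((fun k => commNegCheck Cfsg.Lie.chevE8 (k / 240) (k % 240))) = true := by decide +kernel
theorem e8Cneg_18_14080 : allRange 14080 14100 ((fun k => commNegCheck Cfsg.Lie.chevE8 (k / 240) (k % 240))) = true := by decide +kernel
theorem e8Cneg_18_14100 : allRange 14100 14120 ((fun k => commNegCheck Cfsg.Lie.chevE8 (k / 240) (k % 240))) = true := by decide +kernel
theorem e8Cneg_18_14120 : allRange 14120 14140 ((fun k => commNegCheck Cfsg.Lie.chevE8 (k / 240) (k % 240))) = true := by decide +kernel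
theorem e8Cneg_18_14140 : allRange 14140 14160 ((fun k => commNegCheck Cfsg.Lie.chevE8 (k / 240) (k % 240))) = true := by decide +kernel
theorem e8Cneg_18_14160 : allRange 14160 14180 ((fun k => commNegCheck Cfsg.Lie.chevE8 (k / 240) (k % 240))) = true := by decide +kernel
theorem e8Cneg_18_14180 : allRange 14180 14200 ((fun k => commNegCheck Cfsg.Lie.chevE8 (k / 240) (k % 240))) = true := by decide +kernel
theorem e8Cneg_18_14200 : allRange 14200 14220 ((fun k => commNegCheck Cfsg.Lie.chevE8 (k / 240) (k % 240))) = true := by decide +kernel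
theorem e8Cneg_18_14220 : allRange 14220 14240 ((fun k => commNegCheck Cfsg.Lie.chevE8 (k / 240) (k % 240))) = true := by decide +kernel
theorem e8Cneg_18_14240 : allRange 14240 14260 ((fun k => commNegCheck Cfsg.Lie.chevE8 (k / 240) (k % 240))) = true := by decide +kernel
theorem e8Cneg_18_14260 : allRange 14260 14280 ((fun k => commNegCheck Cfsg.Lie.chevE8 (k / 240) (k % 240))) = true := by decide +kernel
theorem e8Cneg_18_14280 : allRange 14280 14300 ((fun k => commNegCheck Cfsg.Lie.chevE8 (k / 240) (k % 240))) = true := by decide +kernel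
theorem e8Cneg_18_14300 : allRange 14300 14320 ((fun k => commNegCheck Cfsg.Lie.chevE8 (k / 240) (k % 240))) = true := by decide +kernel
theorem e8Cneg_18_14320 : allRange 14320 14340 ((fun k => commNegCheck Cfsg.Lie.chevE8 (k / 240) (k % 240))) = true := by decide +kernel
theorem e8Cneg_18_14340 : allRange 14340 14360 ((fun k => commNegCheck Cfsg.Lie.chevE8 (k / 240) (k % 240))) = true := by decide +kernel
theorem e8Cneg_18_14360 : allRange 14360 14380 ((fun k => commNegCheck Cfsg.Lie.chevE8 (k / 240) (k % 240))) = true := by decide +kernel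
theorem e8Cneg_18_14380 : allRange 14380 14400 ((fun k => commNegCheck Cfsg.Lie.chevE8 (k / 240) (k % 240))) = true := by decide +kernel
theorem e8Cneg_18_14400 : allRange 14400 14420 ((fun k => commNegCheck Cfsg.Lie.chevE8 (k / 240) (k % 240))) = true := by decide +kernel
theorem e8Cneg_18_14420 : allRange 14420 14440 ((fun k => commNegCheck Cfsg.Lie.chevE8 (k / 240) (k % 240))) = true := by decide +kernel

/-- The commutator formula of type E8 for opposite roots (roots 13680 to 14439). -/
theorem e8Cneg_18 : ∀ r, 13680 ≤ r → r < 14440 → ((fun k => commNegCheck Cfsg.Lie.chevE8 (k / 240) (k % 240))) r = true := by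
  intro r h1 h2
  by_cases c0 : r < 13700
  · exact allRange_spec e8Cneg_18_13680 r (by omega) c0
  by_cases c1 : r < 13720
  · exact allRange_spec e8Cneg_18_13700 r (by omega) c1
  by_cases c2 : r < 13740
  · exact allRange_spec e8Cneg_18_13720 r (by omega) c2
  by_cases c3 : r < 13760
  · exact allRange_spec e8Cneg_18_13740 r (by omega) c3
  by_cases c4 : r < 13780
  · exact allRange_spec e8Cneg_18_13760 r (by omega) c4
  by_cases c5 : r < 13800
  · exact allRange_spec e8Cneg_18_13780 r (by omega) c5
  by_cases c6 : r < 13820
  · exact allRange_spec e8Cneg_18_13800 r (by omega) c6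
  by_cases c7 : r < 13840
  · exact allRange_spec e8Cneg_18_13820 r (by omega) c7
  by_cases c8 : r < 13860
  · exact allRange_spec e8Cneg_18_13840 r (by omega) c8
  by_cases c9 : r < 13880
  · exact allRange_spec e8Cneg_18_13860 r (by omega) c9
  by_cases c10 : r < 13900
  · exact allRange_spec e8Cneg_18_13880 r (by omega) c10
  by_cases c11 : r < 13920
  · exact allRange_spec e8Cneg_18_13900 r (by omega) c11
  by_cases c12 : r < 13940
  · exact allRange_spec e8Cneg_18_13920 r (by omega) c12
  by_cases c13 : r < 13960
  · exact allRange_spec e8Cneg_18_13940 r (by omega) c13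
  by_cases c14 : r < 13980
  · exact allRange_spec e8Cneg_18_13960 r (by omega) c14
  by_cases c15 : r < 14000
  · exact allRange_spec e8Cneg_18_13980 r (by omega) c15
  by_cases c16 : r < 14020
  · exact allRange_spec e8Cneg_18_14000 r (by omega) c16
  by_cases c17 : r < 14040
  · exact allRange_spec e8Cneg_18_14020 r (by omega) c17
  by_cases c18 : r < 14060
  · exact allRange_spec e8Cneg_18_14040 r (by omega) c18
  by_cases c19 : r < 14080
  · exact allRange_spec e8Cneg_18_14060 r (by omega) c19
  by_cases c20 : r < 14100
  · exact allRange_spec e8Cneg_18_14080 r (by omega) c20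
  by_cases c21 : r < 14120
  · exact allRange_spec e8Cneg_18_14100 r (by omega) c21
  by_cases c22 : r < 14140
  · exact allRange_spec e8Cneg_18_14120 r (by omega) c22
  by_cases c23 : r < 14160
  · exact allRange_spec e8Cneg_18_14140 r (by omega) c23
  by_cases c24 : r < 14180
  · exact allRange_spec e8Cneg_18_14160 r (by omega) c24
  by_cases c25 : r < 14200
  · exact allRange_spec e8Cneg_18_14180 r (by omega) c25
  by_cases c26 : r < 14220
  · exact allRange_spec e8Cneg_18_14200 r (by omega) c26
  by_cases c27 : r < 14240
  · exact allRange_spec e8Cneg_18_14220 r (by omega) c27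
  by_cases c28 : r < 14260
  · exact allRange_spec e8Cneg_18_14240 r (by omega) c28
  by_cases c29 : r < 14280
  · exact allRange_spec e8Cneg_18_14260 r (by omega) c29
  by_cases c30 : r < 14300
  · exact allRange_spec e8Cneg_18_14280 r (by omega) c30
  by_cases c31 : r < 14320
  · exact allRange_spec e8Cneg_18_14300 r (by omega) c31
  by_cases c32 : r < 14340
  · exact allRange_spec e8Cneg_18_14320 r (by omega) c32
  by_cases c33 : r < 14360
  · exact allRange_spec e8Cneg_18_14340 r (by omega) c33
  by_cases c34 : r < 14380
  · exact allRange_spec e8Cneg_18_14360 r (by omega) c34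
  by_cases c35 : r < 14400
  · exact allRange_spec e8Cneg_18_14380 r (by omega) c35
  by_cases c36 : r < 14420
  · exact allRange_spec e8Cneg_18_14400 r (by omega) c36
  exact allRange_spec e8Cneg_18_14420 r (by omega) h2

end Cfsg.Agent.Lib.Helper3.ChevM
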