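import Cfsg.Prelude.Def_ChevE8
import Cfsg.Agent.Lib.Helper3.StB5
set_option autoImplicit false
set_option maxRecDepth 1000000
set_option Elab.async false

namespace Cfsg.Agent.Lib.Helper3.ChevM
open Cfsg.Agent.Lib.Helper3.StB

theorem e8Cneg_19_14440 : allRange 14440 14460 ((fun k => commNegCheck Cfsg.Lie.chevE8 (k / 240) (k % 240))) = true := by decide +kernel
theorem e8Cneg_19_14460 : allRange 14460 14480 ((fun k => commNegCheck Cfsg.Lie.chevE8 (k / 240) (k % 240))) = true := by decide +kernel
theorem e8Cneg_19_14480 : allRange 14480 14500 ((fun k => commNegCheck Cfsg.Lie.chevE8 (k / 240) (k % 240))) = true := by decide +kernel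
theorem e8Cneg_19_14500 : allRange 14500 14520 ((fun k => commNegCheck Cfsg.Lie.chevE8 (k / 240) (k % 240))) = true := by decide +kernel
theorem e8Cneg_19_14520 : allRange 14520 14540 ((fun k => commNegCheck Cfsg.Lie.chevE8 (k / 240) (k % 240))) = true := by decide +kernel
theorem e8Cneg_19_14540 : allRange 14540 14560 ((fun k => commNegCheck Cfsg.Lie.chevE8 (k / 240) (k % 240))) = true := by decide +kernel
theorem e8Cneg_19_14560 : allRange 14560 14580 ((fun k => commNegCheck Cfsg.Lie.chevE8 (k / 240) (k % 240))) = true := by decide +kernel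
theorem e8Cneg_19_14580 : allRange 14580 14600 ((fun k => commNegCheck Cfsg.Lie.chevE8 (k / 240) (k % 240))) = true := by decide +kernel
theorem e8Cneg_19_14600 : allRange 14600 14620 ((fun k => commNegCheck Cfsg.Lie.chevE8 (k / 240) (k % 240))) = true := by decide +kernel
theorem e8Cneg_19_14620 : allRange 14620 14640 ((fun k => commNegCheck Cfsg.Lie.chevE8 (k / 240) (k % 240))) = true := by decide +kernel
theorem e8Cneg_19_14640 : allRange 14640 14660 ((fun k => commNegCheck Cfsg.Lie.chevE8 (k / 240) (k % 240))) = true := by decide +kernel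
theorem e8Cneg_19_14660 : allRange 14660 14680 ((fun k => commNegCheck Cfsg.Lie.chevE8 (k / 240) (k % 240))) = true := by decide +kernel
theorem e8Cneg_19_14680 : allRange 14680 14700 ((fun k => commNegCheck Cfsg.Lie.chevE8 (k / 240) (k % 240))) = true := by decide +kernel
theorem e8Cneg_19_14700 : allRange 14700 14720 ((fun k => commNegCheck Cfsg.Lie.chevE8 (k / 240) (k % 240))) = true := by decide +kernel
theorem e8Cneg_19_14720 : allRange 14720 14740 ((fun k => commNegCheck Cfsg.Lie.chevE8 (k / 240) (k % 240))) = true := by decide +kernel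
theorem e8Cneg_19_14740 : allRange 14740 14760 ((fun k => commNegCheck Cfsg.Lie.chevE8 (k / 240) (k % 240))) = true := by decide +kernel
theorem e8Cneg_19_14760 : allRange 14760 14780 ((fun k => commNegCheck Cfsg.Lie.chevE8 (k / 240) (k % 240))) = true := by decide +kernel
theorem e8Cneg_19_14780 : allRange 14780 14800 ((fun k => commNegCheck Cfsg.Lie.chevE8 (k / 240) (k % 240))) = true := by decide +kernel
theorem e8Cneg_19_14800 : allRange 14800 14820 ((fun k => commNegCheck Cfsg.Lie.chevE8 (k / 240) (k % 240))) = true := by decide +kernel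
theorem e8Cneg_19_14820 : allRange 14820 14840 ((fun k => commNegCheck Cfsg.Lie.chevE8 (k / 240) (k % 240))) = true := by decide +kernel
theorem e8Cneg_19_14840 : allRange 14840 14860 ((fun k => commNegCheck Cfsg.Lie.chevE8 (k / 240) (k % 240))) = true := by decide +kernel
theorem e8Cneg_19_14860 : allRange 14860 14880 ((fun k => commNegCheck Cfsg.Lie.chevE8 (k / 240) (k % 240))) = true := by decide +kernel
theorem e8Cneg_19_14880 : allRange 14880 14900 ((fun k => commNegCheck Cfsg.Lie.chevE8 (k / 240) (k % 240))) = true := by decide +kernel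
theorem e8Cneg_19_14900 : allRange 14900 14920 ((fun k => commNegCheck Cfsg.Lie.chevE8 (k / 240) (k % 240))) = true := by decide +kernel
theorem e8Cneg_19_14920 : allRange 14920 14940 ((fun k => commNegCheck Cfsg.Lie.chevE8 (k / 240) (k % 240))) = true := by decide +kernel
theorem e8Cneg_19_14940 : allRange 14940 14960 ((fun k => commNegCheck Cfsg.Lie.chevE8 (k / 240) (k % 240))) = true := by decide +kernel
theorem e8Cneg_19_14960 : allRange 14960 14980 ((fun k => commNegCheck Cfsg.Lie.chevE8 (k / 240) (k % 240))) = true := by decide +kernel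
theorem e8Cneg_19_14980 : allRange 14980 15000 ((fun k => commNegCheck Cfsg.Lie.chevE8 (k / 240) (k % 240))) = true := by decide +kernel
theorem e8Cneg_19_15000 : allRange 15000 15020 ((fun k => commNegCheck Cfsg.Lie.chevE8 (k / 240) (k % 240))) = true := by decide +kernel
theorem e8Cneg_19_15020 : allRange 15020 15040 ((fun k => commNegCheck Cfsg.Lie.chevE8 (k / 240) (k % 240))) = true := by decide +kernel
theorem e8Cneg_19_15040 : allRange 15040 15060 ((fun k => commNegCheck Cfsg.Lie.chevE8 (k / 240) (k % 240))) = true := by decide +kernel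
theorem e8Cneg_19_15060 : allRange 15060 15080 ((fun k => commNegCheck Cfsg.Lie.chevE8 (k / 240) (k % 240))) = true := by decide +kernel
theorem e8Cneg_19_15080 : allRange 15080 15100 ((fun k => commNegCheck Cfsg.Lie.chevE8 (k / 240) (k % 240))) = true := by decide +kernel
theorem e8Cneg_19_15100 : allRange 15100 15120 ((fun k => commNegCheck Cfsg.Lie.chevE8 (k / 240) (k % 240))) = true := by decide +kernel
theorem e8Cneg_19_15120 : allRange 15120 15140 ((fun k => commNegCheck Cfsg.Lie.chevE8 (k / 240) (k % 240))) = true := by decide +kernel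
theorem e8Cneg_19_15140 : allRange 15140 15160 ((fun k => commNegCheck Cfsg.Lie.chevE8 (k / 240) (k % 240))) = true := by decide +kernel
theorem e8Cneg_19_15160 : allRange 15160 15180 ((fun k => commNegCheck Cfsg.Lie.chevE8 (k / 240) (k % 240))) = true := by decide +kernel
theorem e8Cneg_19_15180 : allRange 15180 15200 ((fun k => commNegCheck Cfsg.Lie.chevE8 (k / 240) (k % 240))) = true := by decide +kernel

/-- The commutator formula of type E8 for opposite roots (roots 14440 to 15199). -/
theorem e8Cneg_19 : ∀ r, 14440 ≤ r → r < 15200 → ((fun k => commNegCheck Cfsg.Lie.chevE8 (k / 240) (k % 240))) r = true := by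
  intro r h1 h2
  by_cases c0 : r < 14460
  · exact allRange_spec e8Cneg_19_14440 r (by omega) c0
  by_cases c1 : r < 14480
  · exact allRange_spec e8Cneg_19_14460 r (by omega) c1
  by_cases c2 : r < 14500
  · exact allRange_spec e8Cneg_19_14480 r (by omega) c2
  by_cases c3 : r < 14520
  · exact allRange_spec e8Cneg_19_14500 r (by omega) c3
  by_cases c4 : r < 14540
  · exact allRange_spec e8Cneg_19_14520 r (by omega) c4
  by_cases c5 : r < 14560
  · exact allRange_spec e8Cneg_19_14540 r (by omega) c5
  by_cases c6 : r < 14580
  · exact allRange_spec e8Cneg_19_14560 r (by omega) c6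
  by_cases c7 : r < 14600
  · exact allRange_spec e8Cneg_19_14580 r (by omega) c7
  by_cases c8 : r < 14620
  · exact allRange_spec e8Cneg_19_14600 r (by omega) c8
  by_cases c9 : r < 14640
  · exact allRange_spec e8Cneg_19_14620 r (by omega) c9
  by_cases c10 : r < 14660
  · exact allRange_spec e8Cneg_19_14640 r (by omega) c10
  by_cases c11 : r < 14680
  · exact allRange_spec e8Cneg_19_14660 r (by omega) c11
  by_cases c12 : r < 14700
  · exact allRange_spec e8Cneg_19_14680 r (by omega) c12
  by_cases c13 : r < 14720
  · exact allRange_spec e8Cneg_19_14700 r (by omega) c13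
  by_cases c14 : r < 14740
  · exact allRange_spec e8Cneg_19_14720 r (by omega) c14
  by_cases c15 : r < 14760
  · exact allRange_spec e8Cneg_19_14740 r (by omega) c15
  by_cases c16 : r < 14780
  · exact allRange_spec e8Cneg_19_14760 r (by omega) c16
  by_cases c17 : r < 14800
  · exact allRange_spec e8Cneg_19_14780 r (by omega) c17
  by_cases c18 : r < 14820
  · exact allRange_spec e8Cneg_19_14800 r (by omega) c18
  by_cases c19 : r < 14840
  · exact allRange_spec e8Cneg_19_14820 r (by omega) c19
  by_cases c20 : r < 14860
  · exact allRange_spec e8Cneg_19_14840 r (by omega) c20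
  by_cases c21 : r < 14880
  · exact allRange_spec e8Cneg_19_14860 r (by omega) c21
  by_cases c22 : r < 14900
  · exact allRange_spec e8Cneg_19_14880 r (by omega) c22
  by_cases c23 : r < 14920
  · exact allRange_spec e8Cneg_19_14900 r (by omega) c23
  by_cases c24 : r < 14940
  · exact allRange_spec e8Cneg_19_14920 r (by omega) c24
  by_cases c25 : r < 14960
  · exact allRange_spec e8Cneg_19_14940 r (by omega) c25
  by_cases c26 : r < 14980
  · exact allRange_spec e8Cneg_19_14960 r (by omega) c26
  by_cases c27 : r < 15000
  · exact allRange_spec e8Cneg_19_14980 r (by omega) c27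
  by_cases c28 : r < 15020
  · exact allRange_spec e8Cneg_19_15000 r (by omega) c28
  by_cases c29 : r < 15040
  · exact allRange_spec e8Cneg_19_15020 r (by omega) c29
  by_cases c30 : r < 15060
  · exact allRange_spec e8Cneg_19_15040 r (by omega) c30
  by_cases c31 : r < 15080
  · exact allRange_spec e8Cneg_19_15060 r (by omega) c31
  by_cases c32 : r < 15100
  · exact allRange_spec e8Cneg_19_15080 r (by omega) c32
  by_cases c33 : r < 15120
  · exact allRange_spec e8Cneg_19_15100 r (by omega) c33
  by_cases c34 : r < 15140
  · exact allRange_spec e8Cneg_19_15120 r (by omega) c34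
  by_cases c35 : r < 15160
  · exact allRange_spec e8Cneg_19_15140 r (by omega) c35
  by_cases c36 : r < 15180
  · exact allRange_spec e8Cneg_19_15160 r (by omega) c36
  exact allRange_spec e8Cneg_19_15180 r (by omega) h2

end Cfsg.Agent.Lib.Helper3.ChevM
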