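import Cfsg.Prelude.Def_ChevE8
import Cfsg.Agent.Lib.Helper3.StB5
set_option autoImplicit false
set_option maxRecDepth 1000000
set_option Elab.async false

namespace Cfsg.Agent.Lib.Helper3.ChevM
open Cfsg.Agent.Lib.Helper3.StB

theorem e8Cneg_20_15200 : allRange 15200 15220 ((fun k => commNegCheck Cfsg.Lie.chevE8 (k / 240) (k % 240))) = true := by decide +kernel
theorem e8Cneg_20_15220 : allRange 15220 15240 ((fun k => commNegCheck Cfsg.Lie.chevE8 (k / 240) (k % 240))) = true := by decide +kernel
theorem e8Cneg_20_15240 : allRange 15240 15260 ((fun k => commNegCheck Cfsg.Lie.chevE8 (k / 240) (k % 240))) = true := by decide +kernel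
theorem e8Cneg_20_15260 : allRange 15260 15280 ((fun k => commNegCheck Cfsg.Lie.chevE8 (k / 240) (k % 240))) = true := by decide +kernel
theorem e8Cneg_20_15280 : allRange 15280 15300 ((fun k => commNegCheck Cfsg.Lie.chevE8 (k / 240) (k % 240))) = true := by decide +kernel
theorem e8Cneg_20_15300 : allRange 15300 15320 ((fun k => commNegCheck Cfsg.Lie.chevE8 (k / 240) (k % 240))) = true := by decide +kernel
theorem e8Cneg_20_15320 : allRange 15320 15340 ((fun k => commNegCheck Cfsg.Lie.chevE8 (k / 240) (k % 240))) = true := by decide +kernel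
theorem e8Cneg_20_15340 : allRange 15340 15360 ((fun k => commNegCheck Cfsg.Lie.chevE8 (k / 240) (k % 240))) = true := by decide +kernel
theorem e8Cneg_20_15360 : allRange 15360 15380 ((fun k => commNegCheck Cfsg.Lie.chevE8 (k / 240) (k % 240))) = true := by decide +kernel
theorem e8Cneg_20_15380 : allRange 15380 15400 ((fun k => commNegCheck Cfsg.Lie.chevE8 (k / 240) (k % 240))) = true := by decide +kernel
theorem e8Cneg_20_15400 : allRange 15400 15420 ((fun k => commNegCheck Cfsg.Lie.chevE8 (k / 240) (k % 240))) = true := by decide +kernel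
theorem e8Cneg_20_15420 : allRange 15420 15440 ((fun k => commNegCheck Cfsg.Lie.chevE8 (k / 240) (k % 240))) = true := by decide +kernel
theorem e8Cneg_20_15440 : allRange 15440 15460 ((fun k => commNegCheck Cfsg.Lie.chevE8 (k / 240) (k % 240))) = true := by decide +kernel
theorem e8Cneg_20_15460 : allRange 15460 15480 ((fun k => commNegCheck Cfsg.Lie.chevE8 (k / 240) (k % 240))) = true := by decide +kernel
theorem e8Cneg_20_15480 : allRange 15480 15500 ((fun k => commNegCheck Cfsg.Lie.chevE8 (k / 240) (k % 240))) = true := by decide +kernel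
theorem e8Cneg_20_15500 : allRange 15500 15520 ((fun k => commNegCheck Cfsg.Lie.chevE8 (k / 240) (k % 240))) = true := by decide +kernel
theorem e8Cneg_20_15520 : allRange 15520 15540 ((fun k => commNegCheck Cfsg.Lie.chevE8 (k / 240) (k % 240))) = true := by decide +kernel
theorem e8Cneg_20_15540 : allRange 15540 15560 ((fun k => commNegCheck Cfsg.Lie.chevE8 (k / 240) (k % 240))) = true := by decide +kernel
theorem e8Cneg_20_15560 : allRange 15560 15580 ((fun k => commNegCheck Cfsg.Lie.chevE8 (k / 240) (k % 240))) = true := by decide +kernel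
theorem e8Cneg_20_15580 : allRange 15580 15600 ((fun k => commNegCheck Cfsg.Lie.chevE8 (k / 240) (k % 240))) = true := by decide +kernel
theorem e8Cneg_20_15600 : allRange 15600 15620 ((fun k => commNegCheck Cfsg.Lie.chevE8 (k / 240) (k % 240))) = true := by decide +kernel
theorem e8Cneg_20_15620 : allRange 15620 15640 ((fun k => commNegCheck Cfsg.Lie.chevE8 (k / 240) (k % 240))) = true := by decide +kernel
theorem e8Cneg_20_15640 : allRange 15640 15660 ((fun k => commNegCheck Cfsg.Lie.chevE8 (k / 240) (k % 240))) = true := by decide +kernel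
theorem e8Cneg_20_15660 : allRange 15660 15680 ((fun k => commNegCheck Cfsg.Lie.chevE8 (k / 240) (k % 240))) = true := by decide +kernel
theorem e8Cneg_20_15680 : allRange 15680 15700 ((fun k => commNegCheck Cfsg.Lie.chevE8 (k / 240) (k % 240))) = true := by decide +kernel
theorem e8Cneg_20_15700 : allRange 15700 15720 ((fun k => commNegCheck Cfsg.Lie.chevE8 (k / 240) (k % 240))) = true := by decide +kernel
theorem e8Cneg_20_15720 : allRange 15720 15740 ((fun k => commNegCheck Cfsg.Lie.chevE8 (k / 240) (k % 240))) = true := by decide +kernel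
theorem e8Cneg_20_15740 : allRange 15740 15760 ((fun k => commNegCheck Cfsg.Lie.chevE8 (k / 240) (k % 240))) = true := by decide +kernel
theorem e8Cneg_20_15760 : allRange 15760 15780 ((fun k => commNegCheck Cfsg.Lie.chevE8 (k / 240) (k % 240))) = true := by decide +kernel
theorem e8Cneg_20_15780 : allRange 15780 15800 ((fun k => commNegCheck Cfsg.Lie.chevE8 (k / 240) (k % 240))) = true := by decide +kernel
theorem e8Cneg_20_15800 : allRange 15800 15820 ((fun k => commNegCheck Cfsg.Lie.chevE8 (k / 240) (k % 240))) = true := by decide +kernel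
theorem e8Cneg_20_15820 : allRange 15820 15840 ((fun k => commNegCheck Cfsg.Lie.chevE8 (k / 240) (k % 240))) = true := by decide +kernel
theorem e8Cneg_20_15840 : allRange 15840 15860 ((fun k => commNegCheck Cfsg.Lie.chevE8 (k / 240) (k % 240))) = true := by decide +kernel
theorem e8Cneg_20_15860 : allRange 15860 15880 ((fun k => commNegCheck Cfsg.Lie.chevE8 (k / 240) (k % 240))) = true := by decide +kernel
theorem e8Cneg_20_15880 : allRange 15880 15900 ((fun k => commNegCheck Cfsg.Lie.chevE8 (k / 240) (k % 240))) = true := by decide +kernel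
theorem e8Cneg_20_15900 : allRange 15900 15920 ((fun k => commNegCheck Cfsg.Lie.chevE8 (k / 240) (k % 240))) = true := by decide +kernel
theorem e8Cneg_20_15920 : allRange 15920 15940 ((fun k => commNegCheck Cfsg.Lie.chevE8 (k / 240) (k % 240))) = true := by decide +kernel
theorem e8Cneg_20_15940 : allRange 15940 15960 ((fun k => commNegCheck Cfsg.Lie.chevE8 (k / 240) (k % 240))) = true := by decide +kernel

/-- The commutator formula of type E8 for opposite roots (roots 15200 to 15959). -/
theorem e8Cneg_20 : ∀ r, 15200 ≤ r → r < 15960 → ((fun k => commNegCheck Cfsg.Lie.chevE8 (k / 240) (k % 240))) r = true := by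
  intro r h1 h2
  by_cases c0 : r < 15220
  · exact allRange_spec e8Cneg_20_15200 r (by omega) c0
  by_cases c1 : r < 15240
  · exact allRange_spec e8Cneg_20_15220 r (by omega) c1
  by_cases c2 : r < 15260
  · exact allRange_spec e8Cneg_20_15240 r (by omega) c2
  by_cases c3 : r < 15280
  · exact allRange_spec e8Cneg_20_15260 r (by omega) c3
  by_cases c4 : r < 15300
  · exact allRange_spec e8Cneg_20_15280 r (by omega) c4
  by_cases c5 : r < 15320
  · exact allRange_spec e8Cneg_20_15300 r (by omega) c5
  by_cases c6 : r < 15340
  · exact allRange_spec e8Cneg_20_15320 r (by omega) c6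
  by_cases c7 : r < 15360
  · exact allRange_spec e8Cneg_20_15340 r (by omega) c7
  by_cases c8 : r < 15380
  · exact allRange_spec e8Cneg_20_15360 r (by omega) c8
  by_cases c9 : r < 15400
  · exact allRange_spec e8Cneg_20_15380 r (by omega) c9
  by_cases c10 : r < 15420
  · exact allRange_spec e8Cneg_20_15400 r (by omega) c10
  by_cases c11 : r < 15440
  · exact allRange_spec e8Cneg_20_15420 r (by omega) c11
  by_cases c12 : r < 15460
  · exact allRange_spec e8Cneg_20_15440 r (by omega) c12
  by_cases c13 : r < 15480
  · exact allRange_spec e8Cneg_20_15460 r (by omega) c13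
  by_cases c14 : r < 15500
  · exact allRange_spec e8Cneg_20_15480 r (by omega) c14
  by_cases c15 : r < 15520
  · exact allRange_spec e8Cneg_20_15500 r (by omega) c15
  by_cases c16 : r < 15540
  · exact allRange_spec e8Cneg_20_15520 r (by omega) c16
  by_cases c17 : r < 15560
  · exact allRange_spec e8Cneg_20_15540 r (by omega) c17
  by_cases c18 : r < 15580
  · exact allRange_spec e8Cneg_20_15560 r (by omega) c18
  by_cases c19 : r < 15600
  · exact allRange_spec e8Cneg_20_15580 r (by omega) c19
  by_cases c20 : r < 15620
  · exact allRange_spec e8Cneg_20_15600 r (by omega) c20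
  by_cases c21 : r < 15640
  · exact allRange_spec e8Cneg_20_15620 r (by omega) c21
  by_cases c22 : r < 15660
  · exact allRange_spec e8Cneg_20_15640 r (by omega) c22
  by_cases c23 : r < 15680
  · exact allRange_spec e8Cneg_20_15660 r (by omega) c23
  by_cases c24 : r < 15700
  · exact allRange_spec e8Cneg_20_15680 r (by omega) c24
  by_cases c25 : r < 15720
  · exact allRange_spec e8Cneg_20_15700 r (by omega) c25
  by_cases c26 : r < 15740
  · exact allRange_spec e8Cneg_20_15720 r (by omega) c26
  by_cases c27 : r < 15760
  · exact allRange_spec e8Cneg_20_15740 r (by omega) c27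
  by_cases c28 : r < 15780
  · exact allRange_spec e8Cneg_20_15760 r (by omega) c28
  by_cases c29 : r < 15800
  · exact allRange_spec e8Cneg_20_15780 r (by omega) c29
  by_cases c30 : r < 15820
  · exact allRange_spec e8Cneg_20_15800 r (by omega) c30
  by_cases c31 : r < 15840
  · exact allRange_spec e8Cneg_20_15820 r (by omega) c31
  by_cases c32 : r < 15860
  · exact allRange_spec e8Cneg_20_15840 r (by omega) c32
  by_cases c33 : r < 15880
  · exact allRange_spec e8Cneg_20_15860 r (by omega) c33
  by_cases c34 : r < 15900
  · exact allRange_spec e8Cneg_20_15880 r (by omega) c34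
  by_cases c35 : r < 15920
  · exact allRange_spec e8Cneg_20_15900 r (by omega) c35
  by_cases c36 : r < 15940
  · exact allRange_spec e8Cneg_20_15920 r (by omega) c36
  exact allRange_spec e8Cneg_20_15940 r (by omega) h2

end Cfsg.Agent.Lib.Helper3.ChevM
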