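import Cfsg.Prelude.Def_ChevE8
import Cfsg.Agent.Lib.Helper3.StB5
set_option autoImplicit false
set_option maxRecDepth 1000000
set_option Elab.async false

namespace Cfsg.Agent.Lib.Helper3.ChevM
open Cfsg.Agent.Lib.Helper3.StB

theorem e8Cneg_22_16720 : allRange 16720 16740 ((fun k => commNegCheck Cfsg.Lie.chevE8 (k / 240) (k % 240))) = true := by decide +kernel
theorem e8Cneg_22_16740 : allRange 16740 16760 ((fun k => commNegCheck Cfsg.Lie.chevE8 (k / 240) (k % 240))) = true := by decide +kernel
theorem e8Cneg_22_16760 : allRange 16760 16780 ((fun k => commNegCheck Cfsg.Lie.chevE8 (k / 240) (k % 240))) = true := by decide +kernel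
theorem e8Cneg_22_16780 : allRange 16780 16800 ((fun k => commNegCheck Cfsg.Lie.chevE8 (k / 240) (k % 240))) = true := by decide +kernel
theorem e8Cneg_22_16800 : allRange 16800 16820 ((fun k => commNegCheck Cfsg.Lie.chevE8 (k / 240) (k % 240))) = true := by decide +kernel
theorem e8Cneg_22_16820 : allRange 16820 16840 ((fun k => commNegCheck Cfsg.Lie.chevE8 (k / 240) (k % 240))) = true := by decide +kernel
theorem e8Cneg_22_16840 : allRange 16840 16860 ((fun k => commNegCheck Cfsg.Lie.chevE8 (k / 240) (k % 240))) = true := by decide +kernel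
theorem e8Cneg_22_16860 : allRange 16860 16880 ((fun k => commNegCheck Cfsg.Lie.chevE8 (k / 240) (k % 240))) = true := by decide +kernel
theorem e8Cneg_22_16880 : allRange 16880 16900 ((fun k => commNegCheck Cfsg.Lie.chevE8 (k / 240) (k % 240))) = true := by decide +kernel
theorem e8Cneg_22_16900 : allRange 16900 16920 ((fun k => commNegCheck Cfsg.Lie.chevE8 (k / 240) (k % 240))) = true := by decide +kernel
theorem e8Cneg_22_16920 : allRange 16920 16940 ((fun k => commNegCheck Cfsg.Lie.chevE8 (k / 240) (k % 240))) = true := by decide +kernel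
theorem e8Cneg_22_16940 : allRange 16940 16960 ((fun k => commNegCheck Cfsg.Lie.chevE8 (k / 240) (k % 240))) = true := by decide +kernel
theorem e8Cneg_22_16960 : allRange 16960 16980 ((fun k => commNegCheck Cfsg.Lie.chevE8 (k / 240) (k % 240))) = true := by decide +kernel
theorem e8Cneg_22_16980 : allRange 16980 17000 ((fun k => commNegCheck Cfsg.Lie.chevE8 (k / 240) (k % 240))) = true := by decide +kernel
theorem e8Cneg_22_17000 : allRange 17000 17020 ((fun k => commNegCheck Cfsg.Lie.chevE8 (k / 240) (k % 240))) = true := by decide +kernel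
theorem e8Cneg_22_17020 : allRange 17020 17040 ((fun k => commNegCheck Cfsg.Lie.chevE8 (k / 240) (k % 240))) = true := by decide +kernel
theorem e8Cneg_22_17040 : allRange 17040 17060 ((fun k => commNegCheck Cfsg.Lie.chevE8 (k / 240) (k % 240))) = true := by decide +kernel
theorem e8Cneg_22_17060 : allRange 17060 17080 ((fun k => commNegCheck Cfsg.Lie.chevE8 (k / 240) (k % 240))) = true := by decide +kernel
theorem e8Cneg_22_17080 : allRange 17080 17100 ((fun k => commNegCheck Cfsg.Lie.chevE8 (k / 240) (k % 240))) = true := by decide +kernel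
theorem e8Cneg_22_17100 : allRange 17100 17120 ((fun k => commNegCheck Cfsg.Lie.chevE8 (k / 240) (k % 240))) = true := by decide +kernel
theorem e8Cneg_22_17120 : allRange 17120 17140 ((fun k => commNegCheck Cfsg.Lie.chevE8 (k / 240) (k % 240))) = true := by decide +kernel
theorem e8Cneg_22_17140 : allRange 17140 17160 ((fun k => commNegCheck Cfsg.Lie.chevE8 (k / 240) (k % 240))) = true := by decide +kernel
theorem e8Cneg_22_17160 : allRange 17160 17180 ((fun k => commNegCheck Cfsg.Lie.chevE8 (k / 240) (k % 240))) = true := by decide +kernel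
theorem e8Cneg_22_17180 : allRange 17180 17200 ((fun k => commNegCheck Cfsg.Lie.chevE8 (k / 240) (k % 240))) = true := by decide +kernel
theorem e8Cneg_22_17200 : allRange 17200 17220 ((fun k => commNegCheck Cfsg.Lie.chevE8 (k / 240) (k % 240))) = true := by decide +kernel
theorem e8Cneg_22_17220 : allRange 17220 17240 ((fun k => commNegCheck Cfsg.Lie.chevE8 (k / 240) (k % 240))) = true := by decide +kernel
theorem e8Cneg_22_17240 : allRange 17240 17260 ((fun k => commNegCheck Cfsg.Lie.chevE8 (k / 240) (k % 240))) = true := by decide +kernel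
theorem e8Cneg_22_17260 : allRange 17260 17280 ((fun k => commNegCheck Cfsg.Lie.chevE8 (k / 240) (k % 240))) = true := by decide +kernel
theorem e8Cneg_22_17280 : allRange 17280 17300 ((fun k => commNegCheck Cfsg.Lie.chevE8 (k / 240) (k % 240))) = true := by decide +kernel
theorem e8Cneg_22_17300 : allRange 17300 17320 ((fun k => commNegCheck Cfsg.Lie.chevE8 (k / 240) (k % 240))) = true := by decide +kernel
theorem e8Cneg_22_17320 : allRange 17320 17340 ((fun k => commNegCheck Cfsg.Lie.chevE8 (k / 240) (k % 240))) = true := by decide +kernel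
theorem e8Cneg_22_17340 : allRange 17340 17360 ((fun k => commNegCheck Cfsg.Lie.chevE8 (k / 240) (k % 240))) = true := by decide +kernel
theorem e8Cneg_22_17360 : allRange 17360 17380 ((fun k => commNegCheck Cfsg.Lie.chevE8 (k / 240) (k % 240))) = true := by decide +kernel
theorem e8Cneg_22_17380 : allRange 17380 17400 ((fun k => commNegCheck Cfsg.Lie.chevE8 (k / 240) (k % 240))) = true := by decide +kernel
theorem e8Cneg_22_17400 : allRange 17400 17420 ((fun k => commNegCheck Cfsg.Lie.chevE8 (k / 240) (k % 240))) = true := by decide +kernel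
theorem e8Cneg_22_17420 : allRange 17420 17440 ((fun k => commNegCheck Cfsg.Lie.chevE8 (k / 240) (k % 240))) = true := by decide +kernel
theorem e8Cneg_22_17440 : allRange 17440 17460 ((fun k => commNegCheck Cfsg.Lie.chevE8 (k / 240) (k % 240))) = true := by decide +kernel
theorem e8Cneg_22_17460 : allRange 17460 17480 ((fun k => commNegCheck Cfsg.Lie.chevE8 (k / 240) (k % 240))) = true := by decide +kernel

/-- The commutator formula of type E8 for opposite roots (roots 16720 to 17479). -/
theorem e8Cneg_22 : ∀ r, 16720 ≤ r → r < 17480 → ((fun k => commNegCheck Cfsg.Lie.chevE8 (k / 240) (k % 240))) r = true := by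
  intro r h1 h2
  by_cases c0 : r < 16740
  · exact allRange_spec e8Cneg_22_16720 r (by omega) c0
  by_cases c1 : r < 16760
  · exact allRange_spec e8Cneg_22_16740 r (by omega) c1
  by_cases c2 : r < 16780
  · exact allRange_spec e8Cneg_22_16760 r (by omega) c2
  by_cases c3 : r < 16800
  · exact allRange_spec e8Cneg_22_16780 r (by omega) c3
  by_cases c4 : r < 16820
  · exact allRange_spec e8Cneg_22_16800 r (by omega) c4
  by_cases c5 : r < 16840
  · exact allRange_spec e8Cneg_22_16820 r (by omega) c5
  by_cases c6 : r < 16860
  · exact allRange_spec e8Cneg_22_16840 r (by omega) c6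
  by_cases c7 : r < 16880
  · exact allRange_spec e8Cneg_22_16860 r (by omega) c7
  by_cases c8 : r < 16900
  · exact allRange_spec e8Cneg_22_16880 r (by omega) c8
  by_cases c9 : r < 16920
  · exact allRange_spec e8Cneg_22_16900 r (by omega) c9
  by_cases c10 : r < 16940
  · exact allRange_spec e8Cneg_22_16920 r (by omega) c10
  by_cases c11 : r < 16960
  · exact allRange_spec e8Cneg_22_16940 r (by omega) c11
  by_cases c12 : r < 16980
  · exact allRange_spec e8Cneg_22_16960 r (by omega) c12
  by_cases c13 : r < 17000
  · exact allRange_spec e8Cneg_22_16980 r (by omega) c13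
  by_cases c14 : r < 17020
  · exact allRange_spec e8Cneg_22_17000 r (by omega) c14
  by_cases c15 : r < 17040
  · exact allRange_spec e8Cneg_22_17020 r (by omega) c15
  by_cases c16 : r < 17060
  · exact allRange_spec e8Cneg_22_17040 r (by omega) c16
  by_cases c17 : r < 17080
  · exact allRange_spec e8Cneg_22_17060 r (by omega) c17
  by_cases c18 : r < 17100
  · exact allRange_spec e8Cneg_22_17080 r (by omega) c18
  by_cases c19 : r < 17120
  · exact allRange_spec e8Cneg_22_17100 r (by omega) c19
  by_cases c20 : r < 17140
  · exact allRange_spec e8Cneg_22_17120 r (by omega) c20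
  by_cases c21 : r < 17160
  · exact allRange_spec e8Cneg_22_17140 r (by omega) c21
  by_cases c22 : r < 17180
  · exact allRange_spec e8Cneg_22_17160 r (by omega) c22
  by_cases c23 : r < 17200
  · exact allRange_spec e8Cneg_22_17180 r (by omega) c23
  by_cases c24 : r < 17220
  · exact allRange_spec e8Cneg_22_17200 r (by omega) c24
  by_cases c25 : r < 17240
  · exact allRange_spec e8Cneg_22_17220 r (by omega) c25
  by_cases c26 : r < 17260
  · exact allRange_spec e8Cneg_22_17240 r (by omega) c26
  by_cases c27 : r < 17280
  · exact allRange_spec e8Cneg_22_17260 r (by omega) c27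
  by_cases c28 : r < 17300
  · exact allRange_spec e8Cneg_22_17280 r (by omega) c28
  by_cases c29 : r < 17320
  · exact allRange_spec e8Cneg_22_17300 r (by omega) c29
  by_cases c30 : r < 17340
  · exact allRange_spec e8Cneg_22_17320 r (by omega) c30
  by_cases c31 : r < 17360
  · exact allRange_spec e8Cneg_22_17340 r (by omega) c31
  by_cases c32 : r < 17380
  · exact allRange_spec e8Cneg_22_17360 r (by omega) c32
  by_cases c33 : r < 17400
  · exact allRange_spec e8Cneg_22_17380 r (by omega) c33
  by_cases c34 : r < 17420
  · exact allRange_spec e8Cneg_22_17400 r (by omega) c34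
  by_cases c35 : r < 17440
  · exact allRange_spec e8Cneg_22_17420 r (by omega) c35
  by_cases c36 : r < 17460
  · exact allRange_spec e8Cneg_22_17440 r (by omega) c36
  exact allRange_spec e8Cneg_22_17460 r (by omega) h2

end Cfsg.Agent.Lib.Helper3.ChevM
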