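import Cfsg.Prelude.Def_ChevE8
import Cfsg.Agent.Lib.Helper3.StB5
set_option autoImplicit false
set_option maxRecDepth 1000000
set_option Elab.async false

namespace Cfsg.Agent.Lib.Helper3.ChevM
open Cfsg.Agent.Lib.Helper3.StB

theorem e8Cneg_23_17480 : allRange 17480 17500 ((fun k => commNegCheck Cfsg.Lie.chevE8 (k / 240) (k % 240))) = true := by decide +kernel
theorem e8Cneg_23_17500 : allRange 17500 17520 ((fun k => commNegCheck Cfsg.Lie.chevE8 (k / 240) (k % 240))) = true := by decide +kernel
theorem e8Cneg_23_17520 : allRange 17520 17540 ((fun k => commNegCheck Cfsg.Lie.chevE8 (k / 240) (k % 240))) = true := by decide +kernel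
theorem e8Cneg_23_17540 : allRange 17540 17560 ((fun k => commNegCheck Cfsg.Lie.chevE8 (k / 240) (k % 240))) = true := by decide +kernel
theorem e8Cneg_23_17560 : allRange 17560 17580 ((fun k => commNegCheck Cfsg.Lie.chevE8 (k / 240) (k % 240))) = true := by decide +kernel
theorem e8Cneg_23_17580 : allRange 17580 17600 ((fun k => commNegCheck Cfsg.Lie.chevE8 (k / 240) (k % 240))) = true := by decide +kernel
theorem e8Cneg_23_17600 : allRange 17600 17620 ((fun k => commNegCheck Cfsg.Lie.chevE8 (k / 240) (k % 240))) = true := by decide +kernel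
theorem e8Cneg_23_17620 : allRange 17620 17640 ((fun k => commNegCheck Cfsg.Lie.chevE8 (k / 240) (k % 240))) = true := by decide +kernel
theorem e8Cneg_23_17640 : allRange 17640 17660 ((fun k => commNegCheck Cfsg.Lie.chevE8 (k / 240) (k % 240))) = true := by decide +kernel
theorem e8Cneg_23_17660 : allRange 17660 17680 ((fun k => commNegCheck Cfsg.Lie.chevE8 (k / 240) (k % 240))) = true := by decide +kernel
theorem e8Cneg_23_17680 : allRange 17680 17700 ((fun k => commNegCheck Cfsg.Lie.chevE8 (k / 240) (k % 240))) = true := by decide +kernel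
theorem e8Cneg_23_17700 : allRange 17700 17720 ((fun k => commNegCheck Cfsg.Lie.chevE8 (k / 240) (k % 240))) = true := by decide +kernel
theorem e8Cneg_23_17720 : allRange 17720 17740 ((fun k => commNegCheck Cfsg.Lie.chevE8 (k / 240) (k % 240))) = true := by decide +kernel
theorem e8Cneg_23_17740 : allRange 17740 17760 ((fun k => commNegCheck Cfsg.Lie.chevE8 (k / 240) (k % 240))) = true := by decide +kernel
theorem e8Cneg_23_17760 : allRange 17760 17780 ((fun k => commNegCheck Cfsg.Lie.chevE8 (k / 240) (k % 240))) = true := by decide +kernel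
theorem e8Cneg_23_17780 : allRange 17780 17800 ((fun k => commNegCheck Cfsg.Lie.chevE8 (k / 240) (k % 240))) = true := by decide +kernel
theorem e8Cneg_23_17800 : allRange 17800 17820 ((fun k => commNegCheck Cfsg.Lie.chevE8 (k / 240) (k % 240))) = true := by decide +kernel
theorem e8Cneg_23_17820 : allRange 17820 17840 ((fun k => commNegCheck Cfsg.Lie.chevE8 (k / 240) (k % 240))) = true := by decide +kernel
theorem e8Cneg_23_17840 : allRange 17840 17860 ((fun k => commNegCheck Cfsg.Lie.chevE8 (k / 240) (k % 240))) = true := by decide +kernel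
theorem e8Cneg_23_17860 : allRange 17860 17880 ((fun k => commNegCheck Cfsg.Lie.chevE8 (k / 240) (k % 240))) = true := by decide +kernel
theorem e8Cneg_23_17880 : allRange 17880 17900 ((fun k => commNegCheck Cfsg.Lie.chevE8 (k / 240) (k % 240))) = true := by decide +kernel
theorem e8Cneg_23_17900 : allRange 17900 17920 ((fun k => commNegCheck Cfsg.Lie.chevE8 (k / 240) (k % 240))) = true := by decide +kernel
theorem e8Cneg_23_17920 : allRange 17920 17940 ((fun k => commNegCheck Cfsg.Lie.chevE8 (k / 240) (k % 240))) = true := by decide +kernel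
theorem e8Cneg_23_17940 : allRange 17940 17960 ((fun k => commNegCheck Cfsg.Lie.chevE8 (k / 240) (k % 240))) = true := by decide +kernel
theorem e8Cneg_23_17960 : allRange 17960 17980 ((fun k => commNegCheck Cfsg.Lie.chevE8 (k / 240) (k % 240))) = true := by decide +kernel
theorem e8Cneg_23_17980 : allRange 17980 18000 ((fun k => commNegCheck Cfsg.Lie.chevE8 (k / 240) (k % 240))) = true := by decide +kernel
theorem e8Cneg_23_18000 : allRange 18000 18020 ((fun k => commNegCheck Cfsg.Lie.chevE8 (k / 240) (k % 240))) = true := by decide +kernel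
theorem e8Cneg_23_18020 : allRange 18020 18040 ((fun k => commNegCheck Cfsg.Lie.chevE8 (k / 240) (k % 240))) = true := by decide +kernel
theorem e8Cneg_23_18040 : allRange 18040 18060 ((fun k => commNegCheck Cfsg.Lie.chevE8 (k / 240) (k % 240))) = true := by decide +kernel
theorem e8Cneg_23_18060 : allRange 18060 18080 ((fun k => commNegCheck Cfsg.Lie.chevE8 (k / 240) (k % 240))) = true := by decide +kernel
theorem e8Cneg_23_18080 : allRange 18080 18100 ((fun k => commNegCheck Cfsg.Lie.chevE8 (k / 240) (k % 240))) = true := by decide +kernel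
theorem e8Cneg_23_18100 : allRange 18100 18120 ((fun k => commNegCheck Cfsg.Lie.chevE8 (k / 240) (k % 240))) = true := by decide +kernel
theorem e8Cneg_23_18120 : allRange 18120 18140 ((fun k => commNegCheck Cfsg.Lie.chevE8 (k / 240) (k % 240))) = true := by decide +kernel
theorem e8Cneg_23_18140 : allRange 18140 18160 ((fun k => commNegCheck Cfsg.Lie.chevE8 (k / 240) (k % 240))) = true := by decide +kernel
theorem e8Cneg_23_18160 : allRange 18160 18180 ((fun k => commNegCheck Cfsg.Lie.chevE8 (k / 240) (k % 240))) = true := by decide +kernel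
theorem e8Cneg_23_18180 : allRange 18180 18200 ((fun k => commNegCheck Cfsg.Lie.chevE8 (k / 240) (k % 240))) = true := by decide +kernel
theorem e8Cneg_23_18200 : allRange 18200 18220 ((fun k => commNegCheck Cfsg.Lie.chevE8 (k / 240) (k % 240))) = true := by decide +kernel
theorem e8Cneg_23_18220 : allRange 18220 18240 ((fun k => commNegCheck Cfsg.Lie.chevE8 (k / 240) (k % 240))) = true := by decide +kernel

/-- The commutator formula of type E8 for opposite roots (roots 17480 to 18239). -/
theorem e8Cneg_23 : ∀ r, 17480 ≤ r → r < 18240 → ((fun k => commNegCheck Cfsg.Lie.chevE8 (k / 240) (k % 240))) r = true := by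
  intro r h1 h2
  by_cases c0 : r < 17500
  · exact allRange_spec e8Cneg_23_17480 r (by omega) c0
  by_cases c1 : r < 17520
  · exact allRange_spec e8Cneg_23_17500 r (by omega) c1
  by_cases c2 : r < 17540
  · exact allRange_spec e8Cneg_23_17520 r (by omega) c2
  by_cases c3 : r < 17560
  · exact allRange_spec e8Cneg_23_17540 r (by omega) c3
  by_cases c4 : r < 17580
  · exact allRange_spec e8Cneg_23_17560 r (by omega) c4
  by_cases c5 : r < 17600
  · exact allRange_spec e8Cneg_23_17580 r (by omega) c5
  by_cases c6 : r < 17620
  · exact allRange_spec e8Cneg_23_17600 r (by omega) c6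
  by_cases c7 : r < 17640
  · exact allRange_spec e8Cneg_23_17620 r (by omega) c7
  by_cases c8 : r < 17660
  · exact allRange_spec e8Cneg_23_17640 r (by omega) c8
  by_cases c9 : r < 17680
  · exact allRange_spec e8Cneg_23_17660 r (by omega) c9
  by_cases c10 : r < 17700
  · exact allRange_spec e8Cneg_23_17680 r (by omega) c10
  by_cases c11 : r < 17720
  · exact allRange_spec e8Cneg_23_17700 r (by omega) c11
  by_cases c12 : r < 17740
  · exact allRange_spec e8Cneg_23_17720 r (by omega) c12
  by_cases c13 : r < 17760
  · exact allRange_spec e8Cneg_23_17740 r (by omega) c13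
  by_cases c14 : r < 17780
  · exact allRange_spec e8Cneg_23_17760 r (by omega) c14
  by_cases c15 : r < 17800
  · exact allRange_spec e8Cneg_23_17780 r (by omega) c15
  by_cases c16 : r < 17820
  · exact allRange_spec e8Cneg_23_17800 r (by omega) c16
  by_cases c17 : r < 17840
  · exact allRange_spec e8Cneg_23_17820 r (by omega) c17
  by_cases c18 : r < 17860
  · exact allRange_spec e8Cneg_23_17840 r (by omega) c18
  by_cases c19 : r < 17880
  · exact allRange_spec e8Cneg_23_17860 r (by omega) c19
  by_cases c20 : r < 17900
  · exact allRange_spec e8Cneg_23_17880 r (by omega) c20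
  by_cases c21 : r < 17920
  · exact allRange_spec e8Cneg_23_17900 r (by omega) c21
  by_cases c22 : r < 17940
  · exact allRange_spec e8Cneg_23_17920 r (by omega) c22
  by_cases c23 : r < 17960
  · exact allRange_spec e8Cneg_23_17940 r (by omega) c23
  by_cases c24 : r < 17980
  · exact allRange_spec e8Cneg_23_17960 r (by omega) c24
  by_cases c25 : r < 18000
  · exact allRange_spec e8Cneg_23_17980 r (by omega) c25
  by_cases c26 : r < 18020
  · exact allRange_spec e8Cneg_23_18000 r (by omega) c26
  by_cases c27 : r < 18040
  · exact allRange_spec e8Cneg_23_18020 r (by omega) c27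
  by_cases c28 : r < 18060
  · exact allRange_spec e8Cneg_23_18040 r (by omega) c28
  by_cases c29 : r < 18080
  · exact allRange_spec e8Cneg_23_18060 r (by omega) c29
  by_cases c30 : r < 18100
  · exact allRange_spec e8Cneg_23_18080 r (by omega) c30
  by_cases c31 : r < 18120
  · exact allRange_spec e8Cneg_23_18100 r (by omega) c31
  by_cases c32 : r < 18140
  · exact allRange_spec e8Cneg_23_18120 r (by omega) c32
  by_cases c33 : r < 18160
  · exact allRange_spec e8Cneg_23_18140 r (by omega) c33
  by_cases c34 : r < 18180
  · exact allRange_spec e8Cneg_23_18160 r (by omega) c34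
  by_cases c35 : r < 18200
  · exact allRange_spec e8Cneg_23_18180 r (by omega) c35
  by_cases c36 : r < 18220
  · exact allRange_spec e8Cneg_23_18200 r (by omega) c36
  exact allRange_spec e8Cneg_23_18220 r (by omega) h2

end Cfsg.Agent.Lib.Helper3.ChevM
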