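import Cfsg.Prelude.Def_ChevE8
import Cfsg.Agent.Lib.Helper3.StB5
set_option autoImplicit false
set_option maxRecDepth 1000000
set_option Elab.async false

namespace Cfsg.Agent.Lib.Helper3.ChevM
open Cfsg.Agent.Lib.Helper3.StB

theorem e8Cneg_24_18240 : allRange 18240 18260 ((fun k => commNegCheck Cfsg.Lie.chevE8 (k / 240) (k % 240))) = true := by decide +kernel
theorem e8Cneg_24_18260 : allRange 18260 18280 ((fun k => commNegCheck Cfsg.Lie.chevE8 (k / 240) (k % 240))) = true := by decide +kernel
theorem e8Cneg_24_18280 : allRange 18280 18300 ((fun k => commNegCheck Cfsg.Lie.chevE8 (k / 240) (k % 240))) = true := by decide +kernel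
theorem e8Cneg_24_18300 : allRange 18300 18320 ((fun k => commNegCheck Cfsg.Lie.chevE8 (k / 240) (k % 240))) = true := by decide +kernel
theorem e8Cneg_24_18320 : allRange 18320 18340 ((fun k => commNegCheck Cfsg.Lie.chevE8 (k / 240) (k % 240))) = true := by decide +kernel
theorem e8Cneg_24_18340 : allRange 18340 18360 ((fun k => commNegCheck Cfsg.Lie.chevE8 (k / 240) (k % 240))) = true := by decide +kernel
theorem e8Cneg_24_18360 : allRange 18360 18380 ((fun k => commNegCheck Cfsg.Lie.chevE8 (k / 240) (k % 240))) = true := by decide +kernel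
theorem e8Cneg_24_18380 : allRange 18380 18400 ((fun k => commNegCheck Cfsg.Lie.chevE8 (k / 240) (k % 240))) = true := by decide +kernel
theorem e8Cneg_24_18400 : allRange 18400 18420 ((fun k => commNegCheck Cfsg.Lie.chevE8 (k / 240) (k % 240))) = true := by decide +kernel
theorem e8Cneg_24_18420 : allRange 18420 18440 ((fun k => commNegCheck Cfsg.Lie.chevE8 (k / 240) (k % 240))) = true := by decide +kernel
theorem e8Cneg_24_18440 : allRange 18440 18460 ((fun k => commNegCheck Cfsg.Lie.chevE8 (k / 240) (k % 240))) = true := by decide +kernel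
theorem e8Cneg_24_18460 : allRange 18460 18480 ((fun k => commNegCheck Cfsg.Lie.chevE8 (k / 240) (k % 240))) = true := by decide +kernel
theorem e8Cneg_24_18480 : allRange 18480 18500 ((fun k => commNegCheck Cfsg.Lie.chevE8 (k / 240) (k % 240))) = true := by decide +kernel
theorem e8Cneg_24_18500 : allRange 18500 18520 ((fun k => commNegCheck Cfsg.Lie.chevE8 (k / 240) (k % 240))) = true := by decide +kernel
theorem e8Cneg_24_18520 : allRange 18520 18540 ((fun k => commNegCheck Cfsg.Lie.chevE8 (k / 240) (k % 240))) = true := by decide +kernel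
theorem e8Cneg_24_18540 : allRange 18540 18560 ((fun k => commNegCheck Cfsg.Lie.chevE8 (k / 240) (k % 240))) = true := by decide +kernel
theorem e8Cneg_24_18560 : allRange 18560 18580 ((fun k => commNegCheck Cfsg.Lie.chevE8 (k / 240) (k % 240))) = true := by decide +kernel
theorem e8Cneg_24_18580 : allRange 18580 18600 ((fun k => commNegCheck Cfsg.Lie.chevE8 (k / 240) (k % 240))) = true := by decide +kernel
theorem e8Cneg_24_18600 : allRange 18600 18620 ((fun k => commNegCheck Cfsg.Lie.chevE8 (k / 240) (k % 240))) = true := by decide +kernel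
theorem e8Cneg_24_18620 : allRange 18620 18640 ((fun k => commNegCheck Cfsg.Lie.chevE8 (k / 240) (k % 240))) = true := by decide +kernel
theorem e8Cneg_24_18640 : allRange 18640 18660 ((fun k => commNegCheck Cfsg.Lie.chevE8 (k / 240) (k % 240))) = true := by decide +kernel
theorem e8Cneg_24_18660 : allRange 18660 18680 ((fun k => commNegCheck Cfsg.Lie.chevE8 (k / 240) (k % 240))) = true := by decide +kernel
theorem e8Cneg_24_18680 : allRange 18680 18700 ((fun k => commNegCheck Cfsg.Lie.chevE8 (k / 240) (k % 240))) = true := by decide +kernel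
theorem e8Cneg_24_18700 : allRange 18700 18720 ((fun k => commNegCheck Cfsg.Lie.chevE8 (k / 240) (k % 240))) = true := by decide +kernel
theorem e8Cneg_24_18720 : allRange 18720 18740 ((fun k => commNegCheck Cfsg.Lie.chevE8 (k / 240) (k % 240))) = true := by decide +kernel
theorem e8Cneg_24_18740 : allRange 18740 18760 ((fun k => commNegCheck Cfsg.Lie.chevE8 (k / 240) (k % 240))) = true := by decide +kernel
theorem e8Cneg_24_18760 : allRange 18760 18780 ((fun k => commNegCheck Cfsg.Lie.chevE8 (k / 240) (k % 240))) = true := by decide +kernel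
theorem e8Cneg_24_18780 : allRange 18780 18800 ((fun k => commNegCheck Cfsg.Lie.chevE8 (k / 240) (k % 240))) = true := by decide +kernel
theorem e8Cneg_24_18800 : allRange 18800 18820 ((fun k => commNegCheck Cfsg.Lie.chevE8 (k / 240) (k % 240))) = true := by decide +kernel
theorem e8Cneg_24_18820 : allRange 18820 18840 ((fun k => commNegCheck Cfsg.Lie.chevE8 (k / 240) (k % 240))) = true := by decide +kernel
theorem e8Cneg_24_18840 : allRange 18840 18860 ((fun k => commNegCheck Cfsg.Lie.chevE8 (k / 240) (k % 240))) = true := by decide +kernel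
theorem e8Cneg_24_18860 : allRange 18860 18880 ((fun k => commNegCheck Cfsg.Lie.chevE8 (k / 240) (k % 240))) = true := by decide +kernel
theorem e8Cneg_24_18880 : allRange 18880 18900 ((fun k => commNegCheck Cfsg.Lie.chevE8 (k / 240) (k % 240))) = true := by decide +kernel
theorem e8Cneg_24_18900 : allRange 18900 18920 ((fun k => commNegCheck Cfsg.Lie.chevE8 (k / 240) (k % 240))) = true := by decide +kernel
theorem e8Cneg_24_18920 : allRange 18920 18940 ((fun k => commNegCheck Cfsg.Lie.chevE8 (k / 240) (k % 240))) = true := by decide +kernel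
theorem e8Cneg_24_18940 : allRange 18940 18960 ((fun k => commNegCheck Cfsg.Lie.chevE8 (k / 240) (k % 240))) = true := by decide +kernel
theorem e8Cneg_24_18960 : allRange 18960 18980 ((fun k => commNegCheck Cfsg.Lie.chevE8 (k / 240) (k % 240))) = true := by decide +kernel
theorem e8Cneg_24_18980 : allRange 18980 19000 ((fun k => commNegCheck Cfsg.Lie.chevE8 (k / 240) (k % 240))) = true := by decide +kernel

/-- The commutator formula of type E8 for opposite roots (roots 18240 to 18999). -/
theorem e8Cneg_24 : ∀ r, 18240 ≤ r → r < 19000 → ((fun k => commNegCheck Cfsg.Lie.chevE8 (k / 240) (k % 240))) r = true := by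
  intro r h1 h2
  by_cases c0 : r < 18260
  · exact allRange_spec e8Cneg_24_18240 r (by omega) c0
  by_cases c1 : r < 18280
  · exact allRange_spec e8Cneg_24_18260 r (by omega) c1
  by_cases c2 : r < 18300
  · exact allRange_spec e8Cneg_24_18280 r (by omega) c2
  by_cases c3 : r < 18320
  · exact allRange_spec e8Cneg_24_18300 r (by omega) c3
  by_cases c4 : r < 18340
  · exact allRange_spec e8Cneg_24_18320 r (by omega) c4
  by_cases c5 : r < 18360
  · exact allRange_spec e8Cneg_24_18340 r (by omega) c5
  by_cases c6 : r < 18380
  · exact allRange_spec e8Cneg_24_18360 r (by omega) c6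
  by_cases c7 : r < 18400
  · exact allRange_spec e8Cneg_24_18380 r (by omega) c7
  by_cases c8 : r < 18420
  · exact allRange_spec e8Cneg_24_18400 r (by omega) c8
  by_cases c9 : r < 18440
  · exact allRange_spec e8Cneg_24_18420 r (by omega) c9
  by_cases c10 : r < 18460
  · exact allRange_spec e8Cneg_24_18440 r (by omega) c10
  by_cases c11 : r < 18480
  · exact allRange_spec e8Cneg_24_18460 r (by omega) c11
  by_cases c12 : r < 18500
  · exact allRange_spec e8Cneg_24_18480 r (by omega) c12
  by_cases c13 : r < 18520
  · exact allRange_spec e8Cneg_24_18500 r (by omega) c13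
  by_cases c14 : r < 18540
  · exact allRange_spec e8Cneg_24_18520 r (by omega) c14
  by_cases c15 : r < 18560
  · exact allRange_spec e8Cneg_24_18540 r (by omega) c15
  by_cases c16 : r < 18580
  · exact allRange_spec e8Cneg_24_18560 r (by omega) c16
  by_cases c17 : r < 18600
  · exact allRange_spec e8Cneg_24_18580 r (by omega) c17
  by_cases c18 : r < 18620
  · exact allRange_spec e8Cneg_24_18600 r (by omega) c18
  by_cases c19 : r < 18640
  · exact allRange_spec e8Cneg_24_18620 r (by omega) c19
  by_cases c20 : r < 18660
  · exact allRange_spec e8Cneg_24_18640 r (by omega) c20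
  by_cases c21 : r < 18680
  · exact allRange_spec e8Cneg_24_18660 r (by omega) c21
  by_cases c22 : r < 18700
  · exact allRange_spec e8Cneg_24_18680 r (by omega) c22
  by_cases c23 : r < 18720
  · exact allRange_spec e8Cneg_24_18700 r (by omega) c23
  by_cases c24 : r < 18740
  · exact allRange_spec e8Cneg_24_18720 r (by omega) c24
  by_cases c25 : r < 18760
  · exact allRange_spec e8Cneg_24_18740 r (by omega) c25
  by_cases c26 : r < 18780
  · exact allRange_spec e8Cneg_24_18760 r (by omega) c26
  by_cases c27 : r < 18800
  · exact allRange_spec e8Cneg_24_18780 r (by omega) c27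
  by_cases c28 : r < 18820
  · exact allRange_spec e8Cneg_24_18800 r (by omega) c28
  by_cases c29 : r < 18840
  · exact allRange_spec e8Cneg_24_18820 r (by omega) c29
  by_cases c30 : r < 18860
  · exact allRange_spec e8Cneg_24_18840 r (by omega) c30
  by_cases c31 : r < 18880
  · exact allRange_spec e8Cneg_24_18860 r (by omega) c31
  by_cases c32 : r < 18900
  · exact allRange_spec e8Cneg_24_18880 r (by omega) c32
  by_cases c33 : r < 18920
  · exact allRange_spec e8Cneg_24_18900 r (by omega) c33
  by_cases c34 : r < 18940
  · exact allRange_spec e8Cneg_24_18920 r (by omega) c34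
  by_cases c35 : r < 18960
  · exact allRange_spec e8Cneg_24_18940 r (by omega) c35
  by_cases c36 : r < 18980
  · exact allRange_spec e8Cneg_24_18960 r (by omega) c36
  exact allRange_spec e8Cneg_24_18980 r (by omega) h2

end Cfsg.Agent.Lib.Helper3.ChevM
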