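import Cfsg.Prelude.Def_ChevE8
import Cfsg.Agent.Lib.Helper3.StB5
set_option autoImplicit false
set_option maxRecDepth 1000000
set_option Elab.async false

namespace Cfsg.Agent.Lib.Helper3.ChevM
open Cfsg.Agent.Lib.Helper3.StB

theorem e8Cneg_25_19000 : allRange 19000 19020 ((fun k => commNegCheck Cfsg.Lie.chevE8 (k / 240) (k % 240))) = true := by decide +kernel
theorem e8Cneg_25_19020 : allRange 19020 19040 ((fun k => commNegCheck Cfsg.Lie.chevE8 (k / 240) (k % 240))) = true := by decide +kernel
theorem e8Cneg_25_19040 : allRange 19040 19060 ((fun k => commNegCheck Cfsg.Lie.chevE8 (k / 240) (k % 240))) = true := by decide +kernel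
theorem e8Cneg_25_19060 : allRange 19060 19080 ((fun k => commNegCheck Cfsg.Lie.chevE8 (k / 240) (k % 240))) = true := by decide +kernel
theorem e8Cneg_25_19080 : allRange 19080 19100 ((fun k => commNegCheck Cfsg.Lie.chevE8 (k / 240) (k % 240))) = true := by decide +kernel
theorem e8Cneg_25_19100 : allRange 19100 19120 ((fun k => commNegCheck Cfsg.Lie.chevE8 (k / 240) (k % 240))) = true := by decide +kernel
theorem e8Cneg_25_19120 : allRange 19120 19140 ((fun k => commNegCheck Cfsg.Lie.chevE8 (k / 240) (k % 240))) = true := by decide +kernel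
theorem e8Cneg_25_19140 : allRange 19140 19160 ((fun k => commNegCheck Cfsg.Lie.chevE8 (k / 240) (k % 240))) = true := by decide +kernel
theorem e8Cneg_25_19160 : allRange 19160 19180 ((fun k => commNegCheck Cfsg.Lie.chevE8 (k / 240) (k % 240))) = true := by decide +kernel
theorem e8Cneg_25_19180 : allRange 19180 19200 ((fun k => commNegCheck Cfsg.Lie.chevE8 (k / 240) (k % 240))) = true := by decide +kernel
theorem e8Cneg_25_19200 : allRange 19200 19220 ((fun k => commNegCheck Cfsg.Lie.chevE8 (k / 240) (k % 240))) = true := by decide +kernel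
theorem e8Cneg_25_19220 : allRange 19220 19240 ((fun k => commNegCheck Cfsg.Lie.chevE8 (k / 240) (k % 240))) = true := by decide +kernel
theorem e8Cneg_25_19240 : allRange 19240 19260 ((fun k => commNegCheck Cfsg.Lie.chevE8 (k / 240) (k % 240))) = true := by decide +kernel
theorem e8Cneg_25_19260 : allRange 19260 19280 ((fun k => commNegCheck Cfsg.Lie.chevE8 (k / 240) (k % 240))) = true := by decide +kernel
theorem e8Cneg_25_19280 : allRange 19280 19300 ((fun k => commNegCheck Cfsg.Lie.chevE8 (k / 240) (k % 240))) = true := by decide +kernel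
theorem e8Cneg_25_19300 : allRange 19300 19320 ((fun k => commNegCheck Cfsg.Lie.chevE8 (k / 240) (k % 240))) = true := by decide +kernel
theorem e8Cneg_25_19320 : allRange 19320 19340 ((fun k => commNegCheck Cfsg.Lie.chevE8 (k / 240) (k % 240))) = true := by decide +kernel
theorem e8Cneg_25_19340 : allRange 19340 19360 ((fun k => commNegCheck Cfsg.Lie.chevE8 (k / 240) (k % 240))) = true := by decide +kernel
theorem e8Cneg_25_19360 : allRange 19360 19380 ((fun k => commNegCheck Cfsg.Lie.chevE8 (k / 240) (k % 240))) = true := by decide +kernel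
theorem e8Cneg_25_19380 : allRange 19380 19400 ((fun k => commNegCheck Cfsg.Lie.chevE8 (k / 240) (k % 240))) = true := by decide +kernel
theorem e8Cneg_25_19400 : allRange 19400 19420 ((fun k => commNegCheck Cfsg.Lie.chevE8 (k / 240) (k % 240))) = true := by decide +kernel
theorem e8Cneg_25_19420 : allRange 19420 19440 ((fun k => commNegCheck Cfsg.Lie.chevE8 (k / 240) (k % 240))) = true := by decide +kernel
theorem e8Cneg_25_19440 : allRange 19440 19460 ((fun k => commNegCheck Cfsg.Lie.chevE8 (k / 240) (k % 240))) = true := by decide +kernel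
theorem e8Cneg_25_19460 : allRange 19460 19480 ((fun k => commNegCheck Cfsg.Lie.chevE8 (k / 240) (k % 240))) = true := by decide +kernel
theorem e8Cneg_25_19480 : allRange 19480 19500 ((fun k => commNegCheck Cfsg.Lie.chevE8 (k / 240) (k % 240))) = true := by decide +kernel
theorem e8Cneg_25_19500 : allRange 19500 19520 ((fun k => commNegCheck Cfsg.Lie.chevE8 (k / 240) (k % 240))) = true := by decide +kernel
theorem e8Cneg_25_19520 : allRange 19520 19540 ((fun k => commNegCheck Cfsg.Lie.chevE8 (k / 240) (k % 240))) = true := by decide +kernel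
theorem e8Cneg_25_19540 : allRange 19540 19560 ((fun k => commNegCheck Cfsg.Lie.chevE8 (k / 240) (k % 240))) = true := by decide +kernel
theorem e8Cneg_25_19560 : allRange 19560 19580 ((fun k => commNegCheck Cfsg.Lie.chevE8 (k / 240) (k % 240))) = true := by decide +kernel
theorem e8Cneg_25_19580 : allRange 19580 19600 ((fun k => commNegCheck Cfsg.Lie.chevE8 (k / 240) (k % 240))) = true := by decide +kernel
theorem e8Cneg_25_19600 : allRange 19600 19620 ((fun k => commNegCheck Cfsg.Lie.chevE8 (k / 240) (k % 240))) = true := by decide +kernel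
theorem e8Cneg_25_19620 : allRange 19620 19640 ((fun k => commNegCheck Cfsg.Lie.chevE8 (k / 240) (k % 240))) = true := by decide +kernel
theorem e8Cneg_25_19640 : allRange 19640 19660 ((fun k => commNegCheck Cfsg.Lie.chevE8 (k / 240) (k % 240))) = true := by decide +kernel
theorem e8Cneg_25_19660 : allRange 19660 19680 ((fun k => commNegCheck Cfsg.Lie.chevE8 (k / 240) (k % 240))) = true := by decide +kernel
theorem e8Cneg_25_19680 : allRange 19680 19700 ((fun k => commNegCheck Cfsg.Lie.chevE8 (k / 240) (k % 240))) = true := by decide +kernel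
theorem e8Cneg_25_19700 : allRange 19700 19720 ((fun k => commNegCheck Cfsg.Lie.chevE8 (k / 240) (k % 240))) = true := by decide +kernel
theorem e8Cneg_25_19720 : allRange 19720 19740 ((fun k => commNegCheck Cfsg.Lie.chevE8 (k / 240) (k % 240))) = true := by decide +kernel
theorem e8Cneg_25_19740 : allRange 19740 19760 ((fun k => commNegCheck Cfsg.Lie.chevE8 (k / 240) (k % 240))) = true := by decide +kernel

/-- The commutator formula of type E8 for opposite roots (roots 19000 to 19759). -/
theorem e8Cneg_25 : ∀ r, 19000 ≤ r → r < 19760 → ((fun k => commNegCheck Cfsg.Lie.chevE8 (k / 240) (k % 240))) r = true := by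
  intro r h1 h2
  by_cases c0 : r < 19020
  · exact allRange_spec e8Cneg_25_19000 r (by omega) c0
  by_cases c1 : r < 19040
  · exact allRange_spec e8Cneg_25_19020 r (by omega) c1
  by_cases c2 : r < 19060
  · exact allRange_spec e8Cneg_25_19040 r (by omega) c2
  by_cases c3 : r < 19080
  · exact allRange_spec e8Cneg_25_19060 r (by omega) c3
  by_cases c4 : r < 19100
  · exact allRange_spec e8Cneg_25_19080 r (by omega) c4
  by_cases c5 : r < 19120
  · exact allRange_spec e8Cneg_25_19100 r (by omega) c5
  by_cases c6 : r < 19140
  · exact allRange_spec e8Cneg_25_19120 r (by omega) c6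
  by_cases c7 : r < 19160
  · exact allRange_spec e8Cneg_25_19140 r (by omega) c7
  by_cases c8 : r < 19180
  · exact allRange_spec e8Cneg_25_19160 r (by omega) c8
  by_cases c9 : r < 19200
  · exact allRange_spec e8Cneg_25_19180 r (by omega) c9
  by_cases c10 : r < 19220
  · exact allRange_spec e8Cneg_25_19200 r (by omega) c10
  by_cases c11 : r < 19240
  · exact allRange_spec e8Cneg_25_19220 r (by omega) c11
  by_cases c12 : r < 19260
  · exact allRange_spec e8Cneg_25_19240 r (by omega) c12
  by_cases c13 : r < 19280
  · exact allRange_spec e8Cneg_25_19260 r (by omega) c13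
  by_cases c14 : r < 19300
  · exact allRange_spec e8Cneg_25_19280 r (by omega) c14
  by_cases c15 : r < 19320
  · exact allRange_spec e8Cneg_25_19300 r (by omega) c15
  by_cases c16 : r < 19340
  · exact allRange_spec e8Cneg_25_19320 r (by omega) c16
  by_cases c17 : r < 19360
  · exact allRange_spec e8Cneg_25_19340 r (by omega) c17
  by_cases c18 : r < 19380
  · exact allRange_spec e8Cneg_25_19360 r (by omega) c18
  by_cases c19 : r < 19400
  · exact allRange_spec e8Cneg_25_19380 r (by omega) c19
  by_cases c20 : r < 19420
  · exact allRange_spec e8Cneg_25_19400 r (by omega) c20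
  by_cases c21 : r < 19440
  · exact allRange_spec e8Cneg_25_19420 r (by omega) c21
  by_cases c22 : r < 19460
  · exact allRange_spec e8Cneg_25_19440 r (by omega) c22
  by_cases c23 : r < 19480
  · exact allRange_spec e8Cneg_25_19460 r (by omega) c23
  by_cases c24 : r < 19500
  · exact allRange_spec e8Cneg_25_19480 r (by omega) c24
  by_cases c25 : r < 19520
  · exact allRange_spec e8Cneg_25_19500 r (by omega) c25
  by_cases c26 : r < 19540
  · exact allRange_spec e8Cneg_25_19520 r (by omega) c26
  by_cases c27 : r < 19560
  · exact allRange_spec e8Cneg_25_19540 r (by omega) c27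
  by_cases c28 : r < 19580
  · exact allRange_spec e8Cneg_25_19560 r (by omega) c28
  by_cases c29 : r < 19600
  · exact allRange_spec e8Cneg_25_19580 r (by omega) c29
  by_cases c30 : r < 19620
  · exact allRange_spec e8Cneg_25_19600 r (by omega) c30
  by_cases c31 : r < 19640
  · exact allRange_spec e8Cneg_25_19620 r (by omega) c31
  by_cases c32 : r < 19660
  · exact allRange_spec e8Cneg_25_19640 r (by omega) c32
  by_cases c33 : r < 19680
  · exact allRange_spec e8Cneg_25_19660 r (by omega) c33
  by_cases c34 : r < 19700
  · exact allRange_spec e8Cneg_25_19680 r (by omega) c34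
  by_cases c35 : r < 19720
  · exact allRange_spec e8Cneg_25_19700 r (by omega) c35
  by_cases c36 : r < 19740
  · exact allRange_spec e8Cneg_25_19720 r (by omega) c36
  exact allRange_spec e8Cneg_25_19740 r (by omega) h2

end Cfsg.Agent.Lib.Helper3.ChevM
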