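import Cfsg.Agent.Lib.Helper3.ChevData.E8CnegA
import Cfsg.Agent.Lib.Helper3.ChevData.E8CnegB
import Cfsg.Agent.Lib.Helper3.ChevData.E8CnegC
import Cfsg.Agent.Lib.Helper3.ChevData.E8CnegD
import Cfsg.Agent.Lib.Helper3.ChevData.E8CnegE
import Cfsg.Agent.Lib.Helper3.ChevData.E8CnegF
import Cfsg.Agent.Lib.Helper3.ChevData.E8CnegG
import Cfsg.Agent.Lib.Helper3.ChevData.E8CnegH
import Cfsg.Agent.Lib.Helper3.ChevData.E8CnegI
import Cfsg.Agent.Lib.Helper3.ChevData.E8CnegJ
import Cfsg.Agent.Lib.Helper3.ChevData.E8CnegK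
import Cfsg.Agent.Lib.Helper3.ChevData.E8CnegL
import Cfsg.Agent.Lib.Helper3.ChevData.E8CnegM
import Cfsg.Agent.Lib.Helper3.ChevData.E8CnegN
import Cfsg.Agent.Lib.Helper3.ChevData.E8CnegO
import Cfsg.Agent.Lib.Helper3.ChevData.E8CnegP
import Cfsg.Agent.Lib.Helper3.ChevData.E8CnegQ
import Cfsg.Agent.Lib.Helper3.ChevData.E8CnegR
import Cfsg.Agent.Lib.Helper3.ChevData.E8CnegS
import Cfsg.Agent.Lib.Helper3.ChevData.E8CnegT
import Cfsg.Agent.Lib.Helper3.ChevData.E8CnegU
import Cfsg.Agent.Lib.Helper3.ChevData.E8CnegV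
import Cfsg.Agent.Lib.Helper3.ChevData.E8CnegW
import Cfsg.Agent.Lib.Helper3.ChevData.E8CnegX
import Cfsg.Agent.Lib.Helper3.ChevData.E8CnegY
import Cfsg.Agent.Lib.Helper3.ChevData.E8CnegZ
import Cfsg.Agent.Lib.Helper3.ChevData.E8CnegAA
import Cfsg.Agent.Lib.Helper3.ChevData.E8CnegAB
import Cfsg.Agent.Lib.Helper3.ChevData.E8CnegAC
import Cfsg.Agent.Lib.Helper3.ChevData.E8CnegAD
import Cfsg.Agent.Lib.Helper3.ChevData.E8CnegAE
import Cfsg.Agent.Lib.Helper3.ChevData.E8CnegAF
import Cfsg.Agent.Lib.Helper3.ChevData.E8CnegAG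
import Cfsg.Agent.Lib.Helper3.ChevData.E8CnegAH
import Cfsg.Agent.Lib.Helper3.ChevData.E8CnegAI
import Cfsg.Agent.Lib.Helper3.ChevData.E8CnegAJ
import Cfsg.Agent.Lib.Helper3.ChevData.E8CnegAK
import Cfsg.Agent.Lib.Helper3.ChevData.E8CnegAL
import Cfsg.Agent.Lib.Helper3.ChevData.E8CnegAM
import Cfsg.Agent.Lib.Helper3.ChevData.E8CnegAN
import Cfsg.Agent.Lib.Helper3.ChevData.E8CnegAO
import Cfsg.Agent.Lib.Helper3.ChevData.E8CnegAP
import Cfsg.Agent.Lib.Helper3.ChevData.E8CnegAQ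
import Cfsg.Agent.Lib.Helper3.ChevData.E8CnegAR
import Cfsg.Agent.Lib.Helper3.ChevData.E8CnegAS
import Cfsg.Agent.Lib.Helper3.ChevData.E8CnegAT
import Cfsg.Agent.Lib.Helper3.ChevData.E8CnegAU
import Cfsg.Agent.Lib.Helper3.ChevData.E8CnegAV
import Cfsg.Agent.Lib.Helper3.ChevData.E8CnegAW
import Cfsg.Agent.Lib.Helper3.ChevData.E8CnegAX
import Cfsg.Agent.Lib.Helper3.ChevData.E8CnegAY
import Cfsg.Agent.Lib.Helper3.ChevData.E8CnegAZ
import Cfsg.Agent.Lib.Helper3.ChevData.E8CnegBA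
import Cfsg.Agent.Lib.Helper3.ChevData.E8CnegBB
import Cfsg.Agent.Lib.Helper3.ChevData.E8CnegBC
import Cfsg.Agent.Lib.Helper3.ChevData.E8CnegBD
import Cfsg.Agent.Lib.Helper3.ChevData.E8CnegBE
import Cfsg.Agent.Lib.Helper3.ChevData.E8CnegBF
import Cfsg.Agent.Lib.Helper3.ChevData.E8CnegBG
import Cfsg.Agent.Lib.Helper3.ChevData.E8CnegBH
import Cfsg.Agent.Lib.Helper3.ChevData.E8CnegBI
import Cfsg.Agent.Lib.Helper3.ChevData.E8CnegBJ
import Cfsg.Agent.Lib.Helper3.ChevData.E8CnegBK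
import Cfsg.Agent.Lib.Helper3.ChevData.E8CnegBL
import Cfsg.Agent.Lib.Helper3.ChevData.E8CnegBM
import Cfsg.Agent.Lib.Helper3.ChevData.E8CnegBN
import Cfsg.Agent.Lib.Helper3.ChevData.E8CnegBO
import Cfsg.Agent.Lib.Helper3.ChevData.E8CnegBP
import Cfsg.Agent.Lib.Helper3.ChevData.E8CnegBQ
import Cfsg.Agent.Lib.Helper3.ChevData.E8CnegBR
import Cfsg.Agent.Lib.Helper3.ChevData.E8CnegBS
import Cfsg.Agent.Lib.Helper3.ChevData.E8CnegBT
import Cfsg.Agent.Lib.Helper3.ChevData.E8CnegBU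
import Cfsg.Agent.Lib.Helper3.ChevData.E8CnegBV
import Cfsg.Agent.Lib.Helper3.ChevData.E8CnegBW
import Cfsg.Agent.Lib.Helper3.ChevData.E8CnegBX
set_option autoImplicit false

namespace Cfsg.Agent.Lib.Helper3.ChevM
open Cfsg.Agent.Lib.Helper3.StB

/-- The commutator formula of type E8 for opposite roots. -/
theorem e8Cneg : ∀ r < 57600, ((fun k => commNegCheck Cfsg.Lie.chevE8 (k / 240) (k % 240))) r = true := by
  intro r hr
  by_cases h0 : r < 760
  · exact e8Cneg_0 r (by omega) h0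
  by_cases h1 : r < 1520
  · exact e8Cneg_1 r (by omega) h1
  by_cases h2 : r < 2280
  · exact e8Cneg_2 r (by omega) h2
  by_cases h3 : r < 3040
  · exact e8Cneg_3 r (by omega) h3
  by_cases h4 : r < 3800
  · exact e8Cneg_4 r (by omega) h4
  by_cases h5 : r < 4560
  · exact e8Cneg_5 r (by omega) h5
  by_cases h6 : r < 5320
  · exact e8Cneg_6 r (by omega) h6
  by_cases h7 : r < 6080
  · exact e8Cneg_7 r (by omega) h7
  by_cases h8 : r < 6840
  · exact e8Cneg_8 r (by omega) h8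
  by_cases h9 : r < 7600
  · exact e8Cneg_9 r (by omega) h9
  by_cases h10 : r < 8360
  · exact e8Cneg_10 r (by omega) h10
  by_cases h11 : r < 9120
  · exact e8Cneg_11 r (by omega) h11
  by_cases h12 : r < 9880
  · exact e8Cneg_12 r (by omega) h12
  by_cases h13 : r < 10640
  · exact e8Cneg_13 r (by omega) h13
  by_cases h14 : r < 11400
  · exact e8Cneg_14 r (by omega) h14
  by_cases h15 : r < 12160
  · exact e8Cneg_15 r (by omega) h15
  by_cases h16 : r < 12920
  · exact e8Cneg_16 r (by omega) h16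
  by_cases h17 : r < 13680
  · exact e8Cneg_17 r (by omega) h17
  by_cases h18 : r < 14440
  · exact e8Cneg_18 r (by omega) h18
  by_cases h19 : r < 15200
  · exact e8Cneg_19 r (by omega) h19
  by_cases h20 : r < 15960
  · exact e8Cneg_20 r (by omega) h20
  by_cases h21 : r < 16720
  · exact e8Cneg_21 r (by omega) h21
  by_cases h22 : r < 17480
  · exact e8Cneg_22 r (by omega) h22
  by_cases h23 : r < 18240
  · exact e8Cneg_23 r (by omega) h23
  by_cases h24 : r < 19000
  · exact e8Cneg_24 r (by omega) h24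
  by_cases h25 : r < 19760
  · exact e8Cneg_25 r (by omega) h25
  by_cases h26 : r < 20520
  · exact e8Cneg_26 r (by omega) h26
  by_cases h27 : r < 21280
  · exact e8Cneg_27 r (by omega) h27
  by_cases h28 : r < 22040
  · exact e8Cneg_28 r (by omega) h28
  by_cases h29 : r < 22800
  · exact e8Cneg_29 r (by omega) h29
  by_cases h30 : r < 23560
  · exact e8Cneg_30 r (by omega) h30
  by_cases h31 : r < 24320
  · exact e8Cneg_31 r (by omega) h31
  by_cases h32 : r < 25080
  · exact e8Cneg_32 r (by omega) h32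
  by_cases h33 : r < 25840
  · exact e8Cneg_33 r (by omega) h33
  by_cases h34 : r < 26600
  · exact e8Cneg_34 r (by omega) h34
  by_cases h35 : r < 27360
  · exact e8Cneg_35 r (by omega) h35
  by_cases h36 : r < 28120
  · exact e8Cneg_36 r (by omega) h36
  by_cases h37 : r < 28880
  · exact e8Cneg_37 r (by omega) h37
  by_cases h38 : r < 29640
  · exact e8Cneg_38 r (by omega) h38
  by_cases h39 : r < 30400
  · exact e8Cneg_39 r (by omega) h39
  by_cases h40 : r < 31160
  · exact e8Cneg_40 r (by omega) h40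
  by_cases h41 : r < 31920
  · exact e8Cneg_41 r (by omega) h41
  by_cases h42 : r < 32680
  · exact e8Cneg_42 r (by omega) h42
  by_cases h43 : r < 33440
  · exact e8Cneg_43 r (by omega) h43
  by_cases h44 : r < 34200
  · exact e8Cneg_44 r (by omega) h44
  by_cases h45 : r < 34960
  · exact e8Cneg_45 r (by omega) h45
  by_cases h46 : r < 35720
  · exact e8Cneg_46 r (by omega) h46
  by_cases h47 : r < 36480
  · exact e8Cneg_47 r (by omega) h47
  by_cases h48 : r < 37240
  · exact e8Cneg_48 r (by omega) h48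
  by_cases h49 : r < 38000
  · exact e8Cneg_49 r (by omega) h49
  by_cases h50 : r < 38760
  · exact e8Cneg_50 r (by omega) h50
  by_cases h51 : r < 39520
  · exact e8Cneg_51 r (by omega) h51
  by_cases h52 : r < 40280
  · exact e8Cneg_52 r (by omega) h52
  by_cases h53 : r < 41040
  · exact e8Cneg_53 r (by omega) h53
  by_cases h54 : r < 41800
  · exact e8Cneg_54 r (by omega) h54
  by_cases h55 : r < 42560
  · exact e8Cneg_55 r (by omega) h55
  by_cases h56 : r < 43320
  · exact e8Cneg_56 r (by omega) h56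
  by_cases h57 : r < 44080
  · exact e8Cneg_57 r (by omega) h57
  by_cases h58 : r < 44840
  · exact e8Cneg_58 r (by omega) h58
  by_cases h59 : r < 45600
  · exact e8Cneg_59 r (by omega) h59
  by_cases h60 : r < 46360
  · exact e8Cneg_60 r (by omega) h60
  by_cases h61 : r < 47120
  · exact e8Cneg_61 r (by omega) h61
  by_cases h62 : r < 47880
  · exact e8Cneg_62 r (by omega) h62
  by_cases h63 : r < 48640
  · exact e8Cneg_63 r (by omega) h63
  by_cases h64 : r < 49400
  · exact e8Cneg_64 r (by omega) h64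
  by_cases h65 : r < 50160
  · exact e8Cneg_65 r (by omega) h65
  by_cases h66 : r < 50920
  · exact e8Cneg_66 r (by omega) h66
  by_cases h67 : r < 51680
  · exact e8Cneg_67 r (by omega) h67
  by_cases h68 : r < 52440
  · exact e8Cneg_68 r (by omega) h68
  by_cases h69 : r < 53200
  · exact e8Cneg_69 r (by omega) h69
  by_cases h70 : r < 53960
  · exact e8Cneg_70 r (by omega) h70
  by_cases h71 : r < 54720
  · exact e8Cneg_71 r (by omega) h71
  by_cases h72 : r < 55480
  · exact e8Cneg_72 r (by omega) h72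
  by_cases h73 : r < 56240
  · exact e8Cneg_73 r (by omega) h73
  by_cases h74 : r < 57000
  · exact e8Cneg_74 r (by omega) h74
  exact e8Cneg_75 r (by omega) hr

end Cfsg.Agent.Lib.Helper3.ChevM
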