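import Cfsg.Prelude.Def_ChevE8
import Cfsg.Agent.Lib.Helper3.StB5
set_option autoImplicit false
set_option maxRecDepth 1000000
set_option Elab.async false

namespace Cfsg.Agent.Lib.Helper3.ChevM
open Cfsg.Agent.Lib.Helper3.StB

theorem e8Cneg_0_0 : allRange 0 20 ((fun k => commNegCheck Cfsg.Lie.chevE8 (k / 240) (k % 240))) = true := by decide +kernel
theorem e8Cneg_0_20 : allRange 20 40 ((fun k => commNegCheck Cfsg.Lie.chevE8 (k / 240) (k % 240))) = true := by decide +kernel
theorem e8Cneg_0_40 : allRange 40 60 ((fun k => commNegCheck Cfsg.Lie.chevE8 (k / 240) (k % 240))) = true := by decide +kernel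
theorem e8Cneg_0_60 : allRange 60 80 ((fun k => commNegCheck Cfsg.Lie.chevE8 (k / 240) (k % 240))) = true := by decide +kernel
theorem e8Cneg_0_80 : allRange 80 100 ((fun k => commNegCheck Cfsg.Lie.chevE8 (k / 240) (k % 240))) = true := by decide +kernel
theorem e8Cneg_0_100 : allRange 100 120 ((fun k => commNegCheck Cfsg.Lie.chevE8 (k / 240) (k % 240))) = true := by decide +kernel
theorem e8Cneg_0_120 : allRange 120 140 ((fun k => commNegCheck Cfsg.Lie.chevE8 (k / 240) (k % 240))) = true := by decide +kernel
theorem e8Cneg_0_140 : allRange 140 160 ((fun k => commNegCheck Cfsg.Lie.chevE8 (k / 240) (k % 240))) = true := by decide +kernel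
theorem e8Cneg_0_160 : allRange 160 180 ((fun k => commNegCheck Cfsg.Lie.chevE8 (k / 240) (k % 240))) = true := by decide +kernel
theorem e8Cneg_0_180 : allRange 180 200 ((fun k => commNegCheck Cfsg.Lie.chevE8 (k / 240) (k % 240))) = true := by decide +kernel
theorem e8Cneg_0_200 : allRange 200 220 ((fun k => commNegCheck Cfsg.Lie.chevE8 (k / 240) (k % 240))) = true := by decide +kernel
theorem e8Cneg_0_220 : allRange 220 240 ((fun k => commNegCheck Cfsg.Lie.chevE8 (k / 240) (k % 240))) = true := by decide +kernel
theorem e8Cneg_0_240 : allRange 240 260 ((fun k => commNegCheck Cfsg.Lie.chevE8 (k / 240) (k % 240))) = true := by decide +kernel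
theorem e8Cneg_0_260 : allRange 260 280 ((fun k => commNegCheck Cfsg.Lie.chevE8 (k / 240) (k % 240))) = true := by decide +kernel
theorem e8Cneg_0_280 : allRange 280 300 ((fun k => commNegCheck Cfsg.Lie.chevE8 (k / 240) (k % 240))) = true := by decide +kernel
theorem e8Cneg_0_300 : allRange 300 320 ((fun k => commNegCheck Cfsg.Lie.chevE8 (k / 240) (k % 240))) = true := by decide +kernel
theorem e8Cneg_0_320 : allRange 320 340 ((fun k => commNegCheck Cfsg.Lie.chevE8 (k / 240) (k % 240))) = true := by decide +kernel
theorem e8Cneg_0_340 : allRange 340 360 ((fun k => commNegCheck Cfsg.Lie.chevE8 (k / 240) (k % 240))) = true := by decide +kernel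
theorem e8Cneg_0_360 : allRange 360 380 ((fun k => commNegCheck Cfsg.Lie.chevE8 (k / 240) (k % 240))) = true := by decide +kernel
theorem e8Cneg_0_380 : allRange 380 400 ((fun k => commNegCheck Cfsg.Lie.chevE8 (k / 240) (k % 240))) = true := by decide +kernel
theorem e8Cneg_0_400 : allRange 400 420 ((fun k => commNegCheck Cfsg.Lie.chevE8 (k / 240) (k % 240))) = true := by decide +kernel
theorem e8Cneg_0_420 : allRange 420 440 ((fun k => commNegCheck Cfsg.Lie.chevE8 (k / 240) (k % 240))) = true := by decide +kernel
theorem e8Cneg_0_440 : allRange 440 460 ((fun k => commNegCheck Cfsg.Lie.chevE8 (k / 240) (k % 240))) = true := by decide +kernel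
theorem e8Cneg_0_460 : allRange 460 480 ((fun k => commNegCheck Cfsg.Lie.chevE8 (k / 240) (k % 240))) = true := by decide +kernel
theorem e8Cneg_0_480 : allRange 480 500 ((fun k => commNegCheck Cfsg.Lie.chevE8 (k / 240) (k % 240))) = true := by decide +kernel
theorem e8Cneg_0_500 : allRange 500 520 ((fun k => commNegCheck Cfsg.Lie.chevE8 (k / 240) (k % 240))) = true := by decide +kernel
theorem e8Cneg_0_520 : allRange 520 540 ((fun k => commNegCheck Cfsg.Lie.chevE8 (k / 240) (k % 240))) = true := by decide +kernel
theorem e8Cneg_0_540 : allRange 540 560 ((fun k => commNegCheck Cfsg.Lie.chevE8 (k / 240) (k % 240))) = true := by decide +kernel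
theorem e8Cneg_0_560 : allRange 560 580 ((fun k => commNegCheck Cfsg.Lie.chevE8 (k / 240) (k % 240))) = true := by decide +kernel
theorem e8Cneg_0_580 : allRange 580 600 ((fun k => commNegCheck Cfsg.Lie.chevE8 (k / 240) (k % 240))) = true := by decide +kernel
theorem e8Cneg_0_600 : allRange 600 620 ((fun k => commNegCheck Cfsg.Lie.chevE8 (k / 240) (k % 240))) = true := by decide +kernel
theorem e8Cneg_0_620 : allRange 620 640 ((fun k => commNegCheck Cfsg.Lie.chevE8 (k / 240) (k % 240))) = true := by decide +kernel
theorem e8Cneg_0_640 : allRange 640 660 ((fun k => commNegCheck Cfsg.Lie.chevE8 (k / 240) (k % 240))) = true := by decide +kernel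
theorem e8Cneg_0_660 : allRange 660 680 ((fun k => commNegCheck Cfsg.Lie.chevE8 (k / 240) (k % 240))) = true := by decide +kernel
theorem e8Cneg_0_680 : allRange 680 700 ((fun k => commNegCheck Cfsg.Lie.chevE8 (k / 240) (k % 240))) = true := by decide +kernel
theorem e8Cneg_0_700 : allRange 700 720 ((fun k => commNegCheck Cfsg.Lie.chevE8 (k / 240) (k % 240))) = true := by decide +kernel
theorem e8Cneg_0_720 : allRange 720 740 ((fun k => commNegCheck Cfsg.Lie.chevE8 (k / 240) (k % 240))) = true := by decide +kernel
theorem e8Cneg_0_740 : allRange 740 760 ((fun k => commNegCheck Cfsg.Lie.chevE8 (k / 240) (k % 240))) = true := by decide +kernel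

/-- The commutator formula of type E8 for opposite roots (roots 0 to 759). -/
theorem e8Cneg_0 : ∀ r, 0 ≤ r → r < 760 → ((fun k => commNegCheck Cfsg.Lie.chevE8 (k / 240) (k % 240))) r = true := by
  intro r h1 h2
  by_cases c0 : r < 20
  · exact allRange_spec e8Cneg_0_0 r (by omega) c0
  by_cases c1 : r < 40
  · exact allRange_spec e8Cneg_0_20 r (by omega) c1
  by_cases c2 : r < 60
  · exact allRange_spec e8Cneg_0_40 r (by omega) c2
  by_cases c3 : r < 80
  · exact allRange_spec e8Cneg_0_60 r (by omega) c3
  by_cases c4 : r < 100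
  · exact allRange_spec e8Cneg_0_80 r (by omega) c4
  by_cases c5 : r < 120
  · exact allRange_spec e8Cneg_0_100 r (by omega) c5
  by_cases c6 : r < 140
  · exact allRange_spec e8Cneg_0_120 r (by omega) c6
  by_cases c7 : r < 160
  · exact allRange_spec e8Cneg_0_140 r (by omega) c7
  by_cases c8 : r < 180
  · exact allRange_spec e8Cneg_0_160 r (by omega) c8
  by_cases c9 : r < 200
  · exact allRange_spec e8Cneg_0_180 r (by omega) c9
  by_cases c10 : r < 220
  · exact allRange_spec e8Cneg_0_200 r (by omega) c10
  by_cases c11 : r < 240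
  · exact allRange_spec e8Cneg_0_220 r (by omega) c11
  by_cases c12 : r < 260
  · exact allRange_spec e8Cneg_0_240 r (by omega) c12
  by_cases c13 : r < 280
  · exact allRange_spec e8Cneg_0_260 r (by omega) c13
  by_cases c14 : r < 300
  · exact allRange_spec e8Cneg_0_280 r (by omega) c14
  by_cases c15 : r < 320
  · exact allRange_spec e8Cneg_0_300 r (by omega) c15
  by_cases c16 : r < 340
  · exact allRange_spec e8Cneg_0_320 r (by omega) c16
  by_cases c17 : r < 360
  · exact allRange_spec e8Cneg_0_340 r (by omega) c17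
  by_cases c18 : r < 380
  · exact allRange_spec e8Cneg_0_360 r (by omega) c18
  by_cases c19 : r < 400
  · exact allRange_spec e8Cneg_0_380 r (by omega) c19
  by_cases c20 : r < 420
  · exact allRange_spec e8Cneg_0_400 r (by omega) c20
  by_cases c21 : r < 440
  · exact allRange_spec e8Cneg_0_420 r (by omega) c21
  by_cases c22 : r < 460
  · exact allRange_spec e8Cneg_0_440 r (by omega) c22
  by_cases c23 : r < 480
  · exact allRange_spec e8Cneg_0_460 r (by omega) c23
  by_cases c24 : r < 500
  · exact allRange_spec e8Cneg_0_480 r (by omega) c24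
  by_cases c25 : r < 520
  · exact allRange_spec e8Cneg_0_500 r (by omega) c25
  by_cases c26 : r < 540
  · exact allRange_spec e8Cneg_0_520 r (by omega) c26
  by_cases c27 : r < 560
  · exact allRange_spec e8Cneg_0_540 r (by omega) c27
  by_cases c28 : r < 580
  · exact allRange_spec e8Cneg_0_560 r (by omega) c28
  by_cases c29 : r < 600
  · exact allRange_spec e8Cneg_0_580 r (by omega) c29
  by_cases c30 : r < 620
  · exact allRange_spec e8Cneg_0_600 r (by omega) c30
  by_cases c31 : r < 640
  · exact allRange_spec e8Cneg_0_620 r (by omega) c31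
  by_cases c32 : r < 660
  · exact allRange_spec e8Cneg_0_640 r (by omega) c32
  by_cases c33 : r < 680
  · exact allRange_spec e8Cneg_0_660 r (by omega) c33
  by_cases c34 : r < 700
  · exact allRange_spec e8Cneg_0_680 r (by omega) c34
  by_cases c35 : r < 720
  · exact allRange_spec e8Cneg_0_700 r (by omega) c35
  by_cases c36 : r < 740
  · exact allRange_spec e8Cneg_0_720 r (by omega) c36
  exact allRange_spec e8Cneg_0_740 r (by omega) h2

end Cfsg.Agent.Lib.Helper3.ChevM
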