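import Cfsg.Prelude.Def_ChevE8
import Cfsg.Agent.Lib.Helper3.StB5
set_option autoImplicit false
set_option maxRecDepth 1000000
set_option Elab.async false

namespace Cfsg.Agent.Lib.Helper3.ChevM
open Cfsg.Agent.Lib.Helper3.StB

theorem e8Cneg_32_24320 : allRange 24320 24340 ((fun k => commNegCheck Cfsg.Lie.chevE8 (k / 240) (k % 240))) = true := by decide +kernel
theorem e8Cneg_32_24340 : allRange 24340 24360 ((fun k => commNegCheck Cfsg.Lie.chevE8 (k / 240) (k % 240))) = true := by decide +kernel
theorem e8Cneg_32_24360 : allRange 24360 24380 ((fun k => commNegCheck Cfsg.Lie.chevE8 (k / 240) (k % 240))) = true := by decide +kernel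
theorem e8Cneg_32_24380 : allRange 24380 24400 ((fun k => commNegCheck Cfsg.Lie.chevE8 (k / 240) (k % 240))) = true := by decide +kernel
theorem e8Cneg_32_24400 : allRange 24400 24420 ((fun k => commNegCheck Cfsg.Lie.chevE8 (k / 240) (k % 240))) = true := by decide +kernel
theorem e8Cneg_32_24420 : allRange 24420 24440 ((fun k => commNegCheck Cfsg.Lie.chevE8 (k / 240) (k % 240))) = true := by decide +kernel
theorem e8Cneg_32_24440 : allRange 24440 24460 ((fun k => commNegCheck Cfsg.Lie.chevE8 (k / 240) (k % 240))) = true := by decide +kernel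
theorem e8Cneg_32_24460 : allRange 24460 24480 ((fun k => commNegCheck Cfsg.Lie.chevE8 (k / 240) (k % 240))) = true := by decide +kernel
theorem e8Cneg_32_24480 : allRange 24480 24500 ((fun k => commNegCheck Cfsg.Lie.chevE8 (k / 240) (k % 240))) = true := by decide +kernel
theorem e8Cneg_32_24500 : allRange 24500 24520 ((fun k => commNegCheck Cfsg.Lie.chevE8 (k / 240) (k % 240))) = true := by decide +kernel
theorem e8Cneg_32_24520 : allRange 24520 24540 ((fun k => commNegCheck Cfsg.Lie.chevE8 (k / 240) (k % 240))) = true := by decide +kernel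
theorem e8Cneg_32_24540 : allRange 24540 24560 ((fun k => commNegCheck Cfsg.Lie.chevE8 (k / 240) (k % 240))) = true := by decide +kernel
theorem e8Cneg_32_24560 : allRange 24560 24580 ((fun k => commNegCheck Cfsg.Lie.chevE8 (k / 240) (k % 240))) = true := by decide +kernel
theorem e8Cneg_32_24580 : allRange 24580 24600 ((fun k => commNegCheck Cfsg.Lie.chevE8 (k / 240) (k % 240))) = true := by decide +kernel
theorem e8Cneg_32_24600 : allRange 24600 24620 ((fun k => commNegCheck Cfsg.Lie.chevE8 (k / 240) (k % 240))) = true := by decide +kernel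
theorem e8Cneg_32_24620 : allRange 24620 24640 ((fun k => commNegCheck Cfsg.Lie.chevE8 (k / 240) (k % 240))) = true := by decide +kernel
theorem e8Cneg_32_24640 : allRange 24640 24660 ((fun k => commNegCheck Cfsg.Lie.chevE8 (k / 240) (k % 240))) = true := by decide +kernel
theorem e8Cneg_32_24660 : allRange 24660 24680 ((fun k => commNegCheck Cfsg.Lie.chevE8 (k / 240) (k % 240))) = true := by decide +kernel
theorem e8Cneg_32_24680 : allRange 24680 24700 ((fun k => commNegCheck Cfsg.Lie.chevE8 (k / 240) (k % 240))) = true := by decide +kernel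
theorem e8Cneg_32_24700 : allRange 24700 24720 ((fun k => commNegCheck Cfsg.Lie.chevE8 (k / 240) (k % 240))) = true := by decide +kernel
theorem e8Cneg_32_24720 : allRange 24720 24740 ((fun k => commNegCheck Cfsg.Lie.chevE8 (k / 240) (k % 240))) = true := by decide +kernel
theorem e8Cneg_32_24740 : allRange 24740 24760 ((fun k => commNegCheck Cfsg.Lie.chevE8 (k / 240) (k % 240))) = true := by decide +kernel
theorem e8Cneg_32_24760 : allRange 24760 24780 ((fun k => commNegCheck Cfsg.Lie.chevE8 (k / 240) (k % 240))) = true := by decide +kernel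
theorem e8Cneg_32_24780 : allRange 24780 24800 ((fun k => commNegCheck Cfsg.Lie.chevE8 (k / 240) (k % 240))) = true := by decide +kernel
theorem e8Cneg_32_24800 : allRange 24800 24820 ((fun k => commNegCheck Cfsg.Lie.chevE8 (k / 240) (k % 240))) = true := by decide +kernel
theorem e8Cneg_32_24820 : allRange 24820 24840 ((fun k => commNegCheck Cfsg.Lie.chevE8 (k / 240) (k % 240))) = true := by decide +kernel
theorem e8Cneg_32_24840 : allRange 24840 24860 ((fun k => commNegCheck Cfsg.Lie.chevE8 (k / 240) (k % 240))) = true := by decide +kernel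
theorem e8Cneg_32_24860 : allRange 24860 24880 ((fun k => commNegCheck Cfsg.Lie.chevE8 (k / 240) (k % 240))) = true := by decide +kernel
theorem e8Cneg_32_24880 : allRange 24880 24900 ((fun k => commNegCheck Cfsg.Lie.chevE8 (k / 240) (k % 240))) = true := by decide +kernel
theorem e8Cneg_32_24900 : allRange 24900 24920 ((fun k => commNegCheck Cfsg.Lie.chevE8 (k / 240) (k % 240))) = true := by decide +kernel
theorem e8Cneg_32_24920 : allRange 24920 24940 ((fun k => commNegCheck Cfsg.Lie.chevE8 (k / 240) (k % 240))) = true := by decide +kernel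
theorem e8Cneg_32_24940 : allRange 24940 24960 ((fun k => commNegCheck Cfsg.Lie.chevE8 (k / 240) (k % 240))) = true := by decide +kernel
theorem e8Cneg_32_24960 : allRange 24960 24980 ((fun k => commNegCheck Cfsg.Lie.chevE8 (k / 240) (k % 240))) = true := by decide +kernel
theorem e8Cneg_32_24980 : allRange 24980 25000 ((fun k => commNegCheck Cfsg.Lie.chevE8 (k / 240) (k % 240))) = true := by decide +kernel
theorem e8Cneg_32_25000 : allRange 25000 25020 ((fun k => commNegCheck Cfsg.Lie.chevE8 (k / 240) (k % 240))) = true := by decide +kernel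
theorem e8Cneg_32_25020 : allRange 25020 25040 ((fun k => commNegCheck Cfsg.Lie.chevE8 (k / 240) (k % 240))) = true := by decide +kernel
theorem e8Cneg_32_25040 : allRange 25040 25060 ((fun k => commNegCheck Cfsg.Lie.chevE8 (k / 240) (k % 240))) = true := by decide +kernel
theorem e8Cneg_32_25060 : allRange 25060 25080 ((fun k => commNegCheck Cfsg.Lie.chevE8 (k / 240) (k % 240))) = true := by decide +kernel

/-- The commutator formula of type E8 for opposite roots (roots 24320 to 25079). -/
theorem e8Cneg_32 : ∀ r, 24320 ≤ r → r < 25080 → ((fun k => commNegCheck Cfsg.Lie.chevE8 (k / 240) (k % 240))) r = true := by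
  intro r h1 h2
  by_cases c0 : r < 24340
  · exact allRange_spec e8Cneg_32_24320 r (by omega) c0
  by_cases c1 : r < 24360
  · exact allRange_spec e8Cneg_32_24340 r (by omega) c1
  by_cases c2 : r < 24380
  · exact allRange_spec e8Cneg_32_24360 r (by omega) c2
  by_cases c3 : r < 24400
  · exact allRange_spec e8Cneg_32_24380 r (by omega) c3
  by_cases c4 : r < 24420
  · exact allRange_spec e8Cneg_32_24400 r (by omega) c4
  by_cases c5 : r < 24440
  · exact allRange_spec e8Cneg_32_24420 r (by omega) c5
  by_cases c6 : r < 24460
  · exact allRange_spec e8Cneg_32_24440 r (by omega) c6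
  by_cases c7 : r < 24480
  · exact allRange_spec e8Cneg_32_24460 r (by omega) c7
  by_cases c8 : r < 24500
  · exact allRange_spec e8Cneg_32_24480 r (by omega) c8
  by_cases c9 : r < 24520
  · exact allRange_spec e8Cneg_32_24500 r (by omega) c9
  by_cases c10 : r < 24540
  · exact allRange_spec e8Cneg_32_24520 r (by omega) c10
  by_cases c11 : r < 24560
  · exact allRange_spec e8Cneg_32_24540 r (by omega) c11
  by_cases c12 : r < 24580
  · exact allRange_spec e8Cneg_32_24560 r (by omega) c12
  by_cases c13 : r < 24600
  · exact allRange_spec e8Cneg_32_24580 r (by omega) c13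
  by_cases c14 : r < 24620
  · exact allRange_spec e8Cneg_32_24600 r (by omega) c14
  by_cases c15 : r < 24640
  · exact allRange_spec e8Cneg_32_24620 r (by omega) c15
  by_cases c16 : r < 24660
  · exact allRange_spec e8Cneg_32_24640 r (by omega) c16
  by_cases c17 : r < 24680
  · exact allRange_spec e8Cneg_32_24660 r (by omega) c17
  by_cases c18 : r < 24700
  · exact allRange_spec e8Cneg_32_24680 r (by omega) c18
  by_cases c19 : r < 24720
  · exact allRange_spec e8Cneg_32_24700 r (by omega) c19
  by_cases c20 : r < 24740
  · exact allRange_spec e8Cneg_32_24720 r (by omega) c20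
  by_cases c21 : r < 24760
  · exact allRange_spec e8Cneg_32_24740 r (by omega) c21
  by_cases c22 : r < 24780
  · exact allRange_spec e8Cneg_32_24760 r (by omega) c22
  by_cases c23 : r < 24800
  · exact allRange_spec e8Cneg_32_24780 r (by omega) c23
  by_cases c24 : r < 24820
  · exact allRange_spec e8Cneg_32_24800 r (by omega) c24
  by_cases c25 : r < 24840
  · exact allRange_spec e8Cneg_32_24820 r (by omega) c25
  by_cases c26 : r < 24860
  · exact allRange_spec e8Cneg_32_24840 r (by omega) c26
  by_cases c27 : r < 24880
  · exact allRange_spec e8Cneg_32_24860 r (by omega) c27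
  by_cases c28 : r < 24900
  · exact allRange_spec e8Cneg_32_24880 r (by omega) c28
  by_cases c29 : r < 24920
  · exact allRange_spec e8Cneg_32_24900 r (by omega) c29
  by_cases c30 : r < 24940
  · exact allRange_spec e8Cneg_32_24920 r (by omega) c30
  by_cases c31 : r < 24960
  · exact allRange_spec e8Cneg_32_24940 r (by omega) c31
  by_cases c32 : r < 24980
  · exact allRange_spec e8Cneg_32_24960 r (by omega) c32
  by_cases c33 : r < 25000
  · exact allRange_spec e8Cneg_32_24980 r (by omega) c33
  by_cases c34 : r < 25020
  · exact allRange_spec e8Cneg_32_25000 r (by omega) c34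
  by_cases c35 : r < 25040
  · exact allRange_spec e8Cneg_32_25020 r (by omega) c35
  by_cases c36 : r < 25060
  · exact allRange_spec e8Cneg_32_25040 r (by omega) c36
  exact allRange_spec e8Cneg_32_25060 r (by omega) h2

end Cfsg.Agent.Lib.Helper3.ChevM
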