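import Cfsg.Prelude.Def_ChevE8
import Cfsg.Agent.Lib.Helper3.StB5
set_option autoImplicit false
set_option maxRecDepth 1000000
set_option Elab.async false

namespace Cfsg.Agent.Lib.Helper3.ChevM
open Cfsg.Agent.Lib.Helper3.StB

theorem e8Cneg_42_31920 : allRange 31920 31940 ((fun k => commNegCheck Cfsg.Lie.chevE8 (k / 240) (k % 240))) = true := by decide +kernel
theorem e8Cneg_42_31940 : allRange 31940 31960 ((fun k => commNegCheck Cfsg.Lie.chevE8 (k / 240) (k % 240))) = true := by decide +kernel
theorem e8Cneg_42_31960 : allRange 31960 31980 ((fun k => commNegCheck Cfsg.Lie.chevE8 (k / 240) (k % 240))) = true := by decide +kernel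
theorem e8Cneg_42_31980 : allRange 31980 32000 ((fun k => commNegCheck Cfsg.Lie.chevE8 (k / 240) (k % 240))) = true := by decide +kernel
theorem e8Cneg_42_32000 : allRange 32000 32020 ((fun k => commNegCheck Cfsg.Lie.chevE8 (k / 240) (k % 240))) = true := by decide +kernel
theorem e8Cneg_42_32020 : allRange 32020 32040 ((fun k => commNegCheck Cfsg.Lie.chevE8 (k / 240) (k % 240))) = true := by decide +kernel
theorem e8Cneg_42_32040 : allRange 32040 32060 ((fun k => commNegCheck Cfsg.Lie.chevE8 (k / 240) (k % 240))) = true := by decide +kernel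
theorem e8Cneg_42_32060 : allRange 32060 32080 ((fun k => commNegCheck Cfsg.Lie.chevE8 (k / 240) (k % 240))) = true := by decide +kernel
theorem e8Cneg_42_32080 : allRange 32080 32100 ((fun k => commNegCheck Cfsg.Lie.chevE8 (k / 240) (k % 240))) = true := by decide +kernel
theorem e8Cneg_42_32100 : allRange 32100 32120 ((fun k => commNegCheck Cfsg.Lie.chevE8 (k / 240) (k % 240))) = true := by decide +kernel
theorem e8Cneg_42_32120 : allRange 32120 32140 ((fun k => commNegCheck Cfsg.Lie.chevE8 (k / 240) (k % 240))) = true := by decide +kernel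
theorem e8Cneg_42_32140 : allRange 32140 32160 ((fun k => commNegCheck Cfsg.Lie.chevE8 (k / 240) (k % 240))) = true := by decide +kernel
theorem e8Cneg_42_32160 : allRange 32160 32180 ((fun k => commNegCheck Cfsg.Lie.chevE8 (k / 240) (k % 240))) = true := by decide +kernel
theorem e8Cneg_42_32180 : allRange 32180 32200 ((fun k => commNegCheck Cfsg.Lie.chevE8 (k / 240) (k % 240))) = true := by decide +kernel
theorem e8Cneg_42_32200 : allRange 32200 32220 ((fun k => commNegCheck Cfsg.Lie.chevE8 (k / 240) (k % 240))) = true := by decide +kernel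
theorem e8Cneg_42_32220 : allRange 32220 32240 ((fun k => commNegCheck Cfsg.Lie.chevE8 (k / 240) (k % 240))) = true := by decide +kernel
theorem e8Cneg_42_32240 : allRange 32240 32260 ((fun k => commNegCheck Cfsg.Lie.chevE8 (k / 240) (k % 240))) = true := by decide +kernel
theorem e8Cneg_42_32260 : allRange 32260 32280 ((fun k => commNegCheck Cfsg.Lie.chevE8 (k / 240) (k % 240))) = true := by decide +kernel
theorem e8Cneg_42_32280 : allRange 32280 32300 ((fun k => commNegCheck Cfsg.Lie.chevE8 (k / 240) (k % 240))) = true := by decide +kernel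
theorem e8Cneg_42_32300 : allRange 32300 32320 ((fun k => commNegCheck Cfsg.Lie.chevE8 (k / 240) (k % 240))) = true := by decide +kernel
theorem e8Cneg_42_32320 : allRange 32320 32340 ((fun k => commNegCheck Cfsg.Lie.chevE8 (k / 240) (k % 240))) = true := by decide +kernel
theorem e8Cneg_42_32340 : allRange 32340 32360 ((fun k => commNegCheck Cfsg.Lie.chevE8 (k / 240) (k % 240))) = true := by decide +kernel
theorem e8Cneg_42_32360 : allRange 32360 32380 ((fun k => commNegCheck Cfsg.Lie.chevE8 (k / 240) (k % 240))) = true := by decide +kernel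
theorem e8Cneg_42_32380 : allRange 32380 32400 ((fun k => commNegCheck Cfsg.Lie.chevE8 (k / 240) (k % 240))) = true := by decide +kernel
theorem e8Cneg_42_32400 : allRange 32400 32420 ((fun k => commNegCheck Cfsg.Lie.chevE8 (k / 240) (k % 240))) = true := by decide +kernel
theorem e8Cneg_42_32420 : allRange 32420 32440 ((fun k => commNegCheck Cfsg.Lie.chevE8 (k / 240) (k % 240))) = true := by decide +kernel
theorem e8Cneg_42_32440 : allRange 32440 32460 ((fun k => commNegCheck Cfsg.Lie.chevE8 (k / 240) (k % 240))) = true := by decide +kernel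
theorem e8Cneg_42_32460 : allRange 32460 32480 ((fun k => commNegCheck Cfsg.Lie.chevE8 (k / 240) (k % 240))) = true := by decide +kernel
theorem e8Cneg_42_32480 : allRange 32480 32500 ((fun k => commNegCheck Cfsg.Lie.chevE8 (k / 240) (k % 240))) = true := by decide +kernel
theorem e8Cneg_42_32500 : allRange 32500 32520 ((fun k => commNegCheck Cfsg.Lie.chevE8 (k / 240) (k % 240))) = true := by decide +kernel
theorem e8Cneg_42_32520 : allRange 32520 32540 ((fun k => commNegCheck Cfsg.Lie.chevE8 (k / 240) (k % 240))) = true := by decide +kernel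
theorem e8Cneg_42_32540 : allRange 32540 32560 ((fun k => commNegCheck Cfsg.Lie.chevE8 (k / 240) (k % 240))) = true := by decide +kernel
theorem e8Cneg_42_32560 : allRange 32560 32580 ((fun k => commNegCheck Cfsg.Lie.chevE8 (k / 240) (k % 240))) = true := by decide +kernel
theorem e8Cneg_42_32580 : allRange 32580 32600 ((fun k => commNegCheck Cfsg.Lie.chevE8 (k / 240) (k % 240))) = true := by decide +kernel
theorem e8Cneg_42_32600 : allRange 32600 32620 ((fun k => commNegCheck Cfsg.Lie.chevE8 (k / 240) (k % 240))) = true := by decide +kernel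
theorem e8Cneg_42_32620 : allRange 32620 32640 ((fun k => commNegCheck Cfsg.Lie.chevE8 (k / 240) (k % 240))) = true := by decide +kernel
theorem e8Cneg_42_32640 : allRange 32640 32660 ((fun k => commNegCheck Cfsg.Lie.chevE8 (k / 240) (k % 240))) = true := by decide +kernel
theorem e8Cneg_42_32660 : allRange 32660 32680 ((fun k => commNegCheck Cfsg.Lie.chevE8 (k / 240) (k % 240))) = true := by decide +kernel

/-- The commutator formula of type E8 for opposite roots (roots 31920 to 32679). -/
theorem e8Cneg_42 : ∀ r, 31920 ≤ r → r < 32680 → ((fun k => commNegCheck Cfsg.Lie.chevE8 (k / 240) (k % 240))) r = true := by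
  intro r h1 h2
  by_cases c0 : r < 31940
  · exact allRange_spec e8Cneg_42_31920 r (by omega) c0
  by_cases c1 : r < 31960
  · exact allRange_spec e8Cneg_42_31940 r (by omega) c1
  by_cases c2 : r < 31980
  · exact allRange_spec e8Cneg_42_31960 r (by omega) c2
  by_cases c3 : r < 32000
  · exact allRange_spec e8Cneg_42_31980 r (by omega) c3
  by_cases c4 : r < 32020
  · exact allRange_spec e8Cneg_42_32000 r (by omega) c4
  by_cases c5 : r < 32040
  · exact allRange_spec e8Cneg_42_32020 r (by omega) c5
  by_cases c6 : r < 32060
  · exact allRange_spec e8Cneg_42_32040 r (by omega) c6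
  by_cases c7 : r < 32080
  · exact allRange_spec e8Cneg_42_32060 r (by omega) c7
  by_cases c8 : r < 32100
  · exact allRange_spec e8Cneg_42_32080 r (by omega) c8
  by_cases c9 : r < 32120
  · exact allRange_spec e8Cneg_42_32100 r (by omega) c9
  by_cases c10 : r < 32140
  · exact allRange_spec e8Cneg_42_32120 r (by omega) c10
  by_cases c11 : r < 32160
  · exact allRange_spec e8Cneg_42_32140 r (by omega) c11
  by_cases c12 : r < 32180
  · exact allRange_spec e8Cneg_42_32160 r (by omega) c12
  by_cases c13 : r < 32200
  · exact allRange_spec e8Cneg_42_32180 r (by omega) c13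
  by_cases c14 : r < 32220
  · exact allRange_spec e8Cneg_42_32200 r (by omega) c14
  by_cases c15 : r < 32240
  · exact allRange_spec e8Cneg_42_32220 r (by omega) c15
  by_cases c16 : r < 32260
  · exact allRange_spec e8Cneg_42_32240 r (by omega) c16
  by_cases c17 : r < 32280
  · exact allRange_spec e8Cneg_42_32260 r (by omega) c17
  by_cases c18 : r < 32300
  · exact allRange_spec e8Cneg_42_32280 r (by omega) c18
  by_cases c19 : r < 32320
  · exact allRange_spec e8Cneg_42_32300 r (by omega) c19
  by_cases c20 : r < 32340
  · exact allRange_spec e8Cneg_42_32320 r (by omega) c20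
  by_cases c21 : r < 32360
  · exact allRange_spec e8Cneg_42_32340 r (by omega) c21
  by_cases c22 : r < 32380
  · exact allRange_spec e8Cneg_42_32360 r (by omega) c22
  by_cases c23 : r < 32400
  · exact allRange_spec e8Cneg_42_32380 r (by omega) c23
  by_cases c24 : r < 32420
  · exact allRange_spec e8Cneg_42_32400 r (by omega) c24
  by_cases c25 : r < 32440
  · exact allRange_spec e8Cneg_42_32420 r (by omega) c25
  by_cases c26 : r < 32460
  · exact allRange_spec e8Cneg_42_32440 r (by omega) c26
  by_cases c27 : r < 32480
  · exact allRange_spec e8Cneg_42_32460 r (by omega) c27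
  by_cases c28 : r < 32500
  · exact allRange_spec e8Cneg_42_32480 r (by omega) c28
  by_cases c29 : r < 32520
  · exact allRange_spec e8Cneg_42_32500 r (by omega) c29
  by_cases c30 : r < 32540
  · exact allRange_spec e8Cneg_42_32520 r (by omega) c30
  by_cases c31 : r < 32560
  · exact allRange_spec e8Cneg_42_32540 r (by omega) c31
  by_cases c32 : r < 32580
  · exact allRange_spec e8Cneg_42_32560 r (by omega) c32
  by_cases c33 : r < 32600
  · exact allRange_spec e8Cneg_42_32580 r (by omega) c33
  by_cases c34 : r < 32620
  · exact allRange_spec e8Cneg_42_32600 r (by omega) c34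
  by_cases c35 : r < 32640
  · exact allRange_spec e8Cneg_42_32620 r (by omega) c35
  by_cases c36 : r < 32660
  · exact allRange_spec e8Cneg_42_32640 r (by omega) c36
  exact allRange_spec e8Cneg_42_32660 r (by omega) h2

end Cfsg.Agent.Lib.Helper3.ChevM
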