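import Cfsg.Prelude.Def_ChevE8
import Cfsg.Agent.Lib.Helper3.StB5
set_option autoImplicit false
set_option maxRecDepth 1000000
set_option Elab.async false

namespace Cfsg.Agent.Lib.Helper3.ChevM
open Cfsg.Agent.Lib.Helper3.StB

theorem e8Cneg_52_39520 : allRange 39520 39540 ((fun k => commNegCheck Cfsg.Lie.chevE8 (k / 240) (k % 240))) = true := by decide +kernel
theorem e8Cneg_52_39540 : allRange 39540 39560 ((fun k => commNegCheck Cfsg.Lie.chevE8 (k / 240) (k % 240))) = true := by decide +kernel
theorem e8Cneg_52_39560 : allRange 39560 39580 ((fun k => commNegCheck Cfsg.Lie.chevE8 (k / 240) (k % 240))) = true := by decide +kernel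
theorem e8Cneg_52_39580 : allRange 39580 39600 ((fun k => commNegCheck Cfsg.Lie.chevE8 (k / 240) (k % 240))) = true := by decide +kernel
theorem e8Cneg_52_39600 : allRange 39600 39620 ((fun k => commNegCheck Cfsg.Lie.chevE8 (k / 240) (k % 240))) = true := by decide +kernel
theorem e8Cneg_52_39620 : allRange 39620 39640 ((fun k => commNegCheck Cfsg.Lie.chevE8 (k / 240) (k % 240))) = true := by decide +kernel
theorem e8Cneg_52_39640 : allRange 39640 39660 ((fun k => commNegCheck Cfsg.Lie.chevE8 (k / 240) (k % 240))) = true := by decide +kernel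
theorem e8Cneg_52_39660 : allRange 39660 39680 ((fun k => commNegCheck Cfsg.Lie.chevE8 (k / 240) (k % 240))) = true := by decide +kernel
theorem e8Cneg_52_39680 : allRange 39680 39700 ((fun k => commNegCheck Cfsg.Lie.chevE8 (k / 240) (k % 240))) = true := by decide +kernel
theorem e8Cneg_52_39700 : allRange 39700 39720 ((fun k => commNegCheck Cfsg.Lie.chevE8 (k / 240) (k % 240))) = true := by decide +kernel
theorem e8Cneg_52_39720 : allRange 39720 39740 ((fun k => commNegCheck Cfsg.Lie.chevE8 (k / 240) (k % 240))) = true := by decide +kernel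
theorem e8Cneg_52_39740 : allRange 39740 39760 ((fun k => commNegCheck Cfsg.Lie.chevE8 (k / 240) (k % 240))) = true := by decide +kernel
theorem e8Cneg_52_39760 : allRange 39760 39780 ((fun k => commNegCheck Cfsg.Lie.chevE8 (k / 240) (k % 240))) = true := by decide +kernel
theorem e8Cneg_52_39780 : allRange 39780 39800 ((fun k => commNegCheck Cfsg.Lie.chevE8 (k / 240) (k % 240))) = true := by decide +kernel
theorem e8Cneg_52_39800 : allRange 39800 39820 ((fun k => commNegCheck Cfsg.Lie.chevE8 (k / 240) (k % 240))) = true := by decide +kernel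
theorem e8Cneg_52_39820 : allRange 39820 39840 ((fun k => commNegCheck Cfsg.Lie.chevE8 (k / 240) (k % 240))) = true := by decide +kernel
theorem e8Cneg_52_39840 : allRange 39840 39860 ((fun k => commNegCheck Cfsg.Lie.chevE8 (k / 240) (k % 240))) = true := by decide +kernel
theorem e8Cneg_52_39860 : allRange 39860 39880 ((fun k => commNegCheck Cfsg.Lie.chevE8 (k / 240) (k % 240))) = true := by decide +kernel
theorem e8Cneg_52_39880 : allRange 39880 39900 ((fun k => commNegCheck Cfsg.Lie.chevE8 (k / 240) (k % 240))) = true := by decide +kernel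
theorem e8Cneg_52_39900 : allRange 39900 39920 ((fun k => commNegCheck Cfsg.Lie.chevE8 (k / 240) (k % 240))) = true := by decide +kernel
theorem e8Cneg_52_39920 : allRange 39920 39940 ((fun k => commNegCheck Cfsg.Lie.chevE8 (k / 240) (k % 240))) = true := by decide +kernel
theorem e8Cneg_52_39940 : allRange 39940 39960 ((fun k => commNegCheck Cfsg.Lie.chevE8 (k / 240) (k % 240))) = true := by decide +kernel
theorem e8Cneg_52_39960 : allRange 39960 39980 ((fun k => commNegCheck Cfsg.Lie.chevE8 (k / 240) (k % 240))) = true := by decide +kernel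
theorem e8Cneg_52_39980 : allRange 39980 40000 ((fun k => commNegCheck Cfsg.Lie.chevE8 (k / 240) (k % 240))) = true := by decide +kernel
theorem e8Cneg_52_40000 : allRange 40000 40020 ((fun k => commNegCheck Cfsg.Lie.chevE8 (k / 240) (k % 240))) = true := by decide +kernel
theorem e8Cneg_52_40020 : allRange 40020 40040 ((fun k => commNegCheck Cfsg.Lie.chevE8 (k / 240) (k % 240))) = true := by decide +kernel
theorem e8Cneg_52_40040 : allRange 40040 40060 ((fun k => commNegCheck Cfsg.Lie.chevE8 (k / 240) (k % 240))) = true := by decide +kernel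
theorem e8Cneg_52_40060 : allRange 40060 40080 ((fun k => commNegCheck Cfsg.Lie.chevE8 (k / 240) (k % 240))) = true := by decide +kernel
theorem e8Cneg_52_40080 : allRange 40080 40100 ((fun k => commNegCheck Cfsg.Lie.chevE8 (k / 240) (k % 240))) = true := by decide +kernel
theorem e8Cneg_52_40100 : allRange 40100 40120 ((fun k => commNegCheck Cfsg.Lie.chevE8 (k / 240) (k % 240))) = true := by decide +kernel
theorem e8Cneg_52_40120 : allRange 40120 40140 ((fun k => commNegCheck Cfsg.Lie.chevE8 (k / 240) (k % 240))) = true := by decide +kernel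
theorem e8Cneg_52_40140 : allRange 40140 40160 ((fun k => commNegCheck Cfsg.Lie.chevE8 (k / 240) (k % 240))) = true := by decide +kernel
theorem e8Cneg_52_40160 : allRange 40160 40180 ((fun k => commNegCheck Cfsg.Lie.chevE8 (k / 240) (k % 240))) = true := by decide +kernel
theorem e8Cneg_52_40180 : allRange 40180 40200 ((fun k => commNegCheck Cfsg.Lie.chevE8 (k / 240) (k % 240))) = true := by decide +kernel
theorem e8Cneg_52_40200 : allRange 40200 40220 ((fun k => commNegCheck Cfsg.Lie.chevE8 (k / 240) (k % 240))) = true := by decide +kernel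
theorem e8Cneg_52_40220 : allRange 40220 40240 ((fun k => commNegCheck Cfsg.Lie.chevE8 (k / 240) (k % 240))) = true := by decide +kernel
theorem e8Cneg_52_40240 : allRange 40240 40260 ((fun k => commNegCheck Cfsg.Lie.chevE8 (k / 240) (k % 240))) = true := by decide +kernel
theorem e8Cneg_52_40260 : allRange 40260 40280 ((fun k => commNegCheck Cfsg.Lie.chevE8 (k / 240) (k % 240))) = true := by decide +kernel

/-- The commutator formula of type E8 for opposite roots (roots 39520 to 40279). -/
theorem e8Cneg_52 : ∀ r, 39520 ≤ r → r < 40280 → ((fun k => commNegCheck Cfsg.Lie.chevE8 (k / 240) (k % 240))) r = true := by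
  intro r h1 h2
  by_cases c0 : r < 39540
  · exact allRange_spec e8Cneg_52_39520 r (by omega) c0
  by_cases c1 : r < 39560
  · exact allRange_spec e8Cneg_52_39540 r (by omega) c1
  by_cases c2 : r < 39580
  · exact allRange_spec e8Cneg_52_39560 r (by omega) c2
  by_cases c3 : r < 39600
  · exact allRange_spec e8Cneg_52_39580 r (by omega) c3
  by_cases c4 : r < 39620
  · exact allRange_spec e8Cneg_52_39600 r (by omega) c4
  by_cases c5 : r < 39640
  · exact allRange_spec e8Cneg_52_39620 r (by omega) c5
  by_cases c6 : r < 39660
  · exact allRange_spec e8Cneg_52_39640 r (by omega) c6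
  by_cases c7 : r < 39680
  · exact allRange_spec e8Cneg_52_39660 r (by omega) c7
  by_cases c8 : r < 39700
  · exact allRange_spec e8Cneg_52_39680 r (by omega) c8
  by_cases c9 : r < 39720
  · exact allRange_spec e8Cneg_52_39700 r (by omega) c9
  by_cases c10 : r < 39740
  · exact allRange_spec e8Cneg_52_39720 r (by omega) c10
  by_cases c11 : r < 39760
  · exact allRange_spec e8Cneg_52_39740 r (by omega) c11
  by_cases c12 : r < 39780
  · exact allRange_spec e8Cneg_52_39760 r (by omega) c12
  by_cases c13 : r < 39800
  · exact allRange_spec e8Cneg_52_39780 r (by omega) c13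
  by_cases c14 : r < 39820
  · exact allRange_spec e8Cneg_52_39800 r (by omega) c14
  by_cases c15 : r < 39840
  · exact allRange_spec e8Cneg_52_39820 r (by omega) c15
  by_cases c16 : r < 39860
  · exact allRange_spec e8Cneg_52_39840 r (by omega) c16
  by_cases c17 : r < 39880
  · exact allRange_spec e8Cneg_52_39860 r (by omega) c17
  by_cases c18 : r < 39900
  · exact allRange_spec e8Cneg_52_39880 r (by omega) c18
  by_cases c19 : r < 39920
  · exact allRange_spec e8Cneg_52_39900 r (by omega) c19
  by_cases c20 : r < 39940
  · exact allRange_spec e8Cneg_52_39920 r (by omega) c20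
  by_cases c21 : r < 39960
  · exact allRange_spec e8Cneg_52_39940 r (by omega) c21
  by_cases c22 : r < 39980
  · exact allRange_spec e8Cneg_52_39960 r (by omega) c22
  by_cases c23 : r < 40000
  · exact allRange_spec e8Cneg_52_39980 r (by omega) c23
  by_cases c24 : r < 40020
  · exact allRange_spec e8Cneg_52_40000 r (by omega) c24
  by_cases c25 : r < 40040
  · exact allRange_spec e8Cneg_52_40020 r (by omega) c25
  by_cases c26 : r < 40060
  · exact allRange_spec e8Cneg_52_40040 r (by omega) c26
  by_cases c27 : r < 40080
  · exact allRange_spec e8Cneg_52_40060 r (by omega) c27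
  by_cases c28 : r < 40100
  · exact allRange_spec e8Cneg_52_40080 r (by omega) c28
  by_cases c29 : r < 40120
  · exact allRange_spec e8Cneg_52_40100 r (by omega) c29
  by_cases c30 : r < 40140
  · exact allRange_spec e8Cneg_52_40120 r (by omega) c30
  by_cases c31 : r < 40160
  · exact allRange_spec e8Cneg_52_40140 r (by omega) c31
  by_cases c32 : r < 40180
  · exact allRange_spec e8Cneg_52_40160 r (by omega) c32
  by_cases c33 : r < 40200
  · exact allRange_spec e8Cneg_52_40180 r (by omega) c33
  by_cases c34 : r < 40220
  · exact allRange_spec e8Cneg_52_40200 r (by omega) c34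
  by_cases c35 : r < 40240
  · exact allRange_spec e8Cneg_52_40220 r (by omega) c35
  by_cases c36 : r < 40260
  · exact allRange_spec e8Cneg_52_40240 r (by omega) c36
  exact allRange_spec e8Cneg_52_40260 r (by omega) h2

end Cfsg.Agent.Lib.Helper3.ChevM
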