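import Cfsg.Prelude.Def_ChevE8
import Cfsg.Agent.Lib.Helper3.StB5
set_option autoImplicit false
set_option maxRecDepth 1000000
set_option Elab.async false

namespace Cfsg.Agent.Lib.Helper3.ChevM
open Cfsg.Agent.Lib.Helper3.StB

theorem e8Cneg_62_47120 : allRange 47120 47140 ((fun k => commNegCheck Cfsg.Lie.chevE8 (k / 240) (k % 240))) = true := by decide +kernel
theorem e8Cneg_62_47140 : allRange 47140 47160 ((fun k => commNegCheck Cfsg.Lie.chevE8 (k / 240) (k % 240))) = true := by decide +kernel
theorem e8Cneg_62_47160 : allRange 47160 47180 ((fun k => commNegCheck Cfsg.Lie.chevE8 (k / 240) (k % 240))) = true := by decide +kernel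
theorem e8Cneg_62_47180 : allRange 47180 47200 ((fun k => commNegCheck Cfsg.Lie.chevE8 (k / 240) (k % 240))) = true := by decide +kernel
theorem e8Cneg_62_47200 : allRange 47200 47220 ((fun k => commNegCheck Cfsg.Lie.chevE8 (k / 240) (k % 240))) = true := by decide +kernel
theorem e8Cneg_62_47220 : allRange 47220 47240 ((fun k => commNegCheck Cfsg.Lie.chevE8 (k / 240) (k % 240))) = true := by decide +kernel
theorem e8Cneg_62_47240 : allRange 47240 47260 ((fun k => commNegCheck Cfsg.Lie.chevE8 (k / 240) (k % 240))) = true := by decide +kernel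
theorem e8Cneg_62_47260 : allRange 47260 47280 ((fun k => commNegCheck Cfsg.Lie.chevE8 (k / 240) (k % 240))) = true := by decide +kernel
theorem e8Cneg_62_47280 : allRange 47280 47300 ((fun k => commNegCheck Cfsg.Lie.chevE8 (k / 240) (k % 240))) = true := by decide +kernel
theorem e8Cneg_62_47300 : allRange 47300 47320 ((fun k => commNegCheck Cfsg.Lie.chevE8 (k / 240) (k % 240))) = true := by decide +kernel
theorem e8Cneg_62_47320 : allRange 47320 47340 ((fun k => commNegCheck Cfsg.Lie.chevE8 (k / 240) (k % 240))) = true := by decide +kernel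
theorem e8Cneg_62_47340 : allRange 47340 47360 ((fun k => commNegCheck Cfsg.Lie.chevE8 (k / 240) (k % 240))) = true := by decide +kernel
theorem e8Cneg_62_47360 : allRange 47360 47380 ((fun k => commNegCheck Cfsg.Lie.chevE8 (k / 240) (k % 240))) = true := by decide +kernel
theorem e8Cneg_62_47380 : allRange 47380 47400 ((fun k => commNegCheck Cfsg.Lie.chevE8 (k / 240) (k % 240))) = true := by decide +kernel
theorem e8Cneg_62_47400 : allRange 47400 47420 ((fun k => commNegCheck Cfsg.Lie.chevE8 (k / 240) (k % 240))) = true := by decide +kernel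
theorem e8Cneg_62_47420 : allRange 47420 47440 ((fun k => commNegCheck Cfsg.Lie.chevE8 (k / 240) (k % 240))) = true := by decide +kernel
theorem e8Cneg_62_47440 : allRange 47440 47460 ((fun k => commNegCheck Cfsg.Lie.chevE8 (k / 240) (k % 240))) = true := by decide +kernel
theorem e8Cneg_62_47460 : allRange 47460 47480 ((fun k => commNegCheck Cfsg.Lie.chevE8 (k / 240) (k % 240))) = true := by decide +kernel
theorem e8Cneg_62_47480 : allRange 47480 47500 ((fun k => commNegCheck Cfsg.Lie.chevE8 (k / 240) (k % 240))) = true := by decide +kernel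
theorem e8Cneg_62_47500 : allRange 47500 47520 ((fun k => commNegCheck Cfsg.Lie.chevE8 (k / 240) (k % 240))) = true := by decide +kernel
theorem e8Cneg_62_47520 : allRange 47520 47540 ((fun k => commNegCheck Cfsg.Lie.chevE8 (k / 240) (k % 240))) = true := by decide +kernel
theorem e8Cneg_62_47540 : allRange 47540 47560 ((fun k => commNegCheck Cfsg.Lie.chevE8 (k / 240) (k % 240))) = true := by decide +kernel
theorem e8Cneg_62_47560 : allRange 47560 47580 ((fun k => commNegCheck Cfsg.Lie.chevE8 (k / 240) (k % 240))) = true := by decide +kernel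
theorem e8Cneg_62_47580 : allRange 47580 47600 ((fun k => commNegCheck Cfsg.Lie.chevE8 (k / 240) (k % 240))) = true := by decide +kernel
theorem e8Cneg_62_47600 : allRange 47600 47620 ((fun k => commNegCheck Cfsg.Lie.chevE8 (k / 240) (k % 240))) = true := by decide +kernel
theorem e8Cneg_62_47620 : allRange 47620 47640 ((fun k => commNegCheck Cfsg.Lie.chevE8 (k / 240) (k % 240))) = true := by decide +kernel
theorem e8Cneg_62_47640 : allRange 47640 47660 ((fun k => commNegCheck Cfsg.Lie.chevE8 (k / 240) (k % 240))) = true := by decide +kernel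
theorem e8Cneg_62_47660 : allRange 47660 47680 ((fun k => commNegCheck Cfsg.Lie.chevE8 (k / 240) (k % 240))) = true := by decide +kernel
theorem e8Cneg_62_47680 : allRange 47680 47700 ((fun k => commNegCheck Cfsg.Lie.chevE8 (k / 240) (k % 240))) = true := by decide +kernel
theorem e8Cneg_62_47700 : allRange 47700 47720 ((fun k => commNegCheck Cfsg.Lie.chevE8 (k / 240) (k % 240))) = true := by decide +kernel
theorem e8Cneg_62_47720 : allRange 47720 47740 ((fun k => commNegCheck Cfsg.Lie.chevE8 (k / 240) (k % 240))) = true := by decide +kernel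
theorem e8Cneg_62_47740 : allRange 47740 47760 ((fun k => commNegCheck Cfsg.Lie.chevE8 (k / 240) (k % 240))) = true := by decide +kernel
theorem e8Cneg_62_47760 : allRange 47760 47780 ((fun k => commNegCheck Cfsg.Lie.chevE8 (k / 240) (k % 240))) = true := by decide +kernel
theorem e8Cneg_62_47780 : allRange 47780 47800 ((fun k => commNegCheck Cfsg.Lie.chevE8 (k / 240) (k % 240))) = true := by decide +kernel
theorem e8Cneg_62_47800 : allRange 47800 47820 ((fun k => commNegCheck Cfsg.Lie.chevE8 (k / 240) (k % 240))) = true := by decide +kernel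
theorem e8Cneg_62_47820 : allRange 47820 47840 ((fun k => commNegCheck Cfsg.Lie.chevE8 (k / 240) (k % 240))) = true := by decide +kernel
theorem e8Cneg_62_47840 : allRange 47840 47860 ((fun k => commNegCheck Cfsg.Lie.chevE8 (k / 240) (k % 240))) = true := by decide +kernel
theorem e8Cneg_62_47860 : allRange 47860 47880 ((fun k => commNegCheck Cfsg.Lie.chevE8 (k / 240) (k % 240))) = true := by decide +kernel

/-- The commutator formula of type E8 for opposite roots (roots 47120 to 47879). -/
theorem e8Cneg_62 : ∀ r, 47120 ≤ r → r < 47880 → ((fun k => commNegCheck Cfsg.Lie.chevE8 (k / 240) (k % 240))) r = true := by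
  intro r h1 h2
  by_cases c0 : r < 47140
  · exact allRange_spec e8Cneg_62_47120 r (by omega) c0
  by_cases c1 : r < 47160
  · exact allRange_spec e8Cneg_62_47140 r (by omega) c1
  by_cases c2 : r < 47180
  · exact allRange_spec e8Cneg_62_47160 r (by omega) c2
  by_cases c3 : r < 47200
  · exact allRange_spec e8Cneg_62_47180 r (by omega) c3
  by_cases c4 : r < 47220
  · exact allRange_spec e8Cneg_62_47200 r (by omega) c4
  by_cases c5 : r < 47240
  · exact allRange_spec e8Cneg_62_47220 r (by omega) c5
  by_cases c6 : r < 47260
  · exact allRange_spec e8Cneg_62_47240 r (by omega) c6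
  by_cases c7 : r < 47280
  · exact allRange_spec e8Cneg_62_47260 r (by omega) c7
  by_cases c8 : r < 47300
  · exact allRange_spec e8Cneg_62_47280 r (by omega) c8
  by_cases c9 : r < 47320
  · exact allRange_spec e8Cneg_62_47300 r (by omega) c9
  by_cases c10 : r < 47340
  · exact allRange_spec e8Cneg_62_47320 r (by omega) c10
  by_cases c11 : r < 47360
  · exact allRange_spec e8Cneg_62_47340 r (by omega) c11
  by_cases c12 : r < 47380
  · exact allRange_spec e8Cneg_62_47360 r (by omega) c12
  by_cases c13 : r < 47400
  · exact allRange_spec e8Cneg_62_47380 r (by omega) c13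
  by_cases c14 : r < 47420
  · exact allRange_spec e8Cneg_62_47400 r (by omega) c14
  by_cases c15 : r < 47440
  · exact allRange_spec e8Cneg_62_47420 r (by omega) c15
  by_cases c16 : r < 47460
  · exact allRange_spec e8Cneg_62_47440 r (by omega) c16
  by_cases c17 : r < 47480
  · exact allRange_spec e8Cneg_62_47460 r (by omega) c17
  by_cases c18 : r < 47500
  · exact allRange_spec e8Cneg_62_47480 r (by omega) c18
  by_cases c19 : r < 47520
  · exact allRange_spec e8Cneg_62_47500 r (by omega) c19
  by_cases c20 : r < 47540
  · exact allRange_spec e8Cneg_62_47520 r (by omega) c20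
  by_cases c21 : r < 47560
  · exact allRange_spec e8Cneg_62_47540 r (by omega) c21
  by_cases c22 : r < 47580
  · exact allRange_spec e8Cneg_62_47560 r (by omega) c22
  by_cases c23 : r < 47600
  · exact allRange_spec e8Cneg_62_47580 r (by omega) c23
  by_cases c24 : r < 47620
  · exact allRange_spec e8Cneg_62_47600 r (by omega) c24
  by_cases c25 : r < 47640
  · exact allRange_spec e8Cneg_62_47620 r (by omega) c25
  by_cases c26 : r < 47660
  · exact allRange_spec e8Cneg_62_47640 r (by omega) c26
  by_cases c27 : r < 47680
  · exact allRange_spec e8Cneg_62_47660 r (by omega) c27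
  by_cases c28 : r < 47700
  · exact allRange_spec e8Cneg_62_47680 r (by omega) c28
  by_cases c29 : r < 47720
  · exact allRange_spec e8Cneg_62_47700 r (by omega) c29
  by_cases c30 : r < 47740
  · exact allRange_spec e8Cneg_62_47720 r (by omega) c30
  by_cases c31 : r < 47760
  · exact allRange_spec e8Cneg_62_47740 r (by omega) c31
  by_cases c32 : r < 47780
  · exact allRange_spec e8Cneg_62_47760 r (by omega) c32
  by_cases c33 : r < 47800
  · exact allRange_spec e8Cneg_62_47780 r (by omega) c33
  by_cases c34 : r < 47820
  · exact allRange_spec e8Cneg_62_47800 r (by omega) c34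
  by_cases c35 : r < 47840
  · exact allRange_spec e8Cneg_62_47820 r (by omega) c35
  by_cases c36 : r < 47860
  · exact allRange_spec e8Cneg_62_47840 r (by omega) c36
  exact allRange_spec e8Cneg_62_47860 r (by omega) h2

end Cfsg.Agent.Lib.Helper3.ChevM
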