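import Cfsg.Prelude.Def_ChevE8
import Cfsg.Agent.Lib.Helper3.StB5
set_option autoImplicit false
set_option maxRecDepth 1000000
set_option Elab.async false

namespace Cfsg.Agent.Lib.Helper3.ChevM
open Cfsg.Agent.Lib.Helper3.StB

theorem e8Cneg_72_54720 : allRange 54720 54740 ((fun k => commNegCheck Cfsg.Lie.chevE8 (k / 240) (k % 240))) = true := by decide +kernel
theorem e8Cneg_72_54740 : allRange 54740 54760 ((fun k => commNegCheck Cfsg.Lie.chevE8 (k / 240) (k % 240))) = true := by decide +kernel
theorem e8Cneg_72_54760 : allRange 54760 54780 ((fun k => commNegCheck Cfsg.Lie.chevE8 (k / 240) (k % 240))) = true := by decide +kernel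
theorem e8Cneg_72_54780 : allRange 54780 54800 ((fun k => commNegCheck Cfsg.Lie.chevE8 (k / 240) (k % 240))) = true := by decide +kernel
theorem e8Cneg_72_54800 : allRange 54800 54820 ((fun k => commNegCheck Cfsg.Lie.chevE8 (k / 240) (k % 240))) = true := by decide +kernel
theorem e8Cneg_72_54820 : allRange 54820 54840 ((fun k => commNegCheck Cfsg.Lie.chevE8 (k / 240) (k % 240))) = true := by decide +kernel
theorem e8Cneg_72_54840 : allRange 54840 54860 ((fun k => commNegCheck Cfsg.Lie.chevE8 (k / 240) (k % 240))) = true := by decide +kernel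
theorem e8Cneg_72_54860 : allRange 54860 54880 ((fun k => commNegCheck Cfsg.Lie.chevE8 (k / 240) (k % 240))) = true := by decide +kernel
theorem e8Cneg_72_54880 : allRange 54880 54900 ((fun k => commNegCheck Cfsg.Lie.chevE8 (k / 240) (k % 240))) = true := by decide +kernel
theorem e8Cneg_72_54900 : allRange 54900 54920 ((fun k => commNegCheck Cfsg.Lie.chevE8 (k / 240) (k % 240))) = true := by decide +kernel
theorem e8Cneg_72_54920 : allRange 54920 54940 ((fun k => commNegCheck Cfsg.Lie.chevE8 (k / 240) (k % 240))) = true := by decide +kernel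
theorem e8Cneg_72_54940 : allRange 54940 54960 ((fun k => commNegCheck Cfsg.Lie.chevE8 (k / 240) (k % 240))) = true := by decide +kernel
theorem e8Cneg_72_54960 : allRange 54960 54980 ((fun k => commNegCheck Cfsg.Lie.chevE8 (k / 240) (k % 240))) = true := by decide +kernel
theorem e8Cneg_72_54980 : allRange 54980 55000 ((fun k => commNegCheck Cfsg.Lie.chevE8 (k / 240) (k % 240))) = true := by decide +kernel
theorem e8Cneg_72_55000 : allRange 55000 55020 ((fun k => commNegCheck Cfsg.Lie.chevE8 (k / 240) (k % 240))) = true := by decide +kernel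
theorem e8Cneg_72_55020 : allRange 55020 55040 ((fun k => commNegCheck Cfsg.Lie.chevE8 (k / 240) (k % 240))) = true := by decide +kernel
theorem e8Cneg_72_55040 : allRange 55040 55060 ((fun k => commNegCheck Cfsg.Lie.chevE8 (k / 240) (k % 240))) = true := by decide +kernel
theorem e8Cneg_72_55060 : allRange 55060 55080 ((fun k => commNegCheck Cfsg.Lie.chevE8 (k / 240) (k % 240))) = true := by decide +kernel
theorem e8Cneg_72_55080 : allRange 55080 55100 ((fun k => commNegCheck Cfsg.Lie.chevE8 (k / 240) (k % 240))) = true := by decide +kernel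
theorem e8Cneg_72_55100 : allRange 55100 55120 ((fun k => commNegCheck Cfsg.Lie.chevE8 (k / 240) (k % 240))) = true := by decide +kernel
theorem e8Cneg_72_55120 : allRange 55120 55140 ((fun k => commNegCheck Cfsg.Lie.chevE8 (k / 240) (k % 240))) = true := by decide +kernel
theorem e8Cneg_72_55140 : allRange 55140 55160 ((fun k => commNegCheck Cfsg.Lie.chevE8 (k / 240) (k % 240))) = true := by decide +kernel
theorem e8Cneg_72_55160 : allRange 55160 55180 ((fun k => commNegCheck Cfsg.Lie.chevE8 (k / 240) (k % 240))) = true := by decide +kernel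
theorem e8Cneg_72_55180 : allRange 55180 55200 ((fun k => commNegCheck Cfsg.Lie.chevE8 (k / 240) (k % 240))) = true := by decide +kernel
theorem e8Cneg_72_55200 : allRange 55200 55220 ((fun k => commNegCheck Cfsg.Lie.chevE8 (k / 240) (k % 240))) = true := by decide +kernel
theorem e8Cneg_72_55220 : allRange 55220 55240 ((fun k => commNegCheck Cfsg.Lie.chevE8 (k / 240) (k % 240))) = true := by decide +kernel
theorem e8Cneg_72_55240 : allRange 55240 55260 ((fun k => commNegCheck Cfsg.Lie.chevE8 (k / 240) (k % 240))) = true := by decide +kernel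
theorem e8Cneg_72_55260 : allRange 55260 55280 ((fun k => commNegCheck Cfsg.Lie.chevE8 (k / 240) (k % 240))) = true := by decide +kernel
theorem e8Cneg_72_55280 : allRange 55280 55300 ((fun k => commNegCheck Cfsg.Lie.chevE8 (k / 240) (k % 240))) = true := by decide +kernel
theorem e8Cneg_72_55300 : allRange 55300 55320 ((fun k => commNegCheck Cfsg.Lie.chevE8 (k / 240) (k % 240))) = true := by decide +kernel
theorem e8Cneg_72_55320 : allRange 55320 55340 ((fun k => commNegCheck Cfsg.Lie.chevE8 (k / 240) (k % 240))) = true := by decide +kernel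
theorem e8Cneg_72_55340 : allRange 55340 55360 ((fun k => commNegCheck Cfsg.Lie.chevE8 (k / 240) (k % 240))) = true := by decide +kernel
theorem e8Cneg_72_55360 : allRange 55360 55380 ((fun k => commNegCheck Cfsg.Lie.chevE8 (k / 240) (k % 240))) = true := by decide +kernel
theorem e8Cneg_72_55380 : allRange 55380 55400 ((fun k => commNegCheck Cfsg.Lie.chevE8 (k / 240) (k % 240))) = true := by decide +kernel
theorem e8Cneg_72_55400 : allRange 55400 55420 ((fun k => commNegCheck Cfsg.Lie.chevE8 (k / 240) (k % 240))) = true := by decide +kernel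
theorem e8Cneg_72_55420 : allRange 55420 55440 ((fun k => commNegCheck Cfsg.Lie.chevE8 (k / 240) (k % 240))) = true := by decide +kernel
theorem e8Cneg_72_55440 : allRange 55440 55460 ((fun k => commNegCheck Cfsg.Lie.chevE8 (k / 240) (k % 240))) = true := by decide +kernel
theorem e8Cneg_72_55460 : allRange 55460 55480 ((fun k => commNegCheck Cfsg.Lie.chevE8 (k / 240) (k % 240))) = true := by decide +kernel

/-- The commutator formula of type E8 for opposite roots (roots 54720 to 55479). -/
theorem e8Cneg_72 : ∀ r, 54720 ≤ r → r < 55480 → ((fun k => commNegCheck Cfsg.Lie.chevE8 (k / 240) (k % 240))) r = true := by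
  intro r h1 h2
  by_cases c0 : r < 54740
  · exact allRange_spec e8Cneg_72_54720 r (by omega) c0
  by_cases c1 : r < 54760
  · exact allRange_spec e8Cneg_72_54740 r (by omega) c1
  by_cases c2 : r < 54780
  · exact allRange_spec e8Cneg_72_54760 r (by omega) c2
  by_cases c3 : r < 54800
  · exact allRange_spec e8Cneg_72_54780 r (by omega) c3
  by_cases c4 : r < 54820
  · exact allRange_spec e8Cneg_72_54800 r (by omega) c4
  by_cases c5 : r < 54840
  · exact allRange_spec e8Cneg_72_54820 r (by omega) c5
  by_cases c6 : r < 54860
  · exact allRange_spec e8Cneg_72_54840 r (by omega) c6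
  by_cases c7 : r < 54880
  · exact allRange_spec e8Cneg_72_54860 r (by omega) c7
  by_cases c8 : r < 54900
  · exact allRange_spec e8Cneg_72_54880 r (by omega) c8
  by_cases c9 : r < 54920
  · exact allRange_spec e8Cneg_72_54900 r (by omega) c9
  by_cases c10 : r < 54940
  · exact allRange_spec e8Cneg_72_54920 r (by omega) c10
  by_cases c11 : r < 54960
  · exact allRange_spec e8Cneg_72_54940 r (by omega) c11
  by_cases c12 : r < 54980
  · exact allRange_spec e8Cneg_72_54960 r (by omega) c12
  by_cases c13 : r < 55000
  · exact allRange_spec e8Cneg_72_54980 r (by omega) c13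
  by_cases c14 : r < 55020
  · exact allRange_spec e8Cneg_72_55000 r (by omega) c14
  by_cases c15 : r < 55040
  · exact allRange_spec e8Cneg_72_55020 r (by omega) c15
  by_cases c16 : r < 55060
  · exact allRange_spec e8Cneg_72_55040 r (by omega) c16
  by_cases c17 : r < 55080
  · exact allRange_spec e8Cneg_72_55060 r (by omega) c17
  by_cases c18 : r < 55100
  · exact allRange_spec e8Cneg_72_55080 r (by omega) c18
  by_cases c19 : r < 55120
  · exact allRange_spec e8Cneg_72_55100 r (by omega) c19
  by_cases c20 : r < 55140
  · exact allRange_spec e8Cneg_72_55120 r (by omega) c20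
  by_cases c21 : r < 55160
  · exact allRange_spec e8Cneg_72_55140 r (by omega) c21
  by_cases c22 : r < 55180
  · exact allRange_spec e8Cneg_72_55160 r (by omega) c22
  by_cases c23 : r < 55200
  · exact allRange_spec e8Cneg_72_55180 r (by omega) c23
  by_cases c24 : r < 55220
  · exact allRange_spec e8Cneg_72_55200 r (by omega) c24
  by_cases c25 : r < 55240
  · exact allRange_spec e8Cneg_72_55220 r (by omega) c25
  by_cases c26 : r < 55260
  · exact allRange_spec e8Cneg_72_55240 r (by omega) c26
  by_cases c27 : r < 55280
  · exact allRange_spec e8Cneg_72_55260 r (by omega) c27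
  by_cases c28 : r < 55300
  · exact allRange_spec e8Cneg_72_55280 r (by omega) c28
  by_cases c29 : r < 55320
  · exact allRange_spec e8Cneg_72_55300 r (by omega) c29
  by_cases c30 : r < 55340
  · exact allRange_spec e8Cneg_72_55320 r (by omega) c30
  by_cases c31 : r < 55360
  · exact allRange_spec e8Cneg_72_55340 r (by omega) c31
  by_cases c32 : r < 55380
  · exact allRange_spec e8Cneg_72_55360 r (by omega) c32
  by_cases c33 : r < 55400
  · exact allRange_spec e8Cneg_72_55380 r (by omega) c33
  by_cases c34 : r < 55420
  · exact allRange_spec e8Cneg_72_55400 r (by omega) c34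
  by_cases c35 : r < 55440
  · exact allRange_spec e8Cneg_72_55420 r (by omega) c35
  by_cases c36 : r < 55460
  · exact allRange_spec e8Cneg_72_55440 r (by omega) c36
  exact allRange_spec e8Cneg_72_55460 r (by omega) h2

end Cfsg.Agent.Lib.Helper3.ChevM
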