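import Cfsg.Prelude.Def_ChevE8
import Cfsg.Agent.Lib.Helper3.StB5
set_option autoImplicit false
set_option maxRecDepth 1000000
set_option Elab.async false

namespace Cfsg.Agent.Lib.Helper3.ChevM
open Cfsg.Agent.Lib.Helper3.StB

theorem e8Cneg_10_7600 : allRange 7600 7620 ((fun k => commNegCheck Cfsg.Lie.chevE8 (k / 240) (k % 240))) = true := by decide +kernel
theorem e8Cneg_10_7620 : allRange 7620 7640 ((fun k => commNegCheck Cfsg.Lie.chevE8 (k / 240) (k % 240))) = true := by decide +kernel
theorem e8Cneg_10_7640 : allRange 7640 7660 ((fun k => commNegCheck Cfsg.Lie.chevE8 (k / 240) (k % 240))) = true := by decide +kernel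
theorem e8Cneg_10_7660 : allRange 7660 7680 ((fun k => commNegCheck Cfsg.Lie.chevE8 (k / 240) (k % 240))) = true := by decide +kernel
theorem e8Cneg_10_7680 : allRange 7680 7700 ((fun k => commNegCheck Cfsg.Lie.chevE8 (k / 240) (k % 240))) = true := by decide +kernel
theorem e8Cneg_10_7700 : allRange 7700 7720 ((fun k => commNegCheck Cfsg.Lie.chevE8 (k / 240) (k % 240))) = true := by decide +kernel
theorem e8Cneg_10_7720 : allRange 7720 7740 ((fun k => commNegCheck Cfsg.Lie.chevE8 (k / 240) (k % 240))) = true := by decide +kernel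
theorem e8Cneg_10_7740 : allRange 7740 7760 ((fun k => commNegCheck Cfsg.Lie.chevE8 (k / 240) (k % 240))) = true := by decide +kernel
theorem e8Cneg_10_7760 : allRange 7760 7780 ((fun k => commNegCheck Cfsg.Lie.chevE8 (k / 240) (k % 240))) = true := by decide +kernel
theorem e8Cneg_10_7780 : allRange 7780 7800 ((fun k => commNegCheck Cfsg.Lie.chevE8 (k / 240) (k % 240))) = true := by decide +kernel
theorem e8Cneg_10_7800 : allRange 7800 7820 ((fun k => commNegCheck Cfsg.Lie.chevE8 (k / 240) (k % 240))) = true := by decide +kernel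
theorem e8Cneg_10_7820 : allRange 7820 7840 ((fun k => commNegCheck Cfsg.Lie.chevE8 (k / 240) (k % 240))) = true := by decide +kernel
theorem e8Cneg_10_7840 : allRange 7840 7860 ((fun k => commNegCheck Cfsg.Lie.chevE8 (k / 240) (k % 240))) = true := by decide +kernel
theorem e8Cneg_10_7860 : allRange 7860 7880 ((fun k => commNegCheck Cfsg.Lie.chevE8 (k / 240) (k % 240))) = true := by decide +kernel
theorem e8Cneg_10_7880 : allRange 7880 7900 ((fun k => commNegCheck Cfsg.Lie.chevE8 (k / 240) (k % 240))) = true := by decide +kernel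
theorem e8Cneg_10_7900 : allRange 7900 7920 ((fun k => commNegCheck Cfsg.Lie.chevE8 (k / 240) (k % 240))) = true := by decide +kernel
theorem e8Cneg_10_7920 : allRange 7920 7940 ((fun k => commNegCheck Cfsg.Lie.chevE8 (k / 240) (k % 240))) = true := by decide +kernel
theorem e8Cneg_10_7940 : allRange 7940 7960 ((fun k => commNegCheck Cfsg.Lie.chevE8 (k / 240) (k % 240))) = true := by decide +kernel
theorem e8Cneg_10_7960 : allRange 7960 7980 ((fun k => commNegCheck Cfsg.Lie.chevE8 (k / 240) (k % 240))) = true := by decide +kernel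
theorem e8Cneg_10_7980 : allRange 7980 8000 ((fun k => commNegCheck Cfsg.Lie.chevE8 (k / 240) (k % 240))) = true := by decide +kernel
theorem e8Cneg_10_8000 : allRange 8000 8020 ((fun k => commNegCheck Cfsg.Lie.chevE8 (k / 240) (k % 240))) = true := by decide +kernel
theorem e8Cneg_10_8020 : allRange 8020 8040 ((fun k => commNegCheck Cfsg.Lie.chevE8 (k / 240) (k % 240))) = true := by decide +kernel
theorem e8Cneg_10_8040 : allRange 8040 8060 ((fun k => commNegCheck Cfsg.Lie.chevE8 (k / 240) (k % 240))) = true := by decide +kernel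
theorem e8Cneg_10_8060 : allRange 8060 8080 ((fun k => commNegCheck Cfsg.Lie.chevE8 (k / 240) (k % 240))) = true := by decide +kernel
theorem e8Cneg_10_8080 : allRange 8080 8100 ((fun k => commNegCheck Cfsg.Lie.chevE8 (k / 240) (k % 240))) = true := by decide +kernel
theorem e8Cneg_10_8100 : allRange 8100 8120 ((fun k => commNegCheck Cfsg.Lie.chevE8 (k / 240) (k % 240))) = true := by decide +kernel
theorem e8Cneg_10_8120 : allRange 8120 8140 ((fun k => commNegCheck Cfsg.Lie.chevE8 (k / 240) (k % 240))) = true := by decide +kernel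
theorem e8Cneg_10_8140 : allRange 8140 8160 ((fun k => commNegCheck Cfsg.Lie.chevE8 (k / 240) (k % 240))) = true := by decide +kernel
theorem e8Cneg_10_8160 : allRange 8160 8180 ((fun k => commNegCheck Cfsg.Lie.chevE8 (k / 240) (k % 240))) = true := by decide +kernel
theorem e8Cneg_10_8180 : allRange 8180 8200 ((fun k => commNegCheck Cfsg.Lie.chevE8 (k / 240) (k % 240))) = true := by decide +kernel
theorem e8Cneg_10_8200 : allRange 8200 8220 ((fun k => commNegCheck Cfsg.Lie.chevE8 (k / 240) (k % 240))) = true := by decide +kernel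
theorem e8Cneg_10_8220 : allRange 8220 8240 ((fun k => commNegCheck Cfsg.Lie.chevE8 (k / 240) (k % 240))) = true := by decide +kernel
theorem e8Cneg_10_8240 : allRange 8240 8260 ((fun k => commNegCheck Cfsg.Lie.chevE8 (k / 240) (k % 240))) = true := by decide +kernel
theorem e8Cneg_10_8260 : allRange 8260 8280 ((fun k => commNegCheck Cfsg.Lie.chevE8 (k / 240) (k % 240))) = true := by decide +kernel
theorem e8Cneg_10_8280 : allRange 8280 8300 ((fun k => commNegCheck Cfsg.Lie.chevE8 (k / 240) (k % 240))) = true := by decide +kernel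
theorem e8Cneg_10_8300 : allRange 8300 8320 ((fun k => commNegCheck Cfsg.Lie.chevE8 (k / 240) (k % 240))) = true := by decide +kernel
theorem e8Cneg_10_8320 : allRange 8320 8340 ((fun k => commNegCheck Cfsg.Lie.chevE8 (k / 240) (k % 240))) = true := by decide +kernel
theorem e8Cneg_10_8340 : allRange 8340 8360 ((fun k => commNegCheck Cfsg.Lie.chevE8 (k / 240) (k % 240))) = true := by decide +kernel

/-- The commutator formula of type E8 for opposite roots (roots 7600 to 8359). -/
theorem e8Cneg_10 : ∀ r, 7600 ≤ r → r < 8360 → ((fun k => commNegCheck Cfsg.Lie.chevE8 (k / 240) (k % 240))) r = true := by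
  intro r h1 h2
  by_cases c0 : r < 7620
  · exact allRange_spec e8Cneg_10_7600 r (by omega) c0
  by_cases c1 : r < 7640
  · exact allRange_spec e8Cneg_10_7620 r (by omega) c1
  by_cases c2 : r < 7660
  · exact allRange_spec e8Cneg_10_7640 r (by omega) c2
  by_cases c3 : r < 7680
  · exact allRange_spec e8Cneg_10_7660 r (by omega) c3
  by_cases c4 : r < 7700
  · exact allRange_spec e8Cneg_10_7680 r (by omega) c4
  by_cases c5 : r < 7720
  · exact allRange_spec e8Cneg_10_7700 r (by omega) c5
  by_cases c6 : r < 7740
  · exact allRange_spec e8Cneg_10_7720 r (by omega) c6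
  by_cases c7 : r < 7760
  · exact allRange_spec e8Cneg_10_7740 r (by omega) c7
  by_cases c8 : r < 7780
  · exact allRange_spec e8Cneg_10_7760 r (by omega) c8
  by_cases c9 : r < 7800
  · exact allRange_spec e8Cneg_10_7780 r (by omega) c9
  by_cases c10 : r < 7820
  · exact allRange_spec e8Cneg_10_7800 r (by omega) c10
  by_cases c11 : r < 7840
  · exact allRange_spec e8Cneg_10_7820 r (by omega) c11
  by_cases c12 : r < 7860
  · exact allRange_spec e8Cneg_10_7840 r (by omega) c12
  by_cases c13 : r < 7880
  · exact allRange_spec e8Cneg_10_7860 r (by omega) c13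
  by_cases c14 : r < 7900
  · exact allRange_spec e8Cneg_10_7880 r (by omega) c14
  by_cases c15 : r < 7920
  · exact allRange_spec e8Cneg_10_7900 r (by omega) c15
  by_cases c16 : r < 7940
  · exact allRange_spec e8Cneg_10_7920 r (by omega) c16
  by_cases c17 : r < 7960
  · exact allRange_spec e8Cneg_10_7940 r (by omega) c17
  by_cases c18 : r < 7980
  · exact allRange_spec e8Cneg_10_7960 r (by omega) c18
  by_cases c19 : r < 8000
  · exact allRange_spec e8Cneg_10_7980 r (by omega) c19
  by_cases c20 : r < 8020
  · exact allRange_spec e8Cneg_10_8000 r (by omega) c20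
  by_cases c21 : r < 8040
  · exact allRange_spec e8Cneg_10_8020 r (by omega) c21
  by_cases c22 : r < 8060
  · exact allRange_spec e8Cneg_10_8040 r (by omega) c22
  by_cases c23 : r < 8080
  · exact allRange_spec e8Cneg_10_8060 r (by omega) c23
  by_cases c24 : r < 8100
  · exact allRange_spec e8Cneg_10_8080 r (by omega) c24
  by_cases c25 : r < 8120
  · exact allRange_spec e8Cneg_10_8100 r (by omega) c25
  by_cases c26 : r < 8140
  · exact allRange_spec e8Cneg_10_8120 r (by omega) c26
  by_cases c27 : r < 8160
  · exact allRange_spec e8Cneg_10_8140 r (by omega) c27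
  by_cases c28 : r < 8180
  · exact allRange_spec e8Cneg_10_8160 r (by omega) c28
  by_cases c29 : r < 8200
  · exact allRange_spec e8Cneg_10_8180 r (by omega) c29
  by_cases c30 : r < 8220
  · exact allRange_spec e8Cneg_10_8200 r (by omega) c30
  by_cases c31 : r < 8240
  · exact allRange_spec e8Cneg_10_8220 r (by omega) c31
  by_cases c32 : r < 8260
  · exact allRange_spec e8Cneg_10_8240 r (by omega) c32
  by_cases c33 : r < 8280
  · exact allRange_spec e8Cneg_10_8260 r (by omega) c33
  by_cases c34 : r < 8300
  · exact allRange_spec e8Cneg_10_8280 r (by omega) c34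
  by_cases c35 : r < 8320
  · exact allRange_spec e8Cneg_10_8300 r (by omega) c35
  by_cases c36 : r < 8340
  · exact allRange_spec e8Cneg_10_8320 r (by omega) c36
  exact allRange_spec e8Cneg_10_8340 r (by omega) h2

end Cfsg.Agent.Lib.Helper3.ChevM
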