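import Cfsg.Prelude.Def_ChevE8
import Cfsg.Agent.Lib.Helper3.StB5
set_option autoImplicit false
set_option maxRecDepth 1000000
set_option Elab.async false

namespace Cfsg.Agent.Lib.Helper3.ChevM
open Cfsg.Agent.Lib.Helper3.StB

theorem e8Cneg_21_15960 : allRange 15960 15980 ((fun k => commNegCheck Cfsg.Lie.chevE8 (k / 240) (k % 240))) = true := by decide +kernel
theorem e8Cneg_21_15980 : allRange 15980 16000 ((fun k => commNegCheck Cfsg.Lie.chevE8 (k / 240) (k % 240))) = true := by decide +kernel
theorem e8Cneg_21_16000 : allRange 16000 16020 ((fun k => commNegCheck Cfsg.Lie.chevE8 (k / 240) (k % 240))) = true := by decide +kernel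
theorem e8Cneg_21_16020 : allRange 16020 16040 ((fun k => commNegCheck Cfsg.Lie.chevE8 (k / 240) (k % 240))) = true := by decide +kernel
theorem e8Cneg_21_16040 : allRange 16040 16060 ((fun k => commNegCheck Cfsg.Lie.chevE8 (k / 240) (k % 240))) = true := by decide +kernel
theorem e8Cneg_21_16060 : allRange 16060 16080 ((fun k => commNegCheck Cfsg.Lie.chevE8 (k / 240) (k % 240))) = true := by decide +kernel
theorem e8Cneg_21_16080 : allRange 16080 16100 ((fun k => commNegCheck Cfsg.Lie.chevE8 (k / 240) (k % 240))) = true := by decide +kernel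
theorem e8Cneg_21_16100 : allRange 16100 16120 ((fun k => commNegCheck Cfsg.Lie.chevE8 (k / 240) (k % 240))) = true := by decide +kernel
theorem e8Cneg_21_16120 : allRange 16120 16140 ((fun k => commNegCheck Cfsg.Lie.chevE8 (k / 240) (k % 240))) = true := by decide +kernel
theorem e8Cneg_21_16140 : allRange 16140 16160 ((fun k => commNegCheck Cfsg.Lie.chevE8 (k / 240) (k % 240))) = true := by decide +kernel
theorem e8Cneg_21_16160 : allRange 16160 16180 ((fun k => commNegCheck Cfsg.Lie.chevE8 (k / 240) (k % 240))) = true := by decide +kernel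
theorem e8Cneg_21_16180 : allRange 16180 16200 ((fun k => commNegCheck Cfsg.Lie.chevE8 (k / 240) (k % 240))) = true := by decide +kernel
theorem e8Cneg_21_16200 : allRange 16200 16220 ((fun k => commNegCheck Cfsg.Lie.chevE8 (k / 240) (k % 240))) = true := by decide +kernel
theorem e8Cneg_21_16220 : allRange 16220 16240 ((fun k => commNegCheck Cfsg.Lie.chevE8 (k / 240) (k % 240))) = true := by decide +kernel
theorem e8Cneg_21_16240 : allRange 16240 16260 ((fun k => commNegCheck Cfsg.Lie.chevE8 (k / 240) (k % 240))) = true := by decide +kernel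
theorem e8Cneg_21_16260 : allRange 16260 16280 ((fun k => commNegCheck Cfsg.Lie.chevE8 (k / 240) (k % 240))) = true := by decide +kernel
theorem e8Cneg_21_16280 : allRange 16280 16300 ((fun k => commNegCheck Cfsg.Lie.chevE8 (k / 240) (k % 240))) = true := by decide +kernel
theorem e8Cneg_21_16300 : allRange 16300 16320 ((fun k => commNegCheck Cfsg.Lie.chevE8 (k / 240) (k % 240))) = true := by decide +kernel
theorem e8Cneg_21_16320 : allRange 16320 16340 ((fun k => commNegCheck Cfsg.Lie.chevE8 (k / 240) (k % 240))) = true := by decide +kernel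
theorem e8Cneg_21_16340 : allRange 16340 16360 ((fun k => commNegCheck Cfsg.Lie.chevE8 (k / 240) (k % 240))) = true := by decide +kernel
theorem e8Cneg_21_16360 : allRange 16360 16380 ((fun k => commNegCheck Cfsg.Lie.chevE8 (k / 240) (k % 240))) = true := by decide +kernel
theorem e8Cneg_21_16380 : allRange 16380 16400 ((fun k => commNegCheck Cfsg.Lie.chevE8 (k / 240) (k % 240))) = true := by decide +kernel
theorem e8Cneg_21_16400 : allRange 16400 16420 ((fun k => commNegCheck Cfsg.Lie.chevE8 (k / 240) (k % 240))) = true := by decide +kernel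
theorem e8Cneg_21_16420 : allRange 16420 16440 ((fun k => commNegCheck Cfsg.Lie.chevE8 (k / 240) (k % 240))) = true := by decide +kernel
theorem e8Cneg_21_16440 : allRange 16440 16460 ((fun k => commNegCheck Cfsg.Lie.chevE8 (k / 240) (k % 240))) = true := by decide +kernel
theorem e8Cneg_21_16460 : allRange 16460 16480 ((fun k => commNegCheck Cfsg.Lie.chevE8 (k / 240) (k % 240))) = true := by decide +kernel
theorem e8Cneg_21_16480 : allRange 16480 16500 ((fun k => commNegCheck Cfsg.Lie.chevE8 (k / 240) (k % 240))) = true := by decide +kernel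
theorem e8Cneg_21_16500 : allRange 16500 16520 ((fun k => commNegCheck Cfsg.Lie.chevE8 (k / 240) (k % 240))) = true := by decide +kernel
theorem e8Cneg_21_16520 : allRange 16520 16540 ((fun k => commNegCheck Cfsg.Lie.chevE8 (k / 240) (k % 240))) = true := by decide +kernel
theorem e8Cneg_21_16540 : allRange 16540 16560 ((fun k => commNegCheck Cfsg.Lie.chevE8 (k / 240) (k % 240))) = true := by decide +kernel
theorem e8Cneg_21_16560 : allRange 16560 16580 ((fun k => commNegCheck Cfsg.Lie.chevE8 (k / 240) (k % 240))) = true := by decide +kernel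
theorem e8Cneg_21_16580 : allRange 16580 16600 ((fun k => commNegCheck Cfsg.Lie.chevE8 (k / 240) (k % 240))) = true := by decide +kernel
theorem e8Cneg_21_16600 : allRange 16600 16620 ((fun k => commNegCheck Cfsg.Lie.chevE8 (k / 240) (k % 240))) = true := by decide +kernel
theorem e8Cneg_21_16620 : allRange 16620 16640 ((fun k => commNegCheck Cfsg.Lie.chevE8 (k / 240) (k % 240))) = true := by decide +kernel
theorem e8Cneg_21_16640 : allRange 16640 16660 ((fun k => commNegCheck Cfsg.Lie.chevE8 (k / 240) (k % 240))) = true := by decide +kernel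
theorem e8Cneg_21_16660 : allRange 16660 16680 ((fun k => commNegCheck Cfsg.Lie.chevE8 (k / 240) (k % 240))) = true := by decide +kernel
theorem e8Cneg_21_16680 : allRange 16680 16700 ((fun k => commNegCheck Cfsg.Lie.chevE8 (k / 240) (k % 240))) = true := by decide +kernel
theorem e8Cneg_21_16700 : allRange 16700 16720 ((fun k => commNegCheck Cfsg.Lie.chevE8 (k / 240) (k % 240))) = true := by decide +kernel

/-- The commutator formula of type E8 for opposite roots (roots 15960 to 16719). -/
theorem e8Cneg_21 : ∀ r, 15960 ≤ r → r < 16720 → ((fun k => commNegCheck Cfsg.Lie.chevE8 (k / 240) (k % 240))) r = true := by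
  intro r h1 h2
  by_cases c0 : r < 15980
  · exact allRange_spec e8Cneg_21_15960 r (by omega) c0
  by_cases c1 : r < 16000
  · exact allRange_spec e8Cneg_21_15980 r (by omega) c1
  by_cases c2 : r < 16020
  · exact allRange_spec e8Cneg_21_16000 r (by omega) c2
  by_cases c3 : r < 16040
  · exact allRange_spec e8Cneg_21_16020 r (by omega) c3
  by_cases c4 : r < 16060
  · exact allRange_spec e8Cneg_21_16040 r (by omega) c4
  by_cases c5 : r < 16080
  · exact allRange_spec e8Cneg_21_16060 r (by omega) c5
  by_cases c6 : r < 16100
  · exact allRange_spec e8Cneg_21_16080 r (by omega) c6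
  by_cases c7 : r < 16120
  · exact allRange_spec e8Cneg_21_16100 r (by omega) c7
  by_cases c8 : r < 16140
  · exact allRange_spec e8Cneg_21_16120 r (by omega) c8
  by_cases c9 : r < 16160
  · exact allRange_spec e8Cneg_21_16140 r (by omega) c9
  by_cases c10 : r < 16180
  · exact allRange_spec e8Cneg_21_16160 r (by omega) c10
  by_cases c11 : r < 16200
  · exact allRange_spec e8Cneg_21_16180 r (by omega) c11
  by_cases c12 : r < 16220
  · exact allRange_spec e8Cneg_21_16200 r (by omega) c12
  by_cases c13 : r < 16240
  · exact allRange_spec e8Cneg_21_16220 r (by omega) c13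
  by_cases c14 : r < 16260
  · exact allRange_spec e8Cneg_21_16240 r (by omega) c14
  by_cases c15 : r < 16280
  · exact allRange_spec e8Cneg_21_16260 r (by omega) c15
  by_cases c16 : r < 16300
  · exact allRange_spec e8Cneg_21_16280 r (by omega) c16
  by_cases c17 : r < 16320
  · exact allRange_spec e8Cneg_21_16300 r (by omega) c17
  by_cases c18 : r < 16340
  · exact allRange_spec e8Cneg_21_16320 r (by omega) c18
  by_cases c19 : r < 16360
  · exact allRange_spec e8Cneg_21_16340 r (by omega) c19
  by_cases c20 : r < 16380
  · exact allRange_spec e8Cneg_21_16360 r (by omega) c20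
  by_cases c21 : r < 16400
  · exact allRange_spec e8Cneg_21_16380 r (by omega) c21
  by_cases c22 : r < 16420
  · exact allRange_spec e8Cneg_21_16400 r (by omega) c22
  by_cases c23 : r < 16440
  · exact allRange_spec e8Cneg_21_16420 r (by omega) c23
  by_cases c24 : r < 16460
  · exact allRange_spec e8Cneg_21_16440 r (by omega) c24
  by_cases c25 : r < 16480
  · exact allRange_spec e8Cneg_21_16460 r (by omega) c25
  by_cases c26 : r < 16500
  · exact allRange_spec e8Cneg_21_16480 r (by omega) c26
  by_cases c27 : r < 16520
  · exact allRange_spec e8Cneg_21_16500 r (by omega) c27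
  by_cases c28 : r < 16540
  · exact allRange_spec e8Cneg_21_16520 r (by omega) c28
  by_cases c29 : r < 16560
  · exact allRange_spec e8Cneg_21_16540 r (by omega) c29
  by_cases c30 : r < 16580
  · exact allRange_spec e8Cneg_21_16560 r (by omega) c30
  by_cases c31 : r < 16600
  · exact allRange_spec e8Cneg_21_16580 r (by omega) c31
  by_cases c32 : r < 16620
  · exact allRange_spec e8Cneg_21_16600 r (by omega) c32
  by_cases c33 : r < 16640
  · exact allRange_spec e8Cneg_21_16620 r (by omega) c33
  by_cases c34 : r < 16660
  · exact allRange_spec e8Cneg_21_16640 r (by omega) c34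
  by_cases c35 : r < 16680
  · exact allRange_spec e8Cneg_21_16660 r (by omega) c35
  by_cases c36 : r < 16700
  · exact allRange_spec e8Cneg_21_16680 r (by omega) c36
  exact allRange_spec e8Cneg_21_16700 r (by omega) h2

end Cfsg.Agent.Lib.Helper3.ChevM
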