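import Cfsg.Agent.Lib.Helper3.ChevM2
set_option autoImplicit false
set_option maxRecDepth 100000

namespace Cfsg.Agent.Lib.Helper3.ChevM

/-- Compiled columns of `x_30` for type E8. -/
def colsE8_30 (c : ℕ) : List CEnt :=
  cond (Nat.blt c 159) (cond (Nat.blt c 109) (cond (Nat.blt c 46) (cond (Nat.blt c 4) (cond (Nat.blt c 2) (cond (Nat.blt c 1) (cond (Nat.beq c 0) [⟨38, 0, 1⟩] []) (cond (Nat.beq c 1) [⟨38, 1, 1⟩] [])) (cond (Nat.blt c 3) (cond (Nat.beq c 2) [⟨38, 0, 1⟩] []) (cond (Nat.beq c 3) [⟨38, 0, 1⟩] []))) (cond (Nat.blt c 6) (cond (Nat.blt c 5) (cond (Nat.beq c 4) [⟨38, -1, 1⟩] []) (cond (Nat.beq c 5) [⟨38, 0, 1⟩] [])) (cond (Nat.blt c 7) (cond (Nat.beq c 6) [⟨38, 1, 1⟩] []) (cond (Nat.beq c 7) [⟨38, 0, 1⟩] [])))) (cond (Nat.blt c 69) (cond (Nat.blt c 53) (cond (Nat.blt c 47) (cond (Nat.beq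 c 46) [⟨8, -1, 1⟩] []) (cond (Nat.beq c 47) [⟨9, -1, 1⟩] [])) (cond (Nat.blt c 59) (cond (Nat.beq c 53) [⟨12, -1, 1⟩] []) (cond (Nat.beq c 59) [⟨13, -1, 1⟩] []))) (cond (Nat.blt c 82) (cond (Nat.blt c 81) (cond (Nat.beq c 69) [⟨14, -1, 1⟩] []) (cond (Nat.beq c 81) [⟨18, -1, 1⟩] [])) (cond (Nat.blt c 91) (cond (Nat.beq c 82) [⟨19, -1, 1⟩] []) (cond (Nat.beq c 91) [⟨22, 1, 1⟩] []))))) (cond (Nat.blt c 132) (cond (Nat.blt c 120) (cond (Nat.blt c 115) (cond (Nat.blt c 110) (cond (Nat.beq c 109) [⟨25, 1, 1⟩] []) (cond (Nat.beq c 110) [⟨26, 1, 1⟩] [])) (cond (Nat.blt c 116) (cond (Nat.beq c 115) [⟨30, -1, 1⟩] []) (cond (Nat.beq c 116) [⟨31, -1, 1⟩] []))) (cond (Nat.blt c 129) (cond (Nat.blt c 121) (cond (Nat.beq c 120) [⟨34, 1, 1⟩] []) (cond (Nat.beq c 121) [⟨35, 1, 1⟩] [])) (cond (Nat.blt c 130) (cond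 (Nat.beq c 129) [⟨39, 1, 1⟩] []) (cond (Nat.beq c 130) [⟨40, -1, 1⟩] [])))) (cond (Nat.blt c 153) (cond (Nat.blt c 149) (cond (Nat.blt c 133) (cond (Nat.beq c 132) [⟨41, 1, 1⟩] []) (cond (Nat.beq c 133) [⟨42, -1, 1⟩] [])) (cond (Nat.blt c 150) (cond (Nat.beq c 149) [⟨48, 1, 1⟩] []) (cond (Nat.beq c 150) [⟨54, -1, 1⟩] []))) (cond (Nat.blt c 155) (cond (Nat.blt c 154) (cond (Nat.beq c 153) [⟨60, 1, 1⟩] []) (cond (Nat.beq c 154) [⟨61, -1, 1⟩] [])) (cond (Nat.blt c 158) (cond (Nat.beq c 155) [⟨64, 1, 1⟩] []) (cond (Nat.beq c 158) [⟨70, -1, 1⟩] [])))))) (cond (Nat.blt c 215) (cond (Nat.blt c 185) (cond (Nat.blt c 177) (cond (Nat.blt c 163) (cond (Nat.blt c 162) (cond (Nat.beq c 159) [⟨71, 1, 1⟩] []) (cond (Nat.beq c 162) [⟨74, 1, 1⟩] [])) (cond (Nat.blt c 169) (cond (Nat.beq c 163) [⟨75, -1, 1⟩] [])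 (cond (Nat.beq c 169) [⟨78, 1, 1⟩] []))) (cond (Nat.blt c 181) (cond (Nat.blt c 180) (cond (Nat.beq c 177) [⟨86, -1, 1⟩] []) (cond (Nat.beq c 180) [⟨92, 1, 1⟩] [])) (cond (Nat.blt c 184) (cond (Nat.beq c 181) [⟨93, -1, 1⟩] []) (cond (Nat.beq c 184) [⟨96, -1, 1⟩] [])))) (cond (Nat.blt c 201) (cond (Nat.blt c 194) (cond (Nat.blt c 191) (cond (Nat.beq c 185) [⟨97, 1, 1⟩] []) (cond (Nat.beq c 191) [⟨100, -1, 1⟩] [])) (cond (Nat.blt c 195) (cond (Nat.beq c 194) [⟨101, 1, 1⟩] []) (cond (Nat.beq c 195) [⟨102, -1, 1⟩] []))) (cond (Nat.blt c 213) (cond (Nat.blt c 207) (cond (Nat.beq c 201) [⟨105, 1, 1⟩] []) (cond (Nat.beq c 207) [⟨106, -1, 1⟩] [])) (cond (Nat.blt c 214) (cond (Nat.beq c 213) [⟨122, 1, 1⟩] []) (cond (Nat.beq c 214) [⟨123, -1, 1⟩] []))))) (cond (Nat.blt c 230) (cond (Nat.blt c 221) (cond (Nat.blt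 c 217) (cond (Nat.blt c 216) (cond (Nat.beq c 215) [⟨125, 1, 1⟩] []) (cond (Nat.beq c 216) [⟨126, -1, 1⟩] [])) (cond (Nat.blt c 220) (cond (Nat.beq c 217) [⟨38, -1, 2⟩, ⟨0, -1, 1⟩, ⟨1, -2, 1⟩, ⟨2, -2, 1⟩, ⟨3, -3, 1⟩, ⟨4, -2, 1⟩, ⟨5, -2, 1⟩, ⟨6, -2, 1⟩, ⟨7, -1, 1⟩] []) (cond (Nat.beq c 220) [⟨134, -1, 1⟩] []))) (cond (Nat.blt c 225) (cond (Nat.blt c 224) (cond (Nat.beq c 221) [⟨135, -1, 1⟩] []) (cond (Nat.beq c 224) [⟨139, 1, 1⟩] [])) (cond (Nat.blt c 229) (cond (Nat.beq c 225) [⟨140, 1, 1⟩] []) (cond (Nat.beq c 229) [⟨145, -1, 1⟩] [])))) (cond (Nat.blt c 241) (cond (Nat.blt c 236) (cond (Nat.blt c 233) (cond (Nat.beq c 230) [⟨146, -1, 1⟩] []) (cond (Nat.beq c 233) [⟨164, -1, 1⟩] [])) (cond (Nat.blt c 237) (cond (Nat.beq c 236) [⟨173, 1, 1⟩] []) (cond (Nat.beq c 237) [⟨174, 1, 1⟩] []))) (cond (Nat.blt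 c 243) (cond (Nat.blt c 242) (cond (Nat.beq c 241) [⟨186, 1, 1⟩] []) (cond (Nat.beq c 242) [⟨196, 1, 1⟩] [])) (cond (Nat.blt c 246) (cond (Nat.beq c 243) [⟨202, 1, 1⟩] []) (cond (Nat.blt c 247) (cond (Nat.beq c 246) [⟨208, 1, 1⟩] []) (cond (Nat.beq c 247) [⟨209, 1, 1⟩] [])))))))

/-- Compiled columns of `x_31` for type E8. -/
def colsE8_31 (c : ℕ) : List CEnt :=
  cond (Nat.blt c 159) (cond (Nat.blt c 108) (cond (Nat.blt c 45) (cond (Nat.blt c 4) (cond (Nat.blt c 2) (cond (Nat.blt c 1) (cond (Nat.beq c 0) [⟨39, 0, 1⟩] []) (cond (Nat.beq c 1) [⟨39, 1, 1⟩] [])) (cond (Nat.blt c 3) (cond (Nat.beq c 2) [⟨39, 0, 1⟩] []) (cond (Nat.beq c 3) [⟨39, 0, 1⟩] []))) (cond (Nat.blt c 6) (cond (Nat.blt c 5) (cond (Nat.beq c 4) [⟨39, -1, 1⟩] []) (cond (Nat.beq c 5) [⟨39, 1, 1⟩] [])) (cond (Nat.blt c 7) (cond (Nat.beq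 c 6) [⟨39, -1, 1⟩] []) (cond (Nat.beq c 7) [⟨39, 1, 1⟩] [])))) (cond (Nat.blt c 68) (cond (Nat.blt c 52) (cond (Nat.blt c 47) (cond (Nat.beq c 45) [⟨8, 1, 1⟩] []) (cond (Nat.beq c 47) [⟨10, -1, 1⟩] [])) (cond (Nat.blt c 58) (cond (Nat.beq c 52) [⟨12, 1, 1⟩] []) (cond (Nat.beq c 58) [⟨13, 1, 1⟩] []))) (cond (Nat.blt c 82) (cond (Nat.blt c 80) (cond (Nat.beq c 68) [⟨14, 1, 1⟩] []) (cond (Nat.beq c 80) [⟨18, 1, 1⟩] [])) (cond (Nat.blt c 90) (cond (Nat.beq c 82) [⟨20, -1, 1⟩] []) (cond (Nat.beq c 90) [⟨22, -1, 1⟩] []))))) (cond (Nat.blt c 131) (cond (Nat.blt c 119) (cond (Nat.blt c 114) (cond (Nat.blt c 110) (cond (Nat.beq c 108) [⟨25, -1, 1⟩] []) (cond (Nat.beq c 110) [⟨27, 1, 1⟩] [])) (cond (Nat.blt c 116) (cond (Nat.beq c 114) [⟨30, 1, 1⟩] []) (cond (Nat.beq c 116) [⟨32, -1, 1⟩] []))) (cond (Nat.blt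 c 126) (cond (Nat.blt c 121) (cond (Nat.beq c 119) [⟨34, -1, 1⟩] []) (cond (Nat.beq c 121) [⟨36, 1, 1⟩] [])) (cond (Nat.blt c 128) (cond (Nat.beq c 126) [⟨38, 1, 1⟩] []) (cond (Nat.beq c 128) [⟨40, 1, 1⟩] [])))) (cond (Nat.blt c 152) (cond (Nat.blt c 149) (cond (Nat.blt c 133) (cond (Nat.beq c 131) [⟨41, 1, 1⟩] []) (cond (Nat.beq c 133) [⟨43, -1, 1⟩] [])) (cond (Nat.blt c 150) (cond (Nat.beq c 149) [⟨49, 1, 1⟩] []) (cond (Nat.beq c 150) [⟨55, -1, 1⟩] []))) (cond (Nat.blt c 155) (cond (Nat.blt c 154) (cond (Nat.beq c 152) [⟨60, 1, 1⟩] []) (cond (Nat.beq c 154) [⟨62, -1, 1⟩] [])) (cond (Nat.blt c 157) (cond (Nat.beq c 155) [⟨65, 1, 1⟩] []) (cond (Nat.beq c 157) [⟨70, -1, 1⟩] [])))))) (cond (Nat.blt c 215) (cond (Nat.blt c 185) (cond (Nat.blt c 177) (cond (Nat.blt c 163) (cond (Nat.blt c 161) (cond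 (Nat.beq c 159) [⟨72, 1, 1⟩] []) (cond (Nat.beq c 161) [⟨74, 1, 1⟩] [])) (cond (Nat.blt c 168) (cond (Nat.beq c 163) [⟨76, -1, 1⟩] []) (cond (Nat.beq c 168) [⟨78, 1, 1⟩] []))) (cond (Nat.blt c 181) (cond (Nat.blt c 179) (cond (Nat.beq c 177) [⟨87, -1, 1⟩] []) (cond (Nat.beq c 179) [⟨92, 1, 1⟩] [])) (cond (Nat.blt c 183) (cond (Nat.beq c 181) [⟨94, -1, 1⟩] []) (cond (Nat.beq c 183) [⟨96, -1, 1⟩] [])))) (cond (Nat.blt c 200) (cond (Nat.blt c 193) (cond (Nat.blt c 190) (cond (Nat.beq c 185) [⟨98, 1, 1⟩] []) (cond (Nat.beq c 190) [⟨100, -1, 1⟩] [])) (cond (Nat.blt c 195) (cond (Nat.beq c 193) [⟨101, 1, 1⟩] []) (cond (Nat.beq c 195) [⟨103, -1, 1⟩] []))) (cond (Nat.blt c 212) (cond (Nat.blt c 206) (cond (Nat.beq c 200) [⟨105, 1, 1⟩] []) (cond (Nat.beq c 206) [⟨106, -1, 1⟩] [])) (cond (Nat.blt c 214) (cond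 (Nat.beq c 212) [⟨122, 1, 1⟩] []) (cond (Nat.beq c 214) [⟨124, -1, 1⟩] []))))) (cond (Nat.blt c 230) (cond (Nat.blt c 221) (cond (Nat.blt c 217) (cond (Nat.blt c 216) (cond (Nat.beq c 215) [⟨127, -1, 1⟩] []) (cond (Nat.beq c 216) [⟨39, -1, 2⟩, ⟨0, -1, 1⟩, ⟨1, -2, 1⟩, ⟨2, -2, 1⟩, ⟨3, -3, 1⟩, ⟨4, -2, 1⟩, ⟨5, -2, 1⟩, ⟨6, -1, 1⟩, ⟨7, -1, 1⟩] [])) (cond (Nat.blt c 219) (cond (Nat.beq c 217) [⟨129, -1, 1⟩] []) (cond (Nat.beq c 219) [⟨134, -1, 1⟩] []))) (cond (Nat.blt c 225) (cond (Nat.blt c 223) (cond (Nat.beq c 221) [⟨136, 1, 1⟩] []) (cond (Nat.beq c 223) [⟨139, 1, 1⟩] [])) (cond (Nat.blt c 228) (cond (Nat.beq c 225) [⟨141, -1, 1⟩] []) (cond (Nat.beq c 228) [⟨145, -1, 1⟩] [])))) (cond (Nat.blt c 241) (cond (Nat.blt c 235) (cond (Nat.blt c 233) (cond (Nat.beq c 230) [⟨147, 1, 1⟩] []) (cond (Nat.beq c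 233) [⟨165, 1, 1⟩] [])) (cond (Nat.blt c 237) (cond (Nat.beq c 235) [⟨173, 1, 1⟩] []) (cond (Nat.beq c 237) [⟨175, -1, 1⟩] []))) (cond (Nat.blt c 243) (cond (Nat.blt c 242) (cond (Nat.beq c 241) [⟨187, -1, 1⟩] []) (cond (Nat.beq c 242) [⟨197, -1, 1⟩] [])) (cond (Nat.blt c 245) (cond (Nat.beq c 243) [⟨203, -1, 1⟩] []) (cond (Nat.blt c 247) (cond (Nat.beq c 245) [⟨208, 1, 1⟩] []) (cond (Nat.beq c 247) [⟨210, -1, 1⟩] [])))))))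

/-- Compiled columns of `x_32` for type E8. -/
def colsE8_32 (c : ℕ) : List CEnt :=
  cond (Nat.blt c 158) (cond (Nat.blt c 107) (cond (Nat.blt c 45) (cond (Nat.blt c 4) (cond (Nat.blt c 2) (cond (Nat.blt c 1) (cond (Nat.beq c 0) [⟨40, 0, 1⟩] []) (cond (Nat.beq c 1) [⟨40, 1, 1⟩] [])) (cond (Nat.blt c 3) (cond (Nat.beq c 2) [⟨40, 0, 1⟩] []) (cond (Nat.beq c 3) [⟨40, 0, 1⟩] []))) (cond (Nat.blt c 6) (cond (Nat.blt c 5) (cond (Nat.beq c 4) [⟨40, -1, 1⟩] []) (cond (Nat.beq c 5) [⟨40, 1, 1⟩] [])) (cond (Nat.blt c 7) (cond (Nat.beq c 6) [⟨40, 0, 1⟩] []) (cond (Nat.beq c 7) [⟨40, -1, 1⟩] [])))) (cond (Nat.blt c 67) (cond (Nat.blt c 51) (cond (Nat.blt c 46) (cond (Nat.beq c 45) [⟨9, 1, 1⟩] []) (cond (Nat.beq c 46) [⟨10, 1, 1⟩] [])) (cond (Nat.blt c 57) (cond (Nat.beq c 51) [⟨12, -1, 1⟩] []) (cond (Nat.beq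 c 57) [⟨13, -1, 1⟩] []))) (cond (Nat.blt c 82) (cond (Nat.blt c 79) (cond (Nat.beq c 67) [⟨14, -1, 1⟩] []) (cond (Nat.beq c 79) [⟨18, -1, 1⟩] [])) (cond (Nat.blt c 89) (cond (Nat.beq c 82) [⟨21, -1, 1⟩] []) (cond (Nat.beq c 89) [⟨22, 1, 1⟩] []))))) (cond (Nat.blt c 131) (cond (Nat.blt c 118) (cond (Nat.blt c 113) (cond (Nat.blt c 110) (cond (Nat.beq c 107) [⟨25, 1, 1⟩] []) (cond (Nat.beq c 110) [⟨28, 1, 1⟩] [])) (cond (Nat.blt c 116) (cond (Nat.beq c 113) [⟨30, -1, 1⟩] []) (cond (Nat.beq c 116) [⟨33, -1, 1⟩] []))) (cond (Nat.blt c 125) (cond (Nat.blt c 121) (cond (Nat.beq c 118) [⟨34, 1, 1⟩] []) (cond (Nat.beq c 121) [⟨37, 1, 1⟩] [])) (cond (Nat.blt c 127) (cond (Nat.beq c 125) [⟨38, -1, 1⟩] []) (cond (Nat.beq c 127) [⟨39, 1, 1⟩] [])))) (cond (Nat.blt c 152) (cond (Nat.blt c 149) (cond (Nat.blt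 c 132) (cond (Nat.beq c 131) [⟨42, 1, 1⟩] []) (cond (Nat.beq c 132) [⟨43, -1, 1⟩] [])) (cond (Nat.blt c 150) (cond (Nat.beq c 149) [⟨50, 1, 1⟩] []) (cond (Nat.beq c 150) [⟨56, -1, 1⟩] []))) (cond (Nat.blt c 155) (cond (Nat.blt c 153) (cond (Nat.beq c 152) [⟨61, 1, 1⟩] []) (cond (Nat.beq c 153) [⟨62, -1, 1⟩] [])) (cond (Nat.blt c 157) (cond (Nat.beq c 155) [⟨66, 1, 1⟩] []) (cond (Nat.beq c 157) [⟨71, -1, 1⟩] [])))))) (cond (Nat.blt c 215) (cond (Nat.blt c 184) (cond (Nat.blt c 177) (cond (Nat.blt c 162) (cond (Nat.blt c 161) (cond (Nat.beq c 158) [⟨72, 1, 1⟩] []) (cond (Nat.beq c 161) [⟨75, 1, 1⟩] [])) (cond (Nat.blt c 167) (cond (Nat.beq c 162) [⟨76, -1, 1⟩] []) (cond (Nat.beq c 167) [⟨78, 1, 1⟩] []))) (cond (Nat.blt c 180) (cond (Nat.blt c 179) (cond (Nat.beq c 177) [⟨88, -1, 1⟩] []) (cond (Nat.beq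 c 179) [⟨93, 1, 1⟩] [])) (cond (Nat.blt c 183) (cond (Nat.beq c 180) [⟨94, -1, 1⟩] []) (cond (Nat.beq c 183) [⟨97, -1, 1⟩] [])))) (cond (Nat.blt c 199) (cond (Nat.blt c 193) (cond (Nat.blt c 189) (cond (Nat.beq c 184) [⟨98, 1, 1⟩] []) (cond (Nat.beq c 189) [⟨100, -1, 1⟩] [])) (cond (Nat.blt c 194) (cond (Nat.beq c 193) [⟨102, 1, 1⟩] []) (cond (Nat.beq c 194) [⟨103, -1, 1⟩] []))) (cond (Nat.blt c 212) (cond (Nat.blt c 205) (cond (Nat.beq c 199) [⟨105, 1, 1⟩] []) (cond (Nat.beq c 205) [⟨106, -1, 1⟩] [])) (cond (Nat.blt c 213) (cond (Nat.beq c 212) [⟨123, 1, 1⟩] []) (cond (Nat.beq c 213) [⟨124, -1, 1⟩] []))))) (cond (Nat.blt c 230) (cond (Nat.blt c 221) (cond (Nat.blt c 217) (cond (Nat.blt c 216) (cond (Nat.beq c 215) [⟨40, -1, 2⟩, ⟨0, -1, 1⟩, ⟨1, -2, 1⟩, ⟨2, -2, 1⟩, ⟨3, -3, 1⟩, ⟨4, -2, 1⟩, ⟨5, -2,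 1⟩, ⟨6, -1, 1⟩, ⟨7, 0, 1⟩] []) (cond (Nat.beq c 216) [⟨128, -1, 1⟩] [])) (cond (Nat.blt c 218) (cond (Nat.beq c 217) [⟨130, 1, 1⟩] []) (cond (Nat.beq c 218) [⟨134, -1, 1⟩] []))) (cond (Nat.blt c 225) (cond (Nat.blt c 222) (cond (Nat.beq c 221) [⟨137, -1, 1⟩] []) (cond (Nat.beq c 222) [⟨139, 1, 1⟩] [])) (cond (Nat.blt c 227) (cond (Nat.beq c 225) [⟨142, 1, 1⟩] []) (cond (Nat.beq c 227) [⟨145, -1, 1⟩] [])))) (cond (Nat.blt c 241) (cond (Nat.blt c 234) (cond (Nat.blt c 233) (cond (Nat.beq c 230) [⟨148, -1, 1⟩] []) (cond (Nat.beq c 233) [⟨166, -1, 1⟩] [])) (cond (Nat.blt c 237) (cond (Nat.beq c 234) [⟨173, 1, 1⟩] []) (cond (Nat.beq c 237) [⟨176, 1, 1⟩] []))) (cond (Nat.blt c 243) (cond (Nat.blt c 242) (cond (Nat.beq c 241) [⟨188, 1, 1⟩] []) (cond (Nat.beq c 242) [⟨198, 1, 1⟩] [])) (cond (Nat.blt c 245)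 (cond (Nat.beq c 243) [⟨204, 1, 1⟩] []) (cond (Nat.blt c 246) (cond (Nat.beq c 245) [⟨209, -1, 1⟩] []) (cond (Nat.beq c 246) [⟨210, -1, 1⟩] [])))))))

/-- Compiled columns of `x_33` for type E8. -/
def colsE8_33 (c : ℕ) : List CEnt :=
  cond (Nat.blt c 159) (cond (Nat.blt c 108) (cond (Nat.blt c 44) (cond (Nat.blt c 4) (cond (Nat.blt c 2) (cond (Nat.blt c 1) (cond (Nat.beq c 0) [⟨41, 0, 1⟩] []) (cond (Nat.beq c 1) [⟨41, 1, 1⟩] [])) (cond (Nat.blt c 3) (cond (Nat.beq c 2) [⟨41, 0, 1⟩] []) (cond (Nat.beq c 3) [⟨41, 0, 1⟩] []))) (cond (Nat.blt c 6) (cond (Nat.blt c 5) (cond (Nat.beq c 4) [⟨41, 0, 1⟩] []) (cond (Nat.beq c 5) [⟨41, -1, 1⟩] [])) (cond (Nat.blt c 7) (cond (Nat.beq c 6) [⟨41, 0, 1⟩] []) (cond (Nat.beq c 7) [⟨41, 1, 1⟩] [])))) (cond (Nat.blt c 66) (cond (Nat.blt c 50) (cond (Nat.blt c 47)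 (cond (Nat.beq c 44) [⟨8, -1, 1⟩] []) (cond (Nat.beq c 47) [⟨11, -1, 1⟩] [])) (cond (Nat.blt c 56) (cond (Nat.beq c 50) [⟨12, -1, 1⟩] []) (cond (Nat.beq c 56) [⟨13, -1, 1⟩] []))) (cond (Nat.blt c 81) (cond (Nat.blt c 80) (cond (Nat.beq c 66) [⟨14, -1, 1⟩] []) (cond (Nat.beq c 80) [⟨19, 1, 1⟩] [])) (cond (Nat.blt c 88) (cond (Nat.beq c 81) [⟨20, 1, 1⟩] []) (cond (Nat.beq c 88) [⟨22, 1, 1⟩] []))))) (cond (Nat.blt c 128) (cond (Nat.blt c 119) (cond (Nat.blt c 114) (cond (Nat.blt c 109) (cond (Nat.beq c 108) [⟨26, -1, 1⟩] []) (cond (Nat.beq c 109) [⟨27, -1, 1⟩] [])) (cond (Nat.blt c 115) (cond (Nat.beq c 114) [⟨31, 1, 1⟩] []) (cond (Nat.beq c 115) [⟨32, 1, 1⟩] []))) (cond (Nat.blt c 123) (cond (Nat.blt c 120) (cond (Nat.beq c 119) [⟨35, -1, 1⟩] []) (cond (Nat.beq c 120) [⟨36, -1, 1⟩] [])) (cond (Nat.blt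 c 124) (cond (Nat.beq c 123) [⟨38, 1, 1⟩] []) (cond (Nat.beq c 124) [⟨39, 1, 1⟩] [])))) (cond (Nat.blt c 151) (cond (Nat.blt c 149) (cond (Nat.blt c 130) (cond (Nat.beq c 128) [⟨42, 1, 1⟩] []) (cond (Nat.beq c 130) [⟨43, 1, 1⟩] [])) (cond (Nat.blt c 150) (cond (Nat.beq c 149) [⟨51, 1, 1⟩] []) (cond (Nat.beq c 150) [⟨57, -1, 1⟩] []))) (cond (Nat.blt c 155) (cond (Nat.blt c 154) (cond (Nat.beq c 151) [⟨60, 1, 1⟩] []) (cond (Nat.beq c 154) [⟨63, -1, 1⟩] [])) (cond (Nat.blt c 156) (cond (Nat.beq c 155) [⟨67, 1, 1⟩] []) (cond (Nat.beq c 156) [⟨70, -1, 1⟩] [])))))) (cond (Nat.blt c 214) (cond (Nat.blt c 185) (cond (Nat.blt c 177) (cond (Nat.blt c 163) (cond (Nat.blt c 160) (cond (Nat.beq c 159) [⟨73, 1, 1⟩] []) (cond (Nat.beq c 160) [⟨74, 1, 1⟩] [])) (cond (Nat.blt c 166) (cond (Nat.beq c 163) [⟨77, -1,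 1⟩] []) (cond (Nat.beq c 166) [⟨78, 1, 1⟩] []))) (cond (Nat.blt c 181) (cond (Nat.blt c 178) (cond (Nat.beq c 177) [⟨89, -1, 1⟩] []) (cond (Nat.beq c 178) [⟨92, 1, 1⟩] [])) (cond (Nat.blt c 182) (cond (Nat.beq c 181) [⟨95, -1, 1⟩] []) (cond (Nat.beq c 182) [⟨96, -1, 1⟩] [])))) (cond (Nat.blt c 198) (cond (Nat.blt c 192) (cond (Nat.blt c 188) (cond (Nat.beq c 185) [⟨99, 1, 1⟩] []) (cond (Nat.beq c 188) [⟨100, -1, 1⟩] [])) (cond (Nat.blt c 195) (cond (Nat.beq c 192) [⟨101, 1, 1⟩] []) (cond (Nat.beq c 195) [⟨104, -1, 1⟩] []))) (cond (Nat.blt c 212) (cond (Nat.blt c 204) (cond (Nat.beq c 198) [⟨105, 1, 1⟩] []) (cond (Nat.beq c 204) [⟨106, -1, 1⟩] [])) (cond (Nat.blt c 213) (cond (Nat.beq c 212) [⟨125, -1, 1⟩] []) (cond (Nat.beq c 213) [⟨127, -1, 1⟩] []))))) (cond (Nat.blt c 229) (cond (Nat.blt c 220)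 (cond (Nat.blt c 217) (cond (Nat.blt c 216) (cond (Nat.beq c 214) [⟨41, -1, 2⟩, ⟨0, -1, 1⟩, ⟨1, -2, 1⟩, ⟨2, -2, 1⟩, ⟨3, -3, 1⟩, ⟨4, -2, 1⟩, ⟨5, -1, 1⟩, ⟨6, -1, 1⟩, ⟨7, -1, 1⟩] []) (cond (Nat.beq c 216) [⟨131, -1, 1⟩] [])) (cond (Nat.blt c 219) (cond (Nat.beq c 217) [⟨132, -1, 1⟩] []) (cond (Nat.beq c 219) [⟨135, 1, 1⟩] []))) (cond (Nat.blt c 224) (cond (Nat.blt c 223) (cond (Nat.beq c 220) [⟨136, 1, 1⟩] []) (cond (Nat.beq c 223) [⟨140, -1, 1⟩] [])) (cond (Nat.blt c 228) (cond (Nat.beq c 224) [⟨141, -1, 1⟩] []) (cond (Nat.beq c 228) [⟨146, 1, 1⟩] [])))) (cond (Nat.blt c 241) (cond (Nat.blt c 235) (cond (Nat.blt c 233) (cond (Nat.beq c 229) [⟨147, 1, 1⟩] []) (cond (Nat.beq c 233) [⟨167, -1, 1⟩] [])) (cond (Nat.blt c 236) (cond (Nat.beq c 235) [⟨174, -1, 1⟩] []) (cond (Nat.beq c 236) [⟨175, -1, 1⟩]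 []))) (cond (Nat.blt c 243) (cond (Nat.blt c 242) (cond (Nat.beq c 241) [⟨189, 1, 1⟩] []) (cond (Nat.beq c 242) [⟨199, 1, 1⟩] [])) (cond (Nat.blt c 244) (cond (Nat.beq c 243) [⟨205, 1, 1⟩] []) (cond (Nat.blt c 247) (cond (Nat.beq c 244) [⟨208, 1, 1⟩] []) (cond (Nat.beq c 247) [⟨211, 1, 1⟩] [])))))))

/-- Compiled columns of `x_34` for type E8. -/
def colsE8_34 (c : ℕ) : List CEnt :=
  cond (Nat.blt c 158) (cond (Nat.blt c 107) (cond (Nat.blt c 44) (cond (Nat.blt c 4) (cond (Nat.blt c 2) (cond (Nat.blt c 1) (cond (Nat.beq c 0) [⟨42, 0, 1⟩] []) (cond (Nat.beq c 1) [⟨42, 1, 1⟩] [])) (cond (Nat.blt c 3) (cond (Nat.beq c 2) [⟨42, 0, 1⟩] []) (cond (Nat.beq c 3) [⟨42, 0, 1⟩] []))) (cond (Nat.blt c 6) (cond (Nat.blt c 5) (cond (Nat.beq c 4) [⟨42, 0, 1⟩] []) (cond (Nat.beq c 5) [⟨42, -1, 1⟩] [])) (cond (Nat.blt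 c 7) (cond (Nat.beq c 6) [⟨42, 1, 1⟩] []) (cond (Nat.beq c 7) [⟨42, -1, 1⟩] [])))) (cond (Nat.blt c 65) (cond (Nat.blt c 49) (cond (Nat.blt c 46) (cond (Nat.beq c 44) [⟨9, -1, 1⟩] []) (cond (Nat.beq c 46) [⟨11, 1, 1⟩] [])) (cond (Nat.blt c 55) (cond (Nat.beq c 49) [⟨12, 1, 1⟩] []) (cond (Nat.beq c 55) [⟨13, 1, 1⟩] []))) (cond (Nat.blt c 81) (cond (Nat.blt c 79) (cond (Nat.beq c 65) [⟨14, 1, 1⟩] []) (cond (Nat.beq c 79) [⟨19, -1, 1⟩] [])) (cond (Nat.blt c 87) (cond (Nat.beq c 81) [⟨21, 1, 1⟩] []) (cond (Nat.beq c 87) [⟨22, -1, 1⟩] []))))) (cond (Nat.blt c 127) (cond (Nat.blt c 118) (cond (Nat.blt c 113) (cond (Nat.blt c 109) (cond (Nat.beq c 107) [⟨26, 1, 1⟩] []) (cond (Nat.beq c 109) [⟨28, -1, 1⟩] [])) (cond (Nat.blt c 115) (cond (Nat.beq c 113) [⟨31, -1, 1⟩] []) (cond (Nat.beq c 115) [⟨33, 1, 1⟩]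 []))) (cond (Nat.blt c 122) (cond (Nat.blt c 120) (cond (Nat.beq c 118) [⟨35, 1, 1⟩] []) (cond (Nat.beq c 120) [⟨37, -1, 1⟩] [])) (cond (Nat.blt c 124) (cond (Nat.beq c 122) [⟨38, -1, 1⟩] []) (cond (Nat.beq c 124) [⟨40, 1, 1⟩] [])))) (cond (Nat.blt c 151) (cond (Nat.blt c 149) (cond (Nat.blt c 129) (cond (Nat.beq c 127) [⟨41, 1, 1⟩] []) (cond (Nat.beq c 129) [⟨43, 1, 1⟩] [])) (cond (Nat.blt c 150) (cond (Nat.beq c 149) [⟨52, 1, 1⟩] []) (cond (Nat.beq c 150) [⟨58, -1, 1⟩] []))) (cond (Nat.blt c 155) (cond (Nat.blt c 153) (cond (Nat.beq c 151) [⟨61, 1, 1⟩] []) (cond (Nat.beq c 153) [⟨63, -1, 1⟩] [])) (cond (Nat.blt c 156) (cond (Nat.beq c 155) [⟨68, 1, 1⟩] []) (cond (Nat.beq c 156) [⟨71, -1, 1⟩] [])))))) (cond (Nat.blt c 214) (cond (Nat.blt c 184) (cond (Nat.blt c 177) (cond (Nat.blt c 162) (cond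 (Nat.blt c 160) (cond (Nat.beq c 158) [⟨73, 1, 1⟩] []) (cond (Nat.beq c 160) [⟨75, 1, 1⟩] [])) (cond (Nat.blt c 165) (cond (Nat.beq c 162) [⟨77, -1, 1⟩] []) (cond (Nat.beq c 165) [⟨78, 1, 1⟩] []))) (cond (Nat.blt c 180) (cond (Nat.blt c 178) (cond (Nat.beq c 177) [⟨90, -1, 1⟩] []) (cond (Nat.beq c 178) [⟨93, 1, 1⟩] [])) (cond (Nat.blt c 182) (cond (Nat.beq c 180) [⟨95, -1, 1⟩] []) (cond (Nat.beq c 182) [⟨97, -1, 1⟩] [])))) (cond (Nat.blt c 197) (cond (Nat.blt c 192) (cond (Nat.blt c 187) (cond (Nat.beq c 184) [⟨99, 1, 1⟩] []) (cond (Nat.beq c 187) [⟨100, -1, 1⟩] [])) (cond (Nat.blt c 194) (cond (Nat.beq c 192) [⟨102, 1, 1⟩] []) (cond (Nat.beq c 194) [⟨104, -1, 1⟩] []))) (cond (Nat.blt c 212) (cond (Nat.blt c 203) (cond (Nat.beq c 197) [⟨105, 1, 1⟩] []) (cond (Nat.beq c 203) [⟨106, -1, 1⟩] [])) (cond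 (Nat.blt c 213) (cond (Nat.beq c 212) [⟨126, -1, 1⟩] []) (cond (Nat.beq c 213) [⟨42, -1, 2⟩, ⟨0, -1, 1⟩, ⟨1, -2, 1⟩, ⟨2, -2, 1⟩, ⟨3, -3, 1⟩, ⟨4, -2, 1⟩, ⟨5, -1, 1⟩, ⟨6, -1, 1⟩, ⟨7, 0, 1⟩] []))))) (cond (Nat.blt c 229) (cond (Nat.blt c 220) (cond (Nat.blt c 217) (cond (Nat.blt c 215) (cond (Nat.beq c 214) [⟨128, -1, 1⟩] []) (cond (Nat.beq c 215) [⟨131, -1, 1⟩] [])) (cond (Nat.blt c 218) (cond (Nat.beq c 217) [⟨133, 1, 1⟩] []) (cond (Nat.beq c 218) [⟨135, 1, 1⟩] []))) (cond (Nat.blt c 224) (cond (Nat.blt c 222) (cond (Nat.beq c 220) [⟨137, -1, 1⟩] []) (cond (Nat.beq c 222) [⟨140, -1, 1⟩] [])) (cond (Nat.blt c 227) (cond (Nat.beq c 224) [⟨142, 1, 1⟩] []) (cond (Nat.beq c 227) [⟨146, 1, 1⟩] [])))) (cond (Nat.blt c 241) (cond (Nat.blt c 234) (cond (Nat.blt c 233) (cond (Nat.beq c 229) [⟨148, -1, 1⟩]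 []) (cond (Nat.beq c 233) [⟨168, 1, 1⟩] [])) (cond (Nat.blt c 236) (cond (Nat.beq c 234) [⟨174, -1, 1⟩] []) (cond (Nat.beq c 236) [⟨176, 1, 1⟩] []))) (cond (Nat.blt c 243) (cond (Nat.blt c 242) (cond (Nat.beq c 241) [⟨190, -1, 1⟩] []) (cond (Nat.beq c 242) [⟨200, -1, 1⟩] [])) (cond (Nat.blt c 244) (cond (Nat.beq c 243) [⟨206, -1, 1⟩] []) (cond (Nat.blt c 246) (cond (Nat.beq c 244) [⟨209, -1, 1⟩] []) (cond (Nat.beq c 246) [⟨211, 1, 1⟩] [])))))))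

/-- Compiled columns of `x_35` for type E8. -/
def colsE8_35 (c : ℕ) : List CEnt :=
  cond (Nat.blt c 157) (cond (Nat.blt c 107) (cond (Nat.blt c 44) (cond (Nat.blt c 4) (cond (Nat.blt c 2) (cond (Nat.blt c 1) (cond (Nat.beq c 0) [⟨43, 0, 1⟩] []) (cond (Nat.beq c 1) [⟨43, 1, 1⟩] [])) (cond (Nat.blt c 3) (cond (Nat.beq c 2) [⟨43, 0, 1⟩] []) (cond (Nat.beq c 3) [⟨43, 0, 1⟩] []))) (cond (Nat.blt c 6) (cond (Nat.blt c 5) (cond (Nat.beq c 4) [⟨43, 0, 1⟩] []) (cond (Nat.beq c 5) [⟨43, 0, 1⟩] [])) (cond (Nat.blt c 7) (cond (Nat.beq c 6) [⟨43, -1, 1⟩] []) (cond (Nat.beq c 7) [⟨43, 0, 1⟩] [])))) (cond (Nat.blt c 64) (cond (Nat.blt c 48) (cond (Nat.blt c 45) (cond (Nat.beq c 44) [⟨10, -1, 1⟩] []) (cond (Nat.beq c 45) [⟨11, -1, 1⟩] [])) (cond (Nat.blt c 54) (cond (Nat.beq c 48) [⟨12, -1, 1⟩] []) (cond (Nat.beq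 c 54) [⟨13, -1, 1⟩] []))) (cond (Nat.blt c 80) (cond (Nat.blt c 79) (cond (Nat.beq c 64) [⟨14, -1, 1⟩] []) (cond (Nat.beq c 79) [⟨20, -1, 1⟩] [])) (cond (Nat.blt c 86) (cond (Nat.beq c 80) [⟨21, -1, 1⟩] []) (cond (Nat.beq c 86) [⟨22, 1, 1⟩] []))))) (cond (Nat.blt c 125) (cond (Nat.blt c 118) (cond (Nat.blt c 113) (cond (Nat.blt c 108) (cond (Nat.beq c 107) [⟨27, 1, 1⟩] []) (cond (Nat.beq c 108) [⟨28, 1, 1⟩] [])) (cond (Nat.blt c 114) (cond (Nat.beq c 113) [⟨32, -1, 1⟩] []) (cond (Nat.beq c 114) [⟨33, -1, 1⟩] []))) (cond (Nat.blt c 122) (cond (Nat.blt c 119) (cond (Nat.beq c 118) [⟨36, 1, 1⟩] []) (cond (Nat.beq c 119) [⟨37, 1, 1⟩] [])) (cond (Nat.blt c 123) (cond (Nat.beq c 122) [⟨39, -1, 1⟩] []) (cond (Nat.beq c 123) [⟨40, -1, 1⟩] [])))) (cond (Nat.blt c 151) (cond (Nat.blt c 149) (cond (Nat.blt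 c 126) (cond (Nat.beq c 125) [⟨41, 1, 1⟩] []) (cond (Nat.beq c 126) [⟨42, 1, 1⟩] [])) (cond (Nat.blt c 150) (cond (Nat.beq c 149) [⟨53, 1, 1⟩] []) (cond (Nat.beq c 150) [⟨59, -1, 1⟩] []))) (cond (Nat.blt c 155) (cond (Nat.blt c 152) (cond (Nat.beq c 151) [⟨62, 1, 1⟩] []) (cond (Nat.beq c 152) [⟨63, -1, 1⟩] [])) (cond (Nat.blt c 156) (cond (Nat.beq c 155) [⟨69, 1, 1⟩] []) (cond (Nat.beq c 156) [⟨72, -1, 1⟩] [])))))) (cond (Nat.blt c 214) (cond (Nat.blt c 183) (cond (Nat.blt c 177) (cond (Nat.blt c 161) (cond (Nat.blt c 160) (cond (Nat.beq c 157) [⟨73, 1, 1⟩] []) (cond (Nat.beq c 160) [⟨76, 1, 1⟩] [])) (cond (Nat.blt c 164) (cond (Nat.beq c 161) [⟨77, -1, 1⟩] []) (cond (Nat.beq c 164) [⟨78, 1, 1⟩] []))) (cond (Nat.blt c 179) (cond (Nat.blt c 178) (cond (Nat.beq c 177) [⟨91, -1, 1⟩] []) (cond (Nat.beq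 c 178) [⟨94, 1, 1⟩] [])) (cond (Nat.blt c 182) (cond (Nat.beq c 179) [⟨95, -1, 1⟩] []) (cond (Nat.beq c 182) [⟨98, -1, 1⟩] [])))) (cond (Nat.blt c 196) (cond (Nat.blt c 192) (cond (Nat.blt c 186) (cond (Nat.beq c 183) [⟨99, 1, 1⟩] []) (cond (Nat.beq c 186) [⟨100, -1, 1⟩] [])) (cond (Nat.blt c 193) (cond (Nat.beq c 192) [⟨103, 1, 1⟩] []) (cond (Nat.beq c 193) [⟨104, -1, 1⟩] []))) (cond (Nat.blt c 212) (cond (Nat.blt c 202) (cond (Nat.beq c 196) [⟨105, 1, 1⟩] []) (cond (Nat.beq c 202) [⟨106, -1, 1⟩] [])) (cond (Nat.blt c 213) (cond (Nat.beq c 212) [⟨43, -1, 2⟩, ⟨0, -1, 1⟩, ⟨1, -2, 1⟩, ⟨2, -2, 1⟩, ⟨3, -3, 1⟩, ⟨4, -2, 1⟩, ⟨5, -1, 1⟩, ⟨6, 0, 1⟩, ⟨7, 0, 1⟩] []) (cond (Nat.beq c 213) [⟨129, -1, 1⟩] []))))) (cond (Nat.blt c 228) (cond (Nat.blt c 219) (cond (Nat.blt c 216) (cond (Nat.blt c 215) (cond (Nat.beq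 c 214) [⟨130, -1, 1⟩] []) (cond (Nat.beq c 215) [⟨132, 1, 1⟩] [])) (cond (Nat.blt c 218) (cond (Nat.beq c 216) [⟨133, 1, 1⟩] []) (cond (Nat.beq c 218) [⟨136, -1, 1⟩] []))) (cond (Nat.blt c 223) (cond (Nat.blt c 222) (cond (Nat.beq c 219) [⟨137, -1, 1⟩] []) (cond (Nat.beq c 222) [⟨141, 1, 1⟩] [])) (cond (Nat.blt c 227) (cond (Nat.beq c 223) [⟨142, 1, 1⟩] []) (cond (Nat.beq c 227) [⟨147, -1, 1⟩] [])))) (cond (Nat.blt c 241) (cond (Nat.blt c 234) (cond (Nat.blt c 233) (cond (Nat.beq c 228) [⟨148, -1, 1⟩] []) (cond (Nat.beq c 233) [⟨169, -1, 1⟩] [])) (cond (Nat.blt c 235) (cond (Nat.beq c 234) [⟨175, 1, 1⟩] []) (cond (Nat.beq c 235) [⟨176, 1, 1⟩] []))) (cond (Nat.blt c 243) (cond (Nat.blt c 242) (cond (Nat.beq c 241) [⟨191, 1, 1⟩] []) (cond (Nat.beq c 242) [⟨201, 1, 1⟩] [])) (cond (Nat.blt c 244) (cond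 (Nat.beq c 243) [⟨207, 1, 1⟩] []) (cond (Nat.blt c 245) (cond (Nat.beq c 244) [⟨210, 1, 1⟩] []) (cond (Nat.beq c 245) [⟨211, 1, 1⟩] [])))))))

/-- Compiled columns of `x_36` for type E8. -/
def colsE8_36 (c : ℕ) : List CEnt :=
  cond (Nat.blt c 148) (cond (Nat.blt c 99) (cond (Nat.blt c 41) (cond (Nat.blt c 4) (cond (Nat.blt c 2) (cond (Nat.blt c 1) (cond (Nat.beq c 0) [⟨44, 0, 1⟩] []) (cond (Nat.beq c 1) [⟨44, -1, 1⟩] [])) (cond (Nat.blt c 3) (cond (Nat.beq c 2) [⟨44, 0, 1⟩] []) (cond (Nat.beq c 3) [⟨44, 0, 1⟩] []))) (cond (Nat.blt c 6) (cond (Nat.blt c 5) (cond (Nat.beq c 4) [⟨44, 0, 1⟩] []) (cond (Nat.beq c 5) [⟨44, 1, 1⟩] [])) (cond (Nat.blt c 7) (cond (Nat.beq c 6) [⟨44, 0, 1⟩] []) (cond (Nat.beq c 7) [⟨44, 0, 1⟩] [])))) (cond (Nat.blt c 73) (cond (Nat.blt c 43) (cond (Nat.blt c 42) (cond (Nat.beq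 c 41) [⟨8, 1, 1⟩] []) (cond (Nat.beq c 42) [⟨9, 1, 1⟩] [])) (cond (Nat.blt c 63) (cond (Nat.beq c 43) [⟨10, 1, 1⟩] []) (cond (Nat.beq c 63) [⟨15, -1, 1⟩] []))) (cond (Nat.blt c 78) (cond (Nat.blt c 77) (cond (Nat.beq c 73) [⟨16, -1, 1⟩] []) (cond (Nat.beq c 77) [⟨17, -1, 1⟩] [])) (cond (Nat.blt c 95) (cond (Nat.beq c 78) [⟨18, -1, 1⟩] []) (cond (Nat.beq c 95) [⟨23, 1, 1⟩] []))))) (cond (Nat.blt c 135) (cond (Nat.blt c 106) (cond (Nat.blt c 104) (cond (Nat.blt c 100) (cond (Nat.beq c 99) [⟨24, 1, 1⟩] []) (cond (Nat.beq c 100) [⟨25, 1, 1⟩] [])) (cond (Nat.blt c 105) (cond (Nat.beq c 104) [⟨29, 1, 1⟩] []) (cond (Nat.beq c 105) [⟨30, 1, 1⟩] []))) (cond (Nat.blt c 132) (cond (Nat.blt c 131) (cond (Nat.beq c 106) [⟨34, 1, 1⟩] []) (cond (Nat.beq c 131) [⟨45, 1, 1⟩] [])) (cond (Nat.blt c 133) (cond (Nat.beq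 c 132) [⟨46, -1, 1⟩] []) (cond (Nat.beq c 133) [⟨47, 1, 1⟩] [])))) (cond (Nat.blt c 141) (cond (Nat.blt c 137) (cond (Nat.blt c 136) (cond (Nat.beq c 135) [⟨48, 1, 1⟩] []) (cond (Nat.beq c 136) [⟨49, -1, 1⟩] [])) (cond (Nat.blt c 140) (cond (Nat.beq c 137) [⟨50, 1, 1⟩] []) (cond (Nat.beq c 140) [⟨54, 1, 1⟩] []))) (cond (Nat.blt c 146) (cond (Nat.blt c 142) (cond (Nat.beq c 141) [⟨55, -1, 1⟩] []) (cond (Nat.beq c 142) [⟨56, 1, 1⟩] [])) (cond (Nat.blt c 147) (cond (Nat.beq c 146) [⟨64, 1, 1⟩] []) (cond (Nat.beq c 147) [⟨65, -1, 1⟩] [])))))) (cond (Nat.blt c 208) (cond (Nat.blt c 190) (cond (Nat.blt c 174) (cond (Nat.blt c 168) (cond (Nat.blt c 167) (cond (Nat.beq c 148) [⟨66, 1, 1⟩] []) (cond (Nat.beq c 167) [⟨79, 1, 1⟩] [])) (cond (Nat.blt c 169) (cond (Nat.beq c 168) [⟨80, -1, 1⟩] []) (cond (Nat.beq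 c 169) [⟨81, 1, 1⟩] []))) (cond (Nat.blt c 176) (cond (Nat.blt c 175) (cond (Nat.beq c 174) [⟨86, -1, 1⟩] []) (cond (Nat.beq c 175) [⟨87, 1, 1⟩] [])) (cond (Nat.blt c 189) (cond (Nat.beq c 176) [⟨88, -1, 1⟩] []) (cond (Nat.beq c 189) [⟨107, -1, 1⟩] [])))) (cond (Nat.blt c 201) (cond (Nat.blt c 199) (cond (Nat.blt c 191) (cond (Nat.beq c 190) [⟨108, 1, 1⟩] []) (cond (Nat.beq c 191) [⟨109, -1, 1⟩] [])) (cond (Nat.blt c 200) (cond (Nat.beq c 199) [⟨113, -1, 1⟩] []) (cond (Nat.beq c 200) [⟨114, 1, 1⟩] []))) (cond (Nat.blt c 206) (cond (Nat.blt c 205) (cond (Nat.beq c 201) [⟨115, -1, 1⟩] []) (cond (Nat.beq c 205) [⟨118, -1, 1⟩] [])) (cond (Nat.blt c 207) (cond (Nat.beq c 206) [⟨119, 1, 1⟩] []) (cond (Nat.beq c 207) [⟨120, -1, 1⟩] []))))) (cond (Nat.blt c 231) (cond (Nat.blt c 221) (cond (Nat.blt c 210)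 (cond (Nat.blt c 209) (cond (Nat.beq c 208) [⟨122, -1, 1⟩] []) (cond (Nat.beq c 209) [⟨123, 1, 1⟩] [])) (cond (Nat.blt c 211) (cond (Nat.beq c 210) [⟨124, -1, 1⟩] []) (cond (Nat.beq c 211) [⟨44, -1, 2⟩, ⟨0, -1, 1⟩, ⟨1, -1, 1⟩, ⟨2, -2, 1⟩, ⟨3, -3, 1⟩, ⟨4, -3, 1⟩, ⟨5, -3, 1⟩, ⟨6, -2, 1⟩, ⟨7, -1, 1⟩] []))) (cond (Nat.blt c 226) (cond (Nat.blt c 225) (cond (Nat.beq c 221) [⟨149, -1, 1⟩] []) (cond (Nat.beq c 225) [⟨150, -1, 1⟩] [])) (cond (Nat.blt c 230) (cond (Nat.beq c 226) [⟨151, -1, 1⟩] []) (cond (Nat.beq c 230) [⟨155, -1, 1⟩] [])))) (cond (Nat.blt c 239) (cond (Nat.blt c 237) (cond (Nat.blt c 232) (cond (Nat.beq c 231) [⟨156, -1, 1⟩] []) (cond (Nat.beq c 232) [⟨160, -1, 1⟩] [])) (cond (Nat.blt c 238) (cond (Nat.beq c 237) [⟨177, 1, 1⟩] []) (cond (Nat.beq c 238) [⟨178, 1, 1⟩] []))) (cond (Nat.blt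 c 245) (cond (Nat.blt c 240) (cond (Nat.beq c 239) [⟨182, 1, 1⟩] []) (cond (Nat.beq c 240) [⟨192, 1, 1⟩] [])) (cond (Nat.blt c 246) (cond (Nat.beq c 245) [⟨212, -1, 1⟩] []) (cond (Nat.blt c 247) (cond (Nat.beq c 246) [⟨213, -1, 1⟩] []) (cond (Nat.beq c 247) [⟨214, -1, 1⟩] [])))))))

/-- Compiled columns of `x_37` for type E8. -/
def colsE8_37 (c : ℕ) : List CEnt :=
  cond (Nat.blt c 148) (cond (Nat.blt c 98) (cond (Nat.blt c 39) (cond (Nat.blt c 4) (cond (Nat.blt c 2) (cond (Nat.blt c 1) (cond (Nat.beq c 0) [⟨45, 0, 1⟩] []) (cond (Nat.beq c 1) [⟨45, -1, 1⟩] [])) (cond (Nat.blt c 3) (cond (Nat.beq c 2) [⟨45, 0, 1⟩] []) (cond (Nat.beq c 3) [⟨45, 0, 1⟩] []))) (cond (Nat.blt c 6) (cond (Nat.blt c 5) (cond (Nat.beq c 4) [⟨45, 1, 1⟩] []) (cond (Nat.beq c 5) [⟨45, -1, 1⟩] [])) (cond (Nat.blt c 7) (cond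 (Nat.beq c 6) [⟨45, 1, 1⟩] []) (cond (Nat.beq c 7) [⟨45, 0, 1⟩] [])))) (cond (Nat.blt c 72) (cond (Nat.blt c 43) (cond (Nat.blt c 40) (cond (Nat.beq c 39) [⟨8, -1, 1⟩] []) (cond (Nat.beq c 40) [⟨9, -1, 1⟩] [])) (cond (Nat.blt c 62) (cond (Nat.beq c 43) [⟨11, 1, 1⟩] []) (cond (Nat.beq c 62) [⟨15, 1, 1⟩] []))) (cond (Nat.blt c 78) (cond (Nat.blt c 76) (cond (Nat.beq c 72) [⟨16, 1, 1⟩] []) (cond (Nat.beq c 76) [⟨17, 1, 1⟩] [])) (cond (Nat.blt c 94) (cond (Nat.beq c 78) [⟨19, -1, 1⟩] []) (cond (Nat.beq c 94) [⟨23, -1, 1⟩] []))))) (cond (Nat.blt c 134) (cond (Nat.blt c 106) (cond (Nat.blt c 103) (cond (Nat.blt c 100) (cond (Nat.beq c 98) [⟨24, -1, 1⟩] []) (cond (Nat.beq c 100) [⟨26, 1, 1⟩] [])) (cond (Nat.blt c 105) (cond (Nat.beq c 103) [⟨29, -1, 1⟩] []) (cond (Nat.beq c 105) [⟨31, 1, 1⟩] []))) (cond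 (Nat.blt c 129) (cond (Nat.blt c 124) (cond (Nat.beq c 106) [⟨35, 1, 1⟩] []) (cond (Nat.beq c 124) [⟨44, 1, 1⟩] [])) (cond (Nat.blt c 130) (cond (Nat.beq c 129) [⟨46, 1, 1⟩] []) (cond (Nat.beq c 130) [⟨47, -1, 1⟩] [])))) (cond (Nat.blt c 141) (cond (Nat.blt c 137) (cond (Nat.blt c 136) (cond (Nat.beq c 134) [⟨48, 1, 1⟩] []) (cond (Nat.beq c 136) [⟨51, -1, 1⟩] [])) (cond (Nat.blt c 139) (cond (Nat.beq c 137) [⟨52, 1, 1⟩] []) (cond (Nat.beq c 139) [⟨54, 1, 1⟩] []))) (cond (Nat.blt c 145) (cond (Nat.blt c 142) (cond (Nat.beq c 141) [⟨57, -1, 1⟩] []) (cond (Nat.beq c 142) [⟨58, 1, 1⟩] [])) (cond (Nat.blt c 147) (cond (Nat.beq c 145) [⟨64, 1, 1⟩] []) (cond (Nat.beq c 147) [⟨67, -1, 1⟩] [])))))) (cond (Nat.blt c 208) (cond (Nat.blt c 188) (cond (Nat.blt c 173) (cond (Nat.blt c 166) (cond (Nat.blt c 165)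 (cond (Nat.beq c 148) [⟨68, 1, 1⟩] []) (cond (Nat.beq c 165) [⟨79, 1, 1⟩] [])) (cond (Nat.blt c 169) (cond (Nat.beq c 166) [⟨80, -1, 1⟩] []) (cond (Nat.beq c 169) [⟨82, 1, 1⟩] []))) (cond (Nat.blt c 176) (cond (Nat.blt c 175) (cond (Nat.beq c 173) [⟨86, -1, 1⟩] []) (cond (Nat.beq c 175) [⟨89, 1, 1⟩] [])) (cond (Nat.blt c 187) (cond (Nat.beq c 176) [⟨90, -1, 1⟩] []) (cond (Nat.beq c 187) [⟨107, -1, 1⟩] [])))) (cond (Nat.blt c 201) (cond (Nat.blt c 197) (cond (Nat.blt c 191) (cond (Nat.beq c 188) [⟨108, 1, 1⟩] []) (cond (Nat.beq c 191) [⟨110, -1, 1⟩] [])) (cond (Nat.blt c 198) (cond (Nat.beq c 197) [⟨113, -1, 1⟩] []) (cond (Nat.beq c 198) [⟨114, 1, 1⟩] []))) (cond (Nat.blt c 204) (cond (Nat.blt c 203) (cond (Nat.beq c 201) [⟨116, -1, 1⟩] []) (cond (Nat.beq c 203) [⟨118, -1, 1⟩] [])) (cond (Nat.blt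 c 207) (cond (Nat.beq c 204) [⟨119, 1, 1⟩] []) (cond (Nat.beq c 207) [⟨121, -1, 1⟩] []))))) (cond (Nat.blt c 231) (cond (Nat.blt c 220) (cond (Nat.blt c 210) (cond (Nat.blt c 209) (cond (Nat.beq c 208) [⟨125, 1, 1⟩] []) (cond (Nat.beq c 209) [⟨126, -1, 1⟩] [])) (cond (Nat.blt c 211) (cond (Nat.beq c 210) [⟨45, -1, 2⟩, ⟨0, -1, 1⟩, ⟨1, -1, 1⟩, ⟨2, -2, 1⟩, ⟨3, -3, 1⟩, ⟨4, -3, 1⟩, ⟨5, -2, 1⟩, ⟨6, -2, 1⟩, ⟨7, -1, 1⟩] []) (cond (Nat.beq c 211) [⟨131, -1, 1⟩] []))) (cond (Nat.blt c 226) (cond (Nat.blt c 224) (cond (Nat.beq c 220) [⟨149, -1, 1⟩] []) (cond (Nat.beq c 224) [⟨150, -1, 1⟩] [])) (cond (Nat.blt c 229) (cond (Nat.beq c 226) [⟨152, 1, 1⟩] []) (cond (Nat.beq c 229) [⟨155, -1, 1⟩] [])))) (cond (Nat.blt c 239) (cond (Nat.blt c 236) (cond (Nat.blt c 232) (cond (Nat.beq c 231) [⟨157, 1, 1⟩] []) (cond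 (Nat.beq c 232) [⟨161, 1, 1⟩] [])) (cond (Nat.blt c 238) (cond (Nat.beq c 236) [⟨177, 1, 1⟩] []) (cond (Nat.beq c 238) [⟨179, -1, 1⟩] []))) (cond (Nat.blt c 244) (cond (Nat.blt c 240) (cond (Nat.beq c 239) [⟨183, -1, 1⟩] []) (cond (Nat.beq c 240) [⟨193, -1, 1⟩] [])) (cond (Nat.blt c 246) (cond (Nat.beq c 244) [⟨212, -1, 1⟩] []) (cond (Nat.blt c 247) (cond (Nat.beq c 246) [⟨215, 1, 1⟩] []) (cond (Nat.beq c 247) [⟨216, 1, 1⟩] [])))))))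

/-- Compiled columns of `x_38` for type E8. -/
def colsE8_38 (c : ℕ) : List CEnt :=
  cond (Nat.blt c 148) (cond (Nat.blt c 97) (cond (Nat.blt c 38) (cond (Nat.blt c 4) (cond (Nat.blt c 2) (cond (Nat.blt c 1) (cond (Nat.beq c 0) [⟨46, 0, 1⟩] []) (cond (Nat.beq c 1) [⟨46, -1, 1⟩] [])) (cond (Nat.blt c 3) (cond (Nat.beq c 2) [⟨46, 0, 1⟩] []) (cond (Nat.beq c 3) [⟨46, 0, 1⟩] []))) (cond (Nat.blt c 6) (cond (Nat.blt c 5) (cond (Nat.beq c 4) [⟨46, 1, 1⟩] []) (cond (Nat.beq c 5) [⟨46, 0, 1⟩] [])) (cond (Nat.blt c 7) (cond (Nat.beq c 6) [⟨46, -1, 1⟩] []) (cond (Nat.beq c 7) [⟨46, 1, 1⟩] [])))) (cond (Nat.blt c 71) (cond (Nat.blt c 42) (cond (Nat.blt c 40) (cond (Nat.beq c 38) [⟨8, 1, 1⟩] []) (cond (Nat.beq c 40) [⟨10, -1, 1⟩] [])) (cond (Nat.blt c 61) (cond (Nat.beq c 42) [⟨11, -1, 1⟩] []) (cond (Nat.beq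 c 61) [⟨15, -1, 1⟩] []))) (cond (Nat.blt c 78) (cond (Nat.blt c 75) (cond (Nat.beq c 71) [⟨16, -1, 1⟩] []) (cond (Nat.beq c 75) [⟨17, -1, 1⟩] [])) (cond (Nat.blt c 93) (cond (Nat.beq c 78) [⟨20, -1, 1⟩] []) (cond (Nat.beq c 93) [⟨23, 1, 1⟩] []))))) (cond (Nat.blt c 134) (cond (Nat.blt c 106) (cond (Nat.blt c 102) (cond (Nat.blt c 100) (cond (Nat.beq c 97) [⟨24, 1, 1⟩] []) (cond (Nat.beq c 100) [⟨27, 1, 1⟩] [])) (cond (Nat.blt c 105) (cond (Nat.beq c 102) [⟨29, 1, 1⟩] []) (cond (Nat.beq c 105) [⟨32, 1, 1⟩] []))) (cond (Nat.blt c 126) (cond (Nat.blt c 123) (cond (Nat.beq c 106) [⟨36, 1, 1⟩] []) (cond (Nat.beq c 123) [⟨44, -1, 1⟩] [])) (cond (Nat.blt c 128) (cond (Nat.beq c 126) [⟨45, 1, 1⟩] []) (cond (Nat.beq c 128) [⟨47, 1, 1⟩] [])))) (cond (Nat.blt c 140) (cond (Nat.blt c 137) (cond (Nat.blt c 135)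 (cond (Nat.beq c 134) [⟨49, 1, 1⟩] []) (cond (Nat.beq c 135) [⟨51, -1, 1⟩] [])) (cond (Nat.blt c 139) (cond (Nat.beq c 137) [⟨53, 1, 1⟩] []) (cond (Nat.beq c 139) [⟨55, 1, 1⟩] []))) (cond (Nat.blt c 145) (cond (Nat.blt c 142) (cond (Nat.beq c 140) [⟨57, -1, 1⟩] []) (cond (Nat.beq c 142) [⟨59, 1, 1⟩] [])) (cond (Nat.blt c 146) (cond (Nat.beq c 145) [⟨65, 1, 1⟩] []) (cond (Nat.beq c 146) [⟨67, -1, 1⟩] [])))))) (cond (Nat.blt c 208) (cond (Nat.blt c 188) (cond (Nat.blt c 173) (cond (Nat.blt c 166) (cond (Nat.blt c 164) (cond (Nat.beq c 148) [⟨69, 1, 1⟩] []) (cond (Nat.beq c 164) [⟨79, 1, 1⟩] [])) (cond (Nat.blt c 168) (cond (Nat.beq c 166) [⟨81, -1, 1⟩] []) (cond (Nat.beq c 168) [⟨82, 1, 1⟩] []))) (cond (Nat.blt c 176) (cond (Nat.blt c 174) (cond (Nat.beq c 173) [⟨87, -1, 1⟩] []) (cond (Nat.beq c 174)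 [⟨89, 1, 1⟩] [])) (cond (Nat.blt c 186) (cond (Nat.beq c 176) [⟨91, -1, 1⟩] []) (cond (Nat.beq c 186) [⟨107, -1, 1⟩] [])))) (cond (Nat.blt c 200) (cond (Nat.blt c 196) (cond (Nat.blt c 190) (cond (Nat.beq c 188) [⟨109, 1, 1⟩] []) (cond (Nat.beq c 190) [⟨110, -1, 1⟩] [])) (cond (Nat.blt c 198) (cond (Nat.beq c 196) [⟨113, -1, 1⟩] []) (cond (Nat.beq c 198) [⟨115, 1, 1⟩] []))) (cond (Nat.blt c 204) (cond (Nat.blt c 202) (cond (Nat.beq c 200) [⟨116, -1, 1⟩] []) (cond (Nat.beq c 202) [⟨118, -1, 1⟩] [])) (cond (Nat.blt c 206) (cond (Nat.beq c 204) [⟨120, 1, 1⟩] []) (cond (Nat.beq c 206) [⟨121, -1, 1⟩] []))))) (cond (Nat.blt c 231) (cond (Nat.blt c 219) (cond (Nat.blt c 210) (cond (Nat.blt c 209) (cond (Nat.beq c 208) [⟨127, -1, 1⟩] []) (cond (Nat.beq c 209) [⟨46, -1, 2⟩, ⟨0, -1, 1⟩, ⟨1, -1, 1⟩, ⟨2, -2,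 1⟩, ⟨3, -3, 1⟩, ⟨4, -3, 1⟩, ⟨5, -2, 1⟩, ⟨6, -1, 1⟩, ⟨7, -1, 1⟩] [])) (cond (Nat.blt c 211) (cond (Nat.beq c 210) [⟨129, -1, 1⟩] []) (cond (Nat.beq c 211) [⟨132, 1, 1⟩] []))) (cond (Nat.blt c 226) (cond (Nat.blt c 223) (cond (Nat.beq c 219) [⟨149, -1, 1⟩] []) (cond (Nat.beq c 223) [⟨150, -1, 1⟩] [])) (cond (Nat.blt c 228) (cond (Nat.beq c 226) [⟨153, -1, 1⟩] []) (cond (Nat.beq c 228) [⟨155, -1, 1⟩] [])))) (cond (Nat.blt c 239) (cond (Nat.blt c 235) (cond (Nat.blt c 232) (cond (Nat.beq c 231) [⟨158, -1, 1⟩] []) (cond (Nat.beq c 232) [⟨162, -1, 1⟩] [])) (cond (Nat.blt c 238) (cond (Nat.beq c 235) [⟨177, 1, 1⟩] []) (cond (Nat.beq c 238) [⟨180, 1, 1⟩] []))) (cond (Nat.blt c 244) (cond (Nat.blt c 240) (cond (Nat.beq c 239) [⟨184, 1, 1⟩] []) (cond (Nat.beq c 240) [⟨194, 1, 1⟩] [])) (cond (Nat.blt c 245)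 (cond (Nat.beq c 244) [⟨213, 1, 1⟩] []) (cond (Nat.blt c 247) (cond (Nat.beq c 245) [⟨215, 1, 1⟩] []) (cond (Nat.beq c 247) [⟨217, -1, 1⟩] [])))))))

/-- Compiled columns of `x_39` for type E8. -/
def colsE8_39 (c : ℕ) : List CEnt :=
  cond (Nat.blt c 147) (cond (Nat.blt c 96) (cond (Nat.blt c 38) (cond (Nat.blt c 4) (cond (Nat.blt c 2) (cond (Nat.blt c 1) (cond (Nat.beq c 0) [⟨47, 0, 1⟩] []) (cond (Nat.beq c 1) [⟨47, -1, 1⟩] [])) (cond (Nat.blt c 3) (cond (Nat.beq c 2) [⟨47, 0, 1⟩] []) (cond (Nat.beq c 3) [⟨47, 0, 1⟩] []))) (cond (Nat.blt c 6) (cond (Nat.blt c 5) (cond (Nat.beq c 4) [⟨47, 1, 1⟩] []) (cond (Nat.beq c 5) [⟨47, 0, 1⟩] [])) (cond (Nat.blt c 7) (cond (Nat.beq c 6) [⟨47, 0, 1⟩] []) (cond (Nat.beq c 7) [⟨47, -1, 1⟩] [])))) (cond (Nat.blt c 70) (cond (Nat.blt c 41) (cond (Nat.blt c 39)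 (cond (Nat.beq c 38) [⟨9, 1, 1⟩] []) (cond (Nat.beq c 39) [⟨10, 1, 1⟩] [])) (cond (Nat.blt c 60) (cond (Nat.beq c 41) [⟨11, 1, 1⟩] []) (cond (Nat.beq c 60) [⟨15, 1, 1⟩] []))) (cond (Nat.blt c 78) (cond (Nat.blt c 74) (cond (Nat.beq c 70) [⟨16, 1, 1⟩] []) (cond (Nat.beq c 74) [⟨17, 1, 1⟩] [])) (cond (Nat.blt c 92) (cond (Nat.beq c 78) [⟨21, -1, 1⟩] []) (cond (Nat.beq c 92) [⟨23, -1, 1⟩] []))))) (cond (Nat.blt c 134) (cond (Nat.blt c 106) (cond (Nat.blt c 101) (cond (Nat.blt c 100) (cond (Nat.beq c 96) [⟨24, -1, 1⟩] []) (cond (Nat.beq c 100) [⟨28, 1, 1⟩] [])) (cond (Nat.blt c 105) (cond (Nat.beq c 101) [⟨29, -1, 1⟩] []) (cond (Nat.beq c 105) [⟨33, 1, 1⟩] []))) (cond (Nat.blt c 125) (cond (Nat.blt c 122) (cond (Nat.beq c 106) [⟨37, 1, 1⟩] []) (cond (Nat.beq c 122) [⟨44, 1, 1⟩] [])) (cond (Nat.blt c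 127) (cond (Nat.beq c 125) [⟨45, -1, 1⟩] []) (cond (Nat.beq c 127) [⟨46, 1, 1⟩] [])))) (cond (Nat.blt c 140) (cond (Nat.blt c 136) (cond (Nat.blt c 135) (cond (Nat.beq c 134) [⟨50, 1, 1⟩] []) (cond (Nat.beq c 135) [⟨52, -1, 1⟩] [])) (cond (Nat.blt c 139) (cond (Nat.beq c 136) [⟨53, 1, 1⟩] []) (cond (Nat.beq c 139) [⟨56, 1, 1⟩] []))) (cond (Nat.blt c 145) (cond (Nat.blt c 141) (cond (Nat.beq c 140) [⟨58, -1, 1⟩] []) (cond (Nat.beq c 141) [⟨59, 1, 1⟩] [])) (cond (Nat.blt c 146) (cond (Nat.beq c 145) [⟨66, 1, 1⟩] []) (cond (Nat.beq c 146) [⟨68, -1, 1⟩] [])))))) (cond (Nat.blt c 208) (cond (Nat.blt c 187) (cond (Nat.blt c 173) (cond (Nat.blt c 165) (cond (Nat.blt c 164) (cond (Nat.beq c 147) [⟨69, 1, 1⟩] []) (cond (Nat.beq c 164) [⟨80, 1, 1⟩] [])) (cond (Nat.blt c 167) (cond (Nat.beq c 165) [⟨81, -1,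 1⟩] []) (cond (Nat.beq c 167) [⟨82, 1, 1⟩] []))) (cond (Nat.blt c 175) (cond (Nat.blt c 174) (cond (Nat.beq c 173) [⟨88, -1, 1⟩] []) (cond (Nat.beq c 174) [⟨90, 1, 1⟩] [])) (cond (Nat.blt c 186) (cond (Nat.beq c 175) [⟨91, -1, 1⟩] []) (cond (Nat.beq c 186) [⟨108, -1, 1⟩] [])))) (cond (Nat.blt c 199) (cond (Nat.blt c 196) (cond (Nat.blt c 189) (cond (Nat.beq c 187) [⟨109, 1, 1⟩] []) (cond (Nat.beq c 189) [⟨110, -1, 1⟩] [])) (cond (Nat.blt c 197) (cond (Nat.beq c 196) [⟨114, -1, 1⟩] []) (cond (Nat.beq c 197) [⟨115, 1, 1⟩] []))) (cond (Nat.blt c 203) (cond (Nat.blt c 202) (cond (Nat.beq c 199) [⟨116, -1, 1⟩] []) (cond (Nat.beq c 202) [⟨119, -1, 1⟩] [])) (cond (Nat.blt c 205) (cond (Nat.beq c 203) [⟨120, 1, 1⟩] []) (cond (Nat.beq c 205) [⟨121, -1, 1⟩] []))))) (cond (Nat.blt c 231) (cond (Nat.blt c 218)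 (cond (Nat.blt c 210) (cond (Nat.blt c 209) (cond (Nat.beq c 208) [⟨47, -1, 2⟩, ⟨0, -1, 1⟩, ⟨1, -1, 1⟩, ⟨2, -2, 1⟩, ⟨3, -3, 1⟩, ⟨4, -3, 1⟩, ⟨5, -2, 1⟩, ⟨6, -1, 1⟩, ⟨7, 0, 1⟩] []) (cond (Nat.beq c 209) [⟨128, -1, 1⟩] [])) (cond (Nat.blt c 211) (cond (Nat.beq c 210) [⟨130, 1, 1⟩] []) (cond (Nat.beq c 211) [⟨133, -1, 1⟩] []))) (cond (Nat.blt c 226) (cond (Nat.blt c 222) (cond (Nat.beq c 218) [⟨149, -1, 1⟩] []) (cond (Nat.beq c 222) [⟨150, -1, 1⟩] [])) (cond (Nat.blt c 227) (cond (Nat.beq c 226) [⟨154, 1, 1⟩] []) (cond (Nat.beq c 227) [⟨155, -1, 1⟩] [])))) (cond (Nat.blt c 239) (cond (Nat.blt c 234) (cond (Nat.blt c 232) (cond (Nat.beq c 231) [⟨159, 1, 1⟩] []) (cond (Nat.beq c 232) [⟨163, 1, 1⟩] [])) (cond (Nat.blt c 238) (cond (Nat.beq c 234) [⟨177, 1, 1⟩] []) (cond (Nat.beq c 238) [⟨181, -1, 1⟩] [])))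 (cond (Nat.blt c 244) (cond (Nat.blt c 240) (cond (Nat.beq c 239) [⟨185, -1, 1⟩] []) (cond (Nat.beq c 240) [⟨195, -1, 1⟩] [])) (cond (Nat.blt c 245) (cond (Nat.beq c 244) [⟨214, -1, 1⟩] []) (cond (Nat.blt c 246) (cond (Nat.beq c 245) [⟨216, -1, 1⟩] []) (cond (Nat.beq c 246) [⟨217, -1, 1⟩] [])))))))

/-- Compiled columns of `x_40` for type E8. -/
def colsE8_40 (c : ℕ) : List CEnt :=
  cond (Nat.blt c 148) (cond (Nat.blt c 98) (cond (Nat.blt c 36) (cond (Nat.blt c 4) (cond (Nat.blt c 2) (cond (Nat.blt c 1) (cond (Nat.beq c 0) [⟨48, 0, 1⟩] []) (cond (Nat.beq c 1) [⟨48, -1, 1⟩] [])) (cond (Nat.blt c 3) (cond (Nat.beq c 2) [⟨48, 0, 1⟩] []) (cond (Nat.beq c 3) [⟨48, 1, 1⟩] []))) (cond (Nat.blt c 6) (cond (Nat.blt c 5) (cond (Nat.beq c 4) [⟨48, -1, 1⟩] []) (cond (Nat.beq c 5) [⟨48, 0, 1⟩] [])) (cond (Nat.blt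 c 7) (cond (Nat.beq c 6) [⟨48, 1, 1⟩] []) (cond (Nat.beq c 7) [⟨48, 0, 1⟩] [])))) (cond (Nat.blt c 69) (cond (Nat.blt c 43) (cond (Nat.blt c 37) (cond (Nat.beq c 36) [⟨8, 1, 1⟩] []) (cond (Nat.beq c 37) [⟨9, 1, 1⟩] [])) (cond (Nat.blt c 59) (cond (Nat.beq c 43) [⟨12, 1, 1⟩] []) (cond (Nat.beq c 59) [⟨15, -1, 1⟩] []))) (cond (Nat.blt c 77) (cond (Nat.blt c 76) (cond (Nat.beq c 69) [⟨16, -1, 1⟩] []) (cond (Nat.beq c 76) [⟨18, 1, 1⟩] [])) (cond (Nat.blt c 91) (cond (Nat.beq c 77) [⟨19, 1, 1⟩] []) (cond (Nat.beq c 91) [⟨23, 1, 1⟩] []))))) (cond (Nat.blt c 130) (cond (Nat.blt c 106) (cond (Nat.blt c 103) (cond (Nat.blt c 99) (cond (Nat.beq c 98) [⟨25, -1, 1⟩] []) (cond (Nat.beq c 99) [⟨26, -1, 1⟩] [])) (cond (Nat.blt c 104) (cond (Nat.beq c 103) [⟨30, -1, 1⟩] []) (cond (Nat.beq c 104) [⟨31, -1, 1⟩] [])))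 (cond (Nat.blt c 121) (cond (Nat.blt c 120) (cond (Nat.beq c 106) [⟨38, 1, 1⟩] []) (cond (Nat.beq c 120) [⟨44, 1, 1⟩] [])) (cond (Nat.blt c 129) (cond (Nat.beq c 121) [⟨45, 1, 1⟩] []) (cond (Nat.beq c 129) [⟨49, 1, 1⟩] [])))) (cond (Nat.blt c 141) (cond (Nat.blt c 133) (cond (Nat.blt c 132) (cond (Nat.beq c 130) [⟨50, -1, 1⟩] []) (cond (Nat.beq c 132) [⟨51, 1, 1⟩] [])) (cond (Nat.blt c 138) (cond (Nat.beq c 133) [⟨52, -1, 1⟩] []) (cond (Nat.beq c 138) [⟨54, 1, 1⟩] []))) (cond (Nat.blt c 144) (cond (Nat.blt c 142) (cond (Nat.beq c 141) [⟨60, -1, 1⟩] []) (cond (Nat.beq c 142) [⟨61, 1, 1⟩] [])) (cond (Nat.blt c 147) (cond (Nat.beq c 144) [⟨64, 1, 1⟩] []) (cond (Nat.beq c 147) [⟨70, -1, 1⟩] [])))))) (cond (Nat.blt c 206) (cond (Nat.blt c 185) (cond (Nat.blt c 172) (cond (Nat.blt c 163) (cond (Nat.blt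 c 162) (cond (Nat.beq c 148) [⟨71, 1, 1⟩] []) (cond (Nat.beq c 162) [⟨79, 1, 1⟩] [])) (cond (Nat.blt c 169) (cond (Nat.beq c 163) [⟨80, -1, 1⟩] []) (cond (Nat.beq c 169) [⟨83, 1, 1⟩] []))) (cond (Nat.blt c 176) (cond (Nat.blt c 175) (cond (Nat.beq c 172) [⟨86, -1, 1⟩] []) (cond (Nat.beq c 175) [⟨92, 1, 1⟩] [])) (cond (Nat.blt c 184) (cond (Nat.beq c 176) [⟨93, -1, 1⟩] []) (cond (Nat.beq c 184) [⟨107, -1, 1⟩] [])))) (cond (Nat.blt c 201) (cond (Nat.blt c 194) (cond (Nat.blt c 191) (cond (Nat.beq c 185) [⟨108, 1, 1⟩] []) (cond (Nat.beq c 191) [⟨111, -1, 1⟩] [])) (cond (Nat.blt c 195) (cond (Nat.beq c 194) [⟨113, -1, 1⟩] []) (cond (Nat.beq c 195) [⟨114, 1, 1⟩] []))) (cond (Nat.blt c 204) (cond (Nat.blt c 203) (cond (Nat.beq c 201) [⟨117, -1, 1⟩] []) (cond (Nat.beq c 203) [⟨122, 1, 1⟩] [])) (cond (Nat.blt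 c 205) (cond (Nat.beq c 204) [⟨123, -1, 1⟩] []) (cond (Nat.beq c 205) [⟨125, 1, 1⟩] []))))) (cond (Nat.blt c 230) (cond (Nat.blt c 217) (cond (Nat.blt c 210) (cond (Nat.blt c 207) (cond (Nat.beq c 206) [⟨126, -1, 1⟩] []) (cond (Nat.beq c 207) [⟨48, -1, 2⟩, ⟨0, -1, 1⟩, ⟨1, -1, 1⟩, ⟨2, -2, 1⟩, ⟨3, -3, 1⟩, ⟨4, -2, 1⟩, ⟨5, -2, 1⟩, ⟨6, -2, 1⟩, ⟨7, -1, 1⟩] [])) (cond (Nat.blt c 211) (cond (Nat.beq c 210) [⟨134, -1, 1⟩] []) (cond (Nat.beq c 211) [⟨135, -1, 1⟩] []))) (cond (Nat.blt c 225) (cond (Nat.blt c 224) (cond (Nat.beq c 217) [⟨149, -1, 1⟩] []) (cond (Nat.beq c 224) [⟨151, 1, 1⟩] [])) (cond (Nat.blt c 229) (cond (Nat.beq c 225) [⟨152, 1, 1⟩] []) (cond (Nat.beq c 229) [⟨156, 1, 1⟩] [])))) (cond (Nat.blt c 239) (cond (Nat.blt c 236) (cond (Nat.blt c 232) (cond (Nat.beq c 230) [⟨157, 1, 1⟩] []) (cond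 (Nat.beq c 232) [⟨164, -1, 1⟩] [])) (cond (Nat.blt c 237) (cond (Nat.beq c 236) [⟨178, -1, 1⟩] []) (cond (Nat.beq c 237) [⟨179, -1, 1⟩] []))) (cond (Nat.blt c 243) (cond (Nat.blt c 240) (cond (Nat.beq c 239) [⟨186, 1, 1⟩] []) (cond (Nat.beq c 240) [⟨196, 1, 1⟩] [])) (cond (Nat.blt c 246) (cond (Nat.beq c 243) [⟨212, -1, 1⟩] []) (cond (Nat.blt c 247) (cond (Nat.beq c 246) [⟨218, -1, 1⟩] []) (cond (Nat.beq c 247) [⟨219, -1, 1⟩] [])))))))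

/-- Compiled columns of `x_41` for type E8. -/
def colsE8_41 (c : ℕ) : List CEnt :=
  cond (Nat.blt c 148) (cond (Nat.blt c 97) (cond (Nat.blt c 35) (cond (Nat.blt c 4) (cond (Nat.blt c 2) (cond (Nat.blt c 1) (cond (Nat.beq c 0) [⟨49, 0, 1⟩] []) (cond (Nat.beq c 1) [⟨49, -1, 1⟩] [])) (cond (Nat.blt c 3) (cond (Nat.beq c 2) [⟨49, 0, 1⟩] []) (cond (Nat.beq c 3) [⟨49, 1, 1⟩] []))) (cond (Nat.blt c 6) (cond (Nat.blt c 5) (cond (Nat.beq c 4) [⟨49, -1, 1⟩] []) (cond (Nat.beq c 5) [⟨49, 1, 1⟩] [])) (cond (Nat.blt c 7) (cond (Nat.beq c 6) [⟨49, -1, 1⟩] []) (cond (Nat.beq c 7) [⟨49, 1, 1⟩] [])))) (cond (Nat.blt c 68) (cond (Nat.blt c 42) (cond (Nat.blt c 37) (cond (Nat.beq c 35) [⟨8, -1, 1⟩] []) (cond (Nat.beq c 37) [⟨10, 1, 1⟩] [])) (cond (Nat.blt c 58) (cond (Nat.beq c 42) [⟨12, -1, 1⟩] []) (cond (Nat.beq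 c 58) [⟨15, 1, 1⟩] []))) (cond (Nat.blt c 77) (cond (Nat.blt c 75) (cond (Nat.beq c 68) [⟨16, 1, 1⟩] []) (cond (Nat.beq c 75) [⟨18, -1, 1⟩] [])) (cond (Nat.blt c 90) (cond (Nat.beq c 77) [⟨20, 1, 1⟩] []) (cond (Nat.beq c 90) [⟨23, -1, 1⟩] []))))) (cond (Nat.blt c 128) (cond (Nat.blt c 106) (cond (Nat.blt c 102) (cond (Nat.blt c 99) (cond (Nat.beq c 97) [⟨25, 1, 1⟩] []) (cond (Nat.beq c 99) [⟨27, -1, 1⟩] [])) (cond (Nat.blt c 104) (cond (Nat.beq c 102) [⟨30, 1, 1⟩] []) (cond (Nat.beq c 104) [⟨32, -1, 1⟩] []))) (cond (Nat.blt c 121) (cond (Nat.blt c 119) (cond (Nat.beq c 106) [⟨39, 1, 1⟩] []) (cond (Nat.beq c 119) [⟨44, -1, 1⟩] [])) (cond (Nat.blt c 126) (cond (Nat.beq c 121) [⟨46, 1, 1⟩] []) (cond (Nat.beq c 126) [⟨48, 1, 1⟩] [])))) (cond (Nat.blt c 140) (cond (Nat.blt c 133) (cond (Nat.blt c 131)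 (cond (Nat.beq c 128) [⟨50, 1, 1⟩] []) (cond (Nat.beq c 131) [⟨51, 1, 1⟩] [])) (cond (Nat.blt c 138) (cond (Nat.beq c 133) [⟨53, -1, 1⟩] []) (cond (Nat.beq c 138) [⟨55, 1, 1⟩] []))) (cond (Nat.blt c 144) (cond (Nat.blt c 142) (cond (Nat.beq c 140) [⟨60, -1, 1⟩] []) (cond (Nat.beq c 142) [⟨62, 1, 1⟩] [])) (cond (Nat.blt c 146) (cond (Nat.beq c 144) [⟨65, 1, 1⟩] []) (cond (Nat.beq c 146) [⟨70, -1, 1⟩] [])))))) (cond (Nat.blt c 206) (cond (Nat.blt c 185) (cond (Nat.blt c 172) (cond (Nat.blt c 163) (cond (Nat.blt c 161) (cond (Nat.beq c 148) [⟨72, 1, 1⟩] []) (cond (Nat.beq c 161) [⟨79, 1, 1⟩] [])) (cond (Nat.blt c 168) (cond (Nat.beq c 163) [⟨81, -1, 1⟩] []) (cond (Nat.beq c 168) [⟨83, 1, 1⟩] []))) (cond (Nat.blt c 176) (cond (Nat.blt c 174) (cond (Nat.beq c 172) [⟨87, -1, 1⟩] []) (cond (Nat.beq c 174)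 [⟨92, 1, 1⟩] [])) (cond (Nat.blt c 183) (cond (Nat.beq c 176) [⟨94, -1, 1⟩] []) (cond (Nat.beq c 183) [⟨107, -1, 1⟩] [])))) (cond (Nat.blt c 200) (cond (Nat.blt c 193) (cond (Nat.blt c 190) (cond (Nat.beq c 185) [⟨109, 1, 1⟩] []) (cond (Nat.beq c 190) [⟨111, -1, 1⟩] [])) (cond (Nat.blt c 195) (cond (Nat.beq c 193) [⟨113, -1, 1⟩] []) (cond (Nat.beq c 195) [⟨115, 1, 1⟩] []))) (cond (Nat.blt c 204) (cond (Nat.blt c 202) (cond (Nat.beq c 200) [⟨117, -1, 1⟩] []) (cond (Nat.beq c 202) [⟨122, 1, 1⟩] [])) (cond (Nat.blt c 205) (cond (Nat.beq c 204) [⟨124, -1, 1⟩] []) (cond (Nat.beq c 205) [⟨127, -1, 1⟩] []))))) (cond (Nat.blt c 230) (cond (Nat.blt c 216) (cond (Nat.blt c 209) (cond (Nat.blt c 207) (cond (Nat.beq c 206) [⟨49, -1, 2⟩, ⟨0, -1, 1⟩, ⟨1, -1, 1⟩, ⟨2, -2, 1⟩, ⟨3, -3, 1⟩, ⟨4, -2, 1⟩, ⟨5, -2, 1⟩,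 ⟨6, -1, 1⟩, ⟨7, -1, 1⟩] []) (cond (Nat.beq c 207) [⟨129, -1, 1⟩] [])) (cond (Nat.blt c 211) (cond (Nat.beq c 209) [⟨134, -1, 1⟩] []) (cond (Nat.beq c 211) [⟨136, 1, 1⟩] []))) (cond (Nat.blt c 225) (cond (Nat.blt c 223) (cond (Nat.beq c 216) [⟨149, -1, 1⟩] []) (cond (Nat.beq c 223) [⟨151, 1, 1⟩] [])) (cond (Nat.blt c 228) (cond (Nat.beq c 225) [⟨153, -1, 1⟩] []) (cond (Nat.beq c 228) [⟨156, 1, 1⟩] [])))) (cond (Nat.blt c 239) (cond (Nat.blt c 235) (cond (Nat.blt c 232) (cond (Nat.beq c 230) [⟨158, -1, 1⟩] []) (cond (Nat.beq c 232) [⟨165, 1, 1⟩] [])) (cond (Nat.blt c 237) (cond (Nat.beq c 235) [⟨178, -1, 1⟩] []) (cond (Nat.beq c 237) [⟨180, 1, 1⟩] []))) (cond (Nat.blt c 243) (cond (Nat.blt c 240) (cond (Nat.beq c 239) [⟨187, -1, 1⟩] []) (cond (Nat.beq c 240) [⟨197, -1, 1⟩] [])) (cond (Nat.blt c 245)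 (cond (Nat.beq c 243) [⟨213, 1, 1⟩] []) (cond (Nat.blt c 247) (cond (Nat.beq c 245) [⟨218, -1, 1⟩] []) (cond (Nat.beq c 247) [⟨220, 1, 1⟩] [])))))))

/-- Compiled columns of `x_42` for type E8. -/
def colsE8_42 (c : ℕ) : List CEnt :=
  cond (Nat.blt c 147) (cond (Nat.blt c 96) (cond (Nat.blt c 35) (cond (Nat.blt c 4) (cond (Nat.blt c 2) (cond (Nat.blt c 1) (cond (Nat.beq c 0) [⟨50, 0, 1⟩] []) (cond (Nat.beq c 1) [⟨50, -1, 1⟩] [])) (cond (Nat.blt c 3) (cond (Nat.beq c 2) [⟨50, 0, 1⟩] []) (cond (Nat.beq c 3) [⟨50, 1, 1⟩] []))) (cond (Nat.blt c 6) (cond (Nat.blt c 5) (cond (Nat.beq c 4) [⟨50, -1, 1⟩] []) (cond (Nat.beq c 5) [⟨50, 1, 1⟩] [])) (cond (Nat.blt c 7) (cond (Nat.beq c 6) [⟨50, 0, 1⟩] []) (cond (Nat.beq c 7) [⟨50, -1, 1⟩] [])))) (cond (Nat.blt c 67) (cond (Nat.blt c 41) (cond (Nat.blt c 36)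 (cond (Nat.beq c 35) [⟨9, -1, 1⟩] []) (cond (Nat.beq c 36) [⟨10, -1, 1⟩] [])) (cond (Nat.blt c 57) (cond (Nat.beq c 41) [⟨12, 1, 1⟩] []) (cond (Nat.beq c 57) [⟨15, -1, 1⟩] []))) (cond (Nat.blt c 77) (cond (Nat.blt c 74) (cond (Nat.beq c 67) [⟨16, -1, 1⟩] []) (cond (Nat.beq c 74) [⟨18, 1, 1⟩] [])) (cond (Nat.blt c 89) (cond (Nat.beq c 77) [⟨21, 1, 1⟩] []) (cond (Nat.beq c 89) [⟨23, 1, 1⟩] []))))) (cond (Nat.blt c 127) (cond (Nat.blt c 106) (cond (Nat.blt c 101) (cond (Nat.blt c 99) (cond (Nat.beq c 96) [⟨25, -1, 1⟩] []) (cond (Nat.beq c 99) [⟨28, -1, 1⟩] [])) (cond (Nat.blt c 104) (cond (Nat.beq c 101) [⟨30, -1, 1⟩] []) (cond (Nat.beq c 104) [⟨33, -1, 1⟩] []))) (cond (Nat.blt c 121) (cond (Nat.blt c 118) (cond (Nat.beq c 106) [⟨40, 1, 1⟩] []) (cond (Nat.beq c 118) [⟨44, 1, 1⟩] [])) (cond (Nat.blt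 c 125) (cond (Nat.beq c 121) [⟨47, 1, 1⟩] []) (cond (Nat.beq c 125) [⟨48, -1, 1⟩] [])))) (cond (Nat.blt c 140) (cond (Nat.blt c 132) (cond (Nat.blt c 131) (cond (Nat.beq c 127) [⟨49, 1, 1⟩] []) (cond (Nat.beq c 131) [⟨52, 1, 1⟩] [])) (cond (Nat.blt c 138) (cond (Nat.beq c 132) [⟨53, -1, 1⟩] []) (cond (Nat.beq c 138) [⟨56, 1, 1⟩] []))) (cond (Nat.blt c 144) (cond (Nat.blt c 141) (cond (Nat.beq c 140) [⟨61, -1, 1⟩] []) (cond (Nat.beq c 141) [⟨62, 1, 1⟩] [])) (cond (Nat.blt c 146) (cond (Nat.beq c 144) [⟨66, 1, 1⟩] []) (cond (Nat.beq c 146) [⟨71, -1, 1⟩] [])))))) (cond (Nat.blt c 206) (cond (Nat.blt c 184) (cond (Nat.blt c 172) (cond (Nat.blt c 162) (cond (Nat.blt c 161) (cond (Nat.beq c 147) [⟨72, 1, 1⟩] []) (cond (Nat.beq c 161) [⟨80, 1, 1⟩] [])) (cond (Nat.blt c 167) (cond (Nat.beq c 162) [⟨81,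 -1, 1⟩] []) (cond (Nat.beq c 167) [⟨83, 1, 1⟩] []))) (cond (Nat.blt c 175) (cond (Nat.blt c 174) (cond (Nat.beq c 172) [⟨88, -1, 1⟩] []) (cond (Nat.beq c 174) [⟨93, 1, 1⟩] [])) (cond (Nat.blt c 183) (cond (Nat.beq c 175) [⟨94, -1, 1⟩] []) (cond (Nat.beq c 183) [⟨108, -1, 1⟩] [])))) (cond (Nat.blt c 199) (cond (Nat.blt c 193) (cond (Nat.blt c 189) (cond (Nat.beq c 184) [⟨109, 1, 1⟩] []) (cond (Nat.beq c 189) [⟨111, -1, 1⟩] [])) (cond (Nat.blt c 194) (cond (Nat.beq c 193) [⟨114, -1, 1⟩] []) (cond (Nat.beq c 194) [⟨115, 1, 1⟩] []))) (cond (Nat.blt c 203) (cond (Nat.blt c 202) (cond (Nat.beq c 199) [⟨117, -1, 1⟩] []) (cond (Nat.beq c 202) [⟨123, 1, 1⟩] [])) (cond (Nat.blt c 205) (cond (Nat.beq c 203) [⟨124, -1, 1⟩] []) (cond (Nat.beq c 205) [⟨50, -1, 2⟩, ⟨0, -1, 1⟩, ⟨1, -1, 1⟩, ⟨2, -2, 1⟩, ⟨3, -3, 1⟩,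 ⟨4, -2, 1⟩, ⟨5, -2, 1⟩, ⟨6, -1, 1⟩, ⟨7, 0, 1⟩] []))))) (cond (Nat.blt c 230) (cond (Nat.blt c 215) (cond (Nat.blt c 208) (cond (Nat.blt c 207) (cond (Nat.beq c 206) [⟨128, -1, 1⟩] []) (cond (Nat.beq c 207) [⟨130, 1, 1⟩] [])) (cond (Nat.blt c 211) (cond (Nat.beq c 208) [⟨134, -1, 1⟩] []) (cond (Nat.beq c 211) [⟨137, -1, 1⟩] []))) (cond (Nat.blt c 225) (cond (Nat.blt c 222) (cond (Nat.beq c 215) [⟨149, -1, 1⟩] []) (cond (Nat.beq c 222) [⟨151, 1, 1⟩] [])) (cond (Nat.blt c 227) (cond (Nat.beq c 225) [⟨154, 1, 1⟩] []) (cond (Nat.beq c 227) [⟨156, 1, 1⟩] [])))) (cond (Nat.blt c 239) (cond (Nat.blt c 234) (cond (Nat.blt c 232) (cond (Nat.beq c 230) [⟨159, 1, 1⟩] []) (cond (Nat.beq c 232) [⟨166, -1, 1⟩] [])) (cond (Nat.blt c 237) (cond (Nat.beq c 234) [⟨178, -1, 1⟩] []) (cond (Nat.beq c 237) [⟨181, -1,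 1⟩] []))) (cond (Nat.blt c 243) (cond (Nat.blt c 240) (cond (Nat.beq c 239) [⟨188, 1, 1⟩] []) (cond (Nat.beq c 240) [⟨198, 1, 1⟩] [])) (cond (Nat.blt c 245) (cond (Nat.beq c 243) [⟨214, -1, 1⟩] []) (cond (Nat.blt c 246) (cond (Nat.beq c 245) [⟨219, 1, 1⟩] []) (cond (Nat.beq c 246) [⟨220, 1, 1⟩] [])))))))

/-- Compiled columns of `x_43` for type E8. -/
def colsE8_43 (c : ℕ) : List CEnt :=
  cond (Nat.blt c 148) (cond (Nat.blt c 97) (cond (Nat.blt c 34) (cond (Nat.blt c 4) (cond (Nat.blt c 2) (cond (Nat.blt c 1) (cond (Nat.beq c 0) [⟨51, 0, 1⟩] []) (cond (Nat.beq c 1) [⟨51, -1, 1⟩] [])) (cond (Nat.blt c 3) (cond (Nat.beq c 2) [⟨51, 0, 1⟩] []) (cond (Nat.beq c 3) [⟨51, 1, 1⟩] []))) (cond (Nat.blt c 6) (cond (Nat.blt c 5) (cond (Nat.beq c 4) [⟨51, 0, 1⟩] []) (cond (Nat.beq c 5) [⟨51, -1, 1⟩] [])) (cond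 (Nat.blt c 7) (cond (Nat.beq c 6) [⟨51, 0, 1⟩] []) (cond (Nat.beq c 7) [⟨51, 1, 1⟩] [])))) (cond (Nat.blt c 66) (cond (Nat.blt c 40) (cond (Nat.blt c 37) (cond (Nat.beq c 34) [⟨8, 1, 1⟩] []) (cond (Nat.beq c 37) [⟨11, 1, 1⟩] [])) (cond (Nat.blt c 56) (cond (Nat.beq c 40) [⟨12, 1, 1⟩] []) (cond (Nat.beq c 56) [⟨15, -1, 1⟩] []))) (cond (Nat.blt c 76) (cond (Nat.blt c 75) (cond (Nat.beq c 66) [⟨16, -1, 1⟩] []) (cond (Nat.beq c 75) [⟨19, -1, 1⟩] [])) (cond (Nat.blt c 88) (cond (Nat.beq c 76) [⟨20, -1, 1⟩] []) (cond (Nat.beq c 88) [⟨23, 1, 1⟩] []))))) (cond (Nat.blt c 124) (cond (Nat.blt c 106) (cond (Nat.blt c 102) (cond (Nat.blt c 98) (cond (Nat.beq c 97) [⟨26, 1, 1⟩] []) (cond (Nat.beq c 98) [⟨27, 1, 1⟩] [])) (cond (Nat.blt c 103) (cond (Nat.beq c 102) [⟨31, 1, 1⟩] []) (cond (Nat.beq c 103) [⟨32,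 1, 1⟩] []))) (cond (Nat.blt c 120) (cond (Nat.blt c 119) (cond (Nat.beq c 106) [⟨41, 1, 1⟩] []) (cond (Nat.beq c 119) [⟨45, -1, 1⟩] [])) (cond (Nat.blt c 123) (cond (Nat.beq c 120) [⟨46, -1, 1⟩] []) (cond (Nat.beq c 123) [⟨48, 1, 1⟩] [])))) (cond (Nat.blt c 139) (cond (Nat.blt c 130) (cond (Nat.blt c 128) (cond (Nat.beq c 124) [⟨49, 1, 1⟩] []) (cond (Nat.beq c 128) [⟨52, 1, 1⟩] [])) (cond (Nat.blt c 138) (cond (Nat.beq c 130) [⟨53, 1, 1⟩] []) (cond (Nat.beq c 138) [⟨57, 1, 1⟩] []))) (cond (Nat.blt c 144) (cond (Nat.blt c 142) (cond (Nat.beq c 139) [⟨60, -1, 1⟩] []) (cond (Nat.beq c 142) [⟨63, 1, 1⟩] [])) (cond (Nat.blt c 145) (cond (Nat.beq c 144) [⟨67, 1, 1⟩] []) (cond (Nat.beq c 145) [⟨70, -1, 1⟩] [])))))) (cond (Nat.blt c 206) (cond (Nat.blt c 185) (cond (Nat.blt c 172) (cond (Nat.blt c 163)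 (cond (Nat.blt c 160) (cond (Nat.beq c 148) [⟨73, 1, 1⟩] []) (cond (Nat.beq c 160) [⟨79, 1, 1⟩] [])) (cond (Nat.blt c 166) (cond (Nat.beq c 163) [⟨82, -1, 1⟩] []) (cond (Nat.beq c 166) [⟨83, 1, 1⟩] []))) (cond (Nat.blt c 176) (cond (Nat.blt c 173) (cond (Nat.beq c 172) [⟨89, -1, 1⟩] []) (cond (Nat.beq c 173) [⟨92, 1, 1⟩] [])) (cond (Nat.blt c 182) (cond (Nat.beq c 176) [⟨95, -1, 1⟩] []) (cond (Nat.beq c 182) [⟨107, -1, 1⟩] [])))) (cond (Nat.blt c 198) (cond (Nat.blt c 192) (cond (Nat.blt c 188) (cond (Nat.beq c 185) [⟨110, 1, 1⟩] []) (cond (Nat.beq c 188) [⟨111, -1, 1⟩] [])) (cond (Nat.blt c 195) (cond (Nat.beq c 192) [⟨113, -1, 1⟩] []) (cond (Nat.beq c 195) [⟨116, 1, 1⟩] []))) (cond (Nat.blt c 203) (cond (Nat.blt c 202) (cond (Nat.beq c 198) [⟨117, -1, 1⟩] []) (cond (Nat.beq c 202) [⟨125, -1, 1⟩]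 [])) (cond (Nat.blt c 204) (cond (Nat.beq c 203) [⟨127, -1, 1⟩] []) (cond (Nat.beq c 204) [⟨51, -1, 2⟩, ⟨0, -1, 1⟩, ⟨1, -1, 1⟩, ⟨2, -2, 1⟩, ⟨3, -3, 1⟩, ⟨4, -2, 1⟩, ⟨5, -1, 1⟩, ⟨6, -1, 1⟩, ⟨7, -1, 1⟩] []))))) (cond (Nat.blt c 229) (cond (Nat.blt c 214) (cond (Nat.blt c 209) (cond (Nat.blt c 207) (cond (Nat.beq c 206) [⟨131, -1, 1⟩] []) (cond (Nat.beq c 207) [⟨132, -1, 1⟩] [])) (cond (Nat.blt c 210) (cond (Nat.beq c 209) [⟨135, 1, 1⟩] []) (cond (Nat.beq c 210) [⟨136, 1, 1⟩] []))) (cond (Nat.blt c 224) (cond (Nat.blt c 223) (cond (Nat.beq c 214) [⟨149, -1, 1⟩] []) (cond (Nat.beq c 223) [⟨152, -1, 1⟩] [])) (cond (Nat.blt c 228) (cond (Nat.beq c 224) [⟨153, -1, 1⟩] []) (cond (Nat.beq c 228) [⟨157, -1, 1⟩] [])))) (cond (Nat.blt c 239) (cond (Nat.blt c 235) (cond (Nat.blt c 232) (cond (Nat.beq c 229) [⟨158,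 -1, 1⟩] []) (cond (Nat.beq c 232) [⟨167, -1, 1⟩] [])) (cond (Nat.blt c 236) (cond (Nat.beq c 235) [⟨179, 1, 1⟩] []) (cond (Nat.beq c 236) [⟨180, 1, 1⟩] []))) (cond (Nat.blt c 243) (cond (Nat.blt c 240) (cond (Nat.beq c 239) [⟨189, 1, 1⟩] []) (cond (Nat.beq c 240) [⟨199, 1, 1⟩] [])) (cond (Nat.blt c 244) (cond (Nat.beq c 243) [⟨215, -1, 1⟩] []) (cond (Nat.blt c 247) (cond (Nat.beq c 244) [⟨218, -1, 1⟩] []) (cond (Nat.beq c 247) [⟨221, -1, 1⟩] [])))))))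

/-- Compiled columns of `x_44` for type E8. -/
def colsE8_44 (c : ℕ) : List CEnt :=
  cond (Nat.blt c 147) (cond (Nat.blt c 96) (cond (Nat.blt c 34) (cond (Nat.blt c 4) (cond (Nat.blt c 2) (cond (Nat.blt c 1) (cond (Nat.beq c 0) [⟨52, 0, 1⟩] []) (cond (Nat.beq c 1) [⟨52, -1, 1⟩] [])) (cond (Nat.blt c 3) (cond (Nat.beq c 2) [⟨52, 0, 1⟩] []) (cond (Nat.beq c 3) [⟨52, 1, 1⟩] []))) (cond (Nat.blt c 6) (cond (Nat.blt c 5) (cond (Nat.beq c 4) [⟨52, 0, 1⟩] []) (cond (Nat.beq c 5) [⟨52, -1, 1⟩] [])) (cond (Nat.blt c 7) (cond (Nat.beq c 6) [⟨52, 1, 1⟩] []) (cond (Nat.beq c 7) [⟨52, -1, 1⟩] [])))) (cond (Nat.blt c 65) (cond (Nat.blt c 39) (cond (Nat.blt c 36) (cond (Nat.beq c 34) [⟨9, 1, 1⟩] []) (cond (Nat.beq c 36) [⟨11, -1, 1⟩] [])) (cond (Nat.blt c 55) (cond (Nat.beq c 39) [⟨12, -1, 1⟩] []) (cond (Nat.beq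 c 55) [⟨15, 1, 1⟩] []))) (cond (Nat.blt c 76) (cond (Nat.blt c 74) (cond (Nat.beq c 65) [⟨16, 1, 1⟩] []) (cond (Nat.beq c 74) [⟨19, 1, 1⟩] [])) (cond (Nat.blt c 87) (cond (Nat.beq c 76) [⟨21, -1, 1⟩] []) (cond (Nat.beq c 87) [⟨23, -1, 1⟩] []))))) (cond (Nat.blt c 124) (cond (Nat.blt c 106) (cond (Nat.blt c 101) (cond (Nat.blt c 98) (cond (Nat.beq c 96) [⟨26, -1, 1⟩] []) (cond (Nat.beq c 98) [⟨28, 1, 1⟩] [])) (cond (Nat.blt c 103) (cond (Nat.beq c 101) [⟨31, -1, 1⟩] []) (cond (Nat.beq c 103) [⟨33, 1, 1⟩] []))) (cond (Nat.blt c 120) (cond (Nat.blt c 118) (cond (Nat.beq c 106) [⟨42, 1, 1⟩] []) (cond (Nat.beq c 118) [⟨45, 1, 1⟩] [])) (cond (Nat.blt c 122) (cond (Nat.beq c 120) [⟨47, -1, 1⟩] []) (cond (Nat.beq c 122) [⟨48, -1, 1⟩] [])))) (cond (Nat.blt c 139) (cond (Nat.blt c 129) (cond (Nat.blt c 127)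 (cond (Nat.beq c 124) [⟨50, 1, 1⟩] []) (cond (Nat.beq c 127) [⟨51, 1, 1⟩] [])) (cond (Nat.blt c 138) (cond (Nat.beq c 129) [⟨53, 1, 1⟩] []) (cond (Nat.beq c 138) [⟨58, 1, 1⟩] []))) (cond (Nat.blt c 144) (cond (Nat.blt c 141) (cond (Nat.beq c 139) [⟨61, -1, 1⟩] []) (cond (Nat.beq c 141) [⟨63, 1, 1⟩] [])) (cond (Nat.blt c 145) (cond (Nat.beq c 144) [⟨68, 1, 1⟩] []) (cond (Nat.beq c 145) [⟨71, -1, 1⟩] [])))))) (cond (Nat.blt c 205) (cond (Nat.blt c 184) (cond (Nat.blt c 172) (cond (Nat.blt c 162) (cond (Nat.blt c 160) (cond (Nat.beq c 147) [⟨73, 1, 1⟩] []) (cond (Nat.beq c 160) [⟨80, 1, 1⟩] [])) (cond (Nat.blt c 165) (cond (Nat.beq c 162) [⟨82, -1, 1⟩] []) (cond (Nat.beq c 165) [⟨83, 1, 1⟩] []))) (cond (Nat.blt c 175) (cond (Nat.blt c 173) (cond (Nat.beq c 172) [⟨90, -1, 1⟩] []) (cond (Nat.beq c 173)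 [⟨93, 1, 1⟩] [])) (cond (Nat.blt c 182) (cond (Nat.beq c 175) [⟨95, -1, 1⟩] []) (cond (Nat.beq c 182) [⟨108, -1, 1⟩] [])))) (cond (Nat.blt c 197) (cond (Nat.blt c 192) (cond (Nat.blt c 187) (cond (Nat.beq c 184) [⟨110, 1, 1⟩] []) (cond (Nat.beq c 187) [⟨111, -1, 1⟩] [])) (cond (Nat.blt c 194) (cond (Nat.beq c 192) [⟨114, -1, 1⟩] []) (cond (Nat.beq c 194) [⟨116, 1, 1⟩] []))) (cond (Nat.blt c 203) (cond (Nat.blt c 202) (cond (Nat.beq c 197) [⟨117, -1, 1⟩] []) (cond (Nat.beq c 202) [⟨126, -1, 1⟩] [])) (cond (Nat.blt c 204) (cond (Nat.beq c 203) [⟨52, -1, 2⟩, ⟨0, -1, 1⟩, ⟨1, -1, 1⟩, ⟨2, -2, 1⟩, ⟨3, -3, 1⟩, ⟨4, -2, 1⟩, ⟨5, -1, 1⟩, ⟨6, -1, 1⟩, ⟨7, 0, 1⟩] []) (cond (Nat.beq c 204) [⟨128, -1, 1⟩] []))))) (cond (Nat.blt c 229) (cond (Nat.blt c 213) (cond (Nat.blt c 208) (cond (Nat.blt c 207) (cond (Nat.beq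 c 205) [⟨131, -1, 1⟩] []) (cond (Nat.beq c 207) [⟨133, 1, 1⟩] [])) (cond (Nat.blt c 210) (cond (Nat.beq c 208) [⟨135, 1, 1⟩] []) (cond (Nat.beq c 210) [⟨137, -1, 1⟩] []))) (cond (Nat.blt c 224) (cond (Nat.blt c 222) (cond (Nat.beq c 213) [⟨149, -1, 1⟩] []) (cond (Nat.beq c 222) [⟨152, -1, 1⟩] [])) (cond (Nat.blt c 227) (cond (Nat.beq c 224) [⟨154, 1, 1⟩] []) (cond (Nat.beq c 227) [⟨157, -1, 1⟩] [])))) (cond (Nat.blt c 239) (cond (Nat.blt c 234) (cond (Nat.blt c 232) (cond (Nat.beq c 229) [⟨159, 1, 1⟩] []) (cond (Nat.beq c 232) [⟨168, 1, 1⟩] [])) (cond (Nat.blt c 236) (cond (Nat.beq c 234) [⟨179, 1, 1⟩] []) (cond (Nat.beq c 236) [⟨181, -1, 1⟩] []))) (cond (Nat.blt c 243) (cond (Nat.blt c 240) (cond (Nat.beq c 239) [⟨190, -1, 1⟩] []) (cond (Nat.beq c 240) [⟨200, -1, 1⟩] [])) (cond (Nat.blt c 244)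 (cond (Nat.beq c 243) [⟨216, 1, 1⟩] []) (cond (Nat.blt c 246) (cond (Nat.beq c 244) [⟨219, 1, 1⟩] []) (cond (Nat.beq c 246) [⟨221, -1, 1⟩] [])))))))

/-- Compiled columns of `x_45` for type E8. -/
def colsE8_45 (c : ℕ) : List CEnt :=
  cond (Nat.blt c 146) (cond (Nat.blt c 96) (cond (Nat.blt c 34) (cond (Nat.blt c 4) (cond (Nat.blt c 2) (cond (Nat.blt c 1) (cond (Nat.beq c 0) [⟨53, 0, 1⟩] []) (cond (Nat.beq c 1) [⟨53, -1, 1⟩] [])) (cond (Nat.blt c 3) (cond (Nat.beq c 2) [⟨53, 0, 1⟩] []) (cond (Nat.beq c 3) [⟨53, 1, 1⟩] []))) (cond (Nat.blt c 6) (cond (Nat.blt c 5) (cond (Nat.beq c 4) [⟨53, 0, 1⟩] []) (cond (Nat.beq c 5) [⟨53, 0, 1⟩] [])) (cond (Nat.blt c 7) (cond (Nat.beq c 6) [⟨53, -1, 1⟩] []) (cond (Nat.beq c 7) [⟨53, 0, 1⟩] [])))) (cond (Nat.blt c 64) (cond (Nat.blt c 38) (cond (Nat.blt c 35)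 (cond (Nat.beq c 34) [⟨10, 1, 1⟩] []) (cond (Nat.beq c 35) [⟨11, 1, 1⟩] [])) (cond (Nat.blt c 54) (cond (Nat.beq c 38) [⟨12, 1, 1⟩] []) (cond (Nat.beq c 54) [⟨15, -1, 1⟩] []))) (cond (Nat.blt c 75) (cond (Nat.blt c 74) (cond (Nat.beq c 64) [⟨16, -1, 1⟩] []) (cond (Nat.beq c 74) [⟨20, 1, 1⟩] [])) (cond (Nat.blt c 86) (cond (Nat.beq c 75) [⟨21, 1, 1⟩] []) (cond (Nat.beq c 86) [⟨23, 1, 1⟩] []))))) (cond (Nat.blt c 123) (cond (Nat.blt c 106) (cond (Nat.blt c 101) (cond (Nat.blt c 97) (cond (Nat.beq c 96) [⟨27, -1, 1⟩] []) (cond (Nat.beq c 97) [⟨28, -1, 1⟩] [])) (cond (Nat.blt c 102) (cond (Nat.beq c 101) [⟨32, -1, 1⟩] []) (cond (Nat.beq c 102) [⟨33, -1, 1⟩] []))) (cond (Nat.blt c 119) (cond (Nat.blt c 118) (cond (Nat.beq c 106) [⟨43, 1, 1⟩] []) (cond (Nat.beq c 118) [⟨46, 1, 1⟩] [])) (cond (Nat.blt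 c 122) (cond (Nat.beq c 119) [⟨47, 1, 1⟩] []) (cond (Nat.beq c 122) [⟨49, -1, 1⟩] [])))) (cond (Nat.blt c 139) (cond (Nat.blt c 126) (cond (Nat.blt c 125) (cond (Nat.beq c 123) [⟨50, -1, 1⟩] []) (cond (Nat.beq c 125) [⟨51, 1, 1⟩] [])) (cond (Nat.blt c 138) (cond (Nat.beq c 126) [⟨52, 1, 1⟩] []) (cond (Nat.beq c 138) [⟨59, 1, 1⟩] []))) (cond (Nat.blt c 144) (cond (Nat.blt c 140) (cond (Nat.beq c 139) [⟨62, -1, 1⟩] []) (cond (Nat.beq c 140) [⟨63, 1, 1⟩] [])) (cond (Nat.blt c 145) (cond (Nat.beq c 144) [⟨69, 1, 1⟩] []) (cond (Nat.beq c 145) [⟨72, -1, 1⟩] [])))))) (cond (Nat.blt c 205) (cond (Nat.blt c 183) (cond (Nat.blt c 172) (cond (Nat.blt c 161) (cond (Nat.blt c 160) (cond (Nat.beq c 146) [⟨73, 1, 1⟩] []) (cond (Nat.beq c 160) [⟨81, 1, 1⟩] [])) (cond (Nat.blt c 164) (cond (Nat.beq c 161) [⟨82,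 -1, 1⟩] []) (cond (Nat.beq c 164) [⟨83, 1, 1⟩] []))) (cond (Nat.blt c 174) (cond (Nat.blt c 173) (cond (Nat.beq c 172) [⟨91, -1, 1⟩] []) (cond (Nat.beq c 173) [⟨94, 1, 1⟩] [])) (cond (Nat.blt c 182) (cond (Nat.beq c 174) [⟨95, -1, 1⟩] []) (cond (Nat.beq c 182) [⟨109, -1, 1⟩] [])))) (cond (Nat.blt c 196) (cond (Nat.blt c 192) (cond (Nat.blt c 186) (cond (Nat.beq c 183) [⟨110, 1, 1⟩] []) (cond (Nat.beq c 186) [⟨111, -1, 1⟩] [])) (cond (Nat.blt c 193) (cond (Nat.beq c 192) [⟨115, -1, 1⟩] []) (cond (Nat.beq c 193) [⟨116, 1, 1⟩] []))) (cond (Nat.blt c 203) (cond (Nat.blt c 202) (cond (Nat.beq c 196) [⟨117, -1, 1⟩] []) (cond (Nat.beq c 202) [⟨53, -1, 2⟩, ⟨0, -1, 1⟩, ⟨1, -1, 1⟩, ⟨2, -2, 1⟩, ⟨3, -3, 1⟩, ⟨4, -2, 1⟩, ⟨5, -1, 1⟩, ⟨6, 0, 1⟩, ⟨7, 0, 1⟩] [])) (cond (Nat.blt c 204) (cond (Nat.beq c 203) [⟨129,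 -1, 1⟩] []) (cond (Nat.beq c 204) [⟨130, -1, 1⟩] []))))) (cond (Nat.blt c 228) (cond (Nat.blt c 212) (cond (Nat.blt c 208) (cond (Nat.blt c 206) (cond (Nat.beq c 205) [⟨132, 1, 1⟩] []) (cond (Nat.beq c 206) [⟨133, 1, 1⟩] [])) (cond (Nat.blt c 209) (cond (Nat.beq c 208) [⟨136, -1, 1⟩] []) (cond (Nat.beq c 209) [⟨137, -1, 1⟩] []))) (cond (Nat.blt c 223) (cond (Nat.blt c 222) (cond (Nat.beq c 212) [⟨149, -1, 1⟩] []) (cond (Nat.beq c 222) [⟨153, 1, 1⟩] [])) (cond (Nat.blt c 227) (cond (Nat.beq c 223) [⟨154, 1, 1⟩] []) (cond (Nat.beq c 227) [⟨158, 1, 1⟩] [])))) (cond (Nat.blt c 239) (cond (Nat.blt c 234) (cond (Nat.blt c 232) (cond (Nat.beq c 228) [⟨159, 1, 1⟩] []) (cond (Nat.beq c 232) [⟨169, -1, 1⟩] [])) (cond (Nat.blt c 235) (cond (Nat.beq c 234) [⟨180, -1, 1⟩] []) (cond (Nat.beq c 235) [⟨181, -1,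 1⟩] []))) (cond (Nat.blt c 243) (cond (Nat.blt c 240) (cond (Nat.beq c 239) [⟨191, 1, 1⟩] []) (cond (Nat.beq c 240) [⟨201, 1, 1⟩] [])) (cond (Nat.blt c 244) (cond (Nat.beq c 243) [⟨217, -1, 1⟩] []) (cond (Nat.blt c 245) (cond (Nat.beq c 244) [⟨220, -1, 1⟩] []) (cond (Nat.beq c 245) [⟨221, -1, 1⟩] [])))))))

/-- Compiled columns of `x_46` for type E8. -/
def colsE8_46 (c : ℕ) : List CEnt :=
  cond (Nat.blt c 148) (cond (Nat.blt c 94) (cond (Nat.blt c 32) (cond (Nat.blt c 4) (cond (Nat.blt c 2) (cond (Nat.blt c 1) (cond (Nat.beq c 0) [⟨54, 0, 1⟩] []) (cond (Nat.beq c 1) [⟨54, 0, 1⟩] [])) (cond (Nat.blt c 3) (cond (Nat.beq c 2) [⟨54, 1, 1⟩] []) (cond (Nat.beq c 3) [⟨54, -1, 1⟩] []))) (cond (Nat.blt c 6) (cond (Nat.blt c 5) (cond (Nat.beq c 4) [⟨54, 0, 1⟩] []) (cond (Nat.beq c 5) [⟨54, 0, 1⟩] [])) (cond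 (Nat.blt c 7) (cond (Nat.beq c 6) [⟨54, 1, 1⟩] []) (cond (Nat.beq c 7) [⟨54, 0, 1⟩] [])))) (cond (Nat.blt c 69) (cond (Nat.blt c 43) (cond (Nat.blt c 33) (cond (Nat.beq c 32) [⟨8, -1, 1⟩] []) (cond (Nat.beq c 33) [⟨9, -1, 1⟩] [])) (cond (Nat.blt c 53) (cond (Nat.beq c 43) [⟨13, 1, 1⟩] []) (cond (Nat.beq c 53) [⟨15, 1, 1⟩] []))) (cond (Nat.blt c 73) (cond (Nat.blt c 72) (cond (Nat.beq c 69) [⟨17, -1, 1⟩] []) (cond (Nat.beq c 72) [⟨18, -1, 1⟩] [])) (cond (Nat.blt c 91) (cond (Nat.beq c 73) [⟨19, -1, 1⟩] []) (cond (Nat.beq c 91) [⟨24, 1, 1⟩] []))))) (cond (Nat.blt c 129) (cond (Nat.blt c 105) (cond (Nat.blt c 103) (cond (Nat.blt c 95) (cond (Nat.beq c 94) [⟨25, 1, 1⟩] []) (cond (Nat.beq c 95) [⟨26, 1, 1⟩] [])) (cond (Nat.blt c 104) (cond (Nat.beq c 103) [⟨34, -1, 1⟩] []) (cond (Nat.beq c 104) [⟨35,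 -1, 1⟩] []))) (cond (Nat.blt c 116) (cond (Nat.blt c 115) (cond (Nat.beq c 105) [⟨38, -1, 1⟩] []) (cond (Nat.beq c 115) [⟨44, 1, 1⟩] [])) (cond (Nat.blt c 117) (cond (Nat.beq c 116) [⟨45, 1, 1⟩] []) (cond (Nat.beq c 117) [⟨48, 1, 1⟩] [])))) (cond (Nat.blt c 136) (cond (Nat.blt c 132) (cond (Nat.blt c 130) (cond (Nat.beq c 129) [⟨55, 1, 1⟩] []) (cond (Nat.beq c 130) [⟨56, -1, 1⟩] [])) (cond (Nat.blt c 133) (cond (Nat.beq c 132) [⟨57, 1, 1⟩] []) (cond (Nat.beq c 133) [⟨58, -1, 1⟩] []))) (cond (Nat.blt c 143) (cond (Nat.blt c 137) (cond (Nat.beq c 136) [⟨60, 1, 1⟩] []) (cond (Nat.beq c 137) [⟨61, -1, 1⟩] [])) (cond (Nat.blt c 147) (cond (Nat.beq c 143) [⟨64, 1, 1⟩] []) (cond (Nat.beq c 147) [⟨74, -1, 1⟩] [])))))) (cond (Nat.blt c 201) (cond (Nat.blt c 181) (cond (Nat.blt c 171) (cond (Nat.blt c 159)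 (cond (Nat.blt c 158) (cond (Nat.beq c 148) [⟨75, 1, 1⟩] []) (cond (Nat.beq c 158) [⟨79, 1, 1⟩] [])) (cond (Nat.blt c 169) (cond (Nat.beq c 159) [⟨80, -1, 1⟩] []) (cond (Nat.beq c 169) [⟨84, 1, 1⟩] []))) (cond (Nat.blt c 176) (cond (Nat.blt c 175) (cond (Nat.beq c 171) [⟨86, -1, 1⟩] []) (cond (Nat.beq c 175) [⟨96, 1, 1⟩] [])) (cond (Nat.blt c 180) (cond (Nat.beq c 176) [⟨97, -1, 1⟩] []) (cond (Nat.beq c 180) [⟨107, -1, 1⟩] [])))) (cond (Nat.blt c 197) (cond (Nat.blt c 194) (cond (Nat.blt c 191) (cond (Nat.beq c 181) [⟨108, 1, 1⟩] []) (cond (Nat.beq c 191) [⟨112, -1, 1⟩] [])) (cond (Nat.blt c 195) (cond (Nat.beq c 194) [⟨118, 1, 1⟩] []) (cond (Nat.beq c 195) [⟨119, -1, 1⟩] []))) (cond (Nat.blt c 199) (cond (Nat.blt c 198) (cond (Nat.beq c 197) [⟨122, 1, 1⟩] []) (cond (Nat.beq c 198) [⟨123, -1, 1⟩]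 [])) (cond (Nat.blt c 200) (cond (Nat.beq c 199) [⟨125, 1, 1⟩] []) (cond (Nat.beq c 200) [⟨126, -1, 1⟩] []))))) (cond (Nat.blt c 230) (cond (Nat.blt c 217) (cond (Nat.blt c 210) (cond (Nat.blt c 207) (cond (Nat.beq c 201) [⟨54, -1, 2⟩, ⟨0, -1, 1⟩, ⟨1, -1, 1⟩, ⟨2, -2, 1⟩, ⟨3, -2, 1⟩, ⟨4, -2, 1⟩, ⟨5, -2, 1⟩, ⟨6, -2, 1⟩, ⟨7, -1, 1⟩] []) (cond (Nat.beq c 207) [⟨138, -1, 1⟩] [])) (cond (Nat.blt c 211) (cond (Nat.beq c 210) [⟨139, -1, 1⟩] []) (cond (Nat.beq c 211) [⟨140, -1, 1⟩] []))) (cond (Nat.blt c 221) (cond (Nat.blt c 220) (cond (Nat.beq c 217) [⟨150, 1, 1⟩] []) (cond (Nat.beq c 220) [⟨151, 1, 1⟩] [])) (cond (Nat.blt c 229) (cond (Nat.beq c 221) [⟨152, 1, 1⟩] []) (cond (Nat.beq c 229) [⟨160, -1, 1⟩] [])))) (cond (Nat.blt c 238) (cond (Nat.blt c 236) (cond (Nat.blt c 231) (cond (Nat.beq c 230) [⟨161,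 -1, 1⟩] []) (cond (Nat.beq c 231) [⟨164, -1, 1⟩] [])) (cond (Nat.blt c 237) (cond (Nat.beq c 236) [⟨182, 1, 1⟩] []) (cond (Nat.beq c 237) [⟨183, 1, 1⟩] []))) (cond (Nat.blt c 242) (cond (Nat.blt c 240) (cond (Nat.beq c 238) [⟨186, 1, 1⟩] []) (cond (Nat.beq c 240) [⟨202, -1, 1⟩] [])) (cond (Nat.blt c 246) (cond (Nat.beq c 242) [⟨212, -1, 1⟩] []) (cond (Nat.blt c 247) (cond (Nat.beq c 246) [⟨222, 1, 1⟩] []) (cond (Nat.beq c 247) [⟨223, 1, 1⟩] [])))))))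

/-- Compiled columns of `x_47` for type E8. -/
def colsE8_47 (c : ℕ) : List CEnt :=
  cond (Nat.blt c 148) (cond (Nat.blt c 93) (cond (Nat.blt c 31) (cond (Nat.blt c 4) (cond (Nat.blt c 2) (cond (Nat.blt c 1) (cond (Nat.beq c 0) [⟨55, 0, 1⟩] []) (cond (Nat.beq c 1) [⟨55, 0, 1⟩] [])) (cond (Nat.blt c 3) (cond (Nat.beq c 2) [⟨55, 1, 1⟩] []) (cond (Nat.beq c 3) [⟨55, -1, 1⟩] []))) (cond (Nat.blt c 6) (cond (Nat.blt c 5) (cond (Nat.beq c 4) [⟨55, 0, 1⟩] []) (cond (Nat.beq c 5) [⟨55, 1, 1⟩] [])) (cond (Nat.blt c 7) (cond (Nat.beq c 6) [⟨55, -1, 1⟩] []) (cond (Nat.beq c 7) [⟨55, 1, 1⟩] [])))) (cond (Nat.blt c 68) (cond (Nat.blt c 42) (cond (Nat.blt c 33) (cond (Nat.beq c 31) [⟨8, 1, 1⟩] []) (cond (Nat.beq c 33) [⟨10, -1, 1⟩] [])) (cond (Nat.blt c 52) (cond (Nat.beq c 42) [⟨13, -1, 1⟩] []) (cond (Nat.beq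 c 52) [⟨15, -1, 1⟩] []))) (cond (Nat.blt c 73) (cond (Nat.blt c 71) (cond (Nat.beq c 68) [⟨17, 1, 1⟩] []) (cond (Nat.beq c 71) [⟨18, 1, 1⟩] [])) (cond (Nat.blt c 90) (cond (Nat.beq c 73) [⟨20, -1, 1⟩] []) (cond (Nat.beq c 90) [⟨24, -1, 1⟩] []))))) (cond (Nat.blt c 126) (cond (Nat.blt c 105) (cond (Nat.blt c 102) (cond (Nat.blt c 95) (cond (Nat.beq c 93) [⟨25, -1, 1⟩] []) (cond (Nat.beq c 95) [⟨27, 1, 1⟩] [])) (cond (Nat.blt c 104) (cond (Nat.beq c 102) [⟨34, 1, 1⟩] []) (cond (Nat.beq c 104) [⟨36, -1, 1⟩] []))) (cond (Nat.blt c 116) (cond (Nat.blt c 114) (cond (Nat.beq c 105) [⟨39, -1, 1⟩] []) (cond (Nat.beq c 114) [⟨44, -1, 1⟩] [])) (cond (Nat.blt c 117) (cond (Nat.beq c 116) [⟨46, 1, 1⟩] []) (cond (Nat.beq c 117) [⟨49, 1, 1⟩] [])))) (cond (Nat.blt c 135) (cond (Nat.blt c 131) (cond (Nat.blt c 128)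 (cond (Nat.beq c 126) [⟨54, 1, 1⟩] []) (cond (Nat.beq c 128) [⟨56, 1, 1⟩] [])) (cond (Nat.blt c 133) (cond (Nat.beq c 131) [⟨57, 1, 1⟩] []) (cond (Nat.beq c 133) [⟨59, -1, 1⟩] []))) (cond (Nat.blt c 143) (cond (Nat.blt c 137) (cond (Nat.beq c 135) [⟨60, 1, 1⟩] []) (cond (Nat.beq c 137) [⟨62, -1, 1⟩] [])) (cond (Nat.blt c 146) (cond (Nat.beq c 143) [⟨65, 1, 1⟩] []) (cond (Nat.beq c 146) [⟨74, -1, 1⟩] [])))))) (cond (Nat.blt c 201) (cond (Nat.blt c 181) (cond (Nat.blt c 171) (cond (Nat.blt c 159) (cond (Nat.blt c 157) (cond (Nat.beq c 148) [⟨76, 1, 1⟩] []) (cond (Nat.beq c 157) [⟨79, 1, 1⟩] [])) (cond (Nat.blt c 168) (cond (Nat.beq c 159) [⟨81, -1, 1⟩] []) (cond (Nat.beq c 168) [⟨84, 1, 1⟩] []))) (cond (Nat.blt c 176) (cond (Nat.blt c 174) (cond (Nat.beq c 171) [⟨87, -1, 1⟩] []) (cond (Nat.beq c 174)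 [⟨96, 1, 1⟩] [])) (cond (Nat.blt c 179) (cond (Nat.beq c 176) [⟨98, -1, 1⟩] []) (cond (Nat.beq c 179) [⟨107, -1, 1⟩] [])))) (cond (Nat.blt c 196) (cond (Nat.blt c 193) (cond (Nat.blt c 190) (cond (Nat.beq c 181) [⟨109, 1, 1⟩] []) (cond (Nat.beq c 190) [⟨112, -1, 1⟩] [])) (cond (Nat.blt c 195) (cond (Nat.beq c 193) [⟨118, 1, 1⟩] []) (cond (Nat.beq c 195) [⟨120, -1, 1⟩] []))) (cond (Nat.blt c 199) (cond (Nat.blt c 198) (cond (Nat.beq c 196) [⟨122, 1, 1⟩] []) (cond (Nat.beq c 198) [⟨124, -1, 1⟩] [])) (cond (Nat.blt c 200) (cond (Nat.beq c 199) [⟨127, -1, 1⟩] []) (cond (Nat.beq c 200) [⟨55, -1, 2⟩, ⟨0, -1, 1⟩, ⟨1, -1, 1⟩, ⟨2, -2, 1⟩, ⟨3, -2, 1⟩, ⟨4, -2, 1⟩, ⟨5, -2, 1⟩, ⟨6, -1, 1⟩, ⟨7, -1, 1⟩] []))))) (cond (Nat.blt c 230) (cond (Nat.blt c 216) (cond (Nat.blt c 209) (cond (Nat.blt c 206) (cond (Nat.beq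 c 201) [⟨129, -1, 1⟩] []) (cond (Nat.beq c 206) [⟨138, -1, 1⟩] [])) (cond (Nat.blt c 211) (cond (Nat.beq c 209) [⟨139, -1, 1⟩] []) (cond (Nat.beq c 211) [⟨141, 1, 1⟩] []))) (cond (Nat.blt c 221) (cond (Nat.blt c 219) (cond (Nat.beq c 216) [⟨150, 1, 1⟩] []) (cond (Nat.beq c 219) [⟨151, 1, 1⟩] [])) (cond (Nat.blt c 228) (cond (Nat.beq c 221) [⟨153, -1, 1⟩] []) (cond (Nat.beq c 228) [⟨160, -1, 1⟩] [])))) (cond (Nat.blt c 238) (cond (Nat.blt c 235) (cond (Nat.blt c 231) (cond (Nat.beq c 230) [⟨162, 1, 1⟩] []) (cond (Nat.beq c 231) [⟨165, 1, 1⟩] [])) (cond (Nat.blt c 237) (cond (Nat.beq c 235) [⟨182, 1, 1⟩] []) (cond (Nat.beq c 237) [⟨184, -1, 1⟩] []))) (cond (Nat.blt c 242) (cond (Nat.blt c 240) (cond (Nat.beq c 238) [⟨187, -1, 1⟩] []) (cond (Nat.beq c 240) [⟨203, 1, 1⟩] [])) (cond (Nat.blt c 245) (cond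 (Nat.beq c 242) [⟨213, 1, 1⟩] []) (cond (Nat.blt c 247) (cond (Nat.beq c 245) [⟨222, 1, 1⟩] []) (cond (Nat.beq c 247) [⟨224, -1, 1⟩] [])))))))

/-- Compiled columns of `x_48` for type E8. -/
def colsE8_48 (c : ℕ) : List CEnt :=
  cond (Nat.blt c 147) (cond (Nat.blt c 92) (cond (Nat.blt c 31) (cond (Nat.blt c 4) (cond (Nat.blt c 2) (cond (Nat.blt c 1) (cond (Nat.beq c 0) [⟨56, 0, 1⟩] []) (cond (Nat.beq c 1) [⟨56, 0, 1⟩] [])) (cond (Nat.blt c 3) (cond (Nat.beq c 2) [⟨56, 1, 1⟩] []) (cond (Nat.beq c 3) [⟨56, -1, 1⟩] []))) (cond (Nat.blt c 6) (cond (Nat.blt c 5) (cond (Nat.beq c 4) [⟨56, 0, 1⟩] []) (cond (Nat.beq c 5) [⟨56, 1, 1⟩] [])) (cond (Nat.blt c 7) (cond (Nat.beq c 6) [⟨56, 0, 1⟩] []) (cond (Nat.beq c 7) [⟨56, -1, 1⟩] [])))) (cond (Nat.blt c 67) (cond (Nat.blt c 41) (cond (Nat.blt c 32) (cond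 (Nat.beq c 31) [⟨9, 1, 1⟩] []) (cond (Nat.beq c 32) [⟨10, 1, 1⟩] [])) (cond (Nat.blt c 51) (cond (Nat.beq c 41) [⟨13, 1, 1⟩] []) (cond (Nat.beq c 51) [⟨15, 1, 1⟩] []))) (cond (Nat.blt c 73) (cond (Nat.blt c 70) (cond (Nat.beq c 67) [⟨17, -1, 1⟩] []) (cond (Nat.beq c 70) [⟨18, -1, 1⟩] [])) (cond (Nat.blt c 89) (cond (Nat.beq c 73) [⟨21, -1, 1⟩] []) (cond (Nat.beq c 89) [⟨24, 1, 1⟩] []))))) (cond (Nat.blt c 125) (cond (Nat.blt c 105) (cond (Nat.blt c 101) (cond (Nat.blt c 95) (cond (Nat.beq c 92) [⟨25, 1, 1⟩] []) (cond (Nat.beq c 95) [⟨28, 1, 1⟩] [])) (cond (Nat.blt c 104) (cond (Nat.beq c 101) [⟨34, -1, 1⟩] []) (cond (Nat.beq c 104) [⟨37, -1, 1⟩] []))) (cond (Nat.blt c 116) (cond (Nat.blt c 113) (cond (Nat.beq c 105) [⟨40, -1, 1⟩] []) (cond (Nat.beq c 113) [⟨44, 1, 1⟩] [])) (cond (Nat.blt c 117)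 (cond (Nat.beq c 116) [⟨47, 1, 1⟩] []) (cond (Nat.beq c 117) [⟨50, 1, 1⟩] [])))) (cond (Nat.blt c 135) (cond (Nat.blt c 131) (cond (Nat.blt c 127) (cond (Nat.beq c 125) [⟨54, -1, 1⟩] []) (cond (Nat.beq c 127) [⟨55, 1, 1⟩] [])) (cond (Nat.blt c 132) (cond (Nat.beq c 131) [⟨58, 1, 1⟩] []) (cond (Nat.beq c 132) [⟨59, -1, 1⟩] []))) (cond (Nat.blt c 143) (cond (Nat.blt c 136) (cond (Nat.beq c 135) [⟨61, 1, 1⟩] []) (cond (Nat.beq c 136) [⟨62, -1, 1⟩] [])) (cond (Nat.blt c 146) (cond (Nat.beq c 143) [⟨66, 1, 1⟩] []) (cond (Nat.beq c 146) [⟨75, -1, 1⟩] [])))))) (cond (Nat.blt c 201) (cond (Nat.blt c 180) (cond (Nat.blt c 171) (cond (Nat.blt c 158) (cond (Nat.blt c 157) (cond (Nat.beq c 147) [⟨76, 1, 1⟩] []) (cond (Nat.beq c 157) [⟨80, 1, 1⟩] [])) (cond (Nat.blt c 167) (cond (Nat.beq c 158) [⟨81, -1, 1⟩]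 []) (cond (Nat.beq c 167) [⟨84, 1, 1⟩] []))) (cond (Nat.blt c 175) (cond (Nat.blt c 174) (cond (Nat.beq c 171) [⟨88, -1, 1⟩] []) (cond (Nat.beq c 174) [⟨97, 1, 1⟩] [])) (cond (Nat.blt c 179) (cond (Nat.beq c 175) [⟨98, -1, 1⟩] []) (cond (Nat.beq c 179) [⟨108, -1, 1⟩] [])))) (cond (Nat.blt c 196) (cond (Nat.blt c 193) (cond (Nat.blt c 189) (cond (Nat.beq c 180) [⟨109, 1, 1⟩] []) (cond (Nat.beq c 189) [⟨112, -1, 1⟩] [])) (cond (Nat.blt c 194) (cond (Nat.beq c 193) [⟨119, 1, 1⟩] []) (cond (Nat.beq c 194) [⟨120, -1, 1⟩] []))) (cond (Nat.blt c 199) (cond (Nat.blt c 197) (cond (Nat.beq c 196) [⟨123, 1, 1⟩] []) (cond (Nat.beq c 197) [⟨124, -1, 1⟩] [])) (cond (Nat.blt c 200) (cond (Nat.beq c 199) [⟨56, -1, 2⟩, ⟨0, -1, 1⟩, ⟨1, -1, 1⟩, ⟨2, -2, 1⟩, ⟨3, -2, 1⟩, ⟨4, -2, 1⟩, ⟨5, -2, 1⟩, ⟨6, -1, 1⟩, ⟨7, 0, 1⟩]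 []) (cond (Nat.beq c 200) [⟨128, -1, 1⟩] []))))) (cond (Nat.blt c 230) (cond (Nat.blt c 215) (cond (Nat.blt c 208) (cond (Nat.blt c 205) (cond (Nat.beq c 201) [⟨130, 1, 1⟩] []) (cond (Nat.beq c 205) [⟨138, -1, 1⟩] [])) (cond (Nat.blt c 211) (cond (Nat.beq c 208) [⟨139, -1, 1⟩] []) (cond (Nat.beq c 211) [⟨142, -1, 1⟩] []))) (cond (Nat.blt c 221) (cond (Nat.blt c 218) (cond (Nat.beq c 215) [⟨150, 1, 1⟩] []) (cond (Nat.beq c 218) [⟨151, 1, 1⟩] [])) (cond (Nat.blt c 227) (cond (Nat.beq c 221) [⟨154, 1, 1⟩] []) (cond (Nat.beq c 227) [⟨160, -1, 1⟩] [])))) (cond (Nat.blt c 238) (cond (Nat.blt c 234) (cond (Nat.blt c 231) (cond (Nat.beq c 230) [⟨163, -1, 1⟩] []) (cond (Nat.beq c 231) [⟨166, -1, 1⟩] [])) (cond (Nat.blt c 237) (cond (Nat.beq c 234) [⟨182, 1, 1⟩] []) (cond (Nat.beq c 237) [⟨185, 1, 1⟩] [])))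 (cond (Nat.blt c 242) (cond (Nat.blt c 240) (cond (Nat.beq c 238) [⟨188, 1, 1⟩] []) (cond (Nat.beq c 240) [⟨204, -1, 1⟩] [])) (cond (Nat.blt c 245) (cond (Nat.beq c 242) [⟨214, -1, 1⟩] []) (cond (Nat.blt c 246) (cond (Nat.beq c 245) [⟨223, -1, 1⟩] []) (cond (Nat.beq c 246) [⟨224, -1, 1⟩] [])))))))

/-- Compiled columns of `x_49` for type E8. -/
def colsE8_49 (c : ℕ) : List CEnt :=
  cond (Nat.blt c 148) (cond (Nat.blt c 93) (cond (Nat.blt c 30) (cond (Nat.blt c 4) (cond (Nat.blt c 2) (cond (Nat.blt c 1) (cond (Nat.beq c 0) [⟨57, 0, 1⟩] []) (cond (Nat.beq c 1) [⟨57, 0, 1⟩] [])) (cond (Nat.blt c 3) (cond (Nat.beq c 2) [⟨57, 1, 1⟩] []) (cond (Nat.beq c 3) [⟨57, -1, 1⟩] []))) (cond (Nat.blt c 6) (cond (Nat.blt c 5) (cond (Nat.beq c 4) [⟨57, 1, 1⟩] []) (cond (Nat.beq c 5) [⟨57, -1, 1⟩] [])) (cond (Nat.blt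 c 7) (cond (Nat.beq c 6) [⟨57, 0, 1⟩] []) (cond (Nat.beq c 7) [⟨57, 1, 1⟩] [])))) (cond (Nat.blt c 66) (cond (Nat.blt c 40) (cond (Nat.blt c 33) (cond (Nat.beq c 30) [⟨8, -1, 1⟩] []) (cond (Nat.beq c 33) [⟨11, -1, 1⟩] [])) (cond (Nat.blt c 50) (cond (Nat.beq c 40) [⟨13, 1, 1⟩] []) (cond (Nat.beq c 50) [⟨15, 1, 1⟩] []))) (cond (Nat.blt c 72) (cond (Nat.blt c 71) (cond (Nat.beq c 66) [⟨17, -1, 1⟩] []) (cond (Nat.beq c 71) [⟨19, 1, 1⟩] [])) (cond (Nat.blt c 88) (cond (Nat.beq c 72) [⟨20, 1, 1⟩] []) (cond (Nat.beq c 88) [⟨24, 1, 1⟩] []))))) (cond (Nat.blt c 123) (cond (Nat.blt c 105) (cond (Nat.blt c 102) (cond (Nat.blt c 94) (cond (Nat.beq c 93) [⟨26, -1, 1⟩] []) (cond (Nat.beq c 94) [⟨27, -1, 1⟩] [])) (cond (Nat.blt c 103) (cond (Nat.beq c 102) [⟨35, 1, 1⟩] []) (cond (Nat.beq c 103) [⟨36, 1, 1⟩] [])))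 (cond (Nat.blt c 115) (cond (Nat.blt c 114) (cond (Nat.beq c 105) [⟨41, -1, 1⟩] []) (cond (Nat.beq c 114) [⟨45, -1, 1⟩] [])) (cond (Nat.blt c 117) (cond (Nat.beq c 115) [⟨46, -1, 1⟩] []) (cond (Nat.beq c 117) [⟨51, 1, 1⟩] [])))) (cond (Nat.blt c 134) (cond (Nat.blt c 128) (cond (Nat.blt c 124) (cond (Nat.beq c 123) [⟨54, 1, 1⟩] []) (cond (Nat.beq c 124) [⟨55, 1, 1⟩] [])) (cond (Nat.blt c 130) (cond (Nat.beq c 128) [⟨58, 1, 1⟩] []) (cond (Nat.beq c 130) [⟨59, 1, 1⟩] []))) (cond (Nat.blt c 143) (cond (Nat.blt c 137) (cond (Nat.beq c 134) [⟨60, 1, 1⟩] []) (cond (Nat.beq c 137) [⟨63, -1, 1⟩] [])) (cond (Nat.blt c 145) (cond (Nat.beq c 143) [⟨67, 1, 1⟩] []) (cond (Nat.beq c 145) [⟨74, -1, 1⟩] [])))))) (cond (Nat.blt c 201) (cond (Nat.blt c 181) (cond (Nat.blt c 171) (cond (Nat.blt c 159) (cond (Nat.blt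 c 156) (cond (Nat.beq c 148) [⟨77, 1, 1⟩] []) (cond (Nat.beq c 156) [⟨79, 1, 1⟩] [])) (cond (Nat.blt c 166) (cond (Nat.beq c 159) [⟨82, -1, 1⟩] []) (cond (Nat.beq c 166) [⟨84, 1, 1⟩] []))) (cond (Nat.blt c 176) (cond (Nat.blt c 173) (cond (Nat.beq c 171) [⟨89, -1, 1⟩] []) (cond (Nat.beq c 173) [⟨96, 1, 1⟩] [])) (cond (Nat.blt c 178) (cond (Nat.beq c 176) [⟨99, -1, 1⟩] []) (cond (Nat.beq c 178) [⟨107, -1, 1⟩] [])))) (cond (Nat.blt c 196) (cond (Nat.blt c 192) (cond (Nat.blt c 188) (cond (Nat.beq c 181) [⟨110, 1, 1⟩] []) (cond (Nat.beq c 188) [⟨112, -1, 1⟩] [])) (cond (Nat.blt c 195) (cond (Nat.beq c 192) [⟨118, 1, 1⟩] []) (cond (Nat.beq c 195) [⟨121, -1, 1⟩] []))) (cond (Nat.blt c 198) (cond (Nat.blt c 197) (cond (Nat.beq c 196) [⟨125, -1, 1⟩] []) (cond (Nat.beq c 197) [⟨127, -1, 1⟩] [])) (cond (Nat.blt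 c 200) (cond (Nat.beq c 198) [⟨57, -1, 2⟩, ⟨0, -1, 1⟩, ⟨1, -1, 1⟩, ⟨2, -2, 1⟩, ⟨3, -2, 1⟩, ⟨4, -2, 1⟩, ⟨5, -1, 1⟩, ⟨6, -1, 1⟩, ⟨7, -1, 1⟩] []) (cond (Nat.beq c 200) [⟨131, -1, 1⟩] []))))) (cond (Nat.blt c 229) (cond (Nat.blt c 214) (cond (Nat.blt c 209) (cond (Nat.blt c 204) (cond (Nat.beq c 201) [⟨132, -1, 1⟩] []) (cond (Nat.beq c 204) [⟨138, -1, 1⟩] [])) (cond (Nat.blt c 210) (cond (Nat.beq c 209) [⟨140, 1, 1⟩] []) (cond (Nat.beq c 210) [⟨141, 1, 1⟩] []))) (cond (Nat.blt c 220) (cond (Nat.blt c 219) (cond (Nat.beq c 214) [⟨150, 1, 1⟩] []) (cond (Nat.beq c 219) [⟨152, -1, 1⟩] [])) (cond (Nat.blt c 228) (cond (Nat.beq c 220) [⟨153, -1, 1⟩] []) (cond (Nat.beq c 228) [⟨161, 1, 1⟩] [])))) (cond (Nat.blt c 238) (cond (Nat.blt c 235) (cond (Nat.blt c 231) (cond (Nat.beq c 229) [⟨162, 1, 1⟩] []) (cond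 (Nat.beq c 231) [⟨167, -1, 1⟩] [])) (cond (Nat.blt c 236) (cond (Nat.beq c 235) [⟨183, -1, 1⟩] []) (cond (Nat.beq c 236) [⟨184, -1, 1⟩] []))) (cond (Nat.blt c 242) (cond (Nat.blt c 240) (cond (Nat.beq c 238) [⟨189, 1, 1⟩] []) (cond (Nat.beq c 240) [⟨205, -1, 1⟩] [])) (cond (Nat.blt c 244) (cond (Nat.beq c 242) [⟨215, -1, 1⟩] []) (cond (Nat.blt c 247) (cond (Nat.beq c 244) [⟨222, 1, 1⟩] []) (cond (Nat.beq c 247) [⟨225, 1, 1⟩] [])))))))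

/-- Compiled columns of `x_50` for type E8. -/
def colsE8_50 (c : ℕ) : List CEnt :=
  cond (Nat.blt c 147) (cond (Nat.blt c 92) (cond (Nat.blt c 30) (cond (Nat.blt c 4) (cond (Nat.blt c 2) (cond (Nat.blt c 1) (cond (Nat.beq c 0) [⟨58, 0, 1⟩] []) (cond (Nat.beq c 1) [⟨58, 0, 1⟩] [])) (cond (Nat.blt c 3) (cond (Nat.beq c 2) [⟨58, 1, 1⟩] []) (cond (Nat.beq c 3) [⟨58, -1, 1⟩] []))) (cond (Nat.blt c 6) (cond (Nat.blt c 5) (cond (Nat.beq c 4) [⟨58, 1, 1⟩] []) (cond (Nat.beq c 5) [⟨58, -1, 1⟩] [])) (cond (Nat.blt c 7) (cond (Nat.beq c 6) [⟨58, 1, 1⟩] []) (cond (Nat.beq c 7) [⟨58, -1, 1⟩] [])))) (cond (Nat.blt c 65) (cond (Nat.blt c 39) (cond (Nat.blt c 32) (cond (Nat.beq c 30) [⟨9, -1, 1⟩] []) (cond (Nat.beq c 32) [⟨11, 1, 1⟩] [])) (cond (Nat.blt c 49) (cond (Nat.beq c 39) [⟨13, -1, 1⟩] []) (cond (Nat.beq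 c 49) [⟨15, -1, 1⟩] []))) (cond (Nat.blt c 72) (cond (Nat.blt c 70) (cond (Nat.beq c 65) [⟨17, 1, 1⟩] []) (cond (Nat.beq c 70) [⟨19, -1, 1⟩] [])) (cond (Nat.blt c 87) (cond (Nat.beq c 72) [⟨21, 1, 1⟩] []) (cond (Nat.beq c 87) [⟨24, -1, 1⟩] []))))) (cond (Nat.blt c 122) (cond (Nat.blt c 105) (cond (Nat.blt c 101) (cond (Nat.blt c 94) (cond (Nat.beq c 92) [⟨26, 1, 1⟩] []) (cond (Nat.beq c 94) [⟨28, -1, 1⟩] [])) (cond (Nat.blt c 103) (cond (Nat.beq c 101) [⟨35, -1, 1⟩] []) (cond (Nat.beq c 103) [⟨37, 1, 1⟩] []))) (cond (Nat.blt c 115) (cond (Nat.blt c 113) (cond (Nat.beq c 105) [⟨42, -1, 1⟩] []) (cond (Nat.beq c 113) [⟨45, 1, 1⟩] [])) (cond (Nat.blt c 117) (cond (Nat.beq c 115) [⟨47, -1, 1⟩] []) (cond (Nat.beq c 117) [⟨52, 1, 1⟩] [])))) (cond (Nat.blt c 134) (cond (Nat.blt c 127) (cond (Nat.blt c 124)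 (cond (Nat.beq c 122) [⟨54, -1, 1⟩] []) (cond (Nat.beq c 124) [⟨56, 1, 1⟩] [])) (cond (Nat.blt c 129) (cond (Nat.beq c 127) [⟨57, 1, 1⟩] []) (cond (Nat.beq c 129) [⟨59, 1, 1⟩] []))) (cond (Nat.blt c 143) (cond (Nat.blt c 136) (cond (Nat.beq c 134) [⟨61, 1, 1⟩] []) (cond (Nat.beq c 136) [⟨63, -1, 1⟩] [])) (cond (Nat.blt c 145) (cond (Nat.beq c 143) [⟨68, 1, 1⟩] []) (cond (Nat.beq c 145) [⟨75, -1, 1⟩] [])))))) (cond (Nat.blt c 201) (cond (Nat.blt c 180) (cond (Nat.blt c 171) (cond (Nat.blt c 158) (cond (Nat.blt c 156) (cond (Nat.beq c 147) [⟨77, 1, 1⟩] []) (cond (Nat.beq c 156) [⟨80, 1, 1⟩] [])) (cond (Nat.blt c 165) (cond (Nat.beq c 158) [⟨82, -1, 1⟩] []) (cond (Nat.beq c 165) [⟨84, 1, 1⟩] []))) (cond (Nat.blt c 175) (cond (Nat.blt c 173) (cond (Nat.beq c 171) [⟨90, -1, 1⟩] []) (cond (Nat.beq c 173)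 [⟨97, 1, 1⟩] [])) (cond (Nat.blt c 178) (cond (Nat.beq c 175) [⟨99, -1, 1⟩] []) (cond (Nat.beq c 178) [⟨108, -1, 1⟩] [])))) (cond (Nat.blt c 196) (cond (Nat.blt c 192) (cond (Nat.blt c 187) (cond (Nat.beq c 180) [⟨110, 1, 1⟩] []) (cond (Nat.beq c 187) [⟨112, -1, 1⟩] [])) (cond (Nat.blt c 194) (cond (Nat.beq c 192) [⟨119, 1, 1⟩] []) (cond (Nat.beq c 194) [⟨121, -1, 1⟩] []))) (cond (Nat.blt c 198) (cond (Nat.blt c 197) (cond (Nat.beq c 196) [⟨126, -1, 1⟩] []) (cond (Nat.beq c 197) [⟨58, -1, 2⟩, ⟨0, -1, 1⟩, ⟨1, -1, 1⟩, ⟨2, -2, 1⟩, ⟨3, -2, 1⟩, ⟨4, -2, 1⟩, ⟨5, -1, 1⟩, ⟨6, -1, 1⟩, ⟨7, 0, 1⟩] [])) (cond (Nat.blt c 199) (cond (Nat.beq c 198) [⟨128, -1, 1⟩] []) (cond (Nat.beq c 199) [⟨131, -1, 1⟩] []))))) (cond (Nat.blt c 229) (cond (Nat.blt c 213) (cond (Nat.blt c 208) (cond (Nat.blt c 203) (cond (Nat.beq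 c 201) [⟨133, 1, 1⟩] []) (cond (Nat.beq c 203) [⟨138, -1, 1⟩] [])) (cond (Nat.blt c 210) (cond (Nat.beq c 208) [⟨140, 1, 1⟩] []) (cond (Nat.beq c 210) [⟨142, -1, 1⟩] []))) (cond (Nat.blt c 220) (cond (Nat.blt c 218) (cond (Nat.beq c 213) [⟨150, 1, 1⟩] []) (cond (Nat.beq c 218) [⟨152, -1, 1⟩] [])) (cond (Nat.blt c 227) (cond (Nat.beq c 220) [⟨154, 1, 1⟩] []) (cond (Nat.beq c 227) [⟨161, 1, 1⟩] [])))) (cond (Nat.blt c 238) (cond (Nat.blt c 234) (cond (Nat.blt c 231) (cond (Nat.beq c 229) [⟨163, -1, 1⟩] []) (cond (Nat.beq c 231) [⟨168, 1, 1⟩] [])) (cond (Nat.blt c 236) (cond (Nat.beq c 234) [⟨183, -1, 1⟩] []) (cond (Nat.beq c 236) [⟨185, 1, 1⟩] []))) (cond (Nat.blt c 242) (cond (Nat.blt c 240) (cond (Nat.beq c 238) [⟨190, -1, 1⟩] []) (cond (Nat.beq c 240) [⟨206, 1, 1⟩] [])) (cond (Nat.blt c 244) (cond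 (Nat.beq c 242) [⟨216, 1, 1⟩] []) (cond (Nat.blt c 246) (cond (Nat.beq c 244) [⟨223, -1, 1⟩] []) (cond (Nat.beq c 246) [⟨225, 1, 1⟩] [])))))))

/-- Compiled columns of `x_51` for type E8. -/
def colsE8_51 (c : ℕ) : List CEnt :=
  cond (Nat.blt c 146) (cond (Nat.blt c 92) (cond (Nat.blt c 30) (cond (Nat.blt c 4) (cond (Nat.blt c 2) (cond (Nat.blt c 1) (cond (Nat.beq c 0) [⟨59, 0, 1⟩] []) (cond (Nat.beq c 1) [⟨59, 0, 1⟩] [])) (cond (Nat.blt c 3) (cond (Nat.beq c 2) [⟨59, 1, 1⟩] []) (cond (Nat.beq c 3) [⟨59, -1, 1⟩] []))) (cond (Nat.blt c 6) (cond (Nat.blt c 5) (cond (Nat.beq c 4) [⟨59, 1, 1⟩] []) (cond (Nat.beq c 5) [⟨59, 0, 1⟩] [])) (cond (Nat.blt c 7) (cond (Nat.beq c 6) [⟨59, -1, 1⟩] []) (cond (Nat.beq c 7) [⟨59, 0, 1⟩] [])))) (cond (Nat.blt c 64) (cond (Nat.blt c 38) (cond (Nat.blt c 31) (cond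 (Nat.beq c 30) [⟨10, -1, 1⟩] []) (cond (Nat.beq c 31) [⟨11, -1, 1⟩] [])) (cond (Nat.blt c 48) (cond (Nat.beq c 38) [⟨13, 1, 1⟩] []) (cond (Nat.beq c 48) [⟨15, 1, 1⟩] []))) (cond (Nat.blt c 71) (cond (Nat.blt c 70) (cond (Nat.beq c 64) [⟨17, -1, 1⟩] []) (cond (Nat.beq c 70) [⟨20, -1, 1⟩] [])) (cond (Nat.blt c 86) (cond (Nat.beq c 71) [⟨21, -1, 1⟩] []) (cond (Nat.beq c 86) [⟨24, 1, 1⟩] []))))) (cond (Nat.blt c 122) (cond (Nat.blt c 105) (cond (Nat.blt c 101) (cond (Nat.blt c 93) (cond (Nat.beq c 92) [⟨27, 1, 1⟩] []) (cond (Nat.beq c 93) [⟨28, 1, 1⟩] [])) (cond (Nat.blt c 102) (cond (Nat.beq c 101) [⟨36, -1, 1⟩] []) (cond (Nat.beq c 102) [⟨37, -1, 1⟩] []))) (cond (Nat.blt c 114) (cond (Nat.blt c 113) (cond (Nat.beq c 105) [⟨43, -1, 1⟩] []) (cond (Nat.beq c 113) [⟨46, 1, 1⟩] [])) (cond (Nat.blt c 117)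 (cond (Nat.beq c 114) [⟨47, 1, 1⟩] []) (cond (Nat.beq c 117) [⟨53, 1, 1⟩] [])))) (cond (Nat.blt c 134) (cond (Nat.blt c 125) (cond (Nat.blt c 123) (cond (Nat.beq c 122) [⟨55, -1, 1⟩] []) (cond (Nat.beq c 123) [⟨56, -1, 1⟩] [])) (cond (Nat.blt c 126) (cond (Nat.beq c 125) [⟨57, 1, 1⟩] []) (cond (Nat.beq c 126) [⟨58, 1, 1⟩] []))) (cond (Nat.blt c 143) (cond (Nat.blt c 135) (cond (Nat.beq c 134) [⟨62, 1, 1⟩] []) (cond (Nat.beq c 135) [⟨63, -1, 1⟩] [])) (cond (Nat.blt c 145) (cond (Nat.beq c 143) [⟨69, 1, 1⟩] []) (cond (Nat.beq c 145) [⟨76, -1, 1⟩] [])))))) (cond (Nat.blt c 200) (cond (Nat.blt c 179) (cond (Nat.blt c 171) (cond (Nat.blt c 157) (cond (Nat.blt c 156) (cond (Nat.beq c 146) [⟨77, 1, 1⟩] []) (cond (Nat.beq c 156) [⟨81, 1, 1⟩] [])) (cond (Nat.blt c 164) (cond (Nat.beq c 157) [⟨82, -1, 1⟩]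 []) (cond (Nat.beq c 164) [⟨84, 1, 1⟩] []))) (cond (Nat.blt c 174) (cond (Nat.blt c 173) (cond (Nat.beq c 171) [⟨91, -1, 1⟩] []) (cond (Nat.beq c 173) [⟨98, 1, 1⟩] [])) (cond (Nat.blt c 178) (cond (Nat.beq c 174) [⟨99, -1, 1⟩] []) (cond (Nat.beq c 178) [⟨109, -1, 1⟩] [])))) (cond (Nat.blt c 196) (cond (Nat.blt c 192) (cond (Nat.blt c 186) (cond (Nat.beq c 179) [⟨110, 1, 1⟩] []) (cond (Nat.beq c 186) [⟨112, -1, 1⟩] [])) (cond (Nat.blt c 193) (cond (Nat.beq c 192) [⟨120, 1, 1⟩] []) (cond (Nat.beq c 193) [⟨121, -1, 1⟩] []))) (cond (Nat.blt c 198) (cond (Nat.blt c 197) (cond (Nat.beq c 196) [⟨59, -1, 2⟩, ⟨0, -1, 1⟩, ⟨1, -1, 1⟩, ⟨2, -2, 1⟩, ⟨3, -2, 1⟩, ⟨4, -2, 1⟩, ⟨5, -1, 1⟩, ⟨6, 0, 1⟩, ⟨7, 0, 1⟩] []) (cond (Nat.beq c 197) [⟨129, -1, 1⟩] [])) (cond (Nat.blt c 199) (cond (Nat.beq c 198) [⟨130, -1, 1⟩]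 []) (cond (Nat.beq c 199) [⟨132, 1, 1⟩] []))))) (cond (Nat.blt c 228) (cond (Nat.blt c 212) (cond (Nat.blt c 208) (cond (Nat.blt c 202) (cond (Nat.beq c 200) [⟨133, 1, 1⟩] []) (cond (Nat.beq c 202) [⟨138, -1, 1⟩] [])) (cond (Nat.blt c 209) (cond (Nat.beq c 208) [⟨141, -1, 1⟩] []) (cond (Nat.beq c 209) [⟨142, -1, 1⟩] []))) (cond (Nat.blt c 219) (cond (Nat.blt c 218) (cond (Nat.beq c 212) [⟨150, 1, 1⟩] []) (cond (Nat.beq c 218) [⟨153, 1, 1⟩] [])) (cond (Nat.blt c 227) (cond (Nat.beq c 219) [⟨154, 1, 1⟩] []) (cond (Nat.beq c 227) [⟨162, -1, 1⟩] [])))) (cond (Nat.blt c 238) (cond (Nat.blt c 234) (cond (Nat.blt c 231) (cond (Nat.beq c 228) [⟨163, -1, 1⟩] []) (cond (Nat.beq c 231) [⟨169, -1, 1⟩] [])) (cond (Nat.blt c 235) (cond (Nat.beq c 234) [⟨184, 1, 1⟩] []) (cond (Nat.beq c 235) [⟨185, 1, 1⟩] [])))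 (cond (Nat.blt c 242) (cond (Nat.blt c 240) (cond (Nat.beq c 238) [⟨191, 1, 1⟩] []) (cond (Nat.beq c 240) [⟨207, -1, 1⟩] [])) (cond (Nat.blt c 244) (cond (Nat.beq c 242) [⟨217, -1, 1⟩] []) (cond (Nat.blt c 245) (cond (Nat.beq c 244) [⟨224, 1, 1⟩] []) (cond (Nat.beq c 245) [⟨225, 1, 1⟩] [])))))))

/-- Compiled columns of `x_52` for type E8. -/
def colsE8_52 (c : ℕ) : List CEnt :=
  cond (Nat.blt c 148) (cond (Nat.blt c 90) (cond (Nat.blt c 29) (cond (Nat.blt c 4) (cond (Nat.blt c 2) (cond (Nat.blt c 1) (cond (Nat.beq c 0) [⟨60, 0, 1⟩] []) (cond (Nat.beq c 1) [⟨60, 0, 1⟩] [])) (cond (Nat.blt c 3) (cond (Nat.beq c 2) [⟨60, 1, 1⟩] []) (cond (Nat.beq c 3) [⟨60, 0, 1⟩] []))) (cond (Nat.blt c 6) (cond (Nat.blt c 5) (cond (Nat.beq c 4) [⟨60, -1, 1⟩] []) (cond (Nat.beq c 5) [⟨60, 0, 1⟩] [])) (cond (Nat.blt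 c 7) (cond (Nat.beq c 6) [⟨60, 0, 1⟩] []) (cond (Nat.beq c 7) [⟨60, 1, 1⟩] [])))) (cond (Nat.blt c 66) (cond (Nat.blt c 37) (cond (Nat.blt c 33) (cond (Nat.beq c 29) [⟨8, 1, 1⟩] []) (cond (Nat.beq c 33) [⟨12, -1, 1⟩] [])) (cond (Nat.blt c 47) (cond (Nat.beq c 37) [⟨13, -1, 1⟩] []) (cond (Nat.beq c 47) [⟨15, -1, 1⟩] []))) (cond (Nat.blt c 69) (cond (Nat.blt c 68) (cond (Nat.beq c 66) [⟨18, -1, 1⟩] []) (cond (Nat.beq c 68) [⟨19, -1, 1⟩] [])) (cond (Nat.blt c 88) (cond (Nat.beq c 69) [⟨20, -1, 1⟩] []) (cond (Nat.beq c 88) [⟨25, 1, 1⟩] []))))) (cond (Nat.blt c 119) (cond (Nat.blt c 104) (cond (Nat.blt c 102) (cond (Nat.blt c 91) (cond (Nat.beq c 90) [⟨26, 1, 1⟩] []) (cond (Nat.beq c 91) [⟨27, 1, 1⟩] [])) (cond (Nat.blt c 103) (cond (Nat.beq c 102) [⟨38, 1, 1⟩] []) (cond (Nat.beq c 103) [⟨39, 1, 1⟩]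 []))) (cond (Nat.blt c 115) (cond (Nat.blt c 114) (cond (Nat.beq c 104) [⟨41, 1, 1⟩] []) (cond (Nat.beq c 114) [⟨48, -1, 1⟩] [])) (cond (Nat.blt c 116) (cond (Nat.beq c 115) [⟨49, -1, 1⟩] []) (cond (Nat.beq c 116) [⟨51, -1, 1⟩] [])))) (cond (Nat.blt c 130) (cond (Nat.blt c 121) (cond (Nat.blt c 120) (cond (Nat.beq c 119) [⟨54, 1, 1⟩] []) (cond (Nat.beq c 120) [⟨55, 1, 1⟩] [])) (cond (Nat.blt c 128) (cond (Nat.beq c 121) [⟨57, 1, 1⟩] []) (cond (Nat.beq c 128) [⟨61, 1, 1⟩] []))) (cond (Nat.blt c 143) (cond (Nat.blt c 133) (cond (Nat.beq c 130) [⟨62, 1, 1⟩] []) (cond (Nat.beq c 133) [⟨63, 1, 1⟩] [])) (cond (Nat.blt c 144) (cond (Nat.beq c 143) [⟨70, 1, 1⟩] []) (cond (Nat.beq c 144) [⟨74, -1, 1⟩] [])))))) (cond (Nat.blt c 201) (cond (Nat.blt c 181) (cond (Nat.blt c 171) (cond (Nat.blt c 159) (cond (Nat.blt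 c 155) (cond (Nat.beq c 148) [⟨78, 1, 1⟩] []) (cond (Nat.beq c 155) [⟨79, 1, 1⟩] [])) (cond (Nat.blt c 163) (cond (Nat.beq c 159) [⟨83, -1, 1⟩] []) (cond (Nat.beq c 163) [⟨84, 1, 1⟩] []))) (cond (Nat.blt c 176) (cond (Nat.blt c 172) (cond (Nat.beq c 171) [⟨92, -1, 1⟩] []) (cond (Nat.beq c 172) [⟨96, 1, 1⟩] [])) (cond (Nat.blt c 177) (cond (Nat.beq c 176) [⟨100, -1, 1⟩] []) (cond (Nat.beq c 177) [⟨107, -1, 1⟩] [])))) (cond (Nat.blt c 194) (cond (Nat.blt c 192) (cond (Nat.blt c 185) (cond (Nat.beq c 181) [⟨111, 1, 1⟩] []) (cond (Nat.beq c 185) [⟨112, -1, 1⟩] [])) (cond (Nat.blt c 193) (cond (Nat.beq c 192) [⟨122, -1, 1⟩] []) (cond (Nat.beq c 193) [⟨125, -1, 1⟩] []))) (cond (Nat.blt c 198) (cond (Nat.blt c 195) (cond (Nat.beq c 194) [⟨127, -1, 1⟩] []) (cond (Nat.beq c 195) [⟨60, -1, 2⟩, ⟨0, -1, 1⟩,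 ⟨1, -1, 1⟩, ⟨2, -2, 1⟩, ⟨3, -2, 1⟩, ⟨4, -1, 1⟩, ⟨5, -1, 1⟩, ⟨6, -1, 1⟩, ⟨7, -1, 1⟩] [])) (cond (Nat.blt c 200) (cond (Nat.beq c 198) [⟨134, -1, 1⟩] []) (cond (Nat.beq c 200) [⟨135, -1, 1⟩] []))))) (cond (Nat.blt c 229) (cond (Nat.blt c 214) (cond (Nat.blt c 206) (cond (Nat.blt c 204) (cond (Nat.beq c 201) [⟨136, -1, 1⟩] []) (cond (Nat.beq c 204) [⟨139, 1, 1⟩] [])) (cond (Nat.blt c 207) (cond (Nat.beq c 206) [⟨140, 1, 1⟩] []) (cond (Nat.beq c 207) [⟨141, 1, 1⟩] []))) (cond (Nat.blt c 217) (cond (Nat.blt c 216) (cond (Nat.beq c 214) [⟨151, -1, 1⟩] []) (cond (Nat.beq c 216) [⟨152, -1, 1⟩] [])) (cond (Nat.blt c 228) (cond (Nat.beq c 217) [⟨153, -1, 1⟩] []) (cond (Nat.beq c 228) [⟨164, -1, 1⟩] [])))) (cond (Nat.blt c 237) (cond (Nat.blt c 235) (cond (Nat.blt c 230) (cond (Nat.beq c 229) [⟨165, -1, 1⟩]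 []) (cond (Nat.beq c 230) [⟨167, -1, 1⟩] [])) (cond (Nat.blt c 236) (cond (Nat.beq c 235) [⟨186, 1, 1⟩] []) (cond (Nat.beq c 236) [⟨187, 1, 1⟩] []))) (cond (Nat.blt c 242) (cond (Nat.blt c 240) (cond (Nat.beq c 237) [⟨189, 1, 1⟩] []) (cond (Nat.beq c 240) [⟨208, 1, 1⟩] [])) (cond (Nat.blt c 243) (cond (Nat.beq c 242) [⟨218, 1, 1⟩] []) (cond (Nat.blt c 247) (cond (Nat.beq c 243) [⟨222, 1, 1⟩] []) (cond (Nat.beq c 247) [⟨226, -1, 1⟩] [])))))))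

/-- Compiled columns of `x_53` for type E8. -/
def colsE8_53 (c : ℕ) : List CEnt :=
  cond (Nat.blt c 147) (cond (Nat.blt c 89) (cond (Nat.blt c 29) (cond (Nat.blt c 4) (cond (Nat.blt c 2) (cond (Nat.blt c 1) (cond (Nat.beq c 0) [⟨61, 0, 1⟩] []) (cond (Nat.beq c 1) [⟨61, 0, 1⟩] [])) (cond (Nat.blt c 3) (cond (Nat.beq c 2) [⟨61, 1, 1⟩] []) (cond (Nat.beq c 3) [⟨61, 0, 1⟩] []))) (cond (Nat.blt c 6) (cond (Nat.blt c 5) (cond (Nat.beq c 4) [⟨61, -1, 1⟩] []) (cond (Nat.beq c 5) [⟨61, 0, 1⟩] [])) (cond (Nat.blt c 7) (cond (Nat.beq c 6) [⟨61, 1, 1⟩] []) (cond (Nat.beq c 7) [⟨61, -1, 1⟩] [])))) (cond (Nat.blt c 65) (cond (Nat.blt c 36) (cond (Nat.blt c 32) (cond (Nat.beq c 29) [⟨9, 1, 1⟩] []) (cond (Nat.beq c 32) [⟨12, 1, 1⟩] [])) (cond (Nat.blt c 46) (cond (Nat.beq c 36) [⟨13, 1, 1⟩] []) (cond (Nat.beq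 c 46) [⟨15, 1, 1⟩] []))) (cond (Nat.blt c 69) (cond (Nat.blt c 67) (cond (Nat.beq c 65) [⟨18, 1, 1⟩] []) (cond (Nat.beq c 67) [⟨19, 1, 1⟩] [])) (cond (Nat.blt c 87) (cond (Nat.beq c 69) [⟨21, -1, 1⟩] []) (cond (Nat.beq c 87) [⟨25, -1, 1⟩] []))))) (cond (Nat.blt c 118) (cond (Nat.blt c 104) (cond (Nat.blt c 101) (cond (Nat.blt c 91) (cond (Nat.beq c 89) [⟨26, -1, 1⟩] []) (cond (Nat.beq c 91) [⟨28, 1, 1⟩] [])) (cond (Nat.blt c 103) (cond (Nat.beq c 101) [⟨38, -1, 1⟩] []) (cond (Nat.beq c 103) [⟨40, 1, 1⟩] []))) (cond (Nat.blt c 115) (cond (Nat.blt c 113) (cond (Nat.beq c 104) [⟨42, 1, 1⟩] []) (cond (Nat.beq c 113) [⟨48, 1, 1⟩] [])) (cond (Nat.blt c 116) (cond (Nat.beq c 115) [⟨50, -1, 1⟩] []) (cond (Nat.beq c 116) [⟨52, -1, 1⟩] [])))) (cond (Nat.blt c 129) (cond (Nat.blt c 121) (cond (Nat.blt c 120)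 (cond (Nat.beq c 118) [⟨54, -1, 1⟩] []) (cond (Nat.beq c 120) [⟨56, 1, 1⟩] [])) (cond (Nat.blt c 127) (cond (Nat.beq c 121) [⟨58, 1, 1⟩] []) (cond (Nat.beq c 127) [⟨60, 1, 1⟩] []))) (cond (Nat.blt c 143) (cond (Nat.blt c 132) (cond (Nat.beq c 129) [⟨62, 1, 1⟩] []) (cond (Nat.beq c 132) [⟨63, 1, 1⟩] [])) (cond (Nat.blt c 144) (cond (Nat.beq c 143) [⟨71, 1, 1⟩] []) (cond (Nat.beq c 144) [⟨75, -1, 1⟩] [])))))) (cond (Nat.blt c 201) (cond (Nat.blt c 180) (cond (Nat.blt c 171) (cond (Nat.blt c 158) (cond (Nat.blt c 155) (cond (Nat.beq c 147) [⟨78, 1, 1⟩] []) (cond (Nat.beq c 155) [⟨80, 1, 1⟩] [])) (cond (Nat.blt c 162) (cond (Nat.beq c 158) [⟨83, -1, 1⟩] []) (cond (Nat.beq c 162) [⟨84, 1, 1⟩] []))) (cond (Nat.blt c 175) (cond (Nat.blt c 172) (cond (Nat.beq c 171) [⟨93, -1, 1⟩] []) (cond (Nat.beq c 172)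 [⟨97, 1, 1⟩] [])) (cond (Nat.blt c 177) (cond (Nat.beq c 175) [⟨100, -1, 1⟩] []) (cond (Nat.beq c 177) [⟨108, -1, 1⟩] [])))) (cond (Nat.blt c 194) (cond (Nat.blt c 192) (cond (Nat.blt c 184) (cond (Nat.beq c 180) [⟨111, 1, 1⟩] []) (cond (Nat.beq c 184) [⟨112, -1, 1⟩] [])) (cond (Nat.blt c 193) (cond (Nat.beq c 192) [⟨123, -1, 1⟩] []) (cond (Nat.beq c 193) [⟨126, -1, 1⟩] []))) (cond (Nat.blt c 197) (cond (Nat.blt c 195) (cond (Nat.beq c 194) [⟨61, -1, 2⟩, ⟨0, -1, 1⟩, ⟨1, -1, 1⟩, ⟨2, -2, 1⟩, ⟨3, -2, 1⟩, ⟨4, -1, 1⟩, ⟨5, -1, 1⟩, ⟨6, -1, 1⟩, ⟨7, 0, 1⟩] []) (cond (Nat.beq c 195) [⟨128, -1, 1⟩] [])) (cond (Nat.blt c 199) (cond (Nat.beq c 197) [⟨134, -1, 1⟩] []) (cond (Nat.beq c 199) [⟨135, -1, 1⟩] []))))) (cond (Nat.blt c 229) (cond (Nat.blt c 213) (cond (Nat.blt c 205) (cond (Nat.blt c 203) (cond (Nat.beq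 c 201) [⟨137, 1, 1⟩] []) (cond (Nat.beq c 203) [⟨139, 1, 1⟩] [])) (cond (Nat.blt c 207) (cond (Nat.beq c 205) [⟨140, 1, 1⟩] []) (cond (Nat.beq c 207) [⟨142, -1, 1⟩] []))) (cond (Nat.blt c 217) (cond (Nat.blt c 215) (cond (Nat.beq c 213) [⟨151, -1, 1⟩] []) (cond (Nat.beq c 215) [⟨152, -1, 1⟩] [])) (cond (Nat.blt c 227) (cond (Nat.beq c 217) [⟨154, 1, 1⟩] []) (cond (Nat.beq c 227) [⟨164, -1, 1⟩] [])))) (cond (Nat.blt c 237) (cond (Nat.blt c 234) (cond (Nat.blt c 230) (cond (Nat.beq c 229) [⟨166, 1, 1⟩] []) (cond (Nat.beq c 230) [⟨168, 1, 1⟩] [])) (cond (Nat.blt c 236) (cond (Nat.beq c 234) [⟨186, 1, 1⟩] []) (cond (Nat.beq c 236) [⟨188, -1, 1⟩] []))) (cond (Nat.blt c 242) (cond (Nat.blt c 240) (cond (Nat.beq c 237) [⟨190, -1, 1⟩] []) (cond (Nat.beq c 240) [⟨209, -1, 1⟩] [])) (cond (Nat.blt c 243) (cond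 (Nat.beq c 242) [⟨219, -1, 1⟩] []) (cond (Nat.blt c 246) (cond (Nat.beq c 243) [⟨223, -1, 1⟩] []) (cond (Nat.beq c 246) [⟨226, -1, 1⟩] [])))))))

/-- Compiled columns of `x_54` for type E8. -/
def colsE8_54 (c : ℕ) : List CEnt :=
  cond (Nat.blt c 146) (cond (Nat.blt c 89) (cond (Nat.blt c 29) (cond (Nat.blt c 4) (cond (Nat.blt c 2) (cond (Nat.blt c 1) (cond (Nat.beq c 0) [⟨62, 0, 1⟩] []) (cond (Nat.beq c 1) [⟨62, 0, 1⟩] [])) (cond (Nat.blt c 3) (cond (Nat.beq c 2) [⟨62, 1, 1⟩] []) (cond (Nat.beq c 3) [⟨62, 0, 1⟩] []))) (cond (Nat.blt c 6) (cond (Nat.blt c 5) (cond (Nat.beq c 4) [⟨62, -1, 1⟩] []) (cond (Nat.beq c 5) [⟨62, 1, 1⟩] [])) (cond (Nat.blt c 7) (cond (Nat.beq c 6) [⟨62, -1, 1⟩] []) (cond (Nat.beq c 7) [⟨62, 0, 1⟩] [])))) (cond (Nat.blt c 64) (cond (Nat.blt c 35) (cond (Nat.blt c 31) (cond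 (Nat.beq c 29) [⟨10, 1, 1⟩] []) (cond (Nat.beq c 31) [⟨12, -1, 1⟩] [])) (cond (Nat.blt c 45) (cond (Nat.beq c 35) [⟨13, -1, 1⟩] []) (cond (Nat.beq c 45) [⟨15, -1, 1⟩] []))) (cond (Nat.blt c 68) (cond (Nat.blt c 67) (cond (Nat.beq c 64) [⟨18, -1, 1⟩] []) (cond (Nat.beq c 67) [⟨20, 1, 1⟩] [])) (cond (Nat.blt c 86) (cond (Nat.beq c 68) [⟨21, 1, 1⟩] []) (cond (Nat.beq c 86) [⟨25, 1, 1⟩] []))))) (cond (Nat.blt c 118) (cond (Nat.blt c 104) (cond (Nat.blt c 101) (cond (Nat.blt c 90) (cond (Nat.beq c 89) [⟨27, -1, 1⟩] []) (cond (Nat.beq c 90) [⟨28, -1, 1⟩] [])) (cond (Nat.blt c 102) (cond (Nat.beq c 101) [⟨39, -1, 1⟩] []) (cond (Nat.beq c 102) [⟨40, -1, 1⟩] []))) (cond (Nat.blt c 114) (cond (Nat.blt c 113) (cond (Nat.beq c 104) [⟨43, 1, 1⟩] []) (cond (Nat.beq c 113) [⟨49, 1, 1⟩] [])) (cond (Nat.blt c 116)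 (cond (Nat.beq c 114) [⟨50, 1, 1⟩] []) (cond (Nat.beq c 116) [⟨53, -1, 1⟩] [])))) (cond (Nat.blt c 126) (cond (Nat.blt c 121) (cond (Nat.blt c 119) (cond (Nat.beq c 118) [⟨55, -1, 1⟩] []) (cond (Nat.beq c 119) [⟨56, -1, 1⟩] [])) (cond (Nat.blt c 125) (cond (Nat.beq c 121) [⟨59, 1, 1⟩] []) (cond (Nat.beq c 125) [⟨60, 1, 1⟩] []))) (cond (Nat.blt c 143) (cond (Nat.blt c 131) (cond (Nat.beq c 126) [⟨61, 1, 1⟩] []) (cond (Nat.beq c 131) [⟨63, 1, 1⟩] [])) (cond (Nat.blt c 144) (cond (Nat.beq c 143) [⟨72, 1, 1⟩] []) (cond (Nat.beq c 144) [⟨76, -1, 1⟩] [])))))) (cond (Nat.blt c 200) (cond (Nat.blt c 179) (cond (Nat.blt c 171) (cond (Nat.blt c 157) (cond (Nat.blt c 155) (cond (Nat.beq c 146) [⟨78, 1, 1⟩] []) (cond (Nat.beq c 155) [⟨81, 1, 1⟩] [])) (cond (Nat.blt c 161) (cond (Nat.beq c 157) [⟨83, -1, 1⟩]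 []) (cond (Nat.beq c 161) [⟨84, 1, 1⟩] []))) (cond (Nat.blt c 174) (cond (Nat.blt c 172) (cond (Nat.beq c 171) [⟨94, -1, 1⟩] []) (cond (Nat.beq c 172) [⟨98, 1, 1⟩] [])) (cond (Nat.blt c 177) (cond (Nat.beq c 174) [⟨100, -1, 1⟩] []) (cond (Nat.beq c 177) [⟨109, -1, 1⟩] [])))) (cond (Nat.blt c 194) (cond (Nat.blt c 192) (cond (Nat.blt c 183) (cond (Nat.beq c 179) [⟨111, 1, 1⟩] []) (cond (Nat.beq c 183) [⟨112, -1, 1⟩] [])) (cond (Nat.blt c 193) (cond (Nat.beq c 192) [⟨124, -1, 1⟩] []) (cond (Nat.beq c 193) [⟨62, -1, 2⟩, ⟨0, -1, 1⟩, ⟨1, -1, 1⟩, ⟨2, -2, 1⟩, ⟨3, -2, 1⟩, ⟨4, -1, 1⟩, ⟨5, -1, 1⟩, ⟨6, 0, 1⟩, ⟨7, 0, 1⟩] []))) (cond (Nat.blt c 196) (cond (Nat.blt c 195) (cond (Nat.beq c 194) [⟨129, -1, 1⟩] []) (cond (Nat.beq c 195) [⟨130, -1, 1⟩] [])) (cond (Nat.blt c 199) (cond (Nat.beq c 196) [⟨134, -1, 1⟩]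 []) (cond (Nat.beq c 199) [⟨136, 1, 1⟩] []))))) (cond (Nat.blt c 228) (cond (Nat.blt c 212) (cond (Nat.blt c 205) (cond (Nat.blt c 202) (cond (Nat.beq c 200) [⟨137, 1, 1⟩] []) (cond (Nat.beq c 202) [⟨139, 1, 1⟩] [])) (cond (Nat.blt c 206) (cond (Nat.beq c 205) [⟨141, -1, 1⟩] []) (cond (Nat.beq c 206) [⟨142, -1, 1⟩] []))) (cond (Nat.blt c 216) (cond (Nat.blt c 215) (cond (Nat.beq c 212) [⟨151, -1, 1⟩] []) (cond (Nat.beq c 215) [⟨153, 1, 1⟩] [])) (cond (Nat.blt c 227) (cond (Nat.beq c 216) [⟨154, 1, 1⟩] []) (cond (Nat.beq c 227) [⟨165, 1, 1⟩] [])))) (cond (Nat.blt c 237) (cond (Nat.blt c 234) (cond (Nat.blt c 230) (cond (Nat.beq c 228) [⟨166, 1, 1⟩] []) (cond (Nat.beq c 230) [⟨169, -1, 1⟩] [])) (cond (Nat.blt c 235) (cond (Nat.beq c 234) [⟨187, -1, 1⟩] []) (cond (Nat.beq c 235) [⟨188, -1, 1⟩] [])))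 (cond (Nat.blt c 242) (cond (Nat.blt c 240) (cond (Nat.beq c 237) [⟨191, 1, 1⟩] []) (cond (Nat.beq c 240) [⟨210, 1, 1⟩] [])) (cond (Nat.blt c 243) (cond (Nat.beq c 242) [⟨220, 1, 1⟩] []) (cond (Nat.blt c 245) (cond (Nat.beq c 243) [⟨224, 1, 1⟩] []) (cond (Nat.beq c 245) [⟨226, -1, 1⟩] [])))))))

/-- Compiled columns of `x_55` for type E8. -/
def colsE8_55 (c : ℕ) : List CEnt :=
  cond (Nat.blt c 145) (cond (Nat.blt c 87) (cond (Nat.blt c 29) (cond (Nat.blt c 4) (cond (Nat.blt c 2) (cond (Nat.blt c 1) (cond (Nat.beq c 0) [⟨63, 0, 1⟩] []) (cond (Nat.beq c 1) [⟨63, 0, 1⟩] [])) (cond (Nat.blt c 3) (cond (Nat.beq c 2) [⟨63, 1, 1⟩] []) (cond (Nat.beq c 3) [⟨63, 0, 1⟩] []))) (cond (Nat.blt c 6) (cond (Nat.blt c 5) (cond (Nat.beq c 4) [⟨63, 0, 1⟩] []) (cond (Nat.beq c 5) [⟨63, -1, 1⟩] [])) (cond (Nat.blt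 c 7) (cond (Nat.beq c 6) [⟨63, 0, 1⟩] []) (cond (Nat.beq c 7) [⟨63, 0, 1⟩] [])))) (cond (Nat.blt c 64) (cond (Nat.blt c 34) (cond (Nat.blt c 30) (cond (Nat.beq c 29) [⟨11, 1, 1⟩] []) (cond (Nat.beq c 30) [⟨12, 1, 1⟩] [])) (cond (Nat.blt c 44) (cond (Nat.beq c 34) [⟨13, 1, 1⟩] []) (cond (Nat.beq c 44) [⟨15, 1, 1⟩] []))) (cond (Nat.blt c 66) (cond (Nat.blt c 65) (cond (Nat.beq c 64) [⟨19, -1, 1⟩] []) (cond (Nat.beq c 65) [⟨20, -1, 1⟩] [])) (cond (Nat.blt c 86) (cond (Nat.beq c 66) [⟨21, -1, 1⟩] []) (cond (Nat.beq c 86) [⟨26, 1, 1⟩] []))))) (cond (Nat.blt c 118) (cond (Nat.blt c 103) (cond (Nat.blt c 101) (cond (Nat.blt c 88) (cond (Nat.beq c 87) [⟨27, 1, 1⟩] []) (cond (Nat.beq c 88) [⟨28, 1, 1⟩] [])) (cond (Nat.blt c 102) (cond (Nat.beq c 101) [⟨41, -1, 1⟩] []) (cond (Nat.beq c 102) [⟨42, -1, 1⟩]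 []))) (cond (Nat.blt c 114) (cond (Nat.blt c 113) (cond (Nat.beq c 103) [⟨43, -1, 1⟩] []) (cond (Nat.beq c 113) [⟨51, 1, 1⟩] [])) (cond (Nat.blt c 115) (cond (Nat.beq c 114) [⟨52, 1, 1⟩] []) (cond (Nat.beq c 115) [⟨53, 1, 1⟩] [])))) (cond (Nat.blt c 123) (cond (Nat.blt c 120) (cond (Nat.blt c 119) (cond (Nat.beq c 118) [⟨57, -1, 1⟩] []) (cond (Nat.beq c 119) [⟨58, -1, 1⟩] [])) (cond (Nat.blt c 122) (cond (Nat.beq c 120) [⟨59, -1, 1⟩] []) (cond (Nat.beq c 122) [⟨60, 1, 1⟩] []))) (cond (Nat.blt c 143) (cond (Nat.blt c 124) (cond (Nat.beq c 123) [⟨61, 1, 1⟩] []) (cond (Nat.beq c 124) [⟨62, 1, 1⟩] [])) (cond (Nat.blt c 144) (cond (Nat.beq c 143) [⟨73, 1, 1⟩] []) (cond (Nat.beq c 144) [⟨77, -1, 1⟩] [])))))) (cond (Nat.blt c 198) (cond (Nat.blt c 178) (cond (Nat.blt c 171) (cond (Nat.blt c 156) (cond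 (Nat.blt c 155) (cond (Nat.beq c 145) [⟨78, 1, 1⟩] []) (cond (Nat.beq c 155) [⟨82, 1, 1⟩] [])) (cond (Nat.blt c 160) (cond (Nat.beq c 156) [⟨83, -1, 1⟩] []) (cond (Nat.beq c 160) [⟨84, 1, 1⟩] []))) (cond (Nat.blt c 173) (cond (Nat.blt c 172) (cond (Nat.beq c 171) [⟨95, -1, 1⟩] []) (cond (Nat.beq c 172) [⟨99, 1, 1⟩] [])) (cond (Nat.blt c 177) (cond (Nat.beq c 173) [⟨100, -1, 1⟩] []) (cond (Nat.beq c 177) [⟨110, -1, 1⟩] [])))) (cond (Nat.blt c 194) (cond (Nat.blt c 192) (cond (Nat.blt c 182) (cond (Nat.beq c 178) [⟨111, 1, 1⟩] []) (cond (Nat.beq c 182) [⟨112, -1, 1⟩] [])) (cond (Nat.blt c 193) (cond (Nat.beq c 192) [⟨63, -1, 2⟩, ⟨0, -1, 1⟩, ⟨1, -1, 1⟩, ⟨2, -2, 1⟩, ⟨3, -2, 1⟩, ⟨4, -1, 1⟩, ⟨5, 0, 1⟩, ⟨6, 0, 1⟩, ⟨7, 0, 1⟩] []) (cond (Nat.beq c 193) [⟨131, -1, 1⟩] []))) (cond (Nat.blt c 196) (cond (Nat.blt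 c 195) (cond (Nat.beq c 194) [⟨132, -1, 1⟩] []) (cond (Nat.beq c 195) [⟨133, -1, 1⟩] [])) (cond (Nat.blt c 197) (cond (Nat.beq c 196) [⟨135, 1, 1⟩] []) (cond (Nat.beq c 197) [⟨136, 1, 1⟩] []))))) (cond (Nat.blt c 228) (cond (Nat.blt c 212) (cond (Nat.blt c 203) (cond (Nat.blt c 202) (cond (Nat.beq c 198) [⟨137, 1, 1⟩] []) (cond (Nat.beq c 202) [⟨140, -1, 1⟩] [])) (cond (Nat.blt c 204) (cond (Nat.beq c 203) [⟨141, -1, 1⟩] []) (cond (Nat.beq c 204) [⟨142, -1, 1⟩] []))) (cond (Nat.blt c 214) (cond (Nat.blt c 213) (cond (Nat.beq c 212) [⟨152, 1, 1⟩] []) (cond (Nat.beq c 213) [⟨153, 1, 1⟩] [])) (cond (Nat.blt c 227) (cond (Nat.beq c 214) [⟨154, 1, 1⟩] []) (cond (Nat.beq c 227) [⟨167, -1, 1⟩] [])))) (cond (Nat.blt c 236) (cond (Nat.blt c 234) (cond (Nat.blt c 229) (cond (Nat.beq c 228) [⟨168, -1, 1⟩]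 []) (cond (Nat.beq c 229) [⟨169, -1, 1⟩] [])) (cond (Nat.blt c 235) (cond (Nat.beq c 234) [⟨189, 1, 1⟩] []) (cond (Nat.beq c 235) [⟨190, 1, 1⟩] []))) (cond (Nat.blt c 242) (cond (Nat.blt c 240) (cond (Nat.beq c 236) [⟨191, 1, 1⟩] []) (cond (Nat.beq c 240) [⟨211, -1, 1⟩] [])) (cond (Nat.blt c 243) (cond (Nat.beq c 242) [⟨221, -1, 1⟩] []) (cond (Nat.blt c 244) (cond (Nat.beq c 243) [⟨225, -1, 1⟩] []) (cond (Nat.beq c 244) [⟨226, -1, 1⟩] [])))))))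

/-- Compiled columns of `x_56` for type E8. -/
def colsE8_56 (c : ℕ) : List CEnt :=
  cond (Nat.blt c 142) (cond (Nat.blt c 94) (cond (Nat.blt c 27) (cond (Nat.blt c 4) (cond (Nat.blt c 2) (cond (Nat.blt c 1) (cond (Nat.beq c 0) [⟨64, 1, 1⟩] []) (cond (Nat.beq c 1) [⟨64, 0, 1⟩] [])) (cond (Nat.blt c 3) (cond (Nat.beq c 2) [⟨64, -1, 1⟩] []) (cond (Nat.beq c 3) [⟨64, 0, 1⟩] []))) (cond (Nat.blt c 6) (cond (Nat.blt c 5) (cond (Nat.beq c 4) [⟨64, 0, 1⟩] []) (cond (Nat.beq c 5) [⟨64, 0, 1⟩] [])) (cond (Nat.blt c 7) (cond (Nat.beq c 6) [⟨64, 1, 1⟩] []) (cond (Nat.beq c 7) [⟨64, 0, 1⟩] [])))) (cond (Nat.blt c 59) (cond (Nat.blt c 43) (cond (Nat.blt c 28) (cond (Nat.beq c 27) [⟨8, 1, 1⟩] []) (cond (Nat.beq c 28) [⟨9, 1, 1⟩] [])) (cond (Nat.blt c 53) (cond (Nat.beq c 43) [⟨14, 1, 1⟩] []) (cond (Nat.beq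 c 53) [⟨16, 1, 1⟩] []))) (cond (Nat.blt c 63) (cond (Nat.blt c 62) (cond (Nat.beq c 59) [⟨17, 1, 1⟩] []) (cond (Nat.beq c 62) [⟨18, 1, 1⟩] [])) (cond (Nat.blt c 91) (cond (Nat.beq c 63) [⟨19, 1, 1⟩] []) (cond (Nat.beq c 91) [⟨29, 1, 1⟩] []))))) (cond (Nat.blt c 112) (cond (Nat.blt c 100) (cond (Nat.blt c 98) (cond (Nat.blt c 95) (cond (Nat.beq c 94) [⟨30, 1, 1⟩] []) (cond (Nat.beq c 95) [⟨31, 1, 1⟩] [])) (cond (Nat.blt c 99) (cond (Nat.beq c 98) [⟨34, 1, 1⟩] []) (cond (Nat.beq c 99) [⟨35, 1, 1⟩] []))) (cond (Nat.blt c 110) (cond (Nat.blt c 109) (cond (Nat.beq c 100) [⟨38, 1, 1⟩] []) (cond (Nat.beq c 109) [⟨44, 1, 1⟩] [])) (cond (Nat.blt c 111) (cond (Nat.beq c 110) [⟨45, 1, 1⟩] []) (cond (Nat.beq c 111) [⟨48, 1, 1⟩] [])))) (cond (Nat.blt c 133) (cond (Nat.blt c 130) (cond (Nat.blt c 129) (cond (Nat.beq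 c 112) [⟨54, 1, 1⟩] []) (cond (Nat.beq c 129) [⟨65, 1, 1⟩] [])) (cond (Nat.blt c 132) (cond (Nat.beq c 130) [⟨66, -1, 1⟩] []) (cond (Nat.beq c 132) [⟨67, 1, 1⟩] []))) (cond (Nat.blt c 137) (cond (Nat.blt c 136) (cond (Nat.beq c 133) [⟨68, -1, 1⟩] []) (cond (Nat.beq c 136) [⟨70, 1, 1⟩] [])) (cond (Nat.blt c 141) (cond (Nat.beq c 137) [⟨71, -1, 1⟩] []) (cond (Nat.beq c 141) [⟨74, 1, 1⟩] [])))))) (cond (Nat.blt c 201) (cond (Nat.blt c 181) (cond (Nat.blt c 170) (cond (Nat.blt c 154) (cond (Nat.blt c 153) (cond (Nat.beq c 142) [⟨75, -1, 1⟩] []) (cond (Nat.beq c 153) [⟨79, 1, 1⟩] [])) (cond (Nat.blt c 169) (cond (Nat.beq c 154) [⟨80, -1, 1⟩] []) (cond (Nat.beq c 169) [⟨85, 1, 1⟩] []))) (cond (Nat.blt c 176) (cond (Nat.blt c 175) (cond (Nat.beq c 170) [⟨86, -1, 1⟩] []) (cond (Nat.beq c 175) [⟨101, 1,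 1⟩] [])) (cond (Nat.blt c 180) (cond (Nat.beq c 176) [⟨102, -1, 1⟩] []) (cond (Nat.beq c 180) [⟨113, 1, 1⟩] [])))) (cond (Nat.blt c 188) (cond (Nat.blt c 185) (cond (Nat.blt c 184) (cond (Nat.beq c 181) [⟨114, -1, 1⟩] []) (cond (Nat.beq c 184) [⟨118, 1, 1⟩] [])) (cond (Nat.blt c 187) (cond (Nat.beq c 185) [⟨119, -1, 1⟩] []) (cond (Nat.beq c 187) [⟨122, 1, 1⟩] []))) (cond (Nat.blt c 190) (cond (Nat.blt c 189) (cond (Nat.beq c 188) [⟨123, -1, 1⟩] []) (cond (Nat.beq c 189) [⟨125, 1, 1⟩] [])) (cond (Nat.blt c 191) (cond (Nat.beq c 190) [⟨126, -1, 1⟩] []) (cond (Nat.beq c 191) [⟨64, -1, 2⟩, ⟨0, -1, 1⟩, ⟨1, -1, 1⟩, ⟨2, -1, 1⟩, ⟨3, -2, 1⟩, ⟨4, -2, 1⟩, ⟨5, -2, 1⟩, ⟨6, -2, 1⟩, ⟨7, -1, 1⟩] []))))) (cond (Nat.blt c 225) (cond (Nat.blt c 217) (cond (Nat.blt c 210) (cond (Nat.blt c 207) (cond (Nat.beq c 201)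 [⟨143, -1, 1⟩] []) (cond (Nat.beq c 207) [⟨144, -1, 1⟩] [])) (cond (Nat.blt c 211) (cond (Nat.beq c 210) [⟨145, -1, 1⟩] []) (cond (Nat.beq c 211) [⟨146, -1, 1⟩] []))) (cond (Nat.blt c 221) (cond (Nat.blt c 220) (cond (Nat.beq c 217) [⟨155, -1, 1⟩] []) (cond (Nat.beq c 220) [⟨156, -1, 1⟩] [])) (cond (Nat.blt c 224) (cond (Nat.beq c 221) [⟨157, -1, 1⟩] []) (cond (Nat.beq c 224) [⟨160, -1, 1⟩] [])))) (cond (Nat.blt c 238) (cond (Nat.blt c 236) (cond (Nat.blt c 226) (cond (Nat.beq c 225) [⟨161, -1, 1⟩] []) (cond (Nat.beq c 226) [⟨164, -1, 1⟩] [])) (cond (Nat.blt c 237) (cond (Nat.beq c 236) [⟨192, -1, 1⟩] []) (cond (Nat.beq c 237) [⟨193, -1, 1⟩] []))) (cond (Nat.blt c 241) (cond (Nat.blt c 239) (cond (Nat.beq c 238) [⟨196, -1, 1⟩] []) (cond (Nat.beq c 239) [⟨202, -1, 1⟩] [])) (cond (Nat.blt c 246) (cond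 (Nat.beq c 241) [⟨212, -1, 1⟩] []) (cond (Nat.blt c 247) (cond (Nat.beq c 246) [⟨227, -1, 1⟩] []) (cond (Nat.beq c 247) [⟨228, -1, 1⟩] [])))))))

/-- Compiled columns of `x_57` for type E8. -/
def colsE8_57 (c : ℕ) : List CEnt :=
  cond (Nat.blt c 142) (cond (Nat.blt c 93) (cond (Nat.blt c 26) (cond (Nat.blt c 4) (cond (Nat.blt c 2) (cond (Nat.blt c 1) (cond (Nat.beq c 0) [⟨65, 1, 1⟩] []) (cond (Nat.beq c 1) [⟨65, 0, 1⟩] [])) (cond (Nat.blt c 3) (cond (Nat.beq c 2) [⟨65, -1, 1⟩] []) (cond (Nat.beq c 3) [⟨65, 0, 1⟩] []))) (cond (Nat.blt c 6) (cond (Nat.blt c 5) (cond (Nat.beq c 4) [⟨65, 0, 1⟩] []) (cond (Nat.beq c 5) [⟨65, 1, 1⟩] [])) (cond (Nat.blt c 7) (cond (Nat.beq c 6) [⟨65, -1, 1⟩] []) (cond (Nat.beq c 7) [⟨65, 1, 1⟩] [])))) (cond (Nat.blt c 58) (cond (Nat.blt c 42) (cond (Nat.blt c 28) (cond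 (Nat.beq c 26) [⟨8, -1, 1⟩] []) (cond (Nat.beq c 28) [⟨10, 1, 1⟩] [])) (cond (Nat.blt c 52) (cond (Nat.beq c 42) [⟨14, -1, 1⟩] []) (cond (Nat.beq c 52) [⟨16, -1, 1⟩] []))) (cond (Nat.blt c 63) (cond (Nat.blt c 61) (cond (Nat.beq c 58) [⟨17, -1, 1⟩] []) (cond (Nat.beq c 61) [⟨18, -1, 1⟩] [])) (cond (Nat.blt c 90) (cond (Nat.beq c 63) [⟨20, 1, 1⟩] []) (cond (Nat.beq c 90) [⟨29, -1, 1⟩] []))))) (cond (Nat.blt c 112) (cond (Nat.blt c 100) (cond (Nat.blt c 97) (cond (Nat.blt c 95) (cond (Nat.beq c 93) [⟨30, -1, 1⟩] []) (cond (Nat.beq c 95) [⟨32, 1, 1⟩] [])) (cond (Nat.blt c 99) (cond (Nat.beq c 97) [⟨34, -1, 1⟩] []) (cond (Nat.beq c 99) [⟨36, 1, 1⟩] []))) (cond (Nat.blt c 110) (cond (Nat.blt c 108) (cond (Nat.beq c 100) [⟨39, 1, 1⟩] []) (cond (Nat.beq c 108) [⟨44, -1, 1⟩] [])) (cond (Nat.blt c 111) (cond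 (Nat.beq c 110) [⟨46, 1, 1⟩] []) (cond (Nat.beq c 111) [⟨49, 1, 1⟩] [])))) (cond (Nat.blt c 133) (cond (Nat.blt c 128) (cond (Nat.blt c 126) (cond (Nat.beq c 112) [⟨55, 1, 1⟩] []) (cond (Nat.beq c 126) [⟨64, 1, 1⟩] [])) (cond (Nat.blt c 131) (cond (Nat.beq c 128) [⟨66, 1, 1⟩] []) (cond (Nat.beq c 131) [⟨67, 1, 1⟩] []))) (cond (Nat.blt c 137) (cond (Nat.blt c 135) (cond (Nat.beq c 133) [⟨69, -1, 1⟩] []) (cond (Nat.beq c 135) [⟨70, 1, 1⟩] [])) (cond (Nat.blt c 140) (cond (Nat.beq c 137) [⟨72, -1, 1⟩] []) (cond (Nat.beq c 140) [⟨74, 1, 1⟩] [])))))) (cond (Nat.blt c 200) (cond (Nat.blt c 181) (cond (Nat.blt c 170) (cond (Nat.blt c 154) (cond (Nat.blt c 152) (cond (Nat.beq c 142) [⟨76, -1, 1⟩] []) (cond (Nat.beq c 152) [⟨79, 1, 1⟩] [])) (cond (Nat.blt c 168) (cond (Nat.beq c 154) [⟨81, -1, 1⟩] []) (cond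 (Nat.beq c 168) [⟨85, 1, 1⟩] []))) (cond (Nat.blt c 176) (cond (Nat.blt c 174) (cond (Nat.beq c 170) [⟨87, -1, 1⟩] []) (cond (Nat.beq c 174) [⟨101, 1, 1⟩] [])) (cond (Nat.blt c 179) (cond (Nat.beq c 176) [⟨103, -1, 1⟩] []) (cond (Nat.beq c 179) [⟨113, 1, 1⟩] [])))) (cond (Nat.blt c 188) (cond (Nat.blt c 185) (cond (Nat.blt c 183) (cond (Nat.beq c 181) [⟨115, -1, 1⟩] []) (cond (Nat.beq c 183) [⟨118, 1, 1⟩] [])) (cond (Nat.blt c 186) (cond (Nat.beq c 185) [⟨120, -1, 1⟩] []) (cond (Nat.beq c 186) [⟨122, 1, 1⟩] []))) (cond (Nat.blt c 190) (cond (Nat.blt c 189) (cond (Nat.beq c 188) [⟨124, -1, 1⟩] []) (cond (Nat.beq c 189) [⟨127, -1, 1⟩] [])) (cond (Nat.blt c 191) (cond (Nat.beq c 190) [⟨65, -1, 2⟩, ⟨0, -1, 1⟩, ⟨1, -1, 1⟩, ⟨2, -1, 1⟩, ⟨3, -2, 1⟩, ⟨4, -2, 1⟩, ⟨5, -2, 1⟩, ⟨6, -1, 1⟩, ⟨7, -1, 1⟩] []) (cond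 (Nat.beq c 191) [⟨129, -1, 1⟩] []))))) (cond (Nat.blt c 225) (cond (Nat.blt c 216) (cond (Nat.blt c 209) (cond (Nat.blt c 206) (cond (Nat.beq c 200) [⟨143, -1, 1⟩] []) (cond (Nat.beq c 206) [⟨144, -1, 1⟩] [])) (cond (Nat.blt c 211) (cond (Nat.beq c 209) [⟨145, -1, 1⟩] []) (cond (Nat.beq c 211) [⟨147, 1, 1⟩] []))) (cond (Nat.blt c 221) (cond (Nat.blt c 219) (cond (Nat.beq c 216) [⟨155, -1, 1⟩] []) (cond (Nat.beq c 219) [⟨156, -1, 1⟩] [])) (cond (Nat.blt c 223) (cond (Nat.beq c 221) [⟨158, 1, 1⟩] []) (cond (Nat.beq c 223) [⟨160, -1, 1⟩] [])))) (cond (Nat.blt c 238) (cond (Nat.blt c 235) (cond (Nat.blt c 226) (cond (Nat.beq c 225) [⟨162, 1, 1⟩] []) (cond (Nat.beq c 226) [⟨165, 1, 1⟩] [])) (cond (Nat.blt c 237) (cond (Nat.beq c 235) [⟨192, -1, 1⟩] []) (cond (Nat.beq c 237) [⟨194, 1, 1⟩] []))) (cond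 (Nat.blt c 241) (cond (Nat.blt c 239) (cond (Nat.beq c 238) [⟨197, 1, 1⟩] []) (cond (Nat.beq c 239) [⟨203, 1, 1⟩] [])) (cond (Nat.blt c 245) (cond (Nat.beq c 241) [⟨213, 1, 1⟩] []) (cond (Nat.blt c 247) (cond (Nat.beq c 245) [⟨227, -1, 1⟩] []) (cond (Nat.beq c 247) [⟨229, 1, 1⟩] [])))))))

/-- Compiled columns of `x_58` for type E8. -/
def colsE8_58 (c : ℕ) : List CEnt :=
  cond (Nat.blt c 141) (cond (Nat.blt c 92) (cond (Nat.blt c 26) (cond (Nat.blt c 4) (cond (Nat.blt c 2) (cond (Nat.blt c 1) (cond (Nat.beq c 0) [⟨66, 1, 1⟩] []) (cond (Nat.beq c 1) [⟨66, 0, 1⟩] [])) (cond (Nat.blt c 3) (cond (Nat.beq c 2) [⟨66, -1, 1⟩] []) (cond (Nat.beq c 3) [⟨66, 0, 1⟩] []))) (cond (Nat.blt c 6) (cond (Nat.blt c 5) (cond (Nat.beq c 4) [⟨66, 0, 1⟩] []) (cond (Nat.beq c 5) [⟨66, 1, 1⟩] [])) (cond (Nat.blt c 7)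 (cond (Nat.beq c 6) [⟨66, 0, 1⟩] []) (cond (Nat.beq c 7) [⟨66, -1, 1⟩] [])))) (cond (Nat.blt c 57) (cond (Nat.blt c 41) (cond (Nat.blt c 27) (cond (Nat.beq c 26) [⟨9, -1, 1⟩] []) (cond (Nat.beq c 27) [⟨10, -1, 1⟩] [])) (cond (Nat.blt c 51) (cond (Nat.beq c 41) [⟨14, 1, 1⟩] []) (cond (Nat.beq c 51) [⟨16, 1, 1⟩] []))) (cond (Nat.blt c 63) (cond (Nat.blt c 60) (cond (Nat.beq c 57) [⟨17, 1, 1⟩] []) (cond (Nat.beq c 60) [⟨18, 1, 1⟩] [])) (cond (Nat.blt c 89) (cond (Nat.beq c 63) [⟨21, 1, 1⟩] []) (cond (Nat.beq c 89) [⟨29, 1, 1⟩] []))))) (cond (Nat.blt c 112) (cond (Nat.blt c 100) (cond (Nat.blt c 96) (cond (Nat.blt c 95) (cond (Nat.beq c 92) [⟨30, 1, 1⟩] []) (cond (Nat.beq c 95) [⟨33, 1, 1⟩] [])) (cond (Nat.blt c 99) (cond (Nat.beq c 96) [⟨34, 1, 1⟩] []) (cond (Nat.beq c 99) [⟨37, 1, 1⟩] []))) (cond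 (Nat.blt c 110) (cond (Nat.blt c 107) (cond (Nat.beq c 100) [⟨40, 1, 1⟩] []) (cond (Nat.beq c 107) [⟨44, 1, 1⟩] [])) (cond (Nat.blt c 111) (cond (Nat.beq c 110) [⟨47, 1, 1⟩] []) (cond (Nat.beq c 111) [⟨50, 1, 1⟩] [])))) (cond (Nat.blt c 132) (cond (Nat.blt c 127) (cond (Nat.blt c 125) (cond (Nat.beq c 112) [⟨56, 1, 1⟩] []) (cond (Nat.beq c 125) [⟨64, -1, 1⟩] [])) (cond (Nat.blt c 131) (cond (Nat.beq c 127) [⟨65, 1, 1⟩] []) (cond (Nat.beq c 131) [⟨68, 1, 1⟩] []))) (cond (Nat.blt c 136) (cond (Nat.blt c 135) (cond (Nat.beq c 132) [⟨69, -1, 1⟩] []) (cond (Nat.beq c 135) [⟨71, 1, 1⟩] [])) (cond (Nat.blt c 140) (cond (Nat.beq c 136) [⟨72, -1, 1⟩] []) (cond (Nat.beq c 140) [⟨75, 1, 1⟩] [])))))) (cond (Nat.blt c 199) (cond (Nat.blt c 180) (cond (Nat.blt c 170) (cond (Nat.blt c 153) (cond (Nat.blt c 152)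 (cond (Nat.beq c 141) [⟨76, -1, 1⟩] []) (cond (Nat.beq c 152) [⟨80, 1, 1⟩] [])) (cond (Nat.blt c 167) (cond (Nat.beq c 153) [⟨81, -1, 1⟩] []) (cond (Nat.beq c 167) [⟨85, 1, 1⟩] []))) (cond (Nat.blt c 175) (cond (Nat.blt c 174) (cond (Nat.beq c 170) [⟨88, -1, 1⟩] []) (cond (Nat.beq c 174) [⟨102, 1, 1⟩] [])) (cond (Nat.blt c 179) (cond (Nat.beq c 175) [⟨103, -1, 1⟩] []) (cond (Nat.beq c 179) [⟨114, 1, 1⟩] [])))) (cond (Nat.blt c 187) (cond (Nat.blt c 184) (cond (Nat.blt c 183) (cond (Nat.beq c 180) [⟨115, -1, 1⟩] []) (cond (Nat.beq c 183) [⟨119, 1, 1⟩] [])) (cond (Nat.blt c 186) (cond (Nat.beq c 184) [⟨120, -1, 1⟩] []) (cond (Nat.beq c 186) [⟨123, 1, 1⟩] []))) (cond (Nat.blt c 190) (cond (Nat.blt c 189) (cond (Nat.beq c 187) [⟨124, -1, 1⟩] []) (cond (Nat.beq c 189) [⟨66, -1, 2⟩, ⟨0, -1, 1⟩, ⟨1, -1,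 1⟩, ⟨2, -1, 1⟩, ⟨3, -2, 1⟩, ⟨4, -2, 1⟩, ⟨5, -2, 1⟩, ⟨6, -1, 1⟩, ⟨7, 0, 1⟩] [])) (cond (Nat.blt c 191) (cond (Nat.beq c 190) [⟨128, -1, 1⟩] []) (cond (Nat.beq c 191) [⟨130, 1, 1⟩] []))))) (cond (Nat.blt c 225) (cond (Nat.blt c 215) (cond (Nat.blt c 208) (cond (Nat.blt c 205) (cond (Nat.beq c 199) [⟨143, -1, 1⟩] []) (cond (Nat.beq c 205) [⟨144, -1, 1⟩] [])) (cond (Nat.blt c 211) (cond (Nat.beq c 208) [⟨145, -1, 1⟩] []) (cond (Nat.beq c 211) [⟨148, -1, 1⟩] []))) (cond (Nat.blt c 221) (cond (Nat.blt c 218) (cond (Nat.beq c 215) [⟨155, -1, 1⟩] []) (cond (Nat.beq c 218) [⟨156, -1, 1⟩] [])) (cond (Nat.blt c 222) (cond (Nat.beq c 221) [⟨159, -1, 1⟩] []) (cond (Nat.beq c 222) [⟨160, -1, 1⟩] [])))) (cond (Nat.blt c 238) (cond (Nat.blt c 234) (cond (Nat.blt c 226) (cond (Nat.beq c 225) [⟨163, -1, 1⟩] []) (cond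 (Nat.beq c 226) [⟨166, -1, 1⟩] [])) (cond (Nat.blt c 237) (cond (Nat.beq c 234) [⟨192, -1, 1⟩] []) (cond (Nat.beq c 237) [⟨195, -1, 1⟩] []))) (cond (Nat.blt c 241) (cond (Nat.blt c 239) (cond (Nat.beq c 238) [⟨198, -1, 1⟩] []) (cond (Nat.beq c 239) [⟨204, -1, 1⟩] [])) (cond (Nat.blt c 245) (cond (Nat.beq c 241) [⟨214, -1, 1⟩] []) (cond (Nat.blt c 246) (cond (Nat.beq c 245) [⟨228, 1, 1⟩] []) (cond (Nat.beq c 246) [⟨229, 1, 1⟩] [])))))))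

/-- Compiled columns of `x_59` for type E8. -/
def colsE8_59 (c : ℕ) : List CEnt :=
  cond (Nat.blt c 142) (cond (Nat.blt c 93) (cond (Nat.blt c 25) (cond (Nat.blt c 4) (cond (Nat.blt c 2) (cond (Nat.blt c 1) (cond (Nat.beq c 0) [⟨67, 1, 1⟩] []) (cond (Nat.beq c 1) [⟨67, 0, 1⟩] [])) (cond (Nat.blt c 3) (cond (Nat.beq c 2) [⟨67, -1, 1⟩] []) (cond (Nat.beq c 3) [⟨67, 0, 1⟩] []))) (cond (Nat.blt c 6) (cond (Nat.blt c 5) (cond (Nat.beq c 4) [⟨67, 1, 1⟩] []) (cond (Nat.beq c 5) [⟨67, -1, 1⟩] [])) (cond (Nat.blt c 7) (cond (Nat.beq c 6) [⟨67, 0, 1⟩] []) (cond (Nat.beq c 7) [⟨67, 1, 1⟩] [])))) (cond (Nat.blt c 56) (cond (Nat.blt c 40) (cond (Nat.blt c 28) (cond (Nat.beq c 25) [⟨8, 1, 1⟩] []) (cond (Nat.beq c 28) [⟨11, 1, 1⟩] [])) (cond (Nat.blt c 50) (cond (Nat.beq c 40) [⟨14, 1, 1⟩] []) (cond (Nat.beq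 c 50) [⟨16, 1, 1⟩] []))) (cond (Nat.blt c 62) (cond (Nat.blt c 61) (cond (Nat.beq c 56) [⟨17, 1, 1⟩] []) (cond (Nat.beq c 61) [⟨19, -1, 1⟩] [])) (cond (Nat.blt c 88) (cond (Nat.beq c 62) [⟨20, -1, 1⟩] []) (cond (Nat.beq c 88) [⟨29, 1, 1⟩] []))))) (cond (Nat.blt c 112) (cond (Nat.blt c 100) (cond (Nat.blt c 97) (cond (Nat.blt c 94) (cond (Nat.beq c 93) [⟨31, -1, 1⟩] []) (cond (Nat.beq c 94) [⟨32, -1, 1⟩] [])) (cond (Nat.blt c 98) (cond (Nat.beq c 97) [⟨35, -1, 1⟩] []) (cond (Nat.beq c 98) [⟨36, -1, 1⟩] []))) (cond (Nat.blt c 109) (cond (Nat.blt c 108) (cond (Nat.beq c 100) [⟨41, 1, 1⟩] []) (cond (Nat.beq c 108) [⟨45, -1, 1⟩] [])) (cond (Nat.blt c 111) (cond (Nat.beq c 109) [⟨46, -1, 1⟩] []) (cond (Nat.beq c 111) [⟨51, 1, 1⟩] [])))) (cond (Nat.blt c 130) (cond (Nat.blt c 124) (cond (Nat.blt c 123)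 (cond (Nat.beq c 112) [⟨57, 1, 1⟩] []) (cond (Nat.beq c 123) [⟨64, 1, 1⟩] [])) (cond (Nat.blt c 128) (cond (Nat.beq c 124) [⟨65, 1, 1⟩] []) (cond (Nat.beq c 128) [⟨68, 1, 1⟩] []))) (cond (Nat.blt c 137) (cond (Nat.blt c 134) (cond (Nat.beq c 130) [⟨69, 1, 1⟩] []) (cond (Nat.beq c 134) [⟨70, 1, 1⟩] [])) (cond (Nat.blt c 139) (cond (Nat.beq c 137) [⟨73, -1, 1⟩] []) (cond (Nat.beq c 139) [⟨74, 1, 1⟩] [])))))) (cond (Nat.blt c 198) (cond (Nat.blt c 181) (cond (Nat.blt c 170) (cond (Nat.blt c 154) (cond (Nat.blt c 151) (cond (Nat.beq c 142) [⟨77, -1, 1⟩] []) (cond (Nat.beq c 151) [⟨79, 1, 1⟩] [])) (cond (Nat.blt c 166) (cond (Nat.beq c 154) [⟨82, -1, 1⟩] []) (cond (Nat.beq c 166) [⟨85, 1, 1⟩] []))) (cond (Nat.blt c 176) (cond (Nat.blt c 173) (cond (Nat.beq c 170) [⟨89, -1, 1⟩] []) (cond (Nat.beq c 173)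 [⟨101, 1, 1⟩] [])) (cond (Nat.blt c 178) (cond (Nat.beq c 176) [⟨104, -1, 1⟩] []) (cond (Nat.beq c 178) [⟨113, 1, 1⟩] [])))) (cond (Nat.blt c 187) (cond (Nat.blt c 185) (cond (Nat.blt c 182) (cond (Nat.beq c 181) [⟨116, -1, 1⟩] []) (cond (Nat.beq c 182) [⟨118, 1, 1⟩] [])) (cond (Nat.blt c 186) (cond (Nat.beq c 185) [⟨121, -1, 1⟩] []) (cond (Nat.beq c 186) [⟨125, -1, 1⟩] []))) (cond (Nat.blt c 190) (cond (Nat.blt c 188) (cond (Nat.beq c 187) [⟨127, -1, 1⟩] []) (cond (Nat.beq c 188) [⟨67, -1, 2⟩, ⟨0, -1, 1⟩, ⟨1, -1, 1⟩, ⟨2, -1, 1⟩, ⟨3, -2, 1⟩, ⟨4, -2, 1⟩, ⟨5, -1, 1⟩, ⟨6, -1, 1⟩, ⟨7, -1, 1⟩] [])) (cond (Nat.blt c 191) (cond (Nat.beq c 190) [⟨131, -1, 1⟩] []) (cond (Nat.beq c 191) [⟨132, -1, 1⟩] []))))) (cond (Nat.blt c 224) (cond (Nat.blt c 214) (cond (Nat.blt c 209) (cond (Nat.blt c 204) (cond (Nat.beq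 c 198) [⟨143, -1, 1⟩] []) (cond (Nat.beq c 204) [⟨144, -1, 1⟩] [])) (cond (Nat.blt c 210) (cond (Nat.beq c 209) [⟨146, 1, 1⟩] []) (cond (Nat.beq c 210) [⟨147, 1, 1⟩] []))) (cond (Nat.blt c 220) (cond (Nat.blt c 219) (cond (Nat.beq c 214) [⟨155, -1, 1⟩] []) (cond (Nat.beq c 219) [⟨157, 1, 1⟩] [])) (cond (Nat.blt c 223) (cond (Nat.beq c 220) [⟨158, 1, 1⟩] []) (cond (Nat.beq c 223) [⟨161, 1, 1⟩] [])))) (cond (Nat.blt c 238) (cond (Nat.blt c 235) (cond (Nat.blt c 226) (cond (Nat.beq c 224) [⟨162, 1, 1⟩] []) (cond (Nat.beq c 226) [⟨167, -1, 1⟩] [])) (cond (Nat.blt c 236) (cond (Nat.beq c 235) [⟨193, 1, 1⟩] []) (cond (Nat.beq c 236) [⟨194, 1, 1⟩] []))) (cond (Nat.blt c 241) (cond (Nat.blt c 239) (cond (Nat.beq c 238) [⟨199, -1, 1⟩] []) (cond (Nat.beq c 239) [⟨205, -1, 1⟩] [])) (cond (Nat.blt c 244) (cond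 (Nat.beq c 241) [⟨215, -1, 1⟩] []) (cond (Nat.blt c 247) (cond (Nat.beq c 244) [⟨227, -1, 1⟩] []) (cond (Nat.beq c 247) [⟨230, -1, 1⟩] [])))))))

end Cfsg.Agent.Lib.Helper3.ChevM
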