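import Cfsg.Agent.Lib.Helper3.ChevM2
set_option autoImplicit false
set_option maxRecDepth 100000

namespace Cfsg.Agent.Lib.Helper3.ChevM

/-- Compiled columns of `x_60` for type E8. -/
def colsE8_60 (c : ℕ) : List CEnt :=
  cond (Nat.blt c 141) (cond (Nat.blt c 92) (cond (Nat.blt c 25) (cond (Nat.blt c 4) (cond (Nat.blt c 2) (cond (Nat.blt c 1) (cond (Nat.beq c 0) [⟨68, 1, 1⟩] []) (cond (Nat.beq c 1) [⟨68, 0, 1⟩] [])) (cond (Nat.blt c 3) (cond (Nat.beq c 2) [⟨68, -1, 1⟩] []) (cond (Nat.beq c 3) [⟨68, 0, 1⟩] []))) (cond (Nat.blt c 6) (cond (Nat.blt c 5) (cond (Nat.beq c 4) [⟨68, 1, 1⟩] []) (cond (Nat.beq c 5) [⟨68, -1, 1⟩] [])) (cond (Nat.blt c 7) (cond (Nat.beq c 6) [⟨68, 1, 1⟩] []) (cond (Nat.beq c 7) [⟨68, -1, 1⟩] [])))) (cond (Nat.blt c 55) (cond (Nat.blt c 39) (cond (Nat.blt c 27) (cond (Nat.beq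 c 25) [⟨9, 1, 1⟩] []) (cond (Nat.beq c 27) [⟨11, -1, 1⟩] [])) (cond (Nat.blt c 49) (cond (Nat.beq c 39) [⟨14, -1, 1⟩] []) (cond (Nat.beq c 49) [⟨16, -1, 1⟩] []))) (cond (Nat.blt c 62) (cond (Nat.blt c 60) (cond (Nat.beq c 55) [⟨17, -1, 1⟩] []) (cond (Nat.beq c 60) [⟨19, 1, 1⟩] [])) (cond (Nat.blt c 87) (cond (Nat.beq c 62) [⟨21, -1, 1⟩] []) (cond (Nat.beq c 87) [⟨29, -1, 1⟩] []))))) (cond (Nat.blt c 112) (cond (Nat.blt c 100) (cond (Nat.blt c 96) (cond (Nat.blt c 94) (cond (Nat.beq c 92) [⟨31, 1, 1⟩] []) (cond (Nat.beq c 94) [⟨33, -1, 1⟩] [])) (cond (Nat.blt c 98) (cond (Nat.beq c 96) [⟨35, 1, 1⟩] []) (cond (Nat.beq c 98) [⟨37, -1, 1⟩] []))) (cond (Nat.blt c 109) (cond (Nat.blt c 107) (cond (Nat.beq c 100) [⟨42, 1, 1⟩] []) (cond (Nat.beq c 107) [⟨45, 1, 1⟩] [])) (cond (Nat.blt c 111) (cond (Nat.beq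 c 109) [⟨47, -1, 1⟩] []) (cond (Nat.beq c 111) [⟨52, 1, 1⟩] [])))) (cond (Nat.blt c 129) (cond (Nat.blt c 124) (cond (Nat.blt c 122) (cond (Nat.beq c 112) [⟨58, 1, 1⟩] []) (cond (Nat.beq c 122) [⟨64, -1, 1⟩] [])) (cond (Nat.blt c 127) (cond (Nat.beq c 124) [⟨66, 1, 1⟩] []) (cond (Nat.beq c 127) [⟨67, 1, 1⟩] []))) (cond (Nat.blt c 136) (cond (Nat.blt c 134) (cond (Nat.beq c 129) [⟨69, 1, 1⟩] []) (cond (Nat.beq c 134) [⟨71, 1, 1⟩] [])) (cond (Nat.blt c 139) (cond (Nat.beq c 136) [⟨73, -1, 1⟩] []) (cond (Nat.beq c 139) [⟨75, 1, 1⟩] [])))))) (cond (Nat.blt c 197) (cond (Nat.blt c 180) (cond (Nat.blt c 170) (cond (Nat.blt c 153) (cond (Nat.blt c 151) (cond (Nat.beq c 141) [⟨77, -1, 1⟩] []) (cond (Nat.beq c 151) [⟨80, 1, 1⟩] [])) (cond (Nat.blt c 165) (cond (Nat.beq c 153) [⟨82, -1, 1⟩] []) (cond (Nat.beq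 c 165) [⟨85, 1, 1⟩] []))) (cond (Nat.blt c 175) (cond (Nat.blt c 173) (cond (Nat.beq c 170) [⟨90, -1, 1⟩] []) (cond (Nat.beq c 173) [⟨102, 1, 1⟩] [])) (cond (Nat.blt c 178) (cond (Nat.beq c 175) [⟨104, -1, 1⟩] []) (cond (Nat.beq c 178) [⟨114, 1, 1⟩] [])))) (cond (Nat.blt c 187) (cond (Nat.blt c 184) (cond (Nat.blt c 182) (cond (Nat.beq c 180) [⟨116, -1, 1⟩] []) (cond (Nat.beq c 182) [⟨119, 1, 1⟩] [])) (cond (Nat.blt c 186) (cond (Nat.beq c 184) [⟨121, -1, 1⟩] []) (cond (Nat.beq c 186) [⟨126, -1, 1⟩] []))) (cond (Nat.blt c 189) (cond (Nat.blt c 188) (cond (Nat.beq c 187) [⟨68, -1, 2⟩, ⟨0, -1, 1⟩, ⟨1, -1, 1⟩, ⟨2, -1, 1⟩, ⟨3, -2, 1⟩, ⟨4, -2, 1⟩, ⟨5, -1, 1⟩, ⟨6, -1, 1⟩, ⟨7, 0, 1⟩] []) (cond (Nat.beq c 188) [⟨128, -1, 1⟩] [])) (cond (Nat.blt c 191) (cond (Nat.beq c 189) [⟨131, -1, 1⟩] []) (cond (Nat.beq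 c 191) [⟨133, 1, 1⟩] []))))) (cond (Nat.blt c 224) (cond (Nat.blt c 213) (cond (Nat.blt c 208) (cond (Nat.blt c 203) (cond (Nat.beq c 197) [⟨143, -1, 1⟩] []) (cond (Nat.beq c 203) [⟨144, -1, 1⟩] [])) (cond (Nat.blt c 210) (cond (Nat.beq c 208) [⟨146, 1, 1⟩] []) (cond (Nat.beq c 210) [⟨148, -1, 1⟩] []))) (cond (Nat.blt c 220) (cond (Nat.blt c 218) (cond (Nat.beq c 213) [⟨155, -1, 1⟩] []) (cond (Nat.beq c 218) [⟨157, 1, 1⟩] [])) (cond (Nat.blt c 222) (cond (Nat.beq c 220) [⟨159, -1, 1⟩] []) (cond (Nat.beq c 222) [⟨161, 1, 1⟩] [])))) (cond (Nat.blt c 238) (cond (Nat.blt c 234) (cond (Nat.blt c 226) (cond (Nat.beq c 224) [⟨163, -1, 1⟩] []) (cond (Nat.beq c 226) [⟨168, 1, 1⟩] [])) (cond (Nat.blt c 236) (cond (Nat.beq c 234) [⟨193, 1, 1⟩] []) (cond (Nat.beq c 236) [⟨195, -1, 1⟩] []))) (cond (Nat.blt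 c 241) (cond (Nat.blt c 239) (cond (Nat.beq c 238) [⟨200, 1, 1⟩] []) (cond (Nat.beq c 239) [⟨206, 1, 1⟩] [])) (cond (Nat.blt c 244) (cond (Nat.beq c 241) [⟨216, 1, 1⟩] []) (cond (Nat.blt c 246) (cond (Nat.beq c 244) [⟨228, 1, 1⟩] []) (cond (Nat.beq c 246) [⟨230, -1, 1⟩] [])))))))

/-- Compiled columns of `x_61` for type E8. -/
def colsE8_61 (c : ℕ) : List CEnt :=
  cond (Nat.blt c 140) (cond (Nat.blt c 92) (cond (Nat.blt c 25) (cond (Nat.blt c 4) (cond (Nat.blt c 2) (cond (Nat.blt c 1) (cond (Nat.beq c 0) [⟨69, 1, 1⟩] []) (cond (Nat.beq c 1) [⟨69, 0, 1⟩] [])) (cond (Nat.blt c 3) (cond (Nat.beq c 2) [⟨69, -1, 1⟩] []) (cond (Nat.beq c 3) [⟨69, 0, 1⟩] []))) (cond (Nat.blt c 6) (cond (Nat.blt c 5) (cond (Nat.beq c 4) [⟨69, 1, 1⟩] []) (cond (Nat.beq c 5) [⟨69, 0, 1⟩] [])) (cond (Nat.blt c 7) (cond (Nat.beq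 c 6) [⟨69, -1, 1⟩] []) (cond (Nat.beq c 7) [⟨69, 0, 1⟩] [])))) (cond (Nat.blt c 54) (cond (Nat.blt c 38) (cond (Nat.blt c 26) (cond (Nat.beq c 25) [⟨10, 1, 1⟩] []) (cond (Nat.beq c 26) [⟨11, 1, 1⟩] [])) (cond (Nat.blt c 48) (cond (Nat.beq c 38) [⟨14, 1, 1⟩] []) (cond (Nat.beq c 48) [⟨16, 1, 1⟩] []))) (cond (Nat.blt c 61) (cond (Nat.blt c 60) (cond (Nat.beq c 54) [⟨17, 1, 1⟩] []) (cond (Nat.beq c 60) [⟨20, 1, 1⟩] [])) (cond (Nat.blt c 86) (cond (Nat.beq c 61) [⟨21, 1, 1⟩] []) (cond (Nat.beq c 86) [⟨29, 1, 1⟩] []))))) (cond (Nat.blt c 112) (cond (Nat.blt c 100) (cond (Nat.blt c 96) (cond (Nat.blt c 93) (cond (Nat.beq c 92) [⟨32, 1, 1⟩] []) (cond (Nat.beq c 93) [⟨33, 1, 1⟩] [])) (cond (Nat.blt c 97) (cond (Nat.beq c 96) [⟨36, 1, 1⟩] []) (cond (Nat.beq c 97) [⟨37, 1, 1⟩] []))) (cond (Nat.blt c 108)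 (cond (Nat.blt c 107) (cond (Nat.beq c 100) [⟨43, 1, 1⟩] []) (cond (Nat.beq c 107) [⟨46, 1, 1⟩] [])) (cond (Nat.blt c 111) (cond (Nat.beq c 108) [⟨47, 1, 1⟩] []) (cond (Nat.beq c 111) [⟨53, 1, 1⟩] [])))) (cond (Nat.blt c 126) (cond (Nat.blt c 123) (cond (Nat.blt c 122) (cond (Nat.beq c 112) [⟨59, 1, 1⟩] []) (cond (Nat.beq c 122) [⟨65, -1, 1⟩] [])) (cond (Nat.blt c 125) (cond (Nat.beq c 123) [⟨66, -1, 1⟩] []) (cond (Nat.beq c 125) [⟨67, 1, 1⟩] []))) (cond (Nat.blt c 135) (cond (Nat.blt c 134) (cond (Nat.beq c 126) [⟨68, 1, 1⟩] []) (cond (Nat.beq c 134) [⟨72, 1, 1⟩] [])) (cond (Nat.blt c 139) (cond (Nat.beq c 135) [⟨73, -1, 1⟩] []) (cond (Nat.beq c 139) [⟨76, 1, 1⟩] [])))))) (cond (Nat.blt c 196) (cond (Nat.blt c 179) (cond (Nat.blt c 170) (cond (Nat.blt c 152) (cond (Nat.blt c 151) (cond (Nat.beq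 c 140) [⟨77, -1, 1⟩] []) (cond (Nat.beq c 151) [⟨81, 1, 1⟩] [])) (cond (Nat.blt c 164) (cond (Nat.beq c 152) [⟨82, -1, 1⟩] []) (cond (Nat.beq c 164) [⟨85, 1, 1⟩] []))) (cond (Nat.blt c 174) (cond (Nat.blt c 173) (cond (Nat.beq c 170) [⟨91, -1, 1⟩] []) (cond (Nat.beq c 173) [⟨103, 1, 1⟩] [])) (cond (Nat.blt c 178) (cond (Nat.beq c 174) [⟨104, -1, 1⟩] []) (cond (Nat.beq c 178) [⟨115, 1, 1⟩] [])))) (cond (Nat.blt c 187) (cond (Nat.blt c 183) (cond (Nat.blt c 182) (cond (Nat.beq c 179) [⟨116, -1, 1⟩] []) (cond (Nat.beq c 182) [⟨120, 1, 1⟩] [])) (cond (Nat.blt c 186) (cond (Nat.beq c 183) [⟨121, -1, 1⟩] []) (cond (Nat.beq c 186) [⟨69, -1, 2⟩, ⟨0, -1, 1⟩, ⟨1, -1, 1⟩, ⟨2, -1, 1⟩, ⟨3, -2, 1⟩, ⟨4, -2, 1⟩, ⟨5, -1, 1⟩, ⟨6, 0, 1⟩, ⟨7, 0, 1⟩] []))) (cond (Nat.blt c 189) (cond (Nat.blt c 188) (cond (Nat.beq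 c 187) [⟨129, -1, 1⟩] []) (cond (Nat.beq c 188) [⟨130, -1, 1⟩] [])) (cond (Nat.blt c 190) (cond (Nat.beq c 189) [⟨132, 1, 1⟩] []) (cond (Nat.beq c 190) [⟨133, 1, 1⟩] []))))) (cond (Nat.blt c 223) (cond (Nat.blt c 212) (cond (Nat.blt c 208) (cond (Nat.blt c 202) (cond (Nat.beq c 196) [⟨143, -1, 1⟩] []) (cond (Nat.beq c 202) [⟨144, -1, 1⟩] [])) (cond (Nat.blt c 209) (cond (Nat.beq c 208) [⟨147, -1, 1⟩] []) (cond (Nat.beq c 209) [⟨148, -1, 1⟩] []))) (cond (Nat.blt c 219) (cond (Nat.blt c 218) (cond (Nat.beq c 212) [⟨155, -1, 1⟩] []) (cond (Nat.beq c 218) [⟨158, -1, 1⟩] [])) (cond (Nat.blt c 222) (cond (Nat.beq c 219) [⟨159, -1, 1⟩] []) (cond (Nat.beq c 222) [⟨162, -1, 1⟩] [])))) (cond (Nat.blt c 238) (cond (Nat.blt c 234) (cond (Nat.blt c 226) (cond (Nat.beq c 223) [⟨163, -1, 1⟩] []) (cond (Nat.beq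 c 226) [⟨169, -1, 1⟩] [])) (cond (Nat.blt c 235) (cond (Nat.beq c 234) [⟨194, -1, 1⟩] []) (cond (Nat.beq c 235) [⟨195, -1, 1⟩] []))) (cond (Nat.blt c 241) (cond (Nat.blt c 239) (cond (Nat.beq c 238) [⟨201, -1, 1⟩] []) (cond (Nat.beq c 239) [⟨207, -1, 1⟩] [])) (cond (Nat.blt c 244) (cond (Nat.beq c 241) [⟨217, -1, 1⟩] []) (cond (Nat.blt c 245) (cond (Nat.beq c 244) [⟨229, -1, 1⟩] []) (cond (Nat.beq c 245) [⟨230, -1, 1⟩] [])))))))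

/-- Compiled columns of `x_62` for type E8. -/
def colsE8_62 (c : ℕ) : List CEnt :=
  cond (Nat.blt c 142) (cond (Nat.blt c 90) (cond (Nat.blt c 24) (cond (Nat.blt c 4) (cond (Nat.blt c 2) (cond (Nat.blt c 1) (cond (Nat.beq c 0) [⟨70, 1, 1⟩] []) (cond (Nat.beq c 1) [⟨70, 0, 1⟩] [])) (cond (Nat.blt c 3) (cond (Nat.beq c 2) [⟨70, -1, 1⟩] []) (cond (Nat.beq c 3) [⟨70, 1, 1⟩] []))) (cond (Nat.blt c 6) (cond (Nat.blt c 5) (cond (Nat.beq c 4) [⟨70, -1, 1⟩] []) (cond (Nat.beq c 5) [⟨70, 0, 1⟩] [])) (cond (Nat.blt c 7) (cond (Nat.beq c 6) [⟨70, 0, 1⟩] []) (cond (Nat.beq c 7) [⟨70, 1, 1⟩] [])))) (cond (Nat.blt c 56) (cond (Nat.blt c 37) (cond (Nat.blt c 28) (cond (Nat.beq c 24) [⟨8, -1, 1⟩] []) (cond (Nat.beq c 28) [⟨12, 1, 1⟩] [])) (cond (Nat.blt c 47) (cond (Nat.beq c 37) [⟨14, -1, 1⟩] []) (cond (Nat.beq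 c 47) [⟨16, -1, 1⟩] []))) (cond (Nat.blt c 59) (cond (Nat.blt c 58) (cond (Nat.beq c 56) [⟨18, 1, 1⟩] []) (cond (Nat.beq c 58) [⟨19, 1, 1⟩] [])) (cond (Nat.blt c 88) (cond (Nat.beq c 59) [⟨20, 1, 1⟩] []) (cond (Nat.beq c 88) [⟨30, 1, 1⟩] []))))) (cond (Nat.blt c 112) (cond (Nat.blt c 99) (cond (Nat.blt c 97) (cond (Nat.blt c 91) (cond (Nat.beq c 90) [⟨31, 1, 1⟩] []) (cond (Nat.beq c 91) [⟨32, 1, 1⟩] [])) (cond (Nat.blt c 98) (cond (Nat.beq c 97) [⟨38, -1, 1⟩] []) (cond (Nat.beq c 98) [⟨39, -1, 1⟩] []))) (cond (Nat.blt c 109) (cond (Nat.blt c 108) (cond (Nat.beq c 99) [⟨41, -1, 1⟩] []) (cond (Nat.beq c 108) [⟨48, -1, 1⟩] [])) (cond (Nat.blt c 110) (cond (Nat.beq c 109) [⟨49, -1, 1⟩] []) (cond (Nat.beq c 110) [⟨51, -1, 1⟩] [])))) (cond (Nat.blt c 128) (cond (Nat.blt c 120) (cond (Nat.blt c 119) (cond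 (Nat.beq c 112) [⟨60, 1, 1⟩] []) (cond (Nat.beq c 119) [⟨64, 1, 1⟩] [])) (cond (Nat.blt c 121) (cond (Nat.beq c 120) [⟨65, 1, 1⟩] []) (cond (Nat.beq c 121) [⟨67, 1, 1⟩] []))) (cond (Nat.blt c 133) (cond (Nat.blt c 130) (cond (Nat.beq c 128) [⟨71, 1, 1⟩] []) (cond (Nat.beq c 130) [⟨72, 1, 1⟩] [])) (cond (Nat.blt c 138) (cond (Nat.beq c 133) [⟨73, 1, 1⟩] []) (cond (Nat.beq c 138) [⟨74, 1, 1⟩] [])))))) (cond (Nat.blt c 195) (cond (Nat.blt c 181) (cond (Nat.blt c 170) (cond (Nat.blt c 154) (cond (Nat.blt c 150) (cond (Nat.beq c 142) [⟨78, -1, 1⟩] []) (cond (Nat.beq c 150) [⟨79, 1, 1⟩] [])) (cond (Nat.blt c 163) (cond (Nat.beq c 154) [⟨83, -1, 1⟩] []) (cond (Nat.beq c 163) [⟨85, 1, 1⟩] []))) (cond (Nat.blt c 176) (cond (Nat.blt c 172) (cond (Nat.beq c 170) [⟨92, -1, 1⟩] []) (cond (Nat.beq c 172) [⟨101,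 1, 1⟩] [])) (cond (Nat.blt c 177) (cond (Nat.beq c 176) [⟨105, -1, 1⟩] []) (cond (Nat.beq c 177) [⟨113, 1, 1⟩] [])))) (cond (Nat.blt c 185) (cond (Nat.blt c 183) (cond (Nat.blt c 182) (cond (Nat.beq c 181) [⟨117, -1, 1⟩] []) (cond (Nat.beq c 182) [⟨122, -1, 1⟩] [])) (cond (Nat.blt c 184) (cond (Nat.beq c 183) [⟨125, -1, 1⟩] []) (cond (Nat.beq c 184) [⟨127, -1, 1⟩] []))) (cond (Nat.blt c 190) (cond (Nat.blt c 188) (cond (Nat.beq c 185) [⟨70, -1, 2⟩, ⟨0, -1, 1⟩, ⟨1, -1, 1⟩, ⟨2, -1, 1⟩, ⟨3, -2, 1⟩, ⟨4, -1, 1⟩, ⟨5, -1, 1⟩, ⟨6, -1, 1⟩, ⟨7, -1, 1⟩] []) (cond (Nat.beq c 188) [⟨134, -1, 1⟩] [])) (cond (Nat.blt c 191) (cond (Nat.beq c 190) [⟨135, -1, 1⟩] []) (cond (Nat.beq c 191) [⟨136, -1, 1⟩] []))))) (cond (Nat.blt c 224) (cond (Nat.blt c 214) (cond (Nat.blt c 206) (cond (Nat.blt c 204) (cond (Nat.beq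 c 195) [⟨143, -1, 1⟩] []) (cond (Nat.beq c 204) [⟨145, 1, 1⟩] [])) (cond (Nat.blt c 207) (cond (Nat.beq c 206) [⟨146, 1, 1⟩] []) (cond (Nat.beq c 207) [⟨147, 1, 1⟩] []))) (cond (Nat.blt c 217) (cond (Nat.blt c 216) (cond (Nat.beq c 214) [⟨156, 1, 1⟩] []) (cond (Nat.beq c 216) [⟨157, 1, 1⟩] [])) (cond (Nat.blt c 223) (cond (Nat.beq c 217) [⟨158, 1, 1⟩] []) (cond (Nat.beq c 223) [⟨164, -1, 1⟩] [])))) (cond (Nat.blt c 237) (cond (Nat.blt c 235) (cond (Nat.blt c 225) (cond (Nat.beq c 224) [⟨165, -1, 1⟩] []) (cond (Nat.beq c 225) [⟨167, -1, 1⟩] [])) (cond (Nat.blt c 236) (cond (Nat.beq c 235) [⟨196, -1, 1⟩] []) (cond (Nat.beq c 236) [⟨197, -1, 1⟩] []))) (cond (Nat.blt c 241) (cond (Nat.blt c 239) (cond (Nat.beq c 237) [⟨199, -1, 1⟩] []) (cond (Nat.beq c 239) [⟨208, 1, 1⟩] [])) (cond (Nat.blt c 243)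 (cond (Nat.beq c 241) [⟨218, 1, 1⟩] []) (cond (Nat.blt c 247) (cond (Nat.beq c 243) [⟨227, -1, 1⟩] []) (cond (Nat.beq c 247) [⟨231, 1, 1⟩] [])))))))

/-- Compiled columns of `x_63` for type E8. -/
def colsE8_63 (c : ℕ) : List CEnt :=
  cond (Nat.blt c 141) (cond (Nat.blt c 89) (cond (Nat.blt c 24) (cond (Nat.blt c 4) (cond (Nat.blt c 2) (cond (Nat.blt c 1) (cond (Nat.beq c 0) [⟨71, 1, 1⟩] []) (cond (Nat.beq c 1) [⟨71, 0, 1⟩] [])) (cond (Nat.blt c 3) (cond (Nat.beq c 2) [⟨71, -1, 1⟩] []) (cond (Nat.beq c 3) [⟨71, 1, 1⟩] []))) (cond (Nat.blt c 6) (cond (Nat.blt c 5) (cond (Nat.beq c 4) [⟨71, -1, 1⟩] []) (cond (Nat.beq c 5) [⟨71, 0, 1⟩] [])) (cond (Nat.blt c 7) (cond (Nat.beq c 6) [⟨71, 1, 1⟩] []) (cond (Nat.beq c 7) [⟨71, -1, 1⟩] [])))) (cond (Nat.blt c 55) (cond (Nat.blt c 36) (cond (Nat.blt c 27)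 (cond (Nat.beq c 24) [⟨9, -1, 1⟩] []) (cond (Nat.beq c 27) [⟨12, -1, 1⟩] [])) (cond (Nat.blt c 46) (cond (Nat.beq c 36) [⟨14, 1, 1⟩] []) (cond (Nat.beq c 46) [⟨16, 1, 1⟩] []))) (cond (Nat.blt c 59) (cond (Nat.blt c 57) (cond (Nat.beq c 55) [⟨18, -1, 1⟩] []) (cond (Nat.beq c 57) [⟨19, -1, 1⟩] [])) (cond (Nat.blt c 87) (cond (Nat.beq c 59) [⟨21, 1, 1⟩] []) (cond (Nat.beq c 87) [⟨30, -1, 1⟩] []))))) (cond (Nat.blt c 112) (cond (Nat.blt c 99) (cond (Nat.blt c 96) (cond (Nat.blt c 91) (cond (Nat.beq c 89) [⟨31, -1, 1⟩] []) (cond (Nat.beq c 91) [⟨33, 1, 1⟩] [])) (cond (Nat.blt c 98) (cond (Nat.beq c 96) [⟨38, 1, 1⟩] []) (cond (Nat.beq c 98) [⟨40, -1, 1⟩] []))) (cond (Nat.blt c 109) (cond (Nat.blt c 107) (cond (Nat.beq c 99) [⟨42, -1, 1⟩] []) (cond (Nat.beq c 107) [⟨48, 1, 1⟩] [])) (cond (Nat.blt c 110)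 (cond (Nat.beq c 109) [⟨50, -1, 1⟩] []) (cond (Nat.beq c 110) [⟨52, -1, 1⟩] [])))) (cond (Nat.blt c 127) (cond (Nat.blt c 120) (cond (Nat.blt c 118) (cond (Nat.beq c 112) [⟨61, 1, 1⟩] []) (cond (Nat.beq c 118) [⟨64, -1, 1⟩] [])) (cond (Nat.blt c 121) (cond (Nat.beq c 120) [⟨66, 1, 1⟩] []) (cond (Nat.beq c 121) [⟨68, 1, 1⟩] []))) (cond (Nat.blt c 132) (cond (Nat.blt c 129) (cond (Nat.beq c 127) [⟨70, 1, 1⟩] []) (cond (Nat.beq c 129) [⟨72, 1, 1⟩] [])) (cond (Nat.blt c 138) (cond (Nat.beq c 132) [⟨73, 1, 1⟩] []) (cond (Nat.beq c 138) [⟨75, 1, 1⟩] [])))))) (cond (Nat.blt c 194) (cond (Nat.blt c 180) (cond (Nat.blt c 170) (cond (Nat.blt c 153) (cond (Nat.blt c 150) (cond (Nat.beq c 141) [⟨78, -1, 1⟩] []) (cond (Nat.beq c 150) [⟨80, 1, 1⟩] [])) (cond (Nat.blt c 162) (cond (Nat.beq c 153) [⟨83, -1, 1⟩]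 []) (cond (Nat.beq c 162) [⟨85, 1, 1⟩] []))) (cond (Nat.blt c 175) (cond (Nat.blt c 172) (cond (Nat.beq c 170) [⟨93, -1, 1⟩] []) (cond (Nat.beq c 172) [⟨102, 1, 1⟩] [])) (cond (Nat.blt c 177) (cond (Nat.beq c 175) [⟨105, -1, 1⟩] []) (cond (Nat.beq c 177) [⟨114, 1, 1⟩] [])))) (cond (Nat.blt c 185) (cond (Nat.blt c 183) (cond (Nat.blt c 182) (cond (Nat.beq c 180) [⟨117, -1, 1⟩] []) (cond (Nat.beq c 182) [⟨123, -1, 1⟩] [])) (cond (Nat.blt c 184) (cond (Nat.beq c 183) [⟨126, -1, 1⟩] []) (cond (Nat.beq c 184) [⟨71, -1, 2⟩, ⟨0, -1, 1⟩, ⟨1, -1, 1⟩, ⟨2, -1, 1⟩, ⟨3, -2, 1⟩, ⟨4, -1, 1⟩, ⟨5, -1, 1⟩, ⟨6, -1, 1⟩, ⟨7, 0, 1⟩] []))) (cond (Nat.blt c 189) (cond (Nat.blt c 187) (cond (Nat.beq c 185) [⟨128, -1, 1⟩] []) (cond (Nat.beq c 187) [⟨134, -1, 1⟩] [])) (cond (Nat.blt c 191) (cond (Nat.beq c 189) [⟨135, -1,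 1⟩] []) (cond (Nat.beq c 191) [⟨137, 1, 1⟩] []))))) (cond (Nat.blt c 224) (cond (Nat.blt c 213) (cond (Nat.blt c 205) (cond (Nat.blt c 203) (cond (Nat.beq c 194) [⟨143, -1, 1⟩] []) (cond (Nat.beq c 203) [⟨145, 1, 1⟩] [])) (cond (Nat.blt c 207) (cond (Nat.beq c 205) [⟨146, 1, 1⟩] []) (cond (Nat.beq c 207) [⟨148, -1, 1⟩] []))) (cond (Nat.blt c 217) (cond (Nat.blt c 215) (cond (Nat.beq c 213) [⟨156, 1, 1⟩] []) (cond (Nat.beq c 215) [⟨157, 1, 1⟩] [])) (cond (Nat.blt c 222) (cond (Nat.beq c 217) [⟨159, -1, 1⟩] []) (cond (Nat.beq c 222) [⟨164, -1, 1⟩] [])))) (cond (Nat.blt c 237) (cond (Nat.blt c 234) (cond (Nat.blt c 225) (cond (Nat.beq c 224) [⟨166, 1, 1⟩] []) (cond (Nat.beq c 225) [⟨168, 1, 1⟩] [])) (cond (Nat.blt c 236) (cond (Nat.beq c 234) [⟨196, -1, 1⟩] []) (cond (Nat.beq c 236) [⟨198, 1, 1⟩]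 []))) (cond (Nat.blt c 241) (cond (Nat.blt c 239) (cond (Nat.beq c 237) [⟨200, 1, 1⟩] []) (cond (Nat.beq c 239) [⟨209, -1, 1⟩] [])) (cond (Nat.blt c 243) (cond (Nat.beq c 241) [⟨219, -1, 1⟩] []) (cond (Nat.blt c 246) (cond (Nat.beq c 243) [⟨228, 1, 1⟩] []) (cond (Nat.beq c 246) [⟨231, 1, 1⟩] [])))))))

/-- Compiled columns of `x_64` for type E8. -/
def colsE8_64 (c : ℕ) : List CEnt :=
  cond (Nat.blt c 140) (cond (Nat.blt c 89) (cond (Nat.blt c 24) (cond (Nat.blt c 4) (cond (Nat.blt c 2) (cond (Nat.blt c 1) (cond (Nat.beq c 0) [⟨72, 1, 1⟩] []) (cond (Nat.beq c 1) [⟨72, 0, 1⟩] [])) (cond (Nat.blt c 3) (cond (Nat.beq c 2) [⟨72, -1, 1⟩] []) (cond (Nat.beq c 3) [⟨72, 1, 1⟩] []))) (cond (Nat.blt c 6) (cond (Nat.blt c 5) (cond (Nat.beq c 4) [⟨72, -1, 1⟩] []) (cond (Nat.beq c 5) [⟨72, 1, 1⟩] [])) (cond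 (Nat.blt c 7) (cond (Nat.beq c 6) [⟨72, -1, 1⟩] []) (cond (Nat.beq c 7) [⟨72, 0, 1⟩] [])))) (cond (Nat.blt c 54) (cond (Nat.blt c 35) (cond (Nat.blt c 26) (cond (Nat.beq c 24) [⟨10, -1, 1⟩] []) (cond (Nat.beq c 26) [⟨12, 1, 1⟩] [])) (cond (Nat.blt c 45) (cond (Nat.beq c 35) [⟨14, -1, 1⟩] []) (cond (Nat.beq c 45) [⟨16, -1, 1⟩] []))) (cond (Nat.blt c 58) (cond (Nat.blt c 57) (cond (Nat.beq c 54) [⟨18, 1, 1⟩] []) (cond (Nat.beq c 57) [⟨20, -1, 1⟩] [])) (cond (Nat.blt c 86) (cond (Nat.beq c 58) [⟨21, -1, 1⟩] []) (cond (Nat.beq c 86) [⟨30, 1, 1⟩] []))))) (cond (Nat.blt c 112) (cond (Nat.blt c 99) (cond (Nat.blt c 96) (cond (Nat.blt c 90) (cond (Nat.beq c 89) [⟨32, -1, 1⟩] []) (cond (Nat.beq c 90) [⟨33, -1, 1⟩] [])) (cond (Nat.blt c 97) (cond (Nat.beq c 96) [⟨39, 1, 1⟩] []) (cond (Nat.beq c 97) [⟨40,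 1, 1⟩] []))) (cond (Nat.blt c 108) (cond (Nat.blt c 107) (cond (Nat.beq c 99) [⟨43, -1, 1⟩] []) (cond (Nat.beq c 107) [⟨49, 1, 1⟩] [])) (cond (Nat.blt c 110) (cond (Nat.beq c 108) [⟨50, 1, 1⟩] []) (cond (Nat.beq c 110) [⟨53, -1, 1⟩] [])))) (cond (Nat.blt c 125) (cond (Nat.blt c 119) (cond (Nat.blt c 118) (cond (Nat.beq c 112) [⟨62, 1, 1⟩] []) (cond (Nat.beq c 118) [⟨65, -1, 1⟩] [])) (cond (Nat.blt c 121) (cond (Nat.beq c 119) [⟨66, -1, 1⟩] []) (cond (Nat.beq c 121) [⟨69, 1, 1⟩] []))) (cond (Nat.blt c 131) (cond (Nat.blt c 126) (cond (Nat.beq c 125) [⟨70, 1, 1⟩] []) (cond (Nat.beq c 126) [⟨71, 1, 1⟩] [])) (cond (Nat.blt c 138) (cond (Nat.beq c 131) [⟨73, 1, 1⟩] []) (cond (Nat.beq c 138) [⟨76, 1, 1⟩] [])))))) (cond (Nat.blt c 193) (cond (Nat.blt c 179) (cond (Nat.blt c 170) (cond (Nat.blt c 152)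 (cond (Nat.blt c 150) (cond (Nat.beq c 140) [⟨78, -1, 1⟩] []) (cond (Nat.beq c 150) [⟨81, 1, 1⟩] [])) (cond (Nat.blt c 161) (cond (Nat.beq c 152) [⟨83, -1, 1⟩] []) (cond (Nat.beq c 161) [⟨85, 1, 1⟩] []))) (cond (Nat.blt c 174) (cond (Nat.blt c 172) (cond (Nat.beq c 170) [⟨94, -1, 1⟩] []) (cond (Nat.beq c 172) [⟨103, 1, 1⟩] [])) (cond (Nat.blt c 177) (cond (Nat.beq c 174) [⟨105, -1, 1⟩] []) (cond (Nat.beq c 177) [⟨115, 1, 1⟩] [])))) (cond (Nat.blt c 185) (cond (Nat.blt c 183) (cond (Nat.blt c 182) (cond (Nat.beq c 179) [⟨117, -1, 1⟩] []) (cond (Nat.beq c 182) [⟨124, -1, 1⟩] [])) (cond (Nat.blt c 184) (cond (Nat.beq c 183) [⟨72, -1, 2⟩, ⟨0, -1, 1⟩, ⟨1, -1, 1⟩, ⟨2, -1, 1⟩, ⟨3, -2, 1⟩, ⟨4, -1, 1⟩, ⟨5, -1, 1⟩, ⟨6, 0, 1⟩, ⟨7, 0, 1⟩] []) (cond (Nat.beq c 184) [⟨129, -1, 1⟩] []))) (cond (Nat.blt c 189)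 (cond (Nat.blt c 186) (cond (Nat.beq c 185) [⟨130, -1, 1⟩] []) (cond (Nat.beq c 186) [⟨134, -1, 1⟩] [])) (cond (Nat.blt c 190) (cond (Nat.beq c 189) [⟨136, 1, 1⟩] []) (cond (Nat.beq c 190) [⟨137, 1, 1⟩] []))))) (cond (Nat.blt c 223) (cond (Nat.blt c 212) (cond (Nat.blt c 205) (cond (Nat.blt c 202) (cond (Nat.beq c 193) [⟨143, -1, 1⟩] []) (cond (Nat.beq c 202) [⟨145, 1, 1⟩] [])) (cond (Nat.blt c 206) (cond (Nat.beq c 205) [⟨147, -1, 1⟩] []) (cond (Nat.beq c 206) [⟨148, -1, 1⟩] []))) (cond (Nat.blt c 216) (cond (Nat.blt c 215) (cond (Nat.beq c 212) [⟨156, 1, 1⟩] []) (cond (Nat.beq c 215) [⟨158, -1, 1⟩] [])) (cond (Nat.blt c 222) (cond (Nat.beq c 216) [⟨159, -1, 1⟩] []) (cond (Nat.beq c 222) [⟨165, 1, 1⟩] [])))) (cond (Nat.blt c 237) (cond (Nat.blt c 234) (cond (Nat.blt c 225) (cond (Nat.beq c 223)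 [⟨166, 1, 1⟩] []) (cond (Nat.beq c 225) [⟨169, -1, 1⟩] [])) (cond (Nat.blt c 235) (cond (Nat.beq c 234) [⟨197, 1, 1⟩] []) (cond (Nat.beq c 235) [⟨198, 1, 1⟩] []))) (cond (Nat.blt c 241) (cond (Nat.blt c 239) (cond (Nat.beq c 237) [⟨201, -1, 1⟩] []) (cond (Nat.beq c 239) [⟨210, 1, 1⟩] [])) (cond (Nat.blt c 243) (cond (Nat.beq c 241) [⟨220, 1, 1⟩] []) (cond (Nat.blt c 245) (cond (Nat.beq c 243) [⟨229, -1, 1⟩] []) (cond (Nat.beq c 245) [⟨231, 1, 1⟩] [])))))))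

/-- Compiled columns of `x_65` for type E8. -/
def colsE8_65 (c : ℕ) : List CEnt :=
  cond (Nat.blt c 139) (cond (Nat.blt c 87) (cond (Nat.blt c 24) (cond (Nat.blt c 4) (cond (Nat.blt c 2) (cond (Nat.blt c 1) (cond (Nat.beq c 0) [⟨73, 1, 1⟩] []) (cond (Nat.beq c 1) [⟨73, 0, 1⟩] [])) (cond (Nat.blt c 3) (cond (Nat.beq c 2) [⟨73, -1, 1⟩] []) (cond (Nat.beq c 3) [⟨73, 1, 1⟩] []))) (cond (Nat.blt c 6) (cond (Nat.blt c 5) (cond (Nat.beq c 4) [⟨73, 0, 1⟩] []) (cond (Nat.beq c 5) [⟨73, -1, 1⟩] [])) (cond (Nat.blt c 7) (cond (Nat.beq c 6) [⟨73, 0, 1⟩] []) (cond (Nat.beq c 7) [⟨73, 0, 1⟩] [])))) (cond (Nat.blt c 54) (cond (Nat.blt c 34) (cond (Nat.blt c 25) (cond (Nat.beq c 24) [⟨11, -1, 1⟩] []) (cond (Nat.beq c 25) [⟨12, -1, 1⟩] [])) (cond (Nat.blt c 44) (cond (Nat.beq c 34) [⟨14, 1, 1⟩] []) (cond (Nat.beq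 c 44) [⟨16, 1, 1⟩] []))) (cond (Nat.blt c 56) (cond (Nat.blt c 55) (cond (Nat.beq c 54) [⟨19, 1, 1⟩] []) (cond (Nat.beq c 55) [⟨20, 1, 1⟩] [])) (cond (Nat.blt c 86) (cond (Nat.beq c 56) [⟨21, 1, 1⟩] []) (cond (Nat.beq c 86) [⟨31, 1, 1⟩] []))))) (cond (Nat.blt c 112) (cond (Nat.blt c 98) (cond (Nat.blt c 96) (cond (Nat.blt c 88) (cond (Nat.beq c 87) [⟨32, 1, 1⟩] []) (cond (Nat.beq c 88) [⟨33, 1, 1⟩] [])) (cond (Nat.blt c 97) (cond (Nat.beq c 96) [⟨41, 1, 1⟩] []) (cond (Nat.beq c 97) [⟨42, 1, 1⟩] []))) (cond (Nat.blt c 108) (cond (Nat.blt c 107) (cond (Nat.beq c 98) [⟨43, 1, 1⟩] []) (cond (Nat.beq c 107) [⟨51, 1, 1⟩] [])) (cond (Nat.blt c 109) (cond (Nat.beq c 108) [⟨52, 1, 1⟩] []) (cond (Nat.beq c 109) [⟨53, 1, 1⟩] [])))) (cond (Nat.blt c 122) (cond (Nat.blt c 119) (cond (Nat.blt c 118) (cond (Nat.beq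 c 112) [⟨63, 1, 1⟩] []) (cond (Nat.beq c 118) [⟨67, -1, 1⟩] [])) (cond (Nat.blt c 120) (cond (Nat.beq c 119) [⟨68, -1, 1⟩] []) (cond (Nat.beq c 120) [⟨69, -1, 1⟩] []))) (cond (Nat.blt c 124) (cond (Nat.blt c 123) (cond (Nat.beq c 122) [⟨70, 1, 1⟩] []) (cond (Nat.beq c 123) [⟨71, 1, 1⟩] [])) (cond (Nat.blt c 138) (cond (Nat.beq c 124) [⟨72, 1, 1⟩] []) (cond (Nat.beq c 138) [⟨77, 1, 1⟩] [])))))) (cond (Nat.blt c 192) (cond (Nat.blt c 178) (cond (Nat.blt c 170) (cond (Nat.blt c 151) (cond (Nat.blt c 150) (cond (Nat.beq c 139) [⟨78, -1, 1⟩] []) (cond (Nat.beq c 150) [⟨82, 1, 1⟩] [])) (cond (Nat.blt c 160) (cond (Nat.beq c 151) [⟨83, -1, 1⟩] []) (cond (Nat.beq c 160) [⟨85, 1, 1⟩] []))) (cond (Nat.blt c 173) (cond (Nat.blt c 172) (cond (Nat.beq c 170) [⟨95, -1, 1⟩] []) (cond (Nat.beq c 172) [⟨104, 1,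 1⟩] [])) (cond (Nat.blt c 177) (cond (Nat.beq c 173) [⟨105, -1, 1⟩] []) (cond (Nat.beq c 177) [⟨116, 1, 1⟩] [])))) (cond (Nat.blt c 185) (cond (Nat.blt c 183) (cond (Nat.blt c 182) (cond (Nat.beq c 178) [⟨117, -1, 1⟩] []) (cond (Nat.beq c 182) [⟨73, -1, 2⟩, ⟨0, -1, 1⟩, ⟨1, -1, 1⟩, ⟨2, -1, 1⟩, ⟨3, -2, 1⟩, ⟨4, -1, 1⟩, ⟨5, 0, 1⟩, ⟨6, 0, 1⟩, ⟨7, 0, 1⟩] [])) (cond (Nat.blt c 184) (cond (Nat.beq c 183) [⟨131, -1, 1⟩] []) (cond (Nat.beq c 184) [⟨132, -1, 1⟩] []))) (cond (Nat.blt c 187) (cond (Nat.blt c 186) (cond (Nat.beq c 185) [⟨133, -1, 1⟩] []) (cond (Nat.beq c 186) [⟨135, 1, 1⟩] [])) (cond (Nat.blt c 188) (cond (Nat.beq c 187) [⟨136, 1, 1⟩] []) (cond (Nat.beq c 188) [⟨137, 1, 1⟩] []))))) (cond (Nat.blt c 223) (cond (Nat.blt c 212) (cond (Nat.blt c 203) (cond (Nat.blt c 202) (cond (Nat.beq c 192) [⟨143,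 -1, 1⟩] []) (cond (Nat.beq c 202) [⟨146, -1, 1⟩] [])) (cond (Nat.blt c 204) (cond (Nat.beq c 203) [⟨147, -1, 1⟩] []) (cond (Nat.beq c 204) [⟨148, -1, 1⟩] []))) (cond (Nat.blt c 214) (cond (Nat.blt c 213) (cond (Nat.beq c 212) [⟨157, -1, 1⟩] []) (cond (Nat.beq c 213) [⟨158, -1, 1⟩] [])) (cond (Nat.blt c 222) (cond (Nat.beq c 214) [⟨159, -1, 1⟩] []) (cond (Nat.beq c 222) [⟨167, -1, 1⟩] [])))) (cond (Nat.blt c 236) (cond (Nat.blt c 234) (cond (Nat.blt c 224) (cond (Nat.beq c 223) [⟨168, -1, 1⟩] []) (cond (Nat.beq c 224) [⟨169, -1, 1⟩] [])) (cond (Nat.blt c 235) (cond (Nat.beq c 234) [⟨199, -1, 1⟩] []) (cond (Nat.beq c 235) [⟨200, -1, 1⟩] []))) (cond (Nat.blt c 241) (cond (Nat.blt c 239) (cond (Nat.beq c 236) [⟨201, -1, 1⟩] []) (cond (Nat.beq c 239) [⟨211, -1, 1⟩] [])) (cond (Nat.blt c 243) (cond (Nat.beq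 c 241) [⟨221, -1, 1⟩] []) (cond (Nat.blt c 244) (cond (Nat.beq c 243) [⟨230, 1, 1⟩] []) (cond (Nat.beq c 244) [⟨231, 1, 1⟩] [])))))))

/-- Compiled columns of `x_66` for type E8. -/
def colsE8_66 (c : ℕ) : List CEnt :=
  cond (Nat.blt c 137) (cond (Nat.blt c 90) (cond (Nat.blt c 23) (cond (Nat.blt c 4) (cond (Nat.blt c 2) (cond (Nat.blt c 1) (cond (Nat.beq c 0) [⟨74, 1, 1⟩] []) (cond (Nat.beq c 1) [⟨74, 1, 1⟩] [])) (cond (Nat.blt c 3) (cond (Nat.beq c 2) [⟨74, 0, 1⟩] []) (cond (Nat.beq c 3) [⟨74, -1, 1⟩] []))) (cond (Nat.blt c 6) (cond (Nat.blt c 5) (cond (Nat.beq c 4) [⟨74, 0, 1⟩] []) (cond (Nat.beq c 5) [⟨74, 0, 1⟩] [])) (cond (Nat.blt c 7) (cond (Nat.beq c 6) [⟨74, 0, 1⟩] []) (cond (Nat.beq c 7) [⟨74, 1, 1⟩] [])))) (cond (Nat.blt c 50) (cond (Nat.blt c 33) (cond (Nat.blt c 28) (cond (Nat.beq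 c 23) [⟨8, 1, 1⟩] []) (cond (Nat.beq c 28) [⟨13, 1, 1⟩] [])) (cond (Nat.blt c 47) (cond (Nat.beq c 33) [⟨14, 1, 1⟩] []) (cond (Nat.beq c 47) [⟨17, -1, 1⟩] []))) (cond (Nat.blt c 53) (cond (Nat.blt c 52) (cond (Nat.beq c 50) [⟨18, -1, 1⟩] []) (cond (Nat.beq c 52) [⟨19, -1, 1⟩] [])) (cond (Nat.blt c 88) (cond (Nat.beq c 53) [⟨20, -1, 1⟩] []) (cond (Nat.beq c 88) [⟨34, 1, 1⟩] []))))) (cond (Nat.blt c 111) (cond (Nat.blt c 95) (cond (Nat.blt c 93) (cond (Nat.blt c 91) (cond (Nat.beq c 90) [⟨35, 1, 1⟩] []) (cond (Nat.beq c 91) [⟨36, 1, 1⟩] [])) (cond (Nat.blt c 94) (cond (Nat.beq c 93) [⟨38, 1, 1⟩] []) (cond (Nat.beq c 94) [⟨39, 1, 1⟩] []))) (cond (Nat.blt c 109) (cond (Nat.blt c 108) (cond (Nat.beq c 95) [⟨41, 1, 1⟩] []) (cond (Nat.beq c 108) [⟨54, -1, 1⟩] [])) (cond (Nat.blt c 110) (cond (Nat.beq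 c 109) [⟨55, -1, 1⟩] []) (cond (Nat.beq c 110) [⟨57, -1, 1⟩] [])))) (cond (Nat.blt c 117) (cond (Nat.blt c 115) (cond (Nat.blt c 114) (cond (Nat.beq c 111) [⟨60, -1, 1⟩] []) (cond (Nat.beq c 114) [⟨64, 1, 1⟩] [])) (cond (Nat.blt c 116) (cond (Nat.beq c 115) [⟨65, 1, 1⟩] []) (cond (Nat.beq c 116) [⟨67, 1, 1⟩] []))) (cond (Nat.blt c 130) (cond (Nat.blt c 128) (cond (Nat.beq c 117) [⟨70, 1, 1⟩] []) (cond (Nat.beq c 128) [⟨75, 1, 1⟩] [])) (cond (Nat.blt c 133) (cond (Nat.beq c 130) [⟨76, 1, 1⟩] []) (cond (Nat.beq c 133) [⟨77, 1, 1⟩] [])))))) (cond (Nat.blt c 195) (cond (Nat.blt c 178) (cond (Nat.blt c 170) (cond (Nat.blt c 154) (cond (Nat.blt c 149) (cond (Nat.beq c 137) [⟨78, 1, 1⟩] []) (cond (Nat.beq c 149) [⟨79, 1, 1⟩] [])) (cond (Nat.blt c 159) (cond (Nat.beq c 154) [⟨84, -1, 1⟩] []) (cond (Nat.beq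 c 159) [⟨85, 1, 1⟩] []))) (cond (Nat.blt c 176) (cond (Nat.blt c 171) (cond (Nat.beq c 170) [⟨96, -1, 1⟩] []) (cond (Nat.beq c 171) [⟨101, 1, 1⟩] [])) (cond (Nat.blt c 177) (cond (Nat.beq c 176) [⟨106, -1, 1⟩] []) (cond (Nat.beq c 177) [⟨118, -1, 1⟩] [])))) (cond (Nat.blt c 185) (cond (Nat.blt c 180) (cond (Nat.blt c 179) (cond (Nat.beq c 178) [⟨122, -1, 1⟩] []) (cond (Nat.beq c 179) [⟨125, -1, 1⟩] [])) (cond (Nat.blt c 181) (cond (Nat.beq c 180) [⟨127, -1, 1⟩] []) (cond (Nat.beq c 181) [⟨74, -1, 2⟩, ⟨0, -1, 1⟩, ⟨1, -1, 1⟩, ⟨2, -1, 1⟩, ⟨3, -1, 1⟩, ⟨4, -1, 1⟩, ⟨5, -1, 1⟩, ⟨6, -1, 1⟩, ⟨7, -1, 1⟩] []))) (cond (Nat.blt c 190) (cond (Nat.blt c 188) (cond (Nat.beq c 185) [⟨138, -1, 1⟩] []) (cond (Nat.beq c 188) [⟨139, -1, 1⟩] [])) (cond (Nat.blt c 191) (cond (Nat.beq c 190) [⟨140, -1, 1⟩] []) (cond (Nat.beq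 c 191) [⟨141, -1, 1⟩] []))))) (cond (Nat.blt c 220) (cond (Nat.blt c 214) (cond (Nat.blt c 200) (cond (Nat.blt c 198) (cond (Nat.beq c 195) [⟨144, 1, 1⟩] []) (cond (Nat.beq c 198) [⟨145, 1, 1⟩] [])) (cond (Nat.blt c 201) (cond (Nat.beq c 200) [⟨146, 1, 1⟩] []) (cond (Nat.beq c 201) [⟨147, 1, 1⟩] []))) (cond (Nat.blt c 217) (cond (Nat.blt c 216) (cond (Nat.beq c 214) [⟨160, -1, 1⟩] []) (cond (Nat.beq c 216) [⟨161, -1, 1⟩] [])) (cond (Nat.blt c 219) (cond (Nat.beq c 217) [⟨162, -1, 1⟩] []) (cond (Nat.beq c 219) [⟨164, -1, 1⟩] [])))) (cond (Nat.blt c 237) (cond (Nat.blt c 235) (cond (Nat.blt c 221) (cond (Nat.beq c 220) [⟨165, -1, 1⟩] []) (cond (Nat.beq c 221) [⟨167, -1, 1⟩] [])) (cond (Nat.blt c 236) (cond (Nat.beq c 235) [⟨202, 1, 1⟩] []) (cond (Nat.beq c 236) [⟨203, 1, 1⟩] []))) (cond (Nat.blt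 c 241) (cond (Nat.blt c 238) (cond (Nat.beq c 237) [⟨205, 1, 1⟩] []) (cond (Nat.beq c 238) [⟨208, 1, 1⟩] [])) (cond (Nat.blt c 242) (cond (Nat.beq c 241) [⟨222, -1, 1⟩] []) (cond (Nat.blt c 247) (cond (Nat.beq c 242) [⟨227, -1, 1⟩] []) (cond (Nat.beq c 247) [⟨232, -1, 1⟩] [])))))))

/-- Compiled columns of `x_67` for type E8. -/
def colsE8_67 (c : ℕ) : List CEnt :=
  cond (Nat.blt c 136) (cond (Nat.blt c 89) (cond (Nat.blt c 23) (cond (Nat.blt c 4) (cond (Nat.blt c 2) (cond (Nat.blt c 1) (cond (Nat.beq c 0) [⟨75, 1, 1⟩] []) (cond (Nat.beq c 1) [⟨75, 1, 1⟩] [])) (cond (Nat.blt c 3) (cond (Nat.beq c 2) [⟨75, 0, 1⟩] []) (cond (Nat.beq c 3) [⟨75, -1, 1⟩] []))) (cond (Nat.blt c 6) (cond (Nat.blt c 5) (cond (Nat.beq c 4) [⟨75, 0, 1⟩] []) (cond (Nat.beq c 5) [⟨75, 0, 1⟩] [])) (cond (Nat.blt c 7) (cond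 (Nat.beq c 6) [⟨75, 1, 1⟩] []) (cond (Nat.beq c 7) [⟨75, -1, 1⟩] [])))) (cond (Nat.blt c 49) (cond (Nat.blt c 32) (cond (Nat.blt c 27) (cond (Nat.beq c 23) [⟨9, 1, 1⟩] []) (cond (Nat.beq c 27) [⟨13, -1, 1⟩] [])) (cond (Nat.blt c 46) (cond (Nat.beq c 32) [⟨14, -1, 1⟩] []) (cond (Nat.beq c 46) [⟨17, 1, 1⟩] []))) (cond (Nat.blt c 53) (cond (Nat.blt c 51) (cond (Nat.beq c 49) [⟨18, 1, 1⟩] []) (cond (Nat.beq c 51) [⟨19, 1, 1⟩] [])) (cond (Nat.blt c 87) (cond (Nat.beq c 53) [⟨21, -1, 1⟩] []) (cond (Nat.beq c 87) [⟨34, -1, 1⟩] []))))) (cond (Nat.blt c 111) (cond (Nat.blt c 95) (cond (Nat.blt c 92) (cond (Nat.blt c 91) (cond (Nat.beq c 89) [⟨35, -1, 1⟩] []) (cond (Nat.beq c 91) [⟨37, 1, 1⟩] [])) (cond (Nat.blt c 94) (cond (Nat.beq c 92) [⟨38, -1, 1⟩] []) (cond (Nat.beq c 94) [⟨40, 1, 1⟩] []))) (cond (Nat.blt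 c 109) (cond (Nat.blt c 107) (cond (Nat.beq c 95) [⟨42, 1, 1⟩] []) (cond (Nat.beq c 107) [⟨54, 1, 1⟩] [])) (cond (Nat.blt c 110) (cond (Nat.beq c 109) [⟨56, -1, 1⟩] []) (cond (Nat.beq c 110) [⟨58, -1, 1⟩] [])))) (cond (Nat.blt c 117) (cond (Nat.blt c 115) (cond (Nat.blt c 113) (cond (Nat.beq c 111) [⟨61, -1, 1⟩] []) (cond (Nat.beq c 113) [⟨64, -1, 1⟩] [])) (cond (Nat.blt c 116) (cond (Nat.beq c 115) [⟨66, 1, 1⟩] []) (cond (Nat.beq c 116) [⟨68, 1, 1⟩] []))) (cond (Nat.blt c 129) (cond (Nat.blt c 127) (cond (Nat.beq c 117) [⟨71, 1, 1⟩] []) (cond (Nat.beq c 127) [⟨74, 1, 1⟩] [])) (cond (Nat.blt c 132) (cond (Nat.beq c 129) [⟨76, 1, 1⟩] []) (cond (Nat.beq c 132) [⟨77, 1, 1⟩] [])))))) (cond (Nat.blt c 194) (cond (Nat.blt c 178) (cond (Nat.blt c 170) (cond (Nat.blt c 153) (cond (Nat.blt c 149) (cond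 (Nat.beq c 136) [⟨78, 1, 1⟩] []) (cond (Nat.beq c 149) [⟨80, 1, 1⟩] [])) (cond (Nat.blt c 158) (cond (Nat.beq c 153) [⟨84, -1, 1⟩] []) (cond (Nat.beq c 158) [⟨85, 1, 1⟩] []))) (cond (Nat.blt c 175) (cond (Nat.blt c 171) (cond (Nat.beq c 170) [⟨97, -1, 1⟩] []) (cond (Nat.beq c 171) [⟨102, 1, 1⟩] [])) (cond (Nat.blt c 177) (cond (Nat.beq c 175) [⟨106, -1, 1⟩] []) (cond (Nat.beq c 177) [⟨119, -1, 1⟩] [])))) (cond (Nat.blt c 184) (cond (Nat.blt c 180) (cond (Nat.blt c 179) (cond (Nat.beq c 178) [⟨123, -1, 1⟩] []) (cond (Nat.beq c 179) [⟨126, -1, 1⟩] [])) (cond (Nat.blt c 181) (cond (Nat.beq c 180) [⟨75, -1, 2⟩, ⟨0, -1, 1⟩, ⟨1, -1, 1⟩, ⟨2, -1, 1⟩, ⟨3, -1, 1⟩, ⟨4, -1, 1⟩, ⟨5, -1, 1⟩, ⟨6, -1, 1⟩, ⟨7, 0, 1⟩] []) (cond (Nat.beq c 181) [⟨128, -1, 1⟩] []))) (cond (Nat.blt c 189) (cond (Nat.blt c 187) (cond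 (Nat.beq c 184) [⟨138, -1, 1⟩] []) (cond (Nat.beq c 187) [⟨139, -1, 1⟩] [])) (cond (Nat.blt c 191) (cond (Nat.beq c 189) [⟨140, -1, 1⟩] []) (cond (Nat.beq c 191) [⟨142, 1, 1⟩] []))))) (cond (Nat.blt c 220) (cond (Nat.blt c 213) (cond (Nat.blt c 199) (cond (Nat.blt c 197) (cond (Nat.beq c 194) [⟨144, 1, 1⟩] []) (cond (Nat.beq c 197) [⟨145, 1, 1⟩] [])) (cond (Nat.blt c 201) (cond (Nat.beq c 199) [⟨146, 1, 1⟩] []) (cond (Nat.beq c 201) [⟨148, -1, 1⟩] []))) (cond (Nat.blt c 217) (cond (Nat.blt c 215) (cond (Nat.beq c 213) [⟨160, -1, 1⟩] []) (cond (Nat.beq c 215) [⟨161, -1, 1⟩] [])) (cond (Nat.blt c 218) (cond (Nat.beq c 217) [⟨163, 1, 1⟩] []) (cond (Nat.beq c 218) [⟨164, -1, 1⟩] [])))) (cond (Nat.blt c 237) (cond (Nat.blt c 234) (cond (Nat.blt c 221) (cond (Nat.beq c 220) [⟨166, 1, 1⟩] []) (cond (Nat.beq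 c 221) [⟨168, 1, 1⟩] [])) (cond (Nat.blt c 236) (cond (Nat.beq c 234) [⟨202, 1, 1⟩] []) (cond (Nat.beq c 236) [⟨204, -1, 1⟩] []))) (cond (Nat.blt c 241) (cond (Nat.blt c 238) (cond (Nat.beq c 237) [⟨206, -1, 1⟩] []) (cond (Nat.beq c 238) [⟨209, -1, 1⟩] [])) (cond (Nat.blt c 242) (cond (Nat.beq c 241) [⟨223, 1, 1⟩] []) (cond (Nat.blt c 246) (cond (Nat.beq c 242) [⟨228, 1, 1⟩] []) (cond (Nat.beq c 246) [⟨232, -1, 1⟩] [])))))))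

/-- Compiled columns of `x_68` for type E8. -/
def colsE8_68 (c : ℕ) : List CEnt :=
  cond (Nat.blt c 135) (cond (Nat.blt c 89) (cond (Nat.blt c 23) (cond (Nat.blt c 4) (cond (Nat.blt c 2) (cond (Nat.blt c 1) (cond (Nat.beq c 0) [⟨76, 1, 1⟩] []) (cond (Nat.beq c 1) [⟨76, 1, 1⟩] [])) (cond (Nat.blt c 3) (cond (Nat.beq c 2) [⟨76, 0, 1⟩] []) (cond (Nat.beq c 3) [⟨76, -1, 1⟩] []))) (cond (Nat.blt c 6) (cond (Nat.blt c 5) (cond (Nat.beq c 4) [⟨76, 0, 1⟩] []) (cond (Nat.beq c 5) [⟨76, 1, 1⟩] [])) (cond (Nat.blt c 7) (cond (Nat.beq c 6) [⟨76, -1, 1⟩] []) (cond (Nat.beq c 7) [⟨76, 0, 1⟩] [])))) (cond (Nat.blt c 48) (cond (Nat.blt c 31) (cond (Nat.blt c 26) (cond (Nat.beq c 23) [⟨10, 1, 1⟩] []) (cond (Nat.beq c 26) [⟨13, 1, 1⟩] [])) (cond (Nat.blt c 45) (cond (Nat.beq c 31) [⟨14, 1, 1⟩] []) (cond (Nat.beq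 c 45) [⟨17, -1, 1⟩] []))) (cond (Nat.blt c 52) (cond (Nat.blt c 51) (cond (Nat.beq c 48) [⟨18, -1, 1⟩] []) (cond (Nat.beq c 51) [⟨20, 1, 1⟩] [])) (cond (Nat.blt c 86) (cond (Nat.beq c 52) [⟨21, 1, 1⟩] []) (cond (Nat.beq c 86) [⟨34, 1, 1⟩] []))))) (cond (Nat.blt c 111) (cond (Nat.blt c 95) (cond (Nat.blt c 92) (cond (Nat.blt c 90) (cond (Nat.beq c 89) [⟨36, -1, 1⟩] []) (cond (Nat.beq c 90) [⟨37, -1, 1⟩] [])) (cond (Nat.blt c 93) (cond (Nat.beq c 92) [⟨39, -1, 1⟩] []) (cond (Nat.beq c 93) [⟨40, -1, 1⟩] []))) (cond (Nat.blt c 108) (cond (Nat.blt c 107) (cond (Nat.beq c 95) [⟨43, 1, 1⟩] []) (cond (Nat.beq c 107) [⟨55, 1, 1⟩] [])) (cond (Nat.blt c 110) (cond (Nat.beq c 108) [⟨56, 1, 1⟩] []) (cond (Nat.beq c 110) [⟨59, -1, 1⟩] [])))) (cond (Nat.blt c 117) (cond (Nat.blt c 114) (cond (Nat.blt c 113) (cond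 (Nat.beq c 111) [⟨62, -1, 1⟩] []) (cond (Nat.beq c 113) [⟨65, -1, 1⟩] [])) (cond (Nat.blt c 116) (cond (Nat.beq c 114) [⟨66, -1, 1⟩] []) (cond (Nat.beq c 116) [⟨69, 1, 1⟩] []))) (cond (Nat.blt c 126) (cond (Nat.blt c 125) (cond (Nat.beq c 117) [⟨72, 1, 1⟩] []) (cond (Nat.beq c 125) [⟨74, 1, 1⟩] [])) (cond (Nat.blt c 131) (cond (Nat.beq c 126) [⟨75, 1, 1⟩] []) (cond (Nat.beq c 131) [⟨77, 1, 1⟩] [])))))) (cond (Nat.blt c 193) (cond (Nat.blt c 178) (cond (Nat.blt c 170) (cond (Nat.blt c 152) (cond (Nat.blt c 149) (cond (Nat.beq c 135) [⟨78, 1, 1⟩] []) (cond (Nat.beq c 149) [⟨81, 1, 1⟩] [])) (cond (Nat.blt c 157) (cond (Nat.beq c 152) [⟨84, -1, 1⟩] []) (cond (Nat.beq c 157) [⟨85, 1, 1⟩] []))) (cond (Nat.blt c 174) (cond (Nat.blt c 171) (cond (Nat.beq c 170) [⟨98, -1, 1⟩] []) (cond (Nat.beq c 171) [⟨103,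 1, 1⟩] [])) (cond (Nat.blt c 177) (cond (Nat.beq c 174) [⟨106, -1, 1⟩] []) (cond (Nat.beq c 177) [⟨120, -1, 1⟩] [])))) (cond (Nat.blt c 183) (cond (Nat.blt c 180) (cond (Nat.blt c 179) (cond (Nat.beq c 178) [⟨124, -1, 1⟩] []) (cond (Nat.beq c 179) [⟨76, -1, 2⟩, ⟨0, -1, 1⟩, ⟨1, -1, 1⟩, ⟨2, -1, 1⟩, ⟨3, -1, 1⟩, ⟨4, -1, 1⟩, ⟨5, -1, 1⟩, ⟨6, 0, 1⟩, ⟨7, 0, 1⟩] [])) (cond (Nat.blt c 181) (cond (Nat.beq c 180) [⟨129, -1, 1⟩] []) (cond (Nat.beq c 181) [⟨130, -1, 1⟩] []))) (cond (Nat.blt c 189) (cond (Nat.blt c 186) (cond (Nat.beq c 183) [⟨138, -1, 1⟩] []) (cond (Nat.beq c 186) [⟨139, -1, 1⟩] [])) (cond (Nat.blt c 190) (cond (Nat.beq c 189) [⟨141, 1, 1⟩] []) (cond (Nat.beq c 190) [⟨142, 1, 1⟩] []))))) (cond (Nat.blt c 219) (cond (Nat.blt c 212) (cond (Nat.blt c 199) (cond (Nat.blt c 196) (cond (Nat.beq c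 193) [⟨144, 1, 1⟩] []) (cond (Nat.beq c 196) [⟨145, 1, 1⟩] [])) (cond (Nat.blt c 200) (cond (Nat.beq c 199) [⟨147, -1, 1⟩] []) (cond (Nat.beq c 200) [⟨148, -1, 1⟩] []))) (cond (Nat.blt c 216) (cond (Nat.blt c 215) (cond (Nat.beq c 212) [⟨160, -1, 1⟩] []) (cond (Nat.beq c 215) [⟨162, 1, 1⟩] [])) (cond (Nat.blt c 218) (cond (Nat.beq c 216) [⟨163, 1, 1⟩] []) (cond (Nat.beq c 218) [⟨165, 1, 1⟩] [])))) (cond (Nat.blt c 237) (cond (Nat.blt c 234) (cond (Nat.blt c 221) (cond (Nat.beq c 219) [⟨166, 1, 1⟩] []) (cond (Nat.beq c 221) [⟨169, -1, 1⟩] [])) (cond (Nat.blt c 235) (cond (Nat.beq c 234) [⟨203, -1, 1⟩] []) (cond (Nat.beq c 235) [⟨204, -1, 1⟩] []))) (cond (Nat.blt c 241) (cond (Nat.blt c 238) (cond (Nat.beq c 237) [⟨207, 1, 1⟩] []) (cond (Nat.beq c 238) [⟨210, 1, 1⟩] [])) (cond (Nat.blt c 242) (cond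 (Nat.beq c 241) [⟨224, -1, 1⟩] []) (cond (Nat.blt c 245) (cond (Nat.beq c 242) [⟨229, -1, 1⟩] []) (cond (Nat.beq c 245) [⟨232, -1, 1⟩] [])))))))

/-- Compiled columns of `x_69` for type E8. -/
def colsE8_69 (c : ℕ) : List CEnt :=
  cond (Nat.blt c 134) (cond (Nat.blt c 87) (cond (Nat.blt c 23) (cond (Nat.blt c 4) (cond (Nat.blt c 2) (cond (Nat.blt c 1) (cond (Nat.beq c 0) [⟨77, 1, 1⟩] []) (cond (Nat.beq c 1) [⟨77, 1, 1⟩] [])) (cond (Nat.blt c 3) (cond (Nat.beq c 2) [⟨77, 0, 1⟩] []) (cond (Nat.beq c 3) [⟨77, -1, 1⟩] []))) (cond (Nat.blt c 6) (cond (Nat.blt c 5) (cond (Nat.beq c 4) [⟨77, 1, 1⟩] []) (cond (Nat.beq c 5) [⟨77, -1, 1⟩] [])) (cond (Nat.blt c 7) (cond (Nat.beq c 6) [⟨77, 0, 1⟩] []) (cond (Nat.beq c 7) [⟨77, 0, 1⟩] [])))) (cond (Nat.blt c 48) (cond (Nat.blt c 30) (cond (Nat.blt c 25) (cond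 (Nat.beq c 23) [⟨11, 1, 1⟩] []) (cond (Nat.beq c 25) [⟨13, -1, 1⟩] [])) (cond (Nat.blt c 44) (cond (Nat.beq c 30) [⟨14, -1, 1⟩] []) (cond (Nat.beq c 44) [⟨17, 1, 1⟩] []))) (cond (Nat.blt c 50) (cond (Nat.blt c 49) (cond (Nat.beq c 48) [⟨19, -1, 1⟩] []) (cond (Nat.beq c 49) [⟨20, -1, 1⟩] [])) (cond (Nat.blt c 86) (cond (Nat.beq c 50) [⟨21, -1, 1⟩] []) (cond (Nat.beq c 86) [⟨35, 1, 1⟩] []))))) (cond (Nat.blt c 111) (cond (Nat.blt c 94) (cond (Nat.blt c 92) (cond (Nat.blt c 88) (cond (Nat.beq c 87) [⟨36, 1, 1⟩] []) (cond (Nat.beq c 88) [⟨37, 1, 1⟩] [])) (cond (Nat.blt c 93) (cond (Nat.beq c 92) [⟨41, -1, 1⟩] []) (cond (Nat.beq c 93) [⟨42, -1, 1⟩] []))) (cond (Nat.blt c 108) (cond (Nat.blt c 107) (cond (Nat.beq c 94) [⟨43, -1, 1⟩] []) (cond (Nat.beq c 107) [⟨57, 1, 1⟩] [])) (cond (Nat.blt c 109) (cond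 (Nat.beq c 108) [⟨58, 1, 1⟩] []) (cond (Nat.beq c 109) [⟨59, 1, 1⟩] [])))) (cond (Nat.blt c 117) (cond (Nat.blt c 114) (cond (Nat.blt c 113) (cond (Nat.beq c 111) [⟨63, -1, 1⟩] []) (cond (Nat.beq c 113) [⟨67, -1, 1⟩] [])) (cond (Nat.blt c 115) (cond (Nat.beq c 114) [⟨68, -1, 1⟩] []) (cond (Nat.beq c 115) [⟨69, -1, 1⟩] []))) (cond (Nat.blt c 123) (cond (Nat.blt c 122) (cond (Nat.beq c 117) [⟨73, 1, 1⟩] []) (cond (Nat.beq c 122) [⟨74, 1, 1⟩] [])) (cond (Nat.blt c 124) (cond (Nat.beq c 123) [⟨75, 1, 1⟩] []) (cond (Nat.beq c 124) [⟨76, 1, 1⟩] [])))))) (cond (Nat.blt c 192) (cond (Nat.blt c 178) (cond (Nat.blt c 170) (cond (Nat.blt c 151) (cond (Nat.blt c 149) (cond (Nat.beq c 134) [⟨78, 1, 1⟩] []) (cond (Nat.beq c 149) [⟨82, 1, 1⟩] [])) (cond (Nat.blt c 156) (cond (Nat.beq c 151) [⟨84, -1, 1⟩] [])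 (cond (Nat.beq c 156) [⟨85, 1, 1⟩] []))) (cond (Nat.blt c 173) (cond (Nat.blt c 171) (cond (Nat.beq c 170) [⟨99, -1, 1⟩] []) (cond (Nat.beq c 171) [⟨104, 1, 1⟩] [])) (cond (Nat.blt c 177) (cond (Nat.beq c 173) [⟨106, -1, 1⟩] []) (cond (Nat.beq c 177) [⟨121, -1, 1⟩] [])))) (cond (Nat.blt c 182) (cond (Nat.blt c 180) (cond (Nat.blt c 179) (cond (Nat.beq c 178) [⟨77, -1, 2⟩, ⟨0, -1, 1⟩, ⟨1, -1, 1⟩, ⟨2, -1, 1⟩, ⟨3, -1, 1⟩, ⟨4, -1, 1⟩, ⟨5, 0, 1⟩, ⟨6, 0, 1⟩, ⟨7, 0, 1⟩] []) (cond (Nat.beq c 179) [⟨131, -1, 1⟩] [])) (cond (Nat.blt c 181) (cond (Nat.beq c 180) [⟨132, -1, 1⟩] []) (cond (Nat.beq c 181) [⟨133, -1, 1⟩] []))) (cond (Nat.blt c 187) (cond (Nat.blt c 186) (cond (Nat.beq c 182) [⟨138, -1, 1⟩] []) (cond (Nat.beq c 186) [⟨140, 1, 1⟩] [])) (cond (Nat.blt c 188) (cond (Nat.beq c 187) [⟨141, 1, 1⟩] [])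 (cond (Nat.beq c 188) [⟨142, 1, 1⟩] []))))) (cond (Nat.blt c 219) (cond (Nat.blt c 212) (cond (Nat.blt c 197) (cond (Nat.blt c 196) (cond (Nat.beq c 192) [⟨144, 1, 1⟩] []) (cond (Nat.beq c 196) [⟨146, -1, 1⟩] [])) (cond (Nat.blt c 198) (cond (Nat.beq c 197) [⟨147, -1, 1⟩] []) (cond (Nat.beq c 198) [⟨148, -1, 1⟩] []))) (cond (Nat.blt c 214) (cond (Nat.blt c 213) (cond (Nat.beq c 212) [⟨161, 1, 1⟩] []) (cond (Nat.beq c 213) [⟨162, 1, 1⟩] [])) (cond (Nat.blt c 218) (cond (Nat.beq c 214) [⟨163, 1, 1⟩] []) (cond (Nat.beq c 218) [⟨167, -1, 1⟩] [])))) (cond (Nat.blt c 236) (cond (Nat.blt c 234) (cond (Nat.blt c 220) (cond (Nat.beq c 219) [⟨168, -1, 1⟩] []) (cond (Nat.beq c 220) [⟨169, -1, 1⟩] [])) (cond (Nat.blt c 235) (cond (Nat.beq c 234) [⟨205, 1, 1⟩] []) (cond (Nat.beq c 235) [⟨206, 1, 1⟩] []))) (cond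 (Nat.blt c 241) (cond (Nat.blt c 238) (cond (Nat.beq c 236) [⟨207, 1, 1⟩] []) (cond (Nat.beq c 238) [⟨211, -1, 1⟩] [])) (cond (Nat.blt c 242) (cond (Nat.beq c 241) [⟨225, 1, 1⟩] []) (cond (Nat.blt c 244) (cond (Nat.beq c 242) [⟨230, 1, 1⟩] []) (cond (Nat.beq c 244) [⟨232, -1, 1⟩] [])))))))

/-- Compiled columns of `x_70` for type E8. -/
def colsE8_70 (c : ℕ) : List CEnt :=
  cond (Nat.blt c 121) (cond (Nat.blt c 87) (cond (Nat.blt c 23) (cond (Nat.blt c 4) (cond (Nat.blt c 2) (cond (Nat.blt c 1) (cond (Nat.beq c 0) [⟨78, 1, 1⟩] []) (cond (Nat.beq c 1) [⟨78, 1, 1⟩] [])) (cond (Nat.blt c 3) (cond (Nat.beq c 2) [⟨78, 0, 1⟩] []) (cond (Nat.beq c 3) [⟨78, 0, 1⟩] []))) (cond (Nat.blt c 6) (cond (Nat.blt c 5) (cond (Nat.beq c 4) [⟨78, -1, 1⟩] []) (cond (Nat.beq c 5) [⟨78, 0, 1⟩] [])) (cond (Nat.blt c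 7) (cond (Nat.beq c 6) [⟨78, 0, 1⟩] []) (cond (Nat.beq c 7) [⟨78, 0, 1⟩] [])))) (cond (Nat.blt c 45) (cond (Nat.blt c 29) (cond (Nat.blt c 24) (cond (Nat.beq c 23) [⟨12, 1, 1⟩] []) (cond (Nat.beq c 24) [⟨13, 1, 1⟩] [])) (cond (Nat.blt c 44) (cond (Nat.beq c 29) [⟨14, 1, 1⟩] []) (cond (Nat.beq c 44) [⟨18, 1, 1⟩] []))) (cond (Nat.blt c 47) (cond (Nat.blt c 46) (cond (Nat.beq c 45) [⟨19, 1, 1⟩] []) (cond (Nat.beq c 46) [⟨20, 1, 1⟩] [])) (cond (Nat.blt c 86) (cond (Nat.beq c 47) [⟨21, 1, 1⟩] []) (cond (Nat.beq c 86) [⟨38, 1, 1⟩] []))))) (cond (Nat.blt c 110) (cond (Nat.blt c 91) (cond (Nat.blt c 89) (cond (Nat.blt c 88) (cond (Nat.beq c 87) [⟨39, 1, 1⟩] []) (cond (Nat.beq c 88) [⟨40, 1, 1⟩] [])) (cond (Nat.blt c 90) (cond (Nat.beq c 89) [⟨41, 1, 1⟩] []) (cond (Nat.beq c 90) [⟨42, 1, 1⟩] []))) (cond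 (Nat.blt c 108) (cond (Nat.blt c 107) (cond (Nat.beq c 91) [⟨43, 1, 1⟩] []) (cond (Nat.beq c 107) [⟨60, 1, 1⟩] [])) (cond (Nat.blt c 109) (cond (Nat.beq c 108) [⟨61, 1, 1⟩] []) (cond (Nat.beq c 109) [⟨62, 1, 1⟩] [])))) (cond (Nat.blt c 116) (cond (Nat.blt c 114) (cond (Nat.blt c 113) (cond (Nat.beq c 110) [⟨63, 1, 1⟩] []) (cond (Nat.beq c 113) [⟨70, -1, 1⟩] [])) (cond (Nat.blt c 115) (cond (Nat.beq c 114) [⟨71, -1, 1⟩] []) (cond (Nat.beq c 115) [⟨72, -1, 1⟩] []))) (cond (Nat.blt c 119) (cond (Nat.blt c 118) (cond (Nat.beq c 116) [⟨73, -1, 1⟩] []) (cond (Nat.beq c 118) [⟨74, 1, 1⟩] [])) (cond (Nat.blt c 120) (cond (Nat.beq c 119) [⟨75, 1, 1⟩] []) (cond (Nat.beq c 120) [⟨76, 1, 1⟩] [])))))) (cond (Nat.blt c 192) (cond (Nat.blt c 178) (cond (Nat.blt c 170) (cond (Nat.blt c 150) (cond (Nat.blt c 149)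 (cond (Nat.beq c 121) [⟨77, 1, 1⟩] []) (cond (Nat.beq c 149) [⟨83, 1, 1⟩] [])) (cond (Nat.blt c 155) (cond (Nat.beq c 150) [⟨84, -1, 1⟩] []) (cond (Nat.beq c 155) [⟨85, 1, 1⟩] []))) (cond (Nat.blt c 172) (cond (Nat.blt c 171) (cond (Nat.beq c 170) [⟨100, -1, 1⟩] []) (cond (Nat.beq c 171) [⟨105, 1, 1⟩] [])) (cond (Nat.blt c 177) (cond (Nat.beq c 172) [⟨106, -1, 1⟩] []) (cond (Nat.beq c 177) [⟨78, -1, 2⟩, ⟨0, -1, 1⟩, ⟨1, -1, 1⟩, ⟨2, -1, 1⟩, ⟨3, -1, 1⟩, ⟨4, 0, 1⟩, ⟨5, 0, 1⟩, ⟨6, 0, 1⟩, ⟨7, 0, 1⟩] [])))) (cond (Nat.blt c 182) (cond (Nat.blt c 180) (cond (Nat.blt c 179) (cond (Nat.beq c 178) [⟨134, -1, 1⟩] []) (cond (Nat.beq c 179) [⟨135, -1, 1⟩] [])) (cond (Nat.blt c 181) (cond (Nat.beq c 180) [⟨136, -1, 1⟩] []) (cond (Nat.beq c 181) [⟨137, -1, 1⟩] []))) (cond (Nat.blt c 184) (cond (Nat.blt c 183)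 (cond (Nat.beq c 182) [⟨139, 1, 1⟩] []) (cond (Nat.beq c 183) [⟨140, 1, 1⟩] [])) (cond (Nat.blt c 185) (cond (Nat.beq c 184) [⟨141, 1, 1⟩] []) (cond (Nat.beq c 185) [⟨142, 1, 1⟩] []))))) (cond (Nat.blt c 216) (cond (Nat.blt c 212) (cond (Nat.blt c 194) (cond (Nat.blt c 193) (cond (Nat.beq c 192) [⟨145, -1, 1⟩] []) (cond (Nat.beq c 193) [⟨146, -1, 1⟩] [])) (cond (Nat.blt c 195) (cond (Nat.beq c 194) [⟨147, -1, 1⟩] []) (cond (Nat.beq c 195) [⟨148, -1, 1⟩] []))) (cond (Nat.blt c 214) (cond (Nat.blt c 213) (cond (Nat.beq c 212) [⟨164, -1, 1⟩] []) (cond (Nat.beq c 213) [⟨165, -1, 1⟩] [])) (cond (Nat.blt c 215) (cond (Nat.beq c 214) [⟨166, -1, 1⟩] []) (cond (Nat.beq c 215) [⟨167, -1, 1⟩] [])))) (cond (Nat.blt c 236) (cond (Nat.blt c 234) (cond (Nat.blt c 217) (cond (Nat.beq c 216) [⟨168, -1, 1⟩] [])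 (cond (Nat.beq c 217) [⟨169, -1, 1⟩] [])) (cond (Nat.blt c 235) (cond (Nat.beq c 234) [⟨208, -1, 1⟩] []) (cond (Nat.beq c 235) [⟨209, -1, 1⟩] []))) (cond (Nat.blt c 241) (cond (Nat.blt c 237) (cond (Nat.beq c 236) [⟨210, -1, 1⟩] []) (cond (Nat.beq c 237) [⟨211, -1, 1⟩] [])) (cond (Nat.blt c 242) (cond (Nat.beq c 241) [⟨226, -1, 1⟩] []) (cond (Nat.blt c 243) (cond (Nat.beq c 242) [⟨231, -1, 1⟩] []) (cond (Nat.beq c 243) [⟨232, -1, 1⟩] [])))))))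

/-- Compiled columns of `x_71` for type E8. -/
def colsE8_71 (c : ℕ) : List CEnt :=
  cond (Nat.blt c 133) (cond (Nat.blt c 90) (cond (Nat.blt c 22) (cond (Nat.blt c 4) (cond (Nat.blt c 2) (cond (Nat.blt c 1) (cond (Nat.beq c 0) [⟨79, 1, 1⟩] []) (cond (Nat.beq c 1) [⟨79, -1, 1⟩] [])) (cond (Nat.blt c 3) (cond (Nat.beq c 2) [⟨79, 0, 1⟩] []) (cond (Nat.beq c 3) [⟨79, 0, 1⟩] []))) (cond (Nat.blt c 6) (cond (Nat.blt c 5) (cond (Nat.beq c 4) [⟨79, 0, 1⟩] []) (cond (Nat.beq c 5) [⟨79, 0, 1⟩] [])) (cond (Nat.blt c 7) (cond (Nat.beq c 6) [⟨79, 0, 1⟩] []) (cond (Nat.beq c 7) [⟨79, 1, 1⟩] [])))) (cond (Nat.blt c 40) (cond (Nat.blt c 33) (cond (Nat.blt c 28) (cond (Nat.beq c 22) [⟨8, -1, 1⟩] []) (cond (Nat.beq c 28) [⟨15, 1, 1⟩] [])) (cond (Nat.blt c 37) (cond (Nat.beq c 33) [⟨16, 1, 1⟩] []) (cond (Nat.beq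 c 37) [⟨17, 1, 1⟩] []))) (cond (Nat.blt c 43) (cond (Nat.blt c 42) (cond (Nat.beq c 40) [⟨18, 1, 1⟩] []) (cond (Nat.beq c 42) [⟨19, 1, 1⟩] [])) (cond (Nat.blt c 88) (cond (Nat.beq c 43) [⟨20, 1, 1⟩] []) (cond (Nat.beq c 88) [⟨44, 1, 1⟩] []))))) (cond (Nat.blt c 100) (cond (Nat.blt c 95) (cond (Nat.blt c 93) (cond (Nat.blt c 91) (cond (Nat.beq c 90) [⟨45, 1, 1⟩] []) (cond (Nat.beq c 91) [⟨46, 1, 1⟩] [])) (cond (Nat.blt c 94) (cond (Nat.beq c 93) [⟨48, 1, 1⟩] []) (cond (Nat.beq c 94) [⟨49, 1, 1⟩] []))) (cond (Nat.blt c 98) (cond (Nat.blt c 97) (cond (Nat.beq c 95) [⟨51, 1, 1⟩] []) (cond (Nat.beq c 97) [⟨54, 1, 1⟩] [])) (cond (Nat.blt c 99) (cond (Nat.beq c 98) [⟨55, 1, 1⟩] []) (cond (Nat.beq c 99) [⟨57, 1, 1⟩] [])))) (cond (Nat.blt c 105) (cond (Nat.blt c 103) (cond (Nat.blt c 102) (cond (Nat.beq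 c 100) [⟨60, 1, 1⟩] []) (cond (Nat.beq c 102) [⟨64, 1, 1⟩] [])) (cond (Nat.blt c 104) (cond (Nat.beq c 103) [⟨65, 1, 1⟩] []) (cond (Nat.beq c 104) [⟨67, 1, 1⟩] []))) (cond (Nat.blt c 128) (cond (Nat.blt c 106) (cond (Nat.beq c 105) [⟨70, 1, 1⟩] []) (cond (Nat.beq c 106) [⟨74, 1, 1⟩] [])) (cond (Nat.blt c 130) (cond (Nat.beq c 128) [⟨80, 1, 1⟩] []) (cond (Nat.beq c 130) [⟨81, 1, 1⟩] [])))))) (cond (Nat.blt c 195) (cond (Nat.blt c 174) (cond (Nat.blt c 170) (cond (Nat.blt c 142) (cond (Nat.blt c 137) (cond (Nat.beq c 133) [⟨82, 1, 1⟩] []) (cond (Nat.beq c 137) [⟨83, 1, 1⟩] [])) (cond (Nat.blt c 148) (cond (Nat.beq c 142) [⟨84, 1, 1⟩] []) (cond (Nat.beq c 148) [⟨85, 1, 1⟩] []))) (cond (Nat.blt c 172) (cond (Nat.blt c 171) (cond (Nat.beq c 170) [⟨107, -1, 1⟩] []) (cond (Nat.beq c 171) [⟨113, -1, 1⟩]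 [])) (cond (Nat.blt c 173) (cond (Nat.beq c 172) [⟨118, -1, 1⟩] []) (cond (Nat.beq c 173) [⟨122, -1, 1⟩] [])))) (cond (Nat.blt c 185) (cond (Nat.blt c 176) (cond (Nat.blt c 175) (cond (Nat.beq c 174) [⟨125, -1, 1⟩] []) (cond (Nat.beq c 175) [⟨127, -1, 1⟩] [])) (cond (Nat.blt c 181) (cond (Nat.beq c 176) [⟨79, -1, 2⟩, ⟨0, -1, 1⟩, ⟨1, 0, 1⟩, ⟨2, -1, 1⟩, ⟨3, -1, 1⟩, ⟨4, -1, 1⟩, ⟨5, -1, 1⟩, ⟨6, -1, 1⟩, ⟨7, -1, 1⟩] []) (cond (Nat.beq c 181) [⟨149, -1, 1⟩] []))) (cond (Nat.blt c 190) (cond (Nat.blt c 188) (cond (Nat.beq c 185) [⟨150, -1, 1⟩] []) (cond (Nat.beq c 188) [⟨151, -1, 1⟩] [])) (cond (Nat.blt c 191) (cond (Nat.beq c 190) [⟨152, -1, 1⟩] []) (cond (Nat.beq c 191) [⟨153, -1, 1⟩] []))))) (cond (Nat.blt c 210) (cond (Nat.blt c 204) (cond (Nat.blt c 200) (cond (Nat.blt c 198) (cond (Nat.beq c 195)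 [⟨155, -1, 1⟩] []) (cond (Nat.beq c 198) [⟨156, -1, 1⟩] [])) (cond (Nat.blt c 201) (cond (Nat.beq c 200) [⟨157, -1, 1⟩] []) (cond (Nat.beq c 201) [⟨158, -1, 1⟩] []))) (cond (Nat.blt c 207) (cond (Nat.blt c 206) (cond (Nat.beq c 204) [⟨160, -1, 1⟩] []) (cond (Nat.beq c 206) [⟨161, -1, 1⟩] [])) (cond (Nat.blt c 209) (cond (Nat.beq c 207) [⟨162, -1, 1⟩] []) (cond (Nat.beq c 209) [⟨164, -1, 1⟩] [])))) (cond (Nat.blt c 237) (cond (Nat.blt c 235) (cond (Nat.blt c 211) (cond (Nat.beq c 210) [⟨165, -1, 1⟩] []) (cond (Nat.beq c 211) [⟨167, -1, 1⟩] [])) (cond (Nat.blt c 236) (cond (Nat.beq c 235) [⟨212, -1, 1⟩] []) (cond (Nat.beq c 236) [⟨213, -1, 1⟩] []))) (cond (Nat.blt c 239) (cond (Nat.blt c 238) (cond (Nat.beq c 237) [⟨215, -1, 1⟩] []) (cond (Nat.beq c 238) [⟨218, -1, 1⟩] [])) (cond (Nat.blt c 240)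 (cond (Nat.beq c 239) [⟨222, -1, 1⟩] []) (cond (Nat.blt c 247) (cond (Nat.beq c 240) [⟨227, -1, 1⟩] []) (cond (Nat.beq c 247) [⟨233, 1, 1⟩] [])))))))

/-- Compiled columns of `x_72` for type E8. -/
def colsE8_72 (c : ℕ) : List CEnt :=
  cond (Nat.blt c 132) (cond (Nat.blt c 89) (cond (Nat.blt c 22) (cond (Nat.blt c 4) (cond (Nat.blt c 2) (cond (Nat.blt c 1) (cond (Nat.beq c 0) [⟨80, 1, 1⟩] []) (cond (Nat.beq c 1) [⟨80, -1, 1⟩] [])) (cond (Nat.blt c 3) (cond (Nat.beq c 2) [⟨80, 0, 1⟩] []) (cond (Nat.beq c 3) [⟨80, 0, 1⟩] []))) (cond (Nat.blt c 6) (cond (Nat.blt c 5) (cond (Nat.beq c 4) [⟨80, 0, 1⟩] []) (cond (Nat.beq c 5) [⟨80, 0, 1⟩] [])) (cond (Nat.blt c 7) (cond (Nat.beq c 6) [⟨80, 1, 1⟩] []) (cond (Nat.beq c 7) [⟨80, -1, 1⟩] [])))) (cond (Nat.blt c 39) (cond (Nat.blt c 32) (cond (Nat.blt c 27)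 (cond (Nat.beq c 22) [⟨9, -1, 1⟩] []) (cond (Nat.beq c 27) [⟨15, -1, 1⟩] [])) (cond (Nat.blt c 36) (cond (Nat.beq c 32) [⟨16, -1, 1⟩] []) (cond (Nat.beq c 36) [⟨17, -1, 1⟩] []))) (cond (Nat.blt c 43) (cond (Nat.blt c 41) (cond (Nat.beq c 39) [⟨18, -1, 1⟩] []) (cond (Nat.beq c 41) [⟨19, -1, 1⟩] [])) (cond (Nat.blt c 87) (cond (Nat.beq c 43) [⟨21, 1, 1⟩] []) (cond (Nat.beq c 87) [⟨44, -1, 1⟩] []))))) (cond (Nat.blt c 100) (cond (Nat.blt c 95) (cond (Nat.blt c 92) (cond (Nat.blt c 91) (cond (Nat.beq c 89) [⟨45, -1, 1⟩] []) (cond (Nat.beq c 91) [⟨47, 1, 1⟩] [])) (cond (Nat.blt c 94) (cond (Nat.beq c 92) [⟨48, -1, 1⟩] []) (cond (Nat.beq c 94) [⟨50, 1, 1⟩] []))) (cond (Nat.blt c 98) (cond (Nat.blt c 96) (cond (Nat.beq c 95) [⟨52, 1, 1⟩] []) (cond (Nat.beq c 96) [⟨54, -1, 1⟩] [])) (cond (Nat.blt c 99)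 (cond (Nat.beq c 98) [⟨56, 1, 1⟩] []) (cond (Nat.beq c 99) [⟨58, 1, 1⟩] [])))) (cond (Nat.blt c 105) (cond (Nat.blt c 103) (cond (Nat.blt c 101) (cond (Nat.beq c 100) [⟨61, 1, 1⟩] []) (cond (Nat.beq c 101) [⟨64, -1, 1⟩] [])) (cond (Nat.blt c 104) (cond (Nat.beq c 103) [⟨66, 1, 1⟩] []) (cond (Nat.beq c 104) [⟨68, 1, 1⟩] []))) (cond (Nat.blt c 127) (cond (Nat.blt c 106) (cond (Nat.beq c 105) [⟨71, 1, 1⟩] []) (cond (Nat.beq c 106) [⟨75, 1, 1⟩] [])) (cond (Nat.blt c 129) (cond (Nat.beq c 127) [⟨79, 1, 1⟩] []) (cond (Nat.beq c 129) [⟨81, 1, 1⟩] [])))))) (cond (Nat.blt c 194) (cond (Nat.blt c 174) (cond (Nat.blt c 170) (cond (Nat.blt c 141) (cond (Nat.blt c 136) (cond (Nat.beq c 132) [⟨82, 1, 1⟩] []) (cond (Nat.beq c 136) [⟨83, 1, 1⟩] [])) (cond (Nat.blt c 147) (cond (Nat.beq c 141) [⟨84, 1, 1⟩] [])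 (cond (Nat.beq c 147) [⟨85, 1, 1⟩] []))) (cond (Nat.blt c 172) (cond (Nat.blt c 171) (cond (Nat.beq c 170) [⟨108, -1, 1⟩] []) (cond (Nat.beq c 171) [⟨114, -1, 1⟩] [])) (cond (Nat.blt c 173) (cond (Nat.beq c 172) [⟨119, -1, 1⟩] []) (cond (Nat.beq c 173) [⟨123, -1, 1⟩] [])))) (cond (Nat.blt c 184) (cond (Nat.blt c 176) (cond (Nat.blt c 175) (cond (Nat.beq c 174) [⟨126, -1, 1⟩] []) (cond (Nat.beq c 175) [⟨80, -1, 2⟩, ⟨0, -1, 1⟩, ⟨1, 0, 1⟩, ⟨2, -1, 1⟩, ⟨3, -1, 1⟩, ⟨4, -1, 1⟩, ⟨5, -1, 1⟩, ⟨6, -1, 1⟩, ⟨7, 0, 1⟩] [])) (cond (Nat.blt c 180) (cond (Nat.beq c 176) [⟨128, -1, 1⟩] []) (cond (Nat.beq c 180) [⟨149, -1, 1⟩] []))) (cond (Nat.blt c 189) (cond (Nat.blt c 187) (cond (Nat.beq c 184) [⟨150, -1, 1⟩] []) (cond (Nat.beq c 187) [⟨151, -1, 1⟩] [])) (cond (Nat.blt c 191) (cond (Nat.beq c 189) [⟨152, -1,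 1⟩] []) (cond (Nat.beq c 191) [⟨154, 1, 1⟩] []))))) (cond (Nat.blt c 210) (cond (Nat.blt c 203) (cond (Nat.blt c 199) (cond (Nat.blt c 197) (cond (Nat.beq c 194) [⟨155, -1, 1⟩] []) (cond (Nat.beq c 197) [⟨156, -1, 1⟩] [])) (cond (Nat.blt c 201) (cond (Nat.beq c 199) [⟨157, -1, 1⟩] []) (cond (Nat.beq c 201) [⟨159, 1, 1⟩] []))) (cond (Nat.blt c 207) (cond (Nat.blt c 205) (cond (Nat.beq c 203) [⟨160, -1, 1⟩] []) (cond (Nat.beq c 205) [⟨161, -1, 1⟩] [])) (cond (Nat.blt c 208) (cond (Nat.beq c 207) [⟨163, 1, 1⟩] []) (cond (Nat.beq c 208) [⟨164, -1, 1⟩] [])))) (cond (Nat.blt c 237) (cond (Nat.blt c 234) (cond (Nat.blt c 211) (cond (Nat.beq c 210) [⟨166, 1, 1⟩] []) (cond (Nat.beq c 211) [⟨168, 1, 1⟩] [])) (cond (Nat.blt c 236) (cond (Nat.beq c 234) [⟨212, -1, 1⟩] []) (cond (Nat.beq c 236) [⟨214, 1, 1⟩]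 []))) (cond (Nat.blt c 239) (cond (Nat.blt c 238) (cond (Nat.beq c 237) [⟨216, 1, 1⟩] []) (cond (Nat.beq c 238) [⟨219, 1, 1⟩] [])) (cond (Nat.blt c 240) (cond (Nat.beq c 239) [⟨223, 1, 1⟩] []) (cond (Nat.blt c 246) (cond (Nat.beq c 240) [⟨228, 1, 1⟩] []) (cond (Nat.beq c 246) [⟨233, 1, 1⟩] [])))))))

/-- Compiled columns of `x_73` for type E8. -/
def colsE8_73 (c : ℕ) : List CEnt :=
  cond (Nat.blt c 131) (cond (Nat.blt c 89) (cond (Nat.blt c 22) (cond (Nat.blt c 4) (cond (Nat.blt c 2) (cond (Nat.blt c 1) (cond (Nat.beq c 0) [⟨81, 1, 1⟩] []) (cond (Nat.beq c 1) [⟨81, -1, 1⟩] [])) (cond (Nat.blt c 3) (cond (Nat.beq c 2) [⟨81, 0, 1⟩] []) (cond (Nat.beq c 3) [⟨81, 0, 1⟩] []))) (cond (Nat.blt c 6) (cond (Nat.blt c 5) (cond (Nat.beq c 4) [⟨81, 0, 1⟩] []) (cond (Nat.beq c 5) [⟨81, 1, 1⟩] [])) (cond (Nat.blt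 c 7) (cond (Nat.beq c 6) [⟨81, -1, 1⟩] []) (cond (Nat.beq c 7) [⟨81, 0, 1⟩] [])))) (cond (Nat.blt c 38) (cond (Nat.blt c 31) (cond (Nat.blt c 26) (cond (Nat.beq c 22) [⟨10, -1, 1⟩] []) (cond (Nat.beq c 26) [⟨15, 1, 1⟩] [])) (cond (Nat.blt c 35) (cond (Nat.beq c 31) [⟨16, 1, 1⟩] []) (cond (Nat.beq c 35) [⟨17, 1, 1⟩] []))) (cond (Nat.blt c 42) (cond (Nat.blt c 41) (cond (Nat.beq c 38) [⟨18, 1, 1⟩] []) (cond (Nat.beq c 41) [⟨20, -1, 1⟩] [])) (cond (Nat.blt c 86) (cond (Nat.beq c 42) [⟨21, -1, 1⟩] []) (cond (Nat.beq c 86) [⟨44, 1, 1⟩] []))))) (cond (Nat.blt c 100) (cond (Nat.blt c 95) (cond (Nat.blt c 92) (cond (Nat.blt c 90) (cond (Nat.beq c 89) [⟨46, -1, 1⟩] []) (cond (Nat.beq c 90) [⟨47, -1, 1⟩] [])) (cond (Nat.blt c 93) (cond (Nat.beq c 92) [⟨49, -1, 1⟩] []) (cond (Nat.beq c 93) [⟨50, -1, 1⟩] [])))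 (cond (Nat.blt c 97) (cond (Nat.blt c 96) (cond (Nat.beq c 95) [⟨53, 1, 1⟩] []) (cond (Nat.beq c 96) [⟨55, -1, 1⟩] [])) (cond (Nat.blt c 99) (cond (Nat.beq c 97) [⟨56, -1, 1⟩] []) (cond (Nat.beq c 99) [⟨59, 1, 1⟩] [])))) (cond (Nat.blt c 105) (cond (Nat.blt c 102) (cond (Nat.blt c 101) (cond (Nat.beq c 100) [⟨62, 1, 1⟩] []) (cond (Nat.beq c 101) [⟨65, -1, 1⟩] [])) (cond (Nat.blt c 104) (cond (Nat.beq c 102) [⟨66, -1, 1⟩] []) (cond (Nat.beq c 104) [⟨69, 1, 1⟩] []))) (cond (Nat.blt c 125) (cond (Nat.blt c 106) (cond (Nat.beq c 105) [⟨72, 1, 1⟩] []) (cond (Nat.beq c 106) [⟨76, 1, 1⟩] [])) (cond (Nat.blt c 126) (cond (Nat.beq c 125) [⟨79, 1, 1⟩] []) (cond (Nat.beq c 126) [⟨80, 1, 1⟩] [])))))) (cond (Nat.blt c 193) (cond (Nat.blt c 174) (cond (Nat.blt c 170) (cond (Nat.blt c 140) (cond (Nat.blt c 135)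 (cond (Nat.beq c 131) [⟨82, 1, 1⟩] []) (cond (Nat.beq c 135) [⟨83, 1, 1⟩] [])) (cond (Nat.blt c 146) (cond (Nat.beq c 140) [⟨84, 1, 1⟩] []) (cond (Nat.beq c 146) [⟨85, 1, 1⟩] []))) (cond (Nat.blt c 172) (cond (Nat.blt c 171) (cond (Nat.beq c 170) [⟨109, -1, 1⟩] []) (cond (Nat.beq c 171) [⟨115, -1, 1⟩] [])) (cond (Nat.blt c 173) (cond (Nat.beq c 172) [⟨120, -1, 1⟩] []) (cond (Nat.beq c 173) [⟨124, -1, 1⟩] [])))) (cond (Nat.blt c 183) (cond (Nat.blt c 176) (cond (Nat.blt c 175) (cond (Nat.beq c 174) [⟨81, -1, 2⟩, ⟨0, -1, 1⟩, ⟨1, 0, 1⟩, ⟨2, -1, 1⟩, ⟨3, -1, 1⟩, ⟨4, -1, 1⟩, ⟨5, -1, 1⟩, ⟨6, 0, 1⟩, ⟨7, 0, 1⟩] []) (cond (Nat.beq c 175) [⟨129, -1, 1⟩] [])) (cond (Nat.blt c 179) (cond (Nat.beq c 176) [⟨130, -1, 1⟩] []) (cond (Nat.beq c 179) [⟨149, -1, 1⟩] []))) (cond (Nat.blt c 189) (cond (Nat.blt c 186)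 (cond (Nat.beq c 183) [⟨150, -1, 1⟩] []) (cond (Nat.beq c 186) [⟨151, -1, 1⟩] [])) (cond (Nat.blt c 190) (cond (Nat.beq c 189) [⟨153, 1, 1⟩] []) (cond (Nat.beq c 190) [⟨154, 1, 1⟩] []))))) (cond (Nat.blt c 209) (cond (Nat.blt c 202) (cond (Nat.blt c 199) (cond (Nat.blt c 196) (cond (Nat.beq c 193) [⟨155, -1, 1⟩] []) (cond (Nat.beq c 196) [⟨156, -1, 1⟩] [])) (cond (Nat.blt c 200) (cond (Nat.beq c 199) [⟨158, 1, 1⟩] []) (cond (Nat.beq c 200) [⟨159, 1, 1⟩] []))) (cond (Nat.blt c 206) (cond (Nat.blt c 205) (cond (Nat.beq c 202) [⟨160, -1, 1⟩] []) (cond (Nat.beq c 205) [⟨162, 1, 1⟩] [])) (cond (Nat.blt c 208) (cond (Nat.beq c 206) [⟨163, 1, 1⟩] []) (cond (Nat.beq c 208) [⟨165, 1, 1⟩] [])))) (cond (Nat.blt c 237) (cond (Nat.blt c 234) (cond (Nat.blt c 211) (cond (Nat.beq c 209) [⟨166, 1, 1⟩] []) (cond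 (Nat.beq c 211) [⟨169, -1, 1⟩] [])) (cond (Nat.blt c 235) (cond (Nat.beq c 234) [⟨213, 1, 1⟩] []) (cond (Nat.beq c 235) [⟨214, 1, 1⟩] []))) (cond (Nat.blt c 239) (cond (Nat.blt c 238) (cond (Nat.beq c 237) [⟨217, -1, 1⟩] []) (cond (Nat.beq c 238) [⟨220, -1, 1⟩] [])) (cond (Nat.blt c 240) (cond (Nat.beq c 239) [⟨224, -1, 1⟩] []) (cond (Nat.blt c 245) (cond (Nat.beq c 240) [⟨229, -1, 1⟩] []) (cond (Nat.beq c 245) [⟨233, 1, 1⟩] [])))))))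

/-- Compiled columns of `x_74` for type E8. -/
def colsE8_74 (c : ℕ) : List CEnt :=
  cond (Nat.blt c 124) (cond (Nat.blt c 87) (cond (Nat.blt c 22) (cond (Nat.blt c 4) (cond (Nat.blt c 2) (cond (Nat.blt c 1) (cond (Nat.beq c 0) [⟨82, 1, 1⟩] []) (cond (Nat.beq c 1) [⟨82, -1, 1⟩] [])) (cond (Nat.blt c 3) (cond (Nat.beq c 2) [⟨82, 0, 1⟩] []) (cond (Nat.beq c 3) [⟨82, 0, 1⟩] []))) (cond (Nat.blt c 6) (cond (Nat.blt c 5) (cond (Nat.beq c 4) [⟨82, 1, 1⟩] []) (cond (Nat.beq c 5) [⟨82, -1, 1⟩] [])) (cond (Nat.blt c 7) (cond (Nat.beq c 6) [⟨82, 0, 1⟩] []) (cond (Nat.beq c 7) [⟨82, 0, 1⟩] [])))) (cond (Nat.blt c 38) (cond (Nat.blt c 30) (cond (Nat.blt c 25) (cond (Nat.beq c 22) [⟨11, -1, 1⟩] []) (cond (Nat.beq c 25) [⟨15, -1, 1⟩] [])) (cond (Nat.blt c 34) (cond (Nat.beq c 30) [⟨16, -1, 1⟩] []) (cond (Nat.beq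 c 34) [⟨17, -1, 1⟩] []))) (cond (Nat.blt c 40) (cond (Nat.blt c 39) (cond (Nat.beq c 38) [⟨19, 1, 1⟩] []) (cond (Nat.beq c 39) [⟨20, 1, 1⟩] [])) (cond (Nat.blt c 86) (cond (Nat.beq c 40) [⟨21, 1, 1⟩] []) (cond (Nat.beq c 86) [⟨45, 1, 1⟩] []))))) (cond (Nat.blt c 100) (cond (Nat.blt c 94) (cond (Nat.blt c 92) (cond (Nat.blt c 88) (cond (Nat.beq c 87) [⟨46, 1, 1⟩] []) (cond (Nat.beq c 88) [⟨47, 1, 1⟩] [])) (cond (Nat.blt c 93) (cond (Nat.beq c 92) [⟨51, -1, 1⟩] []) (cond (Nat.beq c 93) [⟨52, -1, 1⟩] []))) (cond (Nat.blt c 97) (cond (Nat.blt c 96) (cond (Nat.beq c 94) [⟨53, -1, 1⟩] []) (cond (Nat.beq c 96) [⟨57, -1, 1⟩] [])) (cond (Nat.blt c 98) (cond (Nat.beq c 97) [⟨58, -1, 1⟩] []) (cond (Nat.beq c 98) [⟨59, -1, 1⟩] [])))) (cond (Nat.blt c 105) (cond (Nat.blt c 102) (cond (Nat.blt c 101) (cond (Nat.beq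 c 100) [⟨63, 1, 1⟩] []) (cond (Nat.beq c 101) [⟨67, -1, 1⟩] [])) (cond (Nat.blt c 103) (cond (Nat.beq c 102) [⟨68, -1, 1⟩] []) (cond (Nat.beq c 103) [⟨69, -1, 1⟩] []))) (cond (Nat.blt c 122) (cond (Nat.blt c 106) (cond (Nat.beq c 105) [⟨73, 1, 1⟩] []) (cond (Nat.beq c 106) [⟨77, 1, 1⟩] [])) (cond (Nat.blt c 123) (cond (Nat.beq c 122) [⟨79, 1, 1⟩] []) (cond (Nat.beq c 123) [⟨80, 1, 1⟩] [])))))) (cond (Nat.blt c 192) (cond (Nat.blt c 174) (cond (Nat.blt c 170) (cond (Nat.blt c 139) (cond (Nat.blt c 134) (cond (Nat.beq c 124) [⟨81, 1, 1⟩] []) (cond (Nat.beq c 134) [⟨83, 1, 1⟩] [])) (cond (Nat.blt c 145) (cond (Nat.beq c 139) [⟨84, 1, 1⟩] []) (cond (Nat.beq c 145) [⟨85, 1, 1⟩] []))) (cond (Nat.blt c 172) (cond (Nat.blt c 171) (cond (Nat.beq c 170) [⟨110, -1, 1⟩] []) (cond (Nat.beq c 171) [⟨116, -1,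 1⟩] [])) (cond (Nat.blt c 173) (cond (Nat.beq c 172) [⟨121, -1, 1⟩] []) (cond (Nat.beq c 173) [⟨82, -1, 2⟩, ⟨0, -1, 1⟩, ⟨1, 0, 1⟩, ⟨2, -1, 1⟩, ⟨3, -1, 1⟩, ⟨4, -1, 1⟩, ⟨5, 0, 1⟩, ⟨6, 0, 1⟩, ⟨7, 0, 1⟩] [])))) (cond (Nat.blt c 182) (cond (Nat.blt c 176) (cond (Nat.blt c 175) (cond (Nat.beq c 174) [⟨131, -1, 1⟩] []) (cond (Nat.beq c 175) [⟨132, -1, 1⟩] [])) (cond (Nat.blt c 178) (cond (Nat.beq c 176) [⟨133, -1, 1⟩] []) (cond (Nat.beq c 178) [⟨149, -1, 1⟩] []))) (cond (Nat.blt c 187) (cond (Nat.blt c 186) (cond (Nat.beq c 182) [⟨150, -1, 1⟩] []) (cond (Nat.beq c 186) [⟨152, 1, 1⟩] [])) (cond (Nat.blt c 188) (cond (Nat.beq c 187) [⟨153, 1, 1⟩] []) (cond (Nat.beq c 188) [⟨154, 1, 1⟩] []))))) (cond (Nat.blt c 209) (cond (Nat.blt c 202) (cond (Nat.blt c 197) (cond (Nat.blt c 196) (cond (Nat.beq c 192) [⟨155,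 -1, 1⟩] []) (cond (Nat.beq c 196) [⟨157, 1, 1⟩] [])) (cond (Nat.blt c 198) (cond (Nat.beq c 197) [⟨158, 1, 1⟩] []) (cond (Nat.beq c 198) [⟨159, 1, 1⟩] []))) (cond (Nat.blt c 204) (cond (Nat.blt c 203) (cond (Nat.beq c 202) [⟨161, 1, 1⟩] []) (cond (Nat.beq c 203) [⟨162, 1, 1⟩] [])) (cond (Nat.blt c 208) (cond (Nat.beq c 204) [⟨163, 1, 1⟩] []) (cond (Nat.beq c 208) [⟨167, -1, 1⟩] [])))) (cond (Nat.blt c 236) (cond (Nat.blt c 234) (cond (Nat.blt c 210) (cond (Nat.beq c 209) [⟨168, -1, 1⟩] []) (cond (Nat.beq c 210) [⟨169, -1, 1⟩] [])) (cond (Nat.blt c 235) (cond (Nat.beq c 234) [⟨215, -1, 1⟩] []) (cond (Nat.beq c 235) [⟨216, -1, 1⟩] []))) (cond (Nat.blt c 239) (cond (Nat.blt c 238) (cond (Nat.beq c 236) [⟨217, -1, 1⟩] []) (cond (Nat.beq c 238) [⟨221, 1, 1⟩] [])) (cond (Nat.blt c 240) (cond (Nat.beq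 c 239) [⟨225, 1, 1⟩] []) (cond (Nat.blt c 244) (cond (Nat.beq c 240) [⟨230, 1, 1⟩] []) (cond (Nat.beq c 244) [⟨233, 1, 1⟩] [])))))))

/-- Compiled columns of `x_75` for type E8. -/
def colsE8_75 (c : ℕ) : List CEnt :=
  cond (Nat.blt c 120) (cond (Nat.blt c 87) (cond (Nat.blt c 22) (cond (Nat.blt c 4) (cond (Nat.blt c 2) (cond (Nat.blt c 1) (cond (Nat.beq c 0) [⟨83, 1, 1⟩] []) (cond (Nat.beq c 1) [⟨83, -1, 1⟩] [])) (cond (Nat.blt c 3) (cond (Nat.beq c 2) [⟨83, 0, 1⟩] []) (cond (Nat.beq c 3) [⟨83, 1, 1⟩] []))) (cond (Nat.blt c 6) (cond (Nat.blt c 5) (cond (Nat.beq c 4) [⟨83, -1, 1⟩] []) (cond (Nat.beq c 5) [⟨83, 0, 1⟩] [])) (cond (Nat.blt c 7) (cond (Nat.beq c 6) [⟨83, 0, 1⟩] []) (cond (Nat.beq c 7) [⟨83, 0, 1⟩] [])))) (cond (Nat.blt c 35) (cond (Nat.blt c 29) (cond (Nat.blt c 24) (cond (Nat.beq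 c 22) [⟨12, -1, 1⟩] []) (cond (Nat.beq c 24) [⟨15, 1, 1⟩] [])) (cond (Nat.blt c 34) (cond (Nat.beq c 29) [⟨16, 1, 1⟩] []) (cond (Nat.beq c 34) [⟨18, -1, 1⟩] []))) (cond (Nat.blt c 37) (cond (Nat.blt c 36) (cond (Nat.beq c 35) [⟨19, -1, 1⟩] []) (cond (Nat.beq c 36) [⟨20, -1, 1⟩] [])) (cond (Nat.blt c 86) (cond (Nat.beq c 37) [⟨21, -1, 1⟩] []) (cond (Nat.beq c 86) [⟨48, 1, 1⟩] []))))) (cond (Nat.blt c 99) (cond (Nat.blt c 91) (cond (Nat.blt c 89) (cond (Nat.blt c 88) (cond (Nat.beq c 87) [⟨49, 1, 1⟩] []) (cond (Nat.beq c 88) [⟨50, 1, 1⟩] [])) (cond (Nat.blt c 90) (cond (Nat.beq c 89) [⟨51, 1, 1⟩] []) (cond (Nat.beq c 90) [⟨52, 1, 1⟩] []))) (cond (Nat.blt c 97) (cond (Nat.blt c 96) (cond (Nat.beq c 91) [⟨53, 1, 1⟩] []) (cond (Nat.beq c 96) [⟨60, -1, 1⟩] [])) (cond (Nat.blt c 98) (cond (Nat.beq c 97)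 [⟨61, -1, 1⟩] []) (cond (Nat.beq c 98) [⟨62, -1, 1⟩] [])))) (cond (Nat.blt c 104) (cond (Nat.blt c 102) (cond (Nat.blt c 101) (cond (Nat.beq c 99) [⟨63, -1, 1⟩] []) (cond (Nat.beq c 101) [⟨70, -1, 1⟩] [])) (cond (Nat.blt c 103) (cond (Nat.beq c 102) [⟨71, -1, 1⟩] []) (cond (Nat.beq c 103) [⟨72, -1, 1⟩] []))) (cond (Nat.blt c 118) (cond (Nat.blt c 106) (cond (Nat.beq c 104) [⟨73, -1, 1⟩] []) (cond (Nat.beq c 106) [⟨78, 1, 1⟩] [])) (cond (Nat.blt c 119) (cond (Nat.beq c 118) [⟨79, 1, 1⟩] []) (cond (Nat.beq c 119) [⟨80, 1, 1⟩] [])))))) (cond (Nat.blt c 192) (cond (Nat.blt c 174) (cond (Nat.blt c 170) (cond (Nat.blt c 138) (cond (Nat.blt c 121) (cond (Nat.beq c 120) [⟨81, 1, 1⟩] []) (cond (Nat.beq c 121) [⟨82, 1, 1⟩] [])) (cond (Nat.blt c 144) (cond (Nat.beq c 138) [⟨84, 1, 1⟩] []) (cond (Nat.beq c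 144) [⟨85, 1, 1⟩] []))) (cond (Nat.blt c 172) (cond (Nat.blt c 171) (cond (Nat.beq c 170) [⟨111, -1, 1⟩] []) (cond (Nat.beq c 171) [⟨117, -1, 1⟩] [])) (cond (Nat.blt c 173) (cond (Nat.beq c 172) [⟨83, -1, 2⟩, ⟨0, -1, 1⟩, ⟨1, 0, 1⟩, ⟨2, -1, 1⟩, ⟨3, -1, 1⟩, ⟨4, 0, 1⟩, ⟨5, 0, 1⟩, ⟨6, 0, 1⟩, ⟨7, 0, 1⟩] []) (cond (Nat.beq c 173) [⟨134, -1, 1⟩] [])))) (cond (Nat.blt c 182) (cond (Nat.blt c 176) (cond (Nat.blt c 175) (cond (Nat.beq c 174) [⟨135, -1, 1⟩] []) (cond (Nat.beq c 175) [⟨136, -1, 1⟩] [])) (cond (Nat.blt c 177) (cond (Nat.beq c 176) [⟨137, -1, 1⟩] []) (cond (Nat.beq c 177) [⟨149, -1, 1⟩] []))) (cond (Nat.blt c 184) (cond (Nat.blt c 183) (cond (Nat.beq c 182) [⟨151, 1, 1⟩] []) (cond (Nat.beq c 183) [⟨152, 1, 1⟩] [])) (cond (Nat.blt c 185) (cond (Nat.beq c 184) [⟨153, 1, 1⟩] []) (cond (Nat.beq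 c 185) [⟨154, 1, 1⟩] []))))) (cond (Nat.blt c 206) (cond (Nat.blt c 202) (cond (Nat.blt c 194) (cond (Nat.blt c 193) (cond (Nat.beq c 192) [⟨156, 1, 1⟩] []) (cond (Nat.beq c 193) [⟨157, 1, 1⟩] [])) (cond (Nat.blt c 195) (cond (Nat.beq c 194) [⟨158, 1, 1⟩] []) (cond (Nat.beq c 195) [⟨159, 1, 1⟩] []))) (cond (Nat.blt c 204) (cond (Nat.blt c 203) (cond (Nat.beq c 202) [⟨164, -1, 1⟩] []) (cond (Nat.beq c 203) [⟨165, -1, 1⟩] [])) (cond (Nat.blt c 205) (cond (Nat.beq c 204) [⟨166, -1, 1⟩] []) (cond (Nat.beq c 205) [⟨167, -1, 1⟩] [])))) (cond (Nat.blt c 236) (cond (Nat.blt c 234) (cond (Nat.blt c 207) (cond (Nat.beq c 206) [⟨168, -1, 1⟩] []) (cond (Nat.beq c 207) [⟨169, -1, 1⟩] [])) (cond (Nat.blt c 235) (cond (Nat.beq c 234) [⟨218, 1, 1⟩] []) (cond (Nat.beq c 235) [⟨219, 1, 1⟩] []))) (cond (Nat.blt c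 239) (cond (Nat.blt c 237) (cond (Nat.beq c 236) [⟨220, 1, 1⟩] []) (cond (Nat.beq c 237) [⟨221, 1, 1⟩] [])) (cond (Nat.blt c 240) (cond (Nat.beq c 239) [⟨226, -1, 1⟩] []) (cond (Nat.blt c 243) (cond (Nat.beq c 240) [⟨231, -1, 1⟩] []) (cond (Nat.beq c 243) [⟨233, 1, 1⟩] [])))))))

/-- Compiled columns of `x_76` for type E8. -/
def colsE8_76 (c : ℕ) : List CEnt :=
  cond (Nat.blt c 115) (cond (Nat.blt c 87) (cond (Nat.blt c 22) (cond (Nat.blt c 4) (cond (Nat.blt c 2) (cond (Nat.blt c 1) (cond (Nat.beq c 0) [⟨84, 1, 1⟩] []) (cond (Nat.beq c 1) [⟨84, 0, 1⟩] [])) (cond (Nat.blt c 3) (cond (Nat.beq c 2) [⟨84, 1, 1⟩] []) (cond (Nat.beq c 3) [⟨84, -1, 1⟩] []))) (cond (Nat.blt c 6) (cond (Nat.blt c 5) (cond (Nat.beq c 4) [⟨84, 0, 1⟩] []) (cond (Nat.beq c 5) [⟨84, 0, 1⟩] [])) (cond (Nat.blt c 7) (cond (Nat.beq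 c 6) [⟨84, 0, 1⟩] []) (cond (Nat.beq c 7) [⟨84, 0, 1⟩] [])))) (cond (Nat.blt c 31) (cond (Nat.blt c 29) (cond (Nat.blt c 23) (cond (Nat.beq c 22) [⟨13, -1, 1⟩] []) (cond (Nat.beq c 23) [⟨15, -1, 1⟩] [])) (cond (Nat.blt c 30) (cond (Nat.beq c 29) [⟨17, 1, 1⟩] []) (cond (Nat.beq c 30) [⟨18, 1, 1⟩] []))) (cond (Nat.blt c 33) (cond (Nat.blt c 32) (cond (Nat.beq c 31) [⟨19, 1, 1⟩] []) (cond (Nat.beq c 32) [⟨20, 1, 1⟩] [])) (cond (Nat.blt c 86) (cond (Nat.beq c 33) [⟨21, 1, 1⟩] []) (cond (Nat.beq c 86) [⟨54, 1, 1⟩] []))))) (cond (Nat.blt c 95) (cond (Nat.blt c 91) (cond (Nat.blt c 89) (cond (Nat.blt c 88) (cond (Nat.beq c 87) [⟨55, 1, 1⟩] []) (cond (Nat.beq c 88) [⟨56, 1, 1⟩] [])) (cond (Nat.blt c 90) (cond (Nat.beq c 89) [⟨57, 1, 1⟩] []) (cond (Nat.beq c 90) [⟨58, 1, 1⟩] []))) (cond (Nat.blt c 93) (cond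 (Nat.blt c 92) (cond (Nat.beq c 91) [⟨59, 1, 1⟩] []) (cond (Nat.beq c 92) [⟨60, 1, 1⟩] [])) (cond (Nat.blt c 94) (cond (Nat.beq c 93) [⟨61, 1, 1⟩] []) (cond (Nat.beq c 94) [⟨62, 1, 1⟩] [])))) (cond (Nat.blt c 104) (cond (Nat.blt c 102) (cond (Nat.blt c 101) (cond (Nat.beq c 95) [⟨63, 1, 1⟩] []) (cond (Nat.beq c 101) [⟨74, -1, 1⟩] [])) (cond (Nat.blt c 103) (cond (Nat.beq c 102) [⟨75, -1, 1⟩] []) (cond (Nat.beq c 103) [⟨76, -1, 1⟩] []))) (cond (Nat.blt c 113) (cond (Nat.blt c 105) (cond (Nat.beq c 104) [⟨77, -1, 1⟩] []) (cond (Nat.beq c 105) [⟨78, -1, 1⟩] [])) (cond (Nat.blt c 114) (cond (Nat.beq c 113) [⟨79, 1, 1⟩] []) (cond (Nat.beq c 114) [⟨80, 1, 1⟩] [])))))) (cond (Nat.blt c 192) (cond (Nat.blt c 174) (cond (Nat.blt c 170) (cond (Nat.blt c 117) (cond (Nat.blt c 116) (cond (Nat.beq c 115) [⟨81,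 1, 1⟩] []) (cond (Nat.beq c 116) [⟨82, 1, 1⟩] [])) (cond (Nat.blt c 143) (cond (Nat.beq c 117) [⟨83, 1, 1⟩] []) (cond (Nat.beq c 143) [⟨85, 1, 1⟩] []))) (cond (Nat.blt c 172) (cond (Nat.blt c 171) (cond (Nat.beq c 170) [⟨112, -1, 1⟩] []) (cond (Nat.beq c 171) [⟨84, -1, 2⟩, ⟨0, -1, 1⟩, ⟨1, 0, 1⟩, ⟨2, -1, 1⟩, ⟨3, 0, 1⟩, ⟨4, 0, 1⟩, ⟨5, 0, 1⟩, ⟨6, 0, 1⟩, ⟨7, 0, 1⟩] [])) (cond (Nat.blt c 173) (cond (Nat.beq c 172) [⟨138, -1, 1⟩] []) (cond (Nat.beq c 173) [⟨139, -1, 1⟩] [])))) (cond (Nat.blt c 178) (cond (Nat.blt c 176) (cond (Nat.blt c 175) (cond (Nat.beq c 174) [⟨140, -1, 1⟩] []) (cond (Nat.beq c 175) [⟨141, -1, 1⟩] [])) (cond (Nat.blt c 177) (cond (Nat.beq c 176) [⟨142, -1, 1⟩] []) (cond (Nat.beq c 177) [⟨150, 1, 1⟩] []))) (cond (Nat.blt c 180) (cond (Nat.blt c 179) (cond (Nat.beq c 178) [⟨151, 1,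 1⟩] []) (cond (Nat.beq c 179) [⟨152, 1, 1⟩] [])) (cond (Nat.blt c 181) (cond (Nat.beq c 180) [⟨153, 1, 1⟩] []) (cond (Nat.beq c 181) [⟨154, 1, 1⟩] []))))) (cond (Nat.blt c 200) (cond (Nat.blt c 196) (cond (Nat.blt c 194) (cond (Nat.blt c 193) (cond (Nat.beq c 192) [⟨160, -1, 1⟩] []) (cond (Nat.beq c 193) [⟨161, -1, 1⟩] [])) (cond (Nat.blt c 195) (cond (Nat.beq c 194) [⟨162, -1, 1⟩] []) (cond (Nat.beq c 195) [⟨163, -1, 1⟩] []))) (cond (Nat.blt c 198) (cond (Nat.blt c 197) (cond (Nat.beq c 196) [⟨164, -1, 1⟩] []) (cond (Nat.beq c 197) [⟨165, -1, 1⟩] [])) (cond (Nat.blt c 199) (cond (Nat.beq c 198) [⟨166, -1, 1⟩] []) (cond (Nat.beq c 199) [⟨167, -1, 1⟩] [])))) (cond (Nat.blt c 236) (cond (Nat.blt c 234) (cond (Nat.blt c 201) (cond (Nat.beq c 200) [⟨168, -1, 1⟩] []) (cond (Nat.beq c 201) [⟨169, -1,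 1⟩] [])) (cond (Nat.blt c 235) (cond (Nat.beq c 234) [⟨222, -1, 1⟩] []) (cond (Nat.beq c 235) [⟨223, -1, 1⟩] []))) (cond (Nat.blt c 238) (cond (Nat.blt c 237) (cond (Nat.beq c 236) [⟨224, -1, 1⟩] []) (cond (Nat.beq c 237) [⟨225, -1, 1⟩] [])) (cond (Nat.blt c 240) (cond (Nat.beq c 238) [⟨226, -1, 1⟩] []) (cond (Nat.blt c 242) (cond (Nat.beq c 240) [⟨232, 1, 1⟩] []) (cond (Nat.beq c 242) [⟨233, 1, 1⟩] [])))))))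

/-- Compiled columns of `x_77` for type E8. -/
def colsE8_77 (c : ℕ) : List CEnt :=
  cond (Nat.blt c 109) (cond (Nat.blt c 87) (cond (Nat.blt c 22) (cond (Nat.blt c 4) (cond (Nat.blt c 2) (cond (Nat.blt c 1) (cond (Nat.beq c 0) [⟨85, 2, 1⟩] []) (cond (Nat.beq c 1) [⟨85, 0, 1⟩] [])) (cond (Nat.blt c 3) (cond (Nat.beq c 2) [⟨85, -1, 1⟩] []) (cond (Nat.beq c 3) [⟨85, 0, 1⟩] []))) (cond (Nat.blt c 6) (cond (Nat.blt c 5) (cond (Nat.beq c 4) [⟨85, 0, 1⟩] []) (cond (Nat.beq c 5) [⟨85, 0, 1⟩] [])) (cond (Nat.blt c 7) (cond (Nat.beq c 6) [⟨85, 0, 1⟩] []) (cond (Nat.beq c 7) [⟨85, 0, 1⟩] [])))) (cond (Nat.blt c 26) (cond (Nat.blt c 24) (cond (Nat.blt c 23) (cond (Nat.beq c 22) [⟨14, -1, 1⟩] []) (cond (Nat.beq c 23) [⟨16, -1, 1⟩] [])) (cond (Nat.blt c 25) (cond (Nat.beq c 24) [⟨17, -1, 1⟩] []) (cond (Nat.beq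 c 25) [⟨18, -1, 1⟩] []))) (cond (Nat.blt c 28) (cond (Nat.blt c 27) (cond (Nat.beq c 26) [⟨19, -1, 1⟩] []) (cond (Nat.beq c 27) [⟨20, -1, 1⟩] [])) (cond (Nat.blt c 86) (cond (Nat.beq c 28) [⟨21, -1, 1⟩] []) (cond (Nat.beq c 86) [⟨64, 1, 1⟩] []))))) (cond (Nat.blt c 95) (cond (Nat.blt c 91) (cond (Nat.blt c 89) (cond (Nat.blt c 88) (cond (Nat.beq c 87) [⟨65, 1, 1⟩] []) (cond (Nat.beq c 88) [⟨66, 1, 1⟩] [])) (cond (Nat.blt c 90) (cond (Nat.beq c 89) [⟨67, 1, 1⟩] []) (cond (Nat.beq c 90) [⟨68, 1, 1⟩] []))) (cond (Nat.blt c 93) (cond (Nat.blt c 92) (cond (Nat.beq c 91) [⟨69, 1, 1⟩] []) (cond (Nat.beq c 92) [⟨70, 1, 1⟩] [])) (cond (Nat.blt c 94) (cond (Nat.beq c 93) [⟨71, 1, 1⟩] []) (cond (Nat.beq c 94) [⟨72, 1, 1⟩] [])))) (cond (Nat.blt c 99) (cond (Nat.blt c 97) (cond (Nat.blt c 96) (cond (Nat.beq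 c 95) [⟨73, 1, 1⟩] []) (cond (Nat.beq c 96) [⟨74, 1, 1⟩] [])) (cond (Nat.blt c 98) (cond (Nat.beq c 97) [⟨75, 1, 1⟩] []) (cond (Nat.beq c 98) [⟨76, 1, 1⟩] []))) (cond (Nat.blt c 107) (cond (Nat.blt c 100) (cond (Nat.beq c 99) [⟨77, 1, 1⟩] []) (cond (Nat.beq c 100) [⟨78, 1, 1⟩] [])) (cond (Nat.blt c 108) (cond (Nat.beq c 107) [⟨79, 1, 1⟩] []) (cond (Nat.beq c 108) [⟨80, 1, 1⟩] [])))))) (cond (Nat.blt c 182) (cond (Nat.blt c 174) (cond (Nat.blt c 170) (cond (Nat.blt c 111) (cond (Nat.blt c 110) (cond (Nat.beq c 109) [⟨81, 1, 1⟩] []) (cond (Nat.beq c 110) [⟨82, 1, 1⟩] [])) (cond (Nat.blt c 112) (cond (Nat.beq c 111) [⟨83, 1, 1⟩] []) (cond (Nat.beq c 112) [⟨84, 1, 1⟩] []))) (cond (Nat.blt c 172) (cond (Nat.blt c 171) (cond (Nat.beq c 170) [⟨85, -1, 2⟩, ⟨0, -1, 1⟩, ⟨1, 0, 1⟩, ⟨2, 0, 1⟩, ⟨3, 0, 1⟩, ⟨4,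 0, 1⟩, ⟨5, 0, 1⟩, ⟨6, 0, 1⟩, ⟨7, 0, 1⟩] []) (cond (Nat.beq c 171) [⟨143, -1, 1⟩] [])) (cond (Nat.blt c 173) (cond (Nat.beq c 172) [⟨144, -1, 1⟩] []) (cond (Nat.beq c 173) [⟨145, -1, 1⟩] [])))) (cond (Nat.blt c 178) (cond (Nat.blt c 176) (cond (Nat.blt c 175) (cond (Nat.beq c 174) [⟨146, -1, 1⟩] []) (cond (Nat.beq c 175) [⟨147, -1, 1⟩] [])) (cond (Nat.blt c 177) (cond (Nat.beq c 176) [⟨148, -1, 1⟩] []) (cond (Nat.beq c 177) [⟨155, -1, 1⟩] []))) (cond (Nat.blt c 180) (cond (Nat.blt c 179) (cond (Nat.beq c 178) [⟨156, -1, 1⟩] []) (cond (Nat.beq c 179) [⟨157, -1, 1⟩] [])) (cond (Nat.blt c 181) (cond (Nat.beq c 180) [⟨158, -1, 1⟩] []) (cond (Nat.beq c 181) [⟨159, -1, 1⟩] []))))) (cond (Nat.blt c 190) (cond (Nat.blt c 186) (cond (Nat.blt c 184) (cond (Nat.blt c 183) (cond (Nat.beq c 182) [⟨160, -1, 1⟩]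 []) (cond (Nat.beq c 183) [⟨161, -1, 1⟩] [])) (cond (Nat.blt c 185) (cond (Nat.beq c 184) [⟨162, -1, 1⟩] []) (cond (Nat.beq c 185) [⟨163, -1, 1⟩] []))) (cond (Nat.blt c 188) (cond (Nat.blt c 187) (cond (Nat.beq c 186) [⟨164, -1, 1⟩] []) (cond (Nat.beq c 187) [⟨165, -1, 1⟩] [])) (cond (Nat.blt c 189) (cond (Nat.beq c 188) [⟨166, -1, 1⟩] []) (cond (Nat.beq c 189) [⟨167, -1, 1⟩] [])))) (cond (Nat.blt c 236) (cond (Nat.blt c 234) (cond (Nat.blt c 191) (cond (Nat.beq c 190) [⟨168, -1, 1⟩] []) (cond (Nat.beq c 191) [⟨169, -1, 1⟩] [])) (cond (Nat.blt c 235) (cond (Nat.beq c 234) [⟨227, 1, 1⟩] []) (cond (Nat.beq c 235) [⟨228, 1, 1⟩] []))) (cond (Nat.blt c 238) (cond (Nat.blt c 237) (cond (Nat.beq c 236) [⟨229, 1, 1⟩] []) (cond (Nat.beq c 237) [⟨230, 1, 1⟩] [])) (cond (Nat.blt c 239) (cond (Nat.beq c 238)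 [⟨231, 1, 1⟩] []) (cond (Nat.blt c 241) (cond (Nat.beq c 239) [⟨232, 1, 1⟩] []) (cond (Nat.beq c 241) [⟨233, 1, 1⟩] [])))))))

/-- Compiled columns of `x_78` for type E8. -/
def colsE8_78 (c : ℕ) : List CEnt :=
  cond (Nat.blt c 141) (cond (Nat.blt c 72) (cond (Nat.blt c 20) (cond (Nat.blt c 4) (cond (Nat.blt c 2) (cond (Nat.blt c 1) (cond (Nat.beq c 0) [⟨86, -1, 1⟩] []) (cond (Nat.beq c 1) [⟨86, 0, 1⟩] [])) (cond (Nat.blt c 3) (cond (Nat.beq c 2) [⟨86, 0, 1⟩] []) (cond (Nat.beq c 3) [⟨86, 0, 1⟩] []))) (cond (Nat.blt c 6) (cond (Nat.blt c 5) (cond (Nat.beq c 4) [⟨86, 0, 1⟩] []) (cond (Nat.beq c 5) [⟨86, 0, 1⟩] [])) (cond (Nat.blt c 7) (cond (Nat.beq c 6) [⟨86, 1, 1⟩] []) (cond (Nat.beq c 7) [⟨86, 0, 1⟩] [])))) (cond (Nat.blt c 59) (cond (Nat.blt c 43) (cond (Nat.blt c 21) (cond (Nat.beq c 20) [⟨8,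 1, 1⟩] []) (cond (Nat.beq c 21) [⟨9, 1, 1⟩] [])) (cond (Nat.blt c 53) (cond (Nat.beq c 43) [⟨22, -1, 1⟩] []) (cond (Nat.beq c 53) [⟨23, -1, 1⟩] []))) (cond (Nat.blt c 63) (cond (Nat.blt c 62) (cond (Nat.beq c 59) [⟨24, -1, 1⟩] []) (cond (Nat.beq c 62) [⟨25, -1, 1⟩] [])) (cond (Nat.blt c 69) (cond (Nat.beq c 63) [⟨26, -1, 1⟩] []) (cond (Nat.beq c 69) [⟨29, -1, 1⟩] []))))) (cond (Nat.blt c 84) (cond (Nat.blt c 78) (cond (Nat.blt c 76) (cond (Nat.blt c 73) (cond (Nat.beq c 72) [⟨30, -1, 1⟩] []) (cond (Nat.beq c 73) [⟨31, -1, 1⟩] [])) (cond (Nat.blt c 77) (cond (Nat.beq c 76) [⟨34, -1, 1⟩] []) (cond (Nat.beq c 77) [⟨35, -1, 1⟩] []))) (cond (Nat.blt c 82) (cond (Nat.blt c 81) (cond (Nat.beq c 78) [⟨38, -1, 1⟩] []) (cond (Nat.beq c 81) [⟨44, -1, 1⟩] [])) (cond (Nat.blt c 83) (cond (Nat.beq c 82) [⟨45,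 -1, 1⟩] []) (cond (Nat.beq c 83) [⟨48, -1, 1⟩] [])))) (cond (Nat.blt c 132) (cond (Nat.blt c 129) (cond (Nat.blt c 85) (cond (Nat.beq c 84) [⟨54, -1, 1⟩] []) (cond (Nat.beq c 85) [⟨64, -1, 1⟩] [])) (cond (Nat.blt c 130) (cond (Nat.beq c 129) [⟨87, 1, 1⟩] []) (cond (Nat.beq c 130) [⟨88, -1, 1⟩] []))) (cond (Nat.blt c 136) (cond (Nat.blt c 133) (cond (Nat.beq c 132) [⟨89, 1, 1⟩] []) (cond (Nat.beq c 133) [⟨90, -1, 1⟩] [])) (cond (Nat.blt c 137) (cond (Nat.beq c 136) [⟨92, 1, 1⟩] []) (cond (Nat.beq c 137) [⟨93, -1, 1⟩] [])))))) (cond (Nat.blt c 201) (cond (Nat.blt c 162) (cond (Nat.blt c 153) (cond (Nat.blt c 147) (cond (Nat.blt c 142) (cond (Nat.beq c 141) [⟨96, 1, 1⟩] []) (cond (Nat.beq c 142) [⟨97, -1, 1⟩] [])) (cond (Nat.blt c 148) (cond (Nat.beq c 147) [⟨101, 1, 1⟩] []) (cond (Nat.beq c 148)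 [⟨102, -1, 1⟩] []))) (cond (Nat.blt c 158) (cond (Nat.blt c 154) (cond (Nat.beq c 153) [⟨107, 1, 1⟩] []) (cond (Nat.beq c 154) [⟨108, -1, 1⟩] [])) (cond (Nat.blt c 159) (cond (Nat.beq c 158) [⟨113, 1, 1⟩] []) (cond (Nat.beq c 159) [⟨114, -1, 1⟩] [])))) (cond (Nat.blt c 167) (cond (Nat.blt c 165) (cond (Nat.blt c 163) (cond (Nat.beq c 162) [⟨118, 1, 1⟩] []) (cond (Nat.beq c 163) [⟨119, -1, 1⟩] [])) (cond (Nat.blt c 166) (cond (Nat.beq c 165) [⟨122, 1, 1⟩] []) (cond (Nat.beq c 166) [⟨123, -1, 1⟩] []))) (cond (Nat.blt c 169) (cond (Nat.blt c 168) (cond (Nat.beq c 167) [⟨125, 1, 1⟩] []) (cond (Nat.beq c 168) [⟨126, -1, 1⟩] [])) (cond (Nat.blt c 191) (cond (Nat.beq c 169) [⟨86, -1, 2⟩, ⟨0, 0, 1⟩, ⟨1, -1, 1⟩, ⟨2, -1, 1⟩, ⟨3, -2, 1⟩, ⟨4, -2, 1⟩, ⟨5, -2, 1⟩, ⟨6, -2, 1⟩, ⟨7, -1, 1⟩] []) (cond (Nat.beq c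 191) [⟨170, 1, 1⟩] []))))) (cond (Nat.blt c 225) (cond (Nat.blt c 217) (cond (Nat.blt c 210) (cond (Nat.blt c 207) (cond (Nat.beq c 201) [⟨171, 1, 1⟩] []) (cond (Nat.beq c 207) [⟨172, 1, 1⟩] [])) (cond (Nat.blt c 211) (cond (Nat.beq c 210) [⟨173, 1, 1⟩] []) (cond (Nat.beq c 211) [⟨174, 1, 1⟩] []))) (cond (Nat.blt c 221) (cond (Nat.blt c 220) (cond (Nat.beq c 217) [⟨177, 1, 1⟩] []) (cond (Nat.beq c 220) [⟨178, 1, 1⟩] [])) (cond (Nat.blt c 224) (cond (Nat.beq c 221) [⟨179, 1, 1⟩] []) (cond (Nat.beq c 224) [⟨182, 1, 1⟩] [])))) (cond (Nat.blt c 231) (cond (Nat.blt c 229) (cond (Nat.blt c 226) (cond (Nat.beq c 225) [⟨183, 1, 1⟩] []) (cond (Nat.beq c 226) [⟨186, 1, 1⟩] [])) (cond (Nat.blt c 230) (cond (Nat.beq c 229) [⟨192, 1, 1⟩] []) (cond (Nat.beq c 230) [⟨193, 1, 1⟩] []))) (cond (Nat.blt c 233) (cond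 (Nat.blt c 232) (cond (Nat.beq c 231) [⟨196, 1, 1⟩] []) (cond (Nat.beq c 232) [⟨202, 1, 1⟩] [])) (cond (Nat.blt c 246) (cond (Nat.beq c 233) [⟨212, 1, 1⟩] []) (cond (Nat.blt c 247) (cond (Nat.beq c 246) [⟨234, -1, 1⟩] []) (cond (Nat.beq c 247) [⟨235, -1, 1⟩] [])))))))

/-- Compiled columns of `x_79` for type E8. -/
def colsE8_79 (c : ℕ) : List CEnt :=
  cond (Nat.blt c 140) (cond (Nat.blt c 71) (cond (Nat.blt c 19) (cond (Nat.blt c 4) (cond (Nat.blt c 2) (cond (Nat.blt c 1) (cond (Nat.beq c 0) [⟨87, -1, 1⟩] []) (cond (Nat.beq c 1) [⟨87, 0, 1⟩] [])) (cond (Nat.blt c 3) (cond (Nat.beq c 2) [⟨87, 0, 1⟩] []) (cond (Nat.beq c 3) [⟨87, 0, 1⟩] []))) (cond (Nat.blt c 6) (cond (Nat.blt c 5) (cond (Nat.beq c 4) [⟨87, 0, 1⟩] []) (cond (Nat.beq c 5) [⟨87, 1, 1⟩] [])) (cond (Nat.blt c 7) (cond (Nat.beq c 6)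 [⟨87, -1, 1⟩] []) (cond (Nat.beq c 7) [⟨87, 1, 1⟩] [])))) (cond (Nat.blt c 58) (cond (Nat.blt c 42) (cond (Nat.blt c 21) (cond (Nat.beq c 19) [⟨8, -1, 1⟩] []) (cond (Nat.beq c 21) [⟨10, 1, 1⟩] [])) (cond (Nat.blt c 52) (cond (Nat.beq c 42) [⟨22, 1, 1⟩] []) (cond (Nat.beq c 52) [⟨23, 1, 1⟩] []))) (cond (Nat.blt c 63) (cond (Nat.blt c 61) (cond (Nat.beq c 58) [⟨24, 1, 1⟩] []) (cond (Nat.beq c 61) [⟨25, 1, 1⟩] [])) (cond (Nat.blt c 68) (cond (Nat.beq c 63) [⟨27, -1, 1⟩] []) (cond (Nat.beq c 68) [⟨29, 1, 1⟩] []))))) (cond (Nat.blt c 84) (cond (Nat.blt c 78) (cond (Nat.blt c 75) (cond (Nat.blt c 73) (cond (Nat.beq c 71) [⟨30, 1, 1⟩] []) (cond (Nat.beq c 73) [⟨32, -1, 1⟩] [])) (cond (Nat.blt c 77) (cond (Nat.beq c 75) [⟨34, 1, 1⟩] []) (cond (Nat.beq c 77) [⟨36, -1, 1⟩] []))) (cond (Nat.blt c 82) (cond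 (Nat.blt c 80) (cond (Nat.beq c 78) [⟨39, -1, 1⟩] []) (cond (Nat.beq c 80) [⟨44, 1, 1⟩] [])) (cond (Nat.blt c 83) (cond (Nat.beq c 82) [⟨46, -1, 1⟩] []) (cond (Nat.beq c 83) [⟨49, -1, 1⟩] [])))) (cond (Nat.blt c 131) (cond (Nat.blt c 126) (cond (Nat.blt c 85) (cond (Nat.beq c 84) [⟨55, -1, 1⟩] []) (cond (Nat.beq c 85) [⟨65, -1, 1⟩] [])) (cond (Nat.blt c 128) (cond (Nat.beq c 126) [⟨86, 1, 1⟩] []) (cond (Nat.beq c 128) [⟨88, 1, 1⟩] []))) (cond (Nat.blt c 135) (cond (Nat.blt c 133) (cond (Nat.beq c 131) [⟨89, 1, 1⟩] []) (cond (Nat.beq c 133) [⟨91, -1, 1⟩] [])) (cond (Nat.blt c 137) (cond (Nat.beq c 135) [⟨92, 1, 1⟩] []) (cond (Nat.beq c 137) [⟨94, -1, 1⟩] [])))))) (cond (Nat.blt c 200) (cond (Nat.blt c 161) (cond (Nat.blt c 152) (cond (Nat.blt c 146) (cond (Nat.blt c 142) (cond (Nat.beq c 140) [⟨96,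 1, 1⟩] []) (cond (Nat.beq c 142) [⟨98, -1, 1⟩] [])) (cond (Nat.blt c 148) (cond (Nat.beq c 146) [⟨101, 1, 1⟩] []) (cond (Nat.beq c 148) [⟨103, -1, 1⟩] []))) (cond (Nat.blt c 157) (cond (Nat.blt c 154) (cond (Nat.beq c 152) [⟨107, 1, 1⟩] []) (cond (Nat.beq c 154) [⟨109, -1, 1⟩] [])) (cond (Nat.blt c 159) (cond (Nat.beq c 157) [⟨113, 1, 1⟩] []) (cond (Nat.beq c 159) [⟨115, -1, 1⟩] [])))) (cond (Nat.blt c 167) (cond (Nat.blt c 164) (cond (Nat.blt c 163) (cond (Nat.beq c 161) [⟨118, 1, 1⟩] []) (cond (Nat.beq c 163) [⟨120, -1, 1⟩] [])) (cond (Nat.blt c 166) (cond (Nat.beq c 164) [⟨122, 1, 1⟩] []) (cond (Nat.beq c 166) [⟨124, -1, 1⟩] []))) (cond (Nat.blt c 169) (cond (Nat.blt c 168) (cond (Nat.beq c 167) [⟨127, -1, 1⟩] []) (cond (Nat.beq c 168) [⟨87, -1, 2⟩, ⟨0, 0, 1⟩, ⟨1, -1, 1⟩, ⟨2, -1, 1⟩, ⟨3, -2,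 1⟩, ⟨4, -2, 1⟩, ⟨5, -2, 1⟩, ⟨6, -1, 1⟩, ⟨7, -1, 1⟩] [])) (cond (Nat.blt c 190) (cond (Nat.beq c 169) [⟨129, -1, 1⟩] []) (cond (Nat.beq c 190) [⟨170, 1, 1⟩] []))))) (cond (Nat.blt c 225) (cond (Nat.blt c 216) (cond (Nat.blt c 209) (cond (Nat.blt c 206) (cond (Nat.beq c 200) [⟨171, 1, 1⟩] []) (cond (Nat.beq c 206) [⟨172, 1, 1⟩] [])) (cond (Nat.blt c 211) (cond (Nat.beq c 209) [⟨173, 1, 1⟩] []) (cond (Nat.beq c 211) [⟨175, -1, 1⟩] []))) (cond (Nat.blt c 221) (cond (Nat.blt c 219) (cond (Nat.beq c 216) [⟨177, 1, 1⟩] []) (cond (Nat.beq c 219) [⟨178, 1, 1⟩] [])) (cond (Nat.blt c 223) (cond (Nat.beq c 221) [⟨180, -1, 1⟩] []) (cond (Nat.beq c 223) [⟨182, 1, 1⟩] [])))) (cond (Nat.blt c 231) (cond (Nat.blt c 228) (cond (Nat.blt c 226) (cond (Nat.beq c 225) [⟨184, -1, 1⟩] []) (cond (Nat.beq c 226) [⟨187,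 -1, 1⟩] [])) (cond (Nat.blt c 230) (cond (Nat.beq c 228) [⟨192, 1, 1⟩] []) (cond (Nat.beq c 230) [⟨194, -1, 1⟩] []))) (cond (Nat.blt c 233) (cond (Nat.blt c 232) (cond (Nat.beq c 231) [⟨197, -1, 1⟩] []) (cond (Nat.beq c 232) [⟨203, -1, 1⟩] [])) (cond (Nat.blt c 245) (cond (Nat.beq c 233) [⟨213, -1, 1⟩] []) (cond (Nat.blt c 247) (cond (Nat.beq c 245) [⟨234, -1, 1⟩] []) (cond (Nat.beq c 247) [⟨236, 1, 1⟩] [])))))))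

/-- Compiled columns of `x_80` for type E8. -/
def colsE8_80 (c : ℕ) : List CEnt :=
  cond (Nat.blt c 140) (cond (Nat.blt c 70) (cond (Nat.blt c 19) (cond (Nat.blt c 4) (cond (Nat.blt c 2) (cond (Nat.blt c 1) (cond (Nat.beq c 0) [⟨88, -1, 1⟩] []) (cond (Nat.beq c 1) [⟨88, 0, 1⟩] [])) (cond (Nat.blt c 3) (cond (Nat.beq c 2) [⟨88, 0, 1⟩] []) (cond (Nat.beq c 3) [⟨88, 0, 1⟩] []))) (cond (Nat.blt c 6) (cond (Nat.blt c 5) (cond (Nat.beq c 4) [⟨88, 0, 1⟩] []) (cond (Nat.beq c 5) [⟨88, 1, 1⟩] [])) (cond (Nat.blt c 7) (cond (Nat.beq c 6) [⟨88, 0, 1⟩] []) (cond (Nat.beq c 7) [⟨88, -1, 1⟩] [])))) (cond (Nat.blt c 57) (cond (Nat.blt c 41) (cond (Nat.blt c 20) (cond (Nat.beq c 19) [⟨9, -1, 1⟩] []) (cond (Nat.beq c 20) [⟨10, -1, 1⟩] [])) (cond (Nat.blt c 51) (cond (Nat.beq c 41) [⟨22, -1, 1⟩] []) (cond (Nat.beq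 c 51) [⟨23, -1, 1⟩] []))) (cond (Nat.blt c 63) (cond (Nat.blt c 60) (cond (Nat.beq c 57) [⟨24, -1, 1⟩] []) (cond (Nat.beq c 60) [⟨25, -1, 1⟩] [])) (cond (Nat.blt c 67) (cond (Nat.beq c 63) [⟨28, -1, 1⟩] []) (cond (Nat.beq c 67) [⟨29, -1, 1⟩] []))))) (cond (Nat.blt c 84) (cond (Nat.blt c 78) (cond (Nat.blt c 74) (cond (Nat.blt c 73) (cond (Nat.beq c 70) [⟨30, -1, 1⟩] []) (cond (Nat.beq c 73) [⟨33, -1, 1⟩] [])) (cond (Nat.blt c 77) (cond (Nat.beq c 74) [⟨34, -1, 1⟩] []) (cond (Nat.beq c 77) [⟨37, -1, 1⟩] []))) (cond (Nat.blt c 82) (cond (Nat.blt c 79) (cond (Nat.beq c 78) [⟨40, -1, 1⟩] []) (cond (Nat.beq c 79) [⟨44, -1, 1⟩] [])) (cond (Nat.blt c 83) (cond (Nat.beq c 82) [⟨47, -1, 1⟩] []) (cond (Nat.beq c 83) [⟨50, -1, 1⟩] [])))) (cond (Nat.blt c 131) (cond (Nat.blt c 125) (cond (Nat.blt c 85) (cond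 (Nat.beq c 84) [⟨56, -1, 1⟩] []) (cond (Nat.beq c 85) [⟨66, -1, 1⟩] [])) (cond (Nat.blt c 127) (cond (Nat.beq c 125) [⟨86, -1, 1⟩] []) (cond (Nat.beq c 127) [⟨87, 1, 1⟩] []))) (cond (Nat.blt c 135) (cond (Nat.blt c 132) (cond (Nat.beq c 131) [⟨90, 1, 1⟩] []) (cond (Nat.beq c 132) [⟨91, -1, 1⟩] [])) (cond (Nat.blt c 136) (cond (Nat.beq c 135) [⟨93, 1, 1⟩] []) (cond (Nat.beq c 136) [⟨94, -1, 1⟩] [])))))) (cond (Nat.blt c 199) (cond (Nat.blt c 161) (cond (Nat.blt c 152) (cond (Nat.blt c 146) (cond (Nat.blt c 141) (cond (Nat.beq c 140) [⟨97, 1, 1⟩] []) (cond (Nat.beq c 141) [⟨98, -1, 1⟩] [])) (cond (Nat.blt c 147) (cond (Nat.beq c 146) [⟨102, 1, 1⟩] []) (cond (Nat.beq c 147) [⟨103, -1, 1⟩] []))) (cond (Nat.blt c 157) (cond (Nat.blt c 153) (cond (Nat.beq c 152) [⟨108, 1, 1⟩] []) (cond (Nat.beq c 153)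 [⟨109, -1, 1⟩] [])) (cond (Nat.blt c 158) (cond (Nat.beq c 157) [⟨114, 1, 1⟩] []) (cond (Nat.beq c 158) [⟨115, -1, 1⟩] [])))) (cond (Nat.blt c 167) (cond (Nat.blt c 164) (cond (Nat.blt c 162) (cond (Nat.beq c 161) [⟨119, 1, 1⟩] []) (cond (Nat.beq c 162) [⟨120, -1, 1⟩] [])) (cond (Nat.blt c 165) (cond (Nat.beq c 164) [⟨123, 1, 1⟩] []) (cond (Nat.beq c 165) [⟨124, -1, 1⟩] []))) (cond (Nat.blt c 169) (cond (Nat.blt c 168) (cond (Nat.beq c 167) [⟨88, -1, 2⟩, ⟨0, 0, 1⟩, ⟨1, -1, 1⟩, ⟨2, -1, 1⟩, ⟨3, -2, 1⟩, ⟨4, -2, 1⟩, ⟨5, -2, 1⟩, ⟨6, -1, 1⟩, ⟨7, 0, 1⟩] []) (cond (Nat.beq c 168) [⟨128, -1, 1⟩] [])) (cond (Nat.blt c 189) (cond (Nat.beq c 169) [⟨130, 1, 1⟩] []) (cond (Nat.beq c 189) [⟨170, 1, 1⟩] []))))) (cond (Nat.blt c 225) (cond (Nat.blt c 215) (cond (Nat.blt c 208) (cond (Nat.blt c 205) (cond (Nat.beq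 c 199) [⟨171, 1, 1⟩] []) (cond (Nat.beq c 205) [⟨172, 1, 1⟩] [])) (cond (Nat.blt c 211) (cond (Nat.beq c 208) [⟨173, 1, 1⟩] []) (cond (Nat.beq c 211) [⟨176, 1, 1⟩] []))) (cond (Nat.blt c 221) (cond (Nat.blt c 218) (cond (Nat.beq c 215) [⟨177, 1, 1⟩] []) (cond (Nat.beq c 218) [⟨178, 1, 1⟩] [])) (cond (Nat.blt c 222) (cond (Nat.beq c 221) [⟨181, 1, 1⟩] []) (cond (Nat.beq c 222) [⟨182, 1, 1⟩] [])))) (cond (Nat.blt c 231) (cond (Nat.blt c 227) (cond (Nat.blt c 226) (cond (Nat.beq c 225) [⟨185, 1, 1⟩] []) (cond (Nat.beq c 226) [⟨188, 1, 1⟩] [])) (cond (Nat.blt c 230) (cond (Nat.beq c 227) [⟨192, 1, 1⟩] []) (cond (Nat.beq c 230) [⟨195, 1, 1⟩] []))) (cond (Nat.blt c 233) (cond (Nat.blt c 232) (cond (Nat.beq c 231) [⟨198, 1, 1⟩] []) (cond (Nat.beq c 232) [⟨204, 1, 1⟩] [])) (cond (Nat.blt c 245) (cond (Nat.beq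 c 233) [⟨214, 1, 1⟩] []) (cond (Nat.blt c 246) (cond (Nat.beq c 245) [⟨235, 1, 1⟩] []) (cond (Nat.beq c 246) [⟨236, 1, 1⟩] [])))))))

/-- Compiled columns of `x_81` for type E8. -/
def colsE8_81 (c : ℕ) : List CEnt :=
  cond (Nat.blt c 139) (cond (Nat.blt c 71) (cond (Nat.blt c 18) (cond (Nat.blt c 4) (cond (Nat.blt c 2) (cond (Nat.blt c 1) (cond (Nat.beq c 0) [⟨89, -1, 1⟩] []) (cond (Nat.beq c 1) [⟨89, 0, 1⟩] [])) (cond (Nat.blt c 3) (cond (Nat.beq c 2) [⟨89, 0, 1⟩] []) (cond (Nat.beq c 3) [⟨89, 0, 1⟩] []))) (cond (Nat.blt c 6) (cond (Nat.blt c 5) (cond (Nat.beq c 4) [⟨89, 1, 1⟩] []) (cond (Nat.beq c 5) [⟨89, -1, 1⟩] [])) (cond (Nat.blt c 7) (cond (Nat.beq c 6) [⟨89, 0, 1⟩] []) (cond (Nat.beq c 7) [⟨89, 1, 1⟩] [])))) (cond (Nat.blt c 56) (cond (Nat.blt c 40) (cond (Nat.blt c 21) (cond (Nat.beq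 c 18) [⟨8, 1, 1⟩] []) (cond (Nat.beq c 21) [⟨11, 1, 1⟩] [])) (cond (Nat.blt c 50) (cond (Nat.beq c 40) [⟨22, -1, 1⟩] []) (cond (Nat.beq c 50) [⟨23, -1, 1⟩] []))) (cond (Nat.blt c 62) (cond (Nat.blt c 61) (cond (Nat.beq c 56) [⟨24, -1, 1⟩] []) (cond (Nat.beq c 61) [⟨26, 1, 1⟩] [])) (cond (Nat.blt c 66) (cond (Nat.beq c 62) [⟨27, 1, 1⟩] []) (cond (Nat.beq c 66) [⟨29, -1, 1⟩] []))))) (cond (Nat.blt c 84) (cond (Nat.blt c 78) (cond (Nat.blt c 75) (cond (Nat.blt c 72) (cond (Nat.beq c 71) [⟨31, 1, 1⟩] []) (cond (Nat.beq c 72) [⟨32, 1, 1⟩] [])) (cond (Nat.blt c 76) (cond (Nat.beq c 75) [⟨35, 1, 1⟩] []) (cond (Nat.beq c 76) [⟨36, 1, 1⟩] []))) (cond (Nat.blt c 81) (cond (Nat.blt c 80) (cond (Nat.beq c 78) [⟨41, -1, 1⟩] []) (cond (Nat.beq c 80) [⟨45, 1, 1⟩] [])) (cond (Nat.blt c 83) (cond (Nat.beq c 81)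 [⟨46, 1, 1⟩] []) (cond (Nat.beq c 83) [⟨51, -1, 1⟩] [])))) (cond (Nat.blt c 128) (cond (Nat.blt c 123) (cond (Nat.blt c 85) (cond (Nat.beq c 84) [⟨57, -1, 1⟩] []) (cond (Nat.beq c 85) [⟨67, -1, 1⟩] [])) (cond (Nat.blt c 124) (cond (Nat.beq c 123) [⟨86, 1, 1⟩] []) (cond (Nat.beq c 124) [⟨87, 1, 1⟩] []))) (cond (Nat.blt c 134) (cond (Nat.blt c 130) (cond (Nat.beq c 128) [⟨90, 1, 1⟩] []) (cond (Nat.beq c 130) [⟨91, 1, 1⟩] [])) (cond (Nat.blt c 137) (cond (Nat.beq c 134) [⟨92, 1, 1⟩] []) (cond (Nat.beq c 137) [⟨95, -1, 1⟩] [])))))) (cond (Nat.blt c 198) (cond (Nat.blt c 160) (cond (Nat.blt c 151) (cond (Nat.blt c 145) (cond (Nat.blt c 142) (cond (Nat.beq c 139) [⟨96, 1, 1⟩] []) (cond (Nat.beq c 142) [⟨99, -1, 1⟩] [])) (cond (Nat.blt c 148) (cond (Nat.beq c 145) [⟨101, 1, 1⟩] []) (cond (Nat.beq c 148)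 [⟨104, -1, 1⟩] []))) (cond (Nat.blt c 156) (cond (Nat.blt c 154) (cond (Nat.beq c 151) [⟨107, 1, 1⟩] []) (cond (Nat.beq c 154) [⟨110, -1, 1⟩] [])) (cond (Nat.blt c 159) (cond (Nat.beq c 156) [⟨113, 1, 1⟩] []) (cond (Nat.beq c 159) [⟨116, -1, 1⟩] [])))) (cond (Nat.blt c 166) (cond (Nat.blt c 164) (cond (Nat.blt c 163) (cond (Nat.beq c 160) [⟨118, 1, 1⟩] []) (cond (Nat.beq c 163) [⟨121, -1, 1⟩] [])) (cond (Nat.blt c 165) (cond (Nat.beq c 164) [⟨125, -1, 1⟩] []) (cond (Nat.beq c 165) [⟨127, -1, 1⟩] []))) (cond (Nat.blt c 169) (cond (Nat.blt c 168) (cond (Nat.beq c 166) [⟨89, -1, 2⟩, ⟨0, 0, 1⟩, ⟨1, -1, 1⟩, ⟨2, -1, 1⟩, ⟨3, -2, 1⟩, ⟨4, -2, 1⟩, ⟨5, -1, 1⟩, ⟨6, -1, 1⟩, ⟨7, -1, 1⟩] []) (cond (Nat.beq c 168) [⟨131, -1, 1⟩] [])) (cond (Nat.blt c 188) (cond (Nat.beq c 169) [⟨132, -1, 1⟩] []) (cond (Nat.beq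 c 188) [⟨170, 1, 1⟩] []))))) (cond (Nat.blt c 224) (cond (Nat.blt c 214) (cond (Nat.blt c 209) (cond (Nat.blt c 204) (cond (Nat.beq c 198) [⟨171, 1, 1⟩] []) (cond (Nat.beq c 204) [⟨172, 1, 1⟩] [])) (cond (Nat.blt c 210) (cond (Nat.beq c 209) [⟨174, -1, 1⟩] []) (cond (Nat.beq c 210) [⟨175, -1, 1⟩] []))) (cond (Nat.blt c 220) (cond (Nat.blt c 219) (cond (Nat.beq c 214) [⟨177, 1, 1⟩] []) (cond (Nat.beq c 219) [⟨179, -1, 1⟩] [])) (cond (Nat.blt c 223) (cond (Nat.beq c 220) [⟨180, -1, 1⟩] []) (cond (Nat.beq c 223) [⟨183, -1, 1⟩] [])))) (cond (Nat.blt c 231) (cond (Nat.blt c 228) (cond (Nat.blt c 226) (cond (Nat.beq c 224) [⟨184, -1, 1⟩] []) (cond (Nat.beq c 226) [⟨189, 1, 1⟩] [])) (cond (Nat.blt c 229) (cond (Nat.beq c 228) [⟨193, -1, 1⟩] []) (cond (Nat.beq c 229) [⟨194, -1, 1⟩] []))) (cond (Nat.blt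 c 233) (cond (Nat.blt c 232) (cond (Nat.beq c 231) [⟨199, 1, 1⟩] []) (cond (Nat.beq c 232) [⟨205, 1, 1⟩] [])) (cond (Nat.blt c 244) (cond (Nat.beq c 233) [⟨215, 1, 1⟩] []) (cond (Nat.blt c 247) (cond (Nat.beq c 244) [⟨234, -1, 1⟩] []) (cond (Nat.beq c 247) [⟨237, -1, 1⟩] [])))))))

/-- Compiled columns of `x_82` for type E8. -/
def colsE8_82 (c : ℕ) : List CEnt :=
  cond (Nat.blt c 139) (cond (Nat.blt c 70) (cond (Nat.blt c 18) (cond (Nat.blt c 4) (cond (Nat.blt c 2) (cond (Nat.blt c 1) (cond (Nat.beq c 0) [⟨90, -1, 1⟩] []) (cond (Nat.beq c 1) [⟨90, 0, 1⟩] [])) (cond (Nat.blt c 3) (cond (Nat.beq c 2) [⟨90, 0, 1⟩] []) (cond (Nat.beq c 3) [⟨90, 0, 1⟩] []))) (cond (Nat.blt c 6) (cond (Nat.blt c 5) (cond (Nat.beq c 4) [⟨90, 1, 1⟩] []) (cond (Nat.beq c 5) [⟨90, -1, 1⟩] [])) (cond (Nat.blt c 7) (cond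 (Nat.beq c 6) [⟨90, 1, 1⟩] []) (cond (Nat.beq c 7) [⟨90, -1, 1⟩] [])))) (cond (Nat.blt c 55) (cond (Nat.blt c 39) (cond (Nat.blt c 20) (cond (Nat.beq c 18) [⟨9, 1, 1⟩] []) (cond (Nat.beq c 20) [⟨11, -1, 1⟩] [])) (cond (Nat.blt c 49) (cond (Nat.beq c 39) [⟨22, 1, 1⟩] []) (cond (Nat.beq c 49) [⟨23, 1, 1⟩] []))) (cond (Nat.blt c 62) (cond (Nat.blt c 60) (cond (Nat.beq c 55) [⟨24, 1, 1⟩] []) (cond (Nat.beq c 60) [⟨26, -1, 1⟩] [])) (cond (Nat.blt c 65) (cond (Nat.beq c 62) [⟨28, 1, 1⟩] []) (cond (Nat.beq c 65) [⟨29, 1, 1⟩] []))))) (cond (Nat.blt c 84) (cond (Nat.blt c 78) (cond (Nat.blt c 74) (cond (Nat.blt c 72) (cond (Nat.beq c 70) [⟨31, -1, 1⟩] []) (cond (Nat.beq c 72) [⟨33, 1, 1⟩] [])) (cond (Nat.blt c 76) (cond (Nat.beq c 74) [⟨35, -1, 1⟩] []) (cond (Nat.beq c 76) [⟨37, 1, 1⟩] []))) (cond (Nat.blt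 c 81) (cond (Nat.blt c 79) (cond (Nat.beq c 78) [⟨42, -1, 1⟩] []) (cond (Nat.beq c 79) [⟨45, -1, 1⟩] [])) (cond (Nat.blt c 83) (cond (Nat.beq c 81) [⟨47, 1, 1⟩] []) (cond (Nat.beq c 83) [⟨52, -1, 1⟩] [])))) (cond (Nat.blt c 127) (cond (Nat.blt c 122) (cond (Nat.blt c 85) (cond (Nat.beq c 84) [⟨58, -1, 1⟩] []) (cond (Nat.beq c 85) [⟨68, -1, 1⟩] [])) (cond (Nat.blt c 124) (cond (Nat.beq c 122) [⟨86, -1, 1⟩] []) (cond (Nat.beq c 124) [⟨88, 1, 1⟩] []))) (cond (Nat.blt c 134) (cond (Nat.blt c 129) (cond (Nat.beq c 127) [⟨89, 1, 1⟩] []) (cond (Nat.beq c 129) [⟨91, 1, 1⟩] [])) (cond (Nat.blt c 136) (cond (Nat.beq c 134) [⟨93, 1, 1⟩] []) (cond (Nat.beq c 136) [⟨95, -1, 1⟩] [])))))) (cond (Nat.blt c 197) (cond (Nat.blt c 160) (cond (Nat.blt c 151) (cond (Nat.blt c 145) (cond (Nat.blt c 141) (cond (Nat.beq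 c 139) [⟨97, 1, 1⟩] []) (cond (Nat.beq c 141) [⟨99, -1, 1⟩] [])) (cond (Nat.blt c 147) (cond (Nat.beq c 145) [⟨102, 1, 1⟩] []) (cond (Nat.beq c 147) [⟨104, -1, 1⟩] []))) (cond (Nat.blt c 156) (cond (Nat.blt c 153) (cond (Nat.beq c 151) [⟨108, 1, 1⟩] []) (cond (Nat.beq c 153) [⟨110, -1, 1⟩] [])) (cond (Nat.blt c 158) (cond (Nat.beq c 156) [⟨114, 1, 1⟩] []) (cond (Nat.beq c 158) [⟨116, -1, 1⟩] [])))) (cond (Nat.blt c 166) (cond (Nat.blt c 164) (cond (Nat.blt c 162) (cond (Nat.beq c 160) [⟨119, 1, 1⟩] []) (cond (Nat.beq c 162) [⟨121, -1, 1⟩] [])) (cond (Nat.blt c 165) (cond (Nat.beq c 164) [⟨126, -1, 1⟩] []) (cond (Nat.beq c 165) [⟨90, -1, 2⟩, ⟨0, 0, 1⟩, ⟨1, -1, 1⟩, ⟨2, -1, 1⟩, ⟨3, -2, 1⟩, ⟨4, -2, 1⟩, ⟨5, -1, 1⟩, ⟨6, -1, 1⟩, ⟨7, 0, 1⟩] []))) (cond (Nat.blt c 169) (cond (Nat.blt c 167) (cond (Nat.beq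 c 166) [⟨128, -1, 1⟩] []) (cond (Nat.beq c 167) [⟨131, -1, 1⟩] [])) (cond (Nat.blt c 187) (cond (Nat.beq c 169) [⟨133, 1, 1⟩] []) (cond (Nat.beq c 187) [⟨170, 1, 1⟩] []))))) (cond (Nat.blt c 224) (cond (Nat.blt c 213) (cond (Nat.blt c 208) (cond (Nat.blt c 203) (cond (Nat.beq c 197) [⟨171, 1, 1⟩] []) (cond (Nat.beq c 203) [⟨172, 1, 1⟩] [])) (cond (Nat.blt c 210) (cond (Nat.beq c 208) [⟨174, -1, 1⟩] []) (cond (Nat.beq c 210) [⟨176, 1, 1⟩] []))) (cond (Nat.blt c 220) (cond (Nat.blt c 218) (cond (Nat.beq c 213) [⟨177, 1, 1⟩] []) (cond (Nat.beq c 218) [⟨179, -1, 1⟩] [])) (cond (Nat.blt c 222) (cond (Nat.beq c 220) [⟨181, 1, 1⟩] []) (cond (Nat.beq c 222) [⟨183, -1, 1⟩] [])))) (cond (Nat.blt c 231) (cond (Nat.blt c 227) (cond (Nat.blt c 226) (cond (Nat.beq c 224) [⟨185, 1, 1⟩] []) (cond (Nat.beq c 226)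 [⟨190, -1, 1⟩] [])) (cond (Nat.blt c 229) (cond (Nat.beq c 227) [⟨193, -1, 1⟩] []) (cond (Nat.beq c 229) [⟨195, 1, 1⟩] []))) (cond (Nat.blt c 233) (cond (Nat.blt c 232) (cond (Nat.beq c 231) [⟨200, -1, 1⟩] []) (cond (Nat.beq c 232) [⟨206, -1, 1⟩] [])) (cond (Nat.blt c 244) (cond (Nat.beq c 233) [⟨216, -1, 1⟩] []) (cond (Nat.blt c 246) (cond (Nat.beq c 244) [⟨235, 1, 1⟩] []) (cond (Nat.beq c 246) [⟨237, -1, 1⟩] [])))))))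

/-- Compiled columns of `x_83` for type E8. -/
def colsE8_83 (c : ℕ) : List CEnt :=
  cond (Nat.blt c 139) (cond (Nat.blt c 70) (cond (Nat.blt c 18) (cond (Nat.blt c 4) (cond (Nat.blt c 2) (cond (Nat.blt c 1) (cond (Nat.beq c 0) [⟨91, -1, 1⟩] []) (cond (Nat.beq c 1) [⟨91, 0, 1⟩] [])) (cond (Nat.blt c 3) (cond (Nat.beq c 2) [⟨91, 0, 1⟩] []) (cond (Nat.beq c 3) [⟨91, 0, 1⟩] []))) (cond (Nat.blt c 6) (cond (Nat.blt c 5) (cond (Nat.beq c 4) [⟨91, 1, 1⟩] []) (cond (Nat.beq c 5) [⟨91, 0, 1⟩] [])) (cond (Nat.blt c 7) (cond (Nat.beq c 6) [⟨91, -1, 1⟩] []) (cond (Nat.beq c 7) [⟨91, 0, 1⟩] [])))) (cond (Nat.blt c 54) (cond (Nat.blt c 38) (cond (Nat.blt c 19) (cond (Nat.beq c 18) [⟨10, 1, 1⟩] []) (cond (Nat.beq c 19) [⟨11, 1, 1⟩] [])) (cond (Nat.blt c 48) (cond (Nat.beq c 38) [⟨22, -1, 1⟩] []) (cond (Nat.beq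 c 48) [⟨23, -1, 1⟩] []))) (cond (Nat.blt c 61) (cond (Nat.blt c 60) (cond (Nat.beq c 54) [⟨24, -1, 1⟩] []) (cond (Nat.beq c 60) [⟨27, -1, 1⟩] [])) (cond (Nat.blt c 64) (cond (Nat.beq c 61) [⟨28, -1, 1⟩] []) (cond (Nat.beq c 64) [⟨29, -1, 1⟩] []))))) (cond (Nat.blt c 84) (cond (Nat.blt c 78) (cond (Nat.blt c 74) (cond (Nat.blt c 71) (cond (Nat.beq c 70) [⟨32, -1, 1⟩] []) (cond (Nat.beq c 71) [⟨33, -1, 1⟩] [])) (cond (Nat.blt c 75) (cond (Nat.beq c 74) [⟨36, -1, 1⟩] []) (cond (Nat.beq c 75) [⟨37, -1, 1⟩] []))) (cond (Nat.blt c 80) (cond (Nat.blt c 79) (cond (Nat.beq c 78) [⟨43, -1, 1⟩] []) (cond (Nat.beq c 79) [⟨46, -1, 1⟩] [])) (cond (Nat.blt c 83) (cond (Nat.beq c 80) [⟨47, -1, 1⟩] []) (cond (Nat.beq c 83) [⟨53, -1, 1⟩] [])))) (cond (Nat.blt c 125) (cond (Nat.blt c 122) (cond (Nat.blt c 85) (cond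 (Nat.beq c 84) [⟨59, -1, 1⟩] []) (cond (Nat.beq c 85) [⟨69, -1, 1⟩] [])) (cond (Nat.blt c 123) (cond (Nat.beq c 122) [⟨87, -1, 1⟩] []) (cond (Nat.beq c 123) [⟨88, -1, 1⟩] []))) (cond (Nat.blt c 134) (cond (Nat.blt c 126) (cond (Nat.beq c 125) [⟨89, 1, 1⟩] []) (cond (Nat.beq c 126) [⟨90, 1, 1⟩] [])) (cond (Nat.blt c 135) (cond (Nat.beq c 134) [⟨94, 1, 1⟩] []) (cond (Nat.beq c 135) [⟨95, -1, 1⟩] [])))))) (cond (Nat.blt c 196) (cond (Nat.blt c 160) (cond (Nat.blt c 151) (cond (Nat.blt c 145) (cond (Nat.blt c 140) (cond (Nat.beq c 139) [⟨98, 1, 1⟩] []) (cond (Nat.beq c 140) [⟨99, -1, 1⟩] [])) (cond (Nat.blt c 146) (cond (Nat.beq c 145) [⟨103, 1, 1⟩] []) (cond (Nat.beq c 146) [⟨104, -1, 1⟩] []))) (cond (Nat.blt c 156) (cond (Nat.blt c 152) (cond (Nat.beq c 151) [⟨109, 1, 1⟩] []) (cond (Nat.beq c 152)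 [⟨110, -1, 1⟩] [])) (cond (Nat.blt c 157) (cond (Nat.beq c 156) [⟨115, 1, 1⟩] []) (cond (Nat.beq c 157) [⟨116, -1, 1⟩] [])))) (cond (Nat.blt c 166) (cond (Nat.blt c 164) (cond (Nat.blt c 161) (cond (Nat.beq c 160) [⟨120, 1, 1⟩] []) (cond (Nat.beq c 161) [⟨121, -1, 1⟩] [])) (cond (Nat.blt c 165) (cond (Nat.beq c 164) [⟨91, -1, 2⟩, ⟨0, 0, 1⟩, ⟨1, -1, 1⟩, ⟨2, -1, 1⟩, ⟨3, -2, 1⟩, ⟨4, -2, 1⟩, ⟨5, -1, 1⟩, ⟨6, 0, 1⟩, ⟨7, 0, 1⟩] []) (cond (Nat.beq c 165) [⟨129, -1, 1⟩] []))) (cond (Nat.blt c 168) (cond (Nat.blt c 167) (cond (Nat.beq c 166) [⟨130, -1, 1⟩] []) (cond (Nat.beq c 167) [⟨132, 1, 1⟩] [])) (cond (Nat.blt c 186) (cond (Nat.beq c 168) [⟨133, 1, 1⟩] []) (cond (Nat.beq c 186) [⟨170, 1, 1⟩] []))))) (cond (Nat.blt c 223) (cond (Nat.blt c 212) (cond (Nat.blt c 208) (cond (Nat.blt c 202) (cond (Nat.beq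 c 196) [⟨171, 1, 1⟩] []) (cond (Nat.beq c 202) [⟨172, 1, 1⟩] [])) (cond (Nat.blt c 209) (cond (Nat.beq c 208) [⟨175, 1, 1⟩] []) (cond (Nat.beq c 209) [⟨176, 1, 1⟩] []))) (cond (Nat.blt c 219) (cond (Nat.blt c 218) (cond (Nat.beq c 212) [⟨177, 1, 1⟩] []) (cond (Nat.beq c 218) [⟨180, 1, 1⟩] [])) (cond (Nat.blt c 222) (cond (Nat.beq c 219) [⟨181, 1, 1⟩] []) (cond (Nat.beq c 222) [⟨184, 1, 1⟩] [])))) (cond (Nat.blt c 231) (cond (Nat.blt c 227) (cond (Nat.blt c 226) (cond (Nat.beq c 223) [⟨185, 1, 1⟩] []) (cond (Nat.beq c 226) [⟨191, 1, 1⟩] [])) (cond (Nat.blt c 228) (cond (Nat.beq c 227) [⟨194, 1, 1⟩] []) (cond (Nat.beq c 228) [⟨195, 1, 1⟩] []))) (cond (Nat.blt c 233) (cond (Nat.blt c 232) (cond (Nat.beq c 231) [⟨201, 1, 1⟩] []) (cond (Nat.beq c 232) [⟨207, 1, 1⟩] [])) (cond (Nat.blt c 244) (cond (Nat.beq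 c 233) [⟨217, 1, 1⟩] []) (cond (Nat.blt c 245) (cond (Nat.beq c 244) [⟨236, -1, 1⟩] []) (cond (Nat.beq c 245) [⟨237, -1, 1⟩] [])))))))

/-- Compiled columns of `x_84` for type E8. -/
def colsE8_84 (c : ℕ) : List CEnt :=
  cond (Nat.blt c 138) (cond (Nat.blt c 68) (cond (Nat.blt c 17) (cond (Nat.blt c 4) (cond (Nat.blt c 2) (cond (Nat.blt c 1) (cond (Nat.beq c 0) [⟨92, -1, 1⟩] []) (cond (Nat.beq c 1) [⟨92, 0, 1⟩] [])) (cond (Nat.blt c 3) (cond (Nat.beq c 2) [⟨92, 0, 1⟩] []) (cond (Nat.beq c 3) [⟨92, 1, 1⟩] []))) (cond (Nat.blt c 6) (cond (Nat.blt c 5) (cond (Nat.beq c 4) [⟨92, -1, 1⟩] []) (cond (Nat.beq c 5) [⟨92, 0, 1⟩] [])) (cond (Nat.blt c 7) (cond (Nat.beq c 6) [⟨92, 0, 1⟩] []) (cond (Nat.beq c 7) [⟨92, 1, 1⟩] [])))) (cond (Nat.blt c 56) (cond (Nat.blt c 37) (cond (Nat.blt c 21) (cond (Nat.beq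 c 17) [⟨8, -1, 1⟩] []) (cond (Nat.beq c 21) [⟨12, 1, 1⟩] [])) (cond (Nat.blt c 47) (cond (Nat.beq c 37) [⟨22, 1, 1⟩] []) (cond (Nat.beq c 47) [⟨23, 1, 1⟩] []))) (cond (Nat.blt c 59) (cond (Nat.blt c 58) (cond (Nat.beq c 56) [⟨25, -1, 1⟩] []) (cond (Nat.beq c 58) [⟨26, -1, 1⟩] [])) (cond (Nat.blt c 66) (cond (Nat.beq c 59) [⟨27, -1, 1⟩] []) (cond (Nat.beq c 66) [⟨30, -1, 1⟩] []))))) (cond (Nat.blt c 84) (cond (Nat.blt c 77) (cond (Nat.blt c 75) (cond (Nat.blt c 69) (cond (Nat.beq c 68) [⟨31, -1, 1⟩] []) (cond (Nat.beq c 69) [⟨32, -1, 1⟩] [])) (cond (Nat.blt c 76) (cond (Nat.beq c 75) [⟨38, 1, 1⟩] []) (cond (Nat.beq c 76) [⟨39, 1, 1⟩] []))) (cond (Nat.blt c 81) (cond (Nat.blt c 80) (cond (Nat.beq c 77) [⟨41, 1, 1⟩] []) (cond (Nat.beq c 80) [⟨48, 1, 1⟩] [])) (cond (Nat.blt c 82) (cond (Nat.beq c 81)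 [⟨49, 1, 1⟩] []) (cond (Nat.beq c 82) [⟨51, 1, 1⟩] [])))) (cond (Nat.blt c 121) (cond (Nat.blt c 119) (cond (Nat.blt c 85) (cond (Nat.beq c 84) [⟨60, -1, 1⟩] []) (cond (Nat.beq c 85) [⟨70, -1, 1⟩] [])) (cond (Nat.blt c 120) (cond (Nat.beq c 119) [⟨86, 1, 1⟩] []) (cond (Nat.beq c 120) [⟨87, 1, 1⟩] []))) (cond (Nat.blt c 130) (cond (Nat.blt c 128) (cond (Nat.beq c 121) [⟨89, 1, 1⟩] []) (cond (Nat.beq c 128) [⟨93, 1, 1⟩] [])) (cond (Nat.blt c 133) (cond (Nat.beq c 130) [⟨94, 1, 1⟩] []) (cond (Nat.beq c 133) [⟨95, 1, 1⟩] [])))))) (cond (Nat.blt c 195) (cond (Nat.blt c 160) (cond (Nat.blt c 150) (cond (Nat.blt c 144) (cond (Nat.blt c 142) (cond (Nat.beq c 138) [⟨96, 1, 1⟩] []) (cond (Nat.beq c 142) [⟨100, -1, 1⟩] [])) (cond (Nat.blt c 148) (cond (Nat.beq c 144) [⟨101, 1, 1⟩] []) (cond (Nat.beq c 148)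 [⟨105, -1, 1⟩] []))) (cond (Nat.blt c 155) (cond (Nat.blt c 154) (cond (Nat.beq c 150) [⟨107, 1, 1⟩] []) (cond (Nat.beq c 154) [⟨111, -1, 1⟩] [])) (cond (Nat.blt c 159) (cond (Nat.beq c 155) [⟨113, 1, 1⟩] []) (cond (Nat.beq c 159) [⟨117, -1, 1⟩] [])))) (cond (Nat.blt c 166) (cond (Nat.blt c 162) (cond (Nat.blt c 161) (cond (Nat.beq c 160) [⟨122, -1, 1⟩] []) (cond (Nat.beq c 161) [⟨125, -1, 1⟩] [])) (cond (Nat.blt c 163) (cond (Nat.beq c 162) [⟨127, -1, 1⟩] []) (cond (Nat.beq c 163) [⟨92, -1, 2⟩, ⟨0, 0, 1⟩, ⟨1, -1, 1⟩, ⟨2, -1, 1⟩, ⟨3, -2, 1⟩, ⟨4, -1, 1⟩, ⟨5, -1, 1⟩, ⟨6, -1, 1⟩, ⟨7, -1, 1⟩] []))) (cond (Nat.blt c 169) (cond (Nat.blt c 168) (cond (Nat.beq c 166) [⟨134, -1, 1⟩] []) (cond (Nat.beq c 168) [⟨135, -1, 1⟩] [])) (cond (Nat.blt c 185) (cond (Nat.beq c 169) [⟨136, -1, 1⟩] []) (cond (Nat.beq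 c 185) [⟨170, 1, 1⟩] []))))) (cond (Nat.blt c 224) (cond (Nat.blt c 214) (cond (Nat.blt c 206) (cond (Nat.blt c 204) (cond (Nat.beq c 195) [⟨171, 1, 1⟩] []) (cond (Nat.beq c 204) [⟨173, -1, 1⟩] [])) (cond (Nat.blt c 207) (cond (Nat.beq c 206) [⟨174, -1, 1⟩] []) (cond (Nat.beq c 207) [⟨175, -1, 1⟩] []))) (cond (Nat.blt c 217) (cond (Nat.blt c 216) (cond (Nat.beq c 214) [⟨178, -1, 1⟩] []) (cond (Nat.beq c 216) [⟨179, -1, 1⟩] [])) (cond (Nat.blt c 223) (cond (Nat.beq c 217) [⟨180, -1, 1⟩] []) (cond (Nat.beq c 223) [⟨186, 1, 1⟩] [])))) (cond (Nat.blt c 230) (cond (Nat.blt c 228) (cond (Nat.blt c 225) (cond (Nat.beq c 224) [⟨187, 1, 1⟩] []) (cond (Nat.beq c 225) [⟨189, 1, 1⟩] [])) (cond (Nat.blt c 229) (cond (Nat.beq c 228) [⟨196, 1, 1⟩] []) (cond (Nat.beq c 229) [⟨197, 1, 1⟩] []))) (cond (Nat.blt c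 233) (cond (Nat.blt c 232) (cond (Nat.beq c 230) [⟨199, 1, 1⟩] []) (cond (Nat.beq c 232) [⟨208, -1, 1⟩] [])) (cond (Nat.blt c 243) (cond (Nat.beq c 233) [⟨218, -1, 1⟩] []) (cond (Nat.blt c 247) (cond (Nat.beq c 243) [⟨234, -1, 1⟩] []) (cond (Nat.beq c 247) [⟨238, 1, 1⟩] [])))))))

/-- Compiled columns of `x_85` for type E8. -/
def colsE8_85 (c : ℕ) : List CEnt :=
  cond (Nat.blt c 138) (cond (Nat.blt c 67) (cond (Nat.blt c 17) (cond (Nat.blt c 4) (cond (Nat.blt c 2) (cond (Nat.blt c 1) (cond (Nat.beq c 0) [⟨93, -1, 1⟩] []) (cond (Nat.beq c 1) [⟨93, 0, 1⟩] [])) (cond (Nat.blt c 3) (cond (Nat.beq c 2) [⟨93, 0, 1⟩] []) (cond (Nat.beq c 3) [⟨93, 1, 1⟩] []))) (cond (Nat.blt c 6) (cond (Nat.blt c 5) (cond (Nat.beq c 4) [⟨93, -1, 1⟩] []) (cond (Nat.beq c 5) [⟨93, 0, 1⟩] [])) (cond (Nat.blt c 7) (cond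 (Nat.beq c 6) [⟨93, 1, 1⟩] []) (cond (Nat.beq c 7) [⟨93, -1, 1⟩] [])))) (cond (Nat.blt c 55) (cond (Nat.blt c 36) (cond (Nat.blt c 20) (cond (Nat.beq c 17) [⟨9, -1, 1⟩] []) (cond (Nat.beq c 20) [⟨12, -1, 1⟩] [])) (cond (Nat.blt c 46) (cond (Nat.beq c 36) [⟨22, -1, 1⟩] []) (cond (Nat.beq c 46) [⟨23, -1, 1⟩] []))) (cond (Nat.blt c 59) (cond (Nat.blt c 57) (cond (Nat.beq c 55) [⟨25, 1, 1⟩] []) (cond (Nat.beq c 57) [⟨26, 1, 1⟩] [])) (cond (Nat.blt c 65) (cond (Nat.beq c 59) [⟨28, -1, 1⟩] []) (cond (Nat.beq c 65) [⟨30, 1, 1⟩] []))))) (cond (Nat.blt c 84) (cond (Nat.blt c 77) (cond (Nat.blt c 74) (cond (Nat.blt c 69) (cond (Nat.beq c 67) [⟨31, 1, 1⟩] []) (cond (Nat.beq c 69) [⟨33, -1, 1⟩] [])) (cond (Nat.blt c 76) (cond (Nat.beq c 74) [⟨38, -1, 1⟩] []) (cond (Nat.beq c 76) [⟨40, 1, 1⟩] []))) (cond (Nat.blt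 c 81) (cond (Nat.blt c 79) (cond (Nat.beq c 77) [⟨42, 1, 1⟩] []) (cond (Nat.beq c 79) [⟨48, -1, 1⟩] [])) (cond (Nat.blt c 82) (cond (Nat.beq c 81) [⟨50, 1, 1⟩] []) (cond (Nat.beq c 82) [⟨52, 1, 1⟩] [])))) (cond (Nat.blt c 121) (cond (Nat.blt c 118) (cond (Nat.blt c 85) (cond (Nat.beq c 84) [⟨61, -1, 1⟩] []) (cond (Nat.beq c 85) [⟨71, -1, 1⟩] [])) (cond (Nat.blt c 120) (cond (Nat.beq c 118) [⟨86, -1, 1⟩] []) (cond (Nat.beq c 120) [⟨88, 1, 1⟩] []))) (cond (Nat.blt c 129) (cond (Nat.blt c 127) (cond (Nat.beq c 121) [⟨90, 1, 1⟩] []) (cond (Nat.beq c 127) [⟨92, 1, 1⟩] [])) (cond (Nat.blt c 132) (cond (Nat.beq c 129) [⟨94, 1, 1⟩] []) (cond (Nat.beq c 132) [⟨95, 1, 1⟩] [])))))) (cond (Nat.blt c 194) (cond (Nat.blt c 160) (cond (Nat.blt c 150) (cond (Nat.blt c 144) (cond (Nat.blt c 141) (cond (Nat.beq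 c 138) [⟨97, 1, 1⟩] []) (cond (Nat.beq c 141) [⟨100, -1, 1⟩] [])) (cond (Nat.blt c 147) (cond (Nat.beq c 144) [⟨102, 1, 1⟩] []) (cond (Nat.beq c 147) [⟨105, -1, 1⟩] []))) (cond (Nat.blt c 155) (cond (Nat.blt c 153) (cond (Nat.beq c 150) [⟨108, 1, 1⟩] []) (cond (Nat.beq c 153) [⟨111, -1, 1⟩] [])) (cond (Nat.blt c 158) (cond (Nat.beq c 155) [⟨114, 1, 1⟩] []) (cond (Nat.beq c 158) [⟨117, -1, 1⟩] [])))) (cond (Nat.blt c 165) (cond (Nat.blt c 162) (cond (Nat.blt c 161) (cond (Nat.beq c 160) [⟨123, -1, 1⟩] []) (cond (Nat.beq c 161) [⟨126, -1, 1⟩] [])) (cond (Nat.blt c 163) (cond (Nat.beq c 162) [⟨93, -1, 2⟩, ⟨0, 0, 1⟩, ⟨1, -1, 1⟩, ⟨2, -1, 1⟩, ⟨3, -2, 1⟩, ⟨4, -1, 1⟩, ⟨5, -1, 1⟩, ⟨6, -1, 1⟩, ⟨7, 0, 1⟩] []) (cond (Nat.beq c 163) [⟨128, -1, 1⟩] []))) (cond (Nat.blt c 169) (cond (Nat.blt c 167) (cond (Nat.beq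 c 165) [⟨134, -1, 1⟩] []) (cond (Nat.beq c 167) [⟨135, -1, 1⟩] [])) (cond (Nat.blt c 184) (cond (Nat.beq c 169) [⟨137, 1, 1⟩] []) (cond (Nat.beq c 184) [⟨170, 1, 1⟩] []))))) (cond (Nat.blt c 224) (cond (Nat.blt c 213) (cond (Nat.blt c 205) (cond (Nat.blt c 203) (cond (Nat.beq c 194) [⟨171, 1, 1⟩] []) (cond (Nat.beq c 203) [⟨173, -1, 1⟩] [])) (cond (Nat.blt c 207) (cond (Nat.beq c 205) [⟨174, -1, 1⟩] []) (cond (Nat.beq c 207) [⟨176, 1, 1⟩] []))) (cond (Nat.blt c 217) (cond (Nat.blt c 215) (cond (Nat.beq c 213) [⟨178, -1, 1⟩] []) (cond (Nat.beq c 215) [⟨179, -1, 1⟩] [])) (cond (Nat.blt c 222) (cond (Nat.beq c 217) [⟨181, 1, 1⟩] []) (cond (Nat.beq c 222) [⟨186, 1, 1⟩] [])))) (cond (Nat.blt c 230) (cond (Nat.blt c 227) (cond (Nat.blt c 225) (cond (Nat.beq c 224) [⟨188, -1, 1⟩] []) (cond (Nat.beq c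 225) [⟨190, -1, 1⟩] [])) (cond (Nat.blt c 229) (cond (Nat.beq c 227) [⟨196, 1, 1⟩] []) (cond (Nat.beq c 229) [⟨198, -1, 1⟩] []))) (cond (Nat.blt c 233) (cond (Nat.blt c 232) (cond (Nat.beq c 230) [⟨200, -1, 1⟩] []) (cond (Nat.beq c 232) [⟨209, 1, 1⟩] [])) (cond (Nat.blt c 243) (cond (Nat.beq c 233) [⟨219, 1, 1⟩] []) (cond (Nat.blt c 246) (cond (Nat.beq c 243) [⟨235, 1, 1⟩] []) (cond (Nat.beq c 246) [⟨238, 1, 1⟩] [])))))))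

/-- Compiled columns of `x_86` for type E8. -/
def colsE8_86 (c : ℕ) : List CEnt :=
  cond (Nat.blt c 138) (cond (Nat.blt c 67) (cond (Nat.blt c 17) (cond (Nat.blt c 4) (cond (Nat.blt c 2) (cond (Nat.blt c 1) (cond (Nat.beq c 0) [⟨94, -1, 1⟩] []) (cond (Nat.beq c 1) [⟨94, 0, 1⟩] [])) (cond (Nat.blt c 3) (cond (Nat.beq c 2) [⟨94, 0, 1⟩] []) (cond (Nat.beq c 3) [⟨94, 1, 1⟩] []))) (cond (Nat.blt c 6) (cond (Nat.blt c 5) (cond (Nat.beq c 4) [⟨94, -1, 1⟩] []) (cond (Nat.beq c 5) [⟨94, 1, 1⟩] [])) (cond (Nat.blt c 7) (cond (Nat.beq c 6) [⟨94, -1, 1⟩] []) (cond (Nat.beq c 7) [⟨94, 0, 1⟩] [])))) (cond (Nat.blt c 54) (cond (Nat.blt c 35) (cond (Nat.blt c 19) (cond (Nat.beq c 17) [⟨10, -1, 1⟩] []) (cond (Nat.beq c 19) [⟨12, 1, 1⟩] [])) (cond (Nat.blt c 45) (cond (Nat.beq c 35) [⟨22, 1, 1⟩] []) (cond (Nat.beq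 c 45) [⟨23, 1, 1⟩] []))) (cond (Nat.blt c 58) (cond (Nat.blt c 57) (cond (Nat.beq c 54) [⟨25, -1, 1⟩] []) (cond (Nat.beq c 57) [⟨27, 1, 1⟩] [])) (cond (Nat.blt c 64) (cond (Nat.beq c 58) [⟨28, 1, 1⟩] []) (cond (Nat.beq c 64) [⟨30, -1, 1⟩] []))))) (cond (Nat.blt c 84) (cond (Nat.blt c 77) (cond (Nat.blt c 74) (cond (Nat.blt c 68) (cond (Nat.beq c 67) [⟨32, 1, 1⟩] []) (cond (Nat.beq c 68) [⟨33, 1, 1⟩] [])) (cond (Nat.blt c 75) (cond (Nat.beq c 74) [⟨39, -1, 1⟩] []) (cond (Nat.beq c 75) [⟨40, -1, 1⟩] []))) (cond (Nat.blt c 80) (cond (Nat.blt c 79) (cond (Nat.beq c 77) [⟨43, 1, 1⟩] []) (cond (Nat.beq c 79) [⟨49, -1, 1⟩] [])) (cond (Nat.blt c 82) (cond (Nat.beq c 80) [⟨50, -1, 1⟩] []) (cond (Nat.beq c 82) [⟨53, 1, 1⟩] [])))) (cond (Nat.blt c 121) (cond (Nat.blt c 118) (cond (Nat.blt c 85) (cond (Nat.beq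 c 84) [⟨62, -1, 1⟩] []) (cond (Nat.beq c 85) [⟨72, -1, 1⟩] [])) (cond (Nat.blt c 119) (cond (Nat.beq c 118) [⟨87, -1, 1⟩] []) (cond (Nat.beq c 119) [⟨88, -1, 1⟩] []))) (cond (Nat.blt c 126) (cond (Nat.blt c 125) (cond (Nat.beq c 121) [⟨91, 1, 1⟩] []) (cond (Nat.beq c 125) [⟨92, 1, 1⟩] [])) (cond (Nat.blt c 131) (cond (Nat.beq c 126) [⟨93, 1, 1⟩] []) (cond (Nat.beq c 131) [⟨95, 1, 1⟩] [])))))) (cond (Nat.blt c 193) (cond (Nat.blt c 160) (cond (Nat.blt c 150) (cond (Nat.blt c 144) (cond (Nat.blt c 140) (cond (Nat.beq c 138) [⟨98, 1, 1⟩] []) (cond (Nat.beq c 140) [⟨100, -1, 1⟩] [])) (cond (Nat.blt c 146) (cond (Nat.beq c 144) [⟨103, 1, 1⟩] []) (cond (Nat.beq c 146) [⟨105, -1, 1⟩] []))) (cond (Nat.blt c 155) (cond (Nat.blt c 152) (cond (Nat.beq c 150) [⟨109, 1, 1⟩] []) (cond (Nat.beq c 152) [⟨111,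 -1, 1⟩] [])) (cond (Nat.blt c 157) (cond (Nat.beq c 155) [⟨115, 1, 1⟩] []) (cond (Nat.beq c 157) [⟨117, -1, 1⟩] [])))) (cond (Nat.blt c 164) (cond (Nat.blt c 162) (cond (Nat.blt c 161) (cond (Nat.beq c 160) [⟨124, -1, 1⟩] []) (cond (Nat.beq c 161) [⟨94, -1, 2⟩, ⟨0, 0, 1⟩, ⟨1, -1, 1⟩, ⟨2, -1, 1⟩, ⟨3, -2, 1⟩, ⟨4, -1, 1⟩, ⟨5, -1, 1⟩, ⟨6, 0, 1⟩, ⟨7, 0, 1⟩] [])) (cond (Nat.blt c 163) (cond (Nat.beq c 162) [⟨129, -1, 1⟩] []) (cond (Nat.beq c 163) [⟨130, -1, 1⟩] []))) (cond (Nat.blt c 168) (cond (Nat.blt c 167) (cond (Nat.beq c 164) [⟨134, -1, 1⟩] []) (cond (Nat.beq c 167) [⟨136, 1, 1⟩] [])) (cond (Nat.blt c 183) (cond (Nat.beq c 168) [⟨137, 1, 1⟩] []) (cond (Nat.beq c 183) [⟨170, 1, 1⟩] []))))) (cond (Nat.blt c 223) (cond (Nat.blt c 212) (cond (Nat.blt c 205) (cond (Nat.blt c 202) (cond (Nat.beq c 193)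 [⟨171, 1, 1⟩] []) (cond (Nat.beq c 202) [⟨173, -1, 1⟩] [])) (cond (Nat.blt c 206) (cond (Nat.beq c 205) [⟨175, 1, 1⟩] []) (cond (Nat.beq c 206) [⟨176, 1, 1⟩] []))) (cond (Nat.blt c 216) (cond (Nat.blt c 215) (cond (Nat.beq c 212) [⟨178, -1, 1⟩] []) (cond (Nat.beq c 215) [⟨180, 1, 1⟩] [])) (cond (Nat.blt c 222) (cond (Nat.beq c 216) [⟨181, 1, 1⟩] []) (cond (Nat.beq c 222) [⟨187, -1, 1⟩] [])))) (cond (Nat.blt c 230) (cond (Nat.blt c 227) (cond (Nat.blt c 225) (cond (Nat.beq c 223) [⟨188, -1, 1⟩] []) (cond (Nat.beq c 225) [⟨191, 1, 1⟩] [])) (cond (Nat.blt c 228) (cond (Nat.beq c 227) [⟨197, -1, 1⟩] []) (cond (Nat.beq c 228) [⟨198, -1, 1⟩] []))) (cond (Nat.blt c 233) (cond (Nat.blt c 232) (cond (Nat.beq c 230) [⟨201, 1, 1⟩] []) (cond (Nat.beq c 232) [⟨210, -1, 1⟩] [])) (cond (Nat.blt c 243) (cond (Nat.beq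 c 233) [⟨220, -1, 1⟩] []) (cond (Nat.blt c 245) (cond (Nat.beq c 243) [⟨236, -1, 1⟩] []) (cond (Nat.beq c 245) [⟨238, 1, 1⟩] [])))))))

/-- Compiled columns of `x_87` for type E8. -/
def colsE8_87 (c : ℕ) : List CEnt :=
  cond (Nat.blt c 138) (cond (Nat.blt c 65) (cond (Nat.blt c 17) (cond (Nat.blt c 4) (cond (Nat.blt c 2) (cond (Nat.blt c 1) (cond (Nat.beq c 0) [⟨95, -1, 1⟩] []) (cond (Nat.beq c 1) [⟨95, 0, 1⟩] [])) (cond (Nat.blt c 3) (cond (Nat.beq c 2) [⟨95, 0, 1⟩] []) (cond (Nat.beq c 3) [⟨95, 1, 1⟩] []))) (cond (Nat.blt c 6) (cond (Nat.blt c 5) (cond (Nat.beq c 4) [⟨95, 0, 1⟩] []) (cond (Nat.beq c 5) [⟨95, -1, 1⟩] [])) (cond (Nat.blt c 7) (cond (Nat.beq c 6) [⟨95, 0, 1⟩] []) (cond (Nat.beq c 7) [⟨95, 0, 1⟩] [])))) (cond (Nat.blt c 54) (cond (Nat.blt c 34) (cond (Nat.blt c 18) (cond (Nat.beq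 c 17) [⟨11, -1, 1⟩] []) (cond (Nat.beq c 18) [⟨12, -1, 1⟩] [])) (cond (Nat.blt c 44) (cond (Nat.beq c 34) [⟨22, -1, 1⟩] []) (cond (Nat.beq c 44) [⟨23, -1, 1⟩] []))) (cond (Nat.blt c 56) (cond (Nat.blt c 55) (cond (Nat.beq c 54) [⟨26, -1, 1⟩] []) (cond (Nat.beq c 55) [⟨27, -1, 1⟩] [])) (cond (Nat.blt c 64) (cond (Nat.beq c 56) [⟨28, -1, 1⟩] []) (cond (Nat.beq c 64) [⟨31, -1, 1⟩] []))))) (cond (Nat.blt c 84) (cond (Nat.blt c 76) (cond (Nat.blt c 74) (cond (Nat.blt c 66) (cond (Nat.beq c 65) [⟨32, -1, 1⟩] []) (cond (Nat.beq c 66) [⟨33, -1, 1⟩] [])) (cond (Nat.blt c 75) (cond (Nat.beq c 74) [⟨41, -1, 1⟩] []) (cond (Nat.beq c 75) [⟨42, -1, 1⟩] []))) (cond (Nat.blt c 80) (cond (Nat.blt c 79) (cond (Nat.beq c 76) [⟨43, -1, 1⟩] []) (cond (Nat.beq c 79) [⟨51, -1, 1⟩] [])) (cond (Nat.blt c 81) (cond (Nat.beq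 c 80) [⟨52, -1, 1⟩] []) (cond (Nat.beq c 81) [⟨53, -1, 1⟩] [])))) (cond (Nat.blt c 120) (cond (Nat.blt c 118) (cond (Nat.blt c 85) (cond (Nat.beq c 84) [⟨63, -1, 1⟩] []) (cond (Nat.beq c 85) [⟨73, -1, 1⟩] [])) (cond (Nat.blt c 119) (cond (Nat.beq c 118) [⟨89, -1, 1⟩] []) (cond (Nat.beq c 119) [⟨90, -1, 1⟩] []))) (cond (Nat.blt c 123) (cond (Nat.blt c 122) (cond (Nat.beq c 120) [⟨91, -1, 1⟩] []) (cond (Nat.beq c 122) [⟨92, 1, 1⟩] [])) (cond (Nat.blt c 124) (cond (Nat.beq c 123) [⟨93, 1, 1⟩] []) (cond (Nat.beq c 124) [⟨94, 1, 1⟩] [])))))) (cond (Nat.blt c 192) (cond (Nat.blt c 160) (cond (Nat.blt c 150) (cond (Nat.blt c 144) (cond (Nat.blt c 139) (cond (Nat.beq c 138) [⟨99, 1, 1⟩] []) (cond (Nat.beq c 139) [⟨100, -1, 1⟩] [])) (cond (Nat.blt c 145) (cond (Nat.beq c 144) [⟨104, 1, 1⟩] []) (cond (Nat.beq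 c 145) [⟨105, -1, 1⟩] []))) (cond (Nat.blt c 155) (cond (Nat.blt c 151) (cond (Nat.beq c 150) [⟨110, 1, 1⟩] []) (cond (Nat.beq c 151) [⟨111, -1, 1⟩] [])) (cond (Nat.blt c 156) (cond (Nat.beq c 155) [⟨116, 1, 1⟩] []) (cond (Nat.beq c 156) [⟨117, -1, 1⟩] [])))) (cond (Nat.blt c 164) (cond (Nat.blt c 162) (cond (Nat.blt c 161) (cond (Nat.beq c 160) [⟨95, -1, 2⟩, ⟨0, 0, 1⟩, ⟨1, -1, 1⟩, ⟨2, -1, 1⟩, ⟨3, -2, 1⟩, ⟨4, -1, 1⟩, ⟨5, 0, 1⟩, ⟨6, 0, 1⟩, ⟨7, 0, 1⟩] []) (cond (Nat.beq c 161) [⟨131, -1, 1⟩] [])) (cond (Nat.blt c 163) (cond (Nat.beq c 162) [⟨132, -1, 1⟩] []) (cond (Nat.beq c 163) [⟨133, -1, 1⟩] []))) (cond (Nat.blt c 166) (cond (Nat.blt c 165) (cond (Nat.beq c 164) [⟨135, 1, 1⟩] []) (cond (Nat.beq c 165) [⟨136, 1, 1⟩] [])) (cond (Nat.blt c 182) (cond (Nat.beq c 166) [⟨137, 1, 1⟩] []) (cond (Nat.beq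 c 182) [⟨170, 1, 1⟩] []))))) (cond (Nat.blt c 223) (cond (Nat.blt c 212) (cond (Nat.blt c 203) (cond (Nat.blt c 202) (cond (Nat.beq c 192) [⟨171, 1, 1⟩] []) (cond (Nat.beq c 202) [⟨174, 1, 1⟩] [])) (cond (Nat.blt c 204) (cond (Nat.beq c 203) [⟨175, 1, 1⟩] []) (cond (Nat.beq c 204) [⟨176, 1, 1⟩] []))) (cond (Nat.blt c 214) (cond (Nat.blt c 213) (cond (Nat.beq c 212) [⟨179, 1, 1⟩] []) (cond (Nat.beq c 213) [⟨180, 1, 1⟩] [])) (cond (Nat.blt c 222) (cond (Nat.beq c 214) [⟨181, 1, 1⟩] []) (cond (Nat.beq c 222) [⟨189, 1, 1⟩] [])))) (cond (Nat.blt c 229) (cond (Nat.blt c 227) (cond (Nat.blt c 224) (cond (Nat.beq c 223) [⟨190, 1, 1⟩] []) (cond (Nat.beq c 224) [⟨191, 1, 1⟩] [])) (cond (Nat.blt c 228) (cond (Nat.beq c 227) [⟨199, 1, 1⟩] []) (cond (Nat.beq c 228) [⟨200, 1, 1⟩] []))) (cond (Nat.blt c 233)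 (cond (Nat.blt c 232) (cond (Nat.beq c 229) [⟨201, 1, 1⟩] []) (cond (Nat.beq c 232) [⟨211, 1, 1⟩] [])) (cond (Nat.blt c 243) (cond (Nat.beq c 233) [⟨221, 1, 1⟩] []) (cond (Nat.blt c 244) (cond (Nat.beq c 243) [⟨237, 1, 1⟩] []) (cond (Nat.beq c 244) [⟨238, 1, 1⟩] [])))))))

/-- Compiled columns of `x_88` for type E8. -/
def colsE8_88 (c : ℕ) : List CEnt :=
  cond (Nat.blt c 133) (cond (Nat.blt c 68) (cond (Nat.blt c 16) (cond (Nat.blt c 4) (cond (Nat.blt c 2) (cond (Nat.blt c 1) (cond (Nat.beq c 0) [⟨96, -1, 1⟩] []) (cond (Nat.beq c 1) [⟨96, 1, 1⟩] [])) (cond (Nat.blt c 3) (cond (Nat.beq c 2) [⟨96, 1, 1⟩] []) (cond (Nat.beq c 3) [⟨96, -1, 1⟩] []))) (cond (Nat.blt c 6) (cond (Nat.blt c 5) (cond (Nat.beq c 4) [⟨96, 0, 1⟩] []) (cond (Nat.beq c 5) [⟨96, 0, 1⟩] [])) (cond (Nat.blt c 7) (cond (Nat.beq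 c 6) [⟨96, 0, 1⟩] []) (cond (Nat.beq c 7) [⟨96, 1, 1⟩] [])))) (cond (Nat.blt c 50) (cond (Nat.blt c 33) (cond (Nat.blt c 21) (cond (Nat.beq c 16) [⟨8, 1, 1⟩] []) (cond (Nat.beq c 21) [⟨13, 1, 1⟩] [])) (cond (Nat.blt c 47) (cond (Nat.beq c 33) [⟨22, -1, 1⟩] []) (cond (Nat.beq c 47) [⟨24, 1, 1⟩] []))) (cond (Nat.blt c 53) (cond (Nat.blt c 52) (cond (Nat.beq c 50) [⟨25, 1, 1⟩] []) (cond (Nat.beq c 52) [⟨26, 1, 1⟩] [])) (cond (Nat.blt c 66) (cond (Nat.beq c 53) [⟨27, 1, 1⟩] []) (cond (Nat.beq c 66) [⟨34, -1, 1⟩] []))))) (cond (Nat.blt c 83) (cond (Nat.blt c 73) (cond (Nat.blt c 71) (cond (Nat.blt c 69) (cond (Nat.beq c 68) [⟨35, -1, 1⟩] []) (cond (Nat.beq c 69) [⟨36, -1, 1⟩] [])) (cond (Nat.blt c 72) (cond (Nat.beq c 71) [⟨38, -1, 1⟩] []) (cond (Nat.beq c 72) [⟨39, -1, 1⟩] []))) (cond (Nat.blt c 81)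 (cond (Nat.blt c 80) (cond (Nat.beq c 73) [⟨41, -1, 1⟩] []) (cond (Nat.beq c 80) [⟨54, 1, 1⟩] [])) (cond (Nat.blt c 82) (cond (Nat.beq c 81) [⟨55, 1, 1⟩] []) (cond (Nat.beq c 82) [⟨57, 1, 1⟩] [])))) (cond (Nat.blt c 116) (cond (Nat.blt c 114) (cond (Nat.blt c 85) (cond (Nat.beq c 83) [⟨60, 1, 1⟩] []) (cond (Nat.beq c 85) [⟨74, -1, 1⟩] [])) (cond (Nat.blt c 115) (cond (Nat.beq c 114) [⟨86, 1, 1⟩] []) (cond (Nat.beq c 115) [⟨87, 1, 1⟩] []))) (cond (Nat.blt c 128) (cond (Nat.blt c 117) (cond (Nat.beq c 116) [⟨89, 1, 1⟩] []) (cond (Nat.beq c 117) [⟨92, 1, 1⟩] [])) (cond (Nat.blt c 130) (cond (Nat.beq c 128) [⟨97, 1, 1⟩] []) (cond (Nat.beq c 130) [⟨98, 1, 1⟩] [])))))) (cond (Nat.blt c 195) (cond (Nat.blt c 157) (cond (Nat.blt c 149) (cond (Nat.blt c 143) (cond (Nat.blt c 137) (cond (Nat.beq c 133) [⟨99,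 1, 1⟩] []) (cond (Nat.beq c 137) [⟨100, 1, 1⟩] [])) (cond (Nat.blt c 148) (cond (Nat.beq c 143) [⟨101, 1, 1⟩] []) (cond (Nat.beq c 148) [⟨106, -1, 1⟩] []))) (cond (Nat.blt c 155) (cond (Nat.blt c 154) (cond (Nat.beq c 149) [⟨107, 1, 1⟩] []) (cond (Nat.beq c 154) [⟨112, -1, 1⟩] [])) (cond (Nat.blt c 156) (cond (Nat.beq c 155) [⟨118, -1, 1⟩] []) (cond (Nat.beq c 156) [⟨122, -1, 1⟩] [])))) (cond (Nat.blt c 166) (cond (Nat.blt c 159) (cond (Nat.blt c 158) (cond (Nat.beq c 157) [⟨125, -1, 1⟩] []) (cond (Nat.beq c 158) [⟨127, -1, 1⟩] [])) (cond (Nat.blt c 163) (cond (Nat.beq c 159) [⟨96, -1, 2⟩, ⟨0, 0, 1⟩, ⟨1, -1, 1⟩, ⟨2, -1, 1⟩, ⟨3, -1, 1⟩, ⟨4, -1, 1⟩, ⟨5, -1, 1⟩, ⟨6, -1, 1⟩, ⟨7, -1, 1⟩] []) (cond (Nat.beq c 163) [⟨138, -1, 1⟩] []))) (cond (Nat.blt c 169) (cond (Nat.blt c 168) (cond (Nat.beq c 166)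 [⟨139, -1, 1⟩] []) (cond (Nat.beq c 168) [⟨140, -1, 1⟩] [])) (cond (Nat.blt c 181) (cond (Nat.beq c 169) [⟨141, -1, 1⟩] []) (cond (Nat.beq c 181) [⟨170, 1, 1⟩] []))))) (cond (Nat.blt c 220) (cond (Nat.blt c 214) (cond (Nat.blt c 200) (cond (Nat.blt c 198) (cond (Nat.beq c 195) [⟨172, -1, 1⟩] []) (cond (Nat.beq c 198) [⟨173, -1, 1⟩] [])) (cond (Nat.blt c 201) (cond (Nat.beq c 200) [⟨174, -1, 1⟩] []) (cond (Nat.beq c 201) [⟨175, -1, 1⟩] []))) (cond (Nat.blt c 217) (cond (Nat.blt c 216) (cond (Nat.beq c 214) [⟨182, 1, 1⟩] []) (cond (Nat.beq c 216) [⟨183, 1, 1⟩] [])) (cond (Nat.blt c 219) (cond (Nat.beq c 217) [⟨184, 1, 1⟩] []) (cond (Nat.beq c 219) [⟨186, 1, 1⟩] [])))) (cond (Nat.blt c 230) (cond (Nat.blt c 228) (cond (Nat.blt c 221) (cond (Nat.beq c 220) [⟨187, 1, 1⟩] []) (cond (Nat.beq c 221) [⟨189,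 1, 1⟩] [])) (cond (Nat.blt c 229) (cond (Nat.beq c 228) [⟨202, -1, 1⟩] []) (cond (Nat.beq c 229) [⟨203, -1, 1⟩] []))) (cond (Nat.blt c 233) (cond (Nat.blt c 231) (cond (Nat.beq c 230) [⟨205, -1, 1⟩] []) (cond (Nat.beq c 231) [⟨208, -1, 1⟩] [])) (cond (Nat.blt c 242) (cond (Nat.beq c 233) [⟨222, 1, 1⟩] []) (cond (Nat.blt c 247) (cond (Nat.beq c 242) [⟨234, -1, 1⟩] []) (cond (Nat.beq c 247) [⟨239, -1, 1⟩] [])))))))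

/-- Compiled columns of `x_89` for type E8. -/
def colsE8_89 (c : ℕ) : List CEnt :=
  cond (Nat.blt c 132) (cond (Nat.blt c 67) (cond (Nat.blt c 16) (cond (Nat.blt c 4) (cond (Nat.blt c 2) (cond (Nat.blt c 1) (cond (Nat.beq c 0) [⟨97, -1, 1⟩] []) (cond (Nat.beq c 1) [⟨97, 1, 1⟩] [])) (cond (Nat.blt c 3) (cond (Nat.beq c 2) [⟨97, 1, 1⟩] []) (cond (Nat.beq c 3) [⟨97, -1, 1⟩] []))) (cond (Nat.blt c 6) (cond (Nat.blt c 5) (cond (Nat.beq c 4) [⟨97, 0, 1⟩] []) (cond (Nat.beq c 5) [⟨97, 0, 1⟩] [])) (cond (Nat.blt c 7) (cond (Nat.beq c 6) [⟨97, 1, 1⟩] []) (cond (Nat.beq c 7) [⟨97, -1, 1⟩] [])))) (cond (Nat.blt c 49) (cond (Nat.blt c 32) (cond (Nat.blt c 20) (cond (Nat.beq c 16) [⟨9, 1, 1⟩] []) (cond (Nat.beq c 20) [⟨13, -1, 1⟩] [])) (cond (Nat.blt c 46) (cond (Nat.beq c 32) [⟨22, 1, 1⟩] []) (cond (Nat.beq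 c 46) [⟨24, -1, 1⟩] []))) (cond (Nat.blt c 53) (cond (Nat.blt c 51) (cond (Nat.beq c 49) [⟨25, -1, 1⟩] []) (cond (Nat.beq c 51) [⟨26, -1, 1⟩] [])) (cond (Nat.blt c 65) (cond (Nat.beq c 53) [⟨28, 1, 1⟩] []) (cond (Nat.beq c 65) [⟨34, 1, 1⟩] []))))) (cond (Nat.blt c 83) (cond (Nat.blt c 73) (cond (Nat.blt c 70) (cond (Nat.blt c 69) (cond (Nat.beq c 67) [⟨35, 1, 1⟩] []) (cond (Nat.beq c 69) [⟨37, -1, 1⟩] [])) (cond (Nat.blt c 72) (cond (Nat.beq c 70) [⟨38, 1, 1⟩] []) (cond (Nat.beq c 72) [⟨40, -1, 1⟩] []))) (cond (Nat.blt c 81) (cond (Nat.blt c 79) (cond (Nat.beq c 73) [⟨42, -1, 1⟩] []) (cond (Nat.beq c 79) [⟨54, -1, 1⟩] [])) (cond (Nat.blt c 82) (cond (Nat.beq c 81) [⟨56, 1, 1⟩] []) (cond (Nat.beq c 82) [⟨58, 1, 1⟩] [])))) (cond (Nat.blt c 116) (cond (Nat.blt c 113) (cond (Nat.blt c 85) (cond (Nat.beq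 c 83) [⟨61, 1, 1⟩] []) (cond (Nat.beq c 85) [⟨75, -1, 1⟩] [])) (cond (Nat.blt c 115) (cond (Nat.beq c 113) [⟨86, -1, 1⟩] []) (cond (Nat.beq c 115) [⟨88, 1, 1⟩] []))) (cond (Nat.blt c 127) (cond (Nat.blt c 117) (cond (Nat.beq c 116) [⟨90, 1, 1⟩] []) (cond (Nat.beq c 117) [⟨93, 1, 1⟩] [])) (cond (Nat.blt c 129) (cond (Nat.beq c 127) [⟨96, 1, 1⟩] []) (cond (Nat.beq c 129) [⟨98, 1, 1⟩] [])))))) (cond (Nat.blt c 194) (cond (Nat.blt c 157) (cond (Nat.blt c 149) (cond (Nat.blt c 143) (cond (Nat.blt c 136) (cond (Nat.beq c 132) [⟨99, 1, 1⟩] []) (cond (Nat.beq c 136) [⟨100, 1, 1⟩] [])) (cond (Nat.blt c 147) (cond (Nat.beq c 143) [⟨102, 1, 1⟩] []) (cond (Nat.beq c 147) [⟨106, -1, 1⟩] []))) (cond (Nat.blt c 155) (cond (Nat.blt c 153) (cond (Nat.beq c 149) [⟨108, 1, 1⟩] []) (cond (Nat.beq c 153) [⟨112, -1,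 1⟩] [])) (cond (Nat.blt c 156) (cond (Nat.beq c 155) [⟨119, -1, 1⟩] []) (cond (Nat.beq c 156) [⟨123, -1, 1⟩] [])))) (cond (Nat.blt c 165) (cond (Nat.blt c 159) (cond (Nat.blt c 158) (cond (Nat.beq c 157) [⟨126, -1, 1⟩] []) (cond (Nat.beq c 158) [⟨97, -1, 2⟩, ⟨0, 0, 1⟩, ⟨1, -1, 1⟩, ⟨2, -1, 1⟩, ⟨3, -1, 1⟩, ⟨4, -1, 1⟩, ⟨5, -1, 1⟩, ⟨6, -1, 1⟩, ⟨7, 0, 1⟩] [])) (cond (Nat.blt c 162) (cond (Nat.beq c 159) [⟨128, -1, 1⟩] []) (cond (Nat.beq c 162) [⟨138, -1, 1⟩] []))) (cond (Nat.blt c 169) (cond (Nat.blt c 167) (cond (Nat.beq c 165) [⟨139, -1, 1⟩] []) (cond (Nat.beq c 167) [⟨140, -1, 1⟩] [])) (cond (Nat.blt c 180) (cond (Nat.beq c 169) [⟨142, 1, 1⟩] []) (cond (Nat.beq c 180) [⟨170, 1, 1⟩] []))))) (cond (Nat.blt c 220) (cond (Nat.blt c 213) (cond (Nat.blt c 199) (cond (Nat.blt c 197) (cond (Nat.beq c 194)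 [⟨172, -1, 1⟩] []) (cond (Nat.beq c 197) [⟨173, -1, 1⟩] [])) (cond (Nat.blt c 201) (cond (Nat.beq c 199) [⟨174, -1, 1⟩] []) (cond (Nat.beq c 201) [⟨176, 1, 1⟩] []))) (cond (Nat.blt c 217) (cond (Nat.blt c 215) (cond (Nat.beq c 213) [⟨182, 1, 1⟩] []) (cond (Nat.beq c 215) [⟨183, 1, 1⟩] [])) (cond (Nat.blt c 218) (cond (Nat.beq c 217) [⟨185, -1, 1⟩] []) (cond (Nat.beq c 218) [⟨186, 1, 1⟩] [])))) (cond (Nat.blt c 230) (cond (Nat.blt c 227) (cond (Nat.blt c 221) (cond (Nat.beq c 220) [⟨188, -1, 1⟩] []) (cond (Nat.beq c 221) [⟨190, -1, 1⟩] [])) (cond (Nat.blt c 229) (cond (Nat.beq c 227) [⟨202, -1, 1⟩] []) (cond (Nat.beq c 229) [⟨204, 1, 1⟩] []))) (cond (Nat.blt c 233) (cond (Nat.blt c 231) (cond (Nat.beq c 230) [⟨206, 1, 1⟩] []) (cond (Nat.beq c 231) [⟨209, 1, 1⟩] [])) (cond (Nat.blt c 242) (cond (Nat.beq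 c 233) [⟨223, -1, 1⟩] []) (cond (Nat.blt c 246) (cond (Nat.beq c 242) [⟨235, 1, 1⟩] []) (cond (Nat.beq c 246) [⟨239, -1, 1⟩] [])))))))

end Cfsg.Agent.Lib.Helper3.ChevM
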