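import Cfsg.Agent.Lib.Helper3.ChevM2
set_option autoImplicit false
set_option maxRecDepth 100000

namespace Cfsg.Agent.Lib.Helper3.ChevM

/-- Compiled columns of `x_90` for type E8. -/
def colsE8_90 (c : ℕ) : List CEnt :=
  cond (Nat.blt c 131) (cond (Nat.blt c 67) (cond (Nat.blt c 16) (cond (Nat.blt c 4) (cond (Nat.blt c 2) (cond (Nat.blt c 1) (cond (Nat.beq c 0) [⟨98, -1, 1⟩] []) (cond (Nat.beq c 1) [⟨98, 1, 1⟩] [])) (cond (Nat.blt c 3) (cond (Nat.beq c 2) [⟨98, 1, 1⟩] []) (cond (Nat.beq c 3) [⟨98, -1, 1⟩] []))) (cond (Nat.blt c 6) (cond (Nat.blt c 5) (cond (Nat.beq c 4) [⟨98, 0, 1⟩] []) (cond (Nat.beq c 5) [⟨98, 1, 1⟩] [])) (cond (Nat.blt c 7) (cond (Nat.beq c 6) [⟨98, -1, 1⟩] []) (cond (Nat.beq c 7) [⟨98, 0, 1⟩] [])))) (cond (Nat.blt c 48) (cond (Nat.blt c 31) (cond (Nat.blt c 19) (cond (Nat.beq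 c 16) [⟨10, 1, 1⟩] []) (cond (Nat.beq c 19) [⟨13, 1, 1⟩] [])) (cond (Nat.blt c 45) (cond (Nat.beq c 31) [⟨22, -1, 1⟩] []) (cond (Nat.beq c 45) [⟨24, 1, 1⟩] []))) (cond (Nat.blt c 52) (cond (Nat.blt c 51) (cond (Nat.beq c 48) [⟨25, 1, 1⟩] []) (cond (Nat.beq c 51) [⟨27, -1, 1⟩] [])) (cond (Nat.blt c 64) (cond (Nat.beq c 52) [⟨28, -1, 1⟩] []) (cond (Nat.beq c 64) [⟨34, -1, 1⟩] []))))) (cond (Nat.blt c 83) (cond (Nat.blt c 73) (cond (Nat.blt c 70) (cond (Nat.blt c 68) (cond (Nat.beq c 67) [⟨36, 1, 1⟩] []) (cond (Nat.beq c 68) [⟨37, 1, 1⟩] [])) (cond (Nat.blt c 71) (cond (Nat.beq c 70) [⟨39, 1, 1⟩] []) (cond (Nat.beq c 71) [⟨40, 1, 1⟩] []))) (cond (Nat.blt c 80) (cond (Nat.blt c 79) (cond (Nat.beq c 73) [⟨43, -1, 1⟩] []) (cond (Nat.beq c 79) [⟨55, -1, 1⟩] [])) (cond (Nat.blt c 82) (cond (Nat.beq c 80)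 [⟨56, -1, 1⟩] []) (cond (Nat.beq c 82) [⟨59, 1, 1⟩] [])))) (cond (Nat.blt c 116) (cond (Nat.blt c 113) (cond (Nat.blt c 85) (cond (Nat.beq c 83) [⟨62, 1, 1⟩] []) (cond (Nat.beq c 85) [⟨76, -1, 1⟩] [])) (cond (Nat.blt c 114) (cond (Nat.beq c 113) [⟨87, -1, 1⟩] []) (cond (Nat.beq c 114) [⟨88, -1, 1⟩] []))) (cond (Nat.blt c 125) (cond (Nat.blt c 117) (cond (Nat.beq c 116) [⟨91, 1, 1⟩] []) (cond (Nat.beq c 117) [⟨94, 1, 1⟩] [])) (cond (Nat.blt c 126) (cond (Nat.beq c 125) [⟨96, 1, 1⟩] []) (cond (Nat.beq c 126) [⟨97, 1, 1⟩] [])))))) (cond (Nat.blt c 193) (cond (Nat.blt c 157) (cond (Nat.blt c 149) (cond (Nat.blt c 143) (cond (Nat.blt c 135) (cond (Nat.beq c 131) [⟨99, 1, 1⟩] []) (cond (Nat.beq c 135) [⟨100, 1, 1⟩] [])) (cond (Nat.blt c 146) (cond (Nat.beq c 143) [⟨103, 1, 1⟩] []) (cond (Nat.beq c 146)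 [⟨106, -1, 1⟩] []))) (cond (Nat.blt c 155) (cond (Nat.blt c 152) (cond (Nat.beq c 149) [⟨109, 1, 1⟩] []) (cond (Nat.beq c 152) [⟨112, -1, 1⟩] [])) (cond (Nat.blt c 156) (cond (Nat.beq c 155) [⟨120, -1, 1⟩] []) (cond (Nat.beq c 156) [⟨124, -1, 1⟩] [])))) (cond (Nat.blt c 164) (cond (Nat.blt c 159) (cond (Nat.blt c 158) (cond (Nat.beq c 157) [⟨98, -1, 2⟩, ⟨0, 0, 1⟩, ⟨1, -1, 1⟩, ⟨2, -1, 1⟩, ⟨3, -1, 1⟩, ⟨4, -1, 1⟩, ⟨5, -1, 1⟩, ⟨6, 0, 1⟩, ⟨7, 0, 1⟩] []) (cond (Nat.beq c 158) [⟨129, -1, 1⟩] [])) (cond (Nat.blt c 161) (cond (Nat.beq c 159) [⟨130, -1, 1⟩] []) (cond (Nat.beq c 161) [⟨138, -1, 1⟩] []))) (cond (Nat.blt c 168) (cond (Nat.blt c 167) (cond (Nat.beq c 164) [⟨139, -1, 1⟩] []) (cond (Nat.beq c 167) [⟨141, 1, 1⟩] [])) (cond (Nat.blt c 179) (cond (Nat.beq c 168) [⟨142, 1, 1⟩] []) (cond (Nat.beq c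 179) [⟨170, 1, 1⟩] []))))) (cond (Nat.blt c 219) (cond (Nat.blt c 212) (cond (Nat.blt c 199) (cond (Nat.blt c 196) (cond (Nat.beq c 193) [⟨172, -1, 1⟩] []) (cond (Nat.beq c 196) [⟨173, -1, 1⟩] [])) (cond (Nat.blt c 200) (cond (Nat.beq c 199) [⟨175, 1, 1⟩] []) (cond (Nat.beq c 200) [⟨176, 1, 1⟩] []))) (cond (Nat.blt c 216) (cond (Nat.blt c 215) (cond (Nat.beq c 212) [⟨182, 1, 1⟩] []) (cond (Nat.beq c 215) [⟨184, -1, 1⟩] [])) (cond (Nat.blt c 218) (cond (Nat.beq c 216) [⟨185, -1, 1⟩] []) (cond (Nat.beq c 218) [⟨187, -1, 1⟩] [])))) (cond (Nat.blt c 230) (cond (Nat.blt c 227) (cond (Nat.blt c 221) (cond (Nat.beq c 219) [⟨188, -1, 1⟩] []) (cond (Nat.beq c 221) [⟨191, 1, 1⟩] [])) (cond (Nat.blt c 228) (cond (Nat.beq c 227) [⟨203, 1, 1⟩] []) (cond (Nat.beq c 228) [⟨204, 1, 1⟩] []))) (cond (Nat.blt c 233)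 (cond (Nat.blt c 231) (cond (Nat.beq c 230) [⟨207, -1, 1⟩] []) (cond (Nat.beq c 231) [⟨210, -1, 1⟩] [])) (cond (Nat.blt c 242) (cond (Nat.beq c 233) [⟨224, 1, 1⟩] []) (cond (Nat.blt c 245) (cond (Nat.beq c 242) [⟨236, -1, 1⟩] []) (cond (Nat.beq c 245) [⟨239, -1, 1⟩] [])))))))

/-- Compiled columns of `x_91` for type E8. -/
def colsE8_91 (c : ℕ) : List CEnt :=
  cond (Nat.blt c 124) (cond (Nat.blt c 65) (cond (Nat.blt c 16) (cond (Nat.blt c 4) (cond (Nat.blt c 2) (cond (Nat.blt c 1) (cond (Nat.beq c 0) [⟨99, -1, 1⟩] []) (cond (Nat.beq c 1) [⟨99, 1, 1⟩] [])) (cond (Nat.blt c 3) (cond (Nat.beq c 2) [⟨99, 1, 1⟩] []) (cond (Nat.beq c 3) [⟨99, -1, 1⟩] []))) (cond (Nat.blt c 6) (cond (Nat.blt c 5) (cond (Nat.beq c 4) [⟨99, 1, 1⟩] []) (cond (Nat.beq c 5) [⟨99, -1, 1⟩] [])) (cond (Nat.blt c 7) (cond (Nat.beq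 c 6) [⟨99, 0, 1⟩] []) (cond (Nat.beq c 7) [⟨99, 0, 1⟩] [])))) (cond (Nat.blt c 48) (cond (Nat.blt c 30) (cond (Nat.blt c 18) (cond (Nat.beq c 16) [⟨11, 1, 1⟩] []) (cond (Nat.beq c 18) [⟨13, -1, 1⟩] [])) (cond (Nat.blt c 44) (cond (Nat.beq c 30) [⟨22, 1, 1⟩] []) (cond (Nat.beq c 44) [⟨24, -1, 1⟩] []))) (cond (Nat.blt c 50) (cond (Nat.blt c 49) (cond (Nat.beq c 48) [⟨26, 1, 1⟩] []) (cond (Nat.beq c 49) [⟨27, 1, 1⟩] [])) (cond (Nat.blt c 64) (cond (Nat.beq c 50) [⟨28, 1, 1⟩] []) (cond (Nat.beq c 64) [⟨35, -1, 1⟩] []))))) (cond (Nat.blt c 83) (cond (Nat.blt c 72) (cond (Nat.blt c 70) (cond (Nat.blt c 66) (cond (Nat.beq c 65) [⟨36, -1, 1⟩] []) (cond (Nat.beq c 66) [⟨37, -1, 1⟩] [])) (cond (Nat.blt c 71) (cond (Nat.beq c 70) [⟨41, 1, 1⟩] []) (cond (Nat.beq c 71) [⟨42, 1, 1⟩] []))) (cond (Nat.blt c 80)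 (cond (Nat.blt c 79) (cond (Nat.beq c 72) [⟨43, 1, 1⟩] []) (cond (Nat.beq c 79) [⟨57, -1, 1⟩] [])) (cond (Nat.blt c 81) (cond (Nat.beq c 80) [⟨58, -1, 1⟩] []) (cond (Nat.beq c 81) [⟨59, -1, 1⟩] [])))) (cond (Nat.blt c 115) (cond (Nat.blt c 113) (cond (Nat.blt c 85) (cond (Nat.beq c 83) [⟨63, 1, 1⟩] []) (cond (Nat.beq c 85) [⟨77, -1, 1⟩] [])) (cond (Nat.blt c 114) (cond (Nat.beq c 113) [⟨89, -1, 1⟩] []) (cond (Nat.beq c 114) [⟨90, -1, 1⟩] []))) (cond (Nat.blt c 122) (cond (Nat.blt c 117) (cond (Nat.beq c 115) [⟨91, -1, 1⟩] []) (cond (Nat.beq c 117) [⟨95, 1, 1⟩] [])) (cond (Nat.blt c 123) (cond (Nat.beq c 122) [⟨96, 1, 1⟩] []) (cond (Nat.beq c 123) [⟨97, 1, 1⟩] [])))))) (cond (Nat.blt c 192) (cond (Nat.blt c 157) (cond (Nat.blt c 149) (cond (Nat.blt c 143) (cond (Nat.blt c 134) (cond (Nat.beq c 124)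 [⟨98, 1, 1⟩] []) (cond (Nat.beq c 134) [⟨100, 1, 1⟩] [])) (cond (Nat.blt c 145) (cond (Nat.beq c 143) [⟨104, 1, 1⟩] []) (cond (Nat.beq c 145) [⟨106, -1, 1⟩] []))) (cond (Nat.blt c 155) (cond (Nat.blt c 151) (cond (Nat.beq c 149) [⟨110, 1, 1⟩] []) (cond (Nat.beq c 151) [⟨112, -1, 1⟩] [])) (cond (Nat.blt c 156) (cond (Nat.beq c 155) [⟨121, -1, 1⟩] []) (cond (Nat.beq c 156) [⟨99, -1, 2⟩, ⟨0, 0, 1⟩, ⟨1, -1, 1⟩, ⟨2, -1, 1⟩, ⟨3, -1, 1⟩, ⟨4, -1, 1⟩, ⟨5, 0, 1⟩, ⟨6, 0, 1⟩, ⟨7, 0, 1⟩] [])))) (cond (Nat.blt c 164) (cond (Nat.blt c 159) (cond (Nat.blt c 158) (cond (Nat.beq c 157) [⟨131, -1, 1⟩] []) (cond (Nat.beq c 158) [⟨132, -1, 1⟩] [])) (cond (Nat.blt c 160) (cond (Nat.beq c 159) [⟨133, -1, 1⟩] []) (cond (Nat.beq c 160) [⟨138, -1, 1⟩] []))) (cond (Nat.blt c 166) (cond (Nat.blt c 165) (cond (Nat.beq c 164)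 [⟨140, 1, 1⟩] []) (cond (Nat.beq c 165) [⟨141, 1, 1⟩] [])) (cond (Nat.blt c 178) (cond (Nat.beq c 166) [⟨142, 1, 1⟩] []) (cond (Nat.beq c 178) [⟨170, 1, 1⟩] []))))) (cond (Nat.blt c 219) (cond (Nat.blt c 212) (cond (Nat.blt c 197) (cond (Nat.blt c 196) (cond (Nat.beq c 192) [⟨172, -1, 1⟩] []) (cond (Nat.beq c 196) [⟨174, 1, 1⟩] [])) (cond (Nat.blt c 198) (cond (Nat.beq c 197) [⟨175, 1, 1⟩] []) (cond (Nat.beq c 198) [⟨176, 1, 1⟩] []))) (cond (Nat.blt c 214) (cond (Nat.blt c 213) (cond (Nat.beq c 212) [⟨183, -1, 1⟩] []) (cond (Nat.beq c 213) [⟨184, -1, 1⟩] [])) (cond (Nat.blt c 218) (cond (Nat.beq c 214) [⟨185, -1, 1⟩] []) (cond (Nat.beq c 218) [⟨189, 1, 1⟩] [])))) (cond (Nat.blt c 229) (cond (Nat.blt c 227) (cond (Nat.blt c 220) (cond (Nat.beq c 219) [⟨190, 1, 1⟩] []) (cond (Nat.beq c 220) [⟨191,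 1, 1⟩] [])) (cond (Nat.blt c 228) (cond (Nat.beq c 227) [⟨205, -1, 1⟩] []) (cond (Nat.beq c 228) [⟨206, -1, 1⟩] []))) (cond (Nat.blt c 233) (cond (Nat.blt c 231) (cond (Nat.beq c 229) [⟨207, -1, 1⟩] []) (cond (Nat.beq c 231) [⟨211, 1, 1⟩] [])) (cond (Nat.blt c 242) (cond (Nat.beq c 233) [⟨225, -1, 1⟩] []) (cond (Nat.blt c 244) (cond (Nat.beq c 242) [⟨237, 1, 1⟩] []) (cond (Nat.beq c 244) [⟨239, -1, 1⟩] [])))))))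

/-- Compiled columns of `x_92` for type E8. -/
def colsE8_92 (c : ℕ) : List CEnt :=
  cond (Nat.blt c 120) (cond (Nat.blt c 65) (cond (Nat.blt c 16) (cond (Nat.blt c 4) (cond (Nat.blt c 2) (cond (Nat.blt c 1) (cond (Nat.beq c 0) [⟨100, -1, 1⟩] []) (cond (Nat.beq c 1) [⟨100, 1, 1⟩] [])) (cond (Nat.blt c 3) (cond (Nat.beq c 2) [⟨100, 1, 1⟩] []) (cond (Nat.beq c 3) [⟨100, 0, 1⟩] []))) (cond (Nat.blt c 6) (cond (Nat.blt c 5) (cond (Nat.beq c 4) [⟨100, -1, 1⟩] []) (cond (Nat.beq c 5) [⟨100, 0, 1⟩] [])) (cond (Nat.blt c 7) (cond (Nat.beq c 6) [⟨100, 0, 1⟩] []) (cond (Nat.beq c 7) [⟨100, 0, 1⟩] [])))) (cond (Nat.blt c 45) (cond (Nat.blt c 29) (cond (Nat.blt c 17) (cond (Nat.beq c 16) [⟨12, 1, 1⟩] []) (cond (Nat.beq c 17) [⟨13, 1, 1⟩] [])) (cond (Nat.blt c 44) (cond (Nat.beq c 29) [⟨22, -1, 1⟩] []) (cond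 (Nat.beq c 44) [⟨25, -1, 1⟩] []))) (cond (Nat.blt c 47) (cond (Nat.blt c 46) (cond (Nat.beq c 45) [⟨26, -1, 1⟩] []) (cond (Nat.beq c 46) [⟨27, -1, 1⟩] [])) (cond (Nat.blt c 64) (cond (Nat.beq c 47) [⟨28, -1, 1⟩] []) (cond (Nat.beq c 64) [⟨38, -1, 1⟩] []))))) (cond (Nat.blt c 82) (cond (Nat.blt c 69) (cond (Nat.blt c 67) (cond (Nat.blt c 66) (cond (Nat.beq c 65) [⟨39, -1, 1⟩] []) (cond (Nat.beq c 66) [⟨40, -1, 1⟩] [])) (cond (Nat.blt c 68) (cond (Nat.beq c 67) [⟨41, -1, 1⟩] []) (cond (Nat.beq c 68) [⟨42, -1, 1⟩] []))) (cond (Nat.blt c 80) (cond (Nat.blt c 79) (cond (Nat.beq c 69) [⟨43, -1, 1⟩] []) (cond (Nat.beq c 79) [⟨60, -1, 1⟩] [])) (cond (Nat.blt c 81) (cond (Nat.beq c 80) [⟨61, -1, 1⟩] []) (cond (Nat.beq c 81) [⟨62, -1, 1⟩] [])))) (cond (Nat.blt c 115) (cond (Nat.blt c 113) (cond (Nat.blt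 c 85) (cond (Nat.beq c 82) [⟨63, -1, 1⟩] []) (cond (Nat.beq c 85) [⟨78, -1, 1⟩] [])) (cond (Nat.blt c 114) (cond (Nat.beq c 113) [⟨92, -1, 1⟩] []) (cond (Nat.beq c 114) [⟨93, -1, 1⟩] []))) (cond (Nat.blt c 118) (cond (Nat.blt c 116) (cond (Nat.beq c 115) [⟨94, -1, 1⟩] []) (cond (Nat.beq c 116) [⟨95, -1, 1⟩] [])) (cond (Nat.blt c 119) (cond (Nat.beq c 118) [⟨96, 1, 1⟩] []) (cond (Nat.beq c 119) [⟨97, 1, 1⟩] [])))))) (cond (Nat.blt c 192) (cond (Nat.blt c 157) (cond (Nat.blt c 149) (cond (Nat.blt c 143) (cond (Nat.blt c 121) (cond (Nat.beq c 120) [⟨98, 1, 1⟩] []) (cond (Nat.beq c 121) [⟨99, 1, 1⟩] [])) (cond (Nat.blt c 144) (cond (Nat.beq c 143) [⟨105, 1, 1⟩] []) (cond (Nat.beq c 144) [⟨106, -1, 1⟩] []))) (cond (Nat.blt c 155) (cond (Nat.blt c 150) (cond (Nat.beq c 149) [⟨111, 1, 1⟩] []) (cond (Nat.beq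 c 150) [⟨112, -1, 1⟩] [])) (cond (Nat.blt c 156) (cond (Nat.beq c 155) [⟨100, -1, 2⟩, ⟨0, 0, 1⟩, ⟨1, -1, 1⟩, ⟨2, -1, 1⟩, ⟨3, -1, 1⟩, ⟨4, 0, 1⟩, ⟨5, 0, 1⟩, ⟨6, 0, 1⟩, ⟨7, 0, 1⟩] []) (cond (Nat.beq c 156) [⟨134, -1, 1⟩] [])))) (cond (Nat.blt c 161) (cond (Nat.blt c 159) (cond (Nat.blt c 158) (cond (Nat.beq c 157) [⟨135, -1, 1⟩] []) (cond (Nat.beq c 158) [⟨136, -1, 1⟩] [])) (cond (Nat.blt c 160) (cond (Nat.beq c 159) [⟨137, -1, 1⟩] []) (cond (Nat.beq c 160) [⟨139, 1, 1⟩] []))) (cond (Nat.blt c 163) (cond (Nat.blt c 162) (cond (Nat.beq c 161) [⟨140, 1, 1⟩] []) (cond (Nat.beq c 162) [⟨141, 1, 1⟩] [])) (cond (Nat.blt c 177) (cond (Nat.beq c 163) [⟨142, 1, 1⟩] []) (cond (Nat.beq c 177) [⟨170, 1, 1⟩] []))))) (cond (Nat.blt c 216) (cond (Nat.blt c 212) (cond (Nat.blt c 194) (cond (Nat.blt c 193) (cond (Nat.beq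 c 192) [⟨173, 1, 1⟩] []) (cond (Nat.beq c 193) [⟨174, 1, 1⟩] [])) (cond (Nat.blt c 195) (cond (Nat.beq c 194) [⟨175, 1, 1⟩] []) (cond (Nat.beq c 195) [⟨176, 1, 1⟩] []))) (cond (Nat.blt c 214) (cond (Nat.blt c 213) (cond (Nat.beq c 212) [⟨186, 1, 1⟩] []) (cond (Nat.beq c 213) [⟨187, 1, 1⟩] [])) (cond (Nat.blt c 215) (cond (Nat.beq c 214) [⟨188, 1, 1⟩] []) (cond (Nat.beq c 215) [⟨189, 1, 1⟩] [])))) (cond (Nat.blt c 229) (cond (Nat.blt c 227) (cond (Nat.blt c 217) (cond (Nat.beq c 216) [⟨190, 1, 1⟩] []) (cond (Nat.beq c 217) [⟨191, 1, 1⟩] [])) (cond (Nat.blt c 228) (cond (Nat.beq c 227) [⟨208, 1, 1⟩] []) (cond (Nat.beq c 228) [⟨209, 1, 1⟩] []))) (cond (Nat.blt c 233) (cond (Nat.blt c 230) (cond (Nat.beq c 229) [⟨210, 1, 1⟩] []) (cond (Nat.beq c 230) [⟨211, 1, 1⟩] [])) (cond (Nat.blt c 242) (cond (Nat.beq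 c 233) [⟨226, 1, 1⟩] []) (cond (Nat.blt c 243) (cond (Nat.beq c 242) [⟨238, -1, 1⟩] []) (cond (Nat.beq c 243) [⟨239, -1, 1⟩] [])))))))

/-- Compiled columns of `x_93` for type E8. -/
def colsE8_93 (c : ℕ) : List CEnt :=
  cond (Nat.blt c 130) (cond (Nat.blt c 58) (cond (Nat.blt c 15) (cond (Nat.blt c 4) (cond (Nat.blt c 2) (cond (Nat.blt c 1) (cond (Nat.beq c 0) [⟨101, 0, 1⟩] []) (cond (Nat.beq c 1) [⟨101, 1, 1⟩] [])) (cond (Nat.blt c 3) (cond (Nat.beq c 2) [⟨101, -1, 1⟩] []) (cond (Nat.beq c 3) [⟨101, 0, 1⟩] []))) (cond (Nat.blt c 6) (cond (Nat.blt c 5) (cond (Nat.beq c 4) [⟨101, 0, 1⟩] []) (cond (Nat.beq c 5) [⟨101, 0, 1⟩] [])) (cond (Nat.blt c 7) (cond (Nat.beq c 6) [⟨101, 0, 1⟩] []) (cond (Nat.beq c 7) [⟨101, 1, 1⟩] [])))) (cond (Nat.blt c 50) (cond (Nat.blt c 28) (cond (Nat.blt c 21) (cond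 (Nat.beq c 15) [⟨8, -1, 1⟩] []) (cond (Nat.beq c 21) [⟨14, 1, 1⟩] [])) (cond (Nat.blt c 47) (cond (Nat.beq c 28) [⟨22, 1, 1⟩] []) (cond (Nat.beq c 47) [⟨29, 1, 1⟩] []))) (cond (Nat.blt c 53) (cond (Nat.blt c 52) (cond (Nat.beq c 50) [⟨30, 1, 1⟩] []) (cond (Nat.beq c 52) [⟨31, 1, 1⟩] [])) (cond (Nat.blt c 56) (cond (Nat.beq c 53) [⟨32, 1, 1⟩] []) (cond (Nat.beq c 56) [⟨34, 1, 1⟩] []))))) (cond (Nat.blt c 83) (cond (Nat.blt c 63) (cond (Nat.blt c 61) (cond (Nat.blt c 59) (cond (Nat.beq c 58) [⟨35, 1, 1⟩] []) (cond (Nat.beq c 59) [⟨36, 1, 1⟩] [])) (cond (Nat.blt c 62) (cond (Nat.beq c 61) [⟨38, 1, 1⟩] []) (cond (Nat.beq c 62) [⟨39, 1, 1⟩] []))) (cond (Nat.blt c 81) (cond (Nat.blt c 80) (cond (Nat.beq c 63) [⟨41, 1, 1⟩] []) (cond (Nat.beq c 80) [⟨64, 1, 1⟩] [])) (cond (Nat.blt c 82) (cond (Nat.beq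 c 81) [⟨65, 1, 1⟩] []) (cond (Nat.beq c 82) [⟨67, 1, 1⟩] [])))) (cond (Nat.blt c 110) (cond (Nat.blt c 108) (cond (Nat.blt c 84) (cond (Nat.beq c 83) [⟨70, 1, 1⟩] []) (cond (Nat.beq c 84) [⟨74, 1, 1⟩] [])) (cond (Nat.blt c 109) (cond (Nat.beq c 108) [⟨86, 1, 1⟩] []) (cond (Nat.beq c 109) [⟨87, 1, 1⟩] []))) (cond (Nat.blt c 112) (cond (Nat.blt c 111) (cond (Nat.beq c 110) [⟨89, 1, 1⟩] []) (cond (Nat.beq c 111) [⟨92, 1, 1⟩] [])) (cond (Nat.blt c 128) (cond (Nat.beq c 112) [⟨96, 1, 1⟩] []) (cond (Nat.beq c 128) [⟨102, 1, 1⟩] [])))))) (cond (Nat.blt c 185) (cond (Nat.blt c 153) (cond (Nat.blt c 149) (cond (Nat.blt c 137) (cond (Nat.blt c 133) (cond (Nat.beq c 130) [⟨103, 1, 1⟩] []) (cond (Nat.beq c 133) [⟨104, 1, 1⟩] [])) (cond (Nat.blt c 142) (cond (Nat.beq c 137) [⟨105, 1, 1⟩] []) (cond (Nat.beq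 c 142) [⟨106, 1, 1⟩] []))) (cond (Nat.blt c 151) (cond (Nat.blt c 150) (cond (Nat.beq c 149) [⟨113, -1, 1⟩] []) (cond (Nat.beq c 150) [⟨118, -1, 1⟩] [])) (cond (Nat.blt c 152) (cond (Nat.beq c 151) [⟨122, -1, 1⟩] []) (cond (Nat.beq c 152) [⟨125, -1, 1⟩] [])))) (cond (Nat.blt c 166) (cond (Nat.blt c 159) (cond (Nat.blt c 154) (cond (Nat.beq c 153) [⟨127, -1, 1⟩] []) (cond (Nat.beq c 154) [⟨101, -1, 2⟩, ⟨0, 0, 1⟩, ⟨1, -1, 1⟩, ⟨2, 0, 1⟩, ⟨3, -1, 1⟩, ⟨4, -1, 1⟩, ⟨5, -1, 1⟩, ⟨6, -1, 1⟩, ⟨7, -1, 1⟩] [])) (cond (Nat.blt c 163) (cond (Nat.beq c 159) [⟨143, -1, 1⟩] []) (cond (Nat.beq c 163) [⟨144, -1, 1⟩] []))) (cond (Nat.blt c 169) (cond (Nat.blt c 168) (cond (Nat.beq c 166) [⟨145, -1, 1⟩] []) (cond (Nat.beq c 168) [⟨146, -1, 1⟩] [])) (cond (Nat.blt c 181) (cond (Nat.beq c 169) [⟨147, -1, 1⟩] []) (cond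 (Nat.beq c 181) [⟨171, -1, 1⟩] []))))) (cond (Nat.blt c 220) (cond (Nat.blt c 214) (cond (Nat.blt c 190) (cond (Nat.blt c 188) (cond (Nat.beq c 185) [⟨172, -1, 1⟩] []) (cond (Nat.beq c 188) [⟨173, -1, 1⟩] [])) (cond (Nat.blt c 191) (cond (Nat.beq c 190) [⟨174, -1, 1⟩] []) (cond (Nat.beq c 191) [⟨175, -1, 1⟩] []))) (cond (Nat.blt c 217) (cond (Nat.blt c 216) (cond (Nat.beq c 214) [⟨192, -1, 1⟩] []) (cond (Nat.beq c 216) [⟨193, -1, 1⟩] [])) (cond (Nat.blt c 219) (cond (Nat.beq c 217) [⟨194, -1, 1⟩] []) (cond (Nat.beq c 219) [⟨196, -1, 1⟩] [])))) (cond (Nat.blt c 225) (cond (Nat.blt c 223) (cond (Nat.blt c 221) (cond (Nat.beq c 220) [⟨197, -1, 1⟩] []) (cond (Nat.beq c 221) [⟨199, -1, 1⟩] [])) (cond (Nat.blt c 224) (cond (Nat.beq c 223) [⟨202, -1, 1⟩] []) (cond (Nat.beq c 224) [⟨203, -1, 1⟩] [])))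 (cond (Nat.blt c 233) (cond (Nat.blt c 226) (cond (Nat.beq c 225) [⟨205, -1, 1⟩] []) (cond (Nat.beq c 226) [⟨208, -1, 1⟩] [])) (cond (Nat.blt c 241) (cond (Nat.beq c 233) [⟨227, -1, 1⟩] []) (cond (Nat.blt c 247) (cond (Nat.beq c 241) [⟨234, -1, 1⟩] []) (cond (Nat.beq c 247) [⟨240, 1, 1⟩] [])))))))

/-- Compiled columns of `x_94` for type E8. -/
def colsE8_94 (c : ℕ) : List CEnt :=
  cond (Nat.blt c 129) (cond (Nat.blt c 57) (cond (Nat.blt c 15) (cond (Nat.blt c 4) (cond (Nat.blt c 2) (cond (Nat.blt c 1) (cond (Nat.beq c 0) [⟨102, 0, 1⟩] []) (cond (Nat.beq c 1) [⟨102, 1, 1⟩] [])) (cond (Nat.blt c 3) (cond (Nat.beq c 2) [⟨102, -1, 1⟩] []) (cond (Nat.beq c 3) [⟨102, 0, 1⟩] []))) (cond (Nat.blt c 6) (cond (Nat.blt c 5) (cond (Nat.beq c 4) [⟨102, 0, 1⟩] []) (cond (Nat.beq c 5) [⟨102, 0, 1⟩] [])) (cond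 (Nat.blt c 7) (cond (Nat.beq c 6) [⟨102, 1, 1⟩] []) (cond (Nat.beq c 7) [⟨102, -1, 1⟩] [])))) (cond (Nat.blt c 49) (cond (Nat.blt c 27) (cond (Nat.blt c 20) (cond (Nat.beq c 15) [⟨9, -1, 1⟩] []) (cond (Nat.beq c 20) [⟨14, -1, 1⟩] [])) (cond (Nat.blt c 46) (cond (Nat.beq c 27) [⟨22, -1, 1⟩] []) (cond (Nat.beq c 46) [⟨29, -1, 1⟩] []))) (cond (Nat.blt c 53) (cond (Nat.blt c 51) (cond (Nat.beq c 49) [⟨30, -1, 1⟩] []) (cond (Nat.beq c 51) [⟨31, -1, 1⟩] [])) (cond (Nat.blt c 55) (cond (Nat.beq c 53) [⟨33, 1, 1⟩] []) (cond (Nat.beq c 55) [⟨34, -1, 1⟩] []))))) (cond (Nat.blt c 83) (cond (Nat.blt c 63) (cond (Nat.blt c 60) (cond (Nat.blt c 59) (cond (Nat.beq c 57) [⟨35, -1, 1⟩] []) (cond (Nat.beq c 59) [⟨37, 1, 1⟩] [])) (cond (Nat.blt c 62) (cond (Nat.beq c 60) [⟨38, -1, 1⟩] []) (cond (Nat.beq c 62) [⟨40,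 1, 1⟩] []))) (cond (Nat.blt c 81) (cond (Nat.blt c 79) (cond (Nat.beq c 63) [⟨42, 1, 1⟩] []) (cond (Nat.beq c 79) [⟨64, -1, 1⟩] [])) (cond (Nat.blt c 82) (cond (Nat.beq c 81) [⟨66, 1, 1⟩] []) (cond (Nat.beq c 82) [⟨68, 1, 1⟩] [])))) (cond (Nat.blt c 110) (cond (Nat.blt c 107) (cond (Nat.blt c 84) (cond (Nat.beq c 83) [⟨71, 1, 1⟩] []) (cond (Nat.beq c 84) [⟨75, 1, 1⟩] [])) (cond (Nat.blt c 109) (cond (Nat.beq c 107) [⟨86, -1, 1⟩] []) (cond (Nat.beq c 109) [⟨88, 1, 1⟩] []))) (cond (Nat.blt c 112) (cond (Nat.blt c 111) (cond (Nat.beq c 110) [⟨90, 1, 1⟩] []) (cond (Nat.beq c 111) [⟨93, 1, 1⟩] [])) (cond (Nat.blt c 127) (cond (Nat.beq c 112) [⟨97, 1, 1⟩] []) (cond (Nat.beq c 127) [⟨101, 1, 1⟩] [])))))) (cond (Nat.blt c 184) (cond (Nat.blt c 153) (cond (Nat.blt c 149) (cond (Nat.blt c 136) (cond (Nat.blt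 c 132) (cond (Nat.beq c 129) [⟨103, 1, 1⟩] []) (cond (Nat.beq c 132) [⟨104, 1, 1⟩] [])) (cond (Nat.blt c 141) (cond (Nat.beq c 136) [⟨105, 1, 1⟩] []) (cond (Nat.beq c 141) [⟨106, 1, 1⟩] []))) (cond (Nat.blt c 151) (cond (Nat.blt c 150) (cond (Nat.beq c 149) [⟨114, -1, 1⟩] []) (cond (Nat.beq c 150) [⟨119, -1, 1⟩] [])) (cond (Nat.blt c 152) (cond (Nat.beq c 151) [⟨123, -1, 1⟩] []) (cond (Nat.beq c 152) [⟨126, -1, 1⟩] [])))) (cond (Nat.blt c 165) (cond (Nat.blt c 158) (cond (Nat.blt c 154) (cond (Nat.beq c 153) [⟨102, -1, 2⟩, ⟨0, 0, 1⟩, ⟨1, -1, 1⟩, ⟨2, 0, 1⟩, ⟨3, -1, 1⟩, ⟨4, -1, 1⟩, ⟨5, -1, 1⟩, ⟨6, -1, 1⟩, ⟨7, 0, 1⟩] []) (cond (Nat.beq c 154) [⟨128, -1, 1⟩] [])) (cond (Nat.blt c 162) (cond (Nat.beq c 158) [⟨143, -1, 1⟩] []) (cond (Nat.beq c 162) [⟨144, -1, 1⟩] []))) (cond (Nat.blt c 169) (cond (Nat.blt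 c 167) (cond (Nat.beq c 165) [⟨145, -1, 1⟩] []) (cond (Nat.beq c 167) [⟨146, -1, 1⟩] [])) (cond (Nat.blt c 180) (cond (Nat.beq c 169) [⟨148, 1, 1⟩] []) (cond (Nat.beq c 180) [⟨171, -1, 1⟩] []))))) (cond (Nat.blt c 220) (cond (Nat.blt c 213) (cond (Nat.blt c 189) (cond (Nat.blt c 187) (cond (Nat.beq c 184) [⟨172, -1, 1⟩] []) (cond (Nat.beq c 187) [⟨173, -1, 1⟩] [])) (cond (Nat.blt c 191) (cond (Nat.beq c 189) [⟨174, -1, 1⟩] []) (cond (Nat.beq c 191) [⟨176, 1, 1⟩] []))) (cond (Nat.blt c 217) (cond (Nat.blt c 215) (cond (Nat.beq c 213) [⟨192, -1, 1⟩] []) (cond (Nat.beq c 215) [⟨193, -1, 1⟩] [])) (cond (Nat.blt c 218) (cond (Nat.beq c 217) [⟨195, 1, 1⟩] []) (cond (Nat.beq c 218) [⟨196, -1, 1⟩] [])))) (cond (Nat.blt c 225) (cond (Nat.blt c 222) (cond (Nat.blt c 221) (cond (Nat.beq c 220) [⟨198, 1, 1⟩]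 []) (cond (Nat.beq c 221) [⟨200, 1, 1⟩] [])) (cond (Nat.blt c 224) (cond (Nat.beq c 222) [⟨202, -1, 1⟩] []) (cond (Nat.beq c 224) [⟨204, 1, 1⟩] []))) (cond (Nat.blt c 233) (cond (Nat.blt c 226) (cond (Nat.beq c 225) [⟨206, 1, 1⟩] []) (cond (Nat.beq c 226) [⟨209, 1, 1⟩] [])) (cond (Nat.blt c 241) (cond (Nat.beq c 233) [⟨228, 1, 1⟩] []) (cond (Nat.blt c 246) (cond (Nat.beq c 241) [⟨235, 1, 1⟩] []) (cond (Nat.beq c 246) [⟨240, 1, 1⟩] [])))))))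

/-- Compiled columns of `x_95` for type E8. -/
def colsE8_95 (c : ℕ) : List CEnt :=
  cond (Nat.blt c 126) (cond (Nat.blt c 57) (cond (Nat.blt c 15) (cond (Nat.blt c 4) (cond (Nat.blt c 2) (cond (Nat.blt c 1) (cond (Nat.beq c 0) [⟨103, 0, 1⟩] []) (cond (Nat.beq c 1) [⟨103, 1, 1⟩] [])) (cond (Nat.blt c 3) (cond (Nat.beq c 2) [⟨103, -1, 1⟩] []) (cond (Nat.beq c 3) [⟨103, 0, 1⟩] []))) (cond (Nat.blt c 6) (cond (Nat.blt c 5) (cond (Nat.beq c 4) [⟨103, 0, 1⟩] []) (cond (Nat.beq c 5) [⟨103, 1, 1⟩] [])) (cond (Nat.blt c 7) (cond (Nat.beq c 6) [⟨103, -1, 1⟩] []) (cond (Nat.beq c 7) [⟨103, 0, 1⟩] [])))) (cond (Nat.blt c 48) (cond (Nat.blt c 26) (cond (Nat.blt c 19) (cond (Nat.beq c 15) [⟨10, -1, 1⟩] []) (cond (Nat.beq c 19) [⟨14, 1, 1⟩] [])) (cond (Nat.blt c 45) (cond (Nat.beq c 26) [⟨22, 1, 1⟩] []) (cond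 (Nat.beq c 45) [⟨29, 1, 1⟩] []))) (cond (Nat.blt c 52) (cond (Nat.blt c 51) (cond (Nat.beq c 48) [⟨30, 1, 1⟩] []) (cond (Nat.beq c 51) [⟨32, -1, 1⟩] [])) (cond (Nat.blt c 54) (cond (Nat.beq c 52) [⟨33, -1, 1⟩] []) (cond (Nat.beq c 54) [⟨34, 1, 1⟩] []))))) (cond (Nat.blt c 83) (cond (Nat.blt c 63) (cond (Nat.blt c 60) (cond (Nat.blt c 58) (cond (Nat.beq c 57) [⟨36, -1, 1⟩] []) (cond (Nat.beq c 58) [⟨37, -1, 1⟩] [])) (cond (Nat.blt c 61) (cond (Nat.beq c 60) [⟨39, -1, 1⟩] []) (cond (Nat.beq c 61) [⟨40, -1, 1⟩] []))) (cond (Nat.blt c 80) (cond (Nat.blt c 79) (cond (Nat.beq c 63) [⟨43, 1, 1⟩] []) (cond (Nat.beq c 79) [⟨65, -1, 1⟩] [])) (cond (Nat.blt c 82) (cond (Nat.beq c 80) [⟨66, -1, 1⟩] []) (cond (Nat.beq c 82) [⟨69, 1, 1⟩] [])))) (cond (Nat.blt c 110) (cond (Nat.blt c 107) (cond (Nat.blt c 84)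 (cond (Nat.beq c 83) [⟨72, 1, 1⟩] []) (cond (Nat.beq c 84) [⟨76, 1, 1⟩] [])) (cond (Nat.blt c 108) (cond (Nat.beq c 107) [⟨87, -1, 1⟩] []) (cond (Nat.beq c 108) [⟨88, -1, 1⟩] []))) (cond (Nat.blt c 112) (cond (Nat.blt c 111) (cond (Nat.beq c 110) [⟨91, 1, 1⟩] []) (cond (Nat.beq c 111) [⟨94, 1, 1⟩] [])) (cond (Nat.blt c 125) (cond (Nat.beq c 112) [⟨98, 1, 1⟩] []) (cond (Nat.beq c 125) [⟨101, 1, 1⟩] [])))))) (cond (Nat.blt c 183) (cond (Nat.blt c 153) (cond (Nat.blt c 149) (cond (Nat.blt c 135) (cond (Nat.blt c 131) (cond (Nat.beq c 126) [⟨102, 1, 1⟩] []) (cond (Nat.beq c 131) [⟨104, 1, 1⟩] [])) (cond (Nat.blt c 140) (cond (Nat.beq c 135) [⟨105, 1, 1⟩] []) (cond (Nat.beq c 140) [⟨106, 1, 1⟩] []))) (cond (Nat.blt c 151) (cond (Nat.blt c 150) (cond (Nat.beq c 149) [⟨115, -1, 1⟩] []) (cond (Nat.beq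 c 150) [⟨120, -1, 1⟩] [])) (cond (Nat.blt c 152) (cond (Nat.beq c 151) [⟨124, -1, 1⟩] []) (cond (Nat.beq c 152) [⟨103, -1, 2⟩, ⟨0, 0, 1⟩, ⟨1, -1, 1⟩, ⟨2, 0, 1⟩, ⟨3, -1, 1⟩, ⟨4, -1, 1⟩, ⟨5, -1, 1⟩, ⟨6, 0, 1⟩, ⟨7, 0, 1⟩] [])))) (cond (Nat.blt c 164) (cond (Nat.blt c 157) (cond (Nat.blt c 154) (cond (Nat.beq c 153) [⟨129, -1, 1⟩] []) (cond (Nat.beq c 154) [⟨130, -1, 1⟩] [])) (cond (Nat.blt c 161) (cond (Nat.beq c 157) [⟨143, -1, 1⟩] []) (cond (Nat.beq c 161) [⟨144, -1, 1⟩] []))) (cond (Nat.blt c 168) (cond (Nat.blt c 167) (cond (Nat.beq c 164) [⟨145, -1, 1⟩] []) (cond (Nat.beq c 167) [⟨147, 1, 1⟩] [])) (cond (Nat.blt c 179) (cond (Nat.beq c 168) [⟨148, 1, 1⟩] []) (cond (Nat.beq c 179) [⟨171, -1, 1⟩] []))))) (cond (Nat.blt c 219) (cond (Nat.blt c 212) (cond (Nat.blt c 189) (cond (Nat.blt c 186) (cond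 (Nat.beq c 183) [⟨172, -1, 1⟩] []) (cond (Nat.beq c 186) [⟨173, -1, 1⟩] [])) (cond (Nat.blt c 190) (cond (Nat.beq c 189) [⟨175, 1, 1⟩] []) (cond (Nat.beq c 190) [⟨176, 1, 1⟩] []))) (cond (Nat.blt c 216) (cond (Nat.blt c 215) (cond (Nat.beq c 212) [⟨192, -1, 1⟩] []) (cond (Nat.beq c 215) [⟨194, 1, 1⟩] [])) (cond (Nat.blt c 218) (cond (Nat.beq c 216) [⟨195, 1, 1⟩] []) (cond (Nat.beq c 218) [⟨197, 1, 1⟩] [])))) (cond (Nat.blt c 225) (cond (Nat.blt c 222) (cond (Nat.blt c 221) (cond (Nat.beq c 219) [⟨198, 1, 1⟩] []) (cond (Nat.beq c 221) [⟨201, -1, 1⟩] [])) (cond (Nat.blt c 223) (cond (Nat.beq c 222) [⟨203, 1, 1⟩] []) (cond (Nat.beq c 223) [⟨204, 1, 1⟩] []))) (cond (Nat.blt c 233) (cond (Nat.blt c 226) (cond (Nat.beq c 225) [⟨207, -1, 1⟩] []) (cond (Nat.beq c 226) [⟨210, -1, 1⟩] [])) (cond (Nat.blt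 c 241) (cond (Nat.beq c 233) [⟨229, -1, 1⟩] []) (cond (Nat.blt c 245) (cond (Nat.beq c 241) [⟨236, -1, 1⟩] []) (cond (Nat.beq c 245) [⟨240, 1, 1⟩] [])))))))

/-- Compiled columns of `x_96` for type E8. -/
def colsE8_96 (c : ℕ) : List CEnt :=
  cond (Nat.blt c 123) (cond (Nat.blt c 55) (cond (Nat.blt c 15) (cond (Nat.blt c 4) (cond (Nat.blt c 2) (cond (Nat.blt c 1) (cond (Nat.beq c 0) [⟨104, 0, 1⟩] []) (cond (Nat.beq c 1) [⟨104, 1, 1⟩] [])) (cond (Nat.blt c 3) (cond (Nat.beq c 2) [⟨104, -1, 1⟩] []) (cond (Nat.beq c 3) [⟨104, 0, 1⟩] []))) (cond (Nat.blt c 6) (cond (Nat.blt c 5) (cond (Nat.beq c 4) [⟨104, 1, 1⟩] []) (cond (Nat.beq c 5) [⟨104, -1, 1⟩] [])) (cond (Nat.blt c 7) (cond (Nat.beq c 6) [⟨104, 0, 1⟩] []) (cond (Nat.beq c 7) [⟨104, 0, 1⟩] [])))) (cond (Nat.blt c 48) (cond (Nat.blt c 25) (cond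 (Nat.blt c 18) (cond (Nat.beq c 15) [⟨11, -1, 1⟩] []) (cond (Nat.beq c 18) [⟨14, -1, 1⟩] [])) (cond (Nat.blt c 44) (cond (Nat.beq c 25) [⟨22, -1, 1⟩] []) (cond (Nat.beq c 44) [⟨29, -1, 1⟩] []))) (cond (Nat.blt c 50) (cond (Nat.blt c 49) (cond (Nat.beq c 48) [⟨31, 1, 1⟩] []) (cond (Nat.beq c 49) [⟨32, 1, 1⟩] [])) (cond (Nat.blt c 54) (cond (Nat.beq c 50) [⟨33, 1, 1⟩] []) (cond (Nat.beq c 54) [⟨35, 1, 1⟩] []))))) (cond (Nat.blt c 83) (cond (Nat.blt c 62) (cond (Nat.blt c 60) (cond (Nat.blt c 56) (cond (Nat.beq c 55) [⟨36, 1, 1⟩] []) (cond (Nat.beq c 56) [⟨37, 1, 1⟩] [])) (cond (Nat.blt c 61) (cond (Nat.beq c 60) [⟨41, -1, 1⟩] []) (cond (Nat.beq c 61) [⟨42, -1, 1⟩] []))) (cond (Nat.blt c 80) (cond (Nat.blt c 79) (cond (Nat.beq c 62) [⟨43, -1, 1⟩] []) (cond (Nat.beq c 79) [⟨67, -1, 1⟩] [])) (cond (Nat.blt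 c 81) (cond (Nat.beq c 80) [⟨68, -1, 1⟩] []) (cond (Nat.beq c 81) [⟨69, -1, 1⟩] [])))) (cond (Nat.blt c 109) (cond (Nat.blt c 107) (cond (Nat.blt c 84) (cond (Nat.beq c 83) [⟨73, 1, 1⟩] []) (cond (Nat.beq c 84) [⟨77, 1, 1⟩] [])) (cond (Nat.blt c 108) (cond (Nat.beq c 107) [⟨89, -1, 1⟩] []) (cond (Nat.beq c 108) [⟨90, -1, 1⟩] []))) (cond (Nat.blt c 112) (cond (Nat.blt c 111) (cond (Nat.beq c 109) [⟨91, -1, 1⟩] []) (cond (Nat.beq c 111) [⟨95, 1, 1⟩] [])) (cond (Nat.blt c 122) (cond (Nat.beq c 112) [⟨99, 1, 1⟩] []) (cond (Nat.beq c 122) [⟨101, 1, 1⟩] [])))))) (cond (Nat.blt c 182) (cond (Nat.blt c 153) (cond (Nat.blt c 149) (cond (Nat.blt c 134) (cond (Nat.blt c 124) (cond (Nat.beq c 123) [⟨102, 1, 1⟩] []) (cond (Nat.beq c 124) [⟨103, 1, 1⟩] [])) (cond (Nat.blt c 139) (cond (Nat.beq c 134) [⟨105,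 1, 1⟩] []) (cond (Nat.beq c 139) [⟨106, 1, 1⟩] []))) (cond (Nat.blt c 151) (cond (Nat.blt c 150) (cond (Nat.beq c 149) [⟨116, -1, 1⟩] []) (cond (Nat.beq c 150) [⟨121, -1, 1⟩] [])) (cond (Nat.blt c 152) (cond (Nat.beq c 151) [⟨104, -1, 2⟩, ⟨0, 0, 1⟩, ⟨1, -1, 1⟩, ⟨2, 0, 1⟩, ⟨3, -1, 1⟩, ⟨4, -1, 1⟩, ⟨5, 0, 1⟩, ⟨6, 0, 1⟩, ⟨7, 0, 1⟩] []) (cond (Nat.beq c 152) [⟨131, -1, 1⟩] [])))) (cond (Nat.blt c 164) (cond (Nat.blt c 156) (cond (Nat.blt c 154) (cond (Nat.beq c 153) [⟨132, -1, 1⟩] []) (cond (Nat.beq c 154) [⟨133, -1, 1⟩] [])) (cond (Nat.blt c 160) (cond (Nat.beq c 156) [⟨143, -1, 1⟩] []) (cond (Nat.beq c 160) [⟨144, -1, 1⟩] []))) (cond (Nat.blt c 166) (cond (Nat.blt c 165) (cond (Nat.beq c 164) [⟨146, 1, 1⟩] []) (cond (Nat.beq c 165) [⟨147, 1, 1⟩] [])) (cond (Nat.blt c 178) (cond (Nat.beq c 166) [⟨148,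 1, 1⟩] []) (cond (Nat.beq c 178) [⟨171, -1, 1⟩] []))))) (cond (Nat.blt c 219) (cond (Nat.blt c 212) (cond (Nat.blt c 187) (cond (Nat.blt c 186) (cond (Nat.beq c 182) [⟨172, -1, 1⟩] []) (cond (Nat.beq c 186) [⟨174, 1, 1⟩] [])) (cond (Nat.blt c 188) (cond (Nat.beq c 187) [⟨175, 1, 1⟩] []) (cond (Nat.beq c 188) [⟨176, 1, 1⟩] []))) (cond (Nat.blt c 214) (cond (Nat.blt c 213) (cond (Nat.beq c 212) [⟨193, 1, 1⟩] []) (cond (Nat.beq c 213) [⟨194, 1, 1⟩] [])) (cond (Nat.blt c 218) (cond (Nat.beq c 214) [⟨195, 1, 1⟩] []) (cond (Nat.beq c 218) [⟨199, -1, 1⟩] [])))) (cond (Nat.blt c 224) (cond (Nat.blt c 222) (cond (Nat.blt c 220) (cond (Nat.beq c 219) [⟨200, -1, 1⟩] []) (cond (Nat.beq c 220) [⟨201, -1, 1⟩] [])) (cond (Nat.blt c 223) (cond (Nat.beq c 222) [⟨205, -1, 1⟩] []) (cond (Nat.beq c 223) [⟨206, -1,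 1⟩] []))) (cond (Nat.blt c 233) (cond (Nat.blt c 226) (cond (Nat.beq c 224) [⟨207, -1, 1⟩] []) (cond (Nat.beq c 226) [⟨211, 1, 1⟩] [])) (cond (Nat.blt c 241) (cond (Nat.beq c 233) [⟨230, 1, 1⟩] []) (cond (Nat.blt c 244) (cond (Nat.beq c 241) [⟨237, 1, 1⟩] []) (cond (Nat.beq c 244) [⟨240, 1, 1⟩] [])))))))

/-- Compiled columns of `x_97` for type E8. -/
def colsE8_97 (c : ℕ) : List CEnt :=
  cond (Nat.blt c 119) (cond (Nat.blt c 55) (cond (Nat.blt c 15) (cond (Nat.blt c 4) (cond (Nat.blt c 2) (cond (Nat.blt c 1) (cond (Nat.beq c 0) [⟨105, 0, 1⟩] []) (cond (Nat.beq c 1) [⟨105, 1, 1⟩] [])) (cond (Nat.blt c 3) (cond (Nat.beq c 2) [⟨105, -1, 1⟩] []) (cond (Nat.beq c 3) [⟨105, 1, 1⟩] []))) (cond (Nat.blt c 6) (cond (Nat.blt c 5) (cond (Nat.beq c 4) [⟨105, -1, 1⟩] []) (cond (Nat.beq c 5) [⟨105, 0, 1⟩]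 [])) (cond (Nat.blt c 7) (cond (Nat.beq c 6) [⟨105, 0, 1⟩] []) (cond (Nat.beq c 7) [⟨105, 0, 1⟩] [])))) (cond (Nat.blt c 45) (cond (Nat.blt c 24) (cond (Nat.blt c 17) (cond (Nat.beq c 15) [⟨12, -1, 1⟩] []) (cond (Nat.beq c 17) [⟨14, 1, 1⟩] [])) (cond (Nat.blt c 44) (cond (Nat.beq c 24) [⟨22, 1, 1⟩] []) (cond (Nat.beq c 44) [⟨30, -1, 1⟩] []))) (cond (Nat.blt c 47) (cond (Nat.blt c 46) (cond (Nat.beq c 45) [⟨31, -1, 1⟩] []) (cond (Nat.beq c 46) [⟨32, -1, 1⟩] [])) (cond (Nat.blt c 54) (cond (Nat.beq c 47) [⟨33, -1, 1⟩] []) (cond (Nat.beq c 54) [⟨38, 1, 1⟩] []))))) (cond (Nat.blt c 82) (cond (Nat.blt c 59) (cond (Nat.blt c 57) (cond (Nat.blt c 56) (cond (Nat.beq c 55) [⟨39, 1, 1⟩] []) (cond (Nat.beq c 56) [⟨40, 1, 1⟩] [])) (cond (Nat.blt c 58) (cond (Nat.beq c 57) [⟨41, 1, 1⟩] []) (cond (Nat.beq c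 58) [⟨42, 1, 1⟩] []))) (cond (Nat.blt c 80) (cond (Nat.blt c 79) (cond (Nat.beq c 59) [⟨43, 1, 1⟩] []) (cond (Nat.beq c 79) [⟨70, -1, 1⟩] [])) (cond (Nat.blt c 81) (cond (Nat.beq c 80) [⟨71, -1, 1⟩] []) (cond (Nat.beq c 81) [⟨72, -1, 1⟩] [])))) (cond (Nat.blt c 109) (cond (Nat.blt c 107) (cond (Nat.blt c 84) (cond (Nat.beq c 82) [⟨73, -1, 1⟩] []) (cond (Nat.beq c 84) [⟨78, 1, 1⟩] [])) (cond (Nat.blt c 108) (cond (Nat.beq c 107) [⟨92, -1, 1⟩] []) (cond (Nat.beq c 108) [⟨93, -1, 1⟩] []))) (cond (Nat.blt c 112) (cond (Nat.blt c 110) (cond (Nat.beq c 109) [⟨94, -1, 1⟩] []) (cond (Nat.beq c 110) [⟨95, -1, 1⟩] [])) (cond (Nat.blt c 118) (cond (Nat.beq c 112) [⟨100, 1, 1⟩] []) (cond (Nat.beq c 118) [⟨101, 1, 1⟩] [])))))) (cond (Nat.blt c 182) (cond (Nat.blt c 153) (cond (Nat.blt c 149) (cond (Nat.blt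 c 121) (cond (Nat.blt c 120) (cond (Nat.beq c 119) [⟨102, 1, 1⟩] []) (cond (Nat.beq c 120) [⟨103, 1, 1⟩] [])) (cond (Nat.blt c 138) (cond (Nat.beq c 121) [⟨104, 1, 1⟩] []) (cond (Nat.beq c 138) [⟨106, 1, 1⟩] []))) (cond (Nat.blt c 151) (cond (Nat.blt c 150) (cond (Nat.beq c 149) [⟨117, -1, 1⟩] []) (cond (Nat.beq c 150) [⟨105, -1, 2⟩, ⟨0, 0, 1⟩, ⟨1, -1, 1⟩, ⟨2, 0, 1⟩, ⟨3, -1, 1⟩, ⟨4, 0, 1⟩, ⟨5, 0, 1⟩, ⟨6, 0, 1⟩, ⟨7, 0, 1⟩] [])) (cond (Nat.blt c 152) (cond (Nat.beq c 151) [⟨134, -1, 1⟩] []) (cond (Nat.beq c 152) [⟨135, -1, 1⟩] [])))) (cond (Nat.blt c 161) (cond (Nat.blt c 155) (cond (Nat.blt c 154) (cond (Nat.beq c 153) [⟨136, -1, 1⟩] []) (cond (Nat.beq c 154) [⟨137, -1, 1⟩] [])) (cond (Nat.blt c 160) (cond (Nat.beq c 155) [⟨143, -1, 1⟩] []) (cond (Nat.beq c 160) [⟨145, 1, 1⟩] []))) (cond (Nat.blt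 c 163) (cond (Nat.blt c 162) (cond (Nat.beq c 161) [⟨146, 1, 1⟩] []) (cond (Nat.beq c 162) [⟨147, 1, 1⟩] [])) (cond (Nat.blt c 177) (cond (Nat.beq c 163) [⟨148, 1, 1⟩] []) (cond (Nat.beq c 177) [⟨171, -1, 1⟩] []))))) (cond (Nat.blt c 216) (cond (Nat.blt c 212) (cond (Nat.blt c 184) (cond (Nat.blt c 183) (cond (Nat.beq c 182) [⟨173, 1, 1⟩] []) (cond (Nat.beq c 183) [⟨174, 1, 1⟩] [])) (cond (Nat.blt c 185) (cond (Nat.beq c 184) [⟨175, 1, 1⟩] []) (cond (Nat.beq c 185) [⟨176, 1, 1⟩] []))) (cond (Nat.blt c 214) (cond (Nat.blt c 213) (cond (Nat.beq c 212) [⟨196, -1, 1⟩] []) (cond (Nat.beq c 213) [⟨197, -1, 1⟩] [])) (cond (Nat.blt c 215) (cond (Nat.beq c 214) [⟨198, -1, 1⟩] []) (cond (Nat.beq c 215) [⟨199, -1, 1⟩] [])))) (cond (Nat.blt c 224) (cond (Nat.blt c 222) (cond (Nat.blt c 217) (cond (Nat.beq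 c 216) [⟨200, -1, 1⟩] []) (cond (Nat.beq c 217) [⟨201, -1, 1⟩] [])) (cond (Nat.blt c 223) (cond (Nat.beq c 222) [⟨208, 1, 1⟩] []) (cond (Nat.beq c 223) [⟨209, 1, 1⟩] []))) (cond (Nat.blt c 233) (cond (Nat.blt c 225) (cond (Nat.beq c 224) [⟨210, 1, 1⟩] []) (cond (Nat.beq c 225) [⟨211, 1, 1⟩] [])) (cond (Nat.blt c 241) (cond (Nat.beq c 233) [⟨231, -1, 1⟩] []) (cond (Nat.blt c 243) (cond (Nat.beq c 241) [⟨238, -1, 1⟩] []) (cond (Nat.beq c 243) [⟨240, 1, 1⟩] [])))))))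

/-- Compiled columns of `x_98` for type E8. -/
def colsE8_98 (c : ℕ) : List CEnt :=
  cond (Nat.blt c 114) (cond (Nat.blt c 49) (cond (Nat.blt c 15) (cond (Nat.blt c 4) (cond (Nat.blt c 2) (cond (Nat.blt c 1) (cond (Nat.beq c 0) [⟨106, 0, 1⟩] []) (cond (Nat.beq c 1) [⟨106, 2, 1⟩] [])) (cond (Nat.blt c 3) (cond (Nat.beq c 2) [⟨106, 0, 1⟩] []) (cond (Nat.beq c 3) [⟨106, -1, 1⟩] []))) (cond (Nat.blt c 6) (cond (Nat.blt c 5) (cond (Nat.beq c 4) [⟨106, 0, 1⟩] []) (cond (Nat.beq c 5) [⟨106, 0, 1⟩] [])) (cond (Nat.blt c 7) (cond (Nat.beq c 6) [⟨106, 0, 1⟩] []) (cond (Nat.beq c 7) [⟨106, 0, 1⟩] [])))) (cond (Nat.blt c 45) (cond (Nat.blt c 23) (cond (Nat.blt c 16) (cond (Nat.beq c 15) [⟨13, -1, 1⟩] []) (cond (Nat.beq c 16) [⟨14, -1, 1⟩] [])) (cond (Nat.blt c 44) (cond (Nat.beq c 23) [⟨22, -1, 1⟩] []) (cond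 (Nat.beq c 44) [⟨34, -1, 1⟩] []))) (cond (Nat.blt c 47) (cond (Nat.blt c 46) (cond (Nat.beq c 45) [⟨35, -1, 1⟩] []) (cond (Nat.beq c 46) [⟨36, -1, 1⟩] [])) (cond (Nat.blt c 48) (cond (Nat.beq c 47) [⟨37, -1, 1⟩] []) (cond (Nat.beq c 48) [⟨38, -1, 1⟩] []))))) (cond (Nat.blt c 82) (cond (Nat.blt c 53) (cond (Nat.blt c 51) (cond (Nat.blt c 50) (cond (Nat.beq c 49) [⟨39, -1, 1⟩] []) (cond (Nat.beq c 50) [⟨40, -1, 1⟩] [])) (cond (Nat.blt c 52) (cond (Nat.beq c 51) [⟨41, -1, 1⟩] []) (cond (Nat.beq c 52) [⟨42, -1, 1⟩] []))) (cond (Nat.blt c 80) (cond (Nat.blt c 79) (cond (Nat.beq c 53) [⟨43, -1, 1⟩] []) (cond (Nat.beq c 79) [⟨74, -1, 1⟩] [])) (cond (Nat.blt c 81) (cond (Nat.beq c 80) [⟨75, -1, 1⟩] []) (cond (Nat.beq c 81) [⟨76, -1, 1⟩] [])))) (cond (Nat.blt c 109) (cond (Nat.blt c 107) (cond (Nat.blt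 c 83) (cond (Nat.beq c 82) [⟨77, -1, 1⟩] []) (cond (Nat.beq c 83) [⟨78, -1, 1⟩] [])) (cond (Nat.blt c 108) (cond (Nat.beq c 107) [⟨96, -1, 1⟩] []) (cond (Nat.beq c 108) [⟨97, -1, 1⟩] []))) (cond (Nat.blt c 111) (cond (Nat.blt c 110) (cond (Nat.beq c 109) [⟨98, -1, 1⟩] []) (cond (Nat.beq c 110) [⟨99, -1, 1⟩] [])) (cond (Nat.blt c 113) (cond (Nat.beq c 111) [⟨100, -1, 1⟩] []) (cond (Nat.beq c 113) [⟨101, 1, 1⟩] [])))))) (cond (Nat.blt c 178) (cond (Nat.blt c 153) (cond (Nat.blt c 149) (cond (Nat.blt c 116) (cond (Nat.blt c 115) (cond (Nat.beq c 114) [⟨102, 1, 1⟩] []) (cond (Nat.beq c 115) [⟨103, 1, 1⟩] [])) (cond (Nat.blt c 117) (cond (Nat.beq c 116) [⟨104, 1, 1⟩] []) (cond (Nat.beq c 117) [⟨105, 1, 1⟩] []))) (cond (Nat.blt c 151) (cond (Nat.blt c 150) (cond (Nat.beq c 149) [⟨106, -1, 2⟩, ⟨0, 0,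 1⟩, ⟨1, -1, 1⟩, ⟨2, 0, 1⟩, ⟨3, 0, 1⟩, ⟨4, 0, 1⟩, ⟨5, 0, 1⟩, ⟨6, 0, 1⟩, ⟨7, 0, 1⟩] []) (cond (Nat.beq c 150) [⟨138, -1, 1⟩] [])) (cond (Nat.blt c 152) (cond (Nat.beq c 151) [⟨139, -1, 1⟩] []) (cond (Nat.beq c 152) [⟨140, -1, 1⟩] [])))) (cond (Nat.blt c 157) (cond (Nat.blt c 155) (cond (Nat.blt c 154) (cond (Nat.beq c 153) [⟨141, -1, 1⟩] []) (cond (Nat.beq c 154) [⟨142, -1, 1⟩] [])) (cond (Nat.blt c 156) (cond (Nat.beq c 155) [⟨144, 1, 1⟩] []) (cond (Nat.beq c 156) [⟨145, 1, 1⟩] []))) (cond (Nat.blt c 159) (cond (Nat.blt c 158) (cond (Nat.beq c 157) [⟨146, 1, 1⟩] []) (cond (Nat.beq c 158) [⟨147, 1, 1⟩] [])) (cond (Nat.blt c 177) (cond (Nat.beq c 159) [⟨148, 1, 1⟩] []) (cond (Nat.beq c 177) [⟨172, 1, 1⟩] []))))) (cond (Nat.blt c 216) (cond (Nat.blt c 212) (cond (Nat.blt c 180) (cond (Nat.blt c 179)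 (cond (Nat.beq c 178) [⟨173, 1, 1⟩] []) (cond (Nat.beq c 179) [⟨174, 1, 1⟩] [])) (cond (Nat.blt c 181) (cond (Nat.beq c 180) [⟨175, 1, 1⟩] []) (cond (Nat.beq c 181) [⟨176, 1, 1⟩] []))) (cond (Nat.blt c 214) (cond (Nat.blt c 213) (cond (Nat.beq c 212) [⟨202, 1, 1⟩] []) (cond (Nat.beq c 213) [⟨203, 1, 1⟩] [])) (cond (Nat.blt c 215) (cond (Nat.beq c 214) [⟨204, 1, 1⟩] []) (cond (Nat.beq c 215) [⟨205, 1, 1⟩] [])))) (cond (Nat.blt c 220) (cond (Nat.blt c 218) (cond (Nat.blt c 217) (cond (Nat.beq c 216) [⟨206, 1, 1⟩] []) (cond (Nat.beq c 217) [⟨207, 1, 1⟩] [])) (cond (Nat.blt c 219) (cond (Nat.beq c 218) [⟨208, 1, 1⟩] []) (cond (Nat.beq c 219) [⟨209, 1, 1⟩] []))) (cond (Nat.blt c 233) (cond (Nat.blt c 221) (cond (Nat.beq c 220) [⟨210, 1, 1⟩] []) (cond (Nat.beq c 221) [⟨211, 1, 1⟩] [])) (cond (Nat.blt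 c 241) (cond (Nat.beq c 233) [⟨232, 1, 1⟩] []) (cond (Nat.blt c 242) (cond (Nat.beq c 241) [⟨239, 1, 1⟩] []) (cond (Nat.beq c 242) [⟨240, 1, 1⟩] [])))))))

/-- Compiled columns of `x_99` for type E8. -/
def colsE8_99 (c : ℕ) : List CEnt :=
  cond (Nat.blt c 130) (cond (Nat.blt c 68) (cond (Nat.blt c 14) (cond (Nat.blt c 4) (cond (Nat.blt c 2) (cond (Nat.blt c 1) (cond (Nat.beq c 0) [⟨107, -1, 1⟩] []) (cond (Nat.beq c 1) [⟨107, -1, 1⟩] [])) (cond (Nat.blt c 3) (cond (Nat.beq c 2) [⟨107, 1, 1⟩] []) (cond (Nat.beq c 3) [⟨107, 0, 1⟩] []))) (cond (Nat.blt c 6) (cond (Nat.blt c 5) (cond (Nat.beq c 4) [⟨107, 0, 1⟩] []) (cond (Nat.beq c 5) [⟨107, 0, 1⟩] [])) (cond (Nat.blt c 7) (cond (Nat.beq c 6) [⟨107, 0, 1⟩] []) (cond (Nat.beq c 7) [⟨107, 1, 1⟩] [])))) (cond (Nat.blt c 40) (cond (Nat.blt c 33) (cond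 (Nat.blt c 21) (cond (Nat.beq c 14) [⟨8, -1, 1⟩] []) (cond (Nat.beq c 21) [⟨15, 1, 1⟩] [])) (cond (Nat.blt c 37) (cond (Nat.beq c 33) [⟨23, -1, 1⟩] []) (cond (Nat.beq c 37) [⟨24, -1, 1⟩] []))) (cond (Nat.blt c 43) (cond (Nat.blt c 42) (cond (Nat.beq c 40) [⟨25, -1, 1⟩] []) (cond (Nat.beq c 42) [⟨26, -1, 1⟩] [])) (cond (Nat.blt c 66) (cond (Nat.beq c 43) [⟨27, -1, 1⟩] []) (cond (Nat.beq c 66) [⟨44, -1, 1⟩] []))))) (cond (Nat.blt c 78) (cond (Nat.blt c 73) (cond (Nat.blt c 71) (cond (Nat.blt c 69) (cond (Nat.beq c 68) [⟨45, -1, 1⟩] []) (cond (Nat.beq c 69) [⟨46, -1, 1⟩] [])) (cond (Nat.blt c 72) (cond (Nat.beq c 71) [⟨48, -1, 1⟩] []) (cond (Nat.beq c 72) [⟨49, -1, 1⟩] []))) (cond (Nat.blt c 76) (cond (Nat.blt c 75) (cond (Nat.beq c 73) [⟨51, -1, 1⟩] []) (cond (Nat.beq c 75) [⟨54, -1, 1⟩] [])) (cond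 (Nat.blt c 77) (cond (Nat.beq c 76) [⟨55, -1, 1⟩] []) (cond (Nat.beq c 77) [⟨57, -1, 1⟩] [])))) (cond (Nat.blt c 104) (cond (Nat.blt c 102) (cond (Nat.blt c 85) (cond (Nat.beq c 78) [⟨60, -1, 1⟩] []) (cond (Nat.beq c 85) [⟨79, -1, 1⟩] [])) (cond (Nat.blt c 103) (cond (Nat.beq c 102) [⟨86, 1, 1⟩] []) (cond (Nat.beq c 103) [⟨87, 1, 1⟩] []))) (cond (Nat.blt c 106) (cond (Nat.blt c 105) (cond (Nat.beq c 104) [⟨89, 1, 1⟩] []) (cond (Nat.beq c 105) [⟨92, 1, 1⟩] [])) (cond (Nat.blt c 128) (cond (Nat.beq c 106) [⟨96, 1, 1⟩] []) (cond (Nat.beq c 128) [⟨108, 1, 1⟩] [])))))) (cond (Nat.blt c 195) (cond (Nat.blt c 147) (cond (Nat.blt c 143) (cond (Nat.blt c 137) (cond (Nat.blt c 133) (cond (Nat.beq c 130) [⟨109, 1, 1⟩] []) (cond (Nat.beq c 133) [⟨110, 1, 1⟩] [])) (cond (Nat.blt c 142) (cond (Nat.beq c 137)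 [⟨111, 1, 1⟩] []) (cond (Nat.beq c 142) [⟨112, 1, 1⟩] []))) (cond (Nat.blt c 145) (cond (Nat.blt c 144) (cond (Nat.beq c 143) [⟨113, -1, 1⟩] []) (cond (Nat.beq c 144) [⟨118, -1, 1⟩] [])) (cond (Nat.blt c 146) (cond (Nat.beq c 145) [⟨122, -1, 1⟩] []) (cond (Nat.beq c 146) [⟨125, -1, 1⟩] [])))) (cond (Nat.blt c 166) (cond (Nat.blt c 159) (cond (Nat.blt c 148) (cond (Nat.beq c 147) [⟨127, -1, 1⟩] []) (cond (Nat.beq c 148) [⟨107, -1, 2⟩, ⟨0, 0, 1⟩, ⟨1, 0, 1⟩, ⟨2, -1, 1⟩, ⟨3, -1, 1⟩, ⟨4, -1, 1⟩, ⟨5, -1, 1⟩, ⟨6, -1, 1⟩, ⟨7, -1, 1⟩] [])) (cond (Nat.blt c 163) (cond (Nat.beq c 159) [⟨149, -1, 1⟩] []) (cond (Nat.beq c 163) [⟨150, -1, 1⟩] []))) (cond (Nat.blt c 169) (cond (Nat.blt c 168) (cond (Nat.beq c 166) [⟨151, -1, 1⟩] []) (cond (Nat.beq c 168) [⟨152, -1, 1⟩] [])) (cond (Nat.blt c 176) (cond (Nat.beq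 c 169) [⟨153, -1, 1⟩] []) (cond (Nat.beq c 176) [⟨170, 1, 1⟩] []))))) (cond (Nat.blt c 210) (cond (Nat.blt c 204) (cond (Nat.blt c 200) (cond (Nat.blt c 198) (cond (Nat.beq c 195) [⟨177, 1, 1⟩] []) (cond (Nat.beq c 198) [⟨178, 1, 1⟩] [])) (cond (Nat.blt c 201) (cond (Nat.beq c 200) [⟨179, 1, 1⟩] []) (cond (Nat.beq c 201) [⟨180, 1, 1⟩] []))) (cond (Nat.blt c 207) (cond (Nat.blt c 206) (cond (Nat.beq c 204) [⟨182, 1, 1⟩] []) (cond (Nat.beq c 206) [⟨183, 1, 1⟩] [])) (cond (Nat.blt c 209) (cond (Nat.beq c 207) [⟨184, 1, 1⟩] []) (cond (Nat.beq c 209) [⟨186, 1, 1⟩] [])))) (cond (Nat.blt c 230) (cond (Nat.blt c 228) (cond (Nat.blt c 211) (cond (Nat.beq c 210) [⟨187, 1, 1⟩] []) (cond (Nat.beq c 211) [⟨189, 1, 1⟩] [])) (cond (Nat.blt c 229) (cond (Nat.beq c 228) [⟨212, 1, 1⟩] []) (cond (Nat.beq c 229) [⟨213,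 1, 1⟩] []))) (cond (Nat.blt c 232) (cond (Nat.blt c 231) (cond (Nat.beq c 230) [⟨215, 1, 1⟩] []) (cond (Nat.beq c 231) [⟨218, 1, 1⟩] [])) (cond (Nat.blt c 240) (cond (Nat.beq c 232) [⟨222, 1, 1⟩] []) (cond (Nat.blt c 247) (cond (Nat.beq c 240) [⟨234, -1, 1⟩] []) (cond (Nat.beq c 247) [⟨241, 1, 1⟩] [])))))))

/-- Compiled columns of `x_100` for type E8. -/
def colsE8_100 (c : ℕ) : List CEnt :=
  cond (Nat.blt c 129) (cond (Nat.blt c 67) (cond (Nat.blt c 14) (cond (Nat.blt c 4) (cond (Nat.blt c 2) (cond (Nat.blt c 1) (cond (Nat.beq c 0) [⟨108, -1, 1⟩] []) (cond (Nat.beq c 1) [⟨108, -1, 1⟩] [])) (cond (Nat.blt c 3) (cond (Nat.beq c 2) [⟨108, 1, 1⟩] []) (cond (Nat.beq c 3) [⟨108, 0, 1⟩] []))) (cond (Nat.blt c 6) (cond (Nat.blt c 5) (cond (Nat.beq c 4) [⟨108, 0, 1⟩] []) (cond (Nat.beq c 5) [⟨108, 0,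 1⟩] [])) (cond (Nat.blt c 7) (cond (Nat.beq c 6) [⟨108, 1, 1⟩] []) (cond (Nat.beq c 7) [⟨108, -1, 1⟩] [])))) (cond (Nat.blt c 39) (cond (Nat.blt c 32) (cond (Nat.blt c 20) (cond (Nat.beq c 14) [⟨9, -1, 1⟩] []) (cond (Nat.beq c 20) [⟨15, -1, 1⟩] [])) (cond (Nat.blt c 36) (cond (Nat.beq c 32) [⟨23, 1, 1⟩] []) (cond (Nat.beq c 36) [⟨24, 1, 1⟩] []))) (cond (Nat.blt c 43) (cond (Nat.blt c 41) (cond (Nat.beq c 39) [⟨25, 1, 1⟩] []) (cond (Nat.beq c 41) [⟨26, 1, 1⟩] [])) (cond (Nat.blt c 65) (cond (Nat.beq c 43) [⟨28, -1, 1⟩] []) (cond (Nat.beq c 65) [⟨44, 1, 1⟩] []))))) (cond (Nat.blt c 78) (cond (Nat.blt c 73) (cond (Nat.blt c 70) (cond (Nat.blt c 69) (cond (Nat.beq c 67) [⟨45, 1, 1⟩] []) (cond (Nat.beq c 69) [⟨47, -1, 1⟩] [])) (cond (Nat.blt c 72) (cond (Nat.beq c 70) [⟨48, 1, 1⟩] []) (cond (Nat.beq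 c 72) [⟨50, -1, 1⟩] []))) (cond (Nat.blt c 76) (cond (Nat.blt c 74) (cond (Nat.beq c 73) [⟨52, -1, 1⟩] []) (cond (Nat.beq c 74) [⟨54, 1, 1⟩] [])) (cond (Nat.blt c 77) (cond (Nat.beq c 76) [⟨56, -1, 1⟩] []) (cond (Nat.beq c 77) [⟨58, -1, 1⟩] [])))) (cond (Nat.blt c 104) (cond (Nat.blt c 101) (cond (Nat.blt c 85) (cond (Nat.beq c 78) [⟨61, -1, 1⟩] []) (cond (Nat.beq c 85) [⟨80, -1, 1⟩] [])) (cond (Nat.blt c 103) (cond (Nat.beq c 101) [⟨86, -1, 1⟩] []) (cond (Nat.beq c 103) [⟨88, 1, 1⟩] []))) (cond (Nat.blt c 106) (cond (Nat.blt c 105) (cond (Nat.beq c 104) [⟨90, 1, 1⟩] []) (cond (Nat.beq c 105) [⟨93, 1, 1⟩] [])) (cond (Nat.blt c 127) (cond (Nat.beq c 106) [⟨97, 1, 1⟩] []) (cond (Nat.beq c 127) [⟨107, 1, 1⟩] [])))))) (cond (Nat.blt c 194) (cond (Nat.blt c 147) (cond (Nat.blt c 143) (cond (Nat.blt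 c 136) (cond (Nat.blt c 132) (cond (Nat.beq c 129) [⟨109, 1, 1⟩] []) (cond (Nat.beq c 132) [⟨110, 1, 1⟩] [])) (cond (Nat.blt c 141) (cond (Nat.beq c 136) [⟨111, 1, 1⟩] []) (cond (Nat.beq c 141) [⟨112, 1, 1⟩] []))) (cond (Nat.blt c 145) (cond (Nat.blt c 144) (cond (Nat.beq c 143) [⟨114, -1, 1⟩] []) (cond (Nat.beq c 144) [⟨119, -1, 1⟩] [])) (cond (Nat.blt c 146) (cond (Nat.beq c 145) [⟨123, -1, 1⟩] []) (cond (Nat.beq c 146) [⟨126, -1, 1⟩] [])))) (cond (Nat.blt c 165) (cond (Nat.blt c 158) (cond (Nat.blt c 148) (cond (Nat.beq c 147) [⟨108, -1, 2⟩, ⟨0, 0, 1⟩, ⟨1, 0, 1⟩, ⟨2, -1, 1⟩, ⟨3, -1, 1⟩, ⟨4, -1, 1⟩, ⟨5, -1, 1⟩, ⟨6, -1, 1⟩, ⟨7, 0, 1⟩] []) (cond (Nat.beq c 148) [⟨128, -1, 1⟩] [])) (cond (Nat.blt c 162) (cond (Nat.beq c 158) [⟨149, -1, 1⟩] []) (cond (Nat.beq c 162) [⟨150, -1, 1⟩] []))) (cond (Nat.blt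 c 169) (cond (Nat.blt c 167) (cond (Nat.beq c 165) [⟨151, -1, 1⟩] []) (cond (Nat.beq c 167) [⟨152, -1, 1⟩] [])) (cond (Nat.blt c 175) (cond (Nat.beq c 169) [⟨154, 1, 1⟩] []) (cond (Nat.beq c 175) [⟨170, 1, 1⟩] []))))) (cond (Nat.blt c 210) (cond (Nat.blt c 203) (cond (Nat.blt c 199) (cond (Nat.blt c 197) (cond (Nat.beq c 194) [⟨177, 1, 1⟩] []) (cond (Nat.beq c 197) [⟨178, 1, 1⟩] [])) (cond (Nat.blt c 201) (cond (Nat.beq c 199) [⟨179, 1, 1⟩] []) (cond (Nat.beq c 201) [⟨181, -1, 1⟩] []))) (cond (Nat.blt c 207) (cond (Nat.blt c 205) (cond (Nat.beq c 203) [⟨182, 1, 1⟩] []) (cond (Nat.beq c 205) [⟨183, 1, 1⟩] [])) (cond (Nat.blt c 208) (cond (Nat.beq c 207) [⟨185, -1, 1⟩] []) (cond (Nat.beq c 208) [⟨186, 1, 1⟩] [])))) (cond (Nat.blt c 230) (cond (Nat.blt c 227) (cond (Nat.blt c 211) (cond (Nat.beq c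 210) [⟨188, -1, 1⟩] []) (cond (Nat.beq c 211) [⟨190, -1, 1⟩] [])) (cond (Nat.blt c 229) (cond (Nat.beq c 227) [⟨212, 1, 1⟩] []) (cond (Nat.beq c 229) [⟨214, -1, 1⟩] []))) (cond (Nat.blt c 232) (cond (Nat.blt c 231) (cond (Nat.beq c 230) [⟨216, -1, 1⟩] []) (cond (Nat.beq c 231) [⟨219, -1, 1⟩] [])) (cond (Nat.blt c 240) (cond (Nat.beq c 232) [⟨223, -1, 1⟩] []) (cond (Nat.blt c 246) (cond (Nat.beq c 240) [⟨235, 1, 1⟩] []) (cond (Nat.beq c 246) [⟨241, 1, 1⟩] [])))))))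

/-- Compiled columns of `x_101` for type E8. -/
def colsE8_101 (c : ℕ) : List CEnt :=
  cond (Nat.blt c 126) (cond (Nat.blt c 67) (cond (Nat.blt c 14) (cond (Nat.blt c 4) (cond (Nat.blt c 2) (cond (Nat.blt c 1) (cond (Nat.beq c 0) [⟨109, -1, 1⟩] []) (cond (Nat.beq c 1) [⟨109, -1, 1⟩] [])) (cond (Nat.blt c 3) (cond (Nat.beq c 2) [⟨109, 1, 1⟩] []) (cond (Nat.beq c 3) [⟨109, 0, 1⟩] []))) (cond (Nat.blt c 6) (cond (Nat.blt c 5) (cond (Nat.beq c 4) [⟨109, 0, 1⟩] []) (cond (Nat.beq c 5) [⟨109, 1, 1⟩] [])) (cond (Nat.blt c 7) (cond (Nat.beq c 6) [⟨109, -1, 1⟩] []) (cond (Nat.beq c 7) [⟨109, 0, 1⟩] [])))) (cond (Nat.blt c 38) (cond (Nat.blt c 31) (cond (Nat.blt c 19) (cond (Nat.beq c 14) [⟨10, -1, 1⟩] []) (cond (Nat.beq c 19) [⟨15, 1, 1⟩] [])) (cond (Nat.blt c 35) (cond (Nat.beq c 31) [⟨23, -1, 1⟩] [])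 (cond (Nat.beq c 35) [⟨24, -1, 1⟩] []))) (cond (Nat.blt c 42) (cond (Nat.blt c 41) (cond (Nat.beq c 38) [⟨25, -1, 1⟩] []) (cond (Nat.beq c 41) [⟨27, 1, 1⟩] [])) (cond (Nat.blt c 64) (cond (Nat.beq c 42) [⟨28, 1, 1⟩] []) (cond (Nat.beq c 64) [⟨44, -1, 1⟩] []))))) (cond (Nat.blt c 78) (cond (Nat.blt c 73) (cond (Nat.blt c 70) (cond (Nat.blt c 68) (cond (Nat.beq c 67) [⟨46, 1, 1⟩] []) (cond (Nat.beq c 68) [⟨47, 1, 1⟩] [])) (cond (Nat.blt c 71) (cond (Nat.beq c 70) [⟨49, 1, 1⟩] []) (cond (Nat.beq c 71) [⟨50, 1, 1⟩] []))) (cond (Nat.blt c 75) (cond (Nat.blt c 74) (cond (Nat.beq c 73) [⟨53, -1, 1⟩] []) (cond (Nat.beq c 74) [⟨55, 1, 1⟩] [])) (cond (Nat.blt c 77) (cond (Nat.beq c 75) [⟨56, 1, 1⟩] []) (cond (Nat.beq c 77) [⟨59, -1, 1⟩] [])))) (cond (Nat.blt c 104) (cond (Nat.blt c 101) (cond (Nat.blt c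 85) (cond (Nat.beq c 78) [⟨62, -1, 1⟩] []) (cond (Nat.beq c 85) [⟨81, -1, 1⟩] [])) (cond (Nat.blt c 102) (cond (Nat.beq c 101) [⟨87, -1, 1⟩] []) (cond (Nat.beq c 102) [⟨88, -1, 1⟩] []))) (cond (Nat.blt c 106) (cond (Nat.blt c 105) (cond (Nat.beq c 104) [⟨91, 1, 1⟩] []) (cond (Nat.beq c 105) [⟨94, 1, 1⟩] [])) (cond (Nat.blt c 125) (cond (Nat.beq c 106) [⟨98, 1, 1⟩] []) (cond (Nat.beq c 125) [⟨107, 1, 1⟩] [])))))) (cond (Nat.blt c 193) (cond (Nat.blt c 147) (cond (Nat.blt c 143) (cond (Nat.blt c 135) (cond (Nat.blt c 131) (cond (Nat.beq c 126) [⟨108, 1, 1⟩] []) (cond (Nat.beq c 131) [⟨110, 1, 1⟩] [])) (cond (Nat.blt c 140) (cond (Nat.beq c 135) [⟨111, 1, 1⟩] []) (cond (Nat.beq c 140) [⟨112, 1, 1⟩] []))) (cond (Nat.blt c 145) (cond (Nat.blt c 144) (cond (Nat.beq c 143) [⟨115, -1, 1⟩] []) (cond (Nat.beq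 c 144) [⟨120, -1, 1⟩] [])) (cond (Nat.blt c 146) (cond (Nat.beq c 145) [⟨124, -1, 1⟩] []) (cond (Nat.beq c 146) [⟨109, -1, 2⟩, ⟨0, 0, 1⟩, ⟨1, 0, 1⟩, ⟨2, -1, 1⟩, ⟨3, -1, 1⟩, ⟨4, -1, 1⟩, ⟨5, -1, 1⟩, ⟨6, 0, 1⟩, ⟨7, 0, 1⟩] [])))) (cond (Nat.blt c 164) (cond (Nat.blt c 157) (cond (Nat.blt c 148) (cond (Nat.beq c 147) [⟨129, -1, 1⟩] []) (cond (Nat.beq c 148) [⟨130, -1, 1⟩] [])) (cond (Nat.blt c 161) (cond (Nat.beq c 157) [⟨149, -1, 1⟩] []) (cond (Nat.beq c 161) [⟨150, -1, 1⟩] []))) (cond (Nat.blt c 168) (cond (Nat.blt c 167) (cond (Nat.beq c 164) [⟨151, -1, 1⟩] []) (cond (Nat.beq c 167) [⟨153, 1, 1⟩] [])) (cond (Nat.blt c 174) (cond (Nat.beq c 168) [⟨154, 1, 1⟩] []) (cond (Nat.beq c 174) [⟨170, 1, 1⟩] []))))) (cond (Nat.blt c 209) (cond (Nat.blt c 202) (cond (Nat.blt c 199) (cond (Nat.blt c 196) (cond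 (Nat.beq c 193) [⟨177, 1, 1⟩] []) (cond (Nat.beq c 196) [⟨178, 1, 1⟩] [])) (cond (Nat.blt c 200) (cond (Nat.beq c 199) [⟨180, -1, 1⟩] []) (cond (Nat.beq c 200) [⟨181, -1, 1⟩] []))) (cond (Nat.blt c 206) (cond (Nat.blt c 205) (cond (Nat.beq c 202) [⟨182, 1, 1⟩] []) (cond (Nat.beq c 205) [⟨184, -1, 1⟩] [])) (cond (Nat.blt c 208) (cond (Nat.beq c 206) [⟨185, -1, 1⟩] []) (cond (Nat.beq c 208) [⟨187, -1, 1⟩] [])))) (cond (Nat.blt c 230) (cond (Nat.blt c 227) (cond (Nat.blt c 211) (cond (Nat.beq c 209) [⟨188, -1, 1⟩] []) (cond (Nat.beq c 211) [⟨191, 1, 1⟩] [])) (cond (Nat.blt c 228) (cond (Nat.beq c 227) [⟨213, -1, 1⟩] []) (cond (Nat.beq c 228) [⟨214, -1, 1⟩] []))) (cond (Nat.blt c 232) (cond (Nat.blt c 231) (cond (Nat.beq c 230) [⟨217, 1, 1⟩] []) (cond (Nat.beq c 231) [⟨220, 1, 1⟩] [])) (cond (Nat.blt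 c 240) (cond (Nat.beq c 232) [⟨224, 1, 1⟩] []) (cond (Nat.blt c 245) (cond (Nat.beq c 240) [⟨236, -1, 1⟩] []) (cond (Nat.beq c 245) [⟨241, 1, 1⟩] [])))))))

/-- Compiled columns of `x_102` for type E8. -/
def colsE8_102 (c : ℕ) : List CEnt :=
  cond (Nat.blt c 123) (cond (Nat.blt c 65) (cond (Nat.blt c 14) (cond (Nat.blt c 4) (cond (Nat.blt c 2) (cond (Nat.blt c 1) (cond (Nat.beq c 0) [⟨110, -1, 1⟩] []) (cond (Nat.beq c 1) [⟨110, -1, 1⟩] [])) (cond (Nat.blt c 3) (cond (Nat.beq c 2) [⟨110, 1, 1⟩] []) (cond (Nat.beq c 3) [⟨110, 0, 1⟩] []))) (cond (Nat.blt c 6) (cond (Nat.blt c 5) (cond (Nat.beq c 4) [⟨110, 1, 1⟩] []) (cond (Nat.beq c 5) [⟨110, -1, 1⟩] [])) (cond (Nat.blt c 7) (cond (Nat.beq c 6) [⟨110, 0, 1⟩] []) (cond (Nat.beq c 7) [⟨110, 0, 1⟩] [])))) (cond (Nat.blt c 38) (cond (Nat.blt c 30) (cond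 (Nat.blt c 18) (cond (Nat.beq c 14) [⟨11, -1, 1⟩] []) (cond (Nat.beq c 18) [⟨15, -1, 1⟩] [])) (cond (Nat.blt c 34) (cond (Nat.beq c 30) [⟨23, 1, 1⟩] []) (cond (Nat.beq c 34) [⟨24, 1, 1⟩] []))) (cond (Nat.blt c 40) (cond (Nat.blt c 39) (cond (Nat.beq c 38) [⟨26, -1, 1⟩] []) (cond (Nat.beq c 39) [⟨27, -1, 1⟩] [])) (cond (Nat.blt c 64) (cond (Nat.beq c 40) [⟨28, -1, 1⟩] []) (cond (Nat.beq c 64) [⟨45, -1, 1⟩] []))))) (cond (Nat.blt c 78) (cond (Nat.blt c 72) (cond (Nat.blt c 70) (cond (Nat.blt c 66) (cond (Nat.beq c 65) [⟨46, -1, 1⟩] []) (cond (Nat.beq c 66) [⟨47, -1, 1⟩] [])) (cond (Nat.blt c 71) (cond (Nat.beq c 70) [⟨51, 1, 1⟩] []) (cond (Nat.beq c 71) [⟨52, 1, 1⟩] []))) (cond (Nat.blt c 75) (cond (Nat.blt c 74) (cond (Nat.beq c 72) [⟨53, 1, 1⟩] []) (cond (Nat.beq c 74) [⟨57, 1, 1⟩] [])) (cond (Nat.blt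 c 76) (cond (Nat.beq c 75) [⟨58, 1, 1⟩] []) (cond (Nat.beq c 76) [⟨59, 1, 1⟩] [])))) (cond (Nat.blt c 103) (cond (Nat.blt c 101) (cond (Nat.blt c 85) (cond (Nat.beq c 78) [⟨63, -1, 1⟩] []) (cond (Nat.beq c 85) [⟨82, -1, 1⟩] [])) (cond (Nat.blt c 102) (cond (Nat.beq c 101) [⟨89, -1, 1⟩] []) (cond (Nat.beq c 102) [⟨90, -1, 1⟩] []))) (cond (Nat.blt c 106) (cond (Nat.blt c 105) (cond (Nat.beq c 103) [⟨91, -1, 1⟩] []) (cond (Nat.beq c 105) [⟨95, 1, 1⟩] [])) (cond (Nat.blt c 122) (cond (Nat.beq c 106) [⟨99, 1, 1⟩] []) (cond (Nat.beq c 122) [⟨107, 1, 1⟩] [])))))) (cond (Nat.blt c 192) (cond (Nat.blt c 147) (cond (Nat.blt c 143) (cond (Nat.blt c 134) (cond (Nat.blt c 124) (cond (Nat.beq c 123) [⟨108, 1, 1⟩] []) (cond (Nat.beq c 124) [⟨109, 1, 1⟩] [])) (cond (Nat.blt c 139) (cond (Nat.beq c 134) [⟨111,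 1, 1⟩] []) (cond (Nat.beq c 139) [⟨112, 1, 1⟩] []))) (cond (Nat.blt c 145) (cond (Nat.blt c 144) (cond (Nat.beq c 143) [⟨116, -1, 1⟩] []) (cond (Nat.beq c 144) [⟨121, -1, 1⟩] [])) (cond (Nat.blt c 146) (cond (Nat.beq c 145) [⟨110, -1, 2⟩, ⟨0, 0, 1⟩, ⟨1, 0, 1⟩, ⟨2, -1, 1⟩, ⟨3, -1, 1⟩, ⟨4, -1, 1⟩, ⟨5, 0, 1⟩, ⟨6, 0, 1⟩, ⟨7, 0, 1⟩] []) (cond (Nat.beq c 146) [⟨131, -1, 1⟩] [])))) (cond (Nat.blt c 164) (cond (Nat.blt c 156) (cond (Nat.blt c 148) (cond (Nat.beq c 147) [⟨132, -1, 1⟩] []) (cond (Nat.beq c 148) [⟨133, -1, 1⟩] [])) (cond (Nat.blt c 160) (cond (Nat.beq c 156) [⟨149, -1, 1⟩] []) (cond (Nat.beq c 160) [⟨150, -1, 1⟩] []))) (cond (Nat.blt c 166) (cond (Nat.blt c 165) (cond (Nat.beq c 164) [⟨152, 1, 1⟩] []) (cond (Nat.beq c 165) [⟨153, 1, 1⟩] [])) (cond (Nat.blt c 173) (cond (Nat.beq c 166) [⟨154,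 1, 1⟩] []) (cond (Nat.beq c 173) [⟨170, 1, 1⟩] []))))) (cond (Nat.blt c 209) (cond (Nat.blt c 202) (cond (Nat.blt c 197) (cond (Nat.blt c 196) (cond (Nat.beq c 192) [⟨177, 1, 1⟩] []) (cond (Nat.beq c 196) [⟨179, -1, 1⟩] [])) (cond (Nat.blt c 198) (cond (Nat.beq c 197) [⟨180, -1, 1⟩] []) (cond (Nat.beq c 198) [⟨181, -1, 1⟩] []))) (cond (Nat.blt c 204) (cond (Nat.blt c 203) (cond (Nat.beq c 202) [⟨183, -1, 1⟩] []) (cond (Nat.beq c 203) [⟨184, -1, 1⟩] [])) (cond (Nat.blt c 208) (cond (Nat.beq c 204) [⟨185, -1, 1⟩] []) (cond (Nat.beq c 208) [⟨189, 1, 1⟩] [])))) (cond (Nat.blt c 229) (cond (Nat.blt c 227) (cond (Nat.blt c 210) (cond (Nat.beq c 209) [⟨190, 1, 1⟩] []) (cond (Nat.beq c 210) [⟨191, 1, 1⟩] [])) (cond (Nat.blt c 228) (cond (Nat.beq c 227) [⟨215, 1, 1⟩] []) (cond (Nat.beq c 228) [⟨216, 1,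 1⟩] []))) (cond (Nat.blt c 232) (cond (Nat.blt c 231) (cond (Nat.beq c 229) [⟨217, 1, 1⟩] []) (cond (Nat.beq c 231) [⟨221, -1, 1⟩] [])) (cond (Nat.blt c 240) (cond (Nat.beq c 232) [⟨225, -1, 1⟩] []) (cond (Nat.blt c 244) (cond (Nat.beq c 240) [⟨237, 1, 1⟩] []) (cond (Nat.beq c 244) [⟨241, 1, 1⟩] [])))))))

/-- Compiled columns of `x_103` for type E8. -/
def colsE8_103 (c : ℕ) : List CEnt :=
  cond (Nat.blt c 119) (cond (Nat.blt c 65) (cond (Nat.blt c 14) (cond (Nat.blt c 4) (cond (Nat.blt c 2) (cond (Nat.blt c 1) (cond (Nat.beq c 0) [⟨111, -1, 1⟩] []) (cond (Nat.beq c 1) [⟨111, -1, 1⟩] [])) (cond (Nat.blt c 3) (cond (Nat.beq c 2) [⟨111, 1, 1⟩] []) (cond (Nat.beq c 3) [⟨111, 1, 1⟩] []))) (cond (Nat.blt c 6) (cond (Nat.blt c 5) (cond (Nat.beq c 4) [⟨111, -1, 1⟩] []) (cond (Nat.beq c 5) [⟨111, 0,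 1⟩] [])) (cond (Nat.blt c 7) (cond (Nat.beq c 6) [⟨111, 0, 1⟩] []) (cond (Nat.beq c 7) [⟨111, 0, 1⟩] [])))) (cond (Nat.blt c 35) (cond (Nat.blt c 29) (cond (Nat.blt c 17) (cond (Nat.beq c 14) [⟨12, -1, 1⟩] []) (cond (Nat.beq c 17) [⟨15, 1, 1⟩] [])) (cond (Nat.blt c 34) (cond (Nat.beq c 29) [⟨23, -1, 1⟩] []) (cond (Nat.beq c 34) [⟨25, 1, 1⟩] []))) (cond (Nat.blt c 37) (cond (Nat.blt c 36) (cond (Nat.beq c 35) [⟨26, 1, 1⟩] []) (cond (Nat.beq c 36) [⟨27, 1, 1⟩] [])) (cond (Nat.blt c 64) (cond (Nat.beq c 37) [⟨28, 1, 1⟩] []) (cond (Nat.beq c 64) [⟨48, -1, 1⟩] []))))) (cond (Nat.blt c 77) (cond (Nat.blt c 69) (cond (Nat.blt c 67) (cond (Nat.blt c 66) (cond (Nat.beq c 65) [⟨49, -1, 1⟩] []) (cond (Nat.beq c 66) [⟨50, -1, 1⟩] [])) (cond (Nat.blt c 68) (cond (Nat.beq c 67) [⟨51, -1, 1⟩] []) (cond (Nat.beq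 c 68) [⟨52, -1, 1⟩] []))) (cond (Nat.blt c 75) (cond (Nat.blt c 74) (cond (Nat.beq c 69) [⟨53, -1, 1⟩] []) (cond (Nat.beq c 74) [⟨60, 1, 1⟩] [])) (cond (Nat.blt c 76) (cond (Nat.beq c 75) [⟨61, 1, 1⟩] []) (cond (Nat.beq c 76) [⟨62, 1, 1⟩] [])))) (cond (Nat.blt c 103) (cond (Nat.blt c 101) (cond (Nat.blt c 85) (cond (Nat.beq c 77) [⟨63, 1, 1⟩] []) (cond (Nat.beq c 85) [⟨83, -1, 1⟩] [])) (cond (Nat.blt c 102) (cond (Nat.beq c 101) [⟨92, -1, 1⟩] []) (cond (Nat.beq c 102) [⟨93, -1, 1⟩] []))) (cond (Nat.blt c 106) (cond (Nat.blt c 104) (cond (Nat.beq c 103) [⟨94, -1, 1⟩] []) (cond (Nat.beq c 104) [⟨95, -1, 1⟩] [])) (cond (Nat.blt c 118) (cond (Nat.beq c 106) [⟨100, 1, 1⟩] []) (cond (Nat.beq c 118) [⟨107, 1, 1⟩] [])))))) (cond (Nat.blt c 192) (cond (Nat.blt c 147) (cond (Nat.blt c 143) (cond (Nat.blt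 c 121) (cond (Nat.blt c 120) (cond (Nat.beq c 119) [⟨108, 1, 1⟩] []) (cond (Nat.beq c 120) [⟨109, 1, 1⟩] [])) (cond (Nat.blt c 138) (cond (Nat.beq c 121) [⟨110, 1, 1⟩] []) (cond (Nat.beq c 138) [⟨112, 1, 1⟩] []))) (cond (Nat.blt c 145) (cond (Nat.blt c 144) (cond (Nat.beq c 143) [⟨117, -1, 1⟩] []) (cond (Nat.beq c 144) [⟨111, -1, 2⟩, ⟨0, 0, 1⟩, ⟨1, 0, 1⟩, ⟨2, -1, 1⟩, ⟨3, -1, 1⟩, ⟨4, 0, 1⟩, ⟨5, 0, 1⟩, ⟨6, 0, 1⟩, ⟨7, 0, 1⟩] [])) (cond (Nat.blt c 146) (cond (Nat.beq c 145) [⟨134, -1, 1⟩] []) (cond (Nat.beq c 146) [⟨135, -1, 1⟩] [])))) (cond (Nat.blt c 161) (cond (Nat.blt c 155) (cond (Nat.blt c 148) (cond (Nat.beq c 147) [⟨136, -1, 1⟩] []) (cond (Nat.beq c 148) [⟨137, -1, 1⟩] [])) (cond (Nat.blt c 160) (cond (Nat.beq c 155) [⟨149, -1, 1⟩] []) (cond (Nat.beq c 160) [⟨151, 1, 1⟩] []))) (cond (Nat.blt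 c 163) (cond (Nat.blt c 162) (cond (Nat.beq c 161) [⟨152, 1, 1⟩] []) (cond (Nat.beq c 162) [⟨153, 1, 1⟩] [])) (cond (Nat.blt c 172) (cond (Nat.beq c 163) [⟨154, 1, 1⟩] []) (cond (Nat.beq c 172) [⟨170, 1, 1⟩] []))))) (cond (Nat.blt c 206) (cond (Nat.blt c 202) (cond (Nat.blt c 194) (cond (Nat.blt c 193) (cond (Nat.beq c 192) [⟨178, -1, 1⟩] []) (cond (Nat.beq c 193) [⟨179, -1, 1⟩] [])) (cond (Nat.blt c 195) (cond (Nat.beq c 194) [⟨180, -1, 1⟩] []) (cond (Nat.beq c 195) [⟨181, -1, 1⟩] []))) (cond (Nat.blt c 204) (cond (Nat.blt c 203) (cond (Nat.beq c 202) [⟨186, 1, 1⟩] []) (cond (Nat.beq c 203) [⟨187, 1, 1⟩] [])) (cond (Nat.blt c 205) (cond (Nat.beq c 204) [⟨188, 1, 1⟩] []) (cond (Nat.beq c 205) [⟨189, 1, 1⟩] [])))) (cond (Nat.blt c 229) (cond (Nat.blt c 227) (cond (Nat.blt c 207) (cond (Nat.beq c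 206) [⟨190, 1, 1⟩] []) (cond (Nat.beq c 207) [⟨191, 1, 1⟩] [])) (cond (Nat.blt c 228) (cond (Nat.beq c 227) [⟨218, -1, 1⟩] []) (cond (Nat.beq c 228) [⟨219, -1, 1⟩] []))) (cond (Nat.blt c 232) (cond (Nat.blt c 230) (cond (Nat.beq c 229) [⟨220, -1, 1⟩] []) (cond (Nat.beq c 230) [⟨221, -1, 1⟩] [])) (cond (Nat.blt c 240) (cond (Nat.beq c 232) [⟨226, 1, 1⟩] []) (cond (Nat.blt c 243) (cond (Nat.beq c 240) [⟨238, -1, 1⟩] []) (cond (Nat.beq c 243) [⟨241, 1, 1⟩] [])))))))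

/-- Compiled columns of `x_104` for type E8. -/
def colsE8_104 (c : ℕ) : List CEnt :=
  cond (Nat.blt c 114) (cond (Nat.blt c 65) (cond (Nat.blt c 14) (cond (Nat.blt c 4) (cond (Nat.blt c 2) (cond (Nat.blt c 1) (cond (Nat.beq c 0) [⟨112, -1, 1⟩] []) (cond (Nat.beq c 1) [⟨112, 0, 1⟩] [])) (cond (Nat.blt c 3) (cond (Nat.beq c 2) [⟨112, 2, 1⟩] []) (cond (Nat.beq c 3) [⟨112, -1, 1⟩] []))) (cond (Nat.blt c 6) (cond (Nat.blt c 5) (cond (Nat.beq c 4) [⟨112, 0, 1⟩] []) (cond (Nat.beq c 5) [⟨112, 0, 1⟩] [])) (cond (Nat.blt c 7) (cond (Nat.beq c 6) [⟨112, 0, 1⟩] []) (cond (Nat.beq c 7) [⟨112, 0, 1⟩] [])))) (cond (Nat.blt c 31) (cond (Nat.blt c 29) (cond (Nat.blt c 16) (cond (Nat.beq c 14) [⟨13, -1, 1⟩] []) (cond (Nat.beq c 16) [⟨15, -1, 1⟩] [])) (cond (Nat.blt c 30) (cond (Nat.beq c 29) [⟨24, -1, 1⟩] [])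 (cond (Nat.beq c 30) [⟨25, -1, 1⟩] []))) (cond (Nat.blt c 33) (cond (Nat.blt c 32) (cond (Nat.beq c 31) [⟨26, -1, 1⟩] []) (cond (Nat.beq c 32) [⟨27, -1, 1⟩] [])) (cond (Nat.blt c 64) (cond (Nat.beq c 33) [⟨28, -1, 1⟩] []) (cond (Nat.beq c 64) [⟨54, -1, 1⟩] []))))) (cond (Nat.blt c 73) (cond (Nat.blt c 69) (cond (Nat.blt c 67) (cond (Nat.blt c 66) (cond (Nat.beq c 65) [⟨55, -1, 1⟩] []) (cond (Nat.beq c 66) [⟨56, -1, 1⟩] [])) (cond (Nat.blt c 68) (cond (Nat.beq c 67) [⟨57, -1, 1⟩] []) (cond (Nat.beq c 68) [⟨58, -1, 1⟩] []))) (cond (Nat.blt c 71) (cond (Nat.blt c 70) (cond (Nat.beq c 69) [⟨59, -1, 1⟩] []) (cond (Nat.beq c 70) [⟨60, -1, 1⟩] [])) (cond (Nat.blt c 72) (cond (Nat.beq c 71) [⟨61, -1, 1⟩] []) (cond (Nat.beq c 72) [⟨62, -1, 1⟩] [])))) (cond (Nat.blt c 103) (cond (Nat.blt c 101) (cond (Nat.blt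 c 85) (cond (Nat.beq c 73) [⟨63, -1, 1⟩] []) (cond (Nat.beq c 85) [⟨84, -1, 1⟩] [])) (cond (Nat.blt c 102) (cond (Nat.beq c 101) [⟨96, -1, 1⟩] []) (cond (Nat.beq c 102) [⟨97, -1, 1⟩] []))) (cond (Nat.blt c 105) (cond (Nat.blt c 104) (cond (Nat.beq c 103) [⟨98, -1, 1⟩] []) (cond (Nat.beq c 104) [⟨99, -1, 1⟩] [])) (cond (Nat.blt c 113) (cond (Nat.beq c 105) [⟨100, -1, 1⟩] []) (cond (Nat.beq c 113) [⟨107, 1, 1⟩] [])))))) (cond (Nat.blt c 192) (cond (Nat.blt c 147) (cond (Nat.blt c 143) (cond (Nat.blt c 116) (cond (Nat.blt c 115) (cond (Nat.beq c 114) [⟨108, 1, 1⟩] []) (cond (Nat.beq c 115) [⟨109, 1, 1⟩] [])) (cond (Nat.blt c 117) (cond (Nat.beq c 116) [⟨110, 1, 1⟩] []) (cond (Nat.beq c 117) [⟨111, 1, 1⟩] []))) (cond (Nat.blt c 145) (cond (Nat.blt c 144) (cond (Nat.beq c 143) [⟨112, -1, 2⟩, ⟨0, 0,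 1⟩, ⟨1, 0, 1⟩, ⟨2, -1, 1⟩, ⟨3, 0, 1⟩, ⟨4, 0, 1⟩, ⟨5, 0, 1⟩, ⟨6, 0, 1⟩, ⟨7, 0, 1⟩] []) (cond (Nat.beq c 144) [⟨138, -1, 1⟩] [])) (cond (Nat.blt c 146) (cond (Nat.beq c 145) [⟨139, -1, 1⟩] []) (cond (Nat.beq c 146) [⟨140, -1, 1⟩] [])))) (cond (Nat.blt c 157) (cond (Nat.blt c 155) (cond (Nat.blt c 148) (cond (Nat.beq c 147) [⟨141, -1, 1⟩] []) (cond (Nat.beq c 148) [⟨142, -1, 1⟩] [])) (cond (Nat.blt c 156) (cond (Nat.beq c 155) [⟨150, 1, 1⟩] []) (cond (Nat.beq c 156) [⟨151, 1, 1⟩] []))) (cond (Nat.blt c 159) (cond (Nat.blt c 158) (cond (Nat.beq c 157) [⟨152, 1, 1⟩] []) (cond (Nat.beq c 158) [⟨153, 1, 1⟩] [])) (cond (Nat.blt c 171) (cond (Nat.beq c 159) [⟨154, 1, 1⟩] []) (cond (Nat.beq c 171) [⟨170, 1, 1⟩] []))))) (cond (Nat.blt c 200) (cond (Nat.blt c 196) (cond (Nat.blt c 194) (cond (Nat.blt c 193)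 (cond (Nat.beq c 192) [⟨182, 1, 1⟩] []) (cond (Nat.beq c 193) [⟨183, 1, 1⟩] [])) (cond (Nat.blt c 195) (cond (Nat.beq c 194) [⟨184, 1, 1⟩] []) (cond (Nat.beq c 195) [⟨185, 1, 1⟩] []))) (cond (Nat.blt c 198) (cond (Nat.blt c 197) (cond (Nat.beq c 196) [⟨186, 1, 1⟩] []) (cond (Nat.beq c 197) [⟨187, 1, 1⟩] [])) (cond (Nat.blt c 199) (cond (Nat.beq c 198) [⟨188, 1, 1⟩] []) (cond (Nat.beq c 199) [⟨189, 1, 1⟩] [])))) (cond (Nat.blt c 229) (cond (Nat.blt c 227) (cond (Nat.blt c 201) (cond (Nat.beq c 200) [⟨190, 1, 1⟩] []) (cond (Nat.beq c 201) [⟨191, 1, 1⟩] [])) (cond (Nat.blt c 228) (cond (Nat.beq c 227) [⟨222, 1, 1⟩] []) (cond (Nat.beq c 228) [⟨223, 1, 1⟩] []))) (cond (Nat.blt c 231) (cond (Nat.blt c 230) (cond (Nat.beq c 229) [⟨224, 1, 1⟩] []) (cond (Nat.beq c 230) [⟨225, 1, 1⟩] [])) (cond (Nat.blt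 c 240) (cond (Nat.beq c 231) [⟨226, 1, 1⟩] []) (cond (Nat.blt c 242) (cond (Nat.beq c 240) [⟨239, 1, 1⟩] []) (cond (Nat.beq c 242) [⟨241, 1, 1⟩] [])))))))

/-- Compiled columns of `x_105` for type E8. -/
def colsE8_105 (c : ℕ) : List CEnt :=
  cond (Nat.blt c 128) (cond (Nat.blt c 58) (cond (Nat.blt c 13) (cond (Nat.blt c 4) (cond (Nat.blt c 2) (cond (Nat.blt c 1) (cond (Nat.beq c 0) [⟨113, 0, 1⟩] []) (cond (Nat.beq c 1) [⟨113, -1, 1⟩] [])) (cond (Nat.blt c 3) (cond (Nat.beq c 2) [⟨113, -1, 1⟩] []) (cond (Nat.beq c 3) [⟨113, 1, 1⟩] []))) (cond (Nat.blt c 6) (cond (Nat.blt c 5) (cond (Nat.beq c 4) [⟨113, 0, 1⟩] []) (cond (Nat.beq c 5) [⟨113, 0, 1⟩] [])) (cond (Nat.blt c 7) (cond (Nat.beq c 6) [⟨113, 0, 1⟩] []) (cond (Nat.beq c 7) [⟨113, 1, 1⟩] [])))) (cond (Nat.blt c 40) (cond (Nat.blt c 28) (cond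 (Nat.blt c 21) (cond (Nat.beq c 13) [⟨8, -1, 1⟩] []) (cond (Nat.beq c 21) [⟨16, -1, 1⟩] [])) (cond (Nat.blt c 37) (cond (Nat.beq c 28) [⟨23, -1, 1⟩] []) (cond (Nat.beq c 37) [⟨29, 1, 1⟩] []))) (cond (Nat.blt c 43) (cond (Nat.blt c 42) (cond (Nat.beq c 40) [⟨30, 1, 1⟩] []) (cond (Nat.beq c 42) [⟨31, 1, 1⟩] [])) (cond (Nat.blt c 56) (cond (Nat.beq c 43) [⟨32, 1, 1⟩] []) (cond (Nat.beq c 56) [⟨44, -1, 1⟩] []))))) (cond (Nat.blt c 78) (cond (Nat.blt c 63) (cond (Nat.blt c 61) (cond (Nat.blt c 59) (cond (Nat.beq c 58) [⟨45, -1, 1⟩] []) (cond (Nat.beq c 59) [⟨46, -1, 1⟩] [])) (cond (Nat.blt c 62) (cond (Nat.beq c 61) [⟨48, -1, 1⟩] []) (cond (Nat.beq c 62) [⟨49, -1, 1⟩] []))) (cond (Nat.blt c 76) (cond (Nat.blt c 75) (cond (Nat.beq c 63) [⟨51, -1, 1⟩] []) (cond (Nat.beq c 75) [⟨64, 1, 1⟩] [])) (cond (Nat.blt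 c 77) (cond (Nat.beq c 76) [⟨65, 1, 1⟩] []) (cond (Nat.beq c 77) [⟨67, 1, 1⟩] [])))) (cond (Nat.blt c 99) (cond (Nat.blt c 97) (cond (Nat.blt c 84) (cond (Nat.beq c 78) [⟨70, 1, 1⟩] []) (cond (Nat.beq c 84) [⟨79, -1, 1⟩] [])) (cond (Nat.blt c 98) (cond (Nat.beq c 97) [⟨86, 1, 1⟩] []) (cond (Nat.beq c 98) [⟨87, 1, 1⟩] []))) (cond (Nat.blt c 106) (cond (Nat.blt c 100) (cond (Nat.beq c 99) [⟨89, 1, 1⟩] []) (cond (Nat.beq c 100) [⟨92, 1, 1⟩] [])) (cond (Nat.blt c 112) (cond (Nat.beq c 106) [⟨101, -1, 1⟩] []) (cond (Nat.beq c 112) [⟨107, -1, 1⟩] [])))))) (cond (Nat.blt c 185) (cond (Nat.blt c 142) (cond (Nat.blt c 138) (cond (Nat.blt c 133) (cond (Nat.blt c 130) (cond (Nat.beq c 128) [⟨114, 1, 1⟩] []) (cond (Nat.beq c 130) [⟨115, 1, 1⟩] [])) (cond (Nat.blt c 137) (cond (Nat.beq c 133) [⟨116, 1, 1⟩]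 []) (cond (Nat.beq c 137) [⟨117, 1, 1⟩] []))) (cond (Nat.blt c 140) (cond (Nat.blt c 139) (cond (Nat.beq c 138) [⟨118, -1, 1⟩] []) (cond (Nat.beq c 139) [⟨122, -1, 1⟩] [])) (cond (Nat.blt c 141) (cond (Nat.beq c 140) [⟨125, -1, 1⟩] []) (cond (Nat.beq c 141) [⟨127, -1, 1⟩] [])))) (cond (Nat.blt c 166) (cond (Nat.blt c 154) (cond (Nat.blt c 148) (cond (Nat.beq c 142) [⟨113, -1, 2⟩, ⟨0, 0, 1⟩, ⟨1, 0, 1⟩, ⟨2, 0, 1⟩, ⟨3, -1, 1⟩, ⟨4, -1, 1⟩, ⟨5, -1, 1⟩, ⟨6, -1, 1⟩, ⟨7, -1, 1⟩] []) (cond (Nat.beq c 148) [⟨143, 1, 1⟩] [])) (cond (Nat.blt c 163) (cond (Nat.beq c 154) [⟨149, 1, 1⟩] []) (cond (Nat.beq c 163) [⟨155, -1, 1⟩] []))) (cond (Nat.blt c 169) (cond (Nat.blt c 168) (cond (Nat.beq c 166) [⟨156, -1, 1⟩] []) (cond (Nat.beq c 168) [⟨157, -1, 1⟩] [])) (cond (Nat.blt c 176) (cond (Nat.beq c 169) [⟨158, -1,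 1⟩] []) (cond (Nat.beq c 176) [⟨171, 1, 1⟩] []))))) (cond (Nat.blt c 210) (cond (Nat.blt c 204) (cond (Nat.blt c 190) (cond (Nat.blt c 188) (cond (Nat.beq c 185) [⟨177, -1, 1⟩] []) (cond (Nat.beq c 188) [⟨178, -1, 1⟩] [])) (cond (Nat.blt c 191) (cond (Nat.beq c 190) [⟨179, -1, 1⟩] []) (cond (Nat.beq c 191) [⟨180, -1, 1⟩] []))) (cond (Nat.blt c 207) (cond (Nat.blt c 206) (cond (Nat.beq c 204) [⟨192, 1, 1⟩] []) (cond (Nat.beq c 206) [⟨193, 1, 1⟩] [])) (cond (Nat.blt c 209) (cond (Nat.beq c 207) [⟨194, 1, 1⟩] []) (cond (Nat.beq c 209) [⟨196, 1, 1⟩] [])))) (cond (Nat.blt c 225) (cond (Nat.blt c 223) (cond (Nat.blt c 211) (cond (Nat.beq c 210) [⟨197, 1, 1⟩] []) (cond (Nat.beq c 211) [⟨199, 1, 1⟩] [])) (cond (Nat.blt c 224) (cond (Nat.beq c 223) [⟨212, -1, 1⟩] []) (cond (Nat.beq c 224) [⟨213, -1, 1⟩]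 []))) (cond (Nat.blt c 232) (cond (Nat.blt c 226) (cond (Nat.beq c 225) [⟨215, -1, 1⟩] []) (cond (Nat.beq c 226) [⟨218, -1, 1⟩] [])) (cond (Nat.blt c 239) (cond (Nat.beq c 232) [⟨227, 1, 1⟩] []) (cond (Nat.blt c 247) (cond (Nat.beq c 239) [⟨234, 1, 1⟩] []) (cond (Nat.beq c 247) [⟨242, 1, 1⟩] [])))))))

/-- Compiled columns of `x_106` for type E8. -/
def colsE8_106 (c : ℕ) : List CEnt :=
  cond (Nat.blt c 127) (cond (Nat.blt c 57) (cond (Nat.blt c 13) (cond (Nat.blt c 4) (cond (Nat.blt c 2) (cond (Nat.blt c 1) (cond (Nat.beq c 0) [⟨114, 0, 1⟩] []) (cond (Nat.beq c 1) [⟨114, -1, 1⟩] [])) (cond (Nat.blt c 3) (cond (Nat.beq c 2) [⟨114, -1, 1⟩] []) (cond (Nat.beq c 3) [⟨114, 1, 1⟩] []))) (cond (Nat.blt c 6) (cond (Nat.blt c 5) (cond (Nat.beq c 4) [⟨114, 0, 1⟩] []) (cond (Nat.beq c 5) [⟨114, 0, 1⟩] []))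 (cond (Nat.blt c 7) (cond (Nat.beq c 6) [⟨114, 1, 1⟩] []) (cond (Nat.beq c 7) [⟨114, -1, 1⟩] [])))) (cond (Nat.blt c 39) (cond (Nat.blt c 27) (cond (Nat.blt c 20) (cond (Nat.beq c 13) [⟨9, -1, 1⟩] []) (cond (Nat.beq c 20) [⟨16, 1, 1⟩] [])) (cond (Nat.blt c 36) (cond (Nat.beq c 27) [⟨23, 1, 1⟩] []) (cond (Nat.beq c 36) [⟨29, -1, 1⟩] []))) (cond (Nat.blt c 43) (cond (Nat.blt c 41) (cond (Nat.beq c 39) [⟨30, -1, 1⟩] []) (cond (Nat.beq c 41) [⟨31, -1, 1⟩] [])) (cond (Nat.blt c 55) (cond (Nat.beq c 43) [⟨33, 1, 1⟩] []) (cond (Nat.beq c 55) [⟨44, 1, 1⟩] []))))) (cond (Nat.blt c 78) (cond (Nat.blt c 63) (cond (Nat.blt c 60) (cond (Nat.blt c 59) (cond (Nat.beq c 57) [⟨45, 1, 1⟩] []) (cond (Nat.beq c 59) [⟨47, -1, 1⟩] [])) (cond (Nat.blt c 62) (cond (Nat.beq c 60) [⟨48, 1, 1⟩] []) (cond (Nat.beq c 62) [⟨50,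 -1, 1⟩] []))) (cond (Nat.blt c 76) (cond (Nat.blt c 74) (cond (Nat.beq c 63) [⟨52, -1, 1⟩] []) (cond (Nat.beq c 74) [⟨64, -1, 1⟩] [])) (cond (Nat.blt c 77) (cond (Nat.beq c 76) [⟨66, 1, 1⟩] []) (cond (Nat.beq c 77) [⟨68, 1, 1⟩] [])))) (cond (Nat.blt c 99) (cond (Nat.blt c 96) (cond (Nat.blt c 84) (cond (Nat.beq c 78) [⟨71, 1, 1⟩] []) (cond (Nat.beq c 84) [⟨80, -1, 1⟩] [])) (cond (Nat.blt c 98) (cond (Nat.beq c 96) [⟨86, -1, 1⟩] []) (cond (Nat.beq c 98) [⟨88, 1, 1⟩] []))) (cond (Nat.blt c 106) (cond (Nat.blt c 100) (cond (Nat.beq c 99) [⟨90, 1, 1⟩] []) (cond (Nat.beq c 100) [⟨93, 1, 1⟩] [])) (cond (Nat.blt c 112) (cond (Nat.beq c 106) [⟨102, -1, 1⟩] []) (cond (Nat.beq c 112) [⟨108, -1, 1⟩] [])))))) (cond (Nat.blt c 184) (cond (Nat.blt c 142) (cond (Nat.blt c 138) (cond (Nat.blt c 132) (cond (Nat.blt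 c 129) (cond (Nat.beq c 127) [⟨113, 1, 1⟩] []) (cond (Nat.beq c 129) [⟨115, 1, 1⟩] [])) (cond (Nat.blt c 136) (cond (Nat.beq c 132) [⟨116, 1, 1⟩] []) (cond (Nat.beq c 136) [⟨117, 1, 1⟩] []))) (cond (Nat.blt c 140) (cond (Nat.blt c 139) (cond (Nat.beq c 138) [⟨119, -1, 1⟩] []) (cond (Nat.beq c 139) [⟨123, -1, 1⟩] [])) (cond (Nat.blt c 141) (cond (Nat.beq c 140) [⟨126, -1, 1⟩] []) (cond (Nat.beq c 141) [⟨114, -1, 2⟩, ⟨0, 0, 1⟩, ⟨1, 0, 1⟩, ⟨2, 0, 1⟩, ⟨3, -1, 1⟩, ⟨4, -1, 1⟩, ⟨5, -1, 1⟩, ⟨6, -1, 1⟩, ⟨7, 0, 1⟩] [])))) (cond (Nat.blt c 165) (cond (Nat.blt c 153) (cond (Nat.blt c 147) (cond (Nat.beq c 142) [⟨128, -1, 1⟩] []) (cond (Nat.beq c 147) [⟨143, 1, 1⟩] [])) (cond (Nat.blt c 162) (cond (Nat.beq c 153) [⟨149, 1, 1⟩] []) (cond (Nat.beq c 162) [⟨155, -1, 1⟩] []))) (cond (Nat.blt c 169) (cond (Nat.blt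 c 167) (cond (Nat.beq c 165) [⟨156, -1, 1⟩] []) (cond (Nat.beq c 167) [⟨157, -1, 1⟩] [])) (cond (Nat.blt c 175) (cond (Nat.beq c 169) [⟨159, 1, 1⟩] []) (cond (Nat.beq c 175) [⟨171, 1, 1⟩] []))))) (cond (Nat.blt c 210) (cond (Nat.blt c 203) (cond (Nat.blt c 189) (cond (Nat.blt c 187) (cond (Nat.beq c 184) [⟨177, -1, 1⟩] []) (cond (Nat.beq c 187) [⟨178, -1, 1⟩] [])) (cond (Nat.blt c 191) (cond (Nat.beq c 189) [⟨179, -1, 1⟩] []) (cond (Nat.beq c 191) [⟨181, 1, 1⟩] []))) (cond (Nat.blt c 207) (cond (Nat.blt c 205) (cond (Nat.beq c 203) [⟨192, 1, 1⟩] []) (cond (Nat.beq c 205) [⟨193, 1, 1⟩] [])) (cond (Nat.blt c 208) (cond (Nat.beq c 207) [⟨195, -1, 1⟩] []) (cond (Nat.beq c 208) [⟨196, 1, 1⟩] [])))) (cond (Nat.blt c 225) (cond (Nat.blt c 222) (cond (Nat.blt c 211) (cond (Nat.beq c 210) [⟨198, -1, 1⟩]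 []) (cond (Nat.beq c 211) [⟨200, -1, 1⟩] [])) (cond (Nat.blt c 224) (cond (Nat.beq c 222) [⟨212, -1, 1⟩] []) (cond (Nat.beq c 224) [⟨214, 1, 1⟩] []))) (cond (Nat.blt c 232) (cond (Nat.blt c 226) (cond (Nat.beq c 225) [⟨216, 1, 1⟩] []) (cond (Nat.beq c 226) [⟨219, 1, 1⟩] [])) (cond (Nat.blt c 239) (cond (Nat.beq c 232) [⟨228, -1, 1⟩] []) (cond (Nat.blt c 246) (cond (Nat.beq c 239) [⟨235, -1, 1⟩] []) (cond (Nat.beq c 246) [⟨242, 1, 1⟩] [])))))))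

/-- Compiled columns of `x_107` for type E8. -/
def colsE8_107 (c : ℕ) : List CEnt :=
  cond (Nat.blt c 125) (cond (Nat.blt c 57) (cond (Nat.blt c 13) (cond (Nat.blt c 4) (cond (Nat.blt c 2) (cond (Nat.blt c 1) (cond (Nat.beq c 0) [⟨115, 0, 1⟩] []) (cond (Nat.beq c 1) [⟨115, -1, 1⟩] [])) (cond (Nat.blt c 3) (cond (Nat.beq c 2) [⟨115, -1, 1⟩] []) (cond (Nat.beq c 3) [⟨115, 1, 1⟩] []))) (cond (Nat.blt c 6) (cond (Nat.blt c 5) (cond (Nat.beq c 4) [⟨115, 0, 1⟩] []) (cond (Nat.beq c 5) [⟨115, 1, 1⟩] [])) (cond (Nat.blt c 7) (cond (Nat.beq c 6) [⟨115, -1, 1⟩] []) (cond (Nat.beq c 7) [⟨115, 0, 1⟩] [])))) (cond (Nat.blt c 38) (cond (Nat.blt c 26) (cond (Nat.blt c 19) (cond (Nat.beq c 13) [⟨10, -1, 1⟩] []) (cond (Nat.beq c 19) [⟨16, -1, 1⟩] [])) (cond (Nat.blt c 35) (cond (Nat.beq c 26) [⟨23, -1, 1⟩] [])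 (cond (Nat.beq c 35) [⟨29, 1, 1⟩] []))) (cond (Nat.blt c 42) (cond (Nat.blt c 41) (cond (Nat.beq c 38) [⟨30, 1, 1⟩] []) (cond (Nat.beq c 41) [⟨32, -1, 1⟩] [])) (cond (Nat.blt c 54) (cond (Nat.beq c 42) [⟨33, -1, 1⟩] []) (cond (Nat.beq c 54) [⟨44, -1, 1⟩] []))))) (cond (Nat.blt c 78) (cond (Nat.blt c 63) (cond (Nat.blt c 60) (cond (Nat.blt c 58) (cond (Nat.beq c 57) [⟨46, 1, 1⟩] []) (cond (Nat.beq c 58) [⟨47, 1, 1⟩] [])) (cond (Nat.blt c 61) (cond (Nat.beq c 60) [⟨49, 1, 1⟩] []) (cond (Nat.beq c 61) [⟨50, 1, 1⟩] []))) (cond (Nat.blt c 75) (cond (Nat.blt c 74) (cond (Nat.beq c 63) [⟨53, -1, 1⟩] []) (cond (Nat.beq c 74) [⟨65, -1, 1⟩] [])) (cond (Nat.blt c 77) (cond (Nat.beq c 75) [⟨66, -1, 1⟩] []) (cond (Nat.beq c 77) [⟨69, 1, 1⟩] [])))) (cond (Nat.blt c 99) (cond (Nat.blt c 96) (cond (Nat.blt c 84)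 (cond (Nat.beq c 78) [⟨72, 1, 1⟩] []) (cond (Nat.beq c 84) [⟨81, -1, 1⟩] [])) (cond (Nat.blt c 97) (cond (Nat.beq c 96) [⟨87, -1, 1⟩] []) (cond (Nat.beq c 97) [⟨88, -1, 1⟩] []))) (cond (Nat.blt c 106) (cond (Nat.blt c 100) (cond (Nat.beq c 99) [⟨91, 1, 1⟩] []) (cond (Nat.beq c 100) [⟨94, 1, 1⟩] [])) (cond (Nat.blt c 112) (cond (Nat.beq c 106) [⟨103, -1, 1⟩] []) (cond (Nat.beq c 112) [⟨109, -1, 1⟩] [])))))) (cond (Nat.blt c 183) (cond (Nat.blt c 142) (cond (Nat.blt c 138) (cond (Nat.blt c 131) (cond (Nat.blt c 126) (cond (Nat.beq c 125) [⟨113, 1, 1⟩] []) (cond (Nat.beq c 126) [⟨114, 1, 1⟩] [])) (cond (Nat.blt c 135) (cond (Nat.beq c 131) [⟨116, 1, 1⟩] []) (cond (Nat.beq c 135) [⟨117, 1, 1⟩] []))) (cond (Nat.blt c 140) (cond (Nat.blt c 139) (cond (Nat.beq c 138) [⟨120, -1, 1⟩] []) (cond (Nat.beq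 c 139) [⟨124, -1, 1⟩] [])) (cond (Nat.blt c 141) (cond (Nat.beq c 140) [⟨115, -1, 2⟩, ⟨0, 0, 1⟩, ⟨1, 0, 1⟩, ⟨2, 0, 1⟩, ⟨3, -1, 1⟩, ⟨4, -1, 1⟩, ⟨5, -1, 1⟩, ⟨6, 0, 1⟩, ⟨7, 0, 1⟩] []) (cond (Nat.beq c 141) [⟨129, -1, 1⟩] [])))) (cond (Nat.blt c 164) (cond (Nat.blt c 152) (cond (Nat.blt c 146) (cond (Nat.beq c 142) [⟨130, -1, 1⟩] []) (cond (Nat.beq c 146) [⟨143, 1, 1⟩] [])) (cond (Nat.blt c 161) (cond (Nat.beq c 152) [⟨149, 1, 1⟩] []) (cond (Nat.beq c 161) [⟨155, -1, 1⟩] []))) (cond (Nat.blt c 168) (cond (Nat.blt c 167) (cond (Nat.beq c 164) [⟨156, -1, 1⟩] []) (cond (Nat.beq c 167) [⟨158, 1, 1⟩] [])) (cond (Nat.blt c 174) (cond (Nat.beq c 168) [⟨159, 1, 1⟩] []) (cond (Nat.beq c 174) [⟨171, 1, 1⟩] []))))) (cond (Nat.blt c 209) (cond (Nat.blt c 202) (cond (Nat.blt c 189) (cond (Nat.blt c 186) (cond (Nat.beq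 c 183) [⟨177, -1, 1⟩] []) (cond (Nat.beq c 186) [⟨178, -1, 1⟩] [])) (cond (Nat.blt c 190) (cond (Nat.beq c 189) [⟨180, 1, 1⟩] []) (cond (Nat.beq c 190) [⟨181, 1, 1⟩] []))) (cond (Nat.blt c 206) (cond (Nat.blt c 205) (cond (Nat.beq c 202) [⟨192, 1, 1⟩] []) (cond (Nat.beq c 205) [⟨194, -1, 1⟩] [])) (cond (Nat.blt c 208) (cond (Nat.beq c 206) [⟨195, -1, 1⟩] []) (cond (Nat.beq c 208) [⟨197, -1, 1⟩] [])))) (cond (Nat.blt c 225) (cond (Nat.blt c 222) (cond (Nat.blt c 211) (cond (Nat.beq c 209) [⟨198, -1, 1⟩] []) (cond (Nat.beq c 211) [⟨201, 1, 1⟩] [])) (cond (Nat.blt c 223) (cond (Nat.beq c 222) [⟨213, 1, 1⟩] []) (cond (Nat.beq c 223) [⟨214, 1, 1⟩] []))) (cond (Nat.blt c 232) (cond (Nat.blt c 226) (cond (Nat.beq c 225) [⟨217, -1, 1⟩] []) (cond (Nat.beq c 226) [⟨220, -1, 1⟩] [])) (cond (Nat.blt c 239)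 (cond (Nat.beq c 232) [⟨229, 1, 1⟩] []) (cond (Nat.blt c 245) (cond (Nat.beq c 239) [⟨236, 1, 1⟩] []) (cond (Nat.beq c 245) [⟨242, 1, 1⟩] [])))))))

/-- Compiled columns of `x_108` for type E8. -/
def colsE8_108 (c : ℕ) : List CEnt :=
  cond (Nat.blt c 122) (cond (Nat.blt c 55) (cond (Nat.blt c 13) (cond (Nat.blt c 4) (cond (Nat.blt c 2) (cond (Nat.blt c 1) (cond (Nat.beq c 0) [⟨116, 0, 1⟩] []) (cond (Nat.beq c 1) [⟨116, -1, 1⟩] [])) (cond (Nat.blt c 3) (cond (Nat.beq c 2) [⟨116, -1, 1⟩] []) (cond (Nat.beq c 3) [⟨116, 1, 1⟩] []))) (cond (Nat.blt c 6) (cond (Nat.blt c 5) (cond (Nat.beq c 4) [⟨116, 1, 1⟩] []) (cond (Nat.beq c 5) [⟨116, -1, 1⟩] [])) (cond (Nat.blt c 7) (cond (Nat.beq c 6) [⟨116, 0, 1⟩] []) (cond (Nat.beq c 7) [⟨116, 0, 1⟩] [])))) (cond (Nat.blt c 38) (cond (Nat.blt c 25) (cond (Nat.blt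 c 18) (cond (Nat.beq c 13) [⟨11, -1, 1⟩] []) (cond (Nat.beq c 18) [⟨16, 1, 1⟩] [])) (cond (Nat.blt c 34) (cond (Nat.beq c 25) [⟨23, 1, 1⟩] []) (cond (Nat.beq c 34) [⟨29, -1, 1⟩] []))) (cond (Nat.blt c 40) (cond (Nat.blt c 39) (cond (Nat.beq c 38) [⟨31, 1, 1⟩] []) (cond (Nat.beq c 39) [⟨32, 1, 1⟩] [])) (cond (Nat.blt c 54) (cond (Nat.beq c 40) [⟨33, 1, 1⟩] []) (cond (Nat.beq c 54) [⟨45, -1, 1⟩] []))))) (cond (Nat.blt c 78) (cond (Nat.blt c 62) (cond (Nat.blt c 60) (cond (Nat.blt c 56) (cond (Nat.beq c 55) [⟨46, -1, 1⟩] []) (cond (Nat.beq c 56) [⟨47, -1, 1⟩] [])) (cond (Nat.blt c 61) (cond (Nat.beq c 60) [⟨51, 1, 1⟩] []) (cond (Nat.beq c 61) [⟨52, 1, 1⟩] []))) (cond (Nat.blt c 75) (cond (Nat.blt c 74) (cond (Nat.beq c 62) [⟨53, 1, 1⟩] []) (cond (Nat.beq c 74) [⟨67, -1, 1⟩] [])) (cond (Nat.blt c 76)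 (cond (Nat.beq c 75) [⟨68, -1, 1⟩] []) (cond (Nat.beq c 76) [⟨69, -1, 1⟩] [])))) (cond (Nat.blt c 98) (cond (Nat.blt c 96) (cond (Nat.blt c 84) (cond (Nat.beq c 78) [⟨73, 1, 1⟩] []) (cond (Nat.beq c 84) [⟨82, -1, 1⟩] [])) (cond (Nat.blt c 97) (cond (Nat.beq c 96) [⟨89, -1, 1⟩] []) (cond (Nat.beq c 97) [⟨90, -1, 1⟩] []))) (cond (Nat.blt c 106) (cond (Nat.blt c 100) (cond (Nat.beq c 98) [⟨91, -1, 1⟩] []) (cond (Nat.beq c 100) [⟨95, 1, 1⟩] [])) (cond (Nat.blt c 112) (cond (Nat.beq c 106) [⟨104, -1, 1⟩] []) (cond (Nat.beq c 112) [⟨110, -1, 1⟩] [])))))) (cond (Nat.blt c 182) (cond (Nat.blt c 142) (cond (Nat.blt c 138) (cond (Nat.blt c 124) (cond (Nat.blt c 123) (cond (Nat.beq c 122) [⟨113, 1, 1⟩] []) (cond (Nat.beq c 123) [⟨114, 1, 1⟩] [])) (cond (Nat.blt c 134) (cond (Nat.beq c 124) [⟨115, 1, 1⟩] [])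 (cond (Nat.beq c 134) [⟨117, 1, 1⟩] []))) (cond (Nat.blt c 140) (cond (Nat.blt c 139) (cond (Nat.beq c 138) [⟨121, -1, 1⟩] []) (cond (Nat.beq c 139) [⟨116, -1, 2⟩, ⟨0, 0, 1⟩, ⟨1, 0, 1⟩, ⟨2, 0, 1⟩, ⟨3, -1, 1⟩, ⟨4, -1, 1⟩, ⟨5, 0, 1⟩, ⟨6, 0, 1⟩, ⟨7, 0, 1⟩] [])) (cond (Nat.blt c 141) (cond (Nat.beq c 140) [⟨131, -1, 1⟩] []) (cond (Nat.beq c 141) [⟨132, -1, 1⟩] [])))) (cond (Nat.blt c 164) (cond (Nat.blt c 151) (cond (Nat.blt c 145) (cond (Nat.beq c 142) [⟨133, -1, 1⟩] []) (cond (Nat.beq c 145) [⟨143, 1, 1⟩] [])) (cond (Nat.blt c 160) (cond (Nat.beq c 151) [⟨149, 1, 1⟩] []) (cond (Nat.beq c 160) [⟨155, -1, 1⟩] []))) (cond (Nat.blt c 166) (cond (Nat.blt c 165) (cond (Nat.beq c 164) [⟨157, 1, 1⟩] []) (cond (Nat.beq c 165) [⟨158, 1, 1⟩] [])) (cond (Nat.blt c 173) (cond (Nat.beq c 166) [⟨159, 1, 1⟩] [])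 (cond (Nat.beq c 173) [⟨171, 1, 1⟩] []))))) (cond (Nat.blt c 209) (cond (Nat.blt c 202) (cond (Nat.blt c 187) (cond (Nat.blt c 186) (cond (Nat.beq c 182) [⟨177, -1, 1⟩] []) (cond (Nat.beq c 186) [⟨179, 1, 1⟩] [])) (cond (Nat.blt c 188) (cond (Nat.beq c 187) [⟨180, 1, 1⟩] []) (cond (Nat.beq c 188) [⟨181, 1, 1⟩] []))) (cond (Nat.blt c 204) (cond (Nat.blt c 203) (cond (Nat.beq c 202) [⟨193, -1, 1⟩] []) (cond (Nat.beq c 203) [⟨194, -1, 1⟩] [])) (cond (Nat.blt c 208) (cond (Nat.beq c 204) [⟨195, -1, 1⟩] []) (cond (Nat.beq c 208) [⟨199, 1, 1⟩] [])))) (cond (Nat.blt c 224) (cond (Nat.blt c 222) (cond (Nat.blt c 210) (cond (Nat.beq c 209) [⟨200, 1, 1⟩] []) (cond (Nat.beq c 210) [⟨201, 1, 1⟩] [])) (cond (Nat.blt c 223) (cond (Nat.beq c 222) [⟨215, -1, 1⟩] []) (cond (Nat.beq c 223) [⟨216, -1, 1⟩] []))) (cond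 (Nat.blt c 232) (cond (Nat.blt c 226) (cond (Nat.beq c 224) [⟨217, -1, 1⟩] []) (cond (Nat.beq c 226) [⟨221, 1, 1⟩] [])) (cond (Nat.blt c 239) (cond (Nat.beq c 232) [⟨230, -1, 1⟩] []) (cond (Nat.blt c 244) (cond (Nat.beq c 239) [⟨237, -1, 1⟩] []) (cond (Nat.beq c 244) [⟨242, 1, 1⟩] [])))))))

/-- Compiled columns of `x_109` for type E8. -/
def colsE8_109 (c : ℕ) : List CEnt :=
  cond (Nat.blt c 118) (cond (Nat.blt c 55) (cond (Nat.blt c 13) (cond (Nat.blt c 4) (cond (Nat.blt c 2) (cond (Nat.blt c 1) (cond (Nat.beq c 0) [⟨117, 0, 1⟩] []) (cond (Nat.beq c 1) [⟨117, -1, 1⟩] [])) (cond (Nat.blt c 3) (cond (Nat.beq c 2) [⟨117, -1, 1⟩] []) (cond (Nat.beq c 3) [⟨117, 2, 1⟩] []))) (cond (Nat.blt c 6) (cond (Nat.blt c 5) (cond (Nat.beq c 4) [⟨117, -1, 1⟩] []) (cond (Nat.beq c 5) [⟨117, 0, 1⟩] [])) (cond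 (Nat.blt c 7) (cond (Nat.beq c 6) [⟨117, 0, 1⟩] []) (cond (Nat.beq c 7) [⟨117, 0, 1⟩] [])))) (cond (Nat.blt c 35) (cond (Nat.blt c 24) (cond (Nat.blt c 17) (cond (Nat.beq c 13) [⟨12, -1, 1⟩] []) (cond (Nat.beq c 17) [⟨16, -1, 1⟩] [])) (cond (Nat.blt c 34) (cond (Nat.beq c 24) [⟨23, -1, 1⟩] []) (cond (Nat.beq c 34) [⟨30, -1, 1⟩] []))) (cond (Nat.blt c 37) (cond (Nat.blt c 36) (cond (Nat.beq c 35) [⟨31, -1, 1⟩] []) (cond (Nat.beq c 36) [⟨32, -1, 1⟩] [])) (cond (Nat.blt c 54) (cond (Nat.beq c 37) [⟨33, -1, 1⟩] []) (cond (Nat.beq c 54) [⟨48, -1, 1⟩] []))))) (cond (Nat.blt c 77) (cond (Nat.blt c 59) (cond (Nat.blt c 57) (cond (Nat.blt c 56) (cond (Nat.beq c 55) [⟨49, -1, 1⟩] []) (cond (Nat.beq c 56) [⟨50, -1, 1⟩] [])) (cond (Nat.blt c 58) (cond (Nat.beq c 57) [⟨51, -1, 1⟩] []) (cond (Nat.beq c 58) [⟨52,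 -1, 1⟩] []))) (cond (Nat.blt c 75) (cond (Nat.blt c 74) (cond (Nat.beq c 59) [⟨53, -1, 1⟩] []) (cond (Nat.beq c 74) [⟨70, -1, 1⟩] [])) (cond (Nat.blt c 76) (cond (Nat.beq c 75) [⟨71, -1, 1⟩] []) (cond (Nat.beq c 76) [⟨72, -1, 1⟩] [])))) (cond (Nat.blt c 98) (cond (Nat.blt c 96) (cond (Nat.blt c 84) (cond (Nat.beq c 77) [⟨73, -1, 1⟩] []) (cond (Nat.beq c 84) [⟨83, -1, 1⟩] [])) (cond (Nat.blt c 97) (cond (Nat.beq c 96) [⟨92, -1, 1⟩] []) (cond (Nat.beq c 97) [⟨93, -1, 1⟩] []))) (cond (Nat.blt c 106) (cond (Nat.blt c 99) (cond (Nat.beq c 98) [⟨94, -1, 1⟩] []) (cond (Nat.beq c 99) [⟨95, -1, 1⟩] [])) (cond (Nat.blt c 112) (cond (Nat.beq c 106) [⟨105, -1, 1⟩] []) (cond (Nat.beq c 112) [⟨111, -1, 1⟩] [])))))) (cond (Nat.blt c 182) (cond (Nat.blt c 142) (cond (Nat.blt c 138) (cond (Nat.blt c 120) (cond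 (Nat.blt c 119) (cond (Nat.beq c 118) [⟨113, 1, 1⟩] []) (cond (Nat.beq c 119) [⟨114, 1, 1⟩] [])) (cond (Nat.blt c 121) (cond (Nat.beq c 120) [⟨115, 1, 1⟩] []) (cond (Nat.beq c 121) [⟨116, 1, 1⟩] []))) (cond (Nat.blt c 140) (cond (Nat.blt c 139) (cond (Nat.beq c 138) [⟨117, -1, 2⟩, ⟨0, 0, 1⟩, ⟨1, 0, 1⟩, ⟨2, 0, 1⟩, ⟨3, -1, 1⟩, ⟨4, 0, 1⟩, ⟨5, 0, 1⟩, ⟨6, 0, 1⟩, ⟨7, 0, 1⟩] []) (cond (Nat.beq c 139) [⟨134, -1, 1⟩] [])) (cond (Nat.blt c 141) (cond (Nat.beq c 140) [⟨135, -1, 1⟩] []) (cond (Nat.beq c 141) [⟨136, -1, 1⟩] [])))) (cond (Nat.blt c 161) (cond (Nat.blt c 150) (cond (Nat.blt c 144) (cond (Nat.beq c 142) [⟨137, -1, 1⟩] []) (cond (Nat.beq c 144) [⟨143, 1, 1⟩] [])) (cond (Nat.blt c 160) (cond (Nat.beq c 150) [⟨149, 1, 1⟩] []) (cond (Nat.beq c 160) [⟨156, 1, 1⟩] []))) (cond (Nat.blt c 163) (cond (Nat.blt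 c 162) (cond (Nat.beq c 161) [⟨157, 1, 1⟩] []) (cond (Nat.beq c 162) [⟨158, 1, 1⟩] [])) (cond (Nat.blt c 172) (cond (Nat.beq c 163) [⟨159, 1, 1⟩] []) (cond (Nat.beq c 172) [⟨171, 1, 1⟩] []))))) (cond (Nat.blt c 206) (cond (Nat.blt c 202) (cond (Nat.blt c 184) (cond (Nat.blt c 183) (cond (Nat.beq c 182) [⟨178, 1, 1⟩] []) (cond (Nat.beq c 183) [⟨179, 1, 1⟩] [])) (cond (Nat.blt c 185) (cond (Nat.beq c 184) [⟨180, 1, 1⟩] []) (cond (Nat.beq c 185) [⟨181, 1, 1⟩] []))) (cond (Nat.blt c 204) (cond (Nat.blt c 203) (cond (Nat.beq c 202) [⟨196, 1, 1⟩] []) (cond (Nat.beq c 203) [⟨197, 1, 1⟩] [])) (cond (Nat.blt c 205) (cond (Nat.beq c 204) [⟨198, 1, 1⟩] []) (cond (Nat.beq c 205) [⟨199, 1, 1⟩] [])))) (cond (Nat.blt c 224) (cond (Nat.blt c 222) (cond (Nat.blt c 207) (cond (Nat.beq c 206) [⟨200, 1, 1⟩] []) (cond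 (Nat.beq c 207) [⟨201, 1, 1⟩] [])) (cond (Nat.blt c 223) (cond (Nat.beq c 222) [⟨218, 1, 1⟩] []) (cond (Nat.beq c 223) [⟨219, 1, 1⟩] []))) (cond (Nat.blt c 232) (cond (Nat.blt c 225) (cond (Nat.beq c 224) [⟨220, 1, 1⟩] []) (cond (Nat.beq c 225) [⟨221, 1, 1⟩] [])) (cond (Nat.blt c 239) (cond (Nat.beq c 232) [⟨231, 1, 1⟩] []) (cond (Nat.blt c 243) (cond (Nat.beq c 239) [⟨238, 1, 1⟩] []) (cond (Nat.beq c 243) [⟨242, 1, 1⟩] [])))))))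

/-- Compiled columns of `x_110` for type E8. -/
def colsE8_110 (c : ℕ) : List CEnt :=
  cond (Nat.blt c 117) (cond (Nat.blt c 52) (cond (Nat.blt c 12) (cond (Nat.blt c 4) (cond (Nat.blt c 2) (cond (Nat.blt c 1) (cond (Nat.beq c 0) [⟨118, 0, 1⟩] []) (cond (Nat.beq c 1) [⟨118, 0, 1⟩] [])) (cond (Nat.blt c 3) (cond (Nat.beq c 2) [⟨118, 0, 1⟩] []) (cond (Nat.beq c 3) [⟨118, -1, 1⟩] []))) (cond (Nat.blt c 6) (cond (Nat.blt c 5) (cond (Nat.beq c 4) [⟨118, 1, 1⟩] []) (cond (Nat.beq c 5) [⟨118, 0, 1⟩] [])) (cond (Nat.blt c 7) (cond (Nat.beq c 6) [⟨118, 0, 1⟩] []) (cond (Nat.beq c 7) [⟨118, 1, 1⟩] [])))) (cond (Nat.blt c 40) (cond (Nat.blt c 28) (cond (Nat.blt c 21) (cond (Nat.beq c 12) [⟨8, -1, 1⟩] []) (cond (Nat.beq c 21) [⟨17, 1, 1⟩] [])) (cond (Nat.blt c 33) (cond (Nat.beq c 28) [⟨24, 1, 1⟩] []) (cond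 (Nat.beq c 33) [⟨29, 1, 1⟩] []))) (cond (Nat.blt c 43) (cond (Nat.blt c 42) (cond (Nat.beq c 40) [⟨34, -1, 1⟩] []) (cond (Nat.beq c 42) [⟨35, -1, 1⟩] [])) (cond (Nat.blt c 50) (cond (Nat.beq c 43) [⟨36, -1, 1⟩] []) (cond (Nat.beq c 50) [⟨44, -1, 1⟩] []))))) (cond (Nat.blt c 78) (cond (Nat.blt c 63) (cond (Nat.blt c 61) (cond (Nat.blt c 53) (cond (Nat.beq c 52) [⟨45, -1, 1⟩] []) (cond (Nat.beq c 53) [⟨46, -1, 1⟩] [])) (cond (Nat.blt c 62) (cond (Nat.beq c 61) [⟨54, 1, 1⟩] []) (cond (Nat.beq c 62) [⟨55, 1, 1⟩] []))) (cond (Nat.blt c 72) (cond (Nat.blt c 71) (cond (Nat.beq c 63) [⟨57, 1, 1⟩] []) (cond (Nat.beq c 71) [⟨64, 1, 1⟩] [])) (cond (Nat.blt c 73) (cond (Nat.beq c 72) [⟨65, 1, 1⟩] []) (cond (Nat.beq c 73) [⟨67, 1, 1⟩] [])))) (cond (Nat.blt c 95) (cond (Nat.blt c 93) (cond (Nat.blt c 83) (cond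 (Nat.beq c 78) [⟨74, -1, 1⟩] []) (cond (Nat.beq c 83) [⟨79, -1, 1⟩] [])) (cond (Nat.blt c 94) (cond (Nat.beq c 93) [⟨86, 1, 1⟩] []) (cond (Nat.beq c 94) [⟨87, 1, 1⟩] []))) (cond (Nat.blt c 105) (cond (Nat.blt c 100) (cond (Nat.beq c 95) [⟨89, 1, 1⟩] []) (cond (Nat.beq c 100) [⟨96, -1, 1⟩] [])) (cond (Nat.blt c 111) (cond (Nat.beq c 105) [⟨101, -1, 1⟩] []) (cond (Nat.beq c 111) [⟨107, -1, 1⟩] [])))))) (cond (Nat.blt c 181) (cond (Nat.blt c 142) (cond (Nat.blt c 134) (cond (Nat.blt c 130) (cond (Nat.blt c 128) (cond (Nat.beq c 117) [⟨113, -1, 1⟩] []) (cond (Nat.beq c 128) [⟨119, 1, 1⟩] [])) (cond (Nat.blt c 133) (cond (Nat.beq c 130) [⟨120, 1, 1⟩] []) (cond (Nat.beq c 133) [⟨121, 1, 1⟩] []))) (cond (Nat.blt c 136) (cond (Nat.blt c 135) (cond (Nat.beq c 134) [⟨122, -1, 1⟩] []) (cond (Nat.beq c 135)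 [⟨125, -1, 1⟩] [])) (cond (Nat.blt c 137) (cond (Nat.beq c 136) [⟨127, -1, 1⟩] []) (cond (Nat.beq c 137) [⟨118, -1, 2⟩, ⟨0, 0, 1⟩, ⟨1, 0, 1⟩, ⟨2, 0, 1⟩, ⟨3, 0, 1⟩, ⟨4, -1, 1⟩, ⟨5, -1, 1⟩, ⟨6, -1, 1⟩, ⟨7, -1, 1⟩] [])))) (cond (Nat.blt c 166) (cond (Nat.blt c 154) (cond (Nat.blt c 148) (cond (Nat.beq c 142) [⟨138, 1, 1⟩] []) (cond (Nat.beq c 148) [⟨144, 1, 1⟩] [])) (cond (Nat.blt c 159) (cond (Nat.beq c 154) [⟨150, 1, 1⟩] []) (cond (Nat.beq c 159) [⟨155, 1, 1⟩] []))) (cond (Nat.blt c 169) (cond (Nat.blt c 168) (cond (Nat.beq c 166) [⟨160, -1, 1⟩] []) (cond (Nat.beq c 168) [⟨161, -1, 1⟩] [])) (cond (Nat.blt c 176) (cond (Nat.beq c 169) [⟨162, -1, 1⟩] []) (cond (Nat.beq c 176) [⟨172, 1, 1⟩] []))))) (cond (Nat.blt c 210) (cond (Nat.blt c 198) (cond (Nat.blt c 190) (cond (Nat.blt c 188) (cond (Nat.beq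 c 181) [⟨177, 1, 1⟩] []) (cond (Nat.beq c 188) [⟨182, -1, 1⟩] [])) (cond (Nat.blt c 191) (cond (Nat.beq c 190) [⟨183, -1, 1⟩] []) (cond (Nat.beq c 191) [⟨184, -1, 1⟩] []))) (cond (Nat.blt c 201) (cond (Nat.blt c 200) (cond (Nat.beq c 198) [⟨192, -1, 1⟩] []) (cond (Nat.beq c 200) [⟨193, -1, 1⟩] [])) (cond (Nat.blt c 209) (cond (Nat.beq c 201) [⟨194, -1, 1⟩] []) (cond (Nat.beq c 209) [⟨202, 1, 1⟩] [])))) (cond (Nat.blt c 221) (cond (Nat.blt c 219) (cond (Nat.blt c 211) (cond (Nat.beq c 210) [⟨203, 1, 1⟩] []) (cond (Nat.beq c 211) [⟨205, 1, 1⟩] [])) (cond (Nat.blt c 220) (cond (Nat.beq c 219) [⟨212, 1, 1⟩] []) (cond (Nat.beq c 220) [⟨213, 1, 1⟩] []))) (cond (Nat.blt c 231) (cond (Nat.blt c 226) (cond (Nat.beq c 221) [⟨215, 1, 1⟩] []) (cond (Nat.beq c 226) [⟨222, -1, 1⟩] [])) (cond (Nat.blt c 238)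 (cond (Nat.beq c 231) [⟨227, -1, 1⟩] []) (cond (Nat.blt c 247) (cond (Nat.beq c 238) [⟨234, -1, 1⟩] []) (cond (Nat.beq c 247) [⟨243, 1, 1⟩] [])))))))

/-- Compiled columns of `x_111` for type E8. -/
def colsE8_111 (c : ℕ) : List CEnt :=
  cond (Nat.blt c 117) (cond (Nat.blt c 51) (cond (Nat.blt c 12) (cond (Nat.blt c 4) (cond (Nat.blt c 2) (cond (Nat.blt c 1) (cond (Nat.beq c 0) [⟨119, 0, 1⟩] []) (cond (Nat.beq c 1) [⟨119, 0, 1⟩] [])) (cond (Nat.blt c 3) (cond (Nat.beq c 2) [⟨119, 0, 1⟩] []) (cond (Nat.beq c 3) [⟨119, -1, 1⟩] []))) (cond (Nat.blt c 6) (cond (Nat.blt c 5) (cond (Nat.beq c 4) [⟨119, 1, 1⟩] []) (cond (Nat.beq c 5) [⟨119, 0, 1⟩] [])) (cond (Nat.blt c 7) (cond (Nat.beq c 6) [⟨119, 1, 1⟩] []) (cond (Nat.beq c 7) [⟨119, -1, 1⟩] [])))) (cond (Nat.blt c 39) (cond (Nat.blt c 27) (cond (Nat.blt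 c 20) (cond (Nat.beq c 12) [⟨9, -1, 1⟩] []) (cond (Nat.beq c 20) [⟨17, -1, 1⟩] [])) (cond (Nat.blt c 32) (cond (Nat.beq c 27) [⟨24, -1, 1⟩] []) (cond (Nat.beq c 32) [⟨29, -1, 1⟩] []))) (cond (Nat.blt c 43) (cond (Nat.blt c 41) (cond (Nat.beq c 39) [⟨34, 1, 1⟩] []) (cond (Nat.beq c 41) [⟨35, 1, 1⟩] [])) (cond (Nat.blt c 49) (cond (Nat.beq c 43) [⟨37, -1, 1⟩] []) (cond (Nat.beq c 49) [⟨44, 1, 1⟩] []))))) (cond (Nat.blt c 78) (cond (Nat.blt c 63) (cond (Nat.blt c 60) (cond (Nat.blt c 53) (cond (Nat.beq c 51) [⟨45, 1, 1⟩] []) (cond (Nat.beq c 53) [⟨47, -1, 1⟩] [])) (cond (Nat.blt c 62) (cond (Nat.beq c 60) [⟨54, -1, 1⟩] []) (cond (Nat.beq c 62) [⟨56, 1, 1⟩] []))) (cond (Nat.blt c 72) (cond (Nat.blt c 70) (cond (Nat.beq c 63) [⟨58, 1, 1⟩] []) (cond (Nat.beq c 70) [⟨64, -1, 1⟩] [])) (cond (Nat.blt c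 73) (cond (Nat.beq c 72) [⟨66, 1, 1⟩] []) (cond (Nat.beq c 73) [⟨68, 1, 1⟩] [])))) (cond (Nat.blt c 95) (cond (Nat.blt c 92) (cond (Nat.blt c 83) (cond (Nat.beq c 78) [⟨75, -1, 1⟩] []) (cond (Nat.beq c 83) [⟨80, -1, 1⟩] [])) (cond (Nat.blt c 94) (cond (Nat.beq c 92) [⟨86, -1, 1⟩] []) (cond (Nat.beq c 94) [⟨88, 1, 1⟩] []))) (cond (Nat.blt c 105) (cond (Nat.blt c 100) (cond (Nat.beq c 95) [⟨90, 1, 1⟩] []) (cond (Nat.beq c 100) [⟨97, -1, 1⟩] [])) (cond (Nat.blt c 111) (cond (Nat.beq c 105) [⟨102, -1, 1⟩] []) (cond (Nat.beq c 111) [⟨108, -1, 1⟩] [])))))) (cond (Nat.blt c 180) (cond (Nat.blt c 141) (cond (Nat.blt c 134) (cond (Nat.blt c 129) (cond (Nat.blt c 127) (cond (Nat.beq c 117) [⟨114, -1, 1⟩] []) (cond (Nat.beq c 127) [⟨118, 1, 1⟩] [])) (cond (Nat.blt c 132) (cond (Nat.beq c 129) [⟨120, 1, 1⟩]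 []) (cond (Nat.beq c 132) [⟨121, 1, 1⟩] []))) (cond (Nat.blt c 136) (cond (Nat.blt c 135) (cond (Nat.beq c 134) [⟨123, -1, 1⟩] []) (cond (Nat.beq c 135) [⟨126, -1, 1⟩] [])) (cond (Nat.blt c 137) (cond (Nat.beq c 136) [⟨119, -1, 2⟩, ⟨0, 0, 1⟩, ⟨1, 0, 1⟩, ⟨2, 0, 1⟩, ⟨3, 0, 1⟩, ⟨4, -1, 1⟩, ⟨5, -1, 1⟩, ⟨6, -1, 1⟩, ⟨7, 0, 1⟩] []) (cond (Nat.beq c 137) [⟨128, -1, 1⟩] [])))) (cond (Nat.blt c 165) (cond (Nat.blt c 153) (cond (Nat.blt c 147) (cond (Nat.beq c 141) [⟨138, 1, 1⟩] []) (cond (Nat.beq c 147) [⟨144, 1, 1⟩] [])) (cond (Nat.blt c 158) (cond (Nat.beq c 153) [⟨150, 1, 1⟩] []) (cond (Nat.beq c 158) [⟨155, 1, 1⟩] []))) (cond (Nat.blt c 169) (cond (Nat.blt c 167) (cond (Nat.beq c 165) [⟨160, -1, 1⟩] []) (cond (Nat.beq c 167) [⟨161, -1, 1⟩] [])) (cond (Nat.blt c 175) (cond (Nat.beq c 169) [⟨163, 1, 1⟩]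 []) (cond (Nat.beq c 175) [⟨172, 1, 1⟩] []))))) (cond (Nat.blt c 210) (cond (Nat.blt c 197) (cond (Nat.blt c 189) (cond (Nat.blt c 187) (cond (Nat.beq c 180) [⟨177, 1, 1⟩] []) (cond (Nat.beq c 187) [⟨182, -1, 1⟩] [])) (cond (Nat.blt c 191) (cond (Nat.beq c 189) [⟨183, -1, 1⟩] []) (cond (Nat.beq c 191) [⟨185, 1, 1⟩] []))) (cond (Nat.blt c 201) (cond (Nat.blt c 199) (cond (Nat.beq c 197) [⟨192, -1, 1⟩] []) (cond (Nat.beq c 199) [⟨193, -1, 1⟩] [])) (cond (Nat.blt c 208) (cond (Nat.beq c 201) [⟨195, 1, 1⟩] []) (cond (Nat.beq c 208) [⟨202, 1, 1⟩] [])))) (cond (Nat.blt c 221) (cond (Nat.blt c 218) (cond (Nat.blt c 211) (cond (Nat.beq c 210) [⟨204, -1, 1⟩] []) (cond (Nat.beq c 211) [⟨206, -1, 1⟩] [])) (cond (Nat.blt c 220) (cond (Nat.beq c 218) [⟨212, 1, 1⟩] []) (cond (Nat.beq c 220) [⟨214, -1, 1⟩] [])))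 (cond (Nat.blt c 231) (cond (Nat.blt c 226) (cond (Nat.beq c 221) [⟨216, -1, 1⟩] []) (cond (Nat.beq c 226) [⟨223, 1, 1⟩] [])) (cond (Nat.blt c 238) (cond (Nat.beq c 231) [⟨228, 1, 1⟩] []) (cond (Nat.blt c 246) (cond (Nat.beq c 238) [⟨235, 1, 1⟩] []) (cond (Nat.beq c 246) [⟨243, 1, 1⟩] [])))))))

/-- Compiled columns of `x_112` for type E8. -/
def colsE8_112 (c : ℕ) : List CEnt :=
  cond (Nat.blt c 117) (cond (Nat.blt c 51) (cond (Nat.blt c 12) (cond (Nat.blt c 4) (cond (Nat.blt c 2) (cond (Nat.blt c 1) (cond (Nat.beq c 0) [⟨120, 0, 1⟩] []) (cond (Nat.beq c 1) [⟨120, 0, 1⟩] [])) (cond (Nat.blt c 3) (cond (Nat.beq c 2) [⟨120, 0, 1⟩] []) (cond (Nat.beq c 3) [⟨120, -1, 1⟩] []))) (cond (Nat.blt c 6) (cond (Nat.blt c 5) (cond (Nat.beq c 4) [⟨120, 1, 1⟩] []) (cond (Nat.beq c 5) [⟨120, 1, 1⟩] [])) (cond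 (Nat.blt c 7) (cond (Nat.beq c 6) [⟨120, -1, 1⟩] []) (cond (Nat.beq c 7) [⟨120, 0, 1⟩] [])))) (cond (Nat.blt c 38) (cond (Nat.blt c 26) (cond (Nat.blt c 19) (cond (Nat.beq c 12) [⟨10, -1, 1⟩] []) (cond (Nat.beq c 19) [⟨17, 1, 1⟩] [])) (cond (Nat.blt c 31) (cond (Nat.beq c 26) [⟨24, 1, 1⟩] []) (cond (Nat.beq c 31) [⟨29, 1, 1⟩] []))) (cond (Nat.blt c 42) (cond (Nat.blt c 41) (cond (Nat.beq c 38) [⟨34, -1, 1⟩] []) (cond (Nat.beq c 41) [⟨36, 1, 1⟩] [])) (cond (Nat.blt c 48) (cond (Nat.beq c 42) [⟨37, 1, 1⟩] []) (cond (Nat.beq c 48) [⟨44, -1, 1⟩] []))))) (cond (Nat.blt c 78) (cond (Nat.blt c 63) (cond (Nat.blt c 60) (cond (Nat.blt c 52) (cond (Nat.beq c 51) [⟨46, 1, 1⟩] []) (cond (Nat.beq c 52) [⟨47, 1, 1⟩] [])) (cond (Nat.blt c 61) (cond (Nat.beq c 60) [⟨55, -1, 1⟩] []) (cond (Nat.beq c 61) [⟨56, -1,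 1⟩] []))) (cond (Nat.blt c 71) (cond (Nat.blt c 70) (cond (Nat.beq c 63) [⟨59, 1, 1⟩] []) (cond (Nat.beq c 70) [⟨65, -1, 1⟩] [])) (cond (Nat.blt c 73) (cond (Nat.beq c 71) [⟨66, -1, 1⟩] []) (cond (Nat.beq c 73) [⟨69, 1, 1⟩] [])))) (cond (Nat.blt c 95) (cond (Nat.blt c 92) (cond (Nat.blt c 83) (cond (Nat.beq c 78) [⟨76, -1, 1⟩] []) (cond (Nat.beq c 83) [⟨81, -1, 1⟩] [])) (cond (Nat.blt c 93) (cond (Nat.beq c 92) [⟨87, -1, 1⟩] []) (cond (Nat.beq c 93) [⟨88, -1, 1⟩] []))) (cond (Nat.blt c 105) (cond (Nat.blt c 100) (cond (Nat.beq c 95) [⟨91, 1, 1⟩] []) (cond (Nat.beq c 100) [⟨98, -1, 1⟩] [])) (cond (Nat.blt c 111) (cond (Nat.beq c 105) [⟨103, -1, 1⟩] []) (cond (Nat.beq c 111) [⟨109, -1, 1⟩] [])))))) (cond (Nat.blt c 179) (cond (Nat.blt c 140) (cond (Nat.blt c 134) (cond (Nat.blt c 126) (cond (Nat.blt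 c 125) (cond (Nat.beq c 117) [⟨115, -1, 1⟩] []) (cond (Nat.beq c 125) [⟨118, 1, 1⟩] [])) (cond (Nat.blt c 131) (cond (Nat.beq c 126) [⟨119, 1, 1⟩] []) (cond (Nat.beq c 131) [⟨121, 1, 1⟩] []))) (cond (Nat.blt c 136) (cond (Nat.blt c 135) (cond (Nat.beq c 134) [⟨124, -1, 1⟩] []) (cond (Nat.beq c 135) [⟨120, -1, 2⟩, ⟨0, 0, 1⟩, ⟨1, 0, 1⟩, ⟨2, 0, 1⟩, ⟨3, 0, 1⟩, ⟨4, -1, 1⟩, ⟨5, -1, 1⟩, ⟨6, 0, 1⟩, ⟨7, 0, 1⟩] [])) (cond (Nat.blt c 137) (cond (Nat.beq c 136) [⟨129, -1, 1⟩] []) (cond (Nat.beq c 137) [⟨130, -1, 1⟩] [])))) (cond (Nat.blt c 164) (cond (Nat.blt c 152) (cond (Nat.blt c 146) (cond (Nat.beq c 140) [⟨138, 1, 1⟩] []) (cond (Nat.beq c 146) [⟨144, 1, 1⟩] [])) (cond (Nat.blt c 157) (cond (Nat.beq c 152) [⟨150, 1, 1⟩] []) (cond (Nat.beq c 157) [⟨155, 1, 1⟩] []))) (cond (Nat.blt c 168) (cond (Nat.blt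 c 167) (cond (Nat.beq c 164) [⟨160, -1, 1⟩] []) (cond (Nat.beq c 167) [⟨162, 1, 1⟩] [])) (cond (Nat.blt c 174) (cond (Nat.beq c 168) [⟨163, 1, 1⟩] []) (cond (Nat.beq c 174) [⟨172, 1, 1⟩] []))))) (cond (Nat.blt c 209) (cond (Nat.blt c 196) (cond (Nat.blt c 189) (cond (Nat.blt c 186) (cond (Nat.beq c 179) [⟨177, 1, 1⟩] []) (cond (Nat.beq c 186) [⟨182, -1, 1⟩] [])) (cond (Nat.blt c 190) (cond (Nat.beq c 189) [⟨184, 1, 1⟩] []) (cond (Nat.beq c 190) [⟨185, 1, 1⟩] []))) (cond (Nat.blt c 200) (cond (Nat.blt c 199) (cond (Nat.beq c 196) [⟨192, -1, 1⟩] []) (cond (Nat.beq c 199) [⟨194, 1, 1⟩] [])) (cond (Nat.blt c 208) (cond (Nat.beq c 200) [⟨195, 1, 1⟩] []) (cond (Nat.beq c 208) [⟨203, -1, 1⟩] [])))) (cond (Nat.blt c 221) (cond (Nat.blt c 218) (cond (Nat.blt c 211) (cond (Nat.beq c 209) [⟨204, -1, 1⟩] [])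 (cond (Nat.beq c 211) [⟨207, 1, 1⟩] [])) (cond (Nat.blt c 219) (cond (Nat.beq c 218) [⟨213, -1, 1⟩] []) (cond (Nat.beq c 219) [⟨214, -1, 1⟩] []))) (cond (Nat.blt c 231) (cond (Nat.blt c 226) (cond (Nat.beq c 221) [⟨217, 1, 1⟩] []) (cond (Nat.beq c 226) [⟨224, -1, 1⟩] [])) (cond (Nat.blt c 238) (cond (Nat.beq c 231) [⟨229, -1, 1⟩] []) (cond (Nat.blt c 245) (cond (Nat.beq c 238) [⟨236, -1, 1⟩] []) (cond (Nat.beq c 245) [⟨243, 1, 1⟩] [])))))))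

/-- Compiled columns of `x_113` for type E8. -/
def colsE8_113 (c : ℕ) : List CEnt :=
  cond (Nat.blt c 117) (cond (Nat.blt c 49) (cond (Nat.blt c 12) (cond (Nat.blt c 4) (cond (Nat.blt c 2) (cond (Nat.blt c 1) (cond (Nat.beq c 0) [⟨121, 0, 1⟩] []) (cond (Nat.beq c 1) [⟨121, 0, 1⟩] [])) (cond (Nat.blt c 3) (cond (Nat.beq c 2) [⟨121, 0, 1⟩] []) (cond (Nat.beq c 3) [⟨121, -1, 1⟩] []))) (cond (Nat.blt c 6) (cond (Nat.blt c 5) (cond (Nat.beq c 4) [⟨121, 2, 1⟩] []) (cond (Nat.beq c 5) [⟨121, -1, 1⟩] [])) (cond (Nat.blt c 7) (cond (Nat.beq c 6) [⟨121, 0, 1⟩] []) (cond (Nat.beq c 7) [⟨121, 0, 1⟩] [])))) (cond (Nat.blt c 38) (cond (Nat.blt c 25) (cond (Nat.blt c 18) (cond (Nat.beq c 12) [⟨11, -1, 1⟩] []) (cond (Nat.beq c 18) [⟨17, -1, 1⟩] [])) (cond (Nat.blt c 30) (cond (Nat.beq c 25) [⟨24, -1, 1⟩] [])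 (cond (Nat.beq c 30) [⟨29, -1, 1⟩] []))) (cond (Nat.blt c 40) (cond (Nat.blt c 39) (cond (Nat.beq c 38) [⟨35, -1, 1⟩] []) (cond (Nat.beq c 39) [⟨36, -1, 1⟩] [])) (cond (Nat.blt c 48) (cond (Nat.beq c 40) [⟨37, -1, 1⟩] []) (cond (Nat.beq c 48) [⟨45, -1, 1⟩] []))))) (cond (Nat.blt c 78) (cond (Nat.blt c 62) (cond (Nat.blt c 60) (cond (Nat.blt c 50) (cond (Nat.beq c 49) [⟨46, -1, 1⟩] []) (cond (Nat.beq c 50) [⟨47, -1, 1⟩] [])) (cond (Nat.blt c 61) (cond (Nat.beq c 60) [⟨57, -1, 1⟩] []) (cond (Nat.beq c 61) [⟨58, -1, 1⟩] []))) (cond (Nat.blt c 71) (cond (Nat.blt c 70) (cond (Nat.beq c 62) [⟨59, -1, 1⟩] []) (cond (Nat.beq c 70) [⟨67, -1, 1⟩] [])) (cond (Nat.blt c 72) (cond (Nat.beq c 71) [⟨68, -1, 1⟩] []) (cond (Nat.beq c 72) [⟨69, -1, 1⟩] [])))) (cond (Nat.blt c 94) (cond (Nat.blt c 92) (cond (Nat.blt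 c 83) (cond (Nat.beq c 78) [⟨77, -1, 1⟩] []) (cond (Nat.beq c 83) [⟨82, -1, 1⟩] [])) (cond (Nat.blt c 93) (cond (Nat.beq c 92) [⟨89, -1, 1⟩] []) (cond (Nat.beq c 93) [⟨90, -1, 1⟩] []))) (cond (Nat.blt c 105) (cond (Nat.blt c 100) (cond (Nat.beq c 94) [⟨91, -1, 1⟩] []) (cond (Nat.beq c 100) [⟨99, -1, 1⟩] [])) (cond (Nat.blt c 111) (cond (Nat.beq c 105) [⟨104, -1, 1⟩] []) (cond (Nat.beq c 111) [⟨110, -1, 1⟩] [])))))) (cond (Nat.blt c 178) (cond (Nat.blt c 139) (cond (Nat.blt c 134) (cond (Nat.blt c 123) (cond (Nat.blt c 122) (cond (Nat.beq c 117) [⟨116, -1, 1⟩] []) (cond (Nat.beq c 122) [⟨118, 1, 1⟩] [])) (cond (Nat.blt c 124) (cond (Nat.beq c 123) [⟨119, 1, 1⟩] []) (cond (Nat.beq c 124) [⟨120, 1, 1⟩] []))) (cond (Nat.blt c 136) (cond (Nat.blt c 135) (cond (Nat.beq c 134) [⟨121, -1, 2⟩, ⟨0, 0, 1⟩,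 ⟨1, 0, 1⟩, ⟨2, 0, 1⟩, ⟨3, 0, 1⟩, ⟨4, -1, 1⟩, ⟨5, 0, 1⟩, ⟨6, 0, 1⟩, ⟨7, 0, 1⟩] []) (cond (Nat.beq c 135) [⟨131, -1, 1⟩] [])) (cond (Nat.blt c 137) (cond (Nat.beq c 136) [⟨132, -1, 1⟩] []) (cond (Nat.beq c 137) [⟨133, -1, 1⟩] [])))) (cond (Nat.blt c 164) (cond (Nat.blt c 151) (cond (Nat.blt c 145) (cond (Nat.beq c 139) [⟨138, 1, 1⟩] []) (cond (Nat.beq c 145) [⟨144, 1, 1⟩] [])) (cond (Nat.blt c 156) (cond (Nat.beq c 151) [⟨150, 1, 1⟩] []) (cond (Nat.beq c 156) [⟨155, 1, 1⟩] []))) (cond (Nat.blt c 166) (cond (Nat.blt c 165) (cond (Nat.beq c 164) [⟨161, 1, 1⟩] []) (cond (Nat.beq c 165) [⟨162, 1, 1⟩] [])) (cond (Nat.blt c 173) (cond (Nat.beq c 166) [⟨163, 1, 1⟩] []) (cond (Nat.beq c 173) [⟨172, 1, 1⟩] []))))) (cond (Nat.blt c 209) (cond (Nat.blt c 196) (cond (Nat.blt c 187) (cond (Nat.blt c 186) (cond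 (Nat.beq c 178) [⟨177, 1, 1⟩] []) (cond (Nat.beq c 186) [⟨183, 1, 1⟩] [])) (cond (Nat.blt c 188) (cond (Nat.beq c 187) [⟨184, 1, 1⟩] []) (cond (Nat.beq c 188) [⟨185, 1, 1⟩] []))) (cond (Nat.blt c 198) (cond (Nat.blt c 197) (cond (Nat.beq c 196) [⟨193, 1, 1⟩] []) (cond (Nat.beq c 197) [⟨194, 1, 1⟩] [])) (cond (Nat.blt c 208) (cond (Nat.beq c 198) [⟨195, 1, 1⟩] []) (cond (Nat.beq c 208) [⟨205, 1, 1⟩] [])))) (cond (Nat.blt c 220) (cond (Nat.blt c 218) (cond (Nat.blt c 210) (cond (Nat.beq c 209) [⟨206, 1, 1⟩] []) (cond (Nat.beq c 210) [⟨207, 1, 1⟩] [])) (cond (Nat.blt c 219) (cond (Nat.beq c 218) [⟨215, 1, 1⟩] []) (cond (Nat.beq c 219) [⟨216, 1, 1⟩] []))) (cond (Nat.blt c 231) (cond (Nat.blt c 226) (cond (Nat.beq c 220) [⟨217, 1, 1⟩] []) (cond (Nat.beq c 226) [⟨225, 1, 1⟩] [])) (cond (Nat.blt c 238)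 (cond (Nat.beq c 231) [⟨230, 1, 1⟩] []) (cond (Nat.blt c 244) (cond (Nat.beq c 238) [⟨237, 1, 1⟩] []) (cond (Nat.beq c 244) [⟨243, 1, 1⟩] [])))))))

/-- Compiled columns of `x_114` for type E8. -/
def colsE8_114 (c : ℕ) : List CEnt :=
  cond (Nat.blt c 116) (cond (Nat.blt c 52) (cond (Nat.blt c 11) (cond (Nat.blt c 4) (cond (Nat.blt c 2) (cond (Nat.blt c 1) (cond (Nat.beq c 0) [⟨122, 0, 1⟩] []) (cond (Nat.beq c 1) [⟨122, 0, 1⟩] [])) (cond (Nat.blt c 3) (cond (Nat.beq c 2) [⟨122, 0, 1⟩] []) (cond (Nat.beq c 3) [⟨122, 0, 1⟩] []))) (cond (Nat.blt c 6) (cond (Nat.blt c 5) (cond (Nat.beq c 4) [⟨122, -1, 1⟩] []) (cond (Nat.beq c 5) [⟨122, 1, 1⟩] [])) (cond (Nat.blt c 7) (cond (Nat.beq c 6) [⟨122, 0, 1⟩] []) (cond (Nat.beq c 7) [⟨122, 1, 1⟩] [])))) (cond (Nat.blt c 37) (cond (Nat.blt c 28) (cond (Nat.blt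 c 21) (cond (Nat.beq c 11) [⟨8, -1, 1⟩] []) (cond (Nat.beq c 21) [⟨18, -1, 1⟩] [])) (cond (Nat.blt c 33) (cond (Nat.beq c 28) [⟨25, -1, 1⟩] []) (cond (Nat.beq c 33) [⟨30, -1, 1⟩] []))) (cond (Nat.blt c 43) (cond (Nat.blt c 42) (cond (Nat.beq c 37) [⟨34, -1, 1⟩] []) (cond (Nat.beq c 42) [⟨38, 1, 1⟩] [])) (cond (Nat.blt c 47) (cond (Nat.beq c 43) [⟨39, 1, 1⟩] []) (cond (Nat.beq c 47) [⟨44, -1, 1⟩] []))))) (cond (Nat.blt c 77) (cond (Nat.blt c 63) (cond (Nat.blt c 58) (cond (Nat.blt c 53) (cond (Nat.beq c 52) [⟨48, 1, 1⟩] []) (cond (Nat.beq c 53) [⟨49, 1, 1⟩] [])) (cond (Nat.blt c 59) (cond (Nat.beq c 58) [⟨54, 1, 1⟩] []) (cond (Nat.beq c 59) [⟨55, 1, 1⟩] []))) (cond (Nat.blt c 69) (cond (Nat.blt c 68) (cond (Nat.beq c 63) [⟨60, -1, 1⟩] []) (cond (Nat.beq c 68) [⟨64, 1, 1⟩] [])) (cond (Nat.blt c 73)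 (cond (Nat.beq c 69) [⟨65, 1, 1⟩] []) (cond (Nat.beq c 73) [⟨70, -1, 1⟩] [])))) (cond (Nat.blt c 95) (cond (Nat.blt c 90) (cond (Nat.blt c 82) (cond (Nat.beq c 77) [⟨74, -1, 1⟩] []) (cond (Nat.beq c 82) [⟨79, -1, 1⟩] [])) (cond (Nat.blt c 91) (cond (Nat.beq c 90) [⟨86, 1, 1⟩] []) (cond (Nat.beq c 91) [⟨87, 1, 1⟩] []))) (cond (Nat.blt c 104) (cond (Nat.blt c 99) (cond (Nat.beq c 95) [⟨92, -1, 1⟩] []) (cond (Nat.beq c 99) [⟨96, -1, 1⟩] [])) (cond (Nat.blt c 110) (cond (Nat.beq c 104) [⟨101, -1, 1⟩] []) (cond (Nat.beq c 110) [⟨107, -1, 1⟩] [])))))) (cond (Nat.blt c 181) (cond (Nat.blt c 142) (cond (Nat.blt c 131) (cond (Nat.blt c 128) (cond (Nat.blt c 121) (cond (Nat.beq c 116) [⟨113, -1, 1⟩] []) (cond (Nat.beq c 121) [⟨118, -1, 1⟩] [])) (cond (Nat.blt c 130) (cond (Nat.beq c 128) [⟨123, 1, 1⟩] [])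 (cond (Nat.beq c 130) [⟨124, 1, 1⟩] []))) (cond (Nat.blt c 133) (cond (Nat.blt c 132) (cond (Nat.beq c 131) [⟨125, -1, 1⟩] []) (cond (Nat.beq c 132) [⟨127, -1, 1⟩] [])) (cond (Nat.blt c 137) (cond (Nat.beq c 133) [⟨122, -1, 2⟩, ⟨0, 0, 1⟩, ⟨1, 0, 1⟩, ⟨2, 0, 1⟩, ⟨3, 0, 1⟩, ⟨4, 0, 1⟩, ⟨5, -1, 1⟩, ⟨6, -1, 1⟩, ⟨7, -1, 1⟩] []) (cond (Nat.beq c 137) [⟨134, 1, 1⟩] [])))) (cond (Nat.blt c 163) (cond (Nat.blt c 154) (cond (Nat.blt c 148) (cond (Nat.beq c 142) [⟨139, 1, 1⟩] []) (cond (Nat.beq c 148) [⟨145, 1, 1⟩] [])) (cond (Nat.blt c 159) (cond (Nat.beq c 154) [⟨151, 1, 1⟩] []) (cond (Nat.beq c 159) [⟨156, 1, 1⟩] []))) (cond (Nat.blt c 169) (cond (Nat.blt c 168) (cond (Nat.beq c 163) [⟨160, 1, 1⟩] []) (cond (Nat.beq c 168) [⟨164, -1, 1⟩] [])) (cond (Nat.blt c 176) (cond (Nat.beq c 169) [⟨165, -1, 1⟩] [])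 (cond (Nat.beq c 176) [⟨173, 1, 1⟩] []))))) (cond (Nat.blt c 207) (cond (Nat.blt c 195) (cond (Nat.blt c 190) (cond (Nat.blt c 185) (cond (Nat.beq c 181) [⟨178, 1, 1⟩] []) (cond (Nat.beq c 185) [⟨182, 1, 1⟩] [])) (cond (Nat.blt c 191) (cond (Nat.beq c 190) [⟨186, -1, 1⟩] []) (cond (Nat.beq c 191) [⟨187, -1, 1⟩] []))) (cond (Nat.blt c 201) (cond (Nat.blt c 200) (cond (Nat.beq c 195) [⟨192, 1, 1⟩] []) (cond (Nat.beq c 200) [⟨196, -1, 1⟩] [])) (cond (Nat.blt c 206) (cond (Nat.beq c 201) [⟨197, -1, 1⟩] []) (cond (Nat.beq c 206) [⟨202, -1, 1⟩] [])))) (cond (Nat.blt c 221) (cond (Nat.blt c 216) (cond (Nat.blt c 211) (cond (Nat.beq c 207) [⟨203, -1, 1⟩] []) (cond (Nat.beq c 211) [⟨208, 1, 1⟩] [])) (cond (Nat.blt c 217) (cond (Nat.beq c 216) [⟨212, -1, 1⟩] []) (cond (Nat.beq c 217) [⟨213, -1, 1⟩] [])))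 (cond (Nat.blt c 230) (cond (Nat.blt c 225) (cond (Nat.beq c 221) [⟨218, 1, 1⟩] []) (cond (Nat.beq c 225) [⟨222, 1, 1⟩] [])) (cond (Nat.blt c 237) (cond (Nat.beq c 230) [⟨227, 1, 1⟩] []) (cond (Nat.blt c 247) (cond (Nat.beq c 237) [⟨234, 1, 1⟩] []) (cond (Nat.beq c 247) [⟨244, 1, 1⟩] [])))))))

/-- Compiled columns of `x_115` for type E8. -/
def colsE8_115 (c : ℕ) : List CEnt :=
  cond (Nat.blt c 116) (cond (Nat.blt c 51) (cond (Nat.blt c 11) (cond (Nat.blt c 4) (cond (Nat.blt c 2) (cond (Nat.blt c 1) (cond (Nat.beq c 0) [⟨123, 0, 1⟩] []) (cond (Nat.beq c 1) [⟨123, 0, 1⟩] [])) (cond (Nat.blt c 3) (cond (Nat.beq c 2) [⟨123, 0, 1⟩] []) (cond (Nat.beq c 3) [⟨123, 0, 1⟩] []))) (cond (Nat.blt c 6) (cond (Nat.blt c 5) (cond (Nat.beq c 4) [⟨123, -1, 1⟩] []) (cond (Nat.beq c 5) [⟨123, 1, 1⟩] [])) (cond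 (Nat.blt c 7) (cond (Nat.beq c 6) [⟨123, 1, 1⟩] []) (cond (Nat.beq c 7) [⟨123, -1, 1⟩] [])))) (cond (Nat.blt c 36) (cond (Nat.blt c 27) (cond (Nat.blt c 20) (cond (Nat.beq c 11) [⟨9, -1, 1⟩] []) (cond (Nat.beq c 20) [⟨18, 1, 1⟩] [])) (cond (Nat.blt c 32) (cond (Nat.beq c 27) [⟨25, 1, 1⟩] []) (cond (Nat.beq c 32) [⟨30, 1, 1⟩] []))) (cond (Nat.blt c 43) (cond (Nat.blt c 41) (cond (Nat.beq c 36) [⟨34, 1, 1⟩] []) (cond (Nat.beq c 41) [⟨38, -1, 1⟩] [])) (cond (Nat.blt c 46) (cond (Nat.beq c 43) [⟨40, 1, 1⟩] []) (cond (Nat.beq c 46) [⟨44, 1, 1⟩] []))))) (cond (Nat.blt c 77) (cond (Nat.blt c 63) (cond (Nat.blt c 57) (cond (Nat.blt c 53) (cond (Nat.beq c 51) [⟨48, -1, 1⟩] []) (cond (Nat.beq c 53) [⟨50, 1, 1⟩] [])) (cond (Nat.blt c 59) (cond (Nat.beq c 57) [⟨54, -1, 1⟩] []) (cond (Nat.beq c 59) [⟨56, 1,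 1⟩] []))) (cond (Nat.blt c 69) (cond (Nat.blt c 67) (cond (Nat.beq c 63) [⟨61, -1, 1⟩] []) (cond (Nat.beq c 67) [⟨64, -1, 1⟩] [])) (cond (Nat.blt c 73) (cond (Nat.beq c 69) [⟨66, 1, 1⟩] []) (cond (Nat.beq c 73) [⟨71, -1, 1⟩] [])))) (cond (Nat.blt c 95) (cond (Nat.blt c 89) (cond (Nat.blt c 82) (cond (Nat.beq c 77) [⟨75, -1, 1⟩] []) (cond (Nat.beq c 82) [⟨80, -1, 1⟩] [])) (cond (Nat.blt c 91) (cond (Nat.beq c 89) [⟨86, -1, 1⟩] []) (cond (Nat.beq c 91) [⟨88, 1, 1⟩] []))) (cond (Nat.blt c 104) (cond (Nat.blt c 99) (cond (Nat.beq c 95) [⟨93, -1, 1⟩] []) (cond (Nat.beq c 99) [⟨97, -1, 1⟩] [])) (cond (Nat.blt c 110) (cond (Nat.beq c 104) [⟨102, -1, 1⟩] []) (cond (Nat.beq c 110) [⟨108, -1, 1⟩] [])))))) (cond (Nat.blt c 180) (cond (Nat.blt c 141) (cond (Nat.blt c 131) (cond (Nat.blt c 127) (cond (Nat.blt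 c 121) (cond (Nat.beq c 116) [⟨114, -1, 1⟩] []) (cond (Nat.beq c 121) [⟨119, -1, 1⟩] [])) (cond (Nat.blt c 129) (cond (Nat.beq c 127) [⟨122, 1, 1⟩] []) (cond (Nat.beq c 129) [⟨124, 1, 1⟩] []))) (cond (Nat.blt c 133) (cond (Nat.blt c 132) (cond (Nat.beq c 131) [⟨126, -1, 1⟩] []) (cond (Nat.beq c 132) [⟨123, -1, 2⟩, ⟨0, 0, 1⟩, ⟨1, 0, 1⟩, ⟨2, 0, 1⟩, ⟨3, 0, 1⟩, ⟨4, 0, 1⟩, ⟨5, -1, 1⟩, ⟨6, -1, 1⟩, ⟨7, 0, 1⟩] [])) (cond (Nat.blt c 136) (cond (Nat.beq c 133) [⟨128, -1, 1⟩] []) (cond (Nat.beq c 136) [⟨134, 1, 1⟩] [])))) (cond (Nat.blt c 162) (cond (Nat.blt c 153) (cond (Nat.blt c 147) (cond (Nat.beq c 141) [⟨139, 1, 1⟩] []) (cond (Nat.beq c 147) [⟨145, 1, 1⟩] [])) (cond (Nat.blt c 158) (cond (Nat.beq c 153) [⟨151, 1, 1⟩] []) (cond (Nat.beq c 158) [⟨156, 1, 1⟩] []))) (cond (Nat.blt c 169) (cond (Nat.blt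 c 167) (cond (Nat.beq c 162) [⟨160, 1, 1⟩] []) (cond (Nat.beq c 167) [⟨164, -1, 1⟩] [])) (cond (Nat.blt c 175) (cond (Nat.beq c 169) [⟨166, 1, 1⟩] []) (cond (Nat.beq c 175) [⟨173, 1, 1⟩] []))))) (cond (Nat.blt c 207) (cond (Nat.blt c 194) (cond (Nat.blt c 189) (cond (Nat.blt c 184) (cond (Nat.beq c 180) [⟨178, 1, 1⟩] []) (cond (Nat.beq c 184) [⟨182, 1, 1⟩] [])) (cond (Nat.blt c 191) (cond (Nat.beq c 189) [⟨186, -1, 1⟩] []) (cond (Nat.beq c 191) [⟨188, 1, 1⟩] []))) (cond (Nat.blt c 201) (cond (Nat.blt c 199) (cond (Nat.beq c 194) [⟨192, 1, 1⟩] []) (cond (Nat.beq c 199) [⟨196, -1, 1⟩] [])) (cond (Nat.blt c 205) (cond (Nat.beq c 201) [⟨198, 1, 1⟩] []) (cond (Nat.beq c 205) [⟨202, -1, 1⟩] [])))) (cond (Nat.blt c 221) (cond (Nat.blt c 215) (cond (Nat.blt c 211) (cond (Nat.beq c 207) [⟨204, 1, 1⟩] [])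 (cond (Nat.beq c 211) [⟨209, -1, 1⟩] [])) (cond (Nat.blt c 217) (cond (Nat.beq c 215) [⟨212, -1, 1⟩] []) (cond (Nat.beq c 217) [⟨214, 1, 1⟩] []))) (cond (Nat.blt c 230) (cond (Nat.blt c 225) (cond (Nat.beq c 221) [⟨219, -1, 1⟩] []) (cond (Nat.beq c 225) [⟨223, -1, 1⟩] [])) (cond (Nat.blt c 237) (cond (Nat.beq c 230) [⟨228, -1, 1⟩] []) (cond (Nat.blt c 246) (cond (Nat.beq c 237) [⟨235, -1, 1⟩] []) (cond (Nat.beq c 246) [⟨244, 1, 1⟩] [])))))))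

/-- Compiled columns of `x_116` for type E8. -/
def colsE8_116 (c : ℕ) : List CEnt :=
  cond (Nat.blt c 116) (cond (Nat.blt c 51) (cond (Nat.blt c 11) (cond (Nat.blt c 4) (cond (Nat.blt c 2) (cond (Nat.blt c 1) (cond (Nat.beq c 0) [⟨124, 0, 1⟩] []) (cond (Nat.beq c 1) [⟨124, 0, 1⟩] [])) (cond (Nat.blt c 3) (cond (Nat.beq c 2) [⟨124, 0, 1⟩] []) (cond (Nat.beq c 3) [⟨124, 0, 1⟩] []))) (cond (Nat.blt c 6) (cond (Nat.blt c 5) (cond (Nat.beq c 4) [⟨124, -1, 1⟩] []) (cond (Nat.beq c 5) [⟨124, 2, 1⟩] [])) (cond (Nat.blt c 7) (cond (Nat.beq c 6) [⟨124, -1, 1⟩] []) (cond (Nat.beq c 7) [⟨124, 0, 1⟩] [])))) (cond (Nat.blt c 35) (cond (Nat.blt c 26) (cond (Nat.blt c 19) (cond (Nat.beq c 11) [⟨10, -1, 1⟩] []) (cond (Nat.beq c 19) [⟨18, -1, 1⟩] [])) (cond (Nat.blt c 31) (cond (Nat.beq c 26) [⟨25, -1, 1⟩] [])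 (cond (Nat.beq c 31) [⟨30, -1, 1⟩] []))) (cond (Nat.blt c 42) (cond (Nat.blt c 41) (cond (Nat.beq c 35) [⟨34, -1, 1⟩] []) (cond (Nat.beq c 41) [⟨39, -1, 1⟩] [])) (cond (Nat.blt c 45) (cond (Nat.beq c 42) [⟨40, -1, 1⟩] []) (cond (Nat.beq c 45) [⟨44, -1, 1⟩] []))))) (cond (Nat.blt c 77) (cond (Nat.blt c 63) (cond (Nat.blt c 57) (cond (Nat.blt c 52) (cond (Nat.beq c 51) [⟨49, -1, 1⟩] []) (cond (Nat.beq c 52) [⟨50, -1, 1⟩] [])) (cond (Nat.blt c 58) (cond (Nat.beq c 57) [⟨55, -1, 1⟩] []) (cond (Nat.beq c 58) [⟨56, -1, 1⟩] []))) (cond (Nat.blt c 68) (cond (Nat.blt c 67) (cond (Nat.beq c 63) [⟨62, -1, 1⟩] []) (cond (Nat.beq c 67) [⟨65, -1, 1⟩] [])) (cond (Nat.blt c 73) (cond (Nat.beq c 68) [⟨66, -1, 1⟩] []) (cond (Nat.beq c 73) [⟨72, -1, 1⟩] [])))) (cond (Nat.blt c 95) (cond (Nat.blt c 89) (cond (Nat.blt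 c 82) (cond (Nat.beq c 77) [⟨76, -1, 1⟩] []) (cond (Nat.beq c 82) [⟨81, -1, 1⟩] [])) (cond (Nat.blt c 90) (cond (Nat.beq c 89) [⟨87, -1, 1⟩] []) (cond (Nat.beq c 90) [⟨88, -1, 1⟩] []))) (cond (Nat.blt c 104) (cond (Nat.blt c 99) (cond (Nat.beq c 95) [⟨94, -1, 1⟩] []) (cond (Nat.beq c 99) [⟨98, -1, 1⟩] [])) (cond (Nat.blt c 110) (cond (Nat.beq c 104) [⟨103, -1, 1⟩] []) (cond (Nat.beq c 110) [⟨109, -1, 1⟩] [])))))) (cond (Nat.blt c 179) (cond (Nat.blt c 140) (cond (Nat.blt c 131) (cond (Nat.blt c 125) (cond (Nat.blt c 121) (cond (Nat.beq c 116) [⟨115, -1, 1⟩] []) (cond (Nat.beq c 121) [⟨120, -1, 1⟩] [])) (cond (Nat.blt c 126) (cond (Nat.beq c 125) [⟨122, 1, 1⟩] []) (cond (Nat.beq c 126) [⟨123, 1, 1⟩] []))) (cond (Nat.blt c 133) (cond (Nat.blt c 132) (cond (Nat.beq c 131) [⟨124, -1, 2⟩, ⟨0, 0, 1⟩,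 ⟨1, 0, 1⟩, ⟨2, 0, 1⟩, ⟨3, 0, 1⟩, ⟨4, 0, 1⟩, ⟨5, -1, 1⟩, ⟨6, 0, 1⟩, ⟨7, 0, 1⟩] []) (cond (Nat.beq c 132) [⟨129, -1, 1⟩] [])) (cond (Nat.blt c 135) (cond (Nat.beq c 133) [⟨130, -1, 1⟩] []) (cond (Nat.beq c 135) [⟨134, 1, 1⟩] [])))) (cond (Nat.blt c 161) (cond (Nat.blt c 152) (cond (Nat.blt c 146) (cond (Nat.beq c 140) [⟨139, 1, 1⟩] []) (cond (Nat.beq c 146) [⟨145, 1, 1⟩] [])) (cond (Nat.blt c 157) (cond (Nat.beq c 152) [⟨151, 1, 1⟩] []) (cond (Nat.beq c 157) [⟨156, 1, 1⟩] []))) (cond (Nat.blt c 168) (cond (Nat.blt c 167) (cond (Nat.beq c 161) [⟨160, 1, 1⟩] []) (cond (Nat.beq c 167) [⟨165, 1, 1⟩] [])) (cond (Nat.blt c 174) (cond (Nat.beq c 168) [⟨166, 1, 1⟩] []) (cond (Nat.beq c 174) [⟨173, 1, 1⟩] []))))) (cond (Nat.blt c 206) (cond (Nat.blt c 193) (cond (Nat.blt c 189) (cond (Nat.blt c 183) (cond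 (Nat.beq c 179) [⟨178, 1, 1⟩] []) (cond (Nat.beq c 183) [⟨182, 1, 1⟩] [])) (cond (Nat.blt c 190) (cond (Nat.beq c 189) [⟨187, 1, 1⟩] []) (cond (Nat.beq c 190) [⟨188, 1, 1⟩] []))) (cond (Nat.blt c 200) (cond (Nat.blt c 199) (cond (Nat.beq c 193) [⟨192, 1, 1⟩] []) (cond (Nat.beq c 199) [⟨197, 1, 1⟩] [])) (cond (Nat.blt c 205) (cond (Nat.beq c 200) [⟨198, 1, 1⟩] []) (cond (Nat.beq c 205) [⟨203, 1, 1⟩] [])))) (cond (Nat.blt c 221) (cond (Nat.blt c 215) (cond (Nat.blt c 211) (cond (Nat.beq c 206) [⟨204, 1, 1⟩] []) (cond (Nat.beq c 211) [⟨210, 1, 1⟩] [])) (cond (Nat.blt c 216) (cond (Nat.beq c 215) [⟨213, 1, 1⟩] []) (cond (Nat.beq c 216) [⟨214, 1, 1⟩] []))) (cond (Nat.blt c 230) (cond (Nat.blt c 225) (cond (Nat.beq c 221) [⟨220, 1, 1⟩] []) (cond (Nat.beq c 225) [⟨224, 1, 1⟩] [])) (cond (Nat.blt c 237)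 (cond (Nat.beq c 230) [⟨229, 1, 1⟩] []) (cond (Nat.blt c 245) (cond (Nat.beq c 237) [⟨236, 1, 1⟩] []) (cond (Nat.beq c 245) [⟨244, 1, 1⟩] [])))))))

/-- Compiled columns of `x_117` for type E8. -/
def colsE8_117 (c : ℕ) : List CEnt :=
  cond (Nat.blt c 115) (cond (Nat.blt c 50) (cond (Nat.blt c 10) (cond (Nat.blt c 4) (cond (Nat.blt c 2) (cond (Nat.blt c 1) (cond (Nat.beq c 0) [⟨125, 0, 1⟩] []) (cond (Nat.beq c 1) [⟨125, 0, 1⟩] [])) (cond (Nat.blt c 3) (cond (Nat.beq c 2) [⟨125, 0, 1⟩] []) (cond (Nat.beq c 3) [⟨125, 0, 1⟩] []))) (cond (Nat.blt c 6) (cond (Nat.blt c 5) (cond (Nat.beq c 4) [⟨125, 0, 1⟩] []) (cond (Nat.beq c 5) [⟨125, -1, 1⟩] [])) (cond (Nat.blt c 7) (cond (Nat.beq c 6) [⟨125, 1, 1⟩] []) (cond (Nat.beq c 7) [⟨125, 1, 1⟩] [])))) (cond (Nat.blt c 37) (cond (Nat.blt c 28) (cond (Nat.blt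 c 21) (cond (Nat.beq c 10) [⟨8, -1, 1⟩] []) (cond (Nat.beq c 21) [⟨19, 1, 1⟩] [])) (cond (Nat.blt c 33) (cond (Nat.beq c 28) [⟨26, 1, 1⟩] []) (cond (Nat.beq c 33) [⟨31, 1, 1⟩] []))) (cond (Nat.blt c 43) (cond (Nat.blt c 40) (cond (Nat.beq c 37) [⟨35, 1, 1⟩] []) (cond (Nat.beq c 40) [⟨38, 1, 1⟩] [])) (cond (Nat.blt c 47) (cond (Nat.beq c 43) [⟨41, -1, 1⟩] []) (cond (Nat.beq c 47) [⟨45, 1, 1⟩] []))))) (cond (Nat.blt c 76) (cond (Nat.blt c 62) (cond (Nat.blt c 56) (cond (Nat.blt c 53) (cond (Nat.beq c 50) [⟨48, 1, 1⟩] []) (cond (Nat.beq c 53) [⟨51, -1, 1⟩] [])) (cond (Nat.blt c 59) (cond (Nat.beq c 56) [⟨54, 1, 1⟩] []) (cond (Nat.beq c 59) [⟨57, -1, 1⟩] []))) (cond (Nat.blt c 69) (cond (Nat.blt c 66) (cond (Nat.beq c 62) [⟨60, -1, 1⟩] []) (cond (Nat.beq c 66) [⟨64, 1, 1⟩] [])) (cond (Nat.blt c 72)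 (cond (Nat.beq c 69) [⟨67, -1, 1⟩] []) (cond (Nat.beq c 72) [⟨70, -1, 1⟩] [])))) (cond (Nat.blt c 94) (cond (Nat.blt c 88) (cond (Nat.blt c 81) (cond (Nat.beq c 76) [⟨74, -1, 1⟩] []) (cond (Nat.beq c 81) [⟨79, -1, 1⟩] [])) (cond (Nat.blt c 91) (cond (Nat.beq c 88) [⟨86, 1, 1⟩] []) (cond (Nat.beq c 91) [⟨89, -1, 1⟩] []))) (cond (Nat.blt c 103) (cond (Nat.blt c 98) (cond (Nat.beq c 94) [⟨92, -1, 1⟩] []) (cond (Nat.beq c 98) [⟨96, -1, 1⟩] [])) (cond (Nat.blt c 109) (cond (Nat.beq c 103) [⟨101, -1, 1⟩] []) (cond (Nat.beq c 109) [⟨107, -1, 1⟩] [])))))) (cond (Nat.blt c 181) (cond (Nat.blt c 142) (cond (Nat.blt c 129) (cond (Nat.blt c 124) (cond (Nat.blt c 120) (cond (Nat.beq c 115) [⟨113, -1, 1⟩] []) (cond (Nat.beq c 120) [⟨118, -1, 1⟩] [])) (cond (Nat.blt c 128) (cond (Nat.beq c 124) [⟨122, -1, 1⟩]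 []) (cond (Nat.beq c 128) [⟨126, 1, 1⟩] []))) (cond (Nat.blt c 133) (cond (Nat.blt c 130) (cond (Nat.beq c 129) [⟨127, -1, 1⟩] []) (cond (Nat.beq c 130) [⟨125, -1, 2⟩, ⟨0, 0, 1⟩, ⟨1, 0, 1⟩, ⟨2, 0, 1⟩, ⟨3, 0, 1⟩, ⟨4, 0, 1⟩, ⟨5, 0, 1⟩, ⟨6, -1, 1⟩, ⟨7, -1, 1⟩] [])) (cond (Nat.blt c 137) (cond (Nat.beq c 133) [⟨131, 1, 1⟩] []) (cond (Nat.beq c 137) [⟨135, 1, 1⟩] [])))) (cond (Nat.blt c 163) (cond (Nat.blt c 154) (cond (Nat.blt c 148) (cond (Nat.beq c 142) [⟨140, 1, 1⟩] []) (cond (Nat.beq c 148) [⟨146, 1, 1⟩] [])) (cond (Nat.blt c 159) (cond (Nat.beq c 154) [⟨152, 1, 1⟩] []) (cond (Nat.beq c 159) [⟨157, 1, 1⟩] []))) (cond (Nat.blt c 169) (cond (Nat.blt c 166) (cond (Nat.beq c 163) [⟨161, 1, 1⟩] []) (cond (Nat.beq c 166) [⟨164, 1, 1⟩] [])) (cond (Nat.blt c 176) (cond (Nat.beq c 169) [⟨167, -1, 1⟩] [])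 (cond (Nat.beq c 176) [⟨174, 1, 1⟩] []))))) (cond (Nat.blt c 207) (cond (Nat.blt c 195) (cond (Nat.blt c 188) (cond (Nat.blt c 185) (cond (Nat.beq c 181) [⟨179, 1, 1⟩] []) (cond (Nat.beq c 185) [⟨183, 1, 1⟩] [])) (cond (Nat.blt c 191) (cond (Nat.beq c 188) [⟨186, 1, 1⟩] []) (cond (Nat.beq c 191) [⟨189, -1, 1⟩] []))) (cond (Nat.blt c 201) (cond (Nat.blt c 198) (cond (Nat.beq c 195) [⟨193, 1, 1⟩] []) (cond (Nat.beq c 198) [⟨196, 1, 1⟩] [])) (cond (Nat.blt c 204) (cond (Nat.beq c 201) [⟨199, -1, 1⟩] []) (cond (Nat.beq c 204) [⟨202, 1, 1⟩] [])))) (cond (Nat.blt c 220) (cond (Nat.blt c 214) (cond (Nat.blt c 210) (cond (Nat.beq c 207) [⟨205, -1, 1⟩] []) (cond (Nat.beq c 210) [⟨208, -1, 1⟩] [])) (cond (Nat.blt c 217) (cond (Nat.beq c 214) [⟨212, 1, 1⟩] []) (cond (Nat.beq c 217) [⟨215, -1, 1⟩] []))) (cond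 (Nat.blt c 229) (cond (Nat.blt c 224) (cond (Nat.beq c 220) [⟨218, -1, 1⟩] []) (cond (Nat.beq c 224) [⟨222, -1, 1⟩] [])) (cond (Nat.blt c 236) (cond (Nat.beq c 229) [⟨227, -1, 1⟩] []) (cond (Nat.blt c 247) (cond (Nat.beq c 236) [⟨234, -1, 1⟩] []) (cond (Nat.beq c 247) [⟨245, 1, 1⟩] [])))))))

/-- Compiled columns of `x_118` for type E8. -/
def colsE8_118 (c : ℕ) : List CEnt :=
  cond (Nat.blt c 115) (cond (Nat.blt c 49) (cond (Nat.blt c 10) (cond (Nat.blt c 4) (cond (Nat.blt c 2) (cond (Nat.blt c 1) (cond (Nat.beq c 0) [⟨126, 0, 1⟩] []) (cond (Nat.beq c 1) [⟨126, 0, 1⟩] [])) (cond (Nat.blt c 3) (cond (Nat.beq c 2) [⟨126, 0, 1⟩] []) (cond (Nat.beq c 3) [⟨126, 0, 1⟩] []))) (cond (Nat.blt c 6) (cond (Nat.blt c 5) (cond (Nat.beq c 4) [⟨126, 0, 1⟩] []) (cond (Nat.beq c 5) [⟨126, -1, 1⟩] [])) (cond (Nat.blt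 c 7) (cond (Nat.beq c 6) [⟨126, 2, 1⟩] []) (cond (Nat.beq c 7) [⟨126, -1, 1⟩] [])))) (cond (Nat.blt c 36) (cond (Nat.blt c 27) (cond (Nat.blt c 20) (cond (Nat.beq c 10) [⟨9, -1, 1⟩] []) (cond (Nat.beq c 20) [⟨19, -1, 1⟩] [])) (cond (Nat.blt c 32) (cond (Nat.beq c 27) [⟨26, -1, 1⟩] []) (cond (Nat.beq c 32) [⟨31, -1, 1⟩] []))) (cond (Nat.blt c 43) (cond (Nat.blt c 39) (cond (Nat.beq c 36) [⟨35, -1, 1⟩] []) (cond (Nat.beq c 39) [⟨38, -1, 1⟩] [])) (cond (Nat.blt c 46) (cond (Nat.beq c 43) [⟨42, -1, 1⟩] []) (cond (Nat.beq c 46) [⟨45, -1, 1⟩] []))))) (cond (Nat.blt c 76) (cond (Nat.blt c 62) (cond (Nat.blt c 55) (cond (Nat.blt c 53) (cond (Nat.beq c 49) [⟨48, -1, 1⟩] []) (cond (Nat.beq c 53) [⟨52, -1, 1⟩] [])) (cond (Nat.blt c 59) (cond (Nat.beq c 55) [⟨54, -1, 1⟩] []) (cond (Nat.beq c 59) [⟨58, -1,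 1⟩] []))) (cond (Nat.blt c 69) (cond (Nat.blt c 65) (cond (Nat.beq c 62) [⟨61, -1, 1⟩] []) (cond (Nat.beq c 65) [⟨64, -1, 1⟩] [])) (cond (Nat.blt c 72) (cond (Nat.beq c 69) [⟨68, -1, 1⟩] []) (cond (Nat.beq c 72) [⟨71, -1, 1⟩] [])))) (cond (Nat.blt c 94) (cond (Nat.blt c 87) (cond (Nat.blt c 81) (cond (Nat.beq c 76) [⟨75, -1, 1⟩] []) (cond (Nat.beq c 81) [⟨80, -1, 1⟩] [])) (cond (Nat.blt c 91) (cond (Nat.beq c 87) [⟨86, -1, 1⟩] []) (cond (Nat.beq c 91) [⟨90, -1, 1⟩] []))) (cond (Nat.blt c 103) (cond (Nat.blt c 98) (cond (Nat.beq c 94) [⟨93, -1, 1⟩] []) (cond (Nat.beq c 98) [⟨97, -1, 1⟩] [])) (cond (Nat.blt c 109) (cond (Nat.beq c 103) [⟨102, -1, 1⟩] []) (cond (Nat.beq c 109) [⟨108, -1, 1⟩] [])))))) (cond (Nat.blt c 180) (cond (Nat.blt c 141) (cond (Nat.blt c 129) (cond (Nat.blt c 124) (cond (Nat.blt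 c 120) (cond (Nat.beq c 115) [⟨114, -1, 1⟩] []) (cond (Nat.beq c 120) [⟨119, -1, 1⟩] [])) (cond (Nat.blt c 127) (cond (Nat.beq c 124) [⟨123, -1, 1⟩] []) (cond (Nat.beq c 127) [⟨125, 1, 1⟩] []))) (cond (Nat.blt c 132) (cond (Nat.blt c 130) (cond (Nat.beq c 129) [⟨126, -1, 2⟩, ⟨0, 0, 1⟩, ⟨1, 0, 1⟩, ⟨2, 0, 1⟩, ⟨3, 0, 1⟩, ⟨4, 0, 1⟩, ⟨5, 0, 1⟩, ⟨6, -1, 1⟩, ⟨7, 0, 1⟩] []) (cond (Nat.beq c 130) [⟨128, -1, 1⟩] [])) (cond (Nat.blt c 136) (cond (Nat.beq c 132) [⟨131, 1, 1⟩] []) (cond (Nat.beq c 136) [⟨135, 1, 1⟩] [])))) (cond (Nat.blt c 162) (cond (Nat.blt c 153) (cond (Nat.blt c 147) (cond (Nat.beq c 141) [⟨140, 1, 1⟩] []) (cond (Nat.beq c 147) [⟨146, 1, 1⟩] [])) (cond (Nat.blt c 158) (cond (Nat.beq c 153) [⟨152, 1, 1⟩] []) (cond (Nat.beq c 158) [⟨157, 1, 1⟩] []))) (cond (Nat.blt c 169) (cond (Nat.blt c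 165) (cond (Nat.beq c 162) [⟨161, 1, 1⟩] []) (cond (Nat.beq c 165) [⟨164, 1, 1⟩] [])) (cond (Nat.blt c 175) (cond (Nat.beq c 169) [⟨168, 1, 1⟩] []) (cond (Nat.beq c 175) [⟨174, 1, 1⟩] []))))) (cond (Nat.blt c 207) (cond (Nat.blt c 194) (cond (Nat.blt c 187) (cond (Nat.blt c 184) (cond (Nat.beq c 180) [⟨179, 1, 1⟩] []) (cond (Nat.beq c 184) [⟨183, 1, 1⟩] [])) (cond (Nat.blt c 191) (cond (Nat.beq c 187) [⟨186, 1, 1⟩] []) (cond (Nat.beq c 191) [⟨190, 1, 1⟩] []))) (cond (Nat.blt c 201) (cond (Nat.blt c 197) (cond (Nat.beq c 194) [⟨193, 1, 1⟩] []) (cond (Nat.beq c 197) [⟨196, 1, 1⟩] [])) (cond (Nat.blt c 203) (cond (Nat.beq c 201) [⟨200, 1, 1⟩] []) (cond (Nat.beq c 203) [⟨202, 1, 1⟩] [])))) (cond (Nat.blt c 220) (cond (Nat.blt c 213) (cond (Nat.blt c 210) (cond (Nat.beq c 207) [⟨206, 1, 1⟩] []) (cond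 (Nat.beq c 210) [⟨209, 1, 1⟩] [])) (cond (Nat.blt c 217) (cond (Nat.beq c 213) [⟨212, 1, 1⟩] []) (cond (Nat.beq c 217) [⟨216, 1, 1⟩] []))) (cond (Nat.blt c 229) (cond (Nat.blt c 224) (cond (Nat.beq c 220) [⟨219, 1, 1⟩] []) (cond (Nat.beq c 224) [⟨223, 1, 1⟩] [])) (cond (Nat.blt c 236) (cond (Nat.beq c 229) [⟨228, 1, 1⟩] []) (cond (Nat.blt c 246) (cond (Nat.beq c 236) [⟨235, 1, 1⟩] []) (cond (Nat.beq c 246) [⟨245, 1, 1⟩] [])))))))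

/-- Compiled columns of `x_119` for type E8. -/
def colsE8_119 (c : ℕ) : List CEnt :=
  cond (Nat.blt c 114) (cond (Nat.blt c 50) (cond (Nat.blt c 9) (cond (Nat.blt c 4) (cond (Nat.blt c 2) (cond (Nat.blt c 1) (cond (Nat.beq c 0) [⟨127, 0, 1⟩] []) (cond (Nat.beq c 1) [⟨127, 0, 1⟩] [])) (cond (Nat.blt c 3) (cond (Nat.beq c 2) [⟨127, 0, 1⟩] []) (cond (Nat.beq c 3) [⟨127, 0, 1⟩] []))) (cond (Nat.blt c 6) (cond (Nat.blt c 5) (cond (Nat.beq c 4) [⟨127, 0, 1⟩] []) (cond (Nat.beq c 5) [⟨127, 0, 1⟩] [])) (cond (Nat.blt c 7) (cond (Nat.beq c 6) [⟨127, -1, 1⟩] []) (cond (Nat.beq c 7) [⟨127, 2, 1⟩] [])))) (cond (Nat.blt c 37) (cond (Nat.blt c 28) (cond (Nat.blt c 21) (cond (Nat.beq c 9) [⟨8, -1, 1⟩] []) (cond (Nat.beq c 21) [⟨20, -1, 1⟩] [])) (cond (Nat.blt c 33) (cond (Nat.beq c 28) [⟨27, -1, 1⟩] []) (cond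 (Nat.beq c 33) [⟨32, -1, 1⟩] []))) (cond (Nat.blt c 42) (cond (Nat.blt c 40) (cond (Nat.beq c 37) [⟨36, -1, 1⟩] []) (cond (Nat.beq c 40) [⟨39, -1, 1⟩] [])) (cond (Nat.blt c 47) (cond (Nat.beq c 42) [⟨41, -1, 1⟩] []) (cond (Nat.beq c 47) [⟨46, -1, 1⟩] []))))) (cond (Nat.blt c 75) (cond (Nat.blt c 61) (cond (Nat.blt c 56) (cond (Nat.blt c 52) (cond (Nat.beq c 50) [⟨49, -1, 1⟩] []) (cond (Nat.beq c 52) [⟨51, -1, 1⟩] [])) (cond (Nat.blt c 58) (cond (Nat.beq c 56) [⟨55, -1, 1⟩] []) (cond (Nat.beq c 58) [⟨57, -1, 1⟩] []))) (cond (Nat.blt c 68) (cond (Nat.blt c 66) (cond (Nat.beq c 61) [⟨60, -1, 1⟩] []) (cond (Nat.beq c 66) [⟨65, -1, 1⟩] [])) (cond (Nat.blt c 71) (cond (Nat.beq c 68) [⟨67, -1, 1⟩] []) (cond (Nat.beq c 71) [⟨70, -1, 1⟩] [])))) (cond (Nat.blt c 93) (cond (Nat.blt c 88) (cond (Nat.blt c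 80) (cond (Nat.beq c 75) [⟨74, -1, 1⟩] []) (cond (Nat.beq c 80) [⟨79, -1, 1⟩] [])) (cond (Nat.blt c 90) (cond (Nat.beq c 88) [⟨87, -1, 1⟩] []) (cond (Nat.beq c 90) [⟨89, -1, 1⟩] []))) (cond (Nat.blt c 102) (cond (Nat.blt c 97) (cond (Nat.beq c 93) [⟨92, -1, 1⟩] []) (cond (Nat.beq c 97) [⟨96, -1, 1⟩] [])) (cond (Nat.blt c 108) (cond (Nat.beq c 102) [⟨101, -1, 1⟩] []) (cond (Nat.beq c 108) [⟨107, -1, 1⟩] [])))))) (cond (Nat.blt c 181) (cond (Nat.blt c 142) (cond (Nat.blt c 128) (cond (Nat.blt c 123) (cond (Nat.blt c 119) (cond (Nat.beq c 114) [⟨113, -1, 1⟩] []) (cond (Nat.beq c 119) [⟨118, -1, 1⟩] [])) (cond (Nat.blt c 126) (cond (Nat.beq c 123) [⟨122, -1, 1⟩] []) (cond (Nat.beq c 126) [⟨125, -1, 1⟩] []))) (cond (Nat.blt c 133) (cond (Nat.blt c 130) (cond (Nat.beq c 128) [⟨127, -1, 2⟩, ⟨0, 0, 1⟩,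 ⟨1, 0, 1⟩, ⟨2, 0, 1⟩, ⟨3, 0, 1⟩, ⟨4, 0, 1⟩, ⟨5, 0, 1⟩, ⟨6, 0, 1⟩, ⟨7, -1, 1⟩] []) (cond (Nat.beq c 130) [⟨129, 1, 1⟩] [])) (cond (Nat.blt c 137) (cond (Nat.beq c 133) [⟨132, 1, 1⟩] []) (cond (Nat.beq c 137) [⟨136, 1, 1⟩] [])))) (cond (Nat.blt c 163) (cond (Nat.blt c 154) (cond (Nat.blt c 148) (cond (Nat.beq c 142) [⟨141, 1, 1⟩] []) (cond (Nat.beq c 148) [⟨147, 1, 1⟩] [])) (cond (Nat.blt c 159) (cond (Nat.beq c 154) [⟨153, 1, 1⟩] []) (cond (Nat.beq c 159) [⟨158, 1, 1⟩] []))) (cond (Nat.blt c 168) (cond (Nat.blt c 166) (cond (Nat.beq c 163) [⟨162, 1, 1⟩] []) (cond (Nat.beq c 166) [⟨165, 1, 1⟩] [])) (cond (Nat.blt c 176) (cond (Nat.beq c 168) [⟨167, 1, 1⟩] []) (cond (Nat.beq c 176) [⟨175, 1, 1⟩] []))))) (cond (Nat.blt c 206) (cond (Nat.blt c 195) (cond (Nat.blt c 188) (cond (Nat.blt c 185) (cond (Nat.beq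 c 181) [⟨180, 1, 1⟩] []) (cond (Nat.beq c 185) [⟨184, 1, 1⟩] [])) (cond (Nat.blt c 190) (cond (Nat.beq c 188) [⟨187, 1, 1⟩] []) (cond (Nat.beq c 190) [⟨189, 1, 1⟩] []))) (cond (Nat.blt c 200) (cond (Nat.blt c 198) (cond (Nat.beq c 195) [⟨194, 1, 1⟩] []) (cond (Nat.beq c 198) [⟨197, 1, 1⟩] [])) (cond (Nat.blt c 204) (cond (Nat.beq c 200) [⟨199, 1, 1⟩] []) (cond (Nat.beq c 204) [⟨203, 1, 1⟩] [])))) (cond (Nat.blt c 219) (cond (Nat.blt c 214) (cond (Nat.blt c 209) (cond (Nat.beq c 206) [⟨205, 1, 1⟩] []) (cond (Nat.beq c 209) [⟨208, 1, 1⟩] [])) (cond (Nat.blt c 216) (cond (Nat.beq c 214) [⟨213, 1, 1⟩] []) (cond (Nat.beq c 216) [⟨215, 1, 1⟩] []))) (cond (Nat.blt c 228) (cond (Nat.blt c 223) (cond (Nat.beq c 219) [⟨218, 1, 1⟩] []) (cond (Nat.beq c 223) [⟨222, 1, 1⟩] [])) (cond (Nat.blt c 235) (cond (Nat.beq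 c 228) [⟨227, 1, 1⟩] []) (cond (Nat.blt c 247) (cond (Nat.beq c 235) [⟨234, 1, 1⟩] []) (cond (Nat.beq c 247) [⟨246, 1, 1⟩] [])))))))

end Cfsg.Agent.Lib.Helper3.ChevM
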