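import Cfsg.Agent.Lib.Helper3.ChevM2
set_option autoImplicit false
set_option maxRecDepth 100000

namespace Cfsg.Agent.Lib.Helper3.ChevM

/-- Compiled columns of `x_120` for type E8. -/
def colsE8_120 (c : ℕ) : List CEnt :=
  cond (Nat.blt c 113) (cond (Nat.blt c 49) (cond (Nat.blt c 8) (cond (Nat.blt c 4) (cond (Nat.blt c 2) (cond (Nat.blt c 1) (cond (Nat.beq c 0) [⟨128, 0, 1⟩] []) (cond (Nat.beq c 1) [⟨128, 0, 1⟩] [])) (cond (Nat.blt c 3) (cond (Nat.beq c 2) [⟨128, 0, 1⟩] []) (cond (Nat.beq c 3) [⟨128, 0, 1⟩] []))) (cond (Nat.blt c 6) (cond (Nat.blt c 5) (cond (Nat.beq c 4) [⟨128, 0, 1⟩] []) (cond (Nat.beq c 5) [⟨128, 0, 1⟩] [])) (cond (Nat.blt c 7) (cond (Nat.beq c 6) [⟨128, 1, 1⟩] []) (cond (Nat.beq c 7) [⟨128, -2, 1⟩] [])))) (cond (Nat.blt c 36) (cond (Nat.blt c 27) (cond (Nat.blt c 20) (cond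 (Nat.beq c 8) [⟨9, -1, 1⟩] []) (cond (Nat.beq c 20) [⟨21, -1, 1⟩] [])) (cond (Nat.blt c 32) (cond (Nat.beq c 27) [⟨28, -1, 1⟩] []) (cond (Nat.beq c 32) [⟨33, -1, 1⟩] []))) (cond (Nat.blt c 41) (cond (Nat.blt c 39) (cond (Nat.beq c 36) [⟨37, -1, 1⟩] []) (cond (Nat.beq c 39) [⟨40, -1, 1⟩] [])) (cond (Nat.blt c 46) (cond (Nat.beq c 41) [⟨42, -1, 1⟩] []) (cond (Nat.beq c 46) [⟨47, -1, 1⟩] []))))) (cond (Nat.blt c 74) (cond (Nat.blt c 60) (cond (Nat.blt c 55) (cond (Nat.blt c 51) (cond (Nat.beq c 49) [⟨50, -1, 1⟩] []) (cond (Nat.beq c 51) [⟨52, -1, 1⟩] [])) (cond (Nat.blt c 57) (cond (Nat.beq c 55) [⟨56, -1, 1⟩] []) (cond (Nat.beq c 57) [⟨58, -1, 1⟩] []))) (cond (Nat.blt c 67) (cond (Nat.blt c 65) (cond (Nat.beq c 60) [⟨61, -1, 1⟩] []) (cond (Nat.beq c 65) [⟨66, -1, 1⟩] [])) (cond (Nat.blt c 70) (cond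 (Nat.beq c 67) [⟨68, -1, 1⟩] []) (cond (Nat.beq c 70) [⟨71, -1, 1⟩] [])))) (cond (Nat.blt c 92) (cond (Nat.blt c 87) (cond (Nat.blt c 79) (cond (Nat.beq c 74) [⟨75, -1, 1⟩] []) (cond (Nat.beq c 79) [⟨80, -1, 1⟩] [])) (cond (Nat.blt c 89) (cond (Nat.beq c 87) [⟨88, -1, 1⟩] []) (cond (Nat.beq c 89) [⟨90, -1, 1⟩] []))) (cond (Nat.blt c 101) (cond (Nat.blt c 96) (cond (Nat.beq c 92) [⟨93, -1, 1⟩] []) (cond (Nat.beq c 96) [⟨97, -1, 1⟩] [])) (cond (Nat.blt c 107) (cond (Nat.beq c 101) [⟨102, -1, 1⟩] []) (cond (Nat.beq c 107) [⟨108, -1, 1⟩] [])))))) (cond (Nat.blt c 180) (cond (Nat.blt c 141) (cond (Nat.blt c 127) (cond (Nat.blt c 122) (cond (Nat.blt c 118) (cond (Nat.beq c 113) [⟨114, -1, 1⟩] []) (cond (Nat.beq c 118) [⟨119, -1, 1⟩] [])) (cond (Nat.blt c 125) (cond (Nat.beq c 122) [⟨123, -1, 1⟩] [])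 (cond (Nat.beq c 125) [⟨126, -1, 1⟩] []))) (cond (Nat.blt c 132) (cond (Nat.blt c 129) (cond (Nat.beq c 127) [⟨128, -1, 2⟩, ⟨0, 0, 1⟩, ⟨1, 0, 1⟩, ⟨2, 0, 1⟩, ⟨3, 0, 1⟩, ⟨4, 0, 1⟩, ⟨5, 0, 1⟩, ⟨6, 0, 1⟩, ⟨7, 1, 1⟩] []) (cond (Nat.beq c 129) [⟨130, 1, 1⟩] [])) (cond (Nat.blt c 136) (cond (Nat.beq c 132) [⟨133, 1, 1⟩] []) (cond (Nat.beq c 136) [⟨137, 1, 1⟩] [])))) (cond (Nat.blt c 162) (cond (Nat.blt c 153) (cond (Nat.blt c 147) (cond (Nat.beq c 141) [⟨142, 1, 1⟩] []) (cond (Nat.beq c 147) [⟨148, 1, 1⟩] [])) (cond (Nat.blt c 158) (cond (Nat.beq c 153) [⟨154, 1, 1⟩] []) (cond (Nat.beq c 158) [⟨159, 1, 1⟩] []))) (cond (Nat.blt c 167) (cond (Nat.blt c 165) (cond (Nat.beq c 162) [⟨163, 1, 1⟩] []) (cond (Nat.beq c 165) [⟨166, 1, 1⟩] [])) (cond (Nat.blt c 175) (cond (Nat.beq c 167) [⟨168, 1, 1⟩] []) (cond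 (Nat.beq c 175) [⟨176, 1, 1⟩] []))))) (cond (Nat.blt c 205) (cond (Nat.blt c 194) (cond (Nat.blt c 187) (cond (Nat.blt c 184) (cond (Nat.beq c 180) [⟨181, 1, 1⟩] []) (cond (Nat.beq c 184) [⟨185, 1, 1⟩] [])) (cond (Nat.blt c 189) (cond (Nat.beq c 187) [⟨188, 1, 1⟩] []) (cond (Nat.beq c 189) [⟨190, 1, 1⟩] []))) (cond (Nat.blt c 199) (cond (Nat.blt c 197) (cond (Nat.beq c 194) [⟨195, 1, 1⟩] []) (cond (Nat.beq c 197) [⟨198, 1, 1⟩] [])) (cond (Nat.blt c 203) (cond (Nat.beq c 199) [⟨200, 1, 1⟩] []) (cond (Nat.beq c 203) [⟨204, 1, 1⟩] [])))) (cond (Nat.blt c 218) (cond (Nat.blt c 213) (cond (Nat.blt c 208) (cond (Nat.beq c 205) [⟨206, 1, 1⟩] []) (cond (Nat.beq c 208) [⟨209, 1, 1⟩] [])) (cond (Nat.blt c 215) (cond (Nat.beq c 213) [⟨214, 1, 1⟩] []) (cond (Nat.beq c 215) [⟨216, 1, 1⟩] []))) (cond (Nat.blt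 c 227) (cond (Nat.blt c 222) (cond (Nat.beq c 218) [⟨219, 1, 1⟩] []) (cond (Nat.beq c 222) [⟨223, 1, 1⟩] [])) (cond (Nat.blt c 234) (cond (Nat.beq c 227) [⟨228, 1, 1⟩] []) (cond (Nat.blt c 246) (cond (Nat.beq c 234) [⟨235, 1, 1⟩] []) (cond (Nat.beq c 246) [⟨247, 1, 1⟩] [])))))))

/-- Compiled columns of `x_121` for type E8. -/
def colsE8_121 (c : ℕ) : List CEnt :=
  cond (Nat.blt c 114) (cond (Nat.blt c 48) (cond (Nat.blt c 9) (cond (Nat.blt c 4) (cond (Nat.blt c 2) (cond (Nat.blt c 1) (cond (Nat.beq c 0) [⟨129, 0, 1⟩] []) (cond (Nat.beq c 1) [⟨129, 0, 1⟩] [])) (cond (Nat.blt c 3) (cond (Nat.beq c 2) [⟨129, 0, 1⟩] []) (cond (Nat.beq c 3) [⟨129, 0, 1⟩] []))) (cond (Nat.blt c 6) (cond (Nat.blt c 5) (cond (Nat.beq c 4) [⟨129, 0, 1⟩] []) (cond (Nat.beq c 5) [⟨129, 1, 1⟩] [])) (cond (Nat.blt c 7) (cond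 (Nat.beq c 6) [⟨129, -2, 1⟩] []) (cond (Nat.beq c 7) [⟨129, 1, 1⟩] [])))) (cond (Nat.blt c 35) (cond (Nat.blt c 26) (cond (Nat.blt c 19) (cond (Nat.beq c 9) [⟨10, -1, 1⟩] []) (cond (Nat.beq c 19) [⟨20, -1, 1⟩] [])) (cond (Nat.blt c 31) (cond (Nat.beq c 26) [⟨27, -1, 1⟩] []) (cond (Nat.beq c 31) [⟨32, -1, 1⟩] []))) (cond (Nat.blt c 42) (cond (Nat.blt c 38) (cond (Nat.beq c 35) [⟨36, -1, 1⟩] []) (cond (Nat.beq c 38) [⟨39, -1, 1⟩] [])) (cond (Nat.blt c 45) (cond (Nat.beq c 42) [⟨43, -1, 1⟩] []) (cond (Nat.beq c 45) [⟨46, -1, 1⟩] []))))) (cond (Nat.blt c 75) (cond (Nat.blt c 61) (cond (Nat.blt c 54) (cond (Nat.blt c 52) (cond (Nat.beq c 48) [⟨49, -1, 1⟩] []) (cond (Nat.beq c 52) [⟨53, -1, 1⟩] [])) (cond (Nat.blt c 58) (cond (Nat.beq c 54) [⟨55, -1, 1⟩] []) (cond (Nat.beq c 58) [⟨59, -1, 1⟩] [])))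 (cond (Nat.blt c 68) (cond (Nat.blt c 64) (cond (Nat.beq c 61) [⟨62, -1, 1⟩] []) (cond (Nat.beq c 64) [⟨65, -1, 1⟩] [])) (cond (Nat.blt c 71) (cond (Nat.beq c 68) [⟨69, -1, 1⟩] []) (cond (Nat.beq c 71) [⟨72, -1, 1⟩] [])))) (cond (Nat.blt c 93) (cond (Nat.blt c 86) (cond (Nat.blt c 80) (cond (Nat.beq c 75) [⟨76, -1, 1⟩] []) (cond (Nat.beq c 80) [⟨81, -1, 1⟩] [])) (cond (Nat.blt c 90) (cond (Nat.beq c 86) [⟨87, -1, 1⟩] []) (cond (Nat.beq c 90) [⟨91, -1, 1⟩] []))) (cond (Nat.blt c 102) (cond (Nat.blt c 97) (cond (Nat.beq c 93) [⟨94, -1, 1⟩] []) (cond (Nat.beq c 97) [⟨98, -1, 1⟩] [])) (cond (Nat.blt c 108) (cond (Nat.beq c 102) [⟨103, -1, 1⟩] []) (cond (Nat.beq c 108) [⟨109, -1, 1⟩] [])))))) (cond (Nat.blt c 179) (cond (Nat.blt c 140) (cond (Nat.blt c 126) (cond (Nat.blt c 123) (cond (Nat.blt c 119)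 (cond (Nat.beq c 114) [⟨115, -1, 1⟩] []) (cond (Nat.beq c 119) [⟨120, -1, 1⟩] [])) (cond (Nat.blt c 125) (cond (Nat.beq c 123) [⟨124, -1, 1⟩] []) (cond (Nat.beq c 125) [⟨127, 1, 1⟩] []))) (cond (Nat.blt c 131) (cond (Nat.blt c 128) (cond (Nat.beq c 126) [⟨129, -1, 2⟩, ⟨0, 0, 1⟩, ⟨1, 0, 1⟩, ⟨2, 0, 1⟩, ⟨3, 0, 1⟩, ⟨4, 0, 1⟩, ⟨5, 0, 1⟩, ⟨6, 1, 1⟩, ⟨7, 0, 1⟩] []) (cond (Nat.beq c 128) [⟨130, -1, 1⟩] [])) (cond (Nat.blt c 135) (cond (Nat.beq c 131) [⟨132, 1, 1⟩] []) (cond (Nat.beq c 135) [⟨136, 1, 1⟩] [])))) (cond (Nat.blt c 161) (cond (Nat.blt c 152) (cond (Nat.blt c 146) (cond (Nat.beq c 140) [⟨141, 1, 1⟩] []) (cond (Nat.beq c 146) [⟨147, 1, 1⟩] [])) (cond (Nat.blt c 157) (cond (Nat.beq c 152) [⟨153, 1, 1⟩] []) (cond (Nat.beq c 157) [⟨158, 1, 1⟩] []))) (cond (Nat.blt c 168) (cond (Nat.blt c 164) (cond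 (Nat.beq c 161) [⟨162, 1, 1⟩] []) (cond (Nat.beq c 164) [⟨165, 1, 1⟩] [])) (cond (Nat.blt c 174) (cond (Nat.beq c 168) [⟨169, 1, 1⟩] []) (cond (Nat.beq c 174) [⟨175, 1, 1⟩] []))))) (cond (Nat.blt c 206) (cond (Nat.blt c 193) (cond (Nat.blt c 186) (cond (Nat.blt c 183) (cond (Nat.beq c 179) [⟨180, 1, 1⟩] []) (cond (Nat.beq c 183) [⟨184, 1, 1⟩] [])) (cond (Nat.blt c 190) (cond (Nat.beq c 186) [⟨187, 1, 1⟩] []) (cond (Nat.beq c 190) [⟨191, 1, 1⟩] []))) (cond (Nat.blt c 200) (cond (Nat.blt c 196) (cond (Nat.beq c 193) [⟨194, 1, 1⟩] []) (cond (Nat.beq c 196) [⟨197, 1, 1⟩] [])) (cond (Nat.blt c 202) (cond (Nat.beq c 200) [⟨201, 1, 1⟩] []) (cond (Nat.beq c 202) [⟨203, 1, 1⟩] [])))) (cond (Nat.blt c 219) (cond (Nat.blt c 212) (cond (Nat.blt c 209) (cond (Nat.beq c 206) [⟨207, 1, 1⟩] []) (cond (Nat.beq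 c 209) [⟨210, 1, 1⟩] [])) (cond (Nat.blt c 216) (cond (Nat.beq c 212) [⟨213, 1, 1⟩] []) (cond (Nat.beq c 216) [⟨217, 1, 1⟩] []))) (cond (Nat.blt c 228) (cond (Nat.blt c 223) (cond (Nat.beq c 219) [⟨220, 1, 1⟩] []) (cond (Nat.beq c 223) [⟨224, 1, 1⟩] [])) (cond (Nat.blt c 235) (cond (Nat.beq c 228) [⟨229, 1, 1⟩] []) (cond (Nat.blt c 245) (cond (Nat.beq c 235) [⟨236, 1, 1⟩] []) (cond (Nat.beq c 245) [⟨246, 1, 1⟩] [])))))))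

/-- Compiled columns of `x_122` for type E8. -/
def colsE8_122 (c : ℕ) : List CEnt :=
  cond (Nat.blt c 113) (cond (Nat.blt c 48) (cond (Nat.blt c 8) (cond (Nat.blt c 4) (cond (Nat.blt c 2) (cond (Nat.blt c 1) (cond (Nat.beq c 0) [⟨130, 0, 1⟩] []) (cond (Nat.beq c 1) [⟨130, 0, 1⟩] [])) (cond (Nat.blt c 3) (cond (Nat.beq c 2) [⟨130, 0, 1⟩] []) (cond (Nat.beq c 3) [⟨130, 0, 1⟩] []))) (cond (Nat.blt c 6) (cond (Nat.blt c 5) (cond (Nat.beq c 4) [⟨130, 0, 1⟩] []) (cond (Nat.beq c 5) [⟨130, 1, 1⟩] [])) (cond (Nat.blt c 7) (cond (Nat.beq c 6) [⟨130, -1, 1⟩] []) (cond (Nat.beq c 7) [⟨130, -1, 1⟩] [])))) (cond (Nat.blt c 35) (cond (Nat.blt c 26) (cond (Nat.blt c 19) (cond (Nat.beq c 8) [⟨10, -1, 1⟩] []) (cond (Nat.beq c 19) [⟨21, 1, 1⟩] [])) (cond (Nat.blt c 31) (cond (Nat.beq c 26) [⟨28, 1, 1⟩] []) (cond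 (Nat.beq c 31) [⟨33, 1, 1⟩] []))) (cond (Nat.blt c 41) (cond (Nat.blt c 38) (cond (Nat.beq c 35) [⟨37, 1, 1⟩] []) (cond (Nat.beq c 38) [⟨40, 1, 1⟩] [])) (cond (Nat.blt c 45) (cond (Nat.beq c 41) [⟨43, -1, 1⟩] []) (cond (Nat.beq c 45) [⟨47, 1, 1⟩] []))))) (cond (Nat.blt c 74) (cond (Nat.blt c 60) (cond (Nat.blt c 54) (cond (Nat.blt c 51) (cond (Nat.beq c 48) [⟨50, 1, 1⟩] []) (cond (Nat.beq c 51) [⟨53, -1, 1⟩] [])) (cond (Nat.blt c 57) (cond (Nat.beq c 54) [⟨56, 1, 1⟩] []) (cond (Nat.beq c 57) [⟨59, -1, 1⟩] []))) (cond (Nat.blt c 67) (cond (Nat.blt c 64) (cond (Nat.beq c 60) [⟨62, -1, 1⟩] []) (cond (Nat.beq c 64) [⟨66, 1, 1⟩] [])) (cond (Nat.blt c 70) (cond (Nat.beq c 67) [⟨69, -1, 1⟩] []) (cond (Nat.beq c 70) [⟨72, -1, 1⟩] [])))) (cond (Nat.blt c 92) (cond (Nat.blt c 86) (cond (Nat.blt c 79) (cond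 (Nat.beq c 74) [⟨76, -1, 1⟩] []) (cond (Nat.beq c 79) [⟨81, -1, 1⟩] [])) (cond (Nat.blt c 89) (cond (Nat.beq c 86) [⟨88, 1, 1⟩] []) (cond (Nat.beq c 89) [⟨91, -1, 1⟩] []))) (cond (Nat.blt c 101) (cond (Nat.blt c 96) (cond (Nat.beq c 92) [⟨94, -1, 1⟩] []) (cond (Nat.beq c 96) [⟨98, -1, 1⟩] [])) (cond (Nat.blt c 107) (cond (Nat.beq c 101) [⟨103, -1, 1⟩] []) (cond (Nat.beq c 107) [⟨109, -1, 1⟩] [])))))) (cond (Nat.blt c 179) (cond (Nat.blt c 140) (cond (Nat.blt c 126) (cond (Nat.blt c 122) (cond (Nat.blt c 118) (cond (Nat.beq c 113) [⟨115, -1, 1⟩] []) (cond (Nat.beq c 118) [⟨120, -1, 1⟩] [])) (cond (Nat.blt c 125) (cond (Nat.beq c 122) [⟨124, -1, 1⟩] []) (cond (Nat.beq c 125) [⟨130, -1, 2⟩, ⟨0, 0, 1⟩, ⟨1, 0, 1⟩, ⟨2, 0, 1⟩, ⟨3, 0, 1⟩, ⟨4, 0, 1⟩, ⟨5, 0, 1⟩, ⟨6, 1, 1⟩, ⟨7, 1, 1⟩] []))) (cond (Nat.blt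 c 131) (cond (Nat.blt c 127) (cond (Nat.beq c 126) [⟨128, 1, 1⟩] []) (cond (Nat.beq c 127) [⟨129, -1, 1⟩] [])) (cond (Nat.blt c 135) (cond (Nat.beq c 131) [⟨133, 1, 1⟩] []) (cond (Nat.beq c 135) [⟨137, 1, 1⟩] [])))) (cond (Nat.blt c 161) (cond (Nat.blt c 152) (cond (Nat.blt c 146) (cond (Nat.beq c 140) [⟨142, 1, 1⟩] []) (cond (Nat.beq c 146) [⟨148, 1, 1⟩] [])) (cond (Nat.blt c 157) (cond (Nat.beq c 152) [⟨154, 1, 1⟩] []) (cond (Nat.beq c 157) [⟨159, 1, 1⟩] []))) (cond (Nat.blt c 167) (cond (Nat.blt c 164) (cond (Nat.beq c 161) [⟨163, 1, 1⟩] []) (cond (Nat.beq c 164) [⟨166, 1, 1⟩] [])) (cond (Nat.blt c 174) (cond (Nat.beq c 167) [⟨169, -1, 1⟩] []) (cond (Nat.beq c 174) [⟨176, 1, 1⟩] []))))) (cond (Nat.blt c 205) (cond (Nat.blt c 193) (cond (Nat.blt c 186) (cond (Nat.blt c 183) (cond (Nat.beq c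 179) [⟨181, 1, 1⟩] []) (cond (Nat.beq c 183) [⟨185, 1, 1⟩] [])) (cond (Nat.blt c 189) (cond (Nat.beq c 186) [⟨188, 1, 1⟩] []) (cond (Nat.beq c 189) [⟨191, -1, 1⟩] []))) (cond (Nat.blt c 199) (cond (Nat.blt c 196) (cond (Nat.beq c 193) [⟨195, 1, 1⟩] []) (cond (Nat.beq c 196) [⟨198, 1, 1⟩] [])) (cond (Nat.blt c 202) (cond (Nat.beq c 199) [⟨201, -1, 1⟩] []) (cond (Nat.beq c 202) [⟨204, 1, 1⟩] [])))) (cond (Nat.blt c 218) (cond (Nat.blt c 212) (cond (Nat.blt c 208) (cond (Nat.beq c 205) [⟨207, -1, 1⟩] []) (cond (Nat.beq c 208) [⟨210, -1, 1⟩] [])) (cond (Nat.blt c 215) (cond (Nat.beq c 212) [⟨214, 1, 1⟩] []) (cond (Nat.beq c 215) [⟨217, -1, 1⟩] []))) (cond (Nat.blt c 227) (cond (Nat.blt c 222) (cond (Nat.beq c 218) [⟨220, -1, 1⟩] []) (cond (Nat.beq c 222) [⟨224, -1, 1⟩] [])) (cond (Nat.blt c 234) (cond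 (Nat.beq c 227) [⟨229, -1, 1⟩] []) (cond (Nat.blt c 245) (cond (Nat.beq c 234) [⟨236, -1, 1⟩] []) (cond (Nat.beq c 245) [⟨247, 1, 1⟩] [])))))))

/-- Compiled columns of `x_123` for type E8. -/
def colsE8_123 (c : ℕ) : List CEnt :=
  cond (Nat.blt c 115) (cond (Nat.blt c 49) (cond (Nat.blt c 10) (cond (Nat.blt c 4) (cond (Nat.blt c 2) (cond (Nat.blt c 1) (cond (Nat.beq c 0) [⟨131, 0, 1⟩] []) (cond (Nat.beq c 1) [⟨131, 0, 1⟩] [])) (cond (Nat.blt c 3) (cond (Nat.beq c 2) [⟨131, 0, 1⟩] []) (cond (Nat.beq c 3) [⟨131, 0, 1⟩] []))) (cond (Nat.blt c 6) (cond (Nat.blt c 5) (cond (Nat.beq c 4) [⟨131, 1, 1⟩] []) (cond (Nat.beq c 5) [⟨131, -2, 1⟩] [])) (cond (Nat.blt c 7) (cond (Nat.beq c 6) [⟨131, 1, 1⟩] []) (cond (Nat.beq c 7) [⟨131, 0, 1⟩] [])))) (cond (Nat.blt c 34) (cond (Nat.blt c 25) (cond (Nat.blt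 c 18) (cond (Nat.beq c 10) [⟨11, -1, 1⟩] []) (cond (Nat.beq c 18) [⟨19, -1, 1⟩] [])) (cond (Nat.blt c 30) (cond (Nat.beq c 25) [⟨26, -1, 1⟩] []) (cond (Nat.beq c 30) [⟨31, -1, 1⟩] []))) (cond (Nat.blt c 40) (cond (Nat.blt c 39) (cond (Nat.beq c 34) [⟨35, -1, 1⟩] []) (cond (Nat.beq c 39) [⟨41, -1, 1⟩] [])) (cond (Nat.blt c 44) (cond (Nat.beq c 40) [⟨42, -1, 1⟩] []) (cond (Nat.beq c 44) [⟨45, -1, 1⟩] []))))) (cond (Nat.blt c 76) (cond (Nat.blt c 62) (cond (Nat.blt c 55) (cond (Nat.blt c 50) (cond (Nat.beq c 49) [⟨51, -1, 1⟩] []) (cond (Nat.beq c 50) [⟨52, -1, 1⟩] [])) (cond (Nat.blt c 56) (cond (Nat.beq c 55) [⟨57, -1, 1⟩] []) (cond (Nat.beq c 56) [⟨58, -1, 1⟩] []))) (cond (Nat.blt c 66) (cond (Nat.blt c 65) (cond (Nat.beq c 62) [⟨63, -1, 1⟩] []) (cond (Nat.beq c 65) [⟨67, -1, 1⟩] [])) (cond (Nat.blt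 c 72) (cond (Nat.beq c 66) [⟨68, -1, 1⟩] []) (cond (Nat.beq c 72) [⟨73, -1, 1⟩] [])))) (cond (Nat.blt c 94) (cond (Nat.blt c 87) (cond (Nat.blt c 81) (cond (Nat.beq c 76) [⟨77, -1, 1⟩] []) (cond (Nat.beq c 81) [⟨82, -1, 1⟩] [])) (cond (Nat.blt c 88) (cond (Nat.beq c 87) [⟨89, -1, 1⟩] []) (cond (Nat.beq c 88) [⟨90, -1, 1⟩] []))) (cond (Nat.blt c 103) (cond (Nat.blt c 98) (cond (Nat.beq c 94) [⟨95, -1, 1⟩] []) (cond (Nat.beq c 98) [⟨99, -1, 1⟩] [])) (cond (Nat.blt c 109) (cond (Nat.beq c 103) [⟨104, -1, 1⟩] []) (cond (Nat.beq c 109) [⟨110, -1, 1⟩] [])))))) (cond (Nat.blt c 178) (cond (Nat.blt c 139) (cond (Nat.blt c 124) (cond (Nat.blt c 122) (cond (Nat.blt c 120) (cond (Nat.beq c 115) [⟨116, -1, 1⟩] []) (cond (Nat.beq c 120) [⟨121, -1, 1⟩] [])) (cond (Nat.blt c 123) (cond (Nat.beq c 122) [⟨125,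 1, 1⟩] []) (cond (Nat.beq c 123) [⟨126, 1, 1⟩] []))) (cond (Nat.blt c 130) (cond (Nat.blt c 129) (cond (Nat.beq c 124) [⟨131, -1, 2⟩, ⟨0, 0, 1⟩, ⟨1, 0, 1⟩, ⟨2, 0, 1⟩, ⟨3, 0, 1⟩, ⟨4, 0, 1⟩, ⟨5, 1, 1⟩, ⟨6, 0, 1⟩, ⟨7, 0, 1⟩] []) (cond (Nat.beq c 129) [⟨132, -1, 1⟩] [])) (cond (Nat.blt c 134) (cond (Nat.beq c 130) [⟨133, -1, 1⟩] []) (cond (Nat.beq c 134) [⟨135, 1, 1⟩] [])))) (cond (Nat.blt c 160) (cond (Nat.blt c 151) (cond (Nat.blt c 145) (cond (Nat.beq c 139) [⟨140, 1, 1⟩] []) (cond (Nat.beq c 145) [⟨146, 1, 1⟩] [])) (cond (Nat.blt c 156) (cond (Nat.beq c 151) [⟨152, 1, 1⟩] []) (cond (Nat.beq c 156) [⟨157, 1, 1⟩] []))) (cond (Nat.blt c 166) (cond (Nat.blt c 165) (cond (Nat.beq c 160) [⟨161, 1, 1⟩] []) (cond (Nat.beq c 165) [⟨167, 1, 1⟩] [])) (cond (Nat.blt c 173) (cond (Nat.beq c 166) [⟨168, 1,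 1⟩] []) (cond (Nat.beq c 173) [⟨174, 1, 1⟩] []))))) (cond (Nat.blt c 204) (cond (Nat.blt c 192) (cond (Nat.blt c 187) (cond (Nat.blt c 182) (cond (Nat.beq c 178) [⟨179, 1, 1⟩] []) (cond (Nat.beq c 182) [⟨183, 1, 1⟩] [])) (cond (Nat.blt c 188) (cond (Nat.beq c 187) [⟨189, 1, 1⟩] []) (cond (Nat.beq c 188) [⟨190, 1, 1⟩] []))) (cond (Nat.blt c 198) (cond (Nat.blt c 197) (cond (Nat.beq c 192) [⟨193, 1, 1⟩] []) (cond (Nat.beq c 197) [⟨199, 1, 1⟩] [])) (cond (Nat.blt c 203) (cond (Nat.beq c 198) [⟨200, 1, 1⟩] []) (cond (Nat.beq c 203) [⟨205, 1, 1⟩] [])))) (cond (Nat.blt c 220) (cond (Nat.blt c 213) (cond (Nat.blt c 210) (cond (Nat.beq c 204) [⟨206, 1, 1⟩] []) (cond (Nat.beq c 210) [⟨211, 1, 1⟩] [])) (cond (Nat.blt c 214) (cond (Nat.beq c 213) [⟨215, 1, 1⟩] []) (cond (Nat.beq c 214) [⟨216, 1, 1⟩] [])))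 (cond (Nat.blt c 229) (cond (Nat.blt c 224) (cond (Nat.beq c 220) [⟨221, 1, 1⟩] []) (cond (Nat.beq c 224) [⟨225, 1, 1⟩] [])) (cond (Nat.blt c 236) (cond (Nat.beq c 229) [⟨230, 1, 1⟩] []) (cond (Nat.blt c 244) (cond (Nat.beq c 236) [⟨237, 1, 1⟩] []) (cond (Nat.beq c 244) [⟨245, 1, 1⟩] [])))))))

/-- Compiled columns of `x_124` for type E8. -/
def colsE8_124 (c : ℕ) : List CEnt :=
  cond (Nat.blt c 114) (cond (Nat.blt c 48) (cond (Nat.blt c 9) (cond (Nat.blt c 4) (cond (Nat.blt c 2) (cond (Nat.blt c 1) (cond (Nat.beq c 0) [⟨132, 0, 1⟩] []) (cond (Nat.beq c 1) [⟨132, 0, 1⟩] [])) (cond (Nat.blt c 3) (cond (Nat.beq c 2) [⟨132, 0, 1⟩] []) (cond (Nat.beq c 3) [⟨132, 0, 1⟩] []))) (cond (Nat.blt c 6) (cond (Nat.blt c 5) (cond (Nat.beq c 4) [⟨132, 1, 1⟩] []) (cond (Nat.beq c 5) [⟨132, -1, 1⟩] [])) (cond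 (Nat.blt c 7) (cond (Nat.beq c 6) [⟨132, -1, 1⟩] []) (cond (Nat.beq c 7) [⟨132, 1, 1⟩] [])))) (cond (Nat.blt c 34) (cond (Nat.blt c 25) (cond (Nat.blt c 18) (cond (Nat.beq c 9) [⟨11, -1, 1⟩] []) (cond (Nat.beq c 18) [⟨20, 1, 1⟩] [])) (cond (Nat.blt c 30) (cond (Nat.beq c 25) [⟨27, 1, 1⟩] []) (cond (Nat.beq c 30) [⟨32, 1, 1⟩] []))) (cond (Nat.blt c 40) (cond (Nat.blt c 38) (cond (Nat.beq c 34) [⟨36, 1, 1⟩] []) (cond (Nat.beq c 38) [⟨41, -1, 1⟩] [])) (cond (Nat.blt c 44) (cond (Nat.beq c 40) [⟨43, 1, 1⟩] []) (cond (Nat.beq c 44) [⟨46, 1, 1⟩] []))))) (cond (Nat.blt c 75) (cond (Nat.blt c 61) (cond (Nat.blt c 54) (cond (Nat.blt c 50) (cond (Nat.beq c 48) [⟨51, -1, 1⟩] []) (cond (Nat.beq c 50) [⟨53, 1, 1⟩] [])) (cond (Nat.blt c 56) (cond (Nat.beq c 54) [⟨57, -1, 1⟩] []) (cond (Nat.beq c 56) [⟨59, 1,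 1⟩] []))) (cond (Nat.blt c 66) (cond (Nat.blt c 64) (cond (Nat.beq c 61) [⟨63, -1, 1⟩] []) (cond (Nat.beq c 64) [⟨67, -1, 1⟩] [])) (cond (Nat.blt c 71) (cond (Nat.beq c 66) [⟨69, 1, 1⟩] []) (cond (Nat.beq c 71) [⟨73, -1, 1⟩] [])))) (cond (Nat.blt c 93) (cond (Nat.blt c 86) (cond (Nat.blt c 80) (cond (Nat.beq c 75) [⟨77, -1, 1⟩] []) (cond (Nat.beq c 80) [⟨82, -1, 1⟩] [])) (cond (Nat.blt c 88) (cond (Nat.beq c 86) [⟨89, -1, 1⟩] []) (cond (Nat.beq c 88) [⟨91, 1, 1⟩] []))) (cond (Nat.blt c 102) (cond (Nat.blt c 97) (cond (Nat.beq c 93) [⟨95, -1, 1⟩] []) (cond (Nat.beq c 97) [⟨99, -1, 1⟩] [])) (cond (Nat.blt c 108) (cond (Nat.beq c 102) [⟨104, -1, 1⟩] []) (cond (Nat.beq c 108) [⟨110, -1, 1⟩] [])))))) (cond (Nat.blt c 178) (cond (Nat.blt c 139) (cond (Nat.blt c 124) (cond (Nat.blt c 122) (cond (Nat.blt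 c 119) (cond (Nat.beq c 114) [⟨116, -1, 1⟩] []) (cond (Nat.beq c 119) [⟨121, -1, 1⟩] [])) (cond (Nat.blt c 123) (cond (Nat.beq c 122) [⟨127, 1, 1⟩] []) (cond (Nat.beq c 123) [⟨132, -1, 2⟩, ⟨0, 0, 1⟩, ⟨1, 0, 1⟩, ⟨2, 0, 1⟩, ⟨3, 0, 1⟩, ⟨4, 0, 1⟩, ⟨5, 1, 1⟩, ⟨6, 1, 1⟩, ⟨7, 0, 1⟩] []))) (cond (Nat.blt c 128) (cond (Nat.blt c 126) (cond (Nat.beq c 124) [⟨129, 1, 1⟩] []) (cond (Nat.beq c 126) [⟨131, -1, 1⟩] [])) (cond (Nat.blt c 134) (cond (Nat.beq c 128) [⟨133, -1, 1⟩] []) (cond (Nat.beq c 134) [⟨136, 1, 1⟩] [])))) (cond (Nat.blt c 160) (cond (Nat.blt c 151) (cond (Nat.blt c 145) (cond (Nat.beq c 139) [⟨141, 1, 1⟩] []) (cond (Nat.beq c 145) [⟨147, 1, 1⟩] [])) (cond (Nat.blt c 156) (cond (Nat.beq c 151) [⟨153, 1, 1⟩] []) (cond (Nat.beq c 156) [⟨158, 1, 1⟩] []))) (cond (Nat.blt c 166) (cond (Nat.blt c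 164) (cond (Nat.beq c 160) [⟨162, 1, 1⟩] []) (cond (Nat.beq c 164) [⟨167, -1, 1⟩] [])) (cond (Nat.blt c 173) (cond (Nat.beq c 166) [⟨169, 1, 1⟩] []) (cond (Nat.beq c 173) [⟨175, 1, 1⟩] []))))) (cond (Nat.blt c 204) (cond (Nat.blt c 192) (cond (Nat.blt c 186) (cond (Nat.blt c 182) (cond (Nat.beq c 178) [⟨180, 1, 1⟩] []) (cond (Nat.beq c 182) [⟨184, 1, 1⟩] [])) (cond (Nat.blt c 188) (cond (Nat.beq c 186) [⟨189, -1, 1⟩] []) (cond (Nat.beq c 188) [⟨191, 1, 1⟩] []))) (cond (Nat.blt c 198) (cond (Nat.blt c 196) (cond (Nat.beq c 192) [⟨194, 1, 1⟩] []) (cond (Nat.beq c 196) [⟨199, -1, 1⟩] [])) (cond (Nat.blt c 202) (cond (Nat.beq c 198) [⟨201, 1, 1⟩] []) (cond (Nat.beq c 202) [⟨205, -1, 1⟩] [])))) (cond (Nat.blt c 219) (cond (Nat.blt c 212) (cond (Nat.blt c 209) (cond (Nat.beq c 204) [⟨207, 1, 1⟩] [])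 (cond (Nat.beq c 209) [⟨211, -1, 1⟩] [])) (cond (Nat.blt c 214) (cond (Nat.beq c 212) [⟨215, -1, 1⟩] []) (cond (Nat.beq c 214) [⟨217, 1, 1⟩] []))) (cond (Nat.blt c 228) (cond (Nat.blt c 223) (cond (Nat.beq c 219) [⟨221, -1, 1⟩] []) (cond (Nat.beq c 223) [⟨225, -1, 1⟩] [])) (cond (Nat.blt c 235) (cond (Nat.beq c 228) [⟨230, -1, 1⟩] []) (cond (Nat.blt c 244) (cond (Nat.beq c 235) [⟨237, -1, 1⟩] []) (cond (Nat.beq c 244) [⟨246, 1, 1⟩] [])))))))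

/-- Compiled columns of `x_125` for type E8. -/
def colsE8_125 (c : ℕ) : List CEnt :=
  cond (Nat.blt c 113) (cond (Nat.blt c 48) (cond (Nat.blt c 8) (cond (Nat.blt c 4) (cond (Nat.blt c 2) (cond (Nat.blt c 1) (cond (Nat.beq c 0) [⟨133, 0, 1⟩] []) (cond (Nat.beq c 1) [⟨133, 0, 1⟩] [])) (cond (Nat.blt c 3) (cond (Nat.beq c 2) [⟨133, 0, 1⟩] []) (cond (Nat.beq c 3) [⟨133, 0, 1⟩] []))) (cond (Nat.blt c 6) (cond (Nat.blt c 5) (cond (Nat.beq c 4) [⟨133, 1, 1⟩] []) (cond (Nat.beq c 5) [⟨133, -1, 1⟩] [])) (cond (Nat.blt c 7) (cond (Nat.beq c 6) [⟨133, 0, 1⟩] []) (cond (Nat.beq c 7) [⟨133, -1, 1⟩] [])))) (cond (Nat.blt c 34) (cond (Nat.blt c 25) (cond (Nat.blt c 18) (cond (Nat.beq c 8) [⟨11, -1, 1⟩] []) (cond (Nat.beq c 18) [⟨21, -1, 1⟩] [])) (cond (Nat.blt c 30) (cond (Nat.beq c 25) [⟨28, -1, 1⟩] [])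 (cond (Nat.beq c 30) [⟨33, -1, 1⟩] []))) (cond (Nat.blt c 39) (cond (Nat.blt c 38) (cond (Nat.beq c 34) [⟨37, -1, 1⟩] []) (cond (Nat.beq c 38) [⟨42, 1, 1⟩] [])) (cond (Nat.blt c 44) (cond (Nat.beq c 39) [⟨43, 1, 1⟩] []) (cond (Nat.beq c 44) [⟨47, -1, 1⟩] []))))) (cond (Nat.blt c 74) (cond (Nat.blt c 60) (cond (Nat.blt c 54) (cond (Nat.blt c 49) (cond (Nat.beq c 48) [⟨52, 1, 1⟩] []) (cond (Nat.beq c 49) [⟨53, 1, 1⟩] [])) (cond (Nat.blt c 55) (cond (Nat.beq c 54) [⟨58, 1, 1⟩] []) (cond (Nat.beq c 55) [⟨59, 1, 1⟩] []))) (cond (Nat.blt c 65) (cond (Nat.blt c 64) (cond (Nat.beq c 60) [⟨63, -1, 1⟩] []) (cond (Nat.beq c 64) [⟨68, 1, 1⟩] [])) (cond (Nat.blt c 70) (cond (Nat.beq c 65) [⟨69, 1, 1⟩] []) (cond (Nat.beq c 70) [⟨73, -1, 1⟩] [])))) (cond (Nat.blt c 92) (cond (Nat.blt c 86) (cond (Nat.blt c 79)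 (cond (Nat.beq c 74) [⟨77, -1, 1⟩] []) (cond (Nat.beq c 79) [⟨82, -1, 1⟩] [])) (cond (Nat.blt c 87) (cond (Nat.beq c 86) [⟨90, 1, 1⟩] []) (cond (Nat.beq c 87) [⟨91, 1, 1⟩] []))) (cond (Nat.blt c 101) (cond (Nat.blt c 96) (cond (Nat.beq c 92) [⟨95, -1, 1⟩] []) (cond (Nat.beq c 96) [⟨99, -1, 1⟩] [])) (cond (Nat.blt c 107) (cond (Nat.beq c 101) [⟨104, -1, 1⟩] []) (cond (Nat.beq c 107) [⟨110, -1, 1⟩] [])))))) (cond (Nat.blt c 178) (cond (Nat.blt c 139) (cond (Nat.blt c 124) (cond (Nat.blt c 122) (cond (Nat.blt c 118) (cond (Nat.beq c 113) [⟨116, -1, 1⟩] []) (cond (Nat.beq c 118) [⟨121, -1, 1⟩] [])) (cond (Nat.blt c 123) (cond (Nat.beq c 122) [⟨133, -1, 2⟩, ⟨0, 0, 1⟩, ⟨1, 0, 1⟩, ⟨2, 0, 1⟩, ⟨3, 0, 1⟩, ⟨4, 0, 1⟩, ⟨5, 1, 1⟩, ⟨6, 1, 1⟩, ⟨7, 1, 1⟩] []) (cond (Nat.beq c 123) [⟨128, 1, 1⟩] []))) (cond (Nat.blt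 c 127) (cond (Nat.blt c 125) (cond (Nat.beq c 124) [⟨130, 1, 1⟩] []) (cond (Nat.beq c 125) [⟨131, -1, 1⟩] [])) (cond (Nat.blt c 134) (cond (Nat.beq c 127) [⟨132, -1, 1⟩] []) (cond (Nat.beq c 134) [⟨137, 1, 1⟩] [])))) (cond (Nat.blt c 160) (cond (Nat.blt c 151) (cond (Nat.blt c 145) (cond (Nat.beq c 139) [⟨142, 1, 1⟩] []) (cond (Nat.beq c 145) [⟨148, 1, 1⟩] [])) (cond (Nat.blt c 156) (cond (Nat.beq c 151) [⟨154, 1, 1⟩] []) (cond (Nat.beq c 156) [⟨159, 1, 1⟩] []))) (cond (Nat.blt c 165) (cond (Nat.blt c 164) (cond (Nat.beq c 160) [⟨163, 1, 1⟩] []) (cond (Nat.beq c 164) [⟨168, -1, 1⟩] [])) (cond (Nat.blt c 173) (cond (Nat.beq c 165) [⟨169, -1, 1⟩] []) (cond (Nat.beq c 173) [⟨176, 1, 1⟩] []))))) (cond (Nat.blt c 203) (cond (Nat.blt c 192) (cond (Nat.blt c 186) (cond (Nat.blt c 182) (cond (Nat.beq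 c 178) [⟨181, 1, 1⟩] []) (cond (Nat.beq c 182) [⟨185, 1, 1⟩] [])) (cond (Nat.blt c 187) (cond (Nat.beq c 186) [⟨190, -1, 1⟩] []) (cond (Nat.beq c 187) [⟨191, -1, 1⟩] []))) (cond (Nat.blt c 197) (cond (Nat.blt c 196) (cond (Nat.beq c 192) [⟨195, 1, 1⟩] []) (cond (Nat.beq c 196) [⟨200, -1, 1⟩] [])) (cond (Nat.blt c 202) (cond (Nat.beq c 197) [⟨201, -1, 1⟩] []) (cond (Nat.beq c 202) [⟨206, -1, 1⟩] [])))) (cond (Nat.blt c 218) (cond (Nat.blt c 212) (cond (Nat.blt c 208) (cond (Nat.beq c 203) [⟨207, -1, 1⟩] []) (cond (Nat.beq c 208) [⟨211, 1, 1⟩] [])) (cond (Nat.blt c 213) (cond (Nat.beq c 212) [⟨216, -1, 1⟩] []) (cond (Nat.beq c 213) [⟨217, -1, 1⟩] []))) (cond (Nat.blt c 227) (cond (Nat.blt c 222) (cond (Nat.beq c 218) [⟨221, 1, 1⟩] []) (cond (Nat.beq c 222) [⟨225, 1, 1⟩] [])) (cond (Nat.blt c 234)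 (cond (Nat.beq c 227) [⟨230, 1, 1⟩] []) (cond (Nat.blt c 244) (cond (Nat.beq c 234) [⟨237, 1, 1⟩] []) (cond (Nat.beq c 244) [⟨247, 1, 1⟩] [])))))))

/-- Compiled columns of `x_126` for type E8. -/
def colsE8_126 (c : ℕ) : List CEnt :=
  cond (Nat.blt c 116) (cond (Nat.blt c 46) (cond (Nat.blt c 11) (cond (Nat.blt c 4) (cond (Nat.blt c 2) (cond (Nat.blt c 1) (cond (Nat.beq c 0) [⟨134, 0, 1⟩] []) (cond (Nat.beq c 1) [⟨134, 0, 1⟩] [])) (cond (Nat.blt c 3) (cond (Nat.beq c 2) [⟨134, 0, 1⟩] []) (cond (Nat.beq c 3) [⟨134, 1, 1⟩] []))) (cond (Nat.blt c 6) (cond (Nat.blt c 5) (cond (Nat.beq c 4) [⟨134, -2, 1⟩] []) (cond (Nat.beq c 5) [⟨134, 1, 1⟩] [])) (cond (Nat.blt c 7) (cond (Nat.beq c 6) [⟨134, 0, 1⟩] []) (cond (Nat.beq c 7) [⟨134, 0, 1⟩] [])))) (cond (Nat.blt c 35) (cond (Nat.blt c 24) (cond (Nat.blt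 c 17) (cond (Nat.beq c 11) [⟨12, -1, 1⟩] []) (cond (Nat.beq c 17) [⟨18, -1, 1⟩] [])) (cond (Nat.blt c 29) (cond (Nat.beq c 24) [⟨25, -1, 1⟩] []) (cond (Nat.beq c 29) [⟨30, -1, 1⟩] []))) (cond (Nat.blt c 37) (cond (Nat.blt c 36) (cond (Nat.beq c 35) [⟨38, -1, 1⟩] []) (cond (Nat.beq c 36) [⟨39, -1, 1⟩] [])) (cond (Nat.blt c 45) (cond (Nat.beq c 37) [⟨40, -1, 1⟩] []) (cond (Nat.beq c 45) [⟨48, -1, 1⟩] []))))) (cond (Nat.blt c 77) (cond (Nat.blt c 59) (cond (Nat.blt c 57) (cond (Nat.blt c 47) (cond (Nat.beq c 46) [⟨49, -1, 1⟩] []) (cond (Nat.beq c 47) [⟨50, -1, 1⟩] [])) (cond (Nat.blt c 58) (cond (Nat.beq c 57) [⟨60, -1, 1⟩] []) (cond (Nat.beq c 58) [⟨61, -1, 1⟩] []))) (cond (Nat.blt c 68) (cond (Nat.blt c 67) (cond (Nat.beq c 59) [⟨62, -1, 1⟩] []) (cond (Nat.beq c 67) [⟨70, -1, 1⟩] [])) (cond (Nat.blt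 c 69) (cond (Nat.beq c 68) [⟨71, -1, 1⟩] []) (cond (Nat.beq c 69) [⟨72, -1, 1⟩] [])))) (cond (Nat.blt c 91) (cond (Nat.blt c 89) (cond (Nat.blt c 82) (cond (Nat.beq c 77) [⟨78, -1, 1⟩] []) (cond (Nat.beq c 82) [⟨83, -1, 1⟩] [])) (cond (Nat.blt c 90) (cond (Nat.beq c 89) [⟨92, -1, 1⟩] []) (cond (Nat.beq c 90) [⟨93, -1, 1⟩] []))) (cond (Nat.blt c 104) (cond (Nat.blt c 99) (cond (Nat.beq c 91) [⟨94, -1, 1⟩] []) (cond (Nat.beq c 99) [⟨100, -1, 1⟩] [])) (cond (Nat.blt c 110) (cond (Nat.beq c 104) [⟨105, -1, 1⟩] []) (cond (Nat.beq c 110) [⟨111, -1, 1⟩] [])))))) (cond (Nat.blt c 177) (cond (Nat.blt c 138) (cond (Nat.blt c 121) (cond (Nat.blt c 119) (cond (Nat.blt c 118) (cond (Nat.beq c 116) [⟨117, -1, 1⟩] []) (cond (Nat.beq c 118) [⟨122, 1, 1⟩] [])) (cond (Nat.blt c 120) (cond (Nat.beq c 119) [⟨123,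 1, 1⟩] []) (cond (Nat.beq c 120) [⟨124, 1, 1⟩] []))) (cond (Nat.blt c 132) (cond (Nat.blt c 131) (cond (Nat.beq c 121) [⟨134, -1, 2⟩, ⟨0, 0, 1⟩, ⟨1, 0, 1⟩, ⟨2, 0, 1⟩, ⟨3, 0, 1⟩, ⟨4, 1, 1⟩, ⟨5, 0, 1⟩, ⟨6, 0, 1⟩, ⟨7, 0, 1⟩] []) (cond (Nat.beq c 131) [⟨135, -1, 1⟩] [])) (cond (Nat.blt c 133) (cond (Nat.beq c 132) [⟨136, -1, 1⟩] []) (cond (Nat.beq c 133) [⟨137, -1, 1⟩] [])))) (cond (Nat.blt c 161) (cond (Nat.blt c 150) (cond (Nat.blt c 144) (cond (Nat.beq c 138) [⟨139, 1, 1⟩] []) (cond (Nat.beq c 144) [⟨145, 1, 1⟩] [])) (cond (Nat.blt c 155) (cond (Nat.beq c 150) [⟨151, 1, 1⟩] []) (cond (Nat.beq c 155) [⟨156, 1, 1⟩] []))) (cond (Nat.blt c 163) (cond (Nat.blt c 162) (cond (Nat.beq c 161) [⟨164, 1, 1⟩] []) (cond (Nat.beq c 162) [⟨165, 1, 1⟩] [])) (cond (Nat.blt c 172) (cond (Nat.beq c 163) [⟨166, 1,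 1⟩] []) (cond (Nat.beq c 172) [⟨173, 1, 1⟩] []))))) (cond (Nat.blt c 206) (cond (Nat.blt c 193) (cond (Nat.blt c 184) (cond (Nat.blt c 183) (cond (Nat.beq c 177) [⟨178, 1, 1⟩] []) (cond (Nat.beq c 183) [⟨186, 1, 1⟩] [])) (cond (Nat.blt c 185) (cond (Nat.beq c 184) [⟨187, 1, 1⟩] []) (cond (Nat.beq c 185) [⟨188, 1, 1⟩] []))) (cond (Nat.blt c 195) (cond (Nat.blt c 194) (cond (Nat.beq c 193) [⟨196, 1, 1⟩] []) (cond (Nat.beq c 194) [⟨197, 1, 1⟩] [])) (cond (Nat.blt c 205) (cond (Nat.beq c 195) [⟨198, 1, 1⟩] []) (cond (Nat.beq c 205) [⟨208, 1, 1⟩] [])))) (cond (Nat.blt c 217) (cond (Nat.blt c 215) (cond (Nat.blt c 207) (cond (Nat.beq c 206) [⟨209, 1, 1⟩] []) (cond (Nat.beq c 207) [⟨210, 1, 1⟩] [])) (cond (Nat.blt c 216) (cond (Nat.beq c 215) [⟨218, 1, 1⟩] []) (cond (Nat.beq c 216) [⟨219, 1, 1⟩] [])))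 (cond (Nat.blt c 230) (cond (Nat.blt c 225) (cond (Nat.beq c 217) [⟨220, 1, 1⟩] []) (cond (Nat.beq c 225) [⟨226, 1, 1⟩] [])) (cond (Nat.blt c 237) (cond (Nat.beq c 230) [⟨231, 1, 1⟩] []) (cond (Nat.blt c 243) (cond (Nat.beq c 237) [⟨238, 1, 1⟩] []) (cond (Nat.beq c 243) [⟨244, 1, 1⟩] [])))))))

/-- Compiled columns of `x_127` for type E8. -/
def colsE8_127 (c : ℕ) : List CEnt :=
  cond (Nat.blt c 115) (cond (Nat.blt c 46) (cond (Nat.blt c 10) (cond (Nat.blt c 4) (cond (Nat.blt c 2) (cond (Nat.blt c 1) (cond (Nat.beq c 0) [⟨135, 0, 1⟩] []) (cond (Nat.beq c 1) [⟨135, 0, 1⟩] [])) (cond (Nat.blt c 3) (cond (Nat.beq c 2) [⟨135, 0, 1⟩] []) (cond (Nat.beq c 3) [⟨135, 1, 1⟩] []))) (cond (Nat.blt c 6) (cond (Nat.blt c 5) (cond (Nat.beq c 4) [⟨135, -1, 1⟩] []) (cond (Nat.beq c 5) [⟨135, -1, 1⟩] [])) (cond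 (Nat.blt c 7) (cond (Nat.beq c 6) [⟨135, 1, 1⟩] []) (cond (Nat.beq c 7) [⟨135, 0, 1⟩] [])))) (cond (Nat.blt c 34) (cond (Nat.blt c 24) (cond (Nat.blt c 17) (cond (Nat.beq c 10) [⟨12, -1, 1⟩] []) (cond (Nat.beq c 17) [⟨19, 1, 1⟩] [])) (cond (Nat.blt c 29) (cond (Nat.beq c 24) [⟨26, 1, 1⟩] []) (cond (Nat.beq c 29) [⟨31, 1, 1⟩] []))) (cond (Nat.blt c 37) (cond (Nat.blt c 36) (cond (Nat.beq c 34) [⟨38, -1, 1⟩] []) (cond (Nat.beq c 36) [⟨41, 1, 1⟩] [])) (cond (Nat.blt c 44) (cond (Nat.beq c 37) [⟨42, 1, 1⟩] []) (cond (Nat.beq c 44) [⟨48, -1, 1⟩] []))))) (cond (Nat.blt c 76) (cond (Nat.blt c 59) (cond (Nat.blt c 55) (cond (Nat.blt c 47) (cond (Nat.beq c 46) [⟨51, 1, 1⟩] []) (cond (Nat.beq c 47) [⟨52, 1, 1⟩] [])) (cond (Nat.blt c 56) (cond (Nat.beq c 55) [⟨60, -1, 1⟩] []) (cond (Nat.beq c 56) [⟨61, -1,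 1⟩] []))) (cond (Nat.blt c 66) (cond (Nat.blt c 65) (cond (Nat.beq c 59) [⟨63, 1, 1⟩] []) (cond (Nat.beq c 65) [⟨70, -1, 1⟩] [])) (cond (Nat.blt c 69) (cond (Nat.beq c 66) [⟨71, -1, 1⟩] []) (cond (Nat.beq c 69) [⟨73, 1, 1⟩] [])))) (cond (Nat.blt c 91) (cond (Nat.blt c 87) (cond (Nat.blt c 81) (cond (Nat.beq c 76) [⟨78, -1, 1⟩] []) (cond (Nat.beq c 81) [⟨83, -1, 1⟩] [])) (cond (Nat.blt c 88) (cond (Nat.beq c 87) [⟨92, -1, 1⟩] []) (cond (Nat.beq c 88) [⟨93, -1, 1⟩] []))) (cond (Nat.blt c 103) (cond (Nat.blt c 98) (cond (Nat.beq c 91) [⟨95, 1, 1⟩] []) (cond (Nat.beq c 98) [⟨100, -1, 1⟩] [])) (cond (Nat.blt c 109) (cond (Nat.beq c 103) [⟨105, -1, 1⟩] []) (cond (Nat.beq c 109) [⟨111, -1, 1⟩] [])))))) (cond (Nat.blt c 177) (cond (Nat.blt c 138) (cond (Nat.blt c 121) (cond (Nat.blt c 119) (cond (Nat.blt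 c 118) (cond (Nat.beq c 115) [⟨117, -1, 1⟩] []) (cond (Nat.beq c 118) [⟨125, 1, 1⟩] [])) (cond (Nat.blt c 120) (cond (Nat.beq c 119) [⟨126, 1, 1⟩] []) (cond (Nat.beq c 120) [⟨135, -1, 2⟩, ⟨0, 0, 1⟩, ⟨1, 0, 1⟩, ⟨2, 0, 1⟩, ⟨3, 0, 1⟩, ⟨4, 1, 1⟩, ⟨5, 1, 1⟩, ⟨6, 0, 1⟩, ⟨7, 0, 1⟩] []))) (cond (Nat.blt c 129) (cond (Nat.blt c 124) (cond (Nat.beq c 121) [⟨131, 1, 1⟩] []) (cond (Nat.beq c 124) [⟨134, -1, 1⟩] [])) (cond (Nat.blt c 130) (cond (Nat.beq c 129) [⟨136, -1, 1⟩] []) (cond (Nat.beq c 130) [⟨137, -1, 1⟩] [])))) (cond (Nat.blt c 160) (cond (Nat.blt c 150) (cond (Nat.blt c 144) (cond (Nat.beq c 138) [⟨140, 1, 1⟩] []) (cond (Nat.beq c 144) [⟨146, 1, 1⟩] [])) (cond (Nat.blt c 155) (cond (Nat.beq c 150) [⟨152, 1, 1⟩] []) (cond (Nat.beq c 155) [⟨157, 1, 1⟩] []))) (cond (Nat.blt c 163) (cond (Nat.blt c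 162) (cond (Nat.beq c 160) [⟨164, -1, 1⟩] []) (cond (Nat.beq c 162) [⟨167, 1, 1⟩] [])) (cond (Nat.blt c 172) (cond (Nat.beq c 163) [⟨168, 1, 1⟩] []) (cond (Nat.beq c 172) [⟨174, 1, 1⟩] []))))) (cond (Nat.blt c 204) (cond (Nat.blt c 192) (cond (Nat.blt c 184) (cond (Nat.blt c 182) (cond (Nat.beq c 177) [⟨179, 1, 1⟩] []) (cond (Nat.beq c 182) [⟨186, -1, 1⟩] [])) (cond (Nat.blt c 185) (cond (Nat.beq c 184) [⟨189, 1, 1⟩] []) (cond (Nat.beq c 185) [⟨190, 1, 1⟩] []))) (cond (Nat.blt c 195) (cond (Nat.blt c 194) (cond (Nat.beq c 192) [⟨196, -1, 1⟩] []) (cond (Nat.beq c 194) [⟨199, 1, 1⟩] [])) (cond (Nat.blt c 203) (cond (Nat.beq c 195) [⟨200, 1, 1⟩] []) (cond (Nat.beq c 203) [⟨208, -1, 1⟩] [])))) (cond (Nat.blt c 217) (cond (Nat.blt c 213) (cond (Nat.blt c 207) (cond (Nat.beq c 204) [⟨209, -1, 1⟩] [])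 (cond (Nat.beq c 207) [⟨211, 1, 1⟩] [])) (cond (Nat.blt c 214) (cond (Nat.beq c 213) [⟨218, -1, 1⟩] []) (cond (Nat.beq c 214) [⟨219, -1, 1⟩] []))) (cond (Nat.blt c 229) (cond (Nat.blt c 224) (cond (Nat.beq c 217) [⟨221, 1, 1⟩] []) (cond (Nat.beq c 224) [⟨226, -1, 1⟩] [])) (cond (Nat.blt c 236) (cond (Nat.beq c 229) [⟨231, -1, 1⟩] []) (cond (Nat.blt c 243) (cond (Nat.beq c 236) [⟨238, -1, 1⟩] []) (cond (Nat.beq c 243) [⟨245, 1, 1⟩] [])))))))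

/-- Compiled columns of `x_128` for type E8. -/
def colsE8_128 (c : ℕ) : List CEnt :=
  cond (Nat.blt c 114) (cond (Nat.blt c 45) (cond (Nat.blt c 9) (cond (Nat.blt c 4) (cond (Nat.blt c 2) (cond (Nat.blt c 1) (cond (Nat.beq c 0) [⟨136, 0, 1⟩] []) (cond (Nat.beq c 1) [⟨136, 0, 1⟩] [])) (cond (Nat.blt c 3) (cond (Nat.beq c 2) [⟨136, 0, 1⟩] []) (cond (Nat.beq c 3) [⟨136, 1, 1⟩] []))) (cond (Nat.blt c 6) (cond (Nat.blt c 5) (cond (Nat.beq c 4) [⟨136, -1, 1⟩] []) (cond (Nat.beq c 5) [⟨136, 0, 1⟩] [])) (cond (Nat.blt c 7) (cond (Nat.beq c 6) [⟨136, -1, 1⟩] []) (cond (Nat.beq c 7) [⟨136, 1, 1⟩] [])))) (cond (Nat.blt c 34) (cond (Nat.blt c 24) (cond (Nat.blt c 17) (cond (Nat.beq c 9) [⟨12, -1, 1⟩] []) (cond (Nat.beq c 17) [⟨20, -1, 1⟩] [])) (cond (Nat.blt c 29) (cond (Nat.beq c 24) [⟨27, -1, 1⟩] [])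 (cond (Nat.beq c 29) [⟨32, -1, 1⟩] []))) (cond (Nat.blt c 37) (cond (Nat.blt c 35) (cond (Nat.beq c 34) [⟨39, 1, 1⟩] []) (cond (Nat.beq c 35) [⟨41, 1, 1⟩] [])) (cond (Nat.blt c 44) (cond (Nat.beq c 37) [⟨43, -1, 1⟩] []) (cond (Nat.beq c 44) [⟨49, 1, 1⟩] []))))) (cond (Nat.blt c 75) (cond (Nat.blt c 58) (cond (Nat.blt c 54) (cond (Nat.blt c 47) (cond (Nat.beq c 45) [⟨51, 1, 1⟩] []) (cond (Nat.beq c 47) [⟨53, -1, 1⟩] [])) (cond (Nat.blt c 56) (cond (Nat.beq c 54) [⟨60, -1, 1⟩] []) (cond (Nat.beq c 56) [⟨62, 1, 1⟩] []))) (cond (Nat.blt c 66) (cond (Nat.blt c 64) (cond (Nat.beq c 58) [⟨63, 1, 1⟩] []) (cond (Nat.beq c 64) [⟨70, -1, 1⟩] [])) (cond (Nat.blt c 68) (cond (Nat.beq c 66) [⟨72, 1, 1⟩] []) (cond (Nat.beq c 68) [⟨73, 1, 1⟩] [])))) (cond (Nat.blt c 90) (cond (Nat.blt c 86) (cond (Nat.blt c 80)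 (cond (Nat.beq c 75) [⟨78, -1, 1⟩] []) (cond (Nat.beq c 80) [⟨83, -1, 1⟩] [])) (cond (Nat.blt c 88) (cond (Nat.beq c 86) [⟨92, -1, 1⟩] []) (cond (Nat.beq c 88) [⟨94, 1, 1⟩] []))) (cond (Nat.blt c 102) (cond (Nat.blt c 97) (cond (Nat.beq c 90) [⟨95, 1, 1⟩] []) (cond (Nat.beq c 97) [⟨100, -1, 1⟩] [])) (cond (Nat.blt c 108) (cond (Nat.beq c 102) [⟨105, -1, 1⟩] []) (cond (Nat.beq c 108) [⟨111, -1, 1⟩] [])))))) (cond (Nat.blt c 177) (cond (Nat.blt c 138) (cond (Nat.blt c 121) (cond (Nat.blt c 119) (cond (Nat.blt c 118) (cond (Nat.beq c 114) [⟨117, -1, 1⟩] []) (cond (Nat.beq c 118) [⟨127, 1, 1⟩] [])) (cond (Nat.blt c 120) (cond (Nat.beq c 119) [⟨136, -1, 2⟩, ⟨0, 0, 1⟩, ⟨1, 0, 1⟩, ⟨2, 0, 1⟩, ⟨3, 0, 1⟩, ⟨4, 1, 1⟩, ⟨5, 1, 1⟩, ⟨6, 1, 1⟩, ⟨7, 0, 1⟩] []) (cond (Nat.beq c 120) [⟨129, 1, 1⟩] []))) (cond (Nat.blt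 c 126) (cond (Nat.blt c 123) (cond (Nat.beq c 121) [⟨132, 1, 1⟩] []) (cond (Nat.beq c 123) [⟨134, -1, 1⟩] [])) (cond (Nat.blt c 128) (cond (Nat.beq c 126) [⟨135, -1, 1⟩] []) (cond (Nat.beq c 128) [⟨137, -1, 1⟩] [])))) (cond (Nat.blt c 160) (cond (Nat.blt c 150) (cond (Nat.blt c 144) (cond (Nat.beq c 138) [⟨141, 1, 1⟩] []) (cond (Nat.beq c 144) [⟨147, 1, 1⟩] [])) (cond (Nat.blt c 155) (cond (Nat.beq c 150) [⟨153, 1, 1⟩] []) (cond (Nat.beq c 155) [⟨158, 1, 1⟩] []))) (cond (Nat.blt c 163) (cond (Nat.blt c 161) (cond (Nat.beq c 160) [⟨165, -1, 1⟩] []) (cond (Nat.beq c 161) [⟨167, -1, 1⟩] [])) (cond (Nat.blt c 172) (cond (Nat.beq c 163) [⟨169, 1, 1⟩] []) (cond (Nat.beq c 172) [⟨175, 1, 1⟩] []))))) (cond (Nat.blt c 204) (cond (Nat.blt c 192) (cond (Nat.blt c 183) (cond (Nat.blt c 182) (cond (Nat.beq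 c 177) [⟨180, 1, 1⟩] []) (cond (Nat.beq c 182) [⟨187, -1, 1⟩] [])) (cond (Nat.blt c 185) (cond (Nat.beq c 183) [⟨189, -1, 1⟩] []) (cond (Nat.beq c 185) [⟨191, 1, 1⟩] []))) (cond (Nat.blt c 195) (cond (Nat.blt c 193) (cond (Nat.beq c 192) [⟨197, -1, 1⟩] []) (cond (Nat.beq c 193) [⟨199, -1, 1⟩] [])) (cond (Nat.blt c 202) (cond (Nat.beq c 195) [⟨201, 1, 1⟩] []) (cond (Nat.beq c 202) [⟨208, 1, 1⟩] [])))) (cond (Nat.blt c 216) (cond (Nat.blt c 212) (cond (Nat.blt c 206) (cond (Nat.beq c 204) [⟨210, -1, 1⟩] []) (cond (Nat.beq c 206) [⟨211, -1, 1⟩] [])) (cond (Nat.blt c 214) (cond (Nat.beq c 212) [⟨218, 1, 1⟩] []) (cond (Nat.beq c 214) [⟨220, -1, 1⟩] []))) (cond (Nat.blt c 228) (cond (Nat.blt c 223) (cond (Nat.beq c 216) [⟨221, -1, 1⟩] []) (cond (Nat.beq c 223) [⟨226, 1, 1⟩] [])) (cond (Nat.blt c 235)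 (cond (Nat.beq c 228) [⟨231, 1, 1⟩] []) (cond (Nat.blt c 243) (cond (Nat.beq c 235) [⟨238, 1, 1⟩] []) (cond (Nat.beq c 243) [⟨246, 1, 1⟩] [])))))))

/-- Compiled columns of `x_129` for type E8. -/
def colsE8_129 (c : ℕ) : List CEnt :=
  cond (Nat.blt c 113) (cond (Nat.blt c 45) (cond (Nat.blt c 8) (cond (Nat.blt c 4) (cond (Nat.blt c 2) (cond (Nat.blt c 1) (cond (Nat.beq c 0) [⟨137, 0, 1⟩] []) (cond (Nat.beq c 1) [⟨137, 0, 1⟩] [])) (cond (Nat.blt c 3) (cond (Nat.beq c 2) [⟨137, 0, 1⟩] []) (cond (Nat.beq c 3) [⟨137, 1, 1⟩] []))) (cond (Nat.blt c 6) (cond (Nat.blt c 5) (cond (Nat.beq c 4) [⟨137, -1, 1⟩] []) (cond (Nat.beq c 5) [⟨137, 0, 1⟩] [])) (cond (Nat.blt c 7) (cond (Nat.beq c 6) [⟨137, 0, 1⟩] []) (cond (Nat.beq c 7) [⟨137, -1, 1⟩] [])))) (cond (Nat.blt c 34) (cond (Nat.blt c 24) (cond (Nat.blt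 c 17) (cond (Nat.beq c 8) [⟨12, -1, 1⟩] []) (cond (Nat.beq c 17) [⟨21, 1, 1⟩] [])) (cond (Nat.blt c 29) (cond (Nat.beq c 24) [⟨28, 1, 1⟩] []) (cond (Nat.beq c 29) [⟨33, 1, 1⟩] []))) (cond (Nat.blt c 36) (cond (Nat.blt c 35) (cond (Nat.beq c 34) [⟨40, -1, 1⟩] []) (cond (Nat.beq c 35) [⟨42, -1, 1⟩] [])) (cond (Nat.blt c 44) (cond (Nat.beq c 36) [⟨43, -1, 1⟩] []) (cond (Nat.beq c 44) [⟨50, -1, 1⟩] []))))) (cond (Nat.blt c 74) (cond (Nat.blt c 57) (cond (Nat.blt c 54) (cond (Nat.blt c 46) (cond (Nat.beq c 45) [⟨52, -1, 1⟩] []) (cond (Nat.beq c 46) [⟨53, -1, 1⟩] [])) (cond (Nat.blt c 55) (cond (Nat.beq c 54) [⟨61, 1, 1⟩] []) (cond (Nat.beq c 55) [⟨62, 1, 1⟩] []))) (cond (Nat.blt c 65) (cond (Nat.blt c 64) (cond (Nat.beq c 57) [⟨63, 1, 1⟩] []) (cond (Nat.beq c 64) [⟨71, 1, 1⟩] [])) (cond (Nat.blt c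 67) (cond (Nat.beq c 65) [⟨72, 1, 1⟩] []) (cond (Nat.beq c 67) [⟨73, 1, 1⟩] [])))) (cond (Nat.blt c 89) (cond (Nat.blt c 86) (cond (Nat.blt c 79) (cond (Nat.beq c 74) [⟨78, -1, 1⟩] []) (cond (Nat.beq c 79) [⟨83, -1, 1⟩] [])) (cond (Nat.blt c 87) (cond (Nat.beq c 86) [⟨93, 1, 1⟩] []) (cond (Nat.beq c 87) [⟨94, 1, 1⟩] []))) (cond (Nat.blt c 101) (cond (Nat.blt c 96) (cond (Nat.beq c 89) [⟨95, 1, 1⟩] []) (cond (Nat.beq c 96) [⟨100, -1, 1⟩] [])) (cond (Nat.blt c 107) (cond (Nat.beq c 101) [⟨105, -1, 1⟩] []) (cond (Nat.beq c 107) [⟨111, -1, 1⟩] [])))))) (cond (Nat.blt c 177) (cond (Nat.blt c 138) (cond (Nat.blt c 121) (cond (Nat.blt c 119) (cond (Nat.blt c 118) (cond (Nat.beq c 113) [⟨117, -1, 1⟩] []) (cond (Nat.beq c 118) [⟨137, -1, 2⟩, ⟨0, 0, 1⟩, ⟨1, 0, 1⟩, ⟨2, 0, 1⟩, ⟨3, 0, 1⟩, ⟨4, 1, 1⟩, ⟨5, 1,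 1⟩, ⟨6, 1, 1⟩, ⟨7, 1, 1⟩] [])) (cond (Nat.blt c 120) (cond (Nat.beq c 119) [⟨128, 1, 1⟩] []) (cond (Nat.beq c 120) [⟨130, 1, 1⟩] []))) (cond (Nat.blt c 125) (cond (Nat.blt c 122) (cond (Nat.beq c 121) [⟨133, 1, 1⟩] []) (cond (Nat.beq c 122) [⟨134, -1, 1⟩] [])) (cond (Nat.blt c 127) (cond (Nat.beq c 125) [⟨135, -1, 1⟩] []) (cond (Nat.beq c 127) [⟨136, -1, 1⟩] [])))) (cond (Nat.blt c 160) (cond (Nat.blt c 150) (cond (Nat.blt c 144) (cond (Nat.beq c 138) [⟨142, 1, 1⟩] []) (cond (Nat.beq c 144) [⟨148, 1, 1⟩] [])) (cond (Nat.blt c 155) (cond (Nat.beq c 150) [⟨154, 1, 1⟩] []) (cond (Nat.beq c 155) [⟨159, 1, 1⟩] []))) (cond (Nat.blt c 162) (cond (Nat.blt c 161) (cond (Nat.beq c 160) [⟨166, -1, 1⟩] []) (cond (Nat.beq c 161) [⟨168, -1, 1⟩] [])) (cond (Nat.blt c 172) (cond (Nat.beq c 162) [⟨169, -1, 1⟩]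 []) (cond (Nat.beq c 172) [⟨176, 1, 1⟩] []))))) (cond (Nat.blt c 203) (cond (Nat.blt c 192) (cond (Nat.blt c 183) (cond (Nat.blt c 182) (cond (Nat.beq c 177) [⟨181, 1, 1⟩] []) (cond (Nat.beq c 182) [⟨188, -1, 1⟩] [])) (cond (Nat.blt c 184) (cond (Nat.beq c 183) [⟨190, -1, 1⟩] []) (cond (Nat.beq c 184) [⟨191, -1, 1⟩] []))) (cond (Nat.blt c 194) (cond (Nat.blt c 193) (cond (Nat.beq c 192) [⟨198, -1, 1⟩] []) (cond (Nat.beq c 193) [⟨200, -1, 1⟩] [])) (cond (Nat.blt c 202) (cond (Nat.beq c 194) [⟨201, -1, 1⟩] []) (cond (Nat.beq c 202) [⟨209, 1, 1⟩] [])))) (cond (Nat.blt c 215) (cond (Nat.blt c 212) (cond (Nat.blt c 205) (cond (Nat.beq c 203) [⟨210, 1, 1⟩] []) (cond (Nat.beq c 205) [⟨211, 1, 1⟩] [])) (cond (Nat.blt c 213) (cond (Nat.beq c 212) [⟨219, 1, 1⟩] []) (cond (Nat.beq c 213) [⟨220, 1, 1⟩] [])))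 (cond (Nat.blt c 227) (cond (Nat.blt c 222) (cond (Nat.beq c 215) [⟨221, 1, 1⟩] []) (cond (Nat.beq c 222) [⟨226, -1, 1⟩] [])) (cond (Nat.blt c 234) (cond (Nat.beq c 227) [⟨231, -1, 1⟩] []) (cond (Nat.blt c 243) (cond (Nat.beq c 234) [⟨238, -1, 1⟩] []) (cond (Nat.beq c 243) [⟨247, 1, 1⟩] [])))))))

/-- Compiled columns of `x_130` for type E8. -/
def colsE8_130 (c : ℕ) : List CEnt :=
  cond (Nat.blt c 113) (cond (Nat.blt c 49) (cond (Nat.blt c 12) (cond (Nat.blt c 4) (cond (Nat.blt c 2) (cond (Nat.blt c 1) (cond (Nat.beq c 0) [⟨138, 0, 1⟩] []) (cond (Nat.beq c 1) [⟨138, 1, 1⟩] [])) (cond (Nat.blt c 3) (cond (Nat.beq c 2) [⟨138, 1, 1⟩] []) (cond (Nat.beq c 3) [⟨138, -2, 1⟩] []))) (cond (Nat.blt c 6) (cond (Nat.blt c 5) (cond (Nat.beq c 4) [⟨138, 1, 1⟩] []) (cond (Nat.beq c 5) [⟨138, 0, 1⟩] [])) (cond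 (Nat.blt c 7) (cond (Nat.beq c 6) [⟨138, 0, 1⟩] []) (cond (Nat.beq c 7) [⟨138, 0, 1⟩] [])))) (cond (Nat.blt c 31) (cond (Nat.blt c 23) (cond (Nat.blt c 16) (cond (Nat.beq c 12) [⟨13, -1, 1⟩] []) (cond (Nat.beq c 16) [⟨17, -1, 1⟩] [])) (cond (Nat.blt c 30) (cond (Nat.beq c 23) [⟨24, -1, 1⟩] []) (cond (Nat.beq c 30) [⟨34, -1, 1⟩] []))) (cond (Nat.blt c 33) (cond (Nat.blt c 32) (cond (Nat.beq c 31) [⟨35, -1, 1⟩] []) (cond (Nat.beq c 32) [⟨36, -1, 1⟩] [])) (cond (Nat.blt c 48) (cond (Nat.beq c 33) [⟨37, -1, 1⟩] []) (cond (Nat.beq c 48) [⟨54, -1, 1⟩] []))))) (cond (Nat.blt c 73) (cond (Nat.blt c 53) (cond (Nat.blt c 51) (cond (Nat.blt c 50) (cond (Nat.beq c 49) [⟨55, -1, 1⟩] []) (cond (Nat.beq c 50) [⟨56, -1, 1⟩] [])) (cond (Nat.blt c 52) (cond (Nat.beq c 51) [⟨57, -1, 1⟩] []) (cond (Nat.beq c 52)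 [⟨58, -1, 1⟩] []))) (cond (Nat.blt c 71) (cond (Nat.blt c 70) (cond (Nat.beq c 53) [⟨59, -1, 1⟩] []) (cond (Nat.beq c 70) [⟨74, -1, 1⟩] [])) (cond (Nat.blt c 72) (cond (Nat.beq c 71) [⟨75, -1, 1⟩] []) (cond (Nat.beq c 72) [⟨76, -1, 1⟩] [])))) (cond (Nat.blt c 94) (cond (Nat.blt c 92) (cond (Nat.blt c 83) (cond (Nat.beq c 73) [⟨77, -1, 1⟩] []) (cond (Nat.beq c 83) [⟨84, -1, 1⟩] [])) (cond (Nat.blt c 93) (cond (Nat.beq c 92) [⟨96, -1, 1⟩] []) (cond (Nat.beq c 93) [⟨97, -1, 1⟩] []))) (cond (Nat.blt c 105) (cond (Nat.blt c 95) (cond (Nat.beq c 94) [⟨98, -1, 1⟩] []) (cond (Nat.beq c 95) [⟨99, -1, 1⟩] [])) (cond (Nat.blt c 111) (cond (Nat.beq c 105) [⟨106, -1, 1⟩] []) (cond (Nat.beq c 111) [⟨112, -1, 1⟩] [])))))) (cond (Nat.blt c 178) (cond (Nat.blt c 137) (cond (Nat.blt c 117) (cond (Nat.blt c 115)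 (cond (Nat.blt c 114) (cond (Nat.beq c 113) [⟨118, 1, 1⟩] []) (cond (Nat.beq c 114) [⟨119, 1, 1⟩] [])) (cond (Nat.blt c 116) (cond (Nat.beq c 115) [⟨120, 1, 1⟩] []) (cond (Nat.beq c 116) [⟨121, 1, 1⟩] []))) (cond (Nat.blt c 135) (cond (Nat.blt c 134) (cond (Nat.beq c 117) [⟨138, -1, 2⟩, ⟨0, 0, 1⟩, ⟨1, 0, 1⟩, ⟨2, 0, 1⟩, ⟨3, 1, 1⟩, ⟨4, 0, 1⟩, ⟨5, 0, 1⟩, ⟨6, 0, 1⟩, ⟨7, 0, 1⟩] []) (cond (Nat.beq c 134) [⟨139, -1, 1⟩] [])) (cond (Nat.blt c 136) (cond (Nat.beq c 135) [⟨140, -1, 1⟩] []) (cond (Nat.beq c 136) [⟨141, -1, 1⟩] [])))) (cond (Nat.blt c 157) (cond (Nat.blt c 149) (cond (Nat.blt c 143) (cond (Nat.beq c 137) [⟨142, -1, 1⟩] []) (cond (Nat.beq c 143) [⟨144, 1, 1⟩] [])) (cond (Nat.blt c 156) (cond (Nat.beq c 149) [⟨150, 1, 1⟩] []) (cond (Nat.beq c 156) [⟨160, 1, 1⟩] []))) (cond (Nat.blt c 159) (cond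 (Nat.blt c 158) (cond (Nat.beq c 157) [⟨161, 1, 1⟩] []) (cond (Nat.beq c 158) [⟨162, 1, 1⟩] [])) (cond (Nat.blt c 171) (cond (Nat.beq c 159) [⟨163, 1, 1⟩] []) (cond (Nat.beq c 171) [⟨172, 1, 1⟩] []))))) (cond (Nat.blt c 200) (cond (Nat.blt c 196) (cond (Nat.blt c 180) (cond (Nat.blt c 179) (cond (Nat.beq c 178) [⟨182, 1, 1⟩] []) (cond (Nat.beq c 179) [⟨183, 1, 1⟩] [])) (cond (Nat.blt c 181) (cond (Nat.beq c 180) [⟨184, 1, 1⟩] []) (cond (Nat.beq c 181) [⟨185, 1, 1⟩] []))) (cond (Nat.blt c 198) (cond (Nat.blt c 197) (cond (Nat.beq c 196) [⟨202, 1, 1⟩] []) (cond (Nat.beq c 197) [⟨203, 1, 1⟩] [])) (cond (Nat.blt c 199) (cond (Nat.beq c 198) [⟨204, 1, 1⟩] []) (cond (Nat.beq c 199) [⟨205, 1, 1⟩] [])))) (cond (Nat.blt c 220) (cond (Nat.blt c 218) (cond (Nat.blt c 201) (cond (Nat.beq c 200) [⟨206, 1,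 1⟩] []) (cond (Nat.beq c 201) [⟨207, 1, 1⟩] [])) (cond (Nat.blt c 219) (cond (Nat.beq c 218) [⟨222, 1, 1⟩] []) (cond (Nat.beq c 219) [⟨223, 1, 1⟩] []))) (cond (Nat.blt c 231) (cond (Nat.blt c 221) (cond (Nat.beq c 220) [⟨224, 1, 1⟩] []) (cond (Nat.beq c 221) [⟨225, 1, 1⟩] [])) (cond (Nat.blt c 238) (cond (Nat.beq c 231) [⟨232, 1, 1⟩] []) (cond (Nat.blt c 242) (cond (Nat.beq c 238) [⟨239, 1, 1⟩] []) (cond (Nat.beq c 242) [⟨243, 1, 1⟩] [])))))))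

/-- Compiled columns of `x_131` for type E8. -/
def colsE8_131 (c : ℕ) : List CEnt :=
  cond (Nat.blt c 113) (cond (Nat.blt c 46) (cond (Nat.blt c 11) (cond (Nat.blt c 4) (cond (Nat.blt c 2) (cond (Nat.blt c 1) (cond (Nat.beq c 0) [⟨139, 0, 1⟩] []) (cond (Nat.beq c 1) [⟨139, 1, 1⟩] [])) (cond (Nat.blt c 3) (cond (Nat.beq c 2) [⟨139, 1, 1⟩] []) (cond (Nat.beq c 3) [⟨139, -1, 1⟩] []))) (cond (Nat.blt c 6) (cond (Nat.blt c 5) (cond (Nat.beq c 4) [⟨139, -1, 1⟩] []) (cond (Nat.beq c 5) [⟨139, 1, 1⟩] [])) (cond (Nat.blt c 7) (cond (Nat.beq c 6) [⟨139, 0, 1⟩] []) (cond (Nat.beq c 7) [⟨139, 0, 1⟩] [])))) (cond (Nat.blt c 31) (cond (Nat.blt c 23) (cond (Nat.blt c 16) (cond (Nat.beq c 11) [⟨13, -1, 1⟩] []) (cond (Nat.beq c 16) [⟨18, 1, 1⟩] [])) (cond (Nat.blt c 29) (cond (Nat.beq c 23) [⟨25, 1, 1⟩] [])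 (cond (Nat.beq c 29) [⟨34, -1, 1⟩] []))) (cond (Nat.blt c 33) (cond (Nat.blt c 32) (cond (Nat.beq c 31) [⟨38, 1, 1⟩] []) (cond (Nat.beq c 32) [⟨39, 1, 1⟩] [])) (cond (Nat.blt c 45) (cond (Nat.beq c 33) [⟨40, 1, 1⟩] []) (cond (Nat.beq c 45) [⟨54, -1, 1⟩] []))))) (cond (Nat.blt c 73) (cond (Nat.blt c 53) (cond (Nat.blt c 51) (cond (Nat.blt c 47) (cond (Nat.beq c 46) [⟨55, -1, 1⟩] []) (cond (Nat.beq c 47) [⟨56, -1, 1⟩] [])) (cond (Nat.blt c 52) (cond (Nat.beq c 51) [⟨60, 1, 1⟩] []) (cond (Nat.beq c 52) [⟨61, 1, 1⟩] []))) (cond (Nat.blt c 68) (cond (Nat.blt c 67) (cond (Nat.beq c 53) [⟨62, 1, 1⟩] []) (cond (Nat.beq c 67) [⟨74, -1, 1⟩] [])) (cond (Nat.blt c 69) (cond (Nat.beq c 68) [⟨75, -1, 1⟩] []) (cond (Nat.beq c 69) [⟨76, -1, 1⟩] [])))) (cond (Nat.blt c 91) (cond (Nat.blt c 89) (cond (Nat.blt c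 82) (cond (Nat.beq c 73) [⟨78, 1, 1⟩] []) (cond (Nat.beq c 82) [⟨84, -1, 1⟩] [])) (cond (Nat.blt c 90) (cond (Nat.beq c 89) [⟨96, -1, 1⟩] []) (cond (Nat.beq c 90) [⟨97, -1, 1⟩] []))) (cond (Nat.blt c 104) (cond (Nat.blt c 95) (cond (Nat.beq c 91) [⟨98, -1, 1⟩] []) (cond (Nat.beq c 95) [⟨100, 1, 1⟩] [])) (cond (Nat.blt c 110) (cond (Nat.beq c 104) [⟨106, -1, 1⟩] []) (cond (Nat.beq c 110) [⟨112, -1, 1⟩] [])))))) (cond (Nat.blt c 177) (cond (Nat.blt c 133) (cond (Nat.blt c 117) (cond (Nat.blt c 115) (cond (Nat.blt c 114) (cond (Nat.beq c 113) [⟨122, 1, 1⟩] []) (cond (Nat.beq c 114) [⟨123, 1, 1⟩] [])) (cond (Nat.blt c 116) (cond (Nat.beq c 115) [⟨124, 1, 1⟩] []) (cond (Nat.beq c 116) [⟨139, -1, 2⟩, ⟨0, 0, 1⟩, ⟨1, 0, 1⟩, ⟨2, 0, 1⟩, ⟨3, 1, 1⟩, ⟨4, 1, 1⟩, ⟨5, 0, 1⟩, ⟨6, 0, 1⟩, ⟨7, 0, 1⟩] []))) (cond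 (Nat.blt c 131) (cond (Nat.blt c 121) (cond (Nat.beq c 117) [⟨134, 1, 1⟩] []) (cond (Nat.beq c 121) [⟨138, -1, 1⟩] [])) (cond (Nat.blt c 132) (cond (Nat.beq c 131) [⟨140, -1, 1⟩] []) (cond (Nat.beq c 132) [⟨141, -1, 1⟩] [])))) (cond (Nat.blt c 157) (cond (Nat.blt c 149) (cond (Nat.blt c 143) (cond (Nat.beq c 133) [⟨142, -1, 1⟩] []) (cond (Nat.beq c 143) [⟨145, 1, 1⟩] [])) (cond (Nat.blt c 155) (cond (Nat.beq c 149) [⟨151, 1, 1⟩] []) (cond (Nat.beq c 155) [⟨160, -1, 1⟩] []))) (cond (Nat.blt c 159) (cond (Nat.blt c 158) (cond (Nat.beq c 157) [⟨164, 1, 1⟩] []) (cond (Nat.beq c 158) [⟨165, 1, 1⟩] [])) (cond (Nat.blt c 171) (cond (Nat.beq c 159) [⟨166, 1, 1⟩] []) (cond (Nat.beq c 171) [⟨173, 1, 1⟩] []))))) (cond (Nat.blt c 200) (cond (Nat.blt c 193) (cond (Nat.blt c 180) (cond (Nat.blt c 179) (cond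 (Nat.beq c 177) [⟨182, -1, 1⟩] []) (cond (Nat.beq c 179) [⟨186, 1, 1⟩] [])) (cond (Nat.blt c 181) (cond (Nat.beq c 180) [⟨187, 1, 1⟩] []) (cond (Nat.beq c 181) [⟨188, 1, 1⟩] []))) (cond (Nat.blt c 195) (cond (Nat.blt c 194) (cond (Nat.beq c 193) [⟨202, -1, 1⟩] []) (cond (Nat.beq c 194) [⟨203, -1, 1⟩] [])) (cond (Nat.blt c 199) (cond (Nat.beq c 195) [⟨204, -1, 1⟩] []) (cond (Nat.beq c 199) [⟨208, 1, 1⟩] [])))) (cond (Nat.blt c 217) (cond (Nat.blt c 215) (cond (Nat.blt c 201) (cond (Nat.beq c 200) [⟨209, 1, 1⟩] []) (cond (Nat.beq c 201) [⟨210, 1, 1⟩] [])) (cond (Nat.blt c 216) (cond (Nat.beq c 215) [⟨222, -1, 1⟩] []) (cond (Nat.beq c 216) [⟨223, -1, 1⟩] []))) (cond (Nat.blt c 230) (cond (Nat.blt c 221) (cond (Nat.beq c 217) [⟨224, -1, 1⟩] []) (cond (Nat.beq c 221) [⟨226, 1, 1⟩] [])) (cond (Nat.blt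 c 237) (cond (Nat.beq c 230) [⟨232, -1, 1⟩] []) (cond (Nat.blt c 242) (cond (Nat.beq c 237) [⟨239, -1, 1⟩] []) (cond (Nat.beq c 242) [⟨244, 1, 1⟩] [])))))))

/-- Compiled columns of `x_132` for type E8. -/
def colsE8_132 (c : ℕ) : List CEnt :=
  cond (Nat.blt c 113) (cond (Nat.blt c 46) (cond (Nat.blt c 10) (cond (Nat.blt c 4) (cond (Nat.blt c 2) (cond (Nat.blt c 1) (cond (Nat.beq c 0) [⟨140, 0, 1⟩] []) (cond (Nat.beq c 1) [⟨140, 1, 1⟩] [])) (cond (Nat.blt c 3) (cond (Nat.beq c 2) [⟨140, 1, 1⟩] []) (cond (Nat.beq c 3) [⟨140, -1, 1⟩] []))) (cond (Nat.blt c 6) (cond (Nat.blt c 5) (cond (Nat.beq c 4) [⟨140, 0, 1⟩] []) (cond (Nat.beq c 5) [⟨140, -1, 1⟩] [])) (cond (Nat.blt c 7) (cond (Nat.beq c 6) [⟨140, 1, 1⟩] []) (cond (Nat.beq c 7) [⟨140, 0, 1⟩] [])))) (cond (Nat.blt c 30) (cond (Nat.blt c 23)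 (cond (Nat.blt c 16) (cond (Nat.beq c 10) [⟨13, -1, 1⟩] []) (cond (Nat.beq c 16) [⟨19, -1, 1⟩] [])) (cond (Nat.blt c 29) (cond (Nat.beq c 23) [⟨26, -1, 1⟩] []) (cond (Nat.beq c 29) [⟨35, 1, 1⟩] []))) (cond (Nat.blt c 33) (cond (Nat.blt c 32) (cond (Nat.beq c 30) [⟨38, 1, 1⟩] []) (cond (Nat.beq c 32) [⟨41, -1, 1⟩] [])) (cond (Nat.blt c 44) (cond (Nat.beq c 33) [⟨42, -1, 1⟩] []) (cond (Nat.beq c 44) [⟨54, -1, 1⟩] []))))) (cond (Nat.blt c 72) (cond (Nat.blt c 53) (cond (Nat.blt c 49) (cond (Nat.blt c 47) (cond (Nat.beq c 46) [⟨57, 1, 1⟩] []) (cond (Nat.beq c 47) [⟨58, 1, 1⟩] [])) (cond (Nat.blt c 50) (cond (Nat.beq c 49) [⟨60, 1, 1⟩] []) (cond (Nat.beq c 50) [⟨61, 1, 1⟩] []))) (cond (Nat.blt c 66) (cond (Nat.blt c 65) (cond (Nat.beq c 53) [⟨63, -1, 1⟩] []) (cond (Nat.beq c 65) [⟨74, -1, 1⟩] []))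 (cond (Nat.blt c 69) (cond (Nat.beq c 66) [⟨75, -1, 1⟩] []) (cond (Nat.beq c 69) [⟨77, 1, 1⟩] [])))) (cond (Nat.blt c 91) (cond (Nat.blt c 87) (cond (Nat.blt c 81) (cond (Nat.beq c 72) [⟨78, 1, 1⟩] []) (cond (Nat.beq c 81) [⟨84, -1, 1⟩] [])) (cond (Nat.blt c 88) (cond (Nat.beq c 87) [⟨96, -1, 1⟩] []) (cond (Nat.beq c 88) [⟨97, -1, 1⟩] []))) (cond (Nat.blt c 103) (cond (Nat.blt c 94) (cond (Nat.beq c 91) [⟨99, 1, 1⟩] []) (cond (Nat.beq c 94) [⟨100, 1, 1⟩] [])) (cond (Nat.blt c 109) (cond (Nat.beq c 103) [⟨106, -1, 1⟩] []) (cond (Nat.beq c 109) [⟨112, -1, 1⟩] [])))))) (cond (Nat.blt c 177) (cond (Nat.blt c 130) (cond (Nat.blt c 117) (cond (Nat.blt c 115) (cond (Nat.blt c 114) (cond (Nat.beq c 113) [⟨125, 1, 1⟩] []) (cond (Nat.beq c 114) [⟨126, 1, 1⟩] [])) (cond (Nat.blt c 116) (cond (Nat.beq c 115)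 [⟨140, -1, 2⟩, ⟨0, 0, 1⟩, ⟨1, 0, 1⟩, ⟨2, 0, 1⟩, ⟨3, 1, 1⟩, ⟨4, 1, 1⟩, ⟨5, 1, 1⟩, ⟨6, 0, 1⟩, ⟨7, 0, 1⟩] []) (cond (Nat.beq c 116) [⟨131, 1, 1⟩] []))) (cond (Nat.blt c 124) (cond (Nat.blt c 120) (cond (Nat.beq c 117) [⟨135, 1, 1⟩] []) (cond (Nat.beq c 120) [⟨138, -1, 1⟩] [])) (cond (Nat.blt c 129) (cond (Nat.beq c 124) [⟨139, -1, 1⟩] []) (cond (Nat.beq c 129) [⟨141, -1, 1⟩] [])))) (cond (Nat.blt c 156) (cond (Nat.blt c 149) (cond (Nat.blt c 143) (cond (Nat.beq c 130) [⟨142, -1, 1⟩] []) (cond (Nat.beq c 143) [⟨146, 1, 1⟩] [])) (cond (Nat.blt c 155) (cond (Nat.beq c 149) [⟨152, 1, 1⟩] []) (cond (Nat.beq c 155) [⟨161, -1, 1⟩] []))) (cond (Nat.blt c 159) (cond (Nat.blt c 158) (cond (Nat.beq c 156) [⟨164, -1, 1⟩] []) (cond (Nat.beq c 158) [⟨167, 1, 1⟩] [])) (cond (Nat.blt c 171) (cond (Nat.beq c 159)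 [⟨168, 1, 1⟩] []) (cond (Nat.beq c 171) [⟨174, 1, 1⟩] []))))) (cond (Nat.blt c 198) (cond (Nat.blt c 192) (cond (Nat.blt c 180) (cond (Nat.blt c 178) (cond (Nat.beq c 177) [⟨183, -1, 1⟩] []) (cond (Nat.beq c 178) [⟨186, -1, 1⟩] [])) (cond (Nat.blt c 181) (cond (Nat.beq c 180) [⟨189, 1, 1⟩] []) (cond (Nat.beq c 181) [⟨190, 1, 1⟩] []))) (cond (Nat.blt c 195) (cond (Nat.blt c 194) (cond (Nat.beq c 192) [⟨202, 1, 1⟩] []) (cond (Nat.beq c 194) [⟨205, -1, 1⟩] [])) (cond (Nat.blt c 197) (cond (Nat.beq c 195) [⟨206, -1, 1⟩] []) (cond (Nat.beq c 197) [⟨208, -1, 1⟩] [])))) (cond (Nat.blt c 217) (cond (Nat.blt c 213) (cond (Nat.blt c 201) (cond (Nat.beq c 198) [⟨209, -1, 1⟩] []) (cond (Nat.beq c 201) [⟨211, 1, 1⟩] [])) (cond (Nat.blt c 214) (cond (Nat.beq c 213) [⟨222, 1, 1⟩] []) (cond (Nat.beq c 214) [⟨223,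 1, 1⟩] []))) (cond (Nat.blt c 229) (cond (Nat.blt c 220) (cond (Nat.beq c 217) [⟨225, -1, 1⟩] []) (cond (Nat.beq c 220) [⟨226, -1, 1⟩] [])) (cond (Nat.blt c 236) (cond (Nat.beq c 229) [⟨232, 1, 1⟩] []) (cond (Nat.blt c 242) (cond (Nat.beq c 236) [⟨239, 1, 1⟩] []) (cond (Nat.beq c 242) [⟨245, 1, 1⟩] [])))))))

/-- Compiled columns of `x_133` for type E8. -/
def colsE8_133 (c : ℕ) : List CEnt :=
  cond (Nat.blt c 113) (cond (Nat.blt c 45) (cond (Nat.blt c 9) (cond (Nat.blt c 4) (cond (Nat.blt c 2) (cond (Nat.blt c 1) (cond (Nat.beq c 0) [⟨141, 0, 1⟩] []) (cond (Nat.beq c 1) [⟨141, 1, 1⟩] [])) (cond (Nat.blt c 3) (cond (Nat.beq c 2) [⟨141, 1, 1⟩] []) (cond (Nat.beq c 3) [⟨141, -1, 1⟩] []))) (cond (Nat.blt c 6) (cond (Nat.blt c 5) (cond (Nat.beq c 4) [⟨141, 0, 1⟩] []) (cond (Nat.beq c 5) [⟨141, 0,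 1⟩] [])) (cond (Nat.blt c 7) (cond (Nat.beq c 6) [⟨141, -1, 1⟩] []) (cond (Nat.beq c 7) [⟨141, 1, 1⟩] [])))) (cond (Nat.blt c 30) (cond (Nat.blt c 23) (cond (Nat.blt c 16) (cond (Nat.beq c 9) [⟨13, -1, 1⟩] []) (cond (Nat.beq c 16) [⟨20, 1, 1⟩] [])) (cond (Nat.blt c 29) (cond (Nat.beq c 23) [⟨27, 1, 1⟩] []) (cond (Nat.beq c 29) [⟨36, -1, 1⟩] []))) (cond (Nat.blt c 33) (cond (Nat.blt c 31) (cond (Nat.beq c 30) [⟨39, -1, 1⟩] []) (cond (Nat.beq c 31) [⟨41, -1, 1⟩] [])) (cond (Nat.blt c 44) (cond (Nat.beq c 33) [⟨43, 1, 1⟩] []) (cond (Nat.beq c 44) [⟨55, 1, 1⟩] []))))) (cond (Nat.blt c 71) (cond (Nat.blt c 52) (cond (Nat.blt c 48) (cond (Nat.blt c 47) (cond (Nat.beq c 45) [⟨57, 1, 1⟩] []) (cond (Nat.beq c 47) [⟨59, -1, 1⟩] [])) (cond (Nat.blt c 50) (cond (Nat.beq c 48) [⟨60, 1, 1⟩] []) (cond (Nat.beq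 c 50) [⟨62, -1, 1⟩] []))) (cond (Nat.blt c 66) (cond (Nat.blt c 64) (cond (Nat.beq c 52) [⟨63, -1, 1⟩] []) (cond (Nat.beq c 64) [⟨74, -1, 1⟩] [])) (cond (Nat.blt c 68) (cond (Nat.beq c 66) [⟨76, 1, 1⟩] []) (cond (Nat.beq c 68) [⟨77, 1, 1⟩] [])))) (cond (Nat.blt c 90) (cond (Nat.blt c 86) (cond (Nat.blt c 80) (cond (Nat.beq c 71) [⟨78, 1, 1⟩] []) (cond (Nat.beq c 80) [⟨84, -1, 1⟩] [])) (cond (Nat.blt c 88) (cond (Nat.beq c 86) [⟨96, -1, 1⟩] []) (cond (Nat.beq c 88) [⟨98, 1, 1⟩] []))) (cond (Nat.blt c 102) (cond (Nat.blt c 93) (cond (Nat.beq c 90) [⟨99, 1, 1⟩] []) (cond (Nat.beq c 93) [⟨100, 1, 1⟩] [])) (cond (Nat.blt c 108) (cond (Nat.beq c 102) [⟨106, -1, 1⟩] []) (cond (Nat.beq c 108) [⟨112, -1, 1⟩] [])))))) (cond (Nat.blt c 177) (cond (Nat.blt c 128) (cond (Nat.blt c 117) (cond (Nat.blt c 115)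 (cond (Nat.blt c 114) (cond (Nat.beq c 113) [⟨127, 1, 1⟩] []) (cond (Nat.beq c 114) [⟨141, -1, 2⟩, ⟨0, 0, 1⟩, ⟨1, 0, 1⟩, ⟨2, 0, 1⟩, ⟨3, 1, 1⟩, ⟨4, 1, 1⟩, ⟨5, 1, 1⟩, ⟨6, 1, 1⟩, ⟨7, 0, 1⟩] [])) (cond (Nat.blt c 116) (cond (Nat.beq c 115) [⟨129, 1, 1⟩] []) (cond (Nat.beq c 116) [⟨132, 1, 1⟩] []))) (cond (Nat.blt c 123) (cond (Nat.blt c 119) (cond (Nat.beq c 117) [⟨136, 1, 1⟩] []) (cond (Nat.beq c 119) [⟨138, -1, 1⟩] [])) (cond (Nat.blt c 126) (cond (Nat.beq c 123) [⟨139, -1, 1⟩] []) (cond (Nat.beq c 126) [⟨140, -1, 1⟩] [])))) (cond (Nat.blt c 156) (cond (Nat.blt c 149) (cond (Nat.blt c 143) (cond (Nat.beq c 128) [⟨142, -1, 1⟩] []) (cond (Nat.beq c 143) [⟨147, 1, 1⟩] [])) (cond (Nat.blt c 155) (cond (Nat.beq c 149) [⟨153, 1, 1⟩] []) (cond (Nat.beq c 155) [⟨162, -1, 1⟩] []))) (cond (Nat.blt c 159)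 (cond (Nat.blt c 157) (cond (Nat.beq c 156) [⟨165, -1, 1⟩] []) (cond (Nat.beq c 157) [⟨167, -1, 1⟩] [])) (cond (Nat.blt c 171) (cond (Nat.beq c 159) [⟨169, 1, 1⟩] []) (cond (Nat.beq c 171) [⟨175, 1, 1⟩] []))))) (cond (Nat.blt c 198) (cond (Nat.blt c 192) (cond (Nat.blt c 179) (cond (Nat.blt c 178) (cond (Nat.beq c 177) [⟨184, -1, 1⟩] []) (cond (Nat.beq c 178) [⟨187, -1, 1⟩] [])) (cond (Nat.blt c 181) (cond (Nat.beq c 179) [⟨189, -1, 1⟩] []) (cond (Nat.beq c 181) [⟨191, 1, 1⟩] []))) (cond (Nat.blt c 195) (cond (Nat.blt c 193) (cond (Nat.beq c 192) [⟨203, 1, 1⟩] []) (cond (Nat.beq c 193) [⟨205, 1, 1⟩] [])) (cond (Nat.blt c 196) (cond (Nat.beq c 195) [⟨207, -1, 1⟩] []) (cond (Nat.beq c 196) [⟨208, 1, 1⟩] [])))) (cond (Nat.blt c 216) (cond (Nat.blt c 212) (cond (Nat.blt c 200) (cond (Nat.beq c 198)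 [⟨210, -1, 1⟩] []) (cond (Nat.beq c 200) [⟨211, -1, 1⟩] [])) (cond (Nat.blt c 214) (cond (Nat.beq c 212) [⟨222, -1, 1⟩] []) (cond (Nat.beq c 214) [⟨224, 1, 1⟩] []))) (cond (Nat.blt c 228) (cond (Nat.blt c 219) (cond (Nat.beq c 216) [⟨225, 1, 1⟩] []) (cond (Nat.beq c 219) [⟨226, 1, 1⟩] [])) (cond (Nat.blt c 235) (cond (Nat.beq c 228) [⟨232, -1, 1⟩] []) (cond (Nat.blt c 242) (cond (Nat.beq c 235) [⟨239, -1, 1⟩] []) (cond (Nat.beq c 242) [⟨246, 1, 1⟩] [])))))))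

/-- Compiled columns of `x_134` for type E8. -/
def colsE8_134 (c : ℕ) : List CEnt :=
  cond (Nat.blt c 113) (cond (Nat.blt c 45) (cond (Nat.blt c 8) (cond (Nat.blt c 4) (cond (Nat.blt c 2) (cond (Nat.blt c 1) (cond (Nat.beq c 0) [⟨142, 0, 1⟩] []) (cond (Nat.beq c 1) [⟨142, 1, 1⟩] [])) (cond (Nat.blt c 3) (cond (Nat.beq c 2) [⟨142, 1, 1⟩] []) (cond (Nat.beq c 3) [⟨142, -1, 1⟩] []))) (cond (Nat.blt c 6) (cond (Nat.blt c 5) (cond (Nat.beq c 4) [⟨142, 0, 1⟩] []) (cond (Nat.beq c 5) [⟨142, 0, 1⟩] [])) (cond (Nat.blt c 7) (cond (Nat.beq c 6) [⟨142, 0, 1⟩] []) (cond (Nat.beq c 7) [⟨142, -1, 1⟩] [])))) (cond (Nat.blt c 30) (cond (Nat.blt c 23) (cond (Nat.blt c 16) (cond (Nat.beq c 8) [⟨13, -1, 1⟩] []) (cond (Nat.beq c 16) [⟨21, -1, 1⟩] [])) (cond (Nat.blt c 29) (cond (Nat.beq c 23) [⟨28, -1, 1⟩] [])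 (cond (Nat.beq c 29) [⟨37, 1, 1⟩] []))) (cond (Nat.blt c 32) (cond (Nat.blt c 31) (cond (Nat.beq c 30) [⟨40, 1, 1⟩] []) (cond (Nat.beq c 31) [⟨42, 1, 1⟩] [])) (cond (Nat.blt c 44) (cond (Nat.beq c 32) [⟨43, 1, 1⟩] []) (cond (Nat.beq c 44) [⟨56, -1, 1⟩] []))))) (cond (Nat.blt c 70) (cond (Nat.blt c 51) (cond (Nat.blt c 48) (cond (Nat.blt c 46) (cond (Nat.beq c 45) [⟨58, -1, 1⟩] []) (cond (Nat.beq c 46) [⟨59, -1, 1⟩] [])) (cond (Nat.blt c 49) (cond (Nat.beq c 48) [⟨61, -1, 1⟩] []) (cond (Nat.beq c 49) [⟨62, -1, 1⟩] []))) (cond (Nat.blt c 65) (cond (Nat.blt c 64) (cond (Nat.beq c 51) [⟨63, -1, 1⟩] []) (cond (Nat.beq c 64) [⟨75, 1, 1⟩] [])) (cond (Nat.blt c 67) (cond (Nat.beq c 65) [⟨76, 1, 1⟩] []) (cond (Nat.beq c 67) [⟨77, 1, 1⟩] [])))) (cond (Nat.blt c 89) (cond (Nat.blt c 86) (cond (Nat.blt c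 79) (cond (Nat.beq c 70) [⟨78, 1, 1⟩] []) (cond (Nat.beq c 79) [⟨84, -1, 1⟩] [])) (cond (Nat.blt c 87) (cond (Nat.beq c 86) [⟨97, 1, 1⟩] []) (cond (Nat.beq c 87) [⟨98, 1, 1⟩] []))) (cond (Nat.blt c 101) (cond (Nat.blt c 92) (cond (Nat.beq c 89) [⟨99, 1, 1⟩] []) (cond (Nat.beq c 92) [⟨100, 1, 1⟩] [])) (cond (Nat.blt c 107) (cond (Nat.beq c 101) [⟨106, -1, 1⟩] []) (cond (Nat.beq c 107) [⟨112, -1, 1⟩] [])))))) (cond (Nat.blt c 177) (cond (Nat.blt c 127) (cond (Nat.blt c 117) (cond (Nat.blt c 115) (cond (Nat.blt c 114) (cond (Nat.beq c 113) [⟨142, -1, 2⟩, ⟨0, 0, 1⟩, ⟨1, 0, 1⟩, ⟨2, 0, 1⟩, ⟨3, 1, 1⟩, ⟨4, 1, 1⟩, ⟨5, 1, 1⟩, ⟨6, 1, 1⟩, ⟨7, 1, 1⟩] []) (cond (Nat.beq c 114) [⟨128, 1, 1⟩] [])) (cond (Nat.blt c 116) (cond (Nat.beq c 115) [⟨130, 1, 1⟩] []) (cond (Nat.beq c 116) [⟨133, 1, 1⟩] []))) (cond (Nat.blt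 c 122) (cond (Nat.blt c 118) (cond (Nat.beq c 117) [⟨137, 1, 1⟩] []) (cond (Nat.beq c 118) [⟨138, -1, 1⟩] [])) (cond (Nat.blt c 125) (cond (Nat.beq c 122) [⟨139, -1, 1⟩] []) (cond (Nat.beq c 125) [⟨140, -1, 1⟩] [])))) (cond (Nat.blt c 156) (cond (Nat.blt c 149) (cond (Nat.blt c 143) (cond (Nat.beq c 127) [⟨141, -1, 1⟩] []) (cond (Nat.beq c 143) [⟨148, 1, 1⟩] [])) (cond (Nat.blt c 155) (cond (Nat.beq c 149) [⟨154, 1, 1⟩] []) (cond (Nat.beq c 155) [⟨163, -1, 1⟩] []))) (cond (Nat.blt c 158) (cond (Nat.blt c 157) (cond (Nat.beq c 156) [⟨166, -1, 1⟩] []) (cond (Nat.beq c 157) [⟨168, -1, 1⟩] [])) (cond (Nat.blt c 171) (cond (Nat.beq c 158) [⟨169, -1, 1⟩] []) (cond (Nat.beq c 171) [⟨176, 1, 1⟩] []))))) (cond (Nat.blt c 197) (cond (Nat.blt c 192) (cond (Nat.blt c 179) (cond (Nat.blt c 178) (cond (Nat.beq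 c 177) [⟨185, -1, 1⟩] []) (cond (Nat.beq c 178) [⟨188, -1, 1⟩] [])) (cond (Nat.blt c 180) (cond (Nat.beq c 179) [⟨190, -1, 1⟩] []) (cond (Nat.beq c 180) [⟨191, -1, 1⟩] []))) (cond (Nat.blt c 194) (cond (Nat.blt c 193) (cond (Nat.beq c 192) [⟨204, 1, 1⟩] []) (cond (Nat.beq c 193) [⟨206, 1, 1⟩] [])) (cond (Nat.blt c 196) (cond (Nat.beq c 194) [⟨207, 1, 1⟩] []) (cond (Nat.beq c 196) [⟨209, 1, 1⟩] [])))) (cond (Nat.blt c 215) (cond (Nat.blt c 212) (cond (Nat.blt c 199) (cond (Nat.beq c 197) [⟨210, 1, 1⟩] []) (cond (Nat.beq c 199) [⟨211, 1, 1⟩] [])) (cond (Nat.blt c 213) (cond (Nat.beq c 212) [⟨223, -1, 1⟩] []) (cond (Nat.beq c 213) [⟨224, -1, 1⟩] []))) (cond (Nat.blt c 227) (cond (Nat.blt c 218) (cond (Nat.beq c 215) [⟨225, -1, 1⟩] []) (cond (Nat.beq c 218) [⟨226, -1, 1⟩] [])) (cond (Nat.blt c 234)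 (cond (Nat.beq c 227) [⟨232, 1, 1⟩] []) (cond (Nat.blt c 242) (cond (Nat.beq c 234) [⟨239, 1, 1⟩] []) (cond (Nat.beq c 242) [⟨247, 1, 1⟩] [])))))))

/-- Compiled columns of `x_135` for type E8. -/
def colsE8_135 (c : ℕ) : List CEnt :=
  cond (Nat.blt c 108) (cond (Nat.blt c 55) (cond (Nat.blt c 13) (cond (Nat.blt c 4) (cond (Nat.blt c 2) (cond (Nat.blt c 1) (cond (Nat.beq c 0) [⟨143, 1, 1⟩] []) (cond (Nat.beq c 1) [⟨143, 0, 1⟩] [])) (cond (Nat.blt c 3) (cond (Nat.beq c 2) [⟨143, -2, 1⟩] []) (cond (Nat.beq c 3) [⟨143, 1, 1⟩] []))) (cond (Nat.blt c 6) (cond (Nat.blt c 5) (cond (Nat.beq c 4) [⟨143, 0, 1⟩] []) (cond (Nat.beq c 5) [⟨143, 0, 1⟩] [])) (cond (Nat.blt c 7) (cond (Nat.beq c 6) [⟨143, 0, 1⟩] []) (cond (Nat.beq c 7) [⟨143, 0, 1⟩] [])))) (cond (Nat.blt c 26) (cond (Nat.blt c 24) (cond (Nat.blt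 c 15) (cond (Nat.beq c 13) [⟨14, -1, 1⟩] []) (cond (Nat.beq c 15) [⟨16, -1, 1⟩] [])) (cond (Nat.blt c 25) (cond (Nat.beq c 24) [⟨29, -1, 1⟩] []) (cond (Nat.beq c 25) [⟨30, -1, 1⟩] []))) (cond (Nat.blt c 28) (cond (Nat.blt c 27) (cond (Nat.beq c 26) [⟨31, -1, 1⟩] []) (cond (Nat.beq c 27) [⟨32, -1, 1⟩] [])) (cond (Nat.blt c 54) (cond (Nat.beq c 28) [⟨33, -1, 1⟩] []) (cond (Nat.beq c 54) [⟨64, -1, 1⟩] []))))) (cond (Nat.blt c 63) (cond (Nat.blt c 59) (cond (Nat.blt c 57) (cond (Nat.blt c 56) (cond (Nat.beq c 55) [⟨65, -1, 1⟩] []) (cond (Nat.beq c 56) [⟨66, -1, 1⟩] [])) (cond (Nat.blt c 58) (cond (Nat.beq c 57) [⟨67, -1, 1⟩] []) (cond (Nat.beq c 58) [⟨68, -1, 1⟩] []))) (cond (Nat.blt c 61) (cond (Nat.blt c 60) (cond (Nat.beq c 59) [⟨69, -1, 1⟩] []) (cond (Nat.beq c 60) [⟨70, -1, 1⟩] [])) (cond (Nat.blt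 c 62) (cond (Nat.beq c 61) [⟨71, -1, 1⟩] []) (cond (Nat.beq c 62) [⟨72, -1, 1⟩] [])))) (cond (Nat.blt c 98) (cond (Nat.blt c 96) (cond (Nat.blt c 84) (cond (Nat.beq c 63) [⟨73, -1, 1⟩] []) (cond (Nat.beq c 84) [⟨85, -1, 1⟩] [])) (cond (Nat.blt c 97) (cond (Nat.beq c 96) [⟨101, -1, 1⟩] []) (cond (Nat.beq c 97) [⟨102, -1, 1⟩] []))) (cond (Nat.blt c 100) (cond (Nat.blt c 99) (cond (Nat.beq c 98) [⟨103, -1, 1⟩] []) (cond (Nat.beq c 99) [⟨104, -1, 1⟩] [])) (cond (Nat.blt c 107) (cond (Nat.beq c 100) [⟨105, -1, 1⟩] []) (cond (Nat.beq c 107) [⟨113, 1, 1⟩] [])))))) (cond (Nat.blt c 182) (cond (Nat.blt c 141) (cond (Nat.blt c 112) (cond (Nat.blt c 110) (cond (Nat.blt c 109) (cond (Nat.beq c 108) [⟨114, 1, 1⟩] []) (cond (Nat.beq c 109) [⟨115, 1, 1⟩] [])) (cond (Nat.blt c 111) (cond (Nat.beq c 110) [⟨116,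 1, 1⟩] []) (cond (Nat.beq c 111) [⟨117, 1, 1⟩] []))) (cond (Nat.blt c 139) (cond (Nat.blt c 138) (cond (Nat.beq c 112) [⟨143, -1, 2⟩, ⟨0, 0, 1⟩, ⟨1, 0, 1⟩, ⟨2, 1, 1⟩, ⟨3, 0, 1⟩, ⟨4, 0, 1⟩, ⟨5, 0, 1⟩, ⟨6, 0, 1⟩, ⟨7, 0, 1⟩] []) (cond (Nat.beq c 138) [⟨144, -1, 1⟩] [])) (cond (Nat.blt c 140) (cond (Nat.beq c 139) [⟨145, -1, 1⟩] []) (cond (Nat.beq c 140) [⟨146, -1, 1⟩] [])))) (cond (Nat.blt c 152) (cond (Nat.blt c 150) (cond (Nat.blt c 142) (cond (Nat.beq c 141) [⟨147, -1, 1⟩] []) (cond (Nat.beq c 142) [⟨148, -1, 1⟩] [])) (cond (Nat.blt c 151) (cond (Nat.beq c 150) [⟨155, 1, 1⟩] []) (cond (Nat.beq c 151) [⟨156, 1, 1⟩] []))) (cond (Nat.blt c 154) (cond (Nat.blt c 153) (cond (Nat.beq c 152) [⟨157, 1, 1⟩] []) (cond (Nat.beq c 153) [⟨158, 1, 1⟩] [])) (cond (Nat.blt c 170) (cond (Nat.beq c 154) [⟨159,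 1, 1⟩] []) (cond (Nat.beq c 170) [⟨171, 1, 1⟩] []))))) (cond (Nat.blt c 190) (cond (Nat.blt c 186) (cond (Nat.blt c 184) (cond (Nat.blt c 183) (cond (Nat.beq c 182) [⟨192, 1, 1⟩] []) (cond (Nat.beq c 183) [⟨193, 1, 1⟩] [])) (cond (Nat.blt c 185) (cond (Nat.beq c 184) [⟨194, 1, 1⟩] []) (cond (Nat.beq c 185) [⟨195, 1, 1⟩] []))) (cond (Nat.blt c 188) (cond (Nat.blt c 187) (cond (Nat.beq c 186) [⟨196, 1, 1⟩] []) (cond (Nat.beq c 187) [⟨197, 1, 1⟩] [])) (cond (Nat.blt c 189) (cond (Nat.beq c 188) [⟨198, 1, 1⟩] []) (cond (Nat.beq c 189) [⟨199, 1, 1⟩] [])))) (cond (Nat.blt c 224) (cond (Nat.blt c 222) (cond (Nat.blt c 191) (cond (Nat.beq c 190) [⟨200, 1, 1⟩] []) (cond (Nat.beq c 191) [⟨201, 1, 1⟩] [])) (cond (Nat.blt c 223) (cond (Nat.beq c 222) [⟨227, 1, 1⟩] []) (cond (Nat.beq c 223) [⟨228, 1, 1⟩] [])))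 (cond (Nat.blt c 226) (cond (Nat.blt c 225) (cond (Nat.beq c 224) [⟨229, 1, 1⟩] []) (cond (Nat.beq c 225) [⟨230, 1, 1⟩] [])) (cond (Nat.blt c 239) (cond (Nat.beq c 226) [⟨231, 1, 1⟩] []) (cond (Nat.blt c 241) (cond (Nat.beq c 239) [⟨240, 1, 1⟩] []) (cond (Nat.beq c 241) [⟨242, 1, 1⟩] [])))))))

/-- Compiled columns of `x_136` for type E8. -/
def colsE8_136 (c : ℕ) : List CEnt :=
  cond (Nat.blt c 108) (cond (Nat.blt c 49) (cond (Nat.blt c 12) (cond (Nat.blt c 4) (cond (Nat.blt c 2) (cond (Nat.blt c 1) (cond (Nat.beq c 0) [⟨144, 1, 1⟩] []) (cond (Nat.beq c 1) [⟨144, 1, 1⟩] [])) (cond (Nat.blt c 3) (cond (Nat.beq c 2) [⟨144, -1, 1⟩] []) (cond (Nat.beq c 3) [⟨144, -1, 1⟩] []))) (cond (Nat.blt c 6) (cond (Nat.blt c 5) (cond (Nat.beq c 4) [⟨144, 1, 1⟩] []) (cond (Nat.beq c 5) [⟨144, 0, 1⟩] [])) (cond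 (Nat.blt c 7) (cond (Nat.beq c 6) [⟨144, 0, 1⟩] []) (cond (Nat.beq c 7) [⟨144, 0, 1⟩] [])))) (cond (Nat.blt c 26) (cond (Nat.blt c 23) (cond (Nat.blt c 15) (cond (Nat.beq c 12) [⟨14, -1, 1⟩] []) (cond (Nat.beq c 15) [⟨17, 1, 1⟩] [])) (cond (Nat.blt c 25) (cond (Nat.beq c 23) [⟨29, -1, 1⟩] []) (cond (Nat.beq c 25) [⟨34, 1, 1⟩] []))) (cond (Nat.blt c 28) (cond (Nat.blt c 27) (cond (Nat.beq c 26) [⟨35, 1, 1⟩] []) (cond (Nat.beq c 27) [⟨36, 1, 1⟩] [])) (cond (Nat.blt c 48) (cond (Nat.beq c 28) [⟨37, 1, 1⟩] []) (cond (Nat.beq c 48) [⟨64, -1, 1⟩] []))))) (cond (Nat.blt c 63) (cond (Nat.blt c 53) (cond (Nat.blt c 51) (cond (Nat.blt c 50) (cond (Nat.beq c 49) [⟨65, -1, 1⟩] []) (cond (Nat.beq c 50) [⟨66, -1, 1⟩] [])) (cond (Nat.blt c 52) (cond (Nat.beq c 51) [⟨67, -1, 1⟩] []) (cond (Nat.beq c 52) [⟨68,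 -1, 1⟩] []))) (cond (Nat.blt c 61) (cond (Nat.blt c 60) (cond (Nat.beq c 53) [⟨69, -1, 1⟩] []) (cond (Nat.beq c 60) [⟨74, 1, 1⟩] [])) (cond (Nat.blt c 62) (cond (Nat.beq c 61) [⟨75, 1, 1⟩] []) (cond (Nat.beq c 62) [⟨76, 1, 1⟩] [])))) (cond (Nat.blt c 94) (cond (Nat.blt c 92) (cond (Nat.blt c 83) (cond (Nat.beq c 63) [⟨77, 1, 1⟩] []) (cond (Nat.beq c 83) [⟨85, -1, 1⟩] [])) (cond (Nat.blt c 93) (cond (Nat.beq c 92) [⟨101, -1, 1⟩] []) (cond (Nat.beq c 93) [⟨102, -1, 1⟩] []))) (cond (Nat.blt c 100) (cond (Nat.blt c 95) (cond (Nat.beq c 94) [⟨103, -1, 1⟩] []) (cond (Nat.beq c 95) [⟨104, -1, 1⟩] [])) (cond (Nat.blt c 107) (cond (Nat.beq c 100) [⟨106, 1, 1⟩] []) (cond (Nat.beq c 107) [⟨118, 1, 1⟩] [])))))) (cond (Nat.blt c 178) (cond (Nat.blt c 136) (cond (Nat.blt c 112) (cond (Nat.blt c 110) (cond (Nat.blt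 c 109) (cond (Nat.beq c 108) [⟨119, 1, 1⟩] []) (cond (Nat.beq c 109) [⟨120, 1, 1⟩] [])) (cond (Nat.blt c 111) (cond (Nat.beq c 110) [⟨121, 1, 1⟩] []) (cond (Nat.beq c 111) [⟨144, -1, 2⟩, ⟨0, 0, 1⟩, ⟨1, 0, 1⟩, ⟨2, 1, 1⟩, ⟨3, 1, 1⟩, ⟨4, 0, 1⟩, ⟨5, 0, 1⟩, ⟨6, 0, 1⟩, ⟨7, 0, 1⟩] []))) (cond (Nat.blt c 134) (cond (Nat.blt c 117) (cond (Nat.beq c 112) [⟨138, 1, 1⟩] []) (cond (Nat.beq c 117) [⟨143, -1, 1⟩] [])) (cond (Nat.blt c 135) (cond (Nat.beq c 134) [⟨145, -1, 1⟩] []) (cond (Nat.beq c 135) [⟨146, -1, 1⟩] [])))) (cond (Nat.blt c 152) (cond (Nat.blt c 149) (cond (Nat.blt c 137) (cond (Nat.beq c 136) [⟨147, -1, 1⟩] []) (cond (Nat.beq c 137) [⟨148, -1, 1⟩] [])) (cond (Nat.blt c 151) (cond (Nat.beq c 149) [⟨155, -1, 1⟩] []) (cond (Nat.beq c 151) [⟨160, 1, 1⟩] []))) (cond (Nat.blt c 154) (cond (Nat.blt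 c 153) (cond (Nat.beq c 152) [⟨161, 1, 1⟩] []) (cond (Nat.beq c 153) [⟨162, 1, 1⟩] [])) (cond (Nat.blt c 170) (cond (Nat.beq c 154) [⟨163, 1, 1⟩] []) (cond (Nat.beq c 170) [⟨172, 1, 1⟩] []))))) (cond (Nat.blt c 190) (cond (Nat.blt c 186) (cond (Nat.blt c 180) (cond (Nat.blt c 179) (cond (Nat.beq c 178) [⟨192, -1, 1⟩] []) (cond (Nat.beq c 179) [⟨193, -1, 1⟩] [])) (cond (Nat.blt c 181) (cond (Nat.beq c 180) [⟨194, -1, 1⟩] []) (cond (Nat.beq c 181) [⟨195, -1, 1⟩] []))) (cond (Nat.blt c 188) (cond (Nat.blt c 187) (cond (Nat.beq c 186) [⟨202, 1, 1⟩] []) (cond (Nat.beq c 187) [⟨203, 1, 1⟩] [])) (cond (Nat.blt c 189) (cond (Nat.beq c 188) [⟨204, 1, 1⟩] []) (cond (Nat.beq c 189) [⟨205, 1, 1⟩] [])))) (cond (Nat.blt c 220) (cond (Nat.blt c 218) (cond (Nat.blt c 191) (cond (Nat.beq c 190) [⟨206, 1, 1⟩] [])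 (cond (Nat.beq c 191) [⟨207, 1, 1⟩] [])) (cond (Nat.blt c 219) (cond (Nat.beq c 218) [⟨227, -1, 1⟩] []) (cond (Nat.beq c 219) [⟨228, -1, 1⟩] []))) (cond (Nat.blt c 226) (cond (Nat.blt c 221) (cond (Nat.beq c 220) [⟨229, -1, 1⟩] []) (cond (Nat.beq c 221) [⟨230, -1, 1⟩] [])) (cond (Nat.blt c 238) (cond (Nat.beq c 226) [⟨232, 1, 1⟩] []) (cond (Nat.blt c 241) (cond (Nat.beq c 238) [⟨240, -1, 1⟩] []) (cond (Nat.beq c 241) [⟨243, 1, 1⟩] [])))))))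

/-- Compiled columns of `x_137` for type E8. -/
def colsE8_137 (c : ℕ) : List CEnt :=
  cond (Nat.blt c 108) (cond (Nat.blt c 46) (cond (Nat.blt c 11) (cond (Nat.blt c 4) (cond (Nat.blt c 2) (cond (Nat.blt c 1) (cond (Nat.beq c 0) [⟨145, 1, 1⟩] []) (cond (Nat.beq c 1) [⟨145, 1, 1⟩] [])) (cond (Nat.blt c 3) (cond (Nat.beq c 2) [⟨145, -1, 1⟩] []) (cond (Nat.beq c 3) [⟨145, 0, 1⟩] []))) (cond (Nat.blt c 6) (cond (Nat.blt c 5) (cond (Nat.beq c 4) [⟨145, -1, 1⟩] []) (cond (Nat.beq c 5) [⟨145, 1, 1⟩] [])) (cond (Nat.blt c 7) (cond (Nat.beq c 6) [⟨145, 0, 1⟩] []) (cond (Nat.beq c 7) [⟨145, 0, 1⟩] [])))) (cond (Nat.blt c 26) (cond (Nat.blt c 23) (cond (Nat.blt c 15) (cond (Nat.beq c 11) [⟨14, -1, 1⟩] []) (cond (Nat.beq c 15) [⟨18, -1, 1⟩] [])) (cond (Nat.blt c 24) (cond (Nat.beq c 23) [⟨30, 1, 1⟩] [])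 (cond (Nat.beq c 24) [⟨34, 1, 1⟩] []))) (cond (Nat.blt c 28) (cond (Nat.blt c 27) (cond (Nat.beq c 26) [⟨38, -1, 1⟩] []) (cond (Nat.beq c 27) [⟨39, -1, 1⟩] [])) (cond (Nat.blt c 45) (cond (Nat.beq c 28) [⟨40, -1, 1⟩] []) (cond (Nat.beq c 45) [⟨64, -1, 1⟩] []))))) (cond (Nat.blt c 63) (cond (Nat.blt c 53) (cond (Nat.blt c 51) (cond (Nat.blt c 47) (cond (Nat.beq c 46) [⟨65, -1, 1⟩] []) (cond (Nat.beq c 47) [⟨66, -1, 1⟩] [])) (cond (Nat.blt c 52) (cond (Nat.beq c 51) [⟨70, 1, 1⟩] []) (cond (Nat.beq c 52) [⟨71, 1, 1⟩] []))) (cond (Nat.blt c 58) (cond (Nat.blt c 57) (cond (Nat.beq c 53) [⟨72, 1, 1⟩] []) (cond (Nat.beq c 57) [⟨74, 1, 1⟩] [])) (cond (Nat.blt c 59) (cond (Nat.beq c 58) [⟨75, 1, 1⟩] []) (cond (Nat.beq c 59) [⟨76, 1, 1⟩] [])))) (cond (Nat.blt c 91) (cond (Nat.blt c 89) (cond (Nat.blt c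 82) (cond (Nat.beq c 63) [⟨78, -1, 1⟩] []) (cond (Nat.beq c 82) [⟨85, -1, 1⟩] [])) (cond (Nat.blt c 90) (cond (Nat.beq c 89) [⟨101, -1, 1⟩] []) (cond (Nat.beq c 90) [⟨102, -1, 1⟩] []))) (cond (Nat.blt c 99) (cond (Nat.blt c 95) (cond (Nat.beq c 91) [⟨103, -1, 1⟩] []) (cond (Nat.beq c 95) [⟨105, 1, 1⟩] [])) (cond (Nat.blt c 107) (cond (Nat.beq c 99) [⟨106, 1, 1⟩] []) (cond (Nat.beq c 107) [⟨122, 1, 1⟩] [])))))) (cond (Nat.blt c 177) (cond (Nat.blt c 132) (cond (Nat.blt c 112) (cond (Nat.blt c 110) (cond (Nat.blt c 109) (cond (Nat.beq c 108) [⟨123, 1, 1⟩] []) (cond (Nat.beq c 109) [⟨124, 1, 1⟩] [])) (cond (Nat.blt c 111) (cond (Nat.beq c 110) [⟨145, -1, 2⟩, ⟨0, 0, 1⟩, ⟨1, 0, 1⟩, ⟨2, 1, 1⟩, ⟨3, 1, 1⟩, ⟨4, 1, 1⟩, ⟨5, 0, 1⟩, ⟨6, 0, 1⟩, ⟨7, 0, 1⟩] []) (cond (Nat.beq c 111) [⟨134, 1, 1⟩] []))) (cond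 (Nat.blt c 121) (cond (Nat.blt c 116) (cond (Nat.beq c 112) [⟨139, 1, 1⟩] []) (cond (Nat.beq c 116) [⟨143, -1, 1⟩] [])) (cond (Nat.blt c 131) (cond (Nat.beq c 121) [⟨144, -1, 1⟩] []) (cond (Nat.beq c 131) [⟨146, -1, 1⟩] [])))) (cond (Nat.blt c 152) (cond (Nat.blt c 149) (cond (Nat.blt c 133) (cond (Nat.beq c 132) [⟨147, -1, 1⟩] []) (cond (Nat.beq c 133) [⟨148, -1, 1⟩] [])) (cond (Nat.blt c 150) (cond (Nat.beq c 149) [⟨156, -1, 1⟩] []) (cond (Nat.beq c 150) [⟨160, -1, 1⟩] []))) (cond (Nat.blt c 154) (cond (Nat.blt c 153) (cond (Nat.beq c 152) [⟨164, 1, 1⟩] []) (cond (Nat.beq c 153) [⟨165, 1, 1⟩] [])) (cond (Nat.blt c 170) (cond (Nat.beq c 154) [⟨166, 1, 1⟩] []) (cond (Nat.beq c 170) [⟨173, 1, 1⟩] []))))) (cond (Nat.blt c 190) (cond (Nat.blt c 183) (cond (Nat.blt c 180) (cond (Nat.blt c 179) (cond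 (Nat.beq c 177) [⟨192, 1, 1⟩] []) (cond (Nat.beq c 179) [⟨196, -1, 1⟩] [])) (cond (Nat.blt c 181) (cond (Nat.beq c 180) [⟨197, -1, 1⟩] []) (cond (Nat.beq c 181) [⟨198, -1, 1⟩] []))) (cond (Nat.blt c 185) (cond (Nat.blt c 184) (cond (Nat.beq c 183) [⟨202, -1, 1⟩] []) (cond (Nat.beq c 184) [⟨203, -1, 1⟩] [])) (cond (Nat.blt c 189) (cond (Nat.beq c 185) [⟨204, -1, 1⟩] []) (cond (Nat.beq c 189) [⟨208, 1, 1⟩] [])))) (cond (Nat.blt c 217) (cond (Nat.blt c 215) (cond (Nat.blt c 191) (cond (Nat.beq c 190) [⟨209, 1, 1⟩] []) (cond (Nat.beq c 191) [⟨210, 1, 1⟩] [])) (cond (Nat.blt c 216) (cond (Nat.beq c 215) [⟨227, 1, 1⟩] []) (cond (Nat.beq c 216) [⟨228, 1, 1⟩] []))) (cond (Nat.blt c 225) (cond (Nat.blt c 221) (cond (Nat.beq c 217) [⟨229, 1, 1⟩] []) (cond (Nat.beq c 221) [⟨231, -1, 1⟩] [])) (cond (Nat.blt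 c 237) (cond (Nat.beq c 225) [⟨232, -1, 1⟩] []) (cond (Nat.blt c 241) (cond (Nat.beq c 237) [⟨240, 1, 1⟩] []) (cond (Nat.beq c 241) [⟨244, 1, 1⟩] [])))))))

/-- Compiled columns of `x_138` for type E8. -/
def colsE8_138 (c : ℕ) : List CEnt :=
  cond (Nat.blt c 108) (cond (Nat.blt c 46) (cond (Nat.blt c 10) (cond (Nat.blt c 4) (cond (Nat.blt c 2) (cond (Nat.blt c 1) (cond (Nat.beq c 0) [⟨146, 1, 1⟩] []) (cond (Nat.beq c 1) [⟨146, 1, 1⟩] [])) (cond (Nat.blt c 3) (cond (Nat.beq c 2) [⟨146, -1, 1⟩] []) (cond (Nat.beq c 3) [⟨146, 0, 1⟩] []))) (cond (Nat.blt c 6) (cond (Nat.blt c 5) (cond (Nat.beq c 4) [⟨146, 0, 1⟩] []) (cond (Nat.beq c 5) [⟨146, -1, 1⟩] [])) (cond (Nat.blt c 7) (cond (Nat.beq c 6) [⟨146, 1, 1⟩] []) (cond (Nat.beq c 7) [⟨146, 0, 1⟩] [])))) (cond (Nat.blt c 25) (cond (Nat.blt c 23) (cond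 (Nat.blt c 15) (cond (Nat.beq c 10) [⟨14, -1, 1⟩] []) (cond (Nat.beq c 15) [⟨19, 1, 1⟩] [])) (cond (Nat.blt c 24) (cond (Nat.beq c 23) [⟨31, -1, 1⟩] []) (cond (Nat.beq c 24) [⟨35, -1, 1⟩] []))) (cond (Nat.blt c 28) (cond (Nat.blt c 27) (cond (Nat.beq c 25) [⟨38, -1, 1⟩] []) (cond (Nat.beq c 27) [⟨41, 1, 1⟩] [])) (cond (Nat.blt c 44) (cond (Nat.beq c 28) [⟨42, 1, 1⟩] []) (cond (Nat.beq c 44) [⟨64, -1, 1⟩] []))))) (cond (Nat.blt c 62) (cond (Nat.blt c 53) (cond (Nat.blt c 49) (cond (Nat.blt c 47) (cond (Nat.beq c 46) [⟨67, 1, 1⟩] []) (cond (Nat.beq c 47) [⟨68, 1, 1⟩] [])) (cond (Nat.blt c 50) (cond (Nat.beq c 49) [⟨70, 1, 1⟩] []) (cond (Nat.beq c 50) [⟨71, 1, 1⟩] []))) (cond (Nat.blt c 56) (cond (Nat.blt c 55) (cond (Nat.beq c 53) [⟨73, -1, 1⟩] []) (cond (Nat.beq c 55) [⟨74, 1, 1⟩] [])) (cond (Nat.blt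 c 59) (cond (Nat.beq c 56) [⟨75, 1, 1⟩] []) (cond (Nat.beq c 59) [⟨77, -1, 1⟩] [])))) (cond (Nat.blt c 91) (cond (Nat.blt c 87) (cond (Nat.blt c 81) (cond (Nat.beq c 62) [⟨78, -1, 1⟩] []) (cond (Nat.beq c 81) [⟨85, -1, 1⟩] [])) (cond (Nat.blt c 88) (cond (Nat.beq c 87) [⟨101, -1, 1⟩] []) (cond (Nat.beq c 88) [⟨102, -1, 1⟩] []))) (cond (Nat.blt c 98) (cond (Nat.blt c 94) (cond (Nat.beq c 91) [⟨104, 1, 1⟩] []) (cond (Nat.beq c 94) [⟨105, 1, 1⟩] [])) (cond (Nat.blt c 107) (cond (Nat.beq c 98) [⟨106, 1, 1⟩] []) (cond (Nat.beq c 107) [⟨125, 1, 1⟩] [])))))) (cond (Nat.blt c 177) (cond (Nat.blt c 129) (cond (Nat.blt c 112) (cond (Nat.blt c 110) (cond (Nat.blt c 109) (cond (Nat.beq c 108) [⟨126, 1, 1⟩] []) (cond (Nat.beq c 109) [⟨146, -1, 2⟩, ⟨0, 0, 1⟩, ⟨1, 0, 1⟩, ⟨2, 1, 1⟩, ⟨3, 1, 1⟩, ⟨4, 1, 1⟩, ⟨5,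 1, 1⟩, ⟨6, 0, 1⟩, ⟨7, 0, 1⟩] [])) (cond (Nat.blt c 111) (cond (Nat.beq c 110) [⟨131, 1, 1⟩] []) (cond (Nat.beq c 111) [⟨135, 1, 1⟩] []))) (cond (Nat.blt c 120) (cond (Nat.blt c 115) (cond (Nat.beq c 112) [⟨140, 1, 1⟩] []) (cond (Nat.beq c 115) [⟨143, -1, 1⟩] [])) (cond (Nat.blt c 124) (cond (Nat.beq c 120) [⟨144, -1, 1⟩] []) (cond (Nat.beq c 124) [⟨145, -1, 1⟩] [])))) (cond (Nat.blt c 151) (cond (Nat.blt c 149) (cond (Nat.blt c 130) (cond (Nat.beq c 129) [⟨147, -1, 1⟩] []) (cond (Nat.beq c 130) [⟨148, -1, 1⟩] [])) (cond (Nat.blt c 150) (cond (Nat.beq c 149) [⟨157, -1, 1⟩] []) (cond (Nat.beq c 150) [⟨161, -1, 1⟩] []))) (cond (Nat.blt c 154) (cond (Nat.blt c 153) (cond (Nat.beq c 151) [⟨164, -1, 1⟩] []) (cond (Nat.beq c 153) [⟨167, 1, 1⟩] [])) (cond (Nat.blt c 170) (cond (Nat.beq c 154) [⟨168, 1,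 1⟩] []) (cond (Nat.beq c 170) [⟨174, 1, 1⟩] []))))) (cond (Nat.blt c 188) (cond (Nat.blt c 182) (cond (Nat.blt c 180) (cond (Nat.blt c 178) (cond (Nat.beq c 177) [⟨193, 1, 1⟩] []) (cond (Nat.beq c 178) [⟨196, 1, 1⟩] [])) (cond (Nat.blt c 181) (cond (Nat.beq c 180) [⟨199, -1, 1⟩] []) (cond (Nat.beq c 181) [⟨200, -1, 1⟩] []))) (cond (Nat.blt c 185) (cond (Nat.blt c 184) (cond (Nat.beq c 182) [⟨202, 1, 1⟩] []) (cond (Nat.beq c 184) [⟨205, -1, 1⟩] [])) (cond (Nat.blt c 187) (cond (Nat.beq c 185) [⟨206, -1, 1⟩] []) (cond (Nat.beq c 187) [⟨208, -1, 1⟩] [])))) (cond (Nat.blt c 217) (cond (Nat.blt c 213) (cond (Nat.blt c 191) (cond (Nat.beq c 188) [⟨209, -1, 1⟩] []) (cond (Nat.beq c 191) [⟨211, 1, 1⟩] [])) (cond (Nat.blt c 214) (cond (Nat.beq c 213) [⟨227, -1, 1⟩] []) (cond (Nat.beq c 214) [⟨228, -1,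 1⟩] []))) (cond (Nat.blt c 224) (cond (Nat.blt c 220) (cond (Nat.beq c 217) [⟨230, 1, 1⟩] []) (cond (Nat.beq c 220) [⟨231, 1, 1⟩] [])) (cond (Nat.blt c 236) (cond (Nat.beq c 224) [⟨232, 1, 1⟩] []) (cond (Nat.blt c 241) (cond (Nat.beq c 236) [⟨240, -1, 1⟩] []) (cond (Nat.beq c 241) [⟨245, 1, 1⟩] [])))))))

/-- Compiled columns of `x_139` for type E8. -/
def colsE8_139 (c : ℕ) : List CEnt :=
  cond (Nat.blt c 108) (cond (Nat.blt c 45) (cond (Nat.blt c 9) (cond (Nat.blt c 4) (cond (Nat.blt c 2) (cond (Nat.blt c 1) (cond (Nat.beq c 0) [⟨147, 1, 1⟩] []) (cond (Nat.beq c 1) [⟨147, 1, 1⟩] [])) (cond (Nat.blt c 3) (cond (Nat.beq c 2) [⟨147, -1, 1⟩] []) (cond (Nat.beq c 3) [⟨147, 0, 1⟩] []))) (cond (Nat.blt c 6) (cond (Nat.blt c 5) (cond (Nat.beq c 4) [⟨147, 0, 1⟩] []) (cond (Nat.beq c 5) [⟨147, 0, 1⟩]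 [])) (cond (Nat.blt c 7) (cond (Nat.beq c 6) [⟨147, -1, 1⟩] []) (cond (Nat.beq c 7) [⟨147, 1, 1⟩] [])))) (cond (Nat.blt c 25) (cond (Nat.blt c 23) (cond (Nat.blt c 15) (cond (Nat.beq c 9) [⟨14, -1, 1⟩] []) (cond (Nat.beq c 15) [⟨20, -1, 1⟩] [])) (cond (Nat.blt c 24) (cond (Nat.beq c 23) [⟨32, 1, 1⟩] []) (cond (Nat.beq c 24) [⟨36, 1, 1⟩] []))) (cond (Nat.blt c 28) (cond (Nat.blt c 26) (cond (Nat.beq c 25) [⟨39, 1, 1⟩] []) (cond (Nat.beq c 26) [⟨41, 1, 1⟩] [])) (cond (Nat.blt c 44) (cond (Nat.beq c 28) [⟨43, -1, 1⟩] []) (cond (Nat.beq c 44) [⟨65, 1, 1⟩] []))))) (cond (Nat.blt c 61) (cond (Nat.blt c 52) (cond (Nat.blt c 48) (cond (Nat.blt c 47) (cond (Nat.beq c 45) [⟨67, 1, 1⟩] []) (cond (Nat.beq c 47) [⟨69, -1, 1⟩] [])) (cond (Nat.blt c 50) (cond (Nat.beq c 48) [⟨70, 1, 1⟩] []) (cond (Nat.beq c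 50) [⟨72, -1, 1⟩] []))) (cond (Nat.blt c 56) (cond (Nat.blt c 54) (cond (Nat.beq c 52) [⟨73, -1, 1⟩] []) (cond (Nat.beq c 54) [⟨74, 1, 1⟩] [])) (cond (Nat.blt c 58) (cond (Nat.beq c 56) [⟨76, -1, 1⟩] []) (cond (Nat.beq c 58) [⟨77, -1, 1⟩] [])))) (cond (Nat.blt c 90) (cond (Nat.blt c 86) (cond (Nat.blt c 80) (cond (Nat.beq c 61) [⟨78, -1, 1⟩] []) (cond (Nat.beq c 80) [⟨85, -1, 1⟩] [])) (cond (Nat.blt c 88) (cond (Nat.beq c 86) [⟨101, -1, 1⟩] []) (cond (Nat.beq c 88) [⟨103, 1, 1⟩] []))) (cond (Nat.blt c 97) (cond (Nat.blt c 93) (cond (Nat.beq c 90) [⟨104, 1, 1⟩] []) (cond (Nat.beq c 93) [⟨105, 1, 1⟩] [])) (cond (Nat.blt c 107) (cond (Nat.beq c 97) [⟨106, 1, 1⟩] []) (cond (Nat.beq c 107) [⟨127, 1, 1⟩] [])))))) (cond (Nat.blt c 177) (cond (Nat.blt c 126) (cond (Nat.blt c 112) (cond (Nat.blt c 110)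 (cond (Nat.blt c 109) (cond (Nat.beq c 108) [⟨147, -1, 2⟩, ⟨0, 0, 1⟩, ⟨1, 0, 1⟩, ⟨2, 1, 1⟩, ⟨3, 1, 1⟩, ⟨4, 1, 1⟩, ⟨5, 1, 1⟩, ⟨6, 1, 1⟩, ⟨7, 0, 1⟩] []) (cond (Nat.beq c 109) [⟨129, 1, 1⟩] [])) (cond (Nat.blt c 111) (cond (Nat.beq c 110) [⟨132, 1, 1⟩] []) (cond (Nat.beq c 111) [⟨136, 1, 1⟩] []))) (cond (Nat.blt c 119) (cond (Nat.blt c 114) (cond (Nat.beq c 112) [⟨141, 1, 1⟩] []) (cond (Nat.beq c 114) [⟨143, -1, 1⟩] [])) (cond (Nat.blt c 123) (cond (Nat.beq c 119) [⟨144, -1, 1⟩] []) (cond (Nat.beq c 123) [⟨145, -1, 1⟩] [])))) (cond (Nat.blt c 151) (cond (Nat.blt c 149) (cond (Nat.blt c 128) (cond (Nat.beq c 126) [⟨146, -1, 1⟩] []) (cond (Nat.beq c 128) [⟨148, -1, 1⟩] [])) (cond (Nat.blt c 150) (cond (Nat.beq c 149) [⟨158, -1, 1⟩] []) (cond (Nat.beq c 150) [⟨162, -1, 1⟩] []))) (cond (Nat.blt c 154)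 (cond (Nat.blt c 152) (cond (Nat.beq c 151) [⟨165, -1, 1⟩] []) (cond (Nat.beq c 152) [⟨167, -1, 1⟩] [])) (cond (Nat.blt c 170) (cond (Nat.beq c 154) [⟨169, 1, 1⟩] []) (cond (Nat.beq c 170) [⟨175, 1, 1⟩] []))))) (cond (Nat.blt c 188) (cond (Nat.blt c 182) (cond (Nat.blt c 179) (cond (Nat.blt c 178) (cond (Nat.beq c 177) [⟨194, 1, 1⟩] []) (cond (Nat.beq c 178) [⟨197, 1, 1⟩] [])) (cond (Nat.blt c 181) (cond (Nat.beq c 179) [⟨199, 1, 1⟩] []) (cond (Nat.beq c 181) [⟨201, -1, 1⟩] []))) (cond (Nat.blt c 185) (cond (Nat.blt c 183) (cond (Nat.beq c 182) [⟨203, 1, 1⟩] []) (cond (Nat.beq c 183) [⟨205, 1, 1⟩] [])) (cond (Nat.blt c 186) (cond (Nat.beq c 185) [⟨207, -1, 1⟩] []) (cond (Nat.beq c 186) [⟨208, 1, 1⟩] [])))) (cond (Nat.blt c 216) (cond (Nat.blt c 212) (cond (Nat.blt c 190) (cond (Nat.beq c 188)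 [⟨210, -1, 1⟩] []) (cond (Nat.beq c 190) [⟨211, -1, 1⟩] [])) (cond (Nat.blt c 214) (cond (Nat.beq c 212) [⟨227, 1, 1⟩] []) (cond (Nat.beq c 214) [⟨229, -1, 1⟩] []))) (cond (Nat.blt c 223) (cond (Nat.blt c 219) (cond (Nat.beq c 216) [⟨230, -1, 1⟩] []) (cond (Nat.beq c 219) [⟨231, -1, 1⟩] [])) (cond (Nat.blt c 235) (cond (Nat.beq c 223) [⟨232, -1, 1⟩] []) (cond (Nat.blt c 241) (cond (Nat.beq c 235) [⟨240, 1, 1⟩] []) (cond (Nat.beq c 241) [⟨246, 1, 1⟩] [])))))))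

/-- Compiled columns of `x_140` for type E8. -/
def colsE8_140 (c : ℕ) : List CEnt :=
  cond (Nat.blt c 108) (cond (Nat.blt c 45) (cond (Nat.blt c 8) (cond (Nat.blt c 4) (cond (Nat.blt c 2) (cond (Nat.blt c 1) (cond (Nat.beq c 0) [⟨148, 1, 1⟩] []) (cond (Nat.beq c 1) [⟨148, 1, 1⟩] [])) (cond (Nat.blt c 3) (cond (Nat.beq c 2) [⟨148, -1, 1⟩] []) (cond (Nat.beq c 3) [⟨148, 0, 1⟩] []))) (cond (Nat.blt c 6) (cond (Nat.blt c 5) (cond (Nat.beq c 4) [⟨148, 0, 1⟩] []) (cond (Nat.beq c 5) [⟨148, 0, 1⟩] [])) (cond (Nat.blt c 7) (cond (Nat.beq c 6) [⟨148, 0, 1⟩] []) (cond (Nat.beq c 7) [⟨148, -1, 1⟩] [])))) (cond (Nat.blt c 25) (cond (Nat.blt c 23) (cond (Nat.blt c 15) (cond (Nat.beq c 8) [⟨14, -1, 1⟩] []) (cond (Nat.beq c 15) [⟨21, 1, 1⟩] [])) (cond (Nat.blt c 24) (cond (Nat.beq c 23) [⟨33, -1, 1⟩] [])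 (cond (Nat.beq c 24) [⟨37, -1, 1⟩] []))) (cond (Nat.blt c 27) (cond (Nat.blt c 26) (cond (Nat.beq c 25) [⟨40, -1, 1⟩] []) (cond (Nat.beq c 26) [⟨42, -1, 1⟩] [])) (cond (Nat.blt c 44) (cond (Nat.beq c 27) [⟨43, -1, 1⟩] []) (cond (Nat.beq c 44) [⟨66, -1, 1⟩] []))))) (cond (Nat.blt c 60) (cond (Nat.blt c 51) (cond (Nat.blt c 48) (cond (Nat.blt c 46) (cond (Nat.beq c 45) [⟨68, -1, 1⟩] []) (cond (Nat.beq c 46) [⟨69, -1, 1⟩] [])) (cond (Nat.blt c 49) (cond (Nat.beq c 48) [⟨71, -1, 1⟩] []) (cond (Nat.beq c 49) [⟨72, -1, 1⟩] []))) (cond (Nat.blt c 55) (cond (Nat.blt c 54) (cond (Nat.beq c 51) [⟨73, -1, 1⟩] []) (cond (Nat.beq c 54) [⟨75, -1, 1⟩] [])) (cond (Nat.blt c 57) (cond (Nat.beq c 55) [⟨76, -1, 1⟩] []) (cond (Nat.beq c 57) [⟨77, -1, 1⟩] [])))) (cond (Nat.blt c 89) (cond (Nat.blt c 86) (cond (Nat.blt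 c 79) (cond (Nat.beq c 60) [⟨78, -1, 1⟩] []) (cond (Nat.beq c 79) [⟨85, -1, 1⟩] [])) (cond (Nat.blt c 87) (cond (Nat.beq c 86) [⟨102, 1, 1⟩] []) (cond (Nat.beq c 87) [⟨103, 1, 1⟩] []))) (cond (Nat.blt c 96) (cond (Nat.blt c 92) (cond (Nat.beq c 89) [⟨104, 1, 1⟩] []) (cond (Nat.beq c 92) [⟨105, 1, 1⟩] [])) (cond (Nat.blt c 107) (cond (Nat.beq c 96) [⟨106, 1, 1⟩] []) (cond (Nat.beq c 107) [⟨148, -1, 2⟩, ⟨0, 0, 1⟩, ⟨1, 0, 1⟩, ⟨2, 1, 1⟩, ⟨3, 1, 1⟩, ⟨4, 1, 1⟩, ⟨5, 1, 1⟩, ⟨6, 1, 1⟩, ⟨7, 1, 1⟩] [])))))) (cond (Nat.blt c 177) (cond (Nat.blt c 125) (cond (Nat.blt c 112) (cond (Nat.blt c 110) (cond (Nat.blt c 109) (cond (Nat.beq c 108) [⟨128, 1, 1⟩] []) (cond (Nat.beq c 109) [⟨130, 1, 1⟩] [])) (cond (Nat.blt c 111) (cond (Nat.beq c 110) [⟨133, 1, 1⟩] []) (cond (Nat.beq c 111) [⟨137, 1, 1⟩] []))) (cond (Nat.blt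 c 118) (cond (Nat.blt c 113) (cond (Nat.beq c 112) [⟨142, 1, 1⟩] []) (cond (Nat.beq c 113) [⟨143, -1, 1⟩] [])) (cond (Nat.blt c 122) (cond (Nat.beq c 118) [⟨144, -1, 1⟩] []) (cond (Nat.beq c 122) [⟨145, -1, 1⟩] [])))) (cond (Nat.blt c 151) (cond (Nat.blt c 149) (cond (Nat.blt c 127) (cond (Nat.beq c 125) [⟨146, -1, 1⟩] []) (cond (Nat.beq c 127) [⟨147, -1, 1⟩] [])) (cond (Nat.blt c 150) (cond (Nat.beq c 149) [⟨159, -1, 1⟩] []) (cond (Nat.beq c 150) [⟨163, -1, 1⟩] []))) (cond (Nat.blt c 153) (cond (Nat.blt c 152) (cond (Nat.beq c 151) [⟨166, -1, 1⟩] []) (cond (Nat.beq c 152) [⟨168, -1, 1⟩] [])) (cond (Nat.blt c 170) (cond (Nat.beq c 153) [⟨169, -1, 1⟩] []) (cond (Nat.beq c 170) [⟨176, 1, 1⟩] []))))) (cond (Nat.blt c 187) (cond (Nat.blt c 182) (cond (Nat.blt c 179) (cond (Nat.blt c 178) (cond (Nat.beq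 c 177) [⟨195, 1, 1⟩] []) (cond (Nat.beq c 178) [⟨198, 1, 1⟩] [])) (cond (Nat.blt c 180) (cond (Nat.beq c 179) [⟨200, 1, 1⟩] []) (cond (Nat.beq c 180) [⟨201, 1, 1⟩] []))) (cond (Nat.blt c 184) (cond (Nat.blt c 183) (cond (Nat.beq c 182) [⟨204, 1, 1⟩] []) (cond (Nat.beq c 183) [⟨206, 1, 1⟩] [])) (cond (Nat.blt c 186) (cond (Nat.beq c 184) [⟨207, 1, 1⟩] []) (cond (Nat.beq c 186) [⟨209, 1, 1⟩] [])))) (cond (Nat.blt c 215) (cond (Nat.blt c 212) (cond (Nat.blt c 189) (cond (Nat.beq c 187) [⟨210, 1, 1⟩] []) (cond (Nat.beq c 189) [⟨211, 1, 1⟩] [])) (cond (Nat.blt c 213) (cond (Nat.beq c 212) [⟨228, 1, 1⟩] []) (cond (Nat.beq c 213) [⟨229, 1, 1⟩] []))) (cond (Nat.blt c 222) (cond (Nat.blt c 218) (cond (Nat.beq c 215) [⟨230, 1, 1⟩] []) (cond (Nat.beq c 218) [⟨231, 1, 1⟩] [])) (cond (Nat.blt c 234) (cond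 (Nat.beq c 222) [⟨232, 1, 1⟩] []) (cond (Nat.blt c 241) (cond (Nat.beq c 234) [⟨240, -1, 1⟩] []) (cond (Nat.beq c 241) [⟨247, 1, 1⟩] [])))))))

/-- Compiled columns of `x_141` for type E8. -/
def colsE8_141 (c : ℕ) : List CEnt :=
  cond (Nat.blt c 102) (cond (Nat.blt c 39) (cond (Nat.blt c 13) (cond (Nat.blt c 4) (cond (Nat.blt c 2) (cond (Nat.blt c 1) (cond (Nat.beq c 0) [⟨149, 0, 1⟩] []) (cond (Nat.beq c 1) [⟨149, -2, 1⟩] [])) (cond (Nat.blt c 3) (cond (Nat.beq c 2) [⟨149, 0, 1⟩] []) (cond (Nat.beq c 3) [⟨149, 1, 1⟩] []))) (cond (Nat.blt c 6) (cond (Nat.blt c 5) (cond (Nat.beq c 4) [⟨149, 0, 1⟩] []) (cond (Nat.beq c 5) [⟨149, 0, 1⟩] [])) (cond (Nat.blt c 7) (cond (Nat.beq c 6) [⟨149, 0, 1⟩] []) (cond (Nat.beq c 7) [⟨149, 0, 1⟩] [])))) (cond (Nat.blt c 35) (cond (Nat.blt c 22) (cond (Nat.blt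 c 14) (cond (Nat.beq c 13) [⟨15, -1, 1⟩] []) (cond (Nat.beq c 14) [⟨16, -1, 1⟩] [])) (cond (Nat.blt c 34) (cond (Nat.beq c 22) [⟨23, -1, 1⟩] []) (cond (Nat.beq c 34) [⟨44, -1, 1⟩] []))) (cond (Nat.blt c 37) (cond (Nat.blt c 36) (cond (Nat.beq c 35) [⟨45, -1, 1⟩] []) (cond (Nat.beq c 36) [⟨46, -1, 1⟩] [])) (cond (Nat.blt c 38) (cond (Nat.beq c 37) [⟨47, -1, 1⟩] []) (cond (Nat.beq c 38) [⟨48, -1, 1⟩] []))))) (cond (Nat.blt c 77) (cond (Nat.blt c 43) (cond (Nat.blt c 41) (cond (Nat.blt c 40) (cond (Nat.beq c 39) [⟨49, -1, 1⟩] []) (cond (Nat.beq c 40) [⟨50, -1, 1⟩] [])) (cond (Nat.blt c 42) (cond (Nat.beq c 41) [⟨51, -1, 1⟩] []) (cond (Nat.beq c 42) [⟨52, -1, 1⟩] []))) (cond (Nat.blt c 75) (cond (Nat.blt c 74) (cond (Nat.beq c 43) [⟨53, -1, 1⟩] []) (cond (Nat.beq c 74) [⟨79, -1, 1⟩] [])) (cond (Nat.blt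 c 76) (cond (Nat.beq c 75) [⟨80, -1, 1⟩] []) (cond (Nat.beq c 76) [⟨81, -1, 1⟩] [])))) (cond (Nat.blt c 98) (cond (Nat.blt c 96) (cond (Nat.blt c 78) (cond (Nat.beq c 77) [⟨82, -1, 1⟩] []) (cond (Nat.beq c 78) [⟨83, -1, 1⟩] [])) (cond (Nat.blt c 97) (cond (Nat.beq c 96) [⟨107, -1, 1⟩] []) (cond (Nat.beq c 97) [⟨108, -1, 1⟩] []))) (cond (Nat.blt c 100) (cond (Nat.blt c 99) (cond (Nat.beq c 98) [⟨109, -1, 1⟩] []) (cond (Nat.beq c 99) [⟨110, -1, 1⟩] [])) (cond (Nat.blt c 101) (cond (Nat.beq c 100) [⟨111, -1, 1⟩] []) (cond (Nat.beq c 101) [⟨113, 1, 1⟩] [])))))) (cond (Nat.blt c 173) (cond (Nat.blt c 141) (cond (Nat.blt c 106) (cond (Nat.blt c 104) (cond (Nat.blt c 103) (cond (Nat.beq c 102) [⟨114, 1, 1⟩] []) (cond (Nat.beq c 103) [⟨115, 1, 1⟩] [])) (cond (Nat.blt c 105) (cond (Nat.beq c 104) [⟨116,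 1, 1⟩] []) (cond (Nat.beq c 105) [⟨117, 1, 1⟩] []))) (cond (Nat.blt c 139) (cond (Nat.blt c 138) (cond (Nat.beq c 106) [⟨149, -1, 2⟩, ⟨0, 0, 1⟩, ⟨1, 1, 1⟩, ⟨2, 0, 1⟩, ⟨3, 0, 1⟩, ⟨4, 0, 1⟩, ⟨5, 0, 1⟩, ⟨6, 0, 1⟩, ⟨7, 0, 1⟩] []) (cond (Nat.beq c 138) [⟨150, -1, 1⟩] [])) (cond (Nat.blt c 140) (cond (Nat.beq c 139) [⟨151, -1, 1⟩] []) (cond (Nat.beq c 140) [⟨152, -1, 1⟩] [])))) (cond (Nat.blt c 146) (cond (Nat.blt c 144) (cond (Nat.blt c 142) (cond (Nat.beq c 141) [⟨153, -1, 1⟩] []) (cond (Nat.beq c 142) [⟨154, -1, 1⟩] [])) (cond (Nat.blt c 145) (cond (Nat.beq c 144) [⟨155, 1, 1⟩] []) (cond (Nat.beq c 145) [⟨156, 1, 1⟩] []))) (cond (Nat.blt c 148) (cond (Nat.blt c 147) (cond (Nat.beq c 146) [⟨157, 1, 1⟩] []) (cond (Nat.beq c 147) [⟨158, 1, 1⟩] [])) (cond (Nat.blt c 172) (cond (Nat.beq c 148) [⟨159,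 1, 1⟩] []) (cond (Nat.beq c 172) [⟨177, 1, 1⟩] []))))) (cond (Nat.blt c 206) (cond (Nat.blt c 202) (cond (Nat.blt c 175) (cond (Nat.blt c 174) (cond (Nat.beq c 173) [⟨178, 1, 1⟩] []) (cond (Nat.beq c 174) [⟨179, 1, 1⟩] [])) (cond (Nat.blt c 176) (cond (Nat.beq c 175) [⟨180, 1, 1⟩] []) (cond (Nat.beq c 176) [⟨181, 1, 1⟩] []))) (cond (Nat.blt c 204) (cond (Nat.blt c 203) (cond (Nat.beq c 202) [⟨212, 1, 1⟩] []) (cond (Nat.beq c 203) [⟨213, 1, 1⟩] [])) (cond (Nat.blt c 205) (cond (Nat.beq c 204) [⟨214, 1, 1⟩] []) (cond (Nat.beq c 205) [⟨215, 1, 1⟩] [])))) (cond (Nat.blt c 210) (cond (Nat.blt c 208) (cond (Nat.blt c 207) (cond (Nat.beq c 206) [⟨216, 1, 1⟩] []) (cond (Nat.beq c 207) [⟨217, 1, 1⟩] [])) (cond (Nat.blt c 209) (cond (Nat.beq c 208) [⟨218, 1, 1⟩] []) (cond (Nat.beq c 209) [⟨219, 1, 1⟩] [])))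 (cond (Nat.blt c 232) (cond (Nat.blt c 211) (cond (Nat.beq c 210) [⟨220, 1, 1⟩] []) (cond (Nat.beq c 211) [⟨221, 1, 1⟩] [])) (cond (Nat.blt c 239) (cond (Nat.beq c 232) [⟨233, 1, 1⟩] []) (cond (Nat.blt c 240) (cond (Nat.beq c 239) [⟨241, 1, 1⟩] []) (cond (Nat.beq c 240) [⟨242, 1, 1⟩] [])))))))

/-- Compiled columns of `x_142` for type E8. -/
def colsE8_142 (c : ℕ) : List CEnt :=
  cond (Nat.blt c 102) (cond (Nat.blt c 39) (cond (Nat.blt c 12) (cond (Nat.blt c 4) (cond (Nat.blt c 2) (cond (Nat.blt c 1) (cond (Nat.beq c 0) [⟨150, 0, 1⟩] []) (cond (Nat.beq c 1) [⟨150, -1, 1⟩] [])) (cond (Nat.blt c 3) (cond (Nat.beq c 2) [⟨150, 1, 1⟩] []) (cond (Nat.beq c 3) [⟨150, -1, 1⟩] []))) (cond (Nat.blt c 6) (cond (Nat.blt c 5) (cond (Nat.beq c 4) [⟨150, 1, 1⟩] []) (cond (Nat.beq c 5) [⟨150, 0, 1⟩] [])) (cond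 (Nat.blt c 7) (cond (Nat.beq c 6) [⟨150, 0, 1⟩] []) (cond (Nat.beq c 7) [⟨150, 0, 1⟩] [])))) (cond (Nat.blt c 31) (cond (Nat.blt c 22) (cond (Nat.blt c 14) (cond (Nat.beq c 12) [⟨15, -1, 1⟩] []) (cond (Nat.beq c 14) [⟨17, 1, 1⟩] [])) (cond (Nat.blt c 30) (cond (Nat.beq c 22) [⟨24, 1, 1⟩] []) (cond (Nat.beq c 30) [⟨44, -1, 1⟩] []))) (cond (Nat.blt c 33) (cond (Nat.blt c 32) (cond (Nat.beq c 31) [⟨45, -1, 1⟩] []) (cond (Nat.beq c 32) [⟨46, -1, 1⟩] [])) (cond (Nat.blt c 38) (cond (Nat.beq c 33) [⟨47, -1, 1⟩] []) (cond (Nat.beq c 38) [⟨54, 1, 1⟩] []))))) (cond (Nat.blt c 73) (cond (Nat.blt c 43) (cond (Nat.blt c 41) (cond (Nat.blt c 40) (cond (Nat.beq c 39) [⟨55, 1, 1⟩] []) (cond (Nat.beq c 40) [⟨56, 1, 1⟩] [])) (cond (Nat.blt c 42) (cond (Nat.beq c 41) [⟨57, 1, 1⟩] []) (cond (Nat.beq c 42) [⟨58,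 1, 1⟩] []))) (cond (Nat.blt c 71) (cond (Nat.blt c 70) (cond (Nat.beq c 43) [⟨59, 1, 1⟩] []) (cond (Nat.beq c 70) [⟨79, -1, 1⟩] [])) (cond (Nat.blt c 72) (cond (Nat.beq c 71) [⟨80, -1, 1⟩] []) (cond (Nat.beq c 72) [⟨81, -1, 1⟩] [])))) (cond (Nat.blt c 94) (cond (Nat.blt c 92) (cond (Nat.blt c 78) (cond (Nat.beq c 73) [⟨82, -1, 1⟩] []) (cond (Nat.beq c 78) [⟨84, 1, 1⟩] [])) (cond (Nat.blt c 93) (cond (Nat.beq c 92) [⟨107, -1, 1⟩] []) (cond (Nat.beq c 93) [⟨108, -1, 1⟩] []))) (cond (Nat.blt c 100) (cond (Nat.blt c 95) (cond (Nat.beq c 94) [⟨109, -1, 1⟩] []) (cond (Nat.beq c 95) [⟨110, -1, 1⟩] [])) (cond (Nat.blt c 101) (cond (Nat.beq c 100) [⟨112, 1, 1⟩] []) (cond (Nat.beq c 101) [⟨118, 1, 1⟩] [])))))) (cond (Nat.blt c 173) (cond (Nat.blt c 136) (cond (Nat.blt c 106) (cond (Nat.blt c 104) (cond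 (Nat.blt c 103) (cond (Nat.beq c 102) [⟨119, 1, 1⟩] []) (cond (Nat.beq c 103) [⟨120, 1, 1⟩] [])) (cond (Nat.blt c 105) (cond (Nat.beq c 104) [⟨121, 1, 1⟩] []) (cond (Nat.beq c 105) [⟨150, -1, 2⟩, ⟨0, 0, 1⟩, ⟨1, 1, 1⟩, ⟨2, 0, 1⟩, ⟨3, 1, 1⟩, ⟨4, 0, 1⟩, ⟨5, 0, 1⟩, ⟨6, 0, 1⟩, ⟨7, 0, 1⟩] []))) (cond (Nat.blt c 134) (cond (Nat.blt c 117) (cond (Nat.beq c 106) [⟨138, 1, 1⟩] []) (cond (Nat.beq c 117) [⟨149, -1, 1⟩] [])) (cond (Nat.blt c 135) (cond (Nat.beq c 134) [⟨151, -1, 1⟩] []) (cond (Nat.beq c 135) [⟨152, -1, 1⟩] [])))) (cond (Nat.blt c 146) (cond (Nat.blt c 143) (cond (Nat.blt c 137) (cond (Nat.beq c 136) [⟨153, -1, 1⟩] []) (cond (Nat.beq c 137) [⟨154, -1, 1⟩] [])) (cond (Nat.blt c 145) (cond (Nat.beq c 143) [⟨155, -1, 1⟩] []) (cond (Nat.beq c 145) [⟨160, 1, 1⟩] []))) (cond (Nat.blt c 148) (cond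 (Nat.blt c 147) (cond (Nat.beq c 146) [⟨161, 1, 1⟩] []) (cond (Nat.beq c 147) [⟨162, 1, 1⟩] [])) (cond (Nat.blt c 171) (cond (Nat.beq c 148) [⟨163, 1, 1⟩] []) (cond (Nat.beq c 171) [⟨177, -1, 1⟩] []))))) (cond (Nat.blt c 200) (cond (Nat.blt c 196) (cond (Nat.blt c 175) (cond (Nat.blt c 174) (cond (Nat.beq c 173) [⟨182, 1, 1⟩] []) (cond (Nat.beq c 174) [⟨183, 1, 1⟩] [])) (cond (Nat.blt c 176) (cond (Nat.beq c 175) [⟨184, 1, 1⟩] []) (cond (Nat.beq c 176) [⟨185, 1, 1⟩] []))) (cond (Nat.blt c 198) (cond (Nat.blt c 197) (cond (Nat.beq c 196) [⟨212, -1, 1⟩] []) (cond (Nat.beq c 197) [⟨213, -1, 1⟩] [])) (cond (Nat.blt c 199) (cond (Nat.beq c 198) [⟨214, -1, 1⟩] []) (cond (Nat.beq c 199) [⟨215, -1, 1⟩] [])))) (cond (Nat.blt c 210) (cond (Nat.blt c 208) (cond (Nat.blt c 201) (cond (Nat.beq c 200) [⟨216,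 -1, 1⟩] []) (cond (Nat.beq c 201) [⟨217, -1, 1⟩] [])) (cond (Nat.blt c 209) (cond (Nat.beq c 208) [⟨222, 1, 1⟩] []) (cond (Nat.beq c 209) [⟨223, 1, 1⟩] []))) (cond (Nat.blt c 231) (cond (Nat.blt c 211) (cond (Nat.beq c 210) [⟨224, 1, 1⟩] []) (cond (Nat.beq c 211) [⟨225, 1, 1⟩] [])) (cond (Nat.blt c 238) (cond (Nat.beq c 231) [⟨233, -1, 1⟩] []) (cond (Nat.blt c 240) (cond (Nat.beq c 238) [⟨241, -1, 1⟩] []) (cond (Nat.beq c 240) [⟨243, 1, 1⟩] [])))))))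

/-- Compiled columns of `x_143` for type E8. -/
def colsE8_143 (c : ℕ) : List CEnt :=
  cond (Nat.blt c 102) (cond (Nat.blt c 36) (cond (Nat.blt c 11) (cond (Nat.blt c 4) (cond (Nat.blt c 2) (cond (Nat.blt c 1) (cond (Nat.beq c 0) [⟨151, 0, 1⟩] []) (cond (Nat.beq c 1) [⟨151, -1, 1⟩] [])) (cond (Nat.blt c 3) (cond (Nat.beq c 2) [⟨151, 1, 1⟩] []) (cond (Nat.beq c 3) [⟨151, 0, 1⟩] []))) (cond (Nat.blt c 6) (cond (Nat.blt c 5) (cond (Nat.beq c 4) [⟨151, -1, 1⟩] []) (cond (Nat.beq c 5) [⟨151, 1, 1⟩] [])) (cond (Nat.blt c 7) (cond (Nat.beq c 6) [⟨151, 0, 1⟩] []) (cond (Nat.beq c 7) [⟨151, 0, 1⟩] [])))) (cond (Nat.blt c 31) (cond (Nat.blt c 22) (cond (Nat.blt c 14) (cond (Nat.beq c 11) [⟨15, -1, 1⟩] []) (cond (Nat.beq c 14) [⟨18, -1, 1⟩] [])) (cond (Nat.blt c 29) (cond (Nat.beq c 22) [⟨25, -1, 1⟩] [])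 (cond (Nat.beq c 29) [⟨44, -1, 1⟩] []))) (cond (Nat.blt c 33) (cond (Nat.blt c 32) (cond (Nat.beq c 31) [⟨48, 1, 1⟩] []) (cond (Nat.beq c 32) [⟨49, 1, 1⟩] [])) (cond (Nat.blt c 35) (cond (Nat.beq c 33) [⟨50, 1, 1⟩] []) (cond (Nat.beq c 35) [⟨54, 1, 1⟩] []))))) (cond (Nat.blt c 73) (cond (Nat.blt c 43) (cond (Nat.blt c 41) (cond (Nat.blt c 37) (cond (Nat.beq c 36) [⟨55, 1, 1⟩] []) (cond (Nat.beq c 37) [⟨56, 1, 1⟩] [])) (cond (Nat.blt c 42) (cond (Nat.beq c 41) [⟨60, -1, 1⟩] []) (cond (Nat.beq c 42) [⟨61, -1, 1⟩] []))) (cond (Nat.blt c 68) (cond (Nat.blt c 67) (cond (Nat.beq c 43) [⟨62, -1, 1⟩] []) (cond (Nat.beq c 67) [⟨79, -1, 1⟩] [])) (cond (Nat.blt c 69) (cond (Nat.beq c 68) [⟨80, -1, 1⟩] []) (cond (Nat.beq c 69) [⟨81, -1, 1⟩] [])))) (cond (Nat.blt c 91) (cond (Nat.blt c 89) (cond (Nat.blt c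 77) (cond (Nat.beq c 73) [⟨83, 1, 1⟩] []) (cond (Nat.beq c 77) [⟨84, 1, 1⟩] [])) (cond (Nat.blt c 90) (cond (Nat.beq c 89) [⟨107, -1, 1⟩] []) (cond (Nat.beq c 90) [⟨108, -1, 1⟩] []))) (cond (Nat.blt c 99) (cond (Nat.blt c 95) (cond (Nat.beq c 91) [⟨109, -1, 1⟩] []) (cond (Nat.beq c 95) [⟨111, 1, 1⟩] [])) (cond (Nat.blt c 101) (cond (Nat.beq c 99) [⟨112, 1, 1⟩] []) (cond (Nat.beq c 101) [⟨122, 1, 1⟩] [])))))) (cond (Nat.blt c 172) (cond (Nat.blt c 132) (cond (Nat.blt c 106) (cond (Nat.blt c 104) (cond (Nat.blt c 103) (cond (Nat.beq c 102) [⟨123, 1, 1⟩] []) (cond (Nat.beq c 103) [⟨124, 1, 1⟩] [])) (cond (Nat.blt c 105) (cond (Nat.beq c 104) [⟨151, -1, 2⟩, ⟨0, 0, 1⟩, ⟨1, 1, 1⟩, ⟨2, 0, 1⟩, ⟨3, 1, 1⟩, ⟨4, 1, 1⟩, ⟨5, 0, 1⟩, ⟨6, 0, 1⟩, ⟨7, 0, 1⟩] []) (cond (Nat.beq c 105) [⟨134, 1, 1⟩] []))) (cond (Nat.blt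 c 121) (cond (Nat.blt c 116) (cond (Nat.beq c 106) [⟨139, 1, 1⟩] []) (cond (Nat.beq c 116) [⟨149, -1, 1⟩] [])) (cond (Nat.blt c 131) (cond (Nat.beq c 121) [⟨150, -1, 1⟩] []) (cond (Nat.beq c 131) [⟨152, -1, 1⟩] [])))) (cond (Nat.blt c 146) (cond (Nat.blt c 143) (cond (Nat.blt c 133) (cond (Nat.beq c 132) [⟨153, -1, 1⟩] []) (cond (Nat.beq c 133) [⟨154, -1, 1⟩] [])) (cond (Nat.blt c 144) (cond (Nat.beq c 143) [⟨156, -1, 1⟩] []) (cond (Nat.beq c 144) [⟨160, -1, 1⟩] []))) (cond (Nat.blt c 148) (cond (Nat.blt c 147) (cond (Nat.beq c 146) [⟨164, 1, 1⟩] []) (cond (Nat.beq c 147) [⟨165, 1, 1⟩] [])) (cond (Nat.blt c 171) (cond (Nat.beq c 148) [⟨166, 1, 1⟩] []) (cond (Nat.beq c 171) [⟨178, -1, 1⟩] []))))) (cond (Nat.blt c 200) (cond (Nat.blt c 193) (cond (Nat.blt c 175) (cond (Nat.blt c 174) (cond (Nat.beq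 c 172) [⟨182, -1, 1⟩] []) (cond (Nat.beq c 174) [⟨186, 1, 1⟩] [])) (cond (Nat.blt c 176) (cond (Nat.beq c 175) [⟨187, 1, 1⟩] []) (cond (Nat.beq c 176) [⟨188, 1, 1⟩] []))) (cond (Nat.blt c 195) (cond (Nat.blt c 194) (cond (Nat.beq c 193) [⟨212, 1, 1⟩] []) (cond (Nat.beq c 194) [⟨213, 1, 1⟩] [])) (cond (Nat.blt c 199) (cond (Nat.beq c 195) [⟨214, 1, 1⟩] []) (cond (Nat.beq c 199) [⟨218, -1, 1⟩] [])))) (cond (Nat.blt c 207) (cond (Nat.blt c 205) (cond (Nat.blt c 201) (cond (Nat.beq c 200) [⟨219, -1, 1⟩] []) (cond (Nat.beq c 201) [⟨220, -1, 1⟩] [])) (cond (Nat.blt c 206) (cond (Nat.beq c 205) [⟨222, -1, 1⟩] []) (cond (Nat.beq c 206) [⟨223, -1, 1⟩] []))) (cond (Nat.blt c 230) (cond (Nat.blt c 211) (cond (Nat.beq c 207) [⟨224, -1, 1⟩] []) (cond (Nat.beq c 211) [⟨226, 1, 1⟩] [])) (cond (Nat.blt c 237)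 (cond (Nat.beq c 230) [⟨233, 1, 1⟩] []) (cond (Nat.blt c 240) (cond (Nat.beq c 237) [⟨241, 1, 1⟩] []) (cond (Nat.beq c 240) [⟨244, 1, 1⟩] [])))))))

/-- Compiled columns of `x_144` for type E8. -/
def colsE8_144 (c : ℕ) : List CEnt :=
  cond (Nat.blt c 102) (cond (Nat.blt c 36) (cond (Nat.blt c 10) (cond (Nat.blt c 4) (cond (Nat.blt c 2) (cond (Nat.blt c 1) (cond (Nat.beq c 0) [⟨152, 0, 1⟩] []) (cond (Nat.beq c 1) [⟨152, -1, 1⟩] [])) (cond (Nat.blt c 3) (cond (Nat.beq c 2) [⟨152, 1, 1⟩] []) (cond (Nat.beq c 3) [⟨152, 0, 1⟩] []))) (cond (Nat.blt c 6) (cond (Nat.blt c 5) (cond (Nat.beq c 4) [⟨152, 0, 1⟩] []) (cond (Nat.beq c 5) [⟨152, -1, 1⟩] [])) (cond (Nat.blt c 7) (cond (Nat.beq c 6) [⟨152, 1, 1⟩] []) (cond (Nat.beq c 7) [⟨152, 0, 1⟩] [])))) (cond (Nat.blt c 30) (cond (Nat.blt c 22) (cond (Nat.blt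 c 14) (cond (Nat.beq c 10) [⟨15, -1, 1⟩] []) (cond (Nat.beq c 14) [⟨19, 1, 1⟩] [])) (cond (Nat.blt c 29) (cond (Nat.beq c 22) [⟨26, 1, 1⟩] []) (cond (Nat.beq c 29) [⟨45, 1, 1⟩] []))) (cond (Nat.blt c 33) (cond (Nat.blt c 32) (cond (Nat.beq c 30) [⟨48, 1, 1⟩] []) (cond (Nat.beq c 32) [⟨51, -1, 1⟩] [])) (cond (Nat.blt c 34) (cond (Nat.beq c 33) [⟨52, -1, 1⟩] []) (cond (Nat.beq c 34) [⟨54, 1, 1⟩] []))))) (cond (Nat.blt c 72) (cond (Nat.blt c 43) (cond (Nat.blt c 39) (cond (Nat.blt c 37) (cond (Nat.beq c 36) [⟨57, -1, 1⟩] []) (cond (Nat.beq c 37) [⟨58, -1, 1⟩] [])) (cond (Nat.blt c 40) (cond (Nat.beq c 39) [⟨60, -1, 1⟩] []) (cond (Nat.beq c 40) [⟨61, -1, 1⟩] []))) (cond (Nat.blt c 66) (cond (Nat.blt c 65) (cond (Nat.beq c 43) [⟨63, 1, 1⟩] []) (cond (Nat.beq c 65) [⟨79, -1, 1⟩] [])) (cond (Nat.blt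 c 69) (cond (Nat.beq c 66) [⟨80, -1, 1⟩] []) (cond (Nat.beq c 69) [⟨82, 1, 1⟩] [])))) (cond (Nat.blt c 91) (cond (Nat.blt c 87) (cond (Nat.blt c 76) (cond (Nat.beq c 72) [⟨83, 1, 1⟩] []) (cond (Nat.beq c 76) [⟨84, 1, 1⟩] [])) (cond (Nat.blt c 88) (cond (Nat.beq c 87) [⟨107, -1, 1⟩] []) (cond (Nat.beq c 88) [⟨108, -1, 1⟩] []))) (cond (Nat.blt c 98) (cond (Nat.blt c 94) (cond (Nat.beq c 91) [⟨110, 1, 1⟩] []) (cond (Nat.beq c 94) [⟨111, 1, 1⟩] [])) (cond (Nat.blt c 101) (cond (Nat.beq c 98) [⟨112, 1, 1⟩] []) (cond (Nat.beq c 101) [⟨125, 1, 1⟩] [])))))) (cond (Nat.blt c 172) (cond (Nat.blt c 129) (cond (Nat.blt c 106) (cond (Nat.blt c 104) (cond (Nat.blt c 103) (cond (Nat.beq c 102) [⟨126, 1, 1⟩] []) (cond (Nat.beq c 103) [⟨152, -1, 2⟩, ⟨0, 0, 1⟩, ⟨1, 1, 1⟩, ⟨2, 0, 1⟩, ⟨3, 1, 1⟩, ⟨4, 1, 1⟩, ⟨5, 1,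 1⟩, ⟨6, 0, 1⟩, ⟨7, 0, 1⟩] [])) (cond (Nat.blt c 105) (cond (Nat.beq c 104) [⟨131, 1, 1⟩] []) (cond (Nat.beq c 105) [⟨135, 1, 1⟩] []))) (cond (Nat.blt c 120) (cond (Nat.blt c 115) (cond (Nat.beq c 106) [⟨140, 1, 1⟩] []) (cond (Nat.beq c 115) [⟨149, -1, 1⟩] [])) (cond (Nat.blt c 124) (cond (Nat.beq c 120) [⟨150, -1, 1⟩] []) (cond (Nat.beq c 124) [⟨151, -1, 1⟩] [])))) (cond (Nat.blt c 145) (cond (Nat.blt c 143) (cond (Nat.blt c 130) (cond (Nat.beq c 129) [⟨153, -1, 1⟩] []) (cond (Nat.beq c 130) [⟨154, -1, 1⟩] [])) (cond (Nat.blt c 144) (cond (Nat.beq c 143) [⟨157, -1, 1⟩] []) (cond (Nat.beq c 144) [⟨161, -1, 1⟩] []))) (cond (Nat.blt c 148) (cond (Nat.blt c 147) (cond (Nat.beq c 145) [⟨164, -1, 1⟩] []) (cond (Nat.beq c 147) [⟨167, 1, 1⟩] [])) (cond (Nat.blt c 171) (cond (Nat.beq c 148) [⟨168, 1, 1⟩]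 []) (cond (Nat.beq c 171) [⟨179, -1, 1⟩] []))))) (cond (Nat.blt c 198) (cond (Nat.blt c 192) (cond (Nat.blt c 175) (cond (Nat.blt c 173) (cond (Nat.beq c 172) [⟨183, -1, 1⟩] []) (cond (Nat.beq c 173) [⟨186, -1, 1⟩] [])) (cond (Nat.blt c 176) (cond (Nat.beq c 175) [⟨189, 1, 1⟩] []) (cond (Nat.beq c 176) [⟨190, 1, 1⟩] []))) (cond (Nat.blt c 195) (cond (Nat.blt c 194) (cond (Nat.beq c 192) [⟨212, -1, 1⟩] []) (cond (Nat.beq c 194) [⟨215, 1, 1⟩] [])) (cond (Nat.blt c 197) (cond (Nat.beq c 195) [⟨216, 1, 1⟩] []) (cond (Nat.beq c 197) [⟨218, 1, 1⟩] [])))) (cond (Nat.blt c 207) (cond (Nat.blt c 203) (cond (Nat.blt c 201) (cond (Nat.beq c 198) [⟨219, 1, 1⟩] []) (cond (Nat.beq c 201) [⟨221, -1, 1⟩] [])) (cond (Nat.blt c 204) (cond (Nat.beq c 203) [⟨222, 1, 1⟩] []) (cond (Nat.beq c 204) [⟨223, 1, 1⟩] [])))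 (cond (Nat.blt c 229) (cond (Nat.blt c 210) (cond (Nat.beq c 207) [⟨225, -1, 1⟩] []) (cond (Nat.beq c 210) [⟨226, -1, 1⟩] [])) (cond (Nat.blt c 236) (cond (Nat.beq c 229) [⟨233, -1, 1⟩] []) (cond (Nat.blt c 240) (cond (Nat.beq c 236) [⟨241, -1, 1⟩] []) (cond (Nat.beq c 240) [⟨245, 1, 1⟩] [])))))))

/-- Compiled columns of `x_145` for type E8. -/
def colsE8_145 (c : ℕ) : List CEnt :=
  cond (Nat.blt c 102) (cond (Nat.blt c 35) (cond (Nat.blt c 9) (cond (Nat.blt c 4) (cond (Nat.blt c 2) (cond (Nat.blt c 1) (cond (Nat.beq c 0) [⟨153, 0, 1⟩] []) (cond (Nat.beq c 1) [⟨153, -1, 1⟩] [])) (cond (Nat.blt c 3) (cond (Nat.beq c 2) [⟨153, 1, 1⟩] []) (cond (Nat.beq c 3) [⟨153, 0, 1⟩] []))) (cond (Nat.blt c 6) (cond (Nat.blt c 5) (cond (Nat.beq c 4) [⟨153, 0, 1⟩] []) (cond (Nat.beq c 5) [⟨153, 0, 1⟩] [])) (cond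 (Nat.blt c 7) (cond (Nat.beq c 6) [⟨153, -1, 1⟩] []) (cond (Nat.beq c 7) [⟨153, 1, 1⟩] [])))) (cond (Nat.blt c 30) (cond (Nat.blt c 22) (cond (Nat.blt c 14) (cond (Nat.beq c 9) [⟨15, -1, 1⟩] []) (cond (Nat.beq c 14) [⟨20, -1, 1⟩] [])) (cond (Nat.blt c 29) (cond (Nat.beq c 22) [⟨27, -1, 1⟩] []) (cond (Nat.beq c 29) [⟨46, -1, 1⟩] []))) (cond (Nat.blt c 33) (cond (Nat.blt c 31) (cond (Nat.beq c 30) [⟨49, -1, 1⟩] []) (cond (Nat.beq c 31) [⟨51, -1, 1⟩] [])) (cond (Nat.blt c 34) (cond (Nat.beq c 33) [⟨53, 1, 1⟩] []) (cond (Nat.beq c 34) [⟨55, -1, 1⟩] []))))) (cond (Nat.blt c 71) (cond (Nat.blt c 42) (cond (Nat.blt c 38) (cond (Nat.blt c 37) (cond (Nat.beq c 35) [⟨57, -1, 1⟩] []) (cond (Nat.beq c 37) [⟨59, 1, 1⟩] [])) (cond (Nat.blt c 40) (cond (Nat.beq c 38) [⟨60, -1, 1⟩] []) (cond (Nat.beq c 40) [⟨62,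 1, 1⟩] []))) (cond (Nat.blt c 66) (cond (Nat.blt c 64) (cond (Nat.beq c 42) [⟨63, 1, 1⟩] []) (cond (Nat.beq c 64) [⟨79, -1, 1⟩] [])) (cond (Nat.blt c 68) (cond (Nat.beq c 66) [⟨81, 1, 1⟩] []) (cond (Nat.beq c 68) [⟨82, 1, 1⟩] [])))) (cond (Nat.blt c 90) (cond (Nat.blt c 86) (cond (Nat.blt c 75) (cond (Nat.beq c 71) [⟨83, 1, 1⟩] []) (cond (Nat.beq c 75) [⟨84, 1, 1⟩] [])) (cond (Nat.blt c 88) (cond (Nat.beq c 86) [⟨107, -1, 1⟩] []) (cond (Nat.beq c 88) [⟨109, 1, 1⟩] []))) (cond (Nat.blt c 97) (cond (Nat.blt c 93) (cond (Nat.beq c 90) [⟨110, 1, 1⟩] []) (cond (Nat.beq c 93) [⟨111, 1, 1⟩] [])) (cond (Nat.blt c 101) (cond (Nat.beq c 97) [⟨112, 1, 1⟩] []) (cond (Nat.beq c 101) [⟨127, 1, 1⟩] [])))))) (cond (Nat.blt c 172) (cond (Nat.blt c 126) (cond (Nat.blt c 106) (cond (Nat.blt c 104) (cond (Nat.blt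 c 103) (cond (Nat.beq c 102) [⟨153, -1, 2⟩, ⟨0, 0, 1⟩, ⟨1, 1, 1⟩, ⟨2, 0, 1⟩, ⟨3, 1, 1⟩, ⟨4, 1, 1⟩, ⟨5, 1, 1⟩, ⟨6, 1, 1⟩, ⟨7, 0, 1⟩] []) (cond (Nat.beq c 103) [⟨129, 1, 1⟩] [])) (cond (Nat.blt c 105) (cond (Nat.beq c 104) [⟨132, 1, 1⟩] []) (cond (Nat.beq c 105) [⟨136, 1, 1⟩] []))) (cond (Nat.blt c 119) (cond (Nat.blt c 114) (cond (Nat.beq c 106) [⟨141, 1, 1⟩] []) (cond (Nat.beq c 114) [⟨149, -1, 1⟩] [])) (cond (Nat.blt c 123) (cond (Nat.beq c 119) [⟨150, -1, 1⟩] []) (cond (Nat.beq c 123) [⟨151, -1, 1⟩] [])))) (cond (Nat.blt c 145) (cond (Nat.blt c 143) (cond (Nat.blt c 128) (cond (Nat.beq c 126) [⟨152, -1, 1⟩] []) (cond (Nat.beq c 128) [⟨154, -1, 1⟩] [])) (cond (Nat.blt c 144) (cond (Nat.beq c 143) [⟨158, -1, 1⟩] []) (cond (Nat.beq c 144) [⟨162, -1, 1⟩] []))) (cond (Nat.blt c 148) (cond (Nat.blt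 c 146) (cond (Nat.beq c 145) [⟨165, -1, 1⟩] []) (cond (Nat.beq c 146) [⟨167, -1, 1⟩] [])) (cond (Nat.blt c 171) (cond (Nat.beq c 148) [⟨169, 1, 1⟩] []) (cond (Nat.beq c 171) [⟨180, -1, 1⟩] []))))) (cond (Nat.blt c 198) (cond (Nat.blt c 192) (cond (Nat.blt c 174) (cond (Nat.blt c 173) (cond (Nat.beq c 172) [⟨184, -1, 1⟩] []) (cond (Nat.beq c 173) [⟨187, -1, 1⟩] [])) (cond (Nat.blt c 176) (cond (Nat.beq c 174) [⟨189, -1, 1⟩] []) (cond (Nat.beq c 176) [⟨191, 1, 1⟩] []))) (cond (Nat.blt c 195) (cond (Nat.blt c 193) (cond (Nat.beq c 192) [⟨213, -1, 1⟩] []) (cond (Nat.beq c 193) [⟨215, -1, 1⟩] [])) (cond (Nat.blt c 196) (cond (Nat.beq c 195) [⟨217, 1, 1⟩] []) (cond (Nat.beq c 196) [⟨218, -1, 1⟩] [])))) (cond (Nat.blt c 206) (cond (Nat.blt c 202) (cond (Nat.blt c 200) (cond (Nat.beq c 198) [⟨220, 1,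 1⟩] []) (cond (Nat.beq c 200) [⟨221, 1, 1⟩] [])) (cond (Nat.blt c 204) (cond (Nat.beq c 202) [⟨222, -1, 1⟩] []) (cond (Nat.beq c 204) [⟨224, 1, 1⟩] []))) (cond (Nat.blt c 228) (cond (Nat.blt c 209) (cond (Nat.beq c 206) [⟨225, 1, 1⟩] []) (cond (Nat.beq c 209) [⟨226, 1, 1⟩] [])) (cond (Nat.blt c 235) (cond (Nat.beq c 228) [⟨233, 1, 1⟩] []) (cond (Nat.blt c 240) (cond (Nat.beq c 235) [⟨241, 1, 1⟩] []) (cond (Nat.beq c 240) [⟨246, 1, 1⟩] [])))))))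

/-- Compiled columns of `x_146` for type E8. -/
def colsE8_146 (c : ℕ) : List CEnt :=
  cond (Nat.blt c 102) (cond (Nat.blt c 35) (cond (Nat.blt c 8) (cond (Nat.blt c 4) (cond (Nat.blt c 2) (cond (Nat.blt c 1) (cond (Nat.beq c 0) [⟨154, 0, 1⟩] []) (cond (Nat.beq c 1) [⟨154, -1, 1⟩] [])) (cond (Nat.blt c 3) (cond (Nat.beq c 2) [⟨154, 1, 1⟩] []) (cond (Nat.beq c 3) [⟨154, 0, 1⟩] []))) (cond (Nat.blt c 6) (cond (Nat.blt c 5) (cond (Nat.beq c 4) [⟨154, 0, 1⟩] []) (cond (Nat.beq c 5) [⟨154, 0, 1⟩] [])) (cond (Nat.blt c 7) (cond (Nat.beq c 6) [⟨154, 0, 1⟩] []) (cond (Nat.beq c 7) [⟨154, -1, 1⟩] [])))) (cond (Nat.blt c 30) (cond (Nat.blt c 22) (cond (Nat.blt c 14) (cond (Nat.beq c 8) [⟨15, -1, 1⟩] []) (cond (Nat.beq c 14) [⟨21, 1, 1⟩] [])) (cond (Nat.blt c 29) (cond (Nat.beq c 22) [⟨28, 1, 1⟩] []) (cond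 (Nat.beq c 29) [⟨47, 1, 1⟩] []))) (cond (Nat.blt c 32) (cond (Nat.blt c 31) (cond (Nat.beq c 30) [⟨50, 1, 1⟩] []) (cond (Nat.beq c 31) [⟨52, 1, 1⟩] [])) (cond (Nat.blt c 34) (cond (Nat.beq c 32) [⟨53, 1, 1⟩] []) (cond (Nat.beq c 34) [⟨56, 1, 1⟩] []))))) (cond (Nat.blt c 70) (cond (Nat.blt c 41) (cond (Nat.blt c 38) (cond (Nat.blt c 36) (cond (Nat.beq c 35) [⟨58, 1, 1⟩] []) (cond (Nat.beq c 36) [⟨59, 1, 1⟩] [])) (cond (Nat.blt c 39) (cond (Nat.beq c 38) [⟨61, 1, 1⟩] []) (cond (Nat.beq c 39) [⟨62, 1, 1⟩] []))) (cond (Nat.blt c 65) (cond (Nat.blt c 64) (cond (Nat.beq c 41) [⟨63, 1, 1⟩] []) (cond (Nat.beq c 64) [⟨80, 1, 1⟩] [])) (cond (Nat.blt c 67) (cond (Nat.beq c 65) [⟨81, 1, 1⟩] []) (cond (Nat.beq c 67) [⟨82, 1, 1⟩] [])))) (cond (Nat.blt c 89) (cond (Nat.blt c 86) (cond (Nat.blt c 74) (cond (Nat.beq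 c 70) [⟨83, 1, 1⟩] []) (cond (Nat.beq c 74) [⟨84, 1, 1⟩] [])) (cond (Nat.blt c 87) (cond (Nat.beq c 86) [⟨108, 1, 1⟩] []) (cond (Nat.beq c 87) [⟨109, 1, 1⟩] []))) (cond (Nat.blt c 96) (cond (Nat.blt c 92) (cond (Nat.beq c 89) [⟨110, 1, 1⟩] []) (cond (Nat.beq c 92) [⟨111, 1, 1⟩] [])) (cond (Nat.blt c 101) (cond (Nat.beq c 96) [⟨112, 1, 1⟩] []) (cond (Nat.beq c 101) [⟨154, -1, 2⟩, ⟨0, 0, 1⟩, ⟨1, 1, 1⟩, ⟨2, 0, 1⟩, ⟨3, 1, 1⟩, ⟨4, 1, 1⟩, ⟨5, 1, 1⟩, ⟨6, 1, 1⟩, ⟨7, 1, 1⟩] [])))))) (cond (Nat.blt c 172) (cond (Nat.blt c 125) (cond (Nat.blt c 106) (cond (Nat.blt c 104) (cond (Nat.blt c 103) (cond (Nat.beq c 102) [⟨128, 1, 1⟩] []) (cond (Nat.beq c 103) [⟨130, 1, 1⟩] [])) (cond (Nat.blt c 105) (cond (Nat.beq c 104) [⟨133, 1, 1⟩] []) (cond (Nat.beq c 105) [⟨137, 1, 1⟩] []))) (cond (Nat.blt c 118) (cond (Nat.blt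 c 113) (cond (Nat.beq c 106) [⟨142, 1, 1⟩] []) (cond (Nat.beq c 113) [⟨149, -1, 1⟩] [])) (cond (Nat.blt c 122) (cond (Nat.beq c 118) [⟨150, -1, 1⟩] []) (cond (Nat.beq c 122) [⟨151, -1, 1⟩] [])))) (cond (Nat.blt c 145) (cond (Nat.blt c 143) (cond (Nat.blt c 127) (cond (Nat.beq c 125) [⟨152, -1, 1⟩] []) (cond (Nat.beq c 127) [⟨153, -1, 1⟩] [])) (cond (Nat.blt c 144) (cond (Nat.beq c 143) [⟨159, -1, 1⟩] []) (cond (Nat.beq c 144) [⟨163, -1, 1⟩] []))) (cond (Nat.blt c 147) (cond (Nat.blt c 146) (cond (Nat.beq c 145) [⟨166, -1, 1⟩] []) (cond (Nat.beq c 146) [⟨168, -1, 1⟩] [])) (cond (Nat.blt c 171) (cond (Nat.beq c 147) [⟨169, -1, 1⟩] []) (cond (Nat.beq c 171) [⟨181, -1, 1⟩] []))))) (cond (Nat.blt c 197) (cond (Nat.blt c 192) (cond (Nat.blt c 174) (cond (Nat.blt c 173) (cond (Nat.beq c 172) [⟨185, -1,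 1⟩] []) (cond (Nat.beq c 173) [⟨188, -1, 1⟩] [])) (cond (Nat.blt c 175) (cond (Nat.beq c 174) [⟨190, -1, 1⟩] []) (cond (Nat.beq c 175) [⟨191, -1, 1⟩] []))) (cond (Nat.blt c 194) (cond (Nat.blt c 193) (cond (Nat.beq c 192) [⟨214, -1, 1⟩] []) (cond (Nat.beq c 193) [⟨216, -1, 1⟩] [])) (cond (Nat.blt c 196) (cond (Nat.beq c 194) [⟨217, -1, 1⟩] []) (cond (Nat.beq c 196) [⟨219, -1, 1⟩] [])))) (cond (Nat.blt c 205) (cond (Nat.blt c 202) (cond (Nat.blt c 199) (cond (Nat.beq c 197) [⟨220, -1, 1⟩] []) (cond (Nat.beq c 199) [⟨221, -1, 1⟩] [])) (cond (Nat.blt c 203) (cond (Nat.beq c 202) [⟨223, -1, 1⟩] []) (cond (Nat.beq c 203) [⟨224, -1, 1⟩] []))) (cond (Nat.blt c 227) (cond (Nat.blt c 208) (cond (Nat.beq c 205) [⟨225, -1, 1⟩] []) (cond (Nat.beq c 208) [⟨226, -1, 1⟩] [])) (cond (Nat.blt c 234) (cond (Nat.beq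 c 227) [⟨233, -1, 1⟩] []) (cond (Nat.blt c 240) (cond (Nat.beq c 234) [⟨241, -1, 1⟩] []) (cond (Nat.beq c 240) [⟨247, 1, 1⟩] [])))))))

/-- Compiled columns of `x_147` for type E8. -/
def colsE8_147 (c : ℕ) : List CEnt :=
  cond (Nat.blt c 98) (cond (Nat.blt c 39) (cond (Nat.blt c 12) (cond (Nat.blt c 4) (cond (Nat.blt c 2) (cond (Nat.blt c 1) (cond (Nat.beq c 0) [⟨155, 1, 1⟩] []) (cond (Nat.beq c 1) [⟨155, -1, 1⟩] [])) (cond (Nat.blt c 3) (cond (Nat.beq c 2) [⟨155, -1, 1⟩] []) (cond (Nat.beq c 3) [⟨155, 0, 1⟩] []))) (cond (Nat.blt c 6) (cond (Nat.blt c 5) (cond (Nat.beq c 4) [⟨155, 1, 1⟩] []) (cond (Nat.beq c 5) [⟨155, 0, 1⟩] [])) (cond (Nat.blt c 7) (cond (Nat.beq c 6) [⟨155, 0, 1⟩] []) (cond (Nat.beq c 7) [⟨155, 0, 1⟩] [])))) (cond (Nat.blt c 26) (cond (Nat.blt c 22) (cond (Nat.blt c 13) (cond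 (Nat.beq c 12) [⟨16, 1, 1⟩] []) (cond (Nat.beq c 13) [⟨17, 1, 1⟩] [])) (cond (Nat.blt c 25) (cond (Nat.beq c 22) [⟨29, -1, 1⟩] []) (cond (Nat.beq c 25) [⟨44, -1, 1⟩] []))) (cond (Nat.blt c 28) (cond (Nat.blt c 27) (cond (Nat.beq c 26) [⟨45, -1, 1⟩] []) (cond (Nat.beq c 27) [⟨46, -1, 1⟩] [])) (cond (Nat.blt c 38) (cond (Nat.beq c 28) [⟨47, -1, 1⟩] []) (cond (Nat.beq c 38) [⟨64, -1, 1⟩] []))))) (cond (Nat.blt c 63) (cond (Nat.blt c 43) (cond (Nat.blt c 41) (cond (Nat.blt c 40) (cond (Nat.beq c 39) [⟨65, -1, 1⟩] []) (cond (Nat.beq c 40) [⟨66, -1, 1⟩] [])) (cond (Nat.blt c 42) (cond (Nat.beq c 41) [⟨67, -1, 1⟩] []) (cond (Nat.beq c 42) [⟨68, -1, 1⟩] []))) (cond (Nat.blt c 61) (cond (Nat.blt c 60) (cond (Nat.beq c 43) [⟨69, -1, 1⟩] []) (cond (Nat.beq c 60) [⟨79, -1, 1⟩] [])) (cond (Nat.blt c 62) (cond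 (Nat.beq c 61) [⟨80, -1, 1⟩] []) (cond (Nat.beq c 62) [⟨81, -1, 1⟩] [])))) (cond (Nat.blt c 94) (cond (Nat.blt c 92) (cond (Nat.blt c 78) (cond (Nat.beq c 63) [⟨82, -1, 1⟩] []) (cond (Nat.beq c 78) [⟨85, -1, 1⟩] [])) (cond (Nat.blt c 93) (cond (Nat.beq c 92) [⟨113, -1, 1⟩] []) (cond (Nat.beq c 93) [⟨114, -1, 1⟩] []))) (cond (Nat.blt c 96) (cond (Nat.blt c 95) (cond (Nat.beq c 94) [⟨115, -1, 1⟩] []) (cond (Nat.beq c 95) [⟨116, -1, 1⟩] [])) (cond (Nat.blt c 97) (cond (Nat.beq c 96) [⟨118, 1, 1⟩] []) (cond (Nat.beq c 97) [⟨119, 1, 1⟩] [])))))) (cond (Nat.blt c 173) (cond (Nat.blt c 135) (cond (Nat.blt c 106) (cond (Nat.blt c 100) (cond (Nat.blt c 99) (cond (Nat.beq c 98) [⟨120, 1, 1⟩] []) (cond (Nat.beq c 99) [⟨121, 1, 1⟩] [])) (cond (Nat.blt c 105) (cond (Nat.beq c 100) [⟨155, -1, 2⟩, ⟨0, 0, 1⟩,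 ⟨1, 1, 1⟩, ⟨2, 1, 1⟩, ⟨3, 1, 1⟩, ⟨4, 0, 1⟩, ⟨5, 0, 1⟩, ⟨6, 0, 1⟩, ⟨7, 0, 1⟩] []) (cond (Nat.beq c 105) [⟨143, 1, 1⟩] []))) (cond (Nat.blt c 112) (cond (Nat.blt c 111) (cond (Nat.beq c 106) [⟨144, -1, 1⟩] []) (cond (Nat.beq c 111) [⟨149, 1, 1⟩] [])) (cond (Nat.blt c 134) (cond (Nat.beq c 112) [⟨150, -1, 1⟩] []) (cond (Nat.beq c 134) [⟨156, -1, 1⟩] [])))) (cond (Nat.blt c 140) (cond (Nat.blt c 137) (cond (Nat.blt c 136) (cond (Nat.beq c 135) [⟨157, -1, 1⟩] []) (cond (Nat.beq c 136) [⟨158, -1, 1⟩] [])) (cond (Nat.blt c 139) (cond (Nat.beq c 137) [⟨159, -1, 1⟩] []) (cond (Nat.beq c 139) [⟨160, 1, 1⟩] []))) (cond (Nat.blt c 142) (cond (Nat.blt c 141) (cond (Nat.beq c 140) [⟨161, 1, 1⟩] []) (cond (Nat.beq c 141) [⟨162, 1, 1⟩] [])) (cond (Nat.blt c 170) (cond (Nat.beq c 142) [⟨163, 1, 1⟩] []) (cond (Nat.beq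 c 170) [⟨177, 1, 1⟩] []))))) (cond (Nat.blt c 190) (cond (Nat.blt c 186) (cond (Nat.blt c 175) (cond (Nat.blt c 174) (cond (Nat.beq c 173) [⟨192, 1, 1⟩] []) (cond (Nat.beq c 174) [⟨193, 1, 1⟩] [])) (cond (Nat.blt c 176) (cond (Nat.beq c 175) [⟨194, 1, 1⟩] []) (cond (Nat.beq c 176) [⟨195, 1, 1⟩] []))) (cond (Nat.blt c 188) (cond (Nat.blt c 187) (cond (Nat.beq c 186) [⟨212, 1, 1⟩] []) (cond (Nat.beq c 187) [⟨213, 1, 1⟩] [])) (cond (Nat.blt c 189) (cond (Nat.beq c 188) [⟨214, 1, 1⟩] []) (cond (Nat.beq c 189) [⟨215, 1, 1⟩] [])))) (cond (Nat.blt c 210) (cond (Nat.blt c 208) (cond (Nat.blt c 191) (cond (Nat.beq c 190) [⟨216, 1, 1⟩] []) (cond (Nat.beq c 191) [⟨217, 1, 1⟩] [])) (cond (Nat.blt c 209) (cond (Nat.beq c 208) [⟨227, 1, 1⟩] []) (cond (Nat.beq c 209) [⟨228, 1, 1⟩] []))) (cond (Nat.blt c 226)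 (cond (Nat.blt c 211) (cond (Nat.beq c 210) [⟨229, 1, 1⟩] []) (cond (Nat.beq c 211) [⟨230, 1, 1⟩] [])) (cond (Nat.blt c 238) (cond (Nat.beq c 226) [⟨233, 1, 1⟩] []) (cond (Nat.blt c 239) (cond (Nat.beq c 238) [⟨242, -1, 1⟩] []) (cond (Nat.beq c 239) [⟨243, -1, 1⟩] [])))))))

/-- Compiled columns of `x_148` for type E8. -/
def colsE8_148 (c : ℕ) : List CEnt :=
  cond (Nat.blt c 98) (cond (Nat.blt c 36) (cond (Nat.blt c 11) (cond (Nat.blt c 4) (cond (Nat.blt c 2) (cond (Nat.blt c 1) (cond (Nat.beq c 0) [⟨156, 1, 1⟩] []) (cond (Nat.beq c 1) [⟨156, -1, 1⟩] [])) (cond (Nat.blt c 3) (cond (Nat.beq c 2) [⟨156, -1, 1⟩] []) (cond (Nat.beq c 3) [⟨156, 1, 1⟩] []))) (cond (Nat.blt c 6) (cond (Nat.blt c 5) (cond (Nat.beq c 4) [⟨156, -1, 1⟩] []) (cond (Nat.beq c 5) [⟨156, 1, 1⟩] [])) (cond (Nat.blt c 7) (cond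 (Nat.beq c 6) [⟨156, 0, 1⟩] []) (cond (Nat.beq c 7) [⟨156, 0, 1⟩] [])))) (cond (Nat.blt c 26) (cond (Nat.blt c 22) (cond (Nat.blt c 13) (cond (Nat.beq c 11) [⟨16, 1, 1⟩] []) (cond (Nat.beq c 13) [⟨18, -1, 1⟩] [])) (cond (Nat.blt c 24) (cond (Nat.beq c 22) [⟨30, 1, 1⟩] []) (cond (Nat.beq c 24) [⟨44, -1, 1⟩] []))) (cond (Nat.blt c 28) (cond (Nat.blt c 27) (cond (Nat.beq c 26) [⟨48, 1, 1⟩] []) (cond (Nat.beq c 27) [⟨49, 1, 1⟩] [])) (cond (Nat.blt c 35) (cond (Nat.beq c 28) [⟨50, 1, 1⟩] []) (cond (Nat.beq c 35) [⟨64, -1, 1⟩] []))))) (cond (Nat.blt c 63) (cond (Nat.blt c 43) (cond (Nat.blt c 41) (cond (Nat.blt c 37) (cond (Nat.beq c 36) [⟨65, -1, 1⟩] []) (cond (Nat.beq c 37) [⟨66, -1, 1⟩] [])) (cond (Nat.blt c 42) (cond (Nat.beq c 41) [⟨70, 1, 1⟩] []) (cond (Nat.beq c 42) [⟨71, 1, 1⟩] []))) (cond (Nat.blt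 c 58) (cond (Nat.blt c 57) (cond (Nat.beq c 43) [⟨72, 1, 1⟩] []) (cond (Nat.beq c 57) [⟨79, -1, 1⟩] [])) (cond (Nat.blt c 59) (cond (Nat.beq c 58) [⟨80, -1, 1⟩] []) (cond (Nat.beq c 59) [⟨81, -1, 1⟩] [])))) (cond (Nat.blt c 91) (cond (Nat.blt c 89) (cond (Nat.blt c 77) (cond (Nat.beq c 63) [⟨83, 1, 1⟩] []) (cond (Nat.beq c 77) [⟨85, -1, 1⟩] [])) (cond (Nat.blt c 90) (cond (Nat.beq c 89) [⟨113, -1, 1⟩] []) (cond (Nat.beq c 90) [⟨114, -1, 1⟩] []))) (cond (Nat.blt c 96) (cond (Nat.blt c 95) (cond (Nat.beq c 91) [⟨115, -1, 1⟩] []) (cond (Nat.beq c 95) [⟨117, 1, 1⟩] [])) (cond (Nat.blt c 97) (cond (Nat.beq c 96) [⟨122, 1, 1⟩] []) (cond (Nat.beq c 97) [⟨123, 1, 1⟩] [])))))) (cond (Nat.blt c 172) (cond (Nat.blt c 131) (cond (Nat.blt c 106) (cond (Nat.blt c 100) (cond (Nat.blt c 99) (cond (Nat.beq c 98)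 [⟨124, 1, 1⟩] []) (cond (Nat.beq c 99) [⟨156, -1, 2⟩, ⟨0, 0, 1⟩, ⟨1, 1, 1⟩, ⟨2, 1, 1⟩, ⟨3, 1, 1⟩, ⟨4, 1, 1⟩, ⟨5, 0, 1⟩, ⟨6, 0, 1⟩, ⟨7, 0, 1⟩] [])) (cond (Nat.blt c 104) (cond (Nat.beq c 100) [⟨134, 1, 1⟩] []) (cond (Nat.beq c 104) [⟨143, 1, 1⟩] []))) (cond (Nat.blt c 112) (cond (Nat.blt c 110) (cond (Nat.beq c 106) [⟨145, -1, 1⟩] []) (cond (Nat.beq c 110) [⟨149, 1, 1⟩] [])) (cond (Nat.blt c 121) (cond (Nat.beq c 112) [⟨151, -1, 1⟩] []) (cond (Nat.beq c 121) [⟨155, -1, 1⟩] [])))) (cond (Nat.blt c 140) (cond (Nat.blt c 133) (cond (Nat.blt c 132) (cond (Nat.beq c 131) [⟨157, -1, 1⟩] []) (cond (Nat.beq c 132) [⟨158, -1, 1⟩] [])) (cond (Nat.blt c 138) (cond (Nat.beq c 133) [⟨159, -1, 1⟩] []) (cond (Nat.beq c 138) [⟨160, -1, 1⟩] []))) (cond (Nat.blt c 142) (cond (Nat.blt c 141) (cond (Nat.beq c 140)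 [⟨164, 1, 1⟩] []) (cond (Nat.beq c 141) [⟨165, 1, 1⟩] [])) (cond (Nat.blt c 170) (cond (Nat.beq c 142) [⟨166, 1, 1⟩] []) (cond (Nat.beq c 170) [⟨178, 1, 1⟩] []))))) (cond (Nat.blt c 190) (cond (Nat.blt c 183) (cond (Nat.blt c 175) (cond (Nat.blt c 174) (cond (Nat.beq c 172) [⟨192, -1, 1⟩] []) (cond (Nat.beq c 174) [⟨196, 1, 1⟩] [])) (cond (Nat.blt c 176) (cond (Nat.beq c 175) [⟨197, 1, 1⟩] []) (cond (Nat.beq c 176) [⟨198, 1, 1⟩] []))) (cond (Nat.blt c 185) (cond (Nat.blt c 184) (cond (Nat.beq c 183) [⟨212, -1, 1⟩] []) (cond (Nat.beq c 184) [⟨213, -1, 1⟩] [])) (cond (Nat.blt c 189) (cond (Nat.beq c 185) [⟨214, -1, 1⟩] []) (cond (Nat.beq c 189) [⟨218, 1, 1⟩] [])))) (cond (Nat.blt c 207) (cond (Nat.blt c 205) (cond (Nat.blt c 191) (cond (Nat.beq c 190) [⟨219, 1, 1⟩] []) (cond (Nat.beq c 191) [⟨220,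 1, 1⟩] [])) (cond (Nat.blt c 206) (cond (Nat.beq c 205) [⟨227, -1, 1⟩] []) (cond (Nat.beq c 206) [⟨228, -1, 1⟩] []))) (cond (Nat.blt c 225) (cond (Nat.blt c 211) (cond (Nat.beq c 207) [⟨229, -1, 1⟩] []) (cond (Nat.beq c 211) [⟨231, 1, 1⟩] [])) (cond (Nat.blt c 237) (cond (Nat.beq c 225) [⟨233, -1, 1⟩] []) (cond (Nat.blt c 239) (cond (Nat.beq c 237) [⟨242, 1, 1⟩] []) (cond (Nat.beq c 239) [⟨244, -1, 1⟩] [])))))))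

/-- Compiled columns of `x_149` for type E8. -/
def colsE8_149 (c : ℕ) : List CEnt :=
  cond (Nat.blt c 98) (cond (Nat.blt c 36) (cond (Nat.blt c 10) (cond (Nat.blt c 4) (cond (Nat.blt c 2) (cond (Nat.blt c 1) (cond (Nat.beq c 0) [⟨157, 1, 1⟩] []) (cond (Nat.beq c 1) [⟨157, -1, 1⟩] [])) (cond (Nat.blt c 3) (cond (Nat.beq c 2) [⟨157, -1, 1⟩] []) (cond (Nat.beq c 3) [⟨157, 1, 1⟩] []))) (cond (Nat.blt c 6) (cond (Nat.blt c 5) (cond (Nat.beq c 4) [⟨157, 0, 1⟩] []) (cond (Nat.beq c 5) [⟨157, -1, 1⟩] [])) (cond (Nat.blt c 7) (cond (Nat.beq c 6) [⟨157, 1, 1⟩] []) (cond (Nat.beq c 7) [⟨157, 0, 1⟩] [])))) (cond (Nat.blt c 25) (cond (Nat.blt c 22) (cond (Nat.blt c 13) (cond (Nat.beq c 10) [⟨16, 1, 1⟩] []) (cond (Nat.beq c 13) [⟨19, 1, 1⟩] [])) (cond (Nat.blt c 24) (cond (Nat.beq c 22) [⟨31, -1, 1⟩] [])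 (cond (Nat.beq c 24) [⟨45, 1, 1⟩] []))) (cond (Nat.blt c 28) (cond (Nat.blt c 27) (cond (Nat.beq c 25) [⟨48, 1, 1⟩] []) (cond (Nat.beq c 27) [⟨51, -1, 1⟩] [])) (cond (Nat.blt c 34) (cond (Nat.beq c 28) [⟨52, -1, 1⟩] []) (cond (Nat.beq c 34) [⟨64, -1, 1⟩] []))))) (cond (Nat.blt c 62) (cond (Nat.blt c 43) (cond (Nat.blt c 39) (cond (Nat.blt c 37) (cond (Nat.beq c 36) [⟨67, 1, 1⟩] []) (cond (Nat.beq c 37) [⟨68, 1, 1⟩] [])) (cond (Nat.blt c 40) (cond (Nat.beq c 39) [⟨70, 1, 1⟩] []) (cond (Nat.beq c 40) [⟨71, 1, 1⟩] []))) (cond (Nat.blt c 56) (cond (Nat.blt c 55) (cond (Nat.beq c 43) [⟨73, -1, 1⟩] []) (cond (Nat.beq c 55) [⟨79, -1, 1⟩] [])) (cond (Nat.blt c 59) (cond (Nat.beq c 56) [⟨80, -1, 1⟩] []) (cond (Nat.beq c 59) [⟨82, 1, 1⟩] [])))) (cond (Nat.blt c 91) (cond (Nat.blt c 87) (cond (Nat.blt c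 76) (cond (Nat.beq c 62) [⟨83, 1, 1⟩] []) (cond (Nat.beq c 76) [⟨85, -1, 1⟩] [])) (cond (Nat.blt c 88) (cond (Nat.beq c 87) [⟨113, -1, 1⟩] []) (cond (Nat.beq c 88) [⟨114, -1, 1⟩] []))) (cond (Nat.blt c 96) (cond (Nat.blt c 94) (cond (Nat.beq c 91) [⟨116, 1, 1⟩] []) (cond (Nat.beq c 94) [⟨117, 1, 1⟩] [])) (cond (Nat.blt c 97) (cond (Nat.beq c 96) [⟨125, 1, 1⟩] []) (cond (Nat.beq c 97) [⟨126, 1, 1⟩] [])))))) (cond (Nat.blt c 172) (cond (Nat.blt c 124) (cond (Nat.blt c 106) (cond (Nat.blt c 100) (cond (Nat.blt c 99) (cond (Nat.beq c 98) [⟨157, -1, 2⟩, ⟨0, 0, 1⟩, ⟨1, 1, 1⟩, ⟨2, 1, 1⟩, ⟨3, 1, 1⟩, ⟨4, 1, 1⟩, ⟨5, 1, 1⟩, ⟨6, 0, 1⟩, ⟨7, 0, 1⟩] []) (cond (Nat.beq c 99) [⟨131, 1, 1⟩] [])) (cond (Nat.blt c 103) (cond (Nat.beq c 100) [⟨135, 1, 1⟩] []) (cond (Nat.beq c 103) [⟨143, 1, 1⟩] []))) (cond (Nat.blt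 c 112) (cond (Nat.blt c 109) (cond (Nat.beq c 106) [⟨146, -1, 1⟩] []) (cond (Nat.beq c 109) [⟨149, 1, 1⟩] [])) (cond (Nat.blt c 120) (cond (Nat.beq c 112) [⟨152, -1, 1⟩] []) (cond (Nat.beq c 120) [⟨155, -1, 1⟩] [])))) (cond (Nat.blt c 139) (cond (Nat.blt c 130) (cond (Nat.blt c 129) (cond (Nat.beq c 124) [⟨156, -1, 1⟩] []) (cond (Nat.beq c 129) [⟨158, -1, 1⟩] [])) (cond (Nat.blt c 138) (cond (Nat.beq c 130) [⟨159, -1, 1⟩] []) (cond (Nat.beq c 138) [⟨161, -1, 1⟩] []))) (cond (Nat.blt c 142) (cond (Nat.blt c 141) (cond (Nat.beq c 139) [⟨164, -1, 1⟩] []) (cond (Nat.beq c 141) [⟨167, 1, 1⟩] [])) (cond (Nat.blt c 170) (cond (Nat.beq c 142) [⟨168, 1, 1⟩] []) (cond (Nat.beq c 170) [⟨179, 1, 1⟩] []))))) (cond (Nat.blt c 188) (cond (Nat.blt c 182) (cond (Nat.blt c 175) (cond (Nat.blt c 173) (cond (Nat.beq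 c 172) [⟨193, -1, 1⟩] []) (cond (Nat.beq c 173) [⟨196, -1, 1⟩] [])) (cond (Nat.blt c 176) (cond (Nat.beq c 175) [⟨199, 1, 1⟩] []) (cond (Nat.beq c 176) [⟨200, 1, 1⟩] []))) (cond (Nat.blt c 185) (cond (Nat.blt c 184) (cond (Nat.beq c 182) [⟨212, 1, 1⟩] []) (cond (Nat.beq c 184) [⟨215, -1, 1⟩] [])) (cond (Nat.blt c 187) (cond (Nat.beq c 185) [⟨216, -1, 1⟩] []) (cond (Nat.beq c 187) [⟨218, -1, 1⟩] [])))) (cond (Nat.blt c 207) (cond (Nat.blt c 203) (cond (Nat.blt c 191) (cond (Nat.beq c 188) [⟨219, -1, 1⟩] []) (cond (Nat.beq c 191) [⟨221, 1, 1⟩] [])) (cond (Nat.blt c 204) (cond (Nat.beq c 203) [⟨227, 1, 1⟩] []) (cond (Nat.beq c 204) [⟨228, 1, 1⟩] []))) (cond (Nat.blt c 224) (cond (Nat.blt c 210) (cond (Nat.beq c 207) [⟨230, -1, 1⟩] []) (cond (Nat.beq c 210) [⟨231, -1, 1⟩] [])) (cond (Nat.blt c 236)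 (cond (Nat.beq c 224) [⟨233, 1, 1⟩] []) (cond (Nat.blt c 239) (cond (Nat.beq c 236) [⟨242, -1, 1⟩] []) (cond (Nat.beq c 239) [⟨245, -1, 1⟩] [])))))))

end Cfsg.Agent.Lib.Helper3.ChevM
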