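import Cfsg.Agent.Lib.Helper3.ChevM2
set_option autoImplicit false
set_option maxRecDepth 100000

namespace Cfsg.Agent.Lib.Helper3.ChevM

/-- Compiled columns of `x_150` for type E8. -/
def colsE8_150 (c : ℕ) : List CEnt :=
  cond (Nat.blt c 98) (cond (Nat.blt c 35) (cond (Nat.blt c 9) (cond (Nat.blt c 4) (cond (Nat.blt c 2) (cond (Nat.blt c 1) (cond (Nat.beq c 0) [⟨158, 1, 1⟩] []) (cond (Nat.beq c 1) [⟨158, -1, 1⟩] [])) (cond (Nat.blt c 3) (cond (Nat.beq c 2) [⟨158, -1, 1⟩] []) (cond (Nat.beq c 3) [⟨158, 1, 1⟩] []))) (cond (Nat.blt c 6) (cond (Nat.blt c 5) (cond (Nat.beq c 4) [⟨158, 0, 1⟩] []) (cond (Nat.beq c 5) [⟨158, 0, 1⟩] [])) (cond (Nat.blt c 7) (cond (Nat.beq c 6) [⟨158, -1, 1⟩] []) (cond (Nat.beq c 7) [⟨158, 1, 1⟩] [])))) (cond (Nat.blt c 25) (cond (Nat.blt c 22) (cond (Nat.blt c 13)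 (cond (Nat.beq c 9) [⟨16, 1, 1⟩] []) (cond (Nat.beq c 13) [⟨20, -1, 1⟩] [])) (cond (Nat.blt c 24) (cond (Nat.beq c 22) [⟨32, 1, 1⟩] []) (cond (Nat.beq c 24) [⟨46, -1, 1⟩] []))) (cond (Nat.blt c 28) (cond (Nat.blt c 26) (cond (Nat.beq c 25) [⟨49, -1, 1⟩] []) (cond (Nat.beq c 26) [⟨51, -1, 1⟩] [])) (cond (Nat.blt c 34) (cond (Nat.beq c 28) [⟨53, 1, 1⟩] []) (cond (Nat.beq c 34) [⟨65, 1, 1⟩] []))))) (cond (Nat.blt c 61) (cond (Nat.blt c 42) (cond (Nat.blt c 38) (cond (Nat.blt c 37) (cond (Nat.beq c 35) [⟨67, 1, 1⟩] []) (cond (Nat.beq c 37) [⟨69, -1, 1⟩] [])) (cond (Nat.blt c 40) (cond (Nat.beq c 38) [⟨70, 1, 1⟩] []) (cond (Nat.beq c 40) [⟨72, -1, 1⟩] []))) (cond (Nat.blt c 56) (cond (Nat.blt c 54) (cond (Nat.beq c 42) [⟨73, -1, 1⟩] []) (cond (Nat.beq c 54) [⟨79, -1, 1⟩] [])) (cond (Nat.blt c 58)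 (cond (Nat.beq c 56) [⟨81, 1, 1⟩] []) (cond (Nat.beq c 58) [⟨82, 1, 1⟩] [])))) (cond (Nat.blt c 90) (cond (Nat.blt c 86) (cond (Nat.blt c 75) (cond (Nat.beq c 61) [⟨83, 1, 1⟩] []) (cond (Nat.beq c 75) [⟨85, -1, 1⟩] [])) (cond (Nat.blt c 88) (cond (Nat.beq c 86) [⟨113, -1, 1⟩] []) (cond (Nat.beq c 88) [⟨115, 1, 1⟩] []))) (cond (Nat.blt c 96) (cond (Nat.blt c 93) (cond (Nat.beq c 90) [⟨116, 1, 1⟩] []) (cond (Nat.beq c 93) [⟨117, 1, 1⟩] [])) (cond (Nat.blt c 97) (cond (Nat.beq c 96) [⟨127, 1, 1⟩] []) (cond (Nat.beq c 97) [⟨158, -1, 2⟩, ⟨0, 0, 1⟩, ⟨1, 1, 1⟩, ⟨2, 1, 1⟩, ⟨3, 1, 1⟩, ⟨4, 1, 1⟩, ⟨5, 1, 1⟩, ⟨6, 1, 1⟩, ⟨7, 0, 1⟩] [])))))) (cond (Nat.blt c 172) (cond (Nat.blt c 123) (cond (Nat.blt c 106) (cond (Nat.blt c 100) (cond (Nat.blt c 99) (cond (Nat.beq c 98) [⟨129, 1, 1⟩] []) (cond (Nat.beq c 99)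 [⟨132, 1, 1⟩] [])) (cond (Nat.blt c 102) (cond (Nat.beq c 100) [⟨136, 1, 1⟩] []) (cond (Nat.beq c 102) [⟨143, 1, 1⟩] []))) (cond (Nat.blt c 112) (cond (Nat.blt c 108) (cond (Nat.beq c 106) [⟨147, -1, 1⟩] []) (cond (Nat.beq c 108) [⟨149, 1, 1⟩] [])) (cond (Nat.blt c 119) (cond (Nat.beq c 112) [⟨153, -1, 1⟩] []) (cond (Nat.beq c 119) [⟨155, -1, 1⟩] [])))) (cond (Nat.blt c 139) (cond (Nat.blt c 128) (cond (Nat.blt c 126) (cond (Nat.beq c 123) [⟨156, -1, 1⟩] []) (cond (Nat.beq c 126) [⟨157, -1, 1⟩] [])) (cond (Nat.blt c 138) (cond (Nat.beq c 128) [⟨159, -1, 1⟩] []) (cond (Nat.beq c 138) [⟨162, -1, 1⟩] []))) (cond (Nat.blt c 142) (cond (Nat.blt c 140) (cond (Nat.beq c 139) [⟨165, -1, 1⟩] []) (cond (Nat.beq c 140) [⟨167, -1, 1⟩] [])) (cond (Nat.blt c 170) (cond (Nat.beq c 142) [⟨169, 1, 1⟩] []) (cond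 (Nat.beq c 170) [⟨180, 1, 1⟩] []))))) (cond (Nat.blt c 188) (cond (Nat.blt c 182) (cond (Nat.blt c 174) (cond (Nat.blt c 173) (cond (Nat.beq c 172) [⟨194, -1, 1⟩] []) (cond (Nat.beq c 173) [⟨197, -1, 1⟩] [])) (cond (Nat.blt c 176) (cond (Nat.beq c 174) [⟨199, -1, 1⟩] []) (cond (Nat.beq c 176) [⟨201, 1, 1⟩] []))) (cond (Nat.blt c 185) (cond (Nat.blt c 183) (cond (Nat.beq c 182) [⟨213, 1, 1⟩] []) (cond (Nat.beq c 183) [⟨215, 1, 1⟩] [])) (cond (Nat.blt c 186) (cond (Nat.beq c 185) [⟨217, -1, 1⟩] []) (cond (Nat.beq c 186) [⟨218, 1, 1⟩] [])))) (cond (Nat.blt c 206) (cond (Nat.blt c 202) (cond (Nat.blt c 190) (cond (Nat.beq c 188) [⟨220, -1, 1⟩] []) (cond (Nat.beq c 190) [⟨221, -1, 1⟩] [])) (cond (Nat.blt c 204) (cond (Nat.beq c 202) [⟨227, -1, 1⟩] []) (cond (Nat.beq c 204) [⟨229, 1, 1⟩] []))) (cond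 (Nat.blt c 223) (cond (Nat.blt c 209) (cond (Nat.beq c 206) [⟨230, 1, 1⟩] []) (cond (Nat.beq c 209) [⟨231, 1, 1⟩] [])) (cond (Nat.blt c 235) (cond (Nat.beq c 223) [⟨233, -1, 1⟩] []) (cond (Nat.blt c 239) (cond (Nat.beq c 235) [⟨242, 1, 1⟩] []) (cond (Nat.beq c 239) [⟨246, -1, 1⟩] [])))))))

/-- Compiled columns of `x_151` for type E8. -/
def colsE8_151 (c : ℕ) : List CEnt :=
  cond (Nat.blt c 98) (cond (Nat.blt c 35) (cond (Nat.blt c 8) (cond (Nat.blt c 4) (cond (Nat.blt c 2) (cond (Nat.blt c 1) (cond (Nat.beq c 0) [⟨159, 1, 1⟩] []) (cond (Nat.beq c 1) [⟨159, -1, 1⟩] [])) (cond (Nat.blt c 3) (cond (Nat.beq c 2) [⟨159, -1, 1⟩] []) (cond (Nat.beq c 3) [⟨159, 1, 1⟩] []))) (cond (Nat.blt c 6) (cond (Nat.blt c 5) (cond (Nat.beq c 4) [⟨159, 0, 1⟩] []) (cond (Nat.beq c 5) [⟨159, 0, 1⟩] [])) (cond (Nat.blt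 c 7) (cond (Nat.beq c 6) [⟨159, 0, 1⟩] []) (cond (Nat.beq c 7) [⟨159, -1, 1⟩] [])))) (cond (Nat.blt c 25) (cond (Nat.blt c 22) (cond (Nat.blt c 13) (cond (Nat.beq c 8) [⟨16, 1, 1⟩] []) (cond (Nat.beq c 13) [⟨21, 1, 1⟩] [])) (cond (Nat.blt c 24) (cond (Nat.beq c 22) [⟨33, -1, 1⟩] []) (cond (Nat.beq c 24) [⟨47, 1, 1⟩] []))) (cond (Nat.blt c 27) (cond (Nat.blt c 26) (cond (Nat.beq c 25) [⟨50, 1, 1⟩] []) (cond (Nat.beq c 26) [⟨52, 1, 1⟩] [])) (cond (Nat.blt c 34) (cond (Nat.beq c 27) [⟨53, 1, 1⟩] []) (cond (Nat.beq c 34) [⟨66, -1, 1⟩] []))))) (cond (Nat.blt c 60) (cond (Nat.blt c 41) (cond (Nat.blt c 38) (cond (Nat.blt c 36) (cond (Nat.beq c 35) [⟨68, -1, 1⟩] []) (cond (Nat.beq c 36) [⟨69, -1, 1⟩] [])) (cond (Nat.blt c 39) (cond (Nat.beq c 38) [⟨71, -1, 1⟩] []) (cond (Nat.beq c 39) [⟨72, -1, 1⟩]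 []))) (cond (Nat.blt c 55) (cond (Nat.blt c 54) (cond (Nat.beq c 41) [⟨73, -1, 1⟩] []) (cond (Nat.beq c 54) [⟨80, 1, 1⟩] [])) (cond (Nat.blt c 57) (cond (Nat.beq c 55) [⟨81, 1, 1⟩] []) (cond (Nat.beq c 57) [⟨82, 1, 1⟩] [])))) (cond (Nat.blt c 89) (cond (Nat.blt c 86) (cond (Nat.blt c 74) (cond (Nat.beq c 60) [⟨83, 1, 1⟩] []) (cond (Nat.beq c 74) [⟨85, -1, 1⟩] [])) (cond (Nat.blt c 87) (cond (Nat.beq c 86) [⟨114, 1, 1⟩] []) (cond (Nat.beq c 87) [⟨115, 1, 1⟩] []))) (cond (Nat.blt c 96) (cond (Nat.blt c 92) (cond (Nat.beq c 89) [⟨116, 1, 1⟩] []) (cond (Nat.beq c 92) [⟨117, 1, 1⟩] [])) (cond (Nat.blt c 97) (cond (Nat.beq c 96) [⟨159, -1, 2⟩, ⟨0, 0, 1⟩, ⟨1, 1, 1⟩, ⟨2, 1, 1⟩, ⟨3, 1, 1⟩, ⟨4, 1, 1⟩, ⟨5, 1, 1⟩, ⟨6, 1, 1⟩, ⟨7, 1, 1⟩] []) (cond (Nat.beq c 97) [⟨128, 1, 1⟩] [])))))) (cond (Nat.blt c 172)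 (cond (Nat.blt c 122) (cond (Nat.blt c 106) (cond (Nat.blt c 100) (cond (Nat.blt c 99) (cond (Nat.beq c 98) [⟨130, 1, 1⟩] []) (cond (Nat.beq c 99) [⟨133, 1, 1⟩] [])) (cond (Nat.blt c 101) (cond (Nat.beq c 100) [⟨137, 1, 1⟩] []) (cond (Nat.beq c 101) [⟨143, 1, 1⟩] []))) (cond (Nat.blt c 112) (cond (Nat.blt c 107) (cond (Nat.beq c 106) [⟨148, -1, 1⟩] []) (cond (Nat.beq c 107) [⟨149, 1, 1⟩] [])) (cond (Nat.blt c 118) (cond (Nat.beq c 112) [⟨154, -1, 1⟩] []) (cond (Nat.beq c 118) [⟨155, -1, 1⟩] [])))) (cond (Nat.blt c 139) (cond (Nat.blt c 127) (cond (Nat.blt c 125) (cond (Nat.beq c 122) [⟨156, -1, 1⟩] []) (cond (Nat.beq c 125) [⟨157, -1, 1⟩] [])) (cond (Nat.blt c 138) (cond (Nat.beq c 127) [⟨158, -1, 1⟩] []) (cond (Nat.beq c 138) [⟨163, -1, 1⟩] []))) (cond (Nat.blt c 141) (cond (Nat.blt c 140) (cond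 (Nat.beq c 139) [⟨166, -1, 1⟩] []) (cond (Nat.beq c 140) [⟨168, -1, 1⟩] [])) (cond (Nat.blt c 170) (cond (Nat.beq c 141) [⟨169, -1, 1⟩] []) (cond (Nat.beq c 170) [⟨181, 1, 1⟩] []))))) (cond (Nat.blt c 187) (cond (Nat.blt c 182) (cond (Nat.blt c 174) (cond (Nat.blt c 173) (cond (Nat.beq c 172) [⟨195, -1, 1⟩] []) (cond (Nat.beq c 173) [⟨198, -1, 1⟩] [])) (cond (Nat.blt c 175) (cond (Nat.beq c 174) [⟨200, -1, 1⟩] []) (cond (Nat.beq c 175) [⟨201, -1, 1⟩] []))) (cond (Nat.blt c 184) (cond (Nat.blt c 183) (cond (Nat.beq c 182) [⟨214, 1, 1⟩] []) (cond (Nat.beq c 183) [⟨216, 1, 1⟩] [])) (cond (Nat.blt c 186) (cond (Nat.beq c 184) [⟨217, 1, 1⟩] []) (cond (Nat.beq c 186) [⟨219, 1, 1⟩] [])))) (cond (Nat.blt c 205) (cond (Nat.blt c 202) (cond (Nat.blt c 189) (cond (Nat.beq c 187) [⟨220, 1, 1⟩] []) (cond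 (Nat.beq c 189) [⟨221, 1, 1⟩] [])) (cond (Nat.blt c 203) (cond (Nat.beq c 202) [⟨228, -1, 1⟩] []) (cond (Nat.beq c 203) [⟨229, -1, 1⟩] []))) (cond (Nat.blt c 222) (cond (Nat.blt c 208) (cond (Nat.beq c 205) [⟨230, -1, 1⟩] []) (cond (Nat.beq c 208) [⟨231, -1, 1⟩] [])) (cond (Nat.blt c 234) (cond (Nat.beq c 222) [⟨233, 1, 1⟩] []) (cond (Nat.blt c 239) (cond (Nat.beq c 234) [⟨242, -1, 1⟩] []) (cond (Nat.beq c 239) [⟨247, -1, 1⟩] [])))))))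

/-- Compiled columns of `x_152` for type E8. -/
def colsE8_152 (c : ℕ) : List CEnt :=
  cond (Nat.blt c 95) (cond (Nat.blt c 32) (cond (Nat.blt c 11) (cond (Nat.blt c 4) (cond (Nat.blt c 2) (cond (Nat.blt c 1) (cond (Nat.beq c 0) [⟨160, 1, 1⟩] []) (cond (Nat.beq c 1) [⟨160, 0, 1⟩] [])) (cond (Nat.blt c 3) (cond (Nat.beq c 2) [⟨160, 0, 1⟩] []) (cond (Nat.beq c 3) [⟨160, -1, 1⟩] []))) (cond (Nat.blt c 6) (cond (Nat.blt c 5) (cond (Nat.beq c 4) [⟨160, 0, 1⟩] []) (cond (Nat.beq c 5) [⟨160, 1, 1⟩] [])) (cond (Nat.blt c 7) (cond (Nat.beq c 6) [⟨160, 0, 1⟩] []) (cond (Nat.beq c 7) [⟨160, 0, 1⟩] [])))) (cond (Nat.blt c 26) (cond (Nat.blt c 22) (cond (Nat.blt c 12) (cond (Nat.beq c 11) [⟨17, -1, 1⟩] []) (cond (Nat.beq c 12) [⟨18, -1, 1⟩] [])) (cond (Nat.blt c 23) (cond (Nat.beq c 22) [⟨34, -1, 1⟩] [])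 (cond (Nat.beq c 23) [⟨44, -1, 1⟩] []))) (cond (Nat.blt c 28) (cond (Nat.blt c 27) (cond (Nat.beq c 26) [⟨54, -1, 1⟩] []) (cond (Nat.beq c 27) [⟨55, -1, 1⟩] [])) (cond (Nat.blt c 31) (cond (Nat.beq c 28) [⟨56, -1, 1⟩] []) (cond (Nat.beq c 31) [⟨64, -1, 1⟩] []))))) (cond (Nat.blt c 63) (cond (Nat.blt c 43) (cond (Nat.blt c 41) (cond (Nat.blt c 33) (cond (Nat.beq c 32) [⟨65, -1, 1⟩] []) (cond (Nat.beq c 33) [⟨66, -1, 1⟩] [])) (cond (Nat.blt c 42) (cond (Nat.beq c 41) [⟨74, -1, 1⟩] []) (cond (Nat.beq c 42) [⟨75, -1, 1⟩] []))) (cond (Nat.blt c 52) (cond (Nat.blt c 51) (cond (Nat.beq c 43) [⟨76, -1, 1⟩] []) (cond (Nat.beq c 51) [⟨79, -1, 1⟩] [])) (cond (Nat.blt c 53) (cond (Nat.beq c 52) [⟨80, -1, 1⟩] []) (cond (Nat.beq c 53) [⟨81, -1, 1⟩] [])))) (cond (Nat.blt c 91) (cond (Nat.blt c 89) (cond (Nat.blt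 c 73) (cond (Nat.beq c 63) [⟨84, -1, 1⟩] []) (cond (Nat.beq c 73) [⟨85, -1, 1⟩] [])) (cond (Nat.blt c 90) (cond (Nat.beq c 89) [⟨118, -1, 1⟩] []) (cond (Nat.beq c 90) [⟨119, -1, 1⟩] []))) (cond (Nat.blt c 93) (cond (Nat.blt c 92) (cond (Nat.beq c 91) [⟨120, -1, 1⟩] []) (cond (Nat.beq c 92) [⟨122, 1, 1⟩] [])) (cond (Nat.blt c 94) (cond (Nat.beq c 93) [⟨123, 1, 1⟩] []) (cond (Nat.beq c 94) [⟨124, 1, 1⟩] [])))))) (cond (Nat.blt c 171) (cond (Nat.blt c 117) (cond (Nat.blt c 105) (cond (Nat.blt c 100) (cond (Nat.blt c 99) (cond (Nat.beq c 95) [⟨160, -1, 2⟩, ⟨0, 0, 1⟩, ⟨1, 1, 1⟩, ⟨2, 1, 1⟩, ⟨3, 2, 1⟩, ⟨4, 1, 1⟩, ⟨5, 0, 1⟩, ⟨6, 0, 1⟩, ⟨7, 0, 1⟩] []) (cond (Nat.beq c 99) [⟨138, 1, 1⟩] [])) (cond (Nat.blt c 104) (cond (Nat.beq c 100) [⟨139, -1, 1⟩] []) (cond (Nat.beq c 104) [⟨144, 1, 1⟩] []))) (cond (Nat.blt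 c 111) (cond (Nat.blt c 110) (cond (Nat.beq c 105) [⟨145, -1, 1⟩] []) (cond (Nat.beq c 110) [⟨150, 1, 1⟩] [])) (cond (Nat.blt c 116) (cond (Nat.beq c 111) [⟨151, -1, 1⟩] []) (cond (Nat.beq c 116) [⟨155, 1, 1⟩] [])))) (cond (Nat.blt c 135) (cond (Nat.blt c 132) (cond (Nat.blt c 131) (cond (Nat.beq c 117) [⟨156, -1, 1⟩] []) (cond (Nat.beq c 131) [⟨161, -1, 1⟩] [])) (cond (Nat.blt c 133) (cond (Nat.beq c 132) [⟨162, -1, 1⟩] []) (cond (Nat.beq c 133) [⟨163, -1, 1⟩] []))) (cond (Nat.blt c 137) (cond (Nat.blt c 136) (cond (Nat.beq c 135) [⟨164, 1, 1⟩] []) (cond (Nat.beq c 136) [⟨165, 1, 1⟩] [])) (cond (Nat.blt c 170) (cond (Nat.beq c 137) [⟨166, 1, 1⟩] []) (cond (Nat.beq c 170) [⟨182, 1, 1⟩] []))))) (cond (Nat.blt c 190) (cond (Nat.blt c 179) (cond (Nat.blt c 175) (cond (Nat.blt c 174) (cond (Nat.beq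 c 171) [⟨192, 1, 1⟩] []) (cond (Nat.beq c 174) [⟨202, 1, 1⟩] [])) (cond (Nat.blt c 176) (cond (Nat.beq c 175) [⟨203, 1, 1⟩] []) (cond (Nat.beq c 176) [⟨204, 1, 1⟩] []))) (cond (Nat.blt c 181) (cond (Nat.blt c 180) (cond (Nat.beq c 179) [⟨212, 1, 1⟩] []) (cond (Nat.beq c 180) [⟨213, 1, 1⟩] [])) (cond (Nat.blt c 189) (cond (Nat.beq c 181) [⟨214, 1, 1⟩] []) (cond (Nat.beq c 189) [⟨222, 1, 1⟩] [])))) (cond (Nat.blt c 201) (cond (Nat.blt c 199) (cond (Nat.blt c 191) (cond (Nat.beq c 190) [⟨223, 1, 1⟩] []) (cond (Nat.beq c 191) [⟨224, 1, 1⟩] [])) (cond (Nat.blt c 200) (cond (Nat.beq c 199) [⟨227, 1, 1⟩] []) (cond (Nat.beq c 200) [⟨228, 1, 1⟩] []))) (cond (Nat.blt c 221) (cond (Nat.blt c 211) (cond (Nat.beq c 201) [⟨229, 1, 1⟩] []) (cond (Nat.beq c 211) [⟨232, 1, 1⟩] [])) (cond (Nat.blt c 237) (cond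 (Nat.beq c 221) [⟨233, 1, 1⟩] []) (cond (Nat.blt c 238) (cond (Nat.beq c 237) [⟨243, 1, 1⟩] []) (cond (Nat.beq c 238) [⟨244, 1, 1⟩] [])))))))

/-- Compiled columns of `x_153` for type E8. -/
def colsE8_153 (c : ℕ) : List CEnt :=
  cond (Nat.blt c 95) (cond (Nat.blt c 32) (cond (Nat.blt c 10) (cond (Nat.blt c 4) (cond (Nat.blt c 2) (cond (Nat.blt c 1) (cond (Nat.beq c 0) [⟨161, 1, 1⟩] []) (cond (Nat.beq c 1) [⟨161, 0, 1⟩] [])) (cond (Nat.blt c 3) (cond (Nat.beq c 2) [⟨161, 0, 1⟩] []) (cond (Nat.beq c 3) [⟨161, -1, 1⟩] []))) (cond (Nat.blt c 6) (cond (Nat.blt c 5) (cond (Nat.beq c 4) [⟨161, 1, 1⟩] []) (cond (Nat.beq c 5) [⟨161, -1, 1⟩] [])) (cond (Nat.blt c 7) (cond (Nat.beq c 6) [⟨161, 1, 1⟩] []) (cond (Nat.beq c 7) [⟨161, 0, 1⟩] [])))) (cond (Nat.blt c 25) (cond (Nat.blt c 22) (cond (Nat.blt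 c 12) (cond (Nat.beq c 10) [⟨17, -1, 1⟩] []) (cond (Nat.beq c 12) [⟨19, 1, 1⟩] [])) (cond (Nat.blt c 23) (cond (Nat.beq c 22) [⟨35, 1, 1⟩] []) (cond (Nat.beq c 23) [⟨45, 1, 1⟩] []))) (cond (Nat.blt c 28) (cond (Nat.blt c 27) (cond (Nat.beq c 25) [⟨54, -1, 1⟩] []) (cond (Nat.beq c 27) [⟨57, 1, 1⟩] [])) (cond (Nat.blt c 30) (cond (Nat.beq c 28) [⟨58, 1, 1⟩] []) (cond (Nat.beq c 30) [⟨64, -1, 1⟩] []))))) (cond (Nat.blt c 62) (cond (Nat.blt c 43) (cond (Nat.blt c 39) (cond (Nat.blt c 33) (cond (Nat.beq c 32) [⟨67, 1, 1⟩] []) (cond (Nat.beq c 33) [⟨68, 1, 1⟩] [])) (cond (Nat.blt c 40) (cond (Nat.beq c 39) [⟨74, -1, 1⟩] []) (cond (Nat.beq c 40) [⟨75, -1, 1⟩] []))) (cond (Nat.blt c 50) (cond (Nat.blt c 49) (cond (Nat.beq c 43) [⟨77, 1, 1⟩] []) (cond (Nat.beq c 49) [⟨79, -1, 1⟩] [])) (cond (Nat.blt c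 53) (cond (Nat.beq c 50) [⟨80, -1, 1⟩] []) (cond (Nat.beq c 53) [⟨82, 1, 1⟩] [])))) (cond (Nat.blt c 91) (cond (Nat.blt c 87) (cond (Nat.blt c 72) (cond (Nat.beq c 62) [⟨84, -1, 1⟩] []) (cond (Nat.beq c 72) [⟨85, -1, 1⟩] [])) (cond (Nat.blt c 88) (cond (Nat.beq c 87) [⟨118, -1, 1⟩] []) (cond (Nat.beq c 88) [⟨119, -1, 1⟩] []))) (cond (Nat.blt c 93) (cond (Nat.blt c 92) (cond (Nat.beq c 91) [⟨121, 1, 1⟩] []) (cond (Nat.beq c 92) [⟨125, 1, 1⟩] [])) (cond (Nat.blt c 94) (cond (Nat.beq c 93) [⟨126, 1, 1⟩] []) (cond (Nat.beq c 94) [⟨161, -1, 2⟩, ⟨0, 0, 1⟩, ⟨1, 1, 1⟩, ⟨2, 1, 1⟩, ⟨3, 2, 1⟩, ⟨4, 1, 1⟩, ⟨5, 1, 1⟩, ⟨6, 0, 1⟩, ⟨7, 0, 1⟩] [])))))) (cond (Nat.blt c 171) (cond (Nat.blt c 117) (cond (Nat.blt c 105) (cond (Nat.blt c 100) (cond (Nat.blt c 98) (cond (Nat.beq c 95) [⟨131, 1, 1⟩] []) (cond (Nat.beq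 c 98) [⟨138, 1, 1⟩] [])) (cond (Nat.blt c 103) (cond (Nat.beq c 100) [⟨140, -1, 1⟩] []) (cond (Nat.beq c 103) [⟨144, 1, 1⟩] []))) (cond (Nat.blt c 111) (cond (Nat.blt c 109) (cond (Nat.beq c 105) [⟨146, -1, 1⟩] []) (cond (Nat.beq c 109) [⟨150, 1, 1⟩] [])) (cond (Nat.blt c 115) (cond (Nat.beq c 111) [⟨152, -1, 1⟩] []) (cond (Nat.beq c 115) [⟨155, 1, 1⟩] [])))) (cond (Nat.blt c 134) (cond (Nat.blt c 129) (cond (Nat.blt c 124) (cond (Nat.beq c 117) [⟨157, -1, 1⟩] []) (cond (Nat.beq c 124) [⟨160, -1, 1⟩] [])) (cond (Nat.blt c 130) (cond (Nat.beq c 129) [⟨162, -1, 1⟩] []) (cond (Nat.beq c 130) [⟨163, -1, 1⟩] []))) (cond (Nat.blt c 137) (cond (Nat.blt c 136) (cond (Nat.beq c 134) [⟨164, -1, 1⟩] []) (cond (Nat.beq c 136) [⟨167, 1, 1⟩] [])) (cond (Nat.blt c 170) (cond (Nat.beq c 137) [⟨168, 1, 1⟩] [])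 (cond (Nat.beq c 170) [⟨183, 1, 1⟩] []))))) (cond (Nat.blt c 188) (cond (Nat.blt c 178) (cond (Nat.blt c 175) (cond (Nat.blt c 173) (cond (Nat.beq c 171) [⟨193, 1, 1⟩] []) (cond (Nat.beq c 173) [⟨202, -1, 1⟩] [])) (cond (Nat.blt c 176) (cond (Nat.beq c 175) [⟨205, 1, 1⟩] []) (cond (Nat.beq c 176) [⟨206, 1, 1⟩] []))) (cond (Nat.blt c 181) (cond (Nat.blt c 180) (cond (Nat.beq c 178) [⟨212, -1, 1⟩] []) (cond (Nat.beq c 180) [⟨215, 1, 1⟩] [])) (cond (Nat.blt c 187) (cond (Nat.beq c 181) [⟨216, 1, 1⟩] []) (cond (Nat.beq c 187) [⟨222, -1, 1⟩] [])))) (cond (Nat.blt c 201) (cond (Nat.blt c 197) (cond (Nat.blt c 191) (cond (Nat.beq c 188) [⟨223, -1, 1⟩] []) (cond (Nat.beq c 191) [⟨225, 1, 1⟩] [])) (cond (Nat.blt c 198) (cond (Nat.beq c 197) [⟨227, -1, 1⟩] []) (cond (Nat.beq c 198) [⟨228, -1, 1⟩] [])))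 (cond (Nat.blt c 220) (cond (Nat.blt c 210) (cond (Nat.beq c 201) [⟨230, 1, 1⟩] []) (cond (Nat.beq c 210) [⟨232, -1, 1⟩] [])) (cond (Nat.blt c 236) (cond (Nat.beq c 220) [⟨233, -1, 1⟩] []) (cond (Nat.blt c 238) (cond (Nat.beq c 236) [⟨243, -1, 1⟩] []) (cond (Nat.beq c 238) [⟨245, 1, 1⟩] [])))))))

/-- Compiled columns of `x_154` for type E8. -/
def colsE8_154 (c : ℕ) : List CEnt :=
  cond (Nat.blt c 95) (cond (Nat.blt c 31) (cond (Nat.blt c 9) (cond (Nat.blt c 4) (cond (Nat.blt c 2) (cond (Nat.blt c 1) (cond (Nat.beq c 0) [⟨162, 1, 1⟩] []) (cond (Nat.beq c 1) [⟨162, 0, 1⟩] [])) (cond (Nat.blt c 3) (cond (Nat.beq c 2) [⟨162, 0, 1⟩] []) (cond (Nat.beq c 3) [⟨162, -1, 1⟩] []))) (cond (Nat.blt c 6) (cond (Nat.blt c 5) (cond (Nat.beq c 4) [⟨162, 1, 1⟩] []) (cond (Nat.beq c 5) [⟨162, 0, 1⟩] [])) (cond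 (Nat.blt c 7) (cond (Nat.beq c 6) [⟨162, -1, 1⟩] []) (cond (Nat.beq c 7) [⟨162, 1, 1⟩] [])))) (cond (Nat.blt c 25) (cond (Nat.blt c 22) (cond (Nat.blt c 12) (cond (Nat.beq c 9) [⟨17, -1, 1⟩] []) (cond (Nat.beq c 12) [⟨20, -1, 1⟩] [])) (cond (Nat.blt c 23) (cond (Nat.beq c 22) [⟨36, -1, 1⟩] []) (cond (Nat.beq c 23) [⟨46, -1, 1⟩] []))) (cond (Nat.blt c 28) (cond (Nat.blt c 26) (cond (Nat.beq c 25) [⟨55, 1, 1⟩] []) (cond (Nat.beq c 26) [⟨57, 1, 1⟩] [])) (cond (Nat.blt c 30) (cond (Nat.beq c 28) [⟨59, -1, 1⟩] []) (cond (Nat.beq c 30) [⟨65, 1, 1⟩] []))))) (cond (Nat.blt c 61) (cond (Nat.blt c 42) (cond (Nat.blt c 38) (cond (Nat.blt c 33) (cond (Nat.beq c 31) [⟨67, 1, 1⟩] []) (cond (Nat.beq c 33) [⟨69, -1, 1⟩] [])) (cond (Nat.blt c 40) (cond (Nat.beq c 38) [⟨74, -1, 1⟩] []) (cond (Nat.beq c 40) [⟨76,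 1, 1⟩] []))) (cond (Nat.blt c 50) (cond (Nat.blt c 48) (cond (Nat.beq c 42) [⟨77, 1, 1⟩] []) (cond (Nat.beq c 48) [⟨79, -1, 1⟩] [])) (cond (Nat.blt c 52) (cond (Nat.beq c 50) [⟨81, 1, 1⟩] []) (cond (Nat.beq c 52) [⟨82, 1, 1⟩] [])))) (cond (Nat.blt c 90) (cond (Nat.blt c 86) (cond (Nat.blt c 71) (cond (Nat.beq c 61) [⟨84, -1, 1⟩] []) (cond (Nat.beq c 71) [⟨85, -1, 1⟩] [])) (cond (Nat.blt c 88) (cond (Nat.beq c 86) [⟨118, -1, 1⟩] []) (cond (Nat.beq c 88) [⟨120, 1, 1⟩] []))) (cond (Nat.blt c 93) (cond (Nat.blt c 92) (cond (Nat.beq c 90) [⟨121, 1, 1⟩] []) (cond (Nat.beq c 92) [⟨127, 1, 1⟩] [])) (cond (Nat.blt c 94) (cond (Nat.beq c 93) [⟨162, -1, 2⟩, ⟨0, 0, 1⟩, ⟨1, 1, 1⟩, ⟨2, 1, 1⟩, ⟨3, 2, 1⟩, ⟨4, 1, 1⟩, ⟨5, 1, 1⟩, ⟨6, 1, 1⟩, ⟨7, 0, 1⟩] []) (cond (Nat.beq c 94) [⟨129, 1, 1⟩] [])))))) (cond (Nat.blt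 c 171) (cond (Nat.blt c 117) (cond (Nat.blt c 105) (cond (Nat.blt c 100) (cond (Nat.blt c 97) (cond (Nat.beq c 95) [⟨132, 1, 1⟩] []) (cond (Nat.beq c 97) [⟨138, 1, 1⟩] [])) (cond (Nat.blt c 102) (cond (Nat.beq c 100) [⟨141, -1, 1⟩] []) (cond (Nat.beq c 102) [⟨144, 1, 1⟩] []))) (cond (Nat.blt c 111) (cond (Nat.blt c 108) (cond (Nat.beq c 105) [⟨147, -1, 1⟩] []) (cond (Nat.beq c 108) [⟨150, 1, 1⟩] [])) (cond (Nat.blt c 114) (cond (Nat.beq c 111) [⟨153, -1, 1⟩] []) (cond (Nat.beq c 114) [⟨155, 1, 1⟩] [])))) (cond (Nat.blt c 134) (cond (Nat.blt c 126) (cond (Nat.blt c 123) (cond (Nat.beq c 117) [⟨158, -1, 1⟩] []) (cond (Nat.beq c 123) [⟨160, -1, 1⟩] [])) (cond (Nat.blt c 128) (cond (Nat.beq c 126) [⟨161, -1, 1⟩] []) (cond (Nat.beq c 128) [⟨163, -1, 1⟩] []))) (cond (Nat.blt c 137) (cond (Nat.blt c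 135) (cond (Nat.beq c 134) [⟨165, -1, 1⟩] []) (cond (Nat.beq c 135) [⟨167, -1, 1⟩] [])) (cond (Nat.blt c 170) (cond (Nat.beq c 137) [⟨169, 1, 1⟩] []) (cond (Nat.beq c 170) [⟨184, 1, 1⟩] []))))) (cond (Nat.blt c 188) (cond (Nat.blt c 178) (cond (Nat.blt c 174) (cond (Nat.blt c 173) (cond (Nat.beq c 171) [⟨194, 1, 1⟩] []) (cond (Nat.beq c 173) [⟨203, -1, 1⟩] [])) (cond (Nat.blt c 176) (cond (Nat.beq c 174) [⟨205, -1, 1⟩] []) (cond (Nat.beq c 176) [⟨207, 1, 1⟩] []))) (cond (Nat.blt c 181) (cond (Nat.blt c 179) (cond (Nat.beq c 178) [⟨213, -1, 1⟩] []) (cond (Nat.beq c 179) [⟨215, -1, 1⟩] [])) (cond (Nat.blt c 186) (cond (Nat.beq c 181) [⟨217, 1, 1⟩] []) (cond (Nat.beq c 186) [⟨222, 1, 1⟩] [])))) (cond (Nat.blt c 200) (cond (Nat.blt c 196) (cond (Nat.blt c 190) (cond (Nat.beq c 188) [⟨224, -1, 1⟩]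 []) (cond (Nat.beq c 190) [⟨225, -1, 1⟩] [])) (cond (Nat.blt c 198) (cond (Nat.beq c 196) [⟨227, 1, 1⟩] []) (cond (Nat.beq c 198) [⟨229, -1, 1⟩] []))) (cond (Nat.blt c 219) (cond (Nat.blt c 209) (cond (Nat.beq c 200) [⟨230, -1, 1⟩] []) (cond (Nat.beq c 209) [⟨232, 1, 1⟩] [])) (cond (Nat.blt c 235) (cond (Nat.beq c 219) [⟨233, 1, 1⟩] []) (cond (Nat.blt c 238) (cond (Nat.beq c 235) [⟨243, 1, 1⟩] []) (cond (Nat.beq c 238) [⟨246, 1, 1⟩] [])))))))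

/-- Compiled columns of `x_155` for type E8. -/
def colsE8_155 (c : ℕ) : List CEnt :=
  cond (Nat.blt c 95) (cond (Nat.blt c 31) (cond (Nat.blt c 8) (cond (Nat.blt c 4) (cond (Nat.blt c 2) (cond (Nat.blt c 1) (cond (Nat.beq c 0) [⟨163, 1, 1⟩] []) (cond (Nat.beq c 1) [⟨163, 0, 1⟩] [])) (cond (Nat.blt c 3) (cond (Nat.beq c 2) [⟨163, 0, 1⟩] []) (cond (Nat.beq c 3) [⟨163, -1, 1⟩] []))) (cond (Nat.blt c 6) (cond (Nat.blt c 5) (cond (Nat.beq c 4) [⟨163, 1, 1⟩] []) (cond (Nat.beq c 5) [⟨163, 0, 1⟩] [])) (cond (Nat.blt c 7) (cond (Nat.beq c 6) [⟨163, 0, 1⟩] []) (cond (Nat.beq c 7) [⟨163, -1, 1⟩] [])))) (cond (Nat.blt c 25) (cond (Nat.blt c 22) (cond (Nat.blt c 12) (cond (Nat.beq c 8) [⟨17, -1, 1⟩] []) (cond (Nat.beq c 12) [⟨21, 1, 1⟩] [])) (cond (Nat.blt c 23) (cond (Nat.beq c 22) [⟨37, 1, 1⟩] []) (cond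 (Nat.beq c 23) [⟨47, 1, 1⟩] []))) (cond (Nat.blt c 27) (cond (Nat.blt c 26) (cond (Nat.beq c 25) [⟨56, -1, 1⟩] []) (cond (Nat.beq c 26) [⟨58, -1, 1⟩] [])) (cond (Nat.blt c 30) (cond (Nat.beq c 27) [⟨59, -1, 1⟩] []) (cond (Nat.beq c 30) [⟨66, -1, 1⟩] []))))) (cond (Nat.blt c 60) (cond (Nat.blt c 41) (cond (Nat.blt c 38) (cond (Nat.blt c 32) (cond (Nat.beq c 31) [⟨68, -1, 1⟩] []) (cond (Nat.beq c 32) [⟨69, -1, 1⟩] [])) (cond (Nat.blt c 39) (cond (Nat.beq c 38) [⟨75, 1, 1⟩] []) (cond (Nat.beq c 39) [⟨76, 1, 1⟩] []))) (cond (Nat.blt c 49) (cond (Nat.blt c 48) (cond (Nat.beq c 41) [⟨77, 1, 1⟩] []) (cond (Nat.beq c 48) [⟨80, 1, 1⟩] [])) (cond (Nat.blt c 51) (cond (Nat.beq c 49) [⟨81, 1, 1⟩] []) (cond (Nat.beq c 51) [⟨82, 1, 1⟩] [])))) (cond (Nat.blt c 89) (cond (Nat.blt c 86) (cond (Nat.blt c 70) (cond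 (Nat.beq c 60) [⟨84, -1, 1⟩] []) (cond (Nat.beq c 70) [⟨85, -1, 1⟩] [])) (cond (Nat.blt c 87) (cond (Nat.beq c 86) [⟨119, 1, 1⟩] []) (cond (Nat.beq c 87) [⟨120, 1, 1⟩] []))) (cond (Nat.blt c 93) (cond (Nat.blt c 92) (cond (Nat.beq c 89) [⟨121, 1, 1⟩] []) (cond (Nat.beq c 92) [⟨163, -1, 2⟩, ⟨0, 0, 1⟩, ⟨1, 1, 1⟩, ⟨2, 1, 1⟩, ⟨3, 2, 1⟩, ⟨4, 1, 1⟩, ⟨5, 1, 1⟩, ⟨6, 1, 1⟩, ⟨7, 1, 1⟩] [])) (cond (Nat.blt c 94) (cond (Nat.beq c 93) [⟨128, 1, 1⟩] []) (cond (Nat.beq c 94) [⟨130, 1, 1⟩] [])))))) (cond (Nat.blt c 171) (cond (Nat.blt c 117) (cond (Nat.blt c 105) (cond (Nat.blt c 100) (cond (Nat.blt c 96) (cond (Nat.beq c 95) [⟨133, 1, 1⟩] []) (cond (Nat.beq c 96) [⟨138, 1, 1⟩] [])) (cond (Nat.blt c 101) (cond (Nat.beq c 100) [⟨142, -1, 1⟩] []) (cond (Nat.beq c 101) [⟨144, 1, 1⟩] []))) (cond (Nat.blt c 111)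 (cond (Nat.blt c 107) (cond (Nat.beq c 105) [⟨148, -1, 1⟩] []) (cond (Nat.beq c 107) [⟨150, 1, 1⟩] [])) (cond (Nat.blt c 113) (cond (Nat.beq c 111) [⟨154, -1, 1⟩] []) (cond (Nat.beq c 113) [⟨155, 1, 1⟩] [])))) (cond (Nat.blt c 134) (cond (Nat.blt c 125) (cond (Nat.blt c 122) (cond (Nat.beq c 117) [⟨159, -1, 1⟩] []) (cond (Nat.beq c 122) [⟨160, -1, 1⟩] [])) (cond (Nat.blt c 127) (cond (Nat.beq c 125) [⟨161, -1, 1⟩] []) (cond (Nat.beq c 127) [⟨162, -1, 1⟩] []))) (cond (Nat.blt c 136) (cond (Nat.blt c 135) (cond (Nat.beq c 134) [⟨166, -1, 1⟩] []) (cond (Nat.beq c 135) [⟨168, -1, 1⟩] [])) (cond (Nat.blt c 170) (cond (Nat.beq c 136) [⟨169, -1, 1⟩] []) (cond (Nat.beq c 170) [⟨185, 1, 1⟩] []))))) (cond (Nat.blt c 187) (cond (Nat.blt c 178) (cond (Nat.blt c 174) (cond (Nat.blt c 173) (cond (Nat.beq c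 171) [⟨195, 1, 1⟩] []) (cond (Nat.beq c 173) [⟨204, -1, 1⟩] [])) (cond (Nat.blt c 175) (cond (Nat.beq c 174) [⟨206, -1, 1⟩] []) (cond (Nat.beq c 175) [⟨207, -1, 1⟩] []))) (cond (Nat.blt c 180) (cond (Nat.blt c 179) (cond (Nat.beq c 178) [⟨214, -1, 1⟩] []) (cond (Nat.beq c 179) [⟨216, -1, 1⟩] [])) (cond (Nat.blt c 186) (cond (Nat.beq c 180) [⟨217, -1, 1⟩] []) (cond (Nat.beq c 186) [⟨223, 1, 1⟩] [])))) (cond (Nat.blt c 199) (cond (Nat.blt c 196) (cond (Nat.blt c 189) (cond (Nat.beq c 187) [⟨224, 1, 1⟩] []) (cond (Nat.beq c 189) [⟨225, 1, 1⟩] [])) (cond (Nat.blt c 197) (cond (Nat.beq c 196) [⟨228, 1, 1⟩] []) (cond (Nat.beq c 197) [⟨229, 1, 1⟩] []))) (cond (Nat.blt c 218) (cond (Nat.blt c 208) (cond (Nat.beq c 199) [⟨230, 1, 1⟩] []) (cond (Nat.beq c 208) [⟨232, -1, 1⟩] [])) (cond (Nat.blt c 234)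 (cond (Nat.beq c 218) [⟨233, -1, 1⟩] []) (cond (Nat.blt c 238) (cond (Nat.beq c 234) [⟨243, -1, 1⟩] []) (cond (Nat.beq c 238) [⟨247, 1, 1⟩] [])))))))

/-- Compiled columns of `x_156` for type E8. -/
def colsE8_156 (c : ℕ) : List CEnt :=
  cond (Nat.blt c 95) (cond (Nat.blt c 32) (cond (Nat.blt c 10) (cond (Nat.blt c 4) (cond (Nat.blt c 2) (cond (Nat.blt c 1) (cond (Nat.beq c 0) [⟨164, 1, 1⟩] []) (cond (Nat.beq c 1) [⟨164, 0, 1⟩] [])) (cond (Nat.blt c 3) (cond (Nat.beq c 2) [⟨164, 0, 1⟩] []) (cond (Nat.beq c 3) [⟨164, 0, 1⟩] []))) (cond (Nat.blt c 6) (cond (Nat.blt c 5) (cond (Nat.beq c 4) [⟨164, -1, 1⟩] []) (cond (Nat.beq c 5) [⟨164, 0, 1⟩] [])) (cond (Nat.blt c 7) (cond (Nat.beq c 6) [⟨164, 1, 1⟩] []) (cond (Nat.beq c 7) [⟨164, 0, 1⟩] [])))) (cond (Nat.blt c 24) (cond (Nat.blt c 22) (cond (Nat.blt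 c 11) (cond (Nat.beq c 10) [⟨18, 1, 1⟩] []) (cond (Nat.beq c 11) [⟨19, 1, 1⟩] [])) (cond (Nat.blt c 23) (cond (Nat.beq c 22) [⟨38, -1, 1⟩] []) (cond (Nat.beq c 23) [⟨48, -1, 1⟩] []))) (cond (Nat.blt c 28) (cond (Nat.blt c 27) (cond (Nat.beq c 24) [⟨54, -1, 1⟩] []) (cond (Nat.beq c 27) [⟨60, -1, 1⟩] [])) (cond (Nat.blt c 29) (cond (Nat.beq c 28) [⟨61, -1, 1⟩] []) (cond (Nat.beq c 29) [⟨64, -1, 1⟩] []))))) (cond (Nat.blt c 59) (cond (Nat.blt c 43) (cond (Nat.blt c 36) (cond (Nat.blt c 33) (cond (Nat.beq c 32) [⟨70, -1, 1⟩] []) (cond (Nat.beq c 33) [⟨71, -1, 1⟩] [])) (cond (Nat.blt c 37) (cond (Nat.beq c 36) [⟨74, -1, 1⟩] []) (cond (Nat.beq c 37) [⟨75, -1, 1⟩] []))) (cond (Nat.blt c 47) (cond (Nat.blt c 46) (cond (Nat.beq c 43) [⟨78, -1, 1⟩] []) (cond (Nat.beq c 46) [⟨79, -1, 1⟩] [])) (cond (Nat.blt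 c 53) (cond (Nat.beq c 47) [⟨80, -1, 1⟩] []) (cond (Nat.beq c 53) [⟨83, -1, 1⟩] [])))) (cond (Nat.blt c 89) (cond (Nat.blt c 87) (cond (Nat.blt c 69) (cond (Nat.beq c 59) [⟨84, -1, 1⟩] []) (cond (Nat.beq c 69) [⟨85, -1, 1⟩] [])) (cond (Nat.blt c 88) (cond (Nat.beq c 87) [⟨122, -1, 1⟩] []) (cond (Nat.beq c 88) [⟨123, -1, 1⟩] []))) (cond (Nat.blt c 91) (cond (Nat.blt c 90) (cond (Nat.beq c 89) [⟨125, 1, 1⟩] []) (cond (Nat.beq c 90) [⟨126, 1, 1⟩] [])) (cond (Nat.blt c 94) (cond (Nat.beq c 91) [⟨164, -1, 2⟩, ⟨0, 0, 1⟩, ⟨1, 1, 1⟩, ⟨2, 1, 1⟩, ⟨3, 2, 1⟩, ⟨4, 2, 1⟩, ⟨5, 1, 1⟩, ⟨6, 0, 1⟩, ⟨7, 0, 1⟩] []) (cond (Nat.beq c 94) [⟨134, 1, 1⟩] [])))))) (cond (Nat.blt c 171) (cond (Nat.blt c 116) (cond (Nat.blt c 104) (cond (Nat.blt c 99) (cond (Nat.blt c 98) (cond (Nat.beq c 95) [⟨135, -1, 1⟩] []) (cond (Nat.beq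 c 98) [⟨139, 1, 1⟩] [])) (cond (Nat.blt c 103) (cond (Nat.beq c 99) [⟨140, -1, 1⟩] []) (cond (Nat.beq c 103) [⟨145, 1, 1⟩] []))) (cond (Nat.blt c 110) (cond (Nat.blt c 109) (cond (Nat.beq c 104) [⟨146, -1, 1⟩] []) (cond (Nat.beq c 109) [⟨151, 1, 1⟩] [])) (cond (Nat.blt c 115) (cond (Nat.beq c 110) [⟨152, -1, 1⟩] []) (cond (Nat.beq c 115) [⟨156, 1, 1⟩] [])))) (cond (Nat.blt c 130) (cond (Nat.blt c 121) (cond (Nat.blt c 120) (cond (Nat.beq c 116) [⟨157, -1, 1⟩] []) (cond (Nat.beq c 120) [⟨160, 1, 1⟩] [])) (cond (Nat.blt c 129) (cond (Nat.beq c 121) [⟨161, -1, 1⟩] []) (cond (Nat.beq c 129) [⟨165, -1, 1⟩] []))) (cond (Nat.blt c 133) (cond (Nat.blt c 132) (cond (Nat.beq c 130) [⟨166, -1, 1⟩] []) (cond (Nat.beq c 132) [⟨167, 1, 1⟩] [])) (cond (Nat.blt c 170) (cond (Nat.beq c 133) [⟨168, 1, 1⟩] [])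 (cond (Nat.beq c 170) [⟨186, 1, 1⟩] []))))) (cond (Nat.blt c 185) (cond (Nat.blt c 177) (cond (Nat.blt c 175) (cond (Nat.blt c 172) (cond (Nat.beq c 171) [⟨196, 1, 1⟩] []) (cond (Nat.beq c 172) [⟨202, 1, 1⟩] [])) (cond (Nat.blt c 176) (cond (Nat.beq c 175) [⟨208, 1, 1⟩] []) (cond (Nat.beq c 176) [⟨209, 1, 1⟩] []))) (cond (Nat.blt c 181) (cond (Nat.blt c 180) (cond (Nat.beq c 177) [⟨212, 1, 1⟩] []) (cond (Nat.beq c 180) [⟨218, 1, 1⟩] [])) (cond (Nat.blt c 184) (cond (Nat.beq c 181) [⟨219, 1, 1⟩] []) (cond (Nat.beq c 184) [⟨222, 1, 1⟩] [])))) (cond (Nat.blt c 201) (cond (Nat.blt c 194) (cond (Nat.blt c 191) (cond (Nat.beq c 185) [⟨223, 1, 1⟩] []) (cond (Nat.beq c 191) [⟨226, 1, 1⟩] [])) (cond (Nat.blt c 195) (cond (Nat.beq c 194) [⟨227, 1, 1⟩] []) (cond (Nat.beq c 195) [⟨228, 1, 1⟩] []))) (cond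 (Nat.blt c 217) (cond (Nat.blt c 207) (cond (Nat.beq c 201) [⟨231, 1, 1⟩] []) (cond (Nat.beq c 207) [⟨232, 1, 1⟩] [])) (cond (Nat.blt c 236) (cond (Nat.beq c 217) [⟨233, 1, 1⟩] []) (cond (Nat.blt c 237) (cond (Nat.beq c 236) [⟨244, -1, 1⟩] []) (cond (Nat.beq c 237) [⟨245, -1, 1⟩] [])))))))

/-- Compiled columns of `x_157` for type E8. -/
def colsE8_157 (c : ℕ) : List CEnt :=
  cond (Nat.blt c 95) (cond (Nat.blt c 31) (cond (Nat.blt c 9) (cond (Nat.blt c 4) (cond (Nat.blt c 2) (cond (Nat.blt c 1) (cond (Nat.beq c 0) [⟨165, 1, 1⟩] []) (cond (Nat.beq c 1) [⟨165, 0, 1⟩] [])) (cond (Nat.blt c 3) (cond (Nat.beq c 2) [⟨165, 0, 1⟩] []) (cond (Nat.beq c 3) [⟨165, 0, 1⟩] []))) (cond (Nat.blt c 6) (cond (Nat.blt c 5) (cond (Nat.beq c 4) [⟨165, -1, 1⟩] []) (cond (Nat.beq c 5) [⟨165, 1, 1⟩] [])) (cond (Nat.blt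 c 7) (cond (Nat.beq c 6) [⟨165, -1, 1⟩] []) (cond (Nat.beq c 7) [⟨165, 1, 1⟩] [])))) (cond (Nat.blt c 24) (cond (Nat.blt c 22) (cond (Nat.blt c 11) (cond (Nat.beq c 9) [⟨18, 1, 1⟩] []) (cond (Nat.beq c 11) [⟨20, -1, 1⟩] [])) (cond (Nat.blt c 23) (cond (Nat.beq c 22) [⟨39, 1, 1⟩] []) (cond (Nat.beq c 23) [⟨49, 1, 1⟩] []))) (cond (Nat.blt c 28) (cond (Nat.blt c 26) (cond (Nat.beq c 24) [⟨55, 1, 1⟩] []) (cond (Nat.beq c 26) [⟨60, -1, 1⟩] [])) (cond (Nat.blt c 29) (cond (Nat.beq c 28) [⟨62, 1, 1⟩] []) (cond (Nat.beq c 29) [⟨65, 1, 1⟩] []))))) (cond (Nat.blt c 58) (cond (Nat.blt c 42) (cond (Nat.blt c 35) (cond (Nat.blt c 33) (cond (Nat.beq c 31) [⟨70, -1, 1⟩] []) (cond (Nat.beq c 33) [⟨72, 1, 1⟩] [])) (cond (Nat.blt c 37) (cond (Nat.beq c 35) [⟨74, -1, 1⟩] []) (cond (Nat.beq c 37) [⟨76, 1, 1⟩] [])))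 (cond (Nat.blt c 47) (cond (Nat.blt c 45) (cond (Nat.beq c 42) [⟨78, -1, 1⟩] []) (cond (Nat.beq c 45) [⟨79, -1, 1⟩] [])) (cond (Nat.blt c 52) (cond (Nat.beq c 47) [⟨81, 1, 1⟩] []) (cond (Nat.beq c 52) [⟨83, -1, 1⟩] [])))) (cond (Nat.blt c 89) (cond (Nat.blt c 86) (cond (Nat.blt c 68) (cond (Nat.beq c 58) [⟨84, -1, 1⟩] []) (cond (Nat.beq c 68) [⟨85, -1, 1⟩] [])) (cond (Nat.blt c 88) (cond (Nat.beq c 86) [⟨122, -1, 1⟩] []) (cond (Nat.beq c 88) [⟨124, 1, 1⟩] []))) (cond (Nat.blt c 91) (cond (Nat.blt c 90) (cond (Nat.beq c 89) [⟨127, 1, 1⟩] []) (cond (Nat.beq c 90) [⟨165, -1, 2⟩, ⟨0, 0, 1⟩, ⟨1, 1, 1⟩, ⟨2, 1, 1⟩, ⟨3, 2, 1⟩, ⟨4, 2, 1⟩, ⟨5, 1, 1⟩, ⟨6, 1, 1⟩, ⟨7, 0, 1⟩] [])) (cond (Nat.blt c 93) (cond (Nat.beq c 91) [⟨129, 1, 1⟩] []) (cond (Nat.beq c 93) [⟨134, 1, 1⟩] [])))))) (cond (Nat.blt c 171) (cond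 (Nat.blt c 116) (cond (Nat.blt c 104) (cond (Nat.blt c 99) (cond (Nat.blt c 97) (cond (Nat.beq c 95) [⟨136, -1, 1⟩] []) (cond (Nat.beq c 97) [⟨139, 1, 1⟩] [])) (cond (Nat.blt c 102) (cond (Nat.beq c 99) [⟨141, -1, 1⟩] []) (cond (Nat.beq c 102) [⟨145, 1, 1⟩] []))) (cond (Nat.blt c 110) (cond (Nat.blt c 108) (cond (Nat.beq c 104) [⟨147, -1, 1⟩] []) (cond (Nat.beq c 108) [⟨151, 1, 1⟩] [])) (cond (Nat.blt c 114) (cond (Nat.beq c 110) [⟨153, -1, 1⟩] []) (cond (Nat.beq c 114) [⟨156, 1, 1⟩] [])))) (cond (Nat.blt c 128) (cond (Nat.blt c 121) (cond (Nat.blt c 119) (cond (Nat.beq c 116) [⟨158, -1, 1⟩] []) (cond (Nat.beq c 119) [⟨160, 1, 1⟩] [])) (cond (Nat.blt c 126) (cond (Nat.beq c 121) [⟨162, -1, 1⟩] []) (cond (Nat.beq c 126) [⟨164, -1, 1⟩] []))) (cond (Nat.blt c 133) (cond (Nat.blt c 131) (cond (Nat.beq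 c 128) [⟨166, -1, 1⟩] []) (cond (Nat.beq c 131) [⟨167, -1, 1⟩] [])) (cond (Nat.blt c 170) (cond (Nat.beq c 133) [⟨169, 1, 1⟩] []) (cond (Nat.beq c 170) [⟨187, 1, 1⟩] []))))) (cond (Nat.blt c 185) (cond (Nat.blt c 177) (cond (Nat.blt c 174) (cond (Nat.blt c 172) (cond (Nat.beq c 171) [⟨197, 1, 1⟩] []) (cond (Nat.beq c 172) [⟨203, 1, 1⟩] [])) (cond (Nat.blt c 176) (cond (Nat.beq c 174) [⟨208, -1, 1⟩] []) (cond (Nat.beq c 176) [⟨210, 1, 1⟩] []))) (cond (Nat.blt c 181) (cond (Nat.blt c 179) (cond (Nat.beq c 177) [⟨213, 1, 1⟩] []) (cond (Nat.beq c 179) [⟨218, -1, 1⟩] [])) (cond (Nat.blt c 183) (cond (Nat.beq c 181) [⟨220, 1, 1⟩] []) (cond (Nat.beq c 183) [⟨222, -1, 1⟩] [])))) (cond (Nat.blt c 200) (cond (Nat.blt c 193) (cond (Nat.blt c 190) (cond (Nat.beq c 185) [⟨224, 1, 1⟩] []) (cond (Nat.beq c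 190) [⟨226, -1, 1⟩] [])) (cond (Nat.blt c 195) (cond (Nat.beq c 193) [⟨227, -1, 1⟩] []) (cond (Nat.beq c 195) [⟨229, 1, 1⟩] []))) (cond (Nat.blt c 216) (cond (Nat.blt c 206) (cond (Nat.beq c 200) [⟨231, -1, 1⟩] []) (cond (Nat.beq c 206) [⟨232, -1, 1⟩] [])) (cond (Nat.blt c 235) (cond (Nat.beq c 216) [⟨233, -1, 1⟩] []) (cond (Nat.blt c 237) (cond (Nat.beq c 235) [⟨244, 1, 1⟩] []) (cond (Nat.beq c 237) [⟨246, -1, 1⟩] [])))))))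

/-- Compiled columns of `x_158` for type E8. -/
def colsE8_158 (c : ℕ) : List CEnt :=
  cond (Nat.blt c 95) (cond (Nat.blt c 31) (cond (Nat.blt c 8) (cond (Nat.blt c 4) (cond (Nat.blt c 2) (cond (Nat.blt c 1) (cond (Nat.beq c 0) [⟨166, 1, 1⟩] []) (cond (Nat.beq c 1) [⟨166, 0, 1⟩] [])) (cond (Nat.blt c 3) (cond (Nat.beq c 2) [⟨166, 0, 1⟩] []) (cond (Nat.beq c 3) [⟨166, 0, 1⟩] []))) (cond (Nat.blt c 6) (cond (Nat.blt c 5) (cond (Nat.beq c 4) [⟨166, -1, 1⟩] []) (cond (Nat.beq c 5) [⟨166, 1, 1⟩] [])) (cond (Nat.blt c 7) (cond (Nat.beq c 6) [⟨166, 0, 1⟩] []) (cond (Nat.beq c 7) [⟨166, -1, 1⟩] [])))) (cond (Nat.blt c 24) (cond (Nat.blt c 22) (cond (Nat.blt c 11) (cond (Nat.beq c 8) [⟨18, 1, 1⟩] []) (cond (Nat.beq c 11) [⟨21, 1, 1⟩] [])) (cond (Nat.blt c 23) (cond (Nat.beq c 22) [⟨40, -1, 1⟩] []) (cond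 (Nat.beq c 23) [⟨50, -1, 1⟩] []))) (cond (Nat.blt c 27) (cond (Nat.blt c 26) (cond (Nat.beq c 24) [⟨56, -1, 1⟩] []) (cond (Nat.beq c 26) [⟨61, 1, 1⟩] [])) (cond (Nat.blt c 29) (cond (Nat.beq c 27) [⟨62, 1, 1⟩] []) (cond (Nat.beq c 29) [⟨66, -1, 1⟩] []))))) (cond (Nat.blt c 57) (cond (Nat.blt c 41) (cond (Nat.blt c 35) (cond (Nat.blt c 32) (cond (Nat.beq c 31) [⟨71, 1, 1⟩] []) (cond (Nat.beq c 32) [⟨72, 1, 1⟩] [])) (cond (Nat.blt c 36) (cond (Nat.beq c 35) [⟨75, 1, 1⟩] []) (cond (Nat.beq c 36) [⟨76, 1, 1⟩] []))) (cond (Nat.blt c 46) (cond (Nat.blt c 45) (cond (Nat.beq c 41) [⟨78, -1, 1⟩] []) (cond (Nat.beq c 45) [⟨80, 1, 1⟩] [])) (cond (Nat.blt c 51) (cond (Nat.beq c 46) [⟨81, 1, 1⟩] []) (cond (Nat.beq c 51) [⟨83, -1, 1⟩] [])))) (cond (Nat.blt c 89) (cond (Nat.blt c 86) (cond (Nat.blt c 67) (cond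 (Nat.beq c 57) [⟨84, -1, 1⟩] []) (cond (Nat.beq c 67) [⟨85, -1, 1⟩] [])) (cond (Nat.blt c 87) (cond (Nat.beq c 86) [⟨123, 1, 1⟩] []) (cond (Nat.beq c 87) [⟨124, 1, 1⟩] []))) (cond (Nat.blt c 91) (cond (Nat.blt c 90) (cond (Nat.beq c 89) [⟨166, -1, 2⟩, ⟨0, 0, 1⟩, ⟨1, 1, 1⟩, ⟨2, 1, 1⟩, ⟨3, 2, 1⟩, ⟨4, 2, 1⟩, ⟨5, 1, 1⟩, ⟨6, 1, 1⟩, ⟨7, 1, 1⟩] []) (cond (Nat.beq c 90) [⟨128, 1, 1⟩] [])) (cond (Nat.blt c 92) (cond (Nat.beq c 91) [⟨130, 1, 1⟩] []) (cond (Nat.beq c 92) [⟨134, 1, 1⟩] [])))))) (cond (Nat.blt c 171) (cond (Nat.blt c 116) (cond (Nat.blt c 104) (cond (Nat.blt c 99) (cond (Nat.blt c 96) (cond (Nat.beq c 95) [⟨137, -1, 1⟩] []) (cond (Nat.beq c 96) [⟨139, 1, 1⟩] [])) (cond (Nat.blt c 101) (cond (Nat.beq c 99) [⟨142, -1, 1⟩] []) (cond (Nat.beq c 101) [⟨145, 1, 1⟩] []))) (cond (Nat.blt c 110) (cond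 (Nat.blt c 107) (cond (Nat.beq c 104) [⟨148, -1, 1⟩] []) (cond (Nat.beq c 107) [⟨151, 1, 1⟩] [])) (cond (Nat.blt c 113) (cond (Nat.beq c 110) [⟨154, -1, 1⟩] []) (cond (Nat.beq c 113) [⟨156, 1, 1⟩] [])))) (cond (Nat.blt c 127) (cond (Nat.blt c 121) (cond (Nat.blt c 118) (cond (Nat.beq c 116) [⟨159, -1, 1⟩] []) (cond (Nat.beq c 118) [⟨160, 1, 1⟩] [])) (cond (Nat.blt c 125) (cond (Nat.beq c 121) [⟨163, -1, 1⟩] []) (cond (Nat.beq c 125) [⟨164, -1, 1⟩] []))) (cond (Nat.blt c 132) (cond (Nat.blt c 131) (cond (Nat.beq c 127) [⟨165, -1, 1⟩] []) (cond (Nat.beq c 131) [⟨168, -1, 1⟩] [])) (cond (Nat.blt c 170) (cond (Nat.beq c 132) [⟨169, -1, 1⟩] []) (cond (Nat.beq c 170) [⟨188, 1, 1⟩] []))))) (cond (Nat.blt c 184) (cond (Nat.blt c 177) (cond (Nat.blt c 174) (cond (Nat.blt c 172) (cond (Nat.beq c 171) [⟨198,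 1, 1⟩] []) (cond (Nat.beq c 172) [⟨204, 1, 1⟩] [])) (cond (Nat.blt c 175) (cond (Nat.beq c 174) [⟨209, -1, 1⟩] []) (cond (Nat.beq c 175) [⟨210, -1, 1⟩] []))) (cond (Nat.blt c 180) (cond (Nat.blt c 179) (cond (Nat.beq c 177) [⟨214, 1, 1⟩] []) (cond (Nat.beq c 179) [⟨219, -1, 1⟩] [])) (cond (Nat.blt c 183) (cond (Nat.beq c 180) [⟨220, -1, 1⟩] []) (cond (Nat.beq c 183) [⟨223, -1, 1⟩] [])))) (cond (Nat.blt c 199) (cond (Nat.blt c 193) (cond (Nat.blt c 189) (cond (Nat.beq c 184) [⟨224, -1, 1⟩] []) (cond (Nat.beq c 189) [⟨226, 1, 1⟩] [])) (cond (Nat.blt c 194) (cond (Nat.beq c 193) [⟨228, -1, 1⟩] []) (cond (Nat.beq c 194) [⟨229, -1, 1⟩] []))) (cond (Nat.blt c 215) (cond (Nat.blt c 205) (cond (Nat.beq c 199) [⟨231, 1, 1⟩] []) (cond (Nat.beq c 205) [⟨232, 1, 1⟩] [])) (cond (Nat.blt c 234) (cond (Nat.beq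 c 215) [⟨233, 1, 1⟩] []) (cond (Nat.blt c 237) (cond (Nat.beq c 234) [⟨244, -1, 1⟩] []) (cond (Nat.beq c 237) [⟨247, -1, 1⟩] [])))))))

/-- Compiled columns of `x_159` for type E8. -/
def colsE8_159 (c : ℕ) : List CEnt :=
  cond (Nat.blt c 94) (cond (Nat.blt c 30) (cond (Nat.blt c 9) (cond (Nat.blt c 4) (cond (Nat.blt c 2) (cond (Nat.blt c 1) (cond (Nat.beq c 0) [⟨167, 1, 1⟩] []) (cond (Nat.beq c 1) [⟨167, 0, 1⟩] [])) (cond (Nat.blt c 3) (cond (Nat.beq c 2) [⟨167, 0, 1⟩] []) (cond (Nat.beq c 3) [⟨167, 0, 1⟩] []))) (cond (Nat.blt c 6) (cond (Nat.blt c 5) (cond (Nat.beq c 4) [⟨167, 0, 1⟩] []) (cond (Nat.beq c 5) [⟨167, -1, 1⟩] [])) (cond (Nat.blt c 7) (cond (Nat.beq c 6) [⟨167, 0, 1⟩] []) (cond (Nat.beq c 7) [⟨167, 1, 1⟩] [])))) (cond (Nat.blt c 24) (cond (Nat.blt c 22) (cond (Nat.blt c 10) (cond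 (Nat.beq c 9) [⟨19, -1, 1⟩] []) (cond (Nat.beq c 10) [⟨20, -1, 1⟩] [])) (cond (Nat.blt c 23) (cond (Nat.beq c 22) [⟨41, -1, 1⟩] []) (cond (Nat.beq c 23) [⟨51, -1, 1⟩] []))) (cond (Nat.blt c 28) (cond (Nat.blt c 25) (cond (Nat.beq c 24) [⟨57, -1, 1⟩] []) (cond (Nat.beq c 25) [⟨60, -1, 1⟩] [])) (cond (Nat.blt c 29) (cond (Nat.beq c 28) [⟨63, -1, 1⟩] []) (cond (Nat.beq c 29) [⟨67, -1, 1⟩] []))))) (cond (Nat.blt c 56) (cond (Nat.blt c 40) (cond (Nat.blt c 34) (cond (Nat.blt c 33) (cond (Nat.beq c 30) [⟨70, -1, 1⟩] []) (cond (Nat.beq c 33) [⟨73, -1, 1⟩] [])) (cond (Nat.blt c 37) (cond (Nat.beq c 34) [⟨74, -1, 1⟩] []) (cond (Nat.beq c 37) [⟨77, -1, 1⟩] []))) (cond (Nat.blt c 47) (cond (Nat.blt c 44) (cond (Nat.beq c 40) [⟨78, -1, 1⟩] []) (cond (Nat.beq c 44) [⟨79, -1, 1⟩] [])) (cond (Nat.blt c 50)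 (cond (Nat.beq c 47) [⟨82, -1, 1⟩] []) (cond (Nat.beq c 50) [⟨83, -1, 1⟩] [])))) (cond (Nat.blt c 88) (cond (Nat.blt c 86) (cond (Nat.blt c 66) (cond (Nat.beq c 56) [⟨84, -1, 1⟩] []) (cond (Nat.beq c 66) [⟨85, -1, 1⟩] [])) (cond (Nat.blt c 87) (cond (Nat.beq c 86) [⟨125, -1, 1⟩] []) (cond (Nat.beq c 87) [⟨127, 1, 1⟩] []))) (cond (Nat.blt c 91) (cond (Nat.blt c 90) (cond (Nat.beq c 88) [⟨167, -1, 2⟩, ⟨0, 0, 1⟩, ⟨1, 1, 1⟩, ⟨2, 1, 1⟩, ⟨3, 2, 1⟩, ⟨4, 2, 1⟩, ⟨5, 2, 1⟩, ⟨6, 1, 1⟩, ⟨7, 0, 1⟩] []) (cond (Nat.beq c 90) [⟨131, 1, 1⟩] [])) (cond (Nat.blt c 93) (cond (Nat.beq c 91) [⟨132, -1, 1⟩] []) (cond (Nat.beq c 93) [⟨135, 1, 1⟩] [])))))) (cond (Nat.blt c 171) (cond (Nat.blt c 115) (cond (Nat.blt c 103) (cond (Nat.blt c 98) (cond (Nat.blt c 97) (cond (Nat.beq c 94) [⟨136, -1, 1⟩] []) (cond (Nat.beq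 c 97) [⟨140, 1, 1⟩] [])) (cond (Nat.blt c 102) (cond (Nat.beq c 98) [⟨141, -1, 1⟩] []) (cond (Nat.beq c 102) [⟨146, 1, 1⟩] []))) (cond (Nat.blt c 109) (cond (Nat.blt c 108) (cond (Nat.beq c 103) [⟨147, -1, 1⟩] []) (cond (Nat.beq c 108) [⟨152, 1, 1⟩] [])) (cond (Nat.blt c 114) (cond (Nat.beq c 109) [⟨153, -1, 1⟩] []) (cond (Nat.beq c 114) [⟨157, 1, 1⟩] [])))) (cond (Nat.blt c 124) (cond (Nat.blt c 120) (cond (Nat.blt c 119) (cond (Nat.beq c 115) [⟨158, -1, 1⟩] []) (cond (Nat.beq c 119) [⟨161, 1, 1⟩] [])) (cond (Nat.blt c 123) (cond (Nat.beq c 120) [⟨162, -1, 1⟩] []) (cond (Nat.beq c 123) [⟨164, 1, 1⟩] []))) (cond (Nat.blt c 130) (cond (Nat.blt c 128) (cond (Nat.beq c 124) [⟨165, -1, 1⟩] []) (cond (Nat.beq c 128) [⟨168, -1, 1⟩] [])) (cond (Nat.blt c 170) (cond (Nat.beq c 130) [⟨169, 1, 1⟩] [])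 (cond (Nat.beq c 170) [⟨189, 1, 1⟩] []))))) (cond (Nat.blt c 185) (cond (Nat.blt c 177) (cond (Nat.blt c 173) (cond (Nat.blt c 172) (cond (Nat.beq c 171) [⟨199, 1, 1⟩] []) (cond (Nat.beq c 172) [⟨205, 1, 1⟩] [])) (cond (Nat.blt c 176) (cond (Nat.beq c 173) [⟨208, 1, 1⟩] []) (cond (Nat.beq c 176) [⟨211, 1, 1⟩] []))) (cond (Nat.blt c 181) (cond (Nat.blt c 178) (cond (Nat.beq c 177) [⟨215, 1, 1⟩] []) (cond (Nat.beq c 178) [⟨218, 1, 1⟩] [])) (cond (Nat.blt c 182) (cond (Nat.beq c 181) [⟨221, 1, 1⟩] []) (cond (Nat.beq c 182) [⟨222, 1, 1⟩] [])))) (cond (Nat.blt c 198) (cond (Nat.blt c 192) (cond (Nat.blt c 188) (cond (Nat.beq c 185) [⟨225, 1, 1⟩] []) (cond (Nat.beq c 188) [⟨226, 1, 1⟩] [])) (cond (Nat.blt c 195) (cond (Nat.beq c 192) [⟨227, 1, 1⟩] []) (cond (Nat.beq c 195) [⟨230, 1, 1⟩] []))) (cond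 (Nat.blt c 214) (cond (Nat.blt c 204) (cond (Nat.beq c 198) [⟨231, 1, 1⟩] []) (cond (Nat.beq c 204) [⟨232, 1, 1⟩] [])) (cond (Nat.blt c 235) (cond (Nat.beq c 214) [⟨233, 1, 1⟩] []) (cond (Nat.blt c 236) (cond (Nat.beq c 235) [⟨245, 1, 1⟩] []) (cond (Nat.beq c 236) [⟨246, 1, 1⟩] [])))))))

/-- Compiled columns of `x_160` for type E8. -/
def colsE8_160 (c : ℕ) : List CEnt :=
  cond (Nat.blt c 94) (cond (Nat.blt c 30) (cond (Nat.blt c 8) (cond (Nat.blt c 4) (cond (Nat.blt c 2) (cond (Nat.blt c 1) (cond (Nat.beq c 0) [⟨168, 1, 1⟩] []) (cond (Nat.beq c 1) [⟨168, 0, 1⟩] [])) (cond (Nat.blt c 3) (cond (Nat.beq c 2) [⟨168, 0, 1⟩] []) (cond (Nat.beq c 3) [⟨168, 0, 1⟩] []))) (cond (Nat.blt c 6) (cond (Nat.blt c 5) (cond (Nat.beq c 4) [⟨168, 0, 1⟩] []) (cond (Nat.beq c 5) [⟨168, -1, 1⟩] [])) (cond (Nat.blt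 c 7) (cond (Nat.beq c 6) [⟨168, 1, 1⟩] []) (cond (Nat.beq c 7) [⟨168, -1, 1⟩] [])))) (cond (Nat.blt c 24) (cond (Nat.blt c 22) (cond (Nat.blt c 10) (cond (Nat.beq c 8) [⟨19, -1, 1⟩] []) (cond (Nat.beq c 10) [⟨21, 1, 1⟩] [])) (cond (Nat.blt c 23) (cond (Nat.beq c 22) [⟨42, 1, 1⟩] []) (cond (Nat.beq c 23) [⟨52, 1, 1⟩] []))) (cond (Nat.blt c 27) (cond (Nat.blt c 25) (cond (Nat.beq c 24) [⟨58, 1, 1⟩] []) (cond (Nat.beq c 25) [⟨61, 1, 1⟩] [])) (cond (Nat.blt c 29) (cond (Nat.beq c 27) [⟨63, -1, 1⟩] []) (cond (Nat.beq c 29) [⟨68, 1, 1⟩] []))))) (cond (Nat.blt c 55) (cond (Nat.blt c 39) (cond (Nat.blt c 34) (cond (Nat.blt c 32) (cond (Nat.beq c 30) [⟨71, 1, 1⟩] []) (cond (Nat.beq c 32) [⟨73, -1, 1⟩] [])) (cond (Nat.blt c 36) (cond (Nat.beq c 34) [⟨75, 1, 1⟩] []) (cond (Nat.beq c 36) [⟨77, -1, 1⟩] [])))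 (cond (Nat.blt c 46) (cond (Nat.blt c 44) (cond (Nat.beq c 39) [⟨78, -1, 1⟩] []) (cond (Nat.beq c 44) [⟨80, 1, 1⟩] [])) (cond (Nat.blt c 49) (cond (Nat.beq c 46) [⟨82, -1, 1⟩] []) (cond (Nat.beq c 49) [⟨83, -1, 1⟩] [])))) (cond (Nat.blt c 88) (cond (Nat.blt c 86) (cond (Nat.blt c 65) (cond (Nat.beq c 55) [⟨84, -1, 1⟩] []) (cond (Nat.beq c 65) [⟨85, -1, 1⟩] [])) (cond (Nat.blt c 87) (cond (Nat.beq c 86) [⟨126, 1, 1⟩] []) (cond (Nat.beq c 87) [⟨168, -1, 2⟩, ⟨0, 0, 1⟩, ⟨1, 1, 1⟩, ⟨2, 1, 1⟩, ⟨3, 2, 1⟩, ⟨4, 2, 1⟩, ⟨5, 2, 1⟩, ⟨6, 1, 1⟩, ⟨7, 1, 1⟩] []))) (cond (Nat.blt c 91) (cond (Nat.blt c 89) (cond (Nat.beq c 88) [⟨128, 1, 1⟩] []) (cond (Nat.beq c 89) [⟨131, 1, 1⟩] [])) (cond (Nat.blt c 92) (cond (Nat.beq c 91) [⟨133, -1, 1⟩] []) (cond (Nat.beq c 92) [⟨135, 1, 1⟩] [])))))) (cond (Nat.blt c 171) (cond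 (Nat.blt c 115) (cond (Nat.blt c 103) (cond (Nat.blt c 98) (cond (Nat.blt c 96) (cond (Nat.beq c 94) [⟨137, -1, 1⟩] []) (cond (Nat.beq c 96) [⟨140, 1, 1⟩] [])) (cond (Nat.blt c 101) (cond (Nat.beq c 98) [⟨142, -1, 1⟩] []) (cond (Nat.beq c 101) [⟨146, 1, 1⟩] []))) (cond (Nat.blt c 109) (cond (Nat.blt c 107) (cond (Nat.beq c 103) [⟨148, -1, 1⟩] []) (cond (Nat.beq c 107) [⟨152, 1, 1⟩] [])) (cond (Nat.blt c 113) (cond (Nat.beq c 109) [⟨154, -1, 1⟩] []) (cond (Nat.beq c 113) [⟨157, 1, 1⟩] [])))) (cond (Nat.blt c 124) (cond (Nat.blt c 120) (cond (Nat.blt c 118) (cond (Nat.beq c 115) [⟨159, -1, 1⟩] []) (cond (Nat.beq c 118) [⟨161, 1, 1⟩] [])) (cond (Nat.blt c 122) (cond (Nat.beq c 120) [⟨163, -1, 1⟩] []) (cond (Nat.beq c 122) [⟨164, 1, 1⟩] []))) (cond (Nat.blt c 129) (cond (Nat.blt c 127) (cond (Nat.beq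 c 124) [⟨166, -1, 1⟩] []) (cond (Nat.beq c 127) [⟨167, -1, 1⟩] [])) (cond (Nat.blt c 170) (cond (Nat.beq c 129) [⟨169, -1, 1⟩] []) (cond (Nat.beq c 170) [⟨190, 1, 1⟩] []))))) (cond (Nat.blt c 184) (cond (Nat.blt c 177) (cond (Nat.blt c 173) (cond (Nat.blt c 172) (cond (Nat.beq c 171) [⟨200, 1, 1⟩] []) (cond (Nat.beq c 172) [⟨206, 1, 1⟩] [])) (cond (Nat.blt c 175) (cond (Nat.beq c 173) [⟨209, 1, 1⟩] []) (cond (Nat.beq c 175) [⟨211, -1, 1⟩] []))) (cond (Nat.blt c 180) (cond (Nat.blt c 178) (cond (Nat.beq c 177) [⟨216, 1, 1⟩] []) (cond (Nat.beq c 178) [⟨219, 1, 1⟩] [])) (cond (Nat.blt c 182) (cond (Nat.beq c 180) [⟨221, -1, 1⟩] []) (cond (Nat.beq c 182) [⟨223, 1, 1⟩] [])))) (cond (Nat.blt c 197) (cond (Nat.blt c 192) (cond (Nat.blt c 187) (cond (Nat.beq c 184) [⟨225, -1, 1⟩] []) (cond (Nat.beq c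 187) [⟨226, -1, 1⟩] [])) (cond (Nat.blt c 194) (cond (Nat.beq c 192) [⟨228, 1, 1⟩] []) (cond (Nat.beq c 194) [⟨230, -1, 1⟩] []))) (cond (Nat.blt c 213) (cond (Nat.blt c 203) (cond (Nat.beq c 197) [⟨231, -1, 1⟩] []) (cond (Nat.beq c 203) [⟨232, -1, 1⟩] [])) (cond (Nat.blt c 234) (cond (Nat.beq c 213) [⟨233, -1, 1⟩] []) (cond (Nat.blt c 236) (cond (Nat.beq c 234) [⟨245, -1, 1⟩] []) (cond (Nat.beq c 236) [⟨247, 1, 1⟩] [])))))))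

/-- Compiled columns of `x_161` for type E8. -/
def colsE8_161 (c : ℕ) : List CEnt :=
  cond (Nat.blt c 93) (cond (Nat.blt c 30) (cond (Nat.blt c 8) (cond (Nat.blt c 4) (cond (Nat.blt c 2) (cond (Nat.blt c 1) (cond (Nat.beq c 0) [⟨169, 1, 1⟩] []) (cond (Nat.beq c 1) [⟨169, 0, 1⟩] [])) (cond (Nat.blt c 3) (cond (Nat.beq c 2) [⟨169, 0, 1⟩] []) (cond (Nat.beq c 3) [⟨169, 0, 1⟩] []))) (cond (Nat.blt c 6) (cond (Nat.blt c 5) (cond (Nat.beq c 4) [⟨169, 0, 1⟩] []) (cond (Nat.beq c 5) [⟨169, 0, 1⟩] [])) (cond (Nat.blt c 7) (cond (Nat.beq c 6) [⟨169, -1, 1⟩] []) (cond (Nat.beq c 7) [⟨169, 0, 1⟩] [])))) (cond (Nat.blt c 24) (cond (Nat.blt c 22) (cond (Nat.blt c 9) (cond (Nat.beq c 8) [⟨20, 1, 1⟩] []) (cond (Nat.beq c 9) [⟨21, 1, 1⟩] [])) (cond (Nat.blt c 23) (cond (Nat.beq c 22) [⟨43, -1, 1⟩] []) (cond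 (Nat.beq c 23) [⟨53, -1, 1⟩] []))) (cond (Nat.blt c 26) (cond (Nat.blt c 25) (cond (Nat.beq c 24) [⟨59, -1, 1⟩] []) (cond (Nat.beq c 25) [⟨62, -1, 1⟩] [])) (cond (Nat.blt c 29) (cond (Nat.beq c 26) [⟨63, -1, 1⟩] []) (cond (Nat.beq c 29) [⟨69, -1, 1⟩] []))))) (cond (Nat.blt c 54) (cond (Nat.blt c 38) (cond (Nat.blt c 34) (cond (Nat.blt c 31) (cond (Nat.beq c 30) [⟨72, -1, 1⟩] []) (cond (Nat.beq c 31) [⟨73, -1, 1⟩] [])) (cond (Nat.blt c 35) (cond (Nat.beq c 34) [⟨76, -1, 1⟩] []) (cond (Nat.beq c 35) [⟨77, -1, 1⟩] []))) (cond (Nat.blt c 45) (cond (Nat.blt c 44) (cond (Nat.beq c 38) [⟨78, -1, 1⟩] []) (cond (Nat.beq c 44) [⟨81, -1, 1⟩] [])) (cond (Nat.blt c 48) (cond (Nat.beq c 45) [⟨82, -1, 1⟩] []) (cond (Nat.beq c 48) [⟨83, -1, 1⟩] [])))) (cond (Nat.blt c 88) (cond (Nat.blt c 86) (cond (Nat.blt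 c 64) (cond (Nat.beq c 54) [⟨84, -1, 1⟩] []) (cond (Nat.beq c 64) [⟨85, -1, 1⟩] [])) (cond (Nat.blt c 87) (cond (Nat.beq c 86) [⟨169, -1, 2⟩, ⟨0, 0, 1⟩, ⟨1, 1, 1⟩, ⟨2, 1, 1⟩, ⟨3, 2, 1⟩, ⟨4, 2, 1⟩, ⟨5, 2, 1⟩, ⟨6, 2, 1⟩, ⟨7, 1, 1⟩] []) (cond (Nat.beq c 87) [⟨129, 1, 1⟩] []))) (cond (Nat.blt c 90) (cond (Nat.blt c 89) (cond (Nat.beq c 88) [⟨130, -1, 1⟩] []) (cond (Nat.beq c 89) [⟨132, 1, 1⟩] [])) (cond (Nat.blt c 92) (cond (Nat.beq c 90) [⟨133, -1, 1⟩] []) (cond (Nat.beq c 92) [⟨136, 1, 1⟩] [])))))) (cond (Nat.blt c 171) (cond (Nat.blt c 114) (cond (Nat.blt c 102) (cond (Nat.blt c 97) (cond (Nat.blt c 96) (cond (Nat.beq c 93) [⟨137, -1, 1⟩] []) (cond (Nat.beq c 96) [⟨141, 1, 1⟩] [])) (cond (Nat.blt c 101) (cond (Nat.beq c 97) [⟨142, -1, 1⟩] []) (cond (Nat.beq c 101) [⟨147, 1, 1⟩] []))) (cond (Nat.blt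 c 108) (cond (Nat.blt c 107) (cond (Nat.beq c 102) [⟨148, -1, 1⟩] []) (cond (Nat.beq c 107) [⟨153, 1, 1⟩] [])) (cond (Nat.blt c 113) (cond (Nat.beq c 108) [⟨154, -1, 1⟩] []) (cond (Nat.beq c 113) [⟨158, 1, 1⟩] [])))) (cond (Nat.blt c 123) (cond (Nat.blt c 119) (cond (Nat.blt c 118) (cond (Nat.beq c 114) [⟨159, -1, 1⟩] []) (cond (Nat.beq c 118) [⟨162, 1, 1⟩] [])) (cond (Nat.blt c 122) (cond (Nat.beq c 119) [⟨163, -1, 1⟩] []) (cond (Nat.beq c 122) [⟨165, 1, 1⟩] []))) (cond (Nat.blt c 126) (cond (Nat.blt c 125) (cond (Nat.beq c 123) [⟨166, -1, 1⟩] []) (cond (Nat.beq c 125) [⟨167, 1, 1⟩] [])) (cond (Nat.blt c 170) (cond (Nat.beq c 126) [⟨168, -1, 1⟩] []) (cond (Nat.beq c 170) [⟨191, 1, 1⟩] []))))) (cond (Nat.blt c 183) (cond (Nat.blt c 177) (cond (Nat.blt c 173) (cond (Nat.blt c 172) (cond (Nat.beq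 c 171) [⟨201, 1, 1⟩] []) (cond (Nat.beq c 172) [⟨207, 1, 1⟩] [])) (cond (Nat.blt c 174) (cond (Nat.beq c 173) [⟨210, 1, 1⟩] []) (cond (Nat.beq c 174) [⟨211, 1, 1⟩] []))) (cond (Nat.blt c 179) (cond (Nat.blt c 178) (cond (Nat.beq c 177) [⟨217, 1, 1⟩] []) (cond (Nat.beq c 178) [⟨220, 1, 1⟩] [])) (cond (Nat.blt c 182) (cond (Nat.beq c 179) [⟨221, 1, 1⟩] []) (cond (Nat.beq c 182) [⟨224, 1, 1⟩] [])))) (cond (Nat.blt c 196) (cond (Nat.blt c 192) (cond (Nat.blt c 186) (cond (Nat.beq c 183) [⟨225, 1, 1⟩] []) (cond (Nat.beq c 186) [⟨226, 1, 1⟩] [])) (cond (Nat.blt c 193) (cond (Nat.beq c 192) [⟨229, 1, 1⟩] []) (cond (Nat.beq c 193) [⟨230, 1, 1⟩] []))) (cond (Nat.blt c 212) (cond (Nat.blt c 202) (cond (Nat.beq c 196) [⟨231, 1, 1⟩] []) (cond (Nat.beq c 202) [⟨232, 1, 1⟩] [])) (cond (Nat.blt c 234) (cond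 (Nat.beq c 212) [⟨233, 1, 1⟩] []) (cond (Nat.blt c 235) (cond (Nat.beq c 234) [⟨246, -1, 1⟩] []) (cond (Nat.beq c 235) [⟨247, -1, 1⟩] [])))))))

/-- Compiled columns of `x_162` for type E8. -/
def colsE8_162 (c : ℕ) : List CEnt :=
  cond (Nat.blt c 81) (cond (Nat.blt c 65) (cond (Nat.blt c 14) (cond (Nat.blt c 4) (cond (Nat.blt c 2) (cond (Nat.blt c 1) (cond (Nat.beq c 0) [⟨170, -2, 1⟩] []) (cond (Nat.beq c 1) [⟨170, 0, 1⟩] [])) (cond (Nat.blt c 3) (cond (Nat.beq c 2) [⟨170, 1, 1⟩] []) (cond (Nat.beq c 3) [⟨170, 0, 1⟩] []))) (cond (Nat.blt c 6) (cond (Nat.blt c 5) (cond (Nat.beq c 4) [⟨170, 0, 1⟩] []) (cond (Nat.beq c 5) [⟨170, 0, 1⟩] [])) (cond (Nat.blt c 7) (cond (Nat.beq c 6) [⟨170, 0, 1⟩] []) (cond (Nat.beq c 7) [⟨170, 0, 1⟩] [])))) (cond (Nat.blt c 19) (cond (Nat.blt c 17) (cond (Nat.blt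 c 16) (cond (Nat.beq c 14) [⟨22, -1, 1⟩] []) (cond (Nat.beq c 16) [⟨23, -1, 1⟩] [])) (cond (Nat.blt c 18) (cond (Nat.beq c 17) [⟨24, -1, 1⟩] []) (cond (Nat.beq c 18) [⟨25, -1, 1⟩] []))) (cond (Nat.blt c 21) (cond (Nat.blt c 20) (cond (Nat.beq c 19) [⟨26, -1, 1⟩] []) (cond (Nat.beq c 20) [⟨27, -1, 1⟩] [])) (cond (Nat.blt c 64) (cond (Nat.beq c 21) [⟨28, -1, 1⟩] []) (cond (Nat.beq c 64) [⟨86, 1, 1⟩] []))))) (cond (Nat.blt c 73) (cond (Nat.blt c 69) (cond (Nat.blt c 67) (cond (Nat.blt c 66) (cond (Nat.beq c 65) [⟨87, 1, 1⟩] []) (cond (Nat.beq c 66) [⟨88, 1, 1⟩] [])) (cond (Nat.blt c 68) (cond (Nat.beq c 67) [⟨89, 1, 1⟩] []) (cond (Nat.beq c 68) [⟨90, 1, 1⟩] []))) (cond (Nat.blt c 71) (cond (Nat.blt c 70) (cond (Nat.beq c 69) [⟨91, 1, 1⟩] []) (cond (Nat.beq c 70) [⟨92, 1, 1⟩] [])) (cond (Nat.blt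 c 72) (cond (Nat.beq c 71) [⟨93, 1, 1⟩] []) (cond (Nat.beq c 72) [⟨94, 1, 1⟩] [])))) (cond (Nat.blt c 77) (cond (Nat.blt c 75) (cond (Nat.blt c 74) (cond (Nat.beq c 73) [⟨95, 1, 1⟩] []) (cond (Nat.beq c 74) [⟨96, 1, 1⟩] [])) (cond (Nat.blt c 76) (cond (Nat.beq c 75) [⟨97, 1, 1⟩] []) (cond (Nat.beq c 76) [⟨98, 1, 1⟩] []))) (cond (Nat.blt c 79) (cond (Nat.blt c 78) (cond (Nat.beq c 77) [⟨99, 1, 1⟩] []) (cond (Nat.beq c 78) [⟨100, 1, 1⟩] [])) (cond (Nat.blt c 80) (cond (Nat.beq c 79) [⟨107, 1, 1⟩] []) (cond (Nat.beq c 80) [⟨108, 1, 1⟩] [])))))) (cond (Nat.blt c 160) (cond (Nat.blt c 146) (cond (Nat.blt c 85) (cond (Nat.blt c 83) (cond (Nat.blt c 82) (cond (Nat.beq c 81) [⟨109, 1, 1⟩] []) (cond (Nat.beq c 82) [⟨110, 1, 1⟩] [])) (cond (Nat.blt c 84) (cond (Nat.beq c 83) [⟨111, 1, 1⟩] []) (cond (Nat.beq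 c 84) [⟨112, 1, 1⟩] []))) (cond (Nat.blt c 144) (cond (Nat.blt c 143) (cond (Nat.beq c 85) [⟨170, -1, 2⟩, ⟨0, 1, 1⟩, ⟨1, 0, 1⟩, ⟨2, 0, 1⟩, ⟨3, 0, 1⟩, ⟨4, 0, 1⟩, ⟨5, 0, 1⟩, ⟨6, 0, 1⟩, ⟨7, 0, 1⟩] []) (cond (Nat.beq c 143) [⟨171, -1, 1⟩] [])) (cond (Nat.blt c 145) (cond (Nat.beq c 144) [⟨172, -1, 1⟩] []) (cond (Nat.beq c 145) [⟨173, -1, 1⟩] [])))) (cond (Nat.blt c 156) (cond (Nat.blt c 148) (cond (Nat.blt c 147) (cond (Nat.beq c 146) [⟨174, -1, 1⟩] []) (cond (Nat.beq c 147) [⟨175, -1, 1⟩] [])) (cond (Nat.blt c 155) (cond (Nat.beq c 148) [⟨176, -1, 1⟩] []) (cond (Nat.beq c 155) [⟨177, -1, 1⟩] []))) (cond (Nat.blt c 158) (cond (Nat.blt c 157) (cond (Nat.beq c 156) [⟨178, -1, 1⟩] []) (cond (Nat.beq c 157) [⟨179, -1, 1⟩] [])) (cond (Nat.blt c 159) (cond (Nat.beq c 158) [⟨180, -1, 1⟩] []) (cond (Nat.beq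 c 159) [⟨181, -1, 1⟩] []))))) (cond (Nat.blt c 168) (cond (Nat.blt c 164) (cond (Nat.blt c 162) (cond (Nat.blt c 161) (cond (Nat.beq c 160) [⟨182, -1, 1⟩] []) (cond (Nat.beq c 161) [⟨183, -1, 1⟩] [])) (cond (Nat.blt c 163) (cond (Nat.beq c 162) [⟨184, -1, 1⟩] []) (cond (Nat.beq c 163) [⟨185, -1, 1⟩] []))) (cond (Nat.blt c 166) (cond (Nat.blt c 165) (cond (Nat.beq c 164) [⟨186, -1, 1⟩] []) (cond (Nat.beq c 165) [⟨187, -1, 1⟩] [])) (cond (Nat.blt c 167) (cond (Nat.beq c 166) [⟨188, -1, 1⟩] []) (cond (Nat.beq c 167) [⟨189, -1, 1⟩] [])))) (cond (Nat.blt c 229) (cond (Nat.blt c 227) (cond (Nat.blt c 169) (cond (Nat.beq c 168) [⟨190, -1, 1⟩] []) (cond (Nat.beq c 169) [⟨191, -1, 1⟩] [])) (cond (Nat.blt c 228) (cond (Nat.beq c 227) [⟨234, 1, 1⟩] []) (cond (Nat.beq c 228) [⟨235, 1, 1⟩] []))) (cond (Nat.blt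 c 231) (cond (Nat.blt c 230) (cond (Nat.beq c 229) [⟨236, 1, 1⟩] []) (cond (Nat.beq c 230) [⟨237, 1, 1⟩] [])) (cond (Nat.blt c 232) (cond (Nat.beq c 231) [⟨238, 1, 1⟩] []) (cond (Nat.blt c 233) (cond (Nat.beq c 232) [⟨239, 1, 1⟩] []) (cond (Nat.beq c 233) [⟨241, 1, 1⟩] [])))))))

/-- Compiled columns of `x_163` for type E8. -/
def colsE8_163 (c : ℕ) : List CEnt :=
  cond (Nat.blt c 81) (cond (Nat.blt c 55) (cond (Nat.blt c 13) (cond (Nat.blt c 4) (cond (Nat.blt c 2) (cond (Nat.blt c 1) (cond (Nat.beq c 0) [⟨171, -1, 1⟩] []) (cond (Nat.beq c 1) [⟨171, 0, 1⟩] [])) (cond (Nat.blt c 3) (cond (Nat.beq c 2) [⟨171, -1, 1⟩] []) (cond (Nat.beq c 3) [⟨171, 1, 1⟩] []))) (cond (Nat.blt c 6) (cond (Nat.blt c 5) (cond (Nat.beq c 4) [⟨171, 0, 1⟩] []) (cond (Nat.beq c 5) [⟨171, 0, 1⟩] [])) (cond (Nat.blt c 7)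 (cond (Nat.beq c 6) [⟨171, 0, 1⟩] []) (cond (Nat.beq c 7) [⟨171, 0, 1⟩] [])))) (cond (Nat.blt c 19) (cond (Nat.blt c 17) (cond (Nat.blt c 15) (cond (Nat.beq c 13) [⟨22, -1, 1⟩] []) (cond (Nat.beq c 15) [⟨23, -1, 1⟩] [])) (cond (Nat.blt c 18) (cond (Nat.beq c 17) [⟨29, 1, 1⟩] []) (cond (Nat.beq c 18) [⟨30, 1, 1⟩] []))) (cond (Nat.blt c 21) (cond (Nat.blt c 20) (cond (Nat.beq c 19) [⟨31, 1, 1⟩] []) (cond (Nat.beq c 20) [⟨32, 1, 1⟩] [])) (cond (Nat.blt c 54) (cond (Nat.beq c 21) [⟨33, 1, 1⟩] []) (cond (Nat.beq c 54) [⟨86, 1, 1⟩] []))))) (cond (Nat.blt c 63) (cond (Nat.blt c 59) (cond (Nat.blt c 57) (cond (Nat.blt c 56) (cond (Nat.beq c 55) [⟨87, 1, 1⟩] []) (cond (Nat.beq c 56) [⟨88, 1, 1⟩] [])) (cond (Nat.blt c 58) (cond (Nat.beq c 57) [⟨89, 1, 1⟩] []) (cond (Nat.beq c 58) [⟨90, 1, 1⟩] []))) (cond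 (Nat.blt c 61) (cond (Nat.blt c 60) (cond (Nat.beq c 59) [⟨91, 1, 1⟩] []) (cond (Nat.beq c 60) [⟨92, 1, 1⟩] [])) (cond (Nat.blt c 62) (cond (Nat.beq c 61) [⟨93, 1, 1⟩] []) (cond (Nat.beq c 62) [⟨94, 1, 1⟩] [])))) (cond (Nat.blt c 77) (cond (Nat.blt c 75) (cond (Nat.blt c 74) (cond (Nat.beq c 63) [⟨95, 1, 1⟩] []) (cond (Nat.beq c 74) [⟨101, -1, 1⟩] [])) (cond (Nat.blt c 76) (cond (Nat.beq c 75) [⟨102, -1, 1⟩] []) (cond (Nat.beq c 76) [⟨103, -1, 1⟩] []))) (cond (Nat.blt c 79) (cond (Nat.blt c 78) (cond (Nat.beq c 77) [⟨104, -1, 1⟩] []) (cond (Nat.beq c 78) [⟨105, -1, 1⟩] [])) (cond (Nat.blt c 80) (cond (Nat.beq c 79) [⟨113, 1, 1⟩] []) (cond (Nat.beq c 80) [⟨114, 1, 1⟩] [])))))) (cond (Nat.blt c 160) (cond (Nat.blt c 140) (cond (Nat.blt c 85) (cond (Nat.blt c 83) (cond (Nat.blt c 82) (cond (Nat.beq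 c 81) [⟨115, 1, 1⟩] []) (cond (Nat.beq c 82) [⟨116, 1, 1⟩] [])) (cond (Nat.blt c 84) (cond (Nat.beq c 83) [⟨117, 1, 1⟩] []) (cond (Nat.beq c 84) [⟨171, -1, 2⟩, ⟨0, 1, 1⟩, ⟨1, 0, 1⟩, ⟨2, 1, 1⟩, ⟨3, 0, 1⟩, ⟨4, 0, 1⟩, ⟨5, 0, 1⟩, ⟨6, 0, 1⟩, ⟨7, 0, 1⟩] []))) (cond (Nat.blt c 138) (cond (Nat.blt c 112) (cond (Nat.beq c 85) [⟨143, 1, 1⟩] []) (cond (Nat.beq c 112) [⟨170, -1, 1⟩] [])) (cond (Nat.blt c 139) (cond (Nat.beq c 138) [⟨172, -1, 1⟩] []) (cond (Nat.beq c 139) [⟨173, -1, 1⟩] [])))) (cond (Nat.blt c 151) (cond (Nat.blt c 142) (cond (Nat.blt c 141) (cond (Nat.beq c 140) [⟨174, -1, 1⟩] []) (cond (Nat.beq c 141) [⟨175, -1, 1⟩] [])) (cond (Nat.blt c 150) (cond (Nat.beq c 142) [⟨176, -1, 1⟩] []) (cond (Nat.beq c 150) [⟨177, 1, 1⟩] []))) (cond (Nat.blt c 153) (cond (Nat.blt c 152) (cond (Nat.beq c 151)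 [⟨178, 1, 1⟩] []) (cond (Nat.beq c 152) [⟨179, 1, 1⟩] [])) (cond (Nat.blt c 154) (cond (Nat.beq c 153) [⟨180, 1, 1⟩] []) (cond (Nat.beq c 154) [⟨181, 1, 1⟩] []))))) (cond (Nat.blt c 168) (cond (Nat.blt c 164) (cond (Nat.blt c 162) (cond (Nat.blt c 161) (cond (Nat.beq c 160) [⟨192, -1, 1⟩] []) (cond (Nat.beq c 161) [⟨193, -1, 1⟩] [])) (cond (Nat.blt c 163) (cond (Nat.beq c 162) [⟨194, -1, 1⟩] []) (cond (Nat.beq c 163) [⟨195, -1, 1⟩] []))) (cond (Nat.blt c 166) (cond (Nat.blt c 165) (cond (Nat.beq c 164) [⟨196, -1, 1⟩] []) (cond (Nat.beq c 165) [⟨197, -1, 1⟩] [])) (cond (Nat.blt c 167) (cond (Nat.beq c 166) [⟨198, -1, 1⟩] []) (cond (Nat.beq c 167) [⟨199, -1, 1⟩] [])))) (cond (Nat.blt c 224) (cond (Nat.blt c 222) (cond (Nat.blt c 169) (cond (Nat.beq c 168) [⟨200, -1, 1⟩] []) (cond (Nat.beq c 169)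 [⟨201, -1, 1⟩] [])) (cond (Nat.blt c 223) (cond (Nat.beq c 222) [⟨234, -1, 1⟩] []) (cond (Nat.beq c 223) [⟨235, -1, 1⟩] []))) (cond (Nat.blt c 226) (cond (Nat.blt c 225) (cond (Nat.beq c 224) [⟨236, -1, 1⟩] []) (cond (Nat.beq c 225) [⟨237, -1, 1⟩] [])) (cond (Nat.blt c 232) (cond (Nat.beq c 226) [⟨238, -1, 1⟩] []) (cond (Nat.blt c 233) (cond (Nat.beq c 232) [⟨240, 1, 1⟩] []) (cond (Nat.beq c 233) [⟨242, 1, 1⟩] [])))))))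

/-- Compiled columns of `x_164` for type E8. -/
def colsE8_164 (c : ℕ) : List CEnt :=
  cond (Nat.blt c 81) (cond (Nat.blt c 49) (cond (Nat.blt c 12) (cond (Nat.blt c 4) (cond (Nat.blt c 2) (cond (Nat.blt c 1) (cond (Nat.beq c 0) [⟨172, -1, 1⟩] []) (cond (Nat.beq c 1) [⟨172, 1, 1⟩] [])) (cond (Nat.blt c 3) (cond (Nat.beq c 2) [⟨172, 0, 1⟩] []) (cond (Nat.beq c 3) [⟨172, -1, 1⟩] []))) (cond (Nat.blt c 6) (cond (Nat.blt c 5) (cond (Nat.beq c 4) [⟨172, 1, 1⟩] []) (cond (Nat.beq c 5) [⟨172, 0, 1⟩] [])) (cond (Nat.blt c 7) (cond (Nat.beq c 6) [⟨172, 0, 1⟩] []) (cond (Nat.beq c 7) [⟨172, 0, 1⟩] [])))) (cond (Nat.blt c 19) (cond (Nat.blt c 16) (cond (Nat.blt c 15) (cond (Nat.beq c 12) [⟨22, -1, 1⟩] []) (cond (Nat.beq c 15) [⟨24, 1, 1⟩] [])) (cond (Nat.blt c 18) (cond (Nat.beq c 16) [⟨29, 1, 1⟩] [])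 (cond (Nat.beq c 18) [⟨34, -1, 1⟩] []))) (cond (Nat.blt c 21) (cond (Nat.blt c 20) (cond (Nat.beq c 19) [⟨35, -1, 1⟩] []) (cond (Nat.beq c 20) [⟨36, -1, 1⟩] [])) (cond (Nat.blt c 48) (cond (Nat.beq c 21) [⟨37, -1, 1⟩] []) (cond (Nat.beq c 48) [⟨86, 1, 1⟩] []))))) (cond (Nat.blt c 63) (cond (Nat.blt c 53) (cond (Nat.blt c 51) (cond (Nat.blt c 50) (cond (Nat.beq c 49) [⟨87, 1, 1⟩] []) (cond (Nat.beq c 50) [⟨88, 1, 1⟩] [])) (cond (Nat.blt c 52) (cond (Nat.beq c 51) [⟨89, 1, 1⟩] []) (cond (Nat.beq c 52) [⟨90, 1, 1⟩] []))) (cond (Nat.blt c 61) (cond (Nat.blt c 60) (cond (Nat.beq c 53) [⟨91, 1, 1⟩] []) (cond (Nat.beq c 60) [⟨96, -1, 1⟩] [])) (cond (Nat.blt c 62) (cond (Nat.beq c 61) [⟨97, -1, 1⟩] []) (cond (Nat.beq c 62) [⟨98, -1, 1⟩] [])))) (cond (Nat.blt c 73) (cond (Nat.blt c 71) (cond (Nat.blt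 c 70) (cond (Nat.beq c 63) [⟨99, -1, 1⟩] []) (cond (Nat.beq c 70) [⟨101, -1, 1⟩] [])) (cond (Nat.blt c 72) (cond (Nat.beq c 71) [⟨102, -1, 1⟩] []) (cond (Nat.beq c 72) [⟨103, -1, 1⟩] []))) (cond (Nat.blt c 79) (cond (Nat.blt c 78) (cond (Nat.beq c 73) [⟨104, -1, 1⟩] []) (cond (Nat.beq c 78) [⟨106, 1, 1⟩] [])) (cond (Nat.blt c 80) (cond (Nat.beq c 79) [⟨118, 1, 1⟩] []) (cond (Nat.beq c 80) [⟨119, 1, 1⟩] [])))))) (cond (Nat.blt c 156) (cond (Nat.blt c 135) (cond (Nat.blt c 85) (cond (Nat.blt c 83) (cond (Nat.blt c 82) (cond (Nat.beq c 81) [⟨120, 1, 1⟩] []) (cond (Nat.beq c 82) [⟨121, 1, 1⟩] [])) (cond (Nat.blt c 84) (cond (Nat.beq c 83) [⟨172, -1, 2⟩, ⟨0, 1, 1⟩, ⟨1, 0, 1⟩, ⟨2, 1, 1⟩, ⟨3, 1, 1⟩, ⟨4, 0, 1⟩, ⟨5, 0, 1⟩, ⟨6, 0, 1⟩, ⟨7, 0, 1⟩] []) (cond (Nat.beq c 84) [⟨138, 1, 1⟩] []))) (cond (Nat.blt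 c 117) (cond (Nat.blt c 111) (cond (Nat.beq c 85) [⟨144, 1, 1⟩] []) (cond (Nat.beq c 111) [⟨170, -1, 1⟩] [])) (cond (Nat.blt c 134) (cond (Nat.beq c 117) [⟨171, -1, 1⟩] []) (cond (Nat.beq c 134) [⟨173, -1, 1⟩] [])))) (cond (Nat.blt c 151) (cond (Nat.blt c 137) (cond (Nat.blt c 136) (cond (Nat.beq c 135) [⟨174, -1, 1⟩] []) (cond (Nat.beq c 136) [⟨175, -1, 1⟩] [])) (cond (Nat.blt c 149) (cond (Nat.beq c 137) [⟨176, -1, 1⟩] []) (cond (Nat.beq c 149) [⟨177, -1, 1⟩] []))) (cond (Nat.blt c 153) (cond (Nat.blt c 152) (cond (Nat.beq c 151) [⟨182, 1, 1⟩] []) (cond (Nat.beq c 152) [⟨183, 1, 1⟩] [])) (cond (Nat.blt c 154) (cond (Nat.beq c 153) [⟨184, 1, 1⟩] []) (cond (Nat.beq c 154) [⟨185, 1, 1⟩] []))))) (cond (Nat.blt c 168) (cond (Nat.blt c 164) (cond (Nat.blt c 158) (cond (Nat.blt c 157) (cond (Nat.beq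 c 156) [⟨192, 1, 1⟩] []) (cond (Nat.beq c 157) [⟨193, 1, 1⟩] [])) (cond (Nat.blt c 159) (cond (Nat.beq c 158) [⟨194, 1, 1⟩] []) (cond (Nat.beq c 159) [⟨195, 1, 1⟩] []))) (cond (Nat.blt c 166) (cond (Nat.blt c 165) (cond (Nat.beq c 164) [⟨202, -1, 1⟩] []) (cond (Nat.beq c 165) [⟨203, -1, 1⟩] [])) (cond (Nat.blt c 167) (cond (Nat.beq c 166) [⟨204, -1, 1⟩] []) (cond (Nat.beq c 167) [⟨205, -1, 1⟩] [])))) (cond (Nat.blt c 220) (cond (Nat.blt c 218) (cond (Nat.blt c 169) (cond (Nat.beq c 168) [⟨206, -1, 1⟩] []) (cond (Nat.beq c 169) [⟨207, -1, 1⟩] [])) (cond (Nat.blt c 219) (cond (Nat.beq c 218) [⟨234, 1, 1⟩] []) (cond (Nat.beq c 219) [⟨235, 1, 1⟩] []))) (cond (Nat.blt c 226) (cond (Nat.blt c 221) (cond (Nat.beq c 220) [⟨236, 1, 1⟩] []) (cond (Nat.beq c 221) [⟨237, 1, 1⟩] [])) (cond (Nat.blt c 231)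 (cond (Nat.beq c 226) [⟨239, -1, 1⟩] []) (cond (Nat.blt c 233) (cond (Nat.beq c 231) [⟨240, -1, 1⟩] []) (cond (Nat.beq c 233) [⟨243, 1, 1⟩] [])))))))

/-- Compiled columns of `x_165` for type E8. -/
def colsE8_165 (c : ℕ) : List CEnt :=
  cond (Nat.blt c 81) (cond (Nat.blt c 46) (cond (Nat.blt c 11) (cond (Nat.blt c 4) (cond (Nat.blt c 2) (cond (Nat.blt c 1) (cond (Nat.beq c 0) [⟨173, -1, 1⟩] []) (cond (Nat.beq c 1) [⟨173, 1, 1⟩] [])) (cond (Nat.blt c 3) (cond (Nat.beq c 2) [⟨173, 0, 1⟩] []) (cond (Nat.beq c 3) [⟨173, 0, 1⟩] []))) (cond (Nat.blt c 6) (cond (Nat.blt c 5) (cond (Nat.beq c 4) [⟨173, -1, 1⟩] []) (cond (Nat.beq c 5) [⟨173, 1, 1⟩] [])) (cond (Nat.blt c 7) (cond (Nat.beq c 6) [⟨173, 0, 1⟩] []) (cond (Nat.beq c 7) [⟨173, 0, 1⟩] [])))) (cond (Nat.blt c 19) (cond (Nat.blt c 16) (cond (Nat.blt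 c 15) (cond (Nat.beq c 11) [⟨22, -1, 1⟩] []) (cond (Nat.beq c 15) [⟨25, -1, 1⟩] [])) (cond (Nat.blt c 17) (cond (Nat.beq c 16) [⟨30, -1, 1⟩] []) (cond (Nat.beq c 17) [⟨34, -1, 1⟩] []))) (cond (Nat.blt c 21) (cond (Nat.blt c 20) (cond (Nat.beq c 19) [⟨38, 1, 1⟩] []) (cond (Nat.beq c 20) [⟨39, 1, 1⟩] [])) (cond (Nat.blt c 45) (cond (Nat.beq c 21) [⟨40, 1, 1⟩] []) (cond (Nat.beq c 45) [⟨86, 1, 1⟩] []))))) (cond (Nat.blt c 63) (cond (Nat.blt c 53) (cond (Nat.blt c 51) (cond (Nat.blt c 47) (cond (Nat.beq c 46) [⟨87, 1, 1⟩] []) (cond (Nat.beq c 47) [⟨88, 1, 1⟩] [])) (cond (Nat.blt c 52) (cond (Nat.beq c 51) [⟨92, -1, 1⟩] []) (cond (Nat.beq c 52) [⟨93, -1, 1⟩] []))) (cond (Nat.blt c 58) (cond (Nat.blt c 57) (cond (Nat.beq c 53) [⟨94, -1, 1⟩] []) (cond (Nat.beq c 57) [⟨96, -1, 1⟩] [])) (cond (Nat.blt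 c 59) (cond (Nat.beq c 58) [⟨97, -1, 1⟩] []) (cond (Nat.beq c 59) [⟨98, -1, 1⟩] [])))) (cond (Nat.blt c 73) (cond (Nat.blt c 68) (cond (Nat.blt c 67) (cond (Nat.beq c 63) [⟨100, 1, 1⟩] []) (cond (Nat.beq c 67) [⟨101, -1, 1⟩] [])) (cond (Nat.blt c 69) (cond (Nat.beq c 68) [⟨102, -1, 1⟩] []) (cond (Nat.beq c 69) [⟨103, -1, 1⟩] []))) (cond (Nat.blt c 79) (cond (Nat.blt c 77) (cond (Nat.beq c 73) [⟨105, 1, 1⟩] []) (cond (Nat.beq c 77) [⟨106, 1, 1⟩] [])) (cond (Nat.blt c 80) (cond (Nat.beq c 79) [⟨122, 1, 1⟩] []) (cond (Nat.beq c 80) [⟨123, 1, 1⟩] [])))))) (cond (Nat.blt c 155) (cond (Nat.blt c 131) (cond (Nat.blt c 85) (cond (Nat.blt c 83) (cond (Nat.blt c 82) (cond (Nat.beq c 81) [⟨124, 1, 1⟩] []) (cond (Nat.beq c 82) [⟨173, -1, 2⟩, ⟨0, 1, 1⟩, ⟨1, 0, 1⟩, ⟨2, 1, 1⟩, ⟨3, 1, 1⟩, ⟨4, 1, 1⟩, ⟨5, 0, 1⟩,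 ⟨6, 0, 1⟩, ⟨7, 0, 1⟩] [])) (cond (Nat.blt c 84) (cond (Nat.beq c 83) [⟨134, 1, 1⟩] []) (cond (Nat.beq c 84) [⟨139, 1, 1⟩] []))) (cond (Nat.blt c 116) (cond (Nat.blt c 110) (cond (Nat.beq c 85) [⟨145, 1, 1⟩] []) (cond (Nat.beq c 110) [⟨170, -1, 1⟩] [])) (cond (Nat.blt c 121) (cond (Nat.beq c 116) [⟨171, -1, 1⟩] []) (cond (Nat.beq c 121) [⟨172, -1, 1⟩] [])))) (cond (Nat.blt c 150) (cond (Nat.blt c 133) (cond (Nat.blt c 132) (cond (Nat.beq c 131) [⟨174, -1, 1⟩] []) (cond (Nat.beq c 132) [⟨175, -1, 1⟩] [])) (cond (Nat.blt c 149) (cond (Nat.beq c 133) [⟨176, -1, 1⟩] []) (cond (Nat.beq c 149) [⟨178, -1, 1⟩] []))) (cond (Nat.blt c 153) (cond (Nat.blt c 152) (cond (Nat.beq c 150) [⟨182, -1, 1⟩] []) (cond (Nat.beq c 152) [⟨186, 1, 1⟩] [])) (cond (Nat.blt c 154) (cond (Nat.beq c 153) [⟨187, 1, 1⟩] [])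 (cond (Nat.beq c 154) [⟨188, 1, 1⟩] []))))) (cond (Nat.blt c 168) (cond (Nat.blt c 161) (cond (Nat.blt c 158) (cond (Nat.blt c 157) (cond (Nat.beq c 155) [⟨192, -1, 1⟩] []) (cond (Nat.beq c 157) [⟨196, 1, 1⟩] [])) (cond (Nat.blt c 159) (cond (Nat.beq c 158) [⟨197, 1, 1⟩] []) (cond (Nat.beq c 159) [⟨198, 1, 1⟩] []))) (cond (Nat.blt c 163) (cond (Nat.blt c 162) (cond (Nat.beq c 161) [⟨202, 1, 1⟩] []) (cond (Nat.beq c 162) [⟨203, 1, 1⟩] [])) (cond (Nat.blt c 167) (cond (Nat.beq c 163) [⟨204, 1, 1⟩] []) (cond (Nat.beq c 167) [⟨208, -1, 1⟩] [])))) (cond (Nat.blt c 217) (cond (Nat.blt c 215) (cond (Nat.blt c 169) (cond (Nat.beq c 168) [⟨209, -1, 1⟩] []) (cond (Nat.beq c 169) [⟨210, -1, 1⟩] [])) (cond (Nat.blt c 216) (cond (Nat.beq c 215) [⟨234, -1, 1⟩] []) (cond (Nat.beq c 216) [⟨235, -1, 1⟩] [])))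 (cond (Nat.blt c 225) (cond (Nat.blt c 221) (cond (Nat.beq c 217) [⟨236, -1, 1⟩] []) (cond (Nat.beq c 221) [⟨238, 1, 1⟩] [])) (cond (Nat.blt c 230) (cond (Nat.beq c 225) [⟨239, 1, 1⟩] []) (cond (Nat.blt c 233) (cond (Nat.beq c 230) [⟨240, 1, 1⟩] []) (cond (Nat.beq c 233) [⟨244, 1, 1⟩] [])))))))

/-- Compiled columns of `x_166` for type E8. -/
def colsE8_166 (c : ℕ) : List CEnt :=
  cond (Nat.blt c 81) (cond (Nat.blt c 46) (cond (Nat.blt c 10) (cond (Nat.blt c 4) (cond (Nat.blt c 2) (cond (Nat.blt c 1) (cond (Nat.beq c 0) [⟨174, -1, 1⟩] []) (cond (Nat.beq c 1) [⟨174, 1, 1⟩] [])) (cond (Nat.blt c 3) (cond (Nat.beq c 2) [⟨174, 0, 1⟩] []) (cond (Nat.beq c 3) [⟨174, 0, 1⟩] []))) (cond (Nat.blt c 6) (cond (Nat.blt c 5) (cond (Nat.beq c 4) [⟨174, 0, 1⟩] []) (cond (Nat.beq c 5) [⟨174, -1, 1⟩] [])) (cond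 (Nat.blt c 7) (cond (Nat.beq c 6) [⟨174, 1, 1⟩] []) (cond (Nat.beq c 7) [⟨174, 0, 1⟩] [])))) (cond (Nat.blt c 18) (cond (Nat.blt c 16) (cond (Nat.blt c 15) (cond (Nat.beq c 10) [⟨22, -1, 1⟩] []) (cond (Nat.beq c 15) [⟨26, 1, 1⟩] [])) (cond (Nat.blt c 17) (cond (Nat.beq c 16) [⟨31, 1, 1⟩] []) (cond (Nat.beq c 17) [⟨35, 1, 1⟩] []))) (cond (Nat.blt c 21) (cond (Nat.blt c 20) (cond (Nat.beq c 18) [⟨38, 1, 1⟩] []) (cond (Nat.beq c 20) [⟨41, -1, 1⟩] [])) (cond (Nat.blt c 44) (cond (Nat.beq c 21) [⟨42, -1, 1⟩] []) (cond (Nat.beq c 44) [⟨86, 1, 1⟩] []))))) (cond (Nat.blt c 62) (cond (Nat.blt c 53) (cond (Nat.blt c 49) (cond (Nat.blt c 47) (cond (Nat.beq c 46) [⟨89, -1, 1⟩] []) (cond (Nat.beq c 47) [⟨90, -1, 1⟩] [])) (cond (Nat.blt c 50) (cond (Nat.beq c 49) [⟨92, -1, 1⟩] []) (cond (Nat.beq c 50) [⟨93,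 -1, 1⟩] []))) (cond (Nat.blt c 56) (cond (Nat.blt c 55) (cond (Nat.beq c 53) [⟨95, 1, 1⟩] []) (cond (Nat.beq c 55) [⟨96, -1, 1⟩] [])) (cond (Nat.blt c 59) (cond (Nat.beq c 56) [⟨97, -1, 1⟩] []) (cond (Nat.beq c 59) [⟨99, 1, 1⟩] [])))) (cond (Nat.blt c 72) (cond (Nat.blt c 66) (cond (Nat.blt c 65) (cond (Nat.beq c 62) [⟨100, 1, 1⟩] []) (cond (Nat.beq c 65) [⟨101, -1, 1⟩] [])) (cond (Nat.blt c 69) (cond (Nat.beq c 66) [⟨102, -1, 1⟩] []) (cond (Nat.beq c 69) [⟨104, 1, 1⟩] []))) (cond (Nat.blt c 79) (cond (Nat.blt c 76) (cond (Nat.beq c 72) [⟨105, 1, 1⟩] []) (cond (Nat.beq c 76) [⟨106, 1, 1⟩] [])) (cond (Nat.blt c 80) (cond (Nat.beq c 79) [⟨125, 1, 1⟩] []) (cond (Nat.beq c 80) [⟨126, 1, 1⟩] [])))))) (cond (Nat.blt c 155) (cond (Nat.blt c 124) (cond (Nat.blt c 85) (cond (Nat.blt c 83) (cond (Nat.blt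 c 82) (cond (Nat.beq c 81) [⟨174, -1, 2⟩, ⟨0, 1, 1⟩, ⟨1, 0, 1⟩, ⟨2, 1, 1⟩, ⟨3, 1, 1⟩, ⟨4, 1, 1⟩, ⟨5, 1, 1⟩, ⟨6, 0, 1⟩, ⟨7, 0, 1⟩] []) (cond (Nat.beq c 82) [⟨131, 1, 1⟩] [])) (cond (Nat.blt c 84) (cond (Nat.beq c 83) [⟨135, 1, 1⟩] []) (cond (Nat.beq c 84) [⟨140, 1, 1⟩] []))) (cond (Nat.blt c 115) (cond (Nat.blt c 109) (cond (Nat.beq c 85) [⟨146, 1, 1⟩] []) (cond (Nat.beq c 109) [⟨170, -1, 1⟩] [])) (cond (Nat.blt c 120) (cond (Nat.beq c 115) [⟨171, -1, 1⟩] []) (cond (Nat.beq c 120) [⟨172, -1, 1⟩] [])))) (cond (Nat.blt c 150) (cond (Nat.blt c 130) (cond (Nat.blt c 129) (cond (Nat.beq c 124) [⟨173, -1, 1⟩] []) (cond (Nat.beq c 129) [⟨175, -1, 1⟩] [])) (cond (Nat.blt c 149) (cond (Nat.beq c 130) [⟨176, -1, 1⟩] []) (cond (Nat.beq c 149) [⟨179, -1, 1⟩] []))) (cond (Nat.blt c 153) (cond (Nat.blt c 151)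 (cond (Nat.beq c 150) [⟨183, -1, 1⟩] []) (cond (Nat.beq c 151) [⟨186, -1, 1⟩] [])) (cond (Nat.blt c 154) (cond (Nat.beq c 153) [⟨189, 1, 1⟩] []) (cond (Nat.beq c 154) [⟨190, 1, 1⟩] []))))) (cond (Nat.blt c 166) (cond (Nat.blt c 160) (cond (Nat.blt c 158) (cond (Nat.blt c 156) (cond (Nat.beq c 155) [⟨193, -1, 1⟩] []) (cond (Nat.beq c 156) [⟨196, -1, 1⟩] [])) (cond (Nat.blt c 159) (cond (Nat.beq c 158) [⟨199, 1, 1⟩] []) (cond (Nat.beq c 159) [⟨200, 1, 1⟩] []))) (cond (Nat.blt c 163) (cond (Nat.blt c 162) (cond (Nat.beq c 160) [⟨202, -1, 1⟩] []) (cond (Nat.beq c 162) [⟨205, 1, 1⟩] [])) (cond (Nat.blt c 165) (cond (Nat.beq c 163) [⟨206, 1, 1⟩] []) (cond (Nat.beq c 165) [⟨208, 1, 1⟩] [])))) (cond (Nat.blt c 217) (cond (Nat.blt c 213) (cond (Nat.blt c 169) (cond (Nat.beq c 166) [⟨209, 1, 1⟩] []) (cond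 (Nat.beq c 169) [⟨211, -1, 1⟩] [])) (cond (Nat.blt c 214) (cond (Nat.beq c 213) [⟨234, 1, 1⟩] []) (cond (Nat.beq c 214) [⟨235, 1, 1⟩] []))) (cond (Nat.blt c 224) (cond (Nat.blt c 220) (cond (Nat.beq c 217) [⟨237, -1, 1⟩] []) (cond (Nat.beq c 220) [⟨238, -1, 1⟩] [])) (cond (Nat.blt c 229) (cond (Nat.beq c 224) [⟨239, -1, 1⟩] []) (cond (Nat.blt c 233) (cond (Nat.beq c 229) [⟨240, -1, 1⟩] []) (cond (Nat.beq c 233) [⟨245, 1, 1⟩] [])))))))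

/-- Compiled columns of `x_167` for type E8. -/
def colsE8_167 (c : ℕ) : List CEnt :=
  cond (Nat.blt c 81) (cond (Nat.blt c 45) (cond (Nat.blt c 9) (cond (Nat.blt c 4) (cond (Nat.blt c 2) (cond (Nat.blt c 1) (cond (Nat.beq c 0) [⟨175, -1, 1⟩] []) (cond (Nat.beq c 1) [⟨175, 1, 1⟩] [])) (cond (Nat.blt c 3) (cond (Nat.beq c 2) [⟨175, 0, 1⟩] []) (cond (Nat.beq c 3) [⟨175, 0, 1⟩] []))) (cond (Nat.blt c 6) (cond (Nat.blt c 5) (cond (Nat.beq c 4) [⟨175, 0, 1⟩] []) (cond (Nat.beq c 5) [⟨175, 0, 1⟩] [])) (cond (Nat.blt c 7) (cond (Nat.beq c 6) [⟨175, -1, 1⟩] []) (cond (Nat.beq c 7) [⟨175, 1, 1⟩] [])))) (cond (Nat.blt c 18) (cond (Nat.blt c 16) (cond (Nat.blt c 15) (cond (Nat.beq c 9) [⟨22, -1, 1⟩] []) (cond (Nat.beq c 15) [⟨27, -1, 1⟩] [])) (cond (Nat.blt c 17) (cond (Nat.beq c 16) [⟨32, -1, 1⟩] [])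 (cond (Nat.beq c 17) [⟨36, -1, 1⟩] []))) (cond (Nat.blt c 21) (cond (Nat.blt c 19) (cond (Nat.beq c 18) [⟨39, -1, 1⟩] []) (cond (Nat.beq c 19) [⟨41, -1, 1⟩] [])) (cond (Nat.blt c 44) (cond (Nat.beq c 21) [⟨43, 1, 1⟩] []) (cond (Nat.beq c 44) [⟨87, -1, 1⟩] []))))) (cond (Nat.blt c 61) (cond (Nat.blt c 52) (cond (Nat.blt c 48) (cond (Nat.blt c 47) (cond (Nat.beq c 45) [⟨89, -1, 1⟩] []) (cond (Nat.beq c 47) [⟨91, 1, 1⟩] [])) (cond (Nat.blt c 50) (cond (Nat.beq c 48) [⟨92, -1, 1⟩] []) (cond (Nat.beq c 50) [⟨94, 1, 1⟩] []))) (cond (Nat.blt c 56) (cond (Nat.blt c 54) (cond (Nat.beq c 52) [⟨95, 1, 1⟩] []) (cond (Nat.beq c 54) [⟨96, -1, 1⟩] [])) (cond (Nat.blt c 58) (cond (Nat.beq c 56) [⟨98, 1, 1⟩] []) (cond (Nat.beq c 58) [⟨99, 1, 1⟩] [])))) (cond (Nat.blt c 71) (cond (Nat.blt c 66) (cond (Nat.blt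 c 64) (cond (Nat.beq c 61) [⟨100, 1, 1⟩] []) (cond (Nat.beq c 64) [⟨101, -1, 1⟩] [])) (cond (Nat.blt c 68) (cond (Nat.beq c 66) [⟨103, 1, 1⟩] []) (cond (Nat.beq c 68) [⟨104, 1, 1⟩] []))) (cond (Nat.blt c 79) (cond (Nat.blt c 75) (cond (Nat.beq c 71) [⟨105, 1, 1⟩] []) (cond (Nat.beq c 75) [⟨106, 1, 1⟩] [])) (cond (Nat.blt c 80) (cond (Nat.beq c 79) [⟨127, 1, 1⟩] []) (cond (Nat.beq c 80) [⟨175, -1, 2⟩, ⟨0, 1, 1⟩, ⟨1, 0, 1⟩, ⟨2, 1, 1⟩, ⟨3, 1, 1⟩, ⟨4, 1, 1⟩, ⟨5, 1, 1⟩, ⟨6, 1, 1⟩, ⟨7, 0, 1⟩] [])))))) (cond (Nat.blt c 155) (cond (Nat.blt c 123) (cond (Nat.blt c 85) (cond (Nat.blt c 83) (cond (Nat.blt c 82) (cond (Nat.beq c 81) [⟨129, 1, 1⟩] []) (cond (Nat.beq c 82) [⟨132, 1, 1⟩] [])) (cond (Nat.blt c 84) (cond (Nat.beq c 83) [⟨136, 1, 1⟩] []) (cond (Nat.beq c 84) [⟨141, 1, 1⟩] []))) (cond (Nat.blt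 c 114) (cond (Nat.blt c 108) (cond (Nat.beq c 85) [⟨147, 1, 1⟩] []) (cond (Nat.beq c 108) [⟨170, -1, 1⟩] [])) (cond (Nat.blt c 119) (cond (Nat.beq c 114) [⟨171, -1, 1⟩] []) (cond (Nat.beq c 119) [⟨172, -1, 1⟩] [])))) (cond (Nat.blt c 150) (cond (Nat.blt c 128) (cond (Nat.blt c 126) (cond (Nat.beq c 123) [⟨173, -1, 1⟩] []) (cond (Nat.beq c 126) [⟨174, -1, 1⟩] [])) (cond (Nat.blt c 149) (cond (Nat.beq c 128) [⟨176, -1, 1⟩] []) (cond (Nat.beq c 149) [⟨180, -1, 1⟩] []))) (cond (Nat.blt c 152) (cond (Nat.blt c 151) (cond (Nat.beq c 150) [⟨184, -1, 1⟩] []) (cond (Nat.beq c 151) [⟨187, -1, 1⟩] [])) (cond (Nat.blt c 154) (cond (Nat.beq c 152) [⟨189, -1, 1⟩] []) (cond (Nat.beq c 154) [⟨191, 1, 1⟩] []))))) (cond (Nat.blt c 166) (cond (Nat.blt c 160) (cond (Nat.blt c 157) (cond (Nat.blt c 156) (cond (Nat.beq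 c 155) [⟨194, -1, 1⟩] []) (cond (Nat.beq c 156) [⟨197, -1, 1⟩] [])) (cond (Nat.blt c 159) (cond (Nat.beq c 157) [⟨199, -1, 1⟩] []) (cond (Nat.beq c 159) [⟨201, 1, 1⟩] []))) (cond (Nat.blt c 163) (cond (Nat.blt c 161) (cond (Nat.beq c 160) [⟨203, -1, 1⟩] []) (cond (Nat.beq c 161) [⟨205, -1, 1⟩] [])) (cond (Nat.blt c 164) (cond (Nat.beq c 163) [⟨207, 1, 1⟩] []) (cond (Nat.beq c 164) [⟨208, -1, 1⟩] [])))) (cond (Nat.blt c 216) (cond (Nat.blt c 212) (cond (Nat.blt c 168) (cond (Nat.beq c 166) [⟨210, 1, 1⟩] []) (cond (Nat.beq c 168) [⟨211, 1, 1⟩] [])) (cond (Nat.blt c 214) (cond (Nat.beq c 212) [⟨234, -1, 1⟩] []) (cond (Nat.beq c 214) [⟨236, 1, 1⟩] []))) (cond (Nat.blt c 223) (cond (Nat.blt c 219) (cond (Nat.beq c 216) [⟨237, 1, 1⟩] []) (cond (Nat.beq c 219) [⟨238, 1, 1⟩] [])) (cond (Nat.blt c 228)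 (cond (Nat.beq c 223) [⟨239, 1, 1⟩] []) (cond (Nat.blt c 233) (cond (Nat.beq c 228) [⟨240, 1, 1⟩] []) (cond (Nat.beq c 233) [⟨246, 1, 1⟩] [])))))))

/-- Compiled columns of `x_168` for type E8. -/
def colsE8_168 (c : ℕ) : List CEnt :=
  cond (Nat.blt c 81) (cond (Nat.blt c 45) (cond (Nat.blt c 8) (cond (Nat.blt c 4) (cond (Nat.blt c 2) (cond (Nat.blt c 1) (cond (Nat.beq c 0) [⟨176, -1, 1⟩] []) (cond (Nat.beq c 1) [⟨176, 1, 1⟩] [])) (cond (Nat.blt c 3) (cond (Nat.beq c 2) [⟨176, 0, 1⟩] []) (cond (Nat.beq c 3) [⟨176, 0, 1⟩] []))) (cond (Nat.blt c 6) (cond (Nat.blt c 5) (cond (Nat.beq c 4) [⟨176, 0, 1⟩] []) (cond (Nat.beq c 5) [⟨176, 0, 1⟩] [])) (cond (Nat.blt c 7) (cond (Nat.beq c 6) [⟨176, 0, 1⟩] []) (cond (Nat.beq c 7) [⟨176, -1, 1⟩] [])))) (cond (Nat.blt c 18) (cond (Nat.blt c 16) (cond (Nat.blt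 c 15) (cond (Nat.beq c 8) [⟨22, -1, 1⟩] []) (cond (Nat.beq c 15) [⟨28, 1, 1⟩] [])) (cond (Nat.blt c 17) (cond (Nat.beq c 16) [⟨33, 1, 1⟩] []) (cond (Nat.beq c 17) [⟨37, 1, 1⟩] []))) (cond (Nat.blt c 20) (cond (Nat.blt c 19) (cond (Nat.beq c 18) [⟨40, 1, 1⟩] []) (cond (Nat.beq c 19) [⟨42, 1, 1⟩] [])) (cond (Nat.blt c 44) (cond (Nat.beq c 20) [⟨43, 1, 1⟩] []) (cond (Nat.beq c 44) [⟨88, 1, 1⟩] []))))) (cond (Nat.blt c 60) (cond (Nat.blt c 51) (cond (Nat.blt c 48) (cond (Nat.blt c 46) (cond (Nat.beq c 45) [⟨90, 1, 1⟩] []) (cond (Nat.beq c 46) [⟨91, 1, 1⟩] [])) (cond (Nat.blt c 49) (cond (Nat.beq c 48) [⟨93, 1, 1⟩] []) (cond (Nat.beq c 49) [⟨94, 1, 1⟩] []))) (cond (Nat.blt c 55) (cond (Nat.blt c 54) (cond (Nat.beq c 51) [⟨95, 1, 1⟩] []) (cond (Nat.beq c 54) [⟨97, 1, 1⟩] [])) (cond (Nat.blt c 57) (cond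 (Nat.beq c 55) [⟨98, 1, 1⟩] []) (cond (Nat.beq c 57) [⟨99, 1, 1⟩] [])))) (cond (Nat.blt c 70) (cond (Nat.blt c 65) (cond (Nat.blt c 64) (cond (Nat.beq c 60) [⟨100, 1, 1⟩] []) (cond (Nat.beq c 64) [⟨102, 1, 1⟩] [])) (cond (Nat.blt c 67) (cond (Nat.beq c 65) [⟨103, 1, 1⟩] []) (cond (Nat.beq c 67) [⟨104, 1, 1⟩] []))) (cond (Nat.blt c 79) (cond (Nat.blt c 74) (cond (Nat.beq c 70) [⟨105, 1, 1⟩] []) (cond (Nat.beq c 74) [⟨106, 1, 1⟩] [])) (cond (Nat.blt c 80) (cond (Nat.beq c 79) [⟨176, -1, 2⟩, ⟨0, 1, 1⟩, ⟨1, 0, 1⟩, ⟨2, 1, 1⟩, ⟨3, 1, 1⟩, ⟨4, 1, 1⟩, ⟨5, 1, 1⟩, ⟨6, 1, 1⟩, ⟨7, 1, 1⟩] []) (cond (Nat.beq c 80) [⟨128, 1, 1⟩] [])))))) (cond (Nat.blt c 155) (cond (Nat.blt c 122) (cond (Nat.blt c 85) (cond (Nat.blt c 83) (cond (Nat.blt c 82) (cond (Nat.beq c 81) [⟨130, 1, 1⟩] []) (cond (Nat.beq c 82) [⟨133,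 1, 1⟩] [])) (cond (Nat.blt c 84) (cond (Nat.beq c 83) [⟨137, 1, 1⟩] []) (cond (Nat.beq c 84) [⟨142, 1, 1⟩] []))) (cond (Nat.blt c 113) (cond (Nat.blt c 107) (cond (Nat.beq c 85) [⟨148, 1, 1⟩] []) (cond (Nat.beq c 107) [⟨170, -1, 1⟩] [])) (cond (Nat.blt c 118) (cond (Nat.beq c 113) [⟨171, -1, 1⟩] []) (cond (Nat.beq c 118) [⟨172, -1, 1⟩] [])))) (cond (Nat.blt c 150) (cond (Nat.blt c 127) (cond (Nat.blt c 125) (cond (Nat.beq c 122) [⟨173, -1, 1⟩] []) (cond (Nat.beq c 125) [⟨174, -1, 1⟩] [])) (cond (Nat.blt c 149) (cond (Nat.beq c 127) [⟨175, -1, 1⟩] []) (cond (Nat.beq c 149) [⟨181, -1, 1⟩] []))) (cond (Nat.blt c 152) (cond (Nat.blt c 151) (cond (Nat.beq c 150) [⟨185, -1, 1⟩] []) (cond (Nat.beq c 151) [⟨188, -1, 1⟩] [])) (cond (Nat.blt c 153) (cond (Nat.beq c 152) [⟨190, -1, 1⟩] []) (cond (Nat.beq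 c 153) [⟨191, -1, 1⟩] []))))) (cond (Nat.blt c 165) (cond (Nat.blt c 160) (cond (Nat.blt c 157) (cond (Nat.blt c 156) (cond (Nat.beq c 155) [⟨195, -1, 1⟩] []) (cond (Nat.beq c 156) [⟨198, -1, 1⟩] [])) (cond (Nat.blt c 158) (cond (Nat.beq c 157) [⟨200, -1, 1⟩] []) (cond (Nat.beq c 158) [⟨201, -1, 1⟩] []))) (cond (Nat.blt c 162) (cond (Nat.blt c 161) (cond (Nat.beq c 160) [⟨204, -1, 1⟩] []) (cond (Nat.beq c 161) [⟨206, -1, 1⟩] [])) (cond (Nat.blt c 164) (cond (Nat.beq c 162) [⟨207, -1, 1⟩] []) (cond (Nat.beq c 164) [⟨209, -1, 1⟩] [])))) (cond (Nat.blt c 215) (cond (Nat.blt c 212) (cond (Nat.blt c 167) (cond (Nat.beq c 165) [⟨210, -1, 1⟩] []) (cond (Nat.beq c 167) [⟨211, -1, 1⟩] [])) (cond (Nat.blt c 213) (cond (Nat.beq c 212) [⟨235, -1, 1⟩] []) (cond (Nat.beq c 213) [⟨236, -1, 1⟩] []))) (cond (Nat.blt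 c 222) (cond (Nat.blt c 218) (cond (Nat.beq c 215) [⟨237, -1, 1⟩] []) (cond (Nat.beq c 218) [⟨238, -1, 1⟩] [])) (cond (Nat.blt c 227) (cond (Nat.beq c 222) [⟨239, -1, 1⟩] []) (cond (Nat.blt c 233) (cond (Nat.beq c 227) [⟨240, -1, 1⟩] []) (cond (Nat.beq c 233) [⟨247, 1, 1⟩] [])))))))

/-- Compiled columns of `x_169` for type E8. -/
def colsE8_169 (c : ℕ) : List CEnt :=
  cond (Nat.blt c 77) (cond (Nat.blt c 39) (cond (Nat.blt c 12) (cond (Nat.blt c 4) (cond (Nat.blt c 2) (cond (Nat.blt c 1) (cond (Nat.beq c 0) [⟨177, -1, 1⟩] []) (cond (Nat.beq c 1) [⟨177, -1, 1⟩] [])) (cond (Nat.blt c 3) (cond (Nat.beq c 2) [⟨177, 0, 1⟩] []) (cond (Nat.beq c 3) [⟨177, 0, 1⟩] []))) (cond (Nat.blt c 6) (cond (Nat.blt c 5) (cond (Nat.beq c 4) [⟨177, 1, 1⟩] []) (cond (Nat.beq c 5) [⟨177, 0, 1⟩] [])) (cond (Nat.blt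 c 7) (cond (Nat.beq c 6) [⟨177, 0, 1⟩] []) (cond (Nat.beq c 7) [⟨177, 0, 1⟩] [])))) (cond (Nat.blt c 19) (cond (Nat.blt c 14) (cond (Nat.blt c 13) (cond (Nat.beq c 12) [⟨23, 1, 1⟩] []) (cond (Nat.beq c 13) [⟨24, 1, 1⟩] [])) (cond (Nat.blt c 18) (cond (Nat.beq c 14) [⟨29, 1, 1⟩] []) (cond (Nat.beq c 18) [⟨44, 1, 1⟩] []))) (cond (Nat.blt c 21) (cond (Nat.blt c 20) (cond (Nat.beq c 19) [⟨45, 1, 1⟩] []) (cond (Nat.beq c 20) [⟨46, 1, 1⟩] [])) (cond (Nat.blt c 38) (cond (Nat.beq c 21) [⟨47, 1, 1⟩] []) (cond (Nat.beq c 38) [⟨86, 1, 1⟩] []))))) (cond (Nat.blt c 63) (cond (Nat.blt c 43) (cond (Nat.blt c 41) (cond (Nat.blt c 40) (cond (Nat.beq c 39) [⟨87, 1, 1⟩] []) (cond (Nat.beq c 40) [⟨88, 1, 1⟩] [])) (cond (Nat.blt c 42) (cond (Nat.beq c 41) [⟨89, 1, 1⟩] []) (cond (Nat.beq c 42) [⟨90, 1, 1⟩] [])))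 (cond (Nat.blt c 61) (cond (Nat.blt c 60) (cond (Nat.beq c 43) [⟨91, 1, 1⟩] []) (cond (Nat.beq c 60) [⟨107, 1, 1⟩] [])) (cond (Nat.blt c 62) (cond (Nat.beq c 61) [⟨108, 1, 1⟩] []) (cond (Nat.beq c 62) [⟨109, 1, 1⟩] [])))) (cond (Nat.blt c 73) (cond (Nat.blt c 71) (cond (Nat.blt c 70) (cond (Nat.beq c 63) [⟨110, 1, 1⟩] []) (cond (Nat.beq c 70) [⟨113, -1, 1⟩] [])) (cond (Nat.blt c 72) (cond (Nat.beq c 71) [⟨114, -1, 1⟩] []) (cond (Nat.beq c 72) [⟨115, -1, 1⟩] []))) (cond (Nat.blt c 75) (cond (Nat.blt c 74) (cond (Nat.beq c 73) [⟨116, -1, 1⟩] []) (cond (Nat.beq c 74) [⟨118, 1, 1⟩] [])) (cond (Nat.blt c 76) (cond (Nat.beq c 75) [⟨119, 1, 1⟩] []) (cond (Nat.beq c 76) [⟨120, 1, 1⟩] [])))))) (cond (Nat.blt c 145) (cond (Nat.blt c 134) (cond (Nat.blt c 85) (cond (Nat.blt c 83) (cond (Nat.blt c 78) (cond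 (Nat.beq c 77) [⟨121, 1, 1⟩] []) (cond (Nat.beq c 78) [⟨177, -1, 2⟩, ⟨0, 1, 1⟩, ⟨1, 1, 1⟩, ⟨2, 1, 1⟩, ⟨3, 1, 1⟩, ⟨4, 0, 1⟩, ⟨5, 0, 1⟩, ⟨6, 0, 1⟩, ⟨7, 0, 1⟩] [])) (cond (Nat.blt c 84) (cond (Nat.beq c 83) [⟨149, 1, 1⟩] []) (cond (Nat.beq c 84) [⟨150, -1, 1⟩] []))) (cond (Nat.blt c 105) (cond (Nat.blt c 100) (cond (Nat.beq c 85) [⟨155, 1, 1⟩] []) (cond (Nat.beq c 100) [⟨170, -1, 1⟩] [])) (cond (Nat.blt c 106) (cond (Nat.beq c 105) [⟨171, 1, 1⟩] []) (cond (Nat.beq c 106) [⟨172, -1, 1⟩] [])))) (cond (Nat.blt c 139) (cond (Nat.blt c 136) (cond (Nat.blt c 135) (cond (Nat.beq c 134) [⟨178, -1, 1⟩] []) (cond (Nat.beq c 135) [⟨179, -1, 1⟩] [])) (cond (Nat.blt c 137) (cond (Nat.beq c 136) [⟨180, -1, 1⟩] []) (cond (Nat.beq c 137) [⟨181, -1, 1⟩] []))) (cond (Nat.blt c 141) (cond (Nat.blt c 140) (cond (Nat.beq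 c 139) [⟨182, 1, 1⟩] []) (cond (Nat.beq c 140) [⟨183, 1, 1⟩] [])) (cond (Nat.blt c 142) (cond (Nat.beq c 141) [⟨184, 1, 1⟩] []) (cond (Nat.beq c 142) [⟨185, 1, 1⟩] []))))) (cond (Nat.blt c 168) (cond (Nat.blt c 164) (cond (Nat.blt c 147) (cond (Nat.blt c 146) (cond (Nat.beq c 145) [⟨192, -1, 1⟩] []) (cond (Nat.beq c 146) [⟨193, -1, 1⟩] [])) (cond (Nat.blt c 148) (cond (Nat.beq c 147) [⟨194, -1, 1⟩] []) (cond (Nat.beq c 148) [⟨195, -1, 1⟩] []))) (cond (Nat.blt c 166) (cond (Nat.blt c 165) (cond (Nat.beq c 164) [⟨212, -1, 1⟩] []) (cond (Nat.beq c 165) [⟨213, -1, 1⟩] [])) (cond (Nat.blt c 167) (cond (Nat.beq c 166) [⟨214, -1, 1⟩] []) (cond (Nat.beq c 167) [⟨215, -1, 1⟩] [])))) (cond (Nat.blt c 210) (cond (Nat.blt c 208) (cond (Nat.blt c 169) (cond (Nat.beq c 168) [⟨216, -1, 1⟩] []) (cond (Nat.beq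 c 169) [⟨217, -1, 1⟩] [])) (cond (Nat.blt c 209) (cond (Nat.beq c 208) [⟨234, -1, 1⟩] []) (cond (Nat.beq c 209) [⟨235, -1, 1⟩] []))) (cond (Nat.blt c 226) (cond (Nat.blt c 211) (cond (Nat.beq c 210) [⟨236, -1, 1⟩] []) (cond (Nat.beq c 211) [⟨237, -1, 1⟩] [])) (cond (Nat.blt c 231) (cond (Nat.beq c 226) [⟨241, -1, 1⟩] []) (cond (Nat.blt c 232) (cond (Nat.beq c 231) [⟨242, -1, 1⟩] []) (cond (Nat.beq c 232) [⟨243, -1, 1⟩] [])))))))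

/-- Compiled columns of `x_170` for type E8. -/
def colsE8_170 (c : ℕ) : List CEnt :=
  cond (Nat.blt c 77) (cond (Nat.blt c 36) (cond (Nat.blt c 11) (cond (Nat.blt c 4) (cond (Nat.blt c 2) (cond (Nat.blt c 1) (cond (Nat.beq c 0) [⟨178, -1, 1⟩] []) (cond (Nat.beq c 1) [⟨178, -1, 1⟩] [])) (cond (Nat.blt c 3) (cond (Nat.beq c 2) [⟨178, 0, 1⟩] []) (cond (Nat.beq c 3) [⟨178, 1, 1⟩] []))) (cond (Nat.blt c 6) (cond (Nat.blt c 5) (cond (Nat.beq c 4) [⟨178, -1, 1⟩] []) (cond (Nat.beq c 5) [⟨178, 1, 1⟩] [])) (cond (Nat.blt c 7) (cond (Nat.beq c 6) [⟨178, 0, 1⟩] []) (cond (Nat.beq c 7) [⟨178, 0, 1⟩] [])))) (cond (Nat.blt c 19) (cond (Nat.blt c 14) (cond (Nat.blt c 13) (cond (Nat.beq c 11) [⟨23, 1, 1⟩] []) (cond (Nat.beq c 13) [⟨25, -1, 1⟩] [])) (cond (Nat.blt c 17) (cond (Nat.beq c 14) [⟨30, -1, 1⟩] [])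 (cond (Nat.beq c 17) [⟨44, 1, 1⟩] []))) (cond (Nat.blt c 21) (cond (Nat.blt c 20) (cond (Nat.beq c 19) [⟨48, -1, 1⟩] []) (cond (Nat.beq c 20) [⟨49, -1, 1⟩] [])) (cond (Nat.blt c 35) (cond (Nat.beq c 21) [⟨50, -1, 1⟩] []) (cond (Nat.beq c 35) [⟨86, 1, 1⟩] []))))) (cond (Nat.blt c 63) (cond (Nat.blt c 43) (cond (Nat.blt c 41) (cond (Nat.blt c 37) (cond (Nat.beq c 36) [⟨87, 1, 1⟩] []) (cond (Nat.beq c 37) [⟨88, 1, 1⟩] [])) (cond (Nat.blt c 42) (cond (Nat.beq c 41) [⟨92, -1, 1⟩] []) (cond (Nat.beq c 42) [⟨93, -1, 1⟩] []))) (cond (Nat.blt c 58) (cond (Nat.blt c 57) (cond (Nat.beq c 43) [⟨94, -1, 1⟩] []) (cond (Nat.beq c 57) [⟨107, 1, 1⟩] [])) (cond (Nat.blt c 59) (cond (Nat.beq c 58) [⟨108, 1, 1⟩] []) (cond (Nat.beq c 59) [⟨109, 1, 1⟩] [])))) (cond (Nat.blt c 73) (cond (Nat.blt c 68) (cond (Nat.blt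 c 67) (cond (Nat.beq c 63) [⟨111, -1, 1⟩] []) (cond (Nat.beq c 67) [⟨113, -1, 1⟩] [])) (cond (Nat.blt c 69) (cond (Nat.beq c 68) [⟨114, -1, 1⟩] []) (cond (Nat.beq c 69) [⟨115, -1, 1⟩] []))) (cond (Nat.blt c 75) (cond (Nat.blt c 74) (cond (Nat.beq c 73) [⟨117, 1, 1⟩] []) (cond (Nat.beq c 74) [⟨122, 1, 1⟩] [])) (cond (Nat.blt c 76) (cond (Nat.beq c 75) [⟨123, 1, 1⟩] []) (cond (Nat.beq c 76) [⟨124, 1, 1⟩] [])))))) (cond (Nat.blt c 144) (cond (Nat.blt c 121) (cond (Nat.blt c 85) (cond (Nat.blt c 82) (cond (Nat.blt c 78) (cond (Nat.beq c 77) [⟨178, -1, 2⟩, ⟨0, 1, 1⟩, ⟨1, 1, 1⟩, ⟨2, 1, 1⟩, ⟨3, 1, 1⟩, ⟨4, 1, 1⟩, ⟨5, 0, 1⟩, ⟨6, 0, 1⟩, ⟨7, 0, 1⟩] []) (cond (Nat.beq c 78) [⟨134, 1, 1⟩] [])) (cond (Nat.blt c 84) (cond (Nat.beq c 82) [⟨149, 1, 1⟩] []) (cond (Nat.beq c 84) [⟨151, -1, 1⟩] []))) (cond (Nat.blt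 c 104) (cond (Nat.blt c 99) (cond (Nat.beq c 85) [⟨156, 1, 1⟩] []) (cond (Nat.beq c 99) [⟨170, -1, 1⟩] [])) (cond (Nat.blt c 106) (cond (Nat.beq c 104) [⟨171, 1, 1⟩] []) (cond (Nat.beq c 106) [⟨173, -1, 1⟩] [])))) (cond (Nat.blt c 138) (cond (Nat.blt c 132) (cond (Nat.blt c 131) (cond (Nat.beq c 121) [⟨177, -1, 1⟩] []) (cond (Nat.beq c 131) [⟨179, -1, 1⟩] [])) (cond (Nat.blt c 133) (cond (Nat.beq c 132) [⟨180, -1, 1⟩] []) (cond (Nat.beq c 133) [⟨181, -1, 1⟩] []))) (cond (Nat.blt c 141) (cond (Nat.blt c 140) (cond (Nat.beq c 138) [⟨182, -1, 1⟩] []) (cond (Nat.beq c 140) [⟨186, 1, 1⟩] [])) (cond (Nat.blt c 142) (cond (Nat.beq c 141) [⟨187, 1, 1⟩] []) (cond (Nat.beq c 142) [⟨188, 1, 1⟩] []))))) (cond (Nat.blt c 168) (cond (Nat.blt c 161) (cond (Nat.blt c 147) (cond (Nat.blt c 146) (cond (Nat.beq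 c 144) [⟨192, 1, 1⟩] []) (cond (Nat.beq c 146) [⟨196, -1, 1⟩] [])) (cond (Nat.blt c 148) (cond (Nat.beq c 147) [⟨197, -1, 1⟩] []) (cond (Nat.beq c 148) [⟨198, -1, 1⟩] []))) (cond (Nat.blt c 163) (cond (Nat.blt c 162) (cond (Nat.beq c 161) [⟨212, 1, 1⟩] []) (cond (Nat.beq c 162) [⟨213, 1, 1⟩] [])) (cond (Nat.blt c 167) (cond (Nat.beq c 163) [⟨214, 1, 1⟩] []) (cond (Nat.beq c 167) [⟨218, -1, 1⟩] [])))) (cond (Nat.blt c 207) (cond (Nat.blt c 205) (cond (Nat.blt c 169) (cond (Nat.beq c 168) [⟨219, -1, 1⟩] []) (cond (Nat.beq c 169) [⟨220, -1, 1⟩] [])) (cond (Nat.blt c 206) (cond (Nat.beq c 205) [⟨234, 1, 1⟩] []) (cond (Nat.beq c 206) [⟨235, 1, 1⟩] []))) (cond (Nat.blt c 225) (cond (Nat.blt c 211) (cond (Nat.beq c 207) [⟨236, 1, 1⟩] []) (cond (Nat.beq c 211) [⟨238, -1, 1⟩] [])) (cond (Nat.blt c 230)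 (cond (Nat.beq c 225) [⟨241, 1, 1⟩] []) (cond (Nat.blt c 232) (cond (Nat.beq c 230) [⟨242, 1, 1⟩] []) (cond (Nat.beq c 232) [⟨244, -1, 1⟩] [])))))))

/-- Compiled columns of `x_171` for type E8. -/
def colsE8_171 (c : ℕ) : List CEnt :=
  cond (Nat.blt c 77) (cond (Nat.blt c 36) (cond (Nat.blt c 10) (cond (Nat.blt c 4) (cond (Nat.blt c 2) (cond (Nat.blt c 1) (cond (Nat.beq c 0) [⟨179, -1, 1⟩] []) (cond (Nat.beq c 1) [⟨179, -1, 1⟩] [])) (cond (Nat.blt c 3) (cond (Nat.beq c 2) [⟨179, 0, 1⟩] []) (cond (Nat.beq c 3) [⟨179, 1, 1⟩] []))) (cond (Nat.blt c 6) (cond (Nat.blt c 5) (cond (Nat.beq c 4) [⟨179, 0, 1⟩] []) (cond (Nat.beq c 5) [⟨179, -1, 1⟩] [])) (cond (Nat.blt c 7) (cond (Nat.beq c 6) [⟨179, 1, 1⟩] []) (cond (Nat.beq c 7) [⟨179, 0, 1⟩] [])))) (cond (Nat.blt c 18) (cond (Nat.blt c 14) (cond (Nat.blt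 c 13) (cond (Nat.beq c 10) [⟨23, 1, 1⟩] []) (cond (Nat.beq c 13) [⟨26, 1, 1⟩] [])) (cond (Nat.blt c 17) (cond (Nat.beq c 14) [⟨31, 1, 1⟩] []) (cond (Nat.beq c 17) [⟨45, -1, 1⟩] []))) (cond (Nat.blt c 21) (cond (Nat.blt c 20) (cond (Nat.beq c 18) [⟨48, -1, 1⟩] []) (cond (Nat.beq c 20) [⟨51, 1, 1⟩] [])) (cond (Nat.blt c 34) (cond (Nat.beq c 21) [⟨52, 1, 1⟩] []) (cond (Nat.beq c 34) [⟨86, 1, 1⟩] []))))) (cond (Nat.blt c 62) (cond (Nat.blt c 43) (cond (Nat.blt c 39) (cond (Nat.blt c 37) (cond (Nat.beq c 36) [⟨89, -1, 1⟩] []) (cond (Nat.beq c 37) [⟨90, -1, 1⟩] [])) (cond (Nat.blt c 40) (cond (Nat.beq c 39) [⟨92, -1, 1⟩] []) (cond (Nat.beq c 40) [⟨93, -1, 1⟩] []))) (cond (Nat.blt c 56) (cond (Nat.blt c 55) (cond (Nat.beq c 43) [⟨95, 1, 1⟩] []) (cond (Nat.beq c 55) [⟨107, 1, 1⟩] [])) (cond (Nat.blt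 c 59) (cond (Nat.beq c 56) [⟨108, 1, 1⟩] []) (cond (Nat.beq c 59) [⟨110, -1, 1⟩] [])))) (cond (Nat.blt c 72) (cond (Nat.blt c 66) (cond (Nat.blt c 65) (cond (Nat.beq c 62) [⟨111, -1, 1⟩] []) (cond (Nat.beq c 65) [⟨113, -1, 1⟩] [])) (cond (Nat.blt c 69) (cond (Nat.beq c 66) [⟨114, -1, 1⟩] []) (cond (Nat.beq c 69) [⟨116, 1, 1⟩] []))) (cond (Nat.blt c 75) (cond (Nat.blt c 74) (cond (Nat.beq c 72) [⟨117, 1, 1⟩] []) (cond (Nat.beq c 74) [⟨125, 1, 1⟩] [])) (cond (Nat.blt c 76) (cond (Nat.beq c 75) [⟨126, 1, 1⟩] []) (cond (Nat.beq c 76) [⟨179, -1, 2⟩, ⟨0, 1, 1⟩, ⟨1, 1, 1⟩, ⟨2, 1, 1⟩, ⟨3, 1, 1⟩, ⟨4, 1, 1⟩, ⟨5, 1, 1⟩, ⟨6, 0, 1⟩, ⟨7, 0, 1⟩] [])))))) (cond (Nat.blt c 144) (cond (Nat.blt c 120) (cond (Nat.blt c 85) (cond (Nat.blt c 81) (cond (Nat.blt c 78) (cond (Nat.beq c 77) [⟨131, 1, 1⟩] []) (cond (Nat.beq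 c 78) [⟨135, 1, 1⟩] [])) (cond (Nat.blt c 84) (cond (Nat.beq c 81) [⟨149, 1, 1⟩] []) (cond (Nat.beq c 84) [⟨152, -1, 1⟩] []))) (cond (Nat.blt c 103) (cond (Nat.blt c 98) (cond (Nat.beq c 85) [⟨157, 1, 1⟩] []) (cond (Nat.beq c 98) [⟨170, -1, 1⟩] [])) (cond (Nat.blt c 106) (cond (Nat.beq c 103) [⟨171, 1, 1⟩] []) (cond (Nat.beq c 106) [⟨174, -1, 1⟩] [])))) (cond (Nat.blt c 138) (cond (Nat.blt c 129) (cond (Nat.blt c 124) (cond (Nat.beq c 120) [⟨177, -1, 1⟩] []) (cond (Nat.beq c 124) [⟨178, -1, 1⟩] [])) (cond (Nat.blt c 130) (cond (Nat.beq c 129) [⟨180, -1, 1⟩] []) (cond (Nat.beq c 130) [⟨181, -1, 1⟩] []))) (cond (Nat.blt c 141) (cond (Nat.blt c 139) (cond (Nat.beq c 138) [⟨183, -1, 1⟩] []) (cond (Nat.beq c 139) [⟨186, -1, 1⟩] [])) (cond (Nat.blt c 142) (cond (Nat.beq c 141) [⟨189, 1, 1⟩] []) (cond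 (Nat.beq c 142) [⟨190, 1, 1⟩] []))))) (cond (Nat.blt c 166) (cond (Nat.blt c 160) (cond (Nat.blt c 147) (cond (Nat.blt c 145) (cond (Nat.beq c 144) [⟨193, 1, 1⟩] []) (cond (Nat.beq c 145) [⟨196, 1, 1⟩] [])) (cond (Nat.blt c 148) (cond (Nat.beq c 147) [⟨199, -1, 1⟩] []) (cond (Nat.beq c 148) [⟨200, -1, 1⟩] []))) (cond (Nat.blt c 163) (cond (Nat.blt c 162) (cond (Nat.beq c 160) [⟨212, -1, 1⟩] []) (cond (Nat.beq c 162) [⟨215, 1, 1⟩] [])) (cond (Nat.blt c 165) (cond (Nat.beq c 163) [⟨216, 1, 1⟩] []) (cond (Nat.beq c 165) [⟨218, 1, 1⟩] [])))) (cond (Nat.blt c 207) (cond (Nat.blt c 203) (cond (Nat.blt c 169) (cond (Nat.beq c 166) [⟨219, 1, 1⟩] []) (cond (Nat.beq c 169) [⟨221, -1, 1⟩] [])) (cond (Nat.blt c 204) (cond (Nat.beq c 203) [⟨234, -1, 1⟩] []) (cond (Nat.beq c 204) [⟨235, -1, 1⟩] []))) (cond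 (Nat.blt c 224) (cond (Nat.blt c 210) (cond (Nat.beq c 207) [⟨237, 1, 1⟩] []) (cond (Nat.beq c 210) [⟨238, 1, 1⟩] [])) (cond (Nat.blt c 229) (cond (Nat.beq c 224) [⟨241, -1, 1⟩] []) (cond (Nat.blt c 232) (cond (Nat.beq c 229) [⟨242, -1, 1⟩] []) (cond (Nat.beq c 232) [⟨245, -1, 1⟩] [])))))))

/-- Compiled columns of `x_172` for type E8. -/
def colsE8_172 (c : ℕ) : List CEnt :=
  cond (Nat.blt c 77) (cond (Nat.blt c 35) (cond (Nat.blt c 9) (cond (Nat.blt c 4) (cond (Nat.blt c 2) (cond (Nat.blt c 1) (cond (Nat.beq c 0) [⟨180, -1, 1⟩] []) (cond (Nat.beq c 1) [⟨180, -1, 1⟩] [])) (cond (Nat.blt c 3) (cond (Nat.beq c 2) [⟨180, 0, 1⟩] []) (cond (Nat.beq c 3) [⟨180, 1, 1⟩] []))) (cond (Nat.blt c 6) (cond (Nat.blt c 5) (cond (Nat.beq c 4) [⟨180, 0, 1⟩] []) (cond (Nat.beq c 5) [⟨180, 0, 1⟩] [])) (cond (Nat.blt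 c 7) (cond (Nat.beq c 6) [⟨180, -1, 1⟩] []) (cond (Nat.beq c 7) [⟨180, 1, 1⟩] [])))) (cond (Nat.blt c 18) (cond (Nat.blt c 14) (cond (Nat.blt c 13) (cond (Nat.beq c 9) [⟨23, 1, 1⟩] []) (cond (Nat.beq c 13) [⟨27, -1, 1⟩] [])) (cond (Nat.blt c 17) (cond (Nat.beq c 14) [⟨32, -1, 1⟩] []) (cond (Nat.beq c 17) [⟨46, 1, 1⟩] []))) (cond (Nat.blt c 21) (cond (Nat.blt c 19) (cond (Nat.beq c 18) [⟨49, 1, 1⟩] []) (cond (Nat.beq c 19) [⟨51, 1, 1⟩] [])) (cond (Nat.blt c 34) (cond (Nat.beq c 21) [⟨53, -1, 1⟩] []) (cond (Nat.beq c 34) [⟨87, -1, 1⟩] []))))) (cond (Nat.blt c 61) (cond (Nat.blt c 42) (cond (Nat.blt c 38) (cond (Nat.blt c 37) (cond (Nat.beq c 35) [⟨89, -1, 1⟩] []) (cond (Nat.beq c 37) [⟨91, 1, 1⟩] [])) (cond (Nat.blt c 40) (cond (Nat.beq c 38) [⟨92, -1, 1⟩] []) (cond (Nat.beq c 40) [⟨94, 1, 1⟩]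 []))) (cond (Nat.blt c 56) (cond (Nat.blt c 54) (cond (Nat.beq c 42) [⟨95, 1, 1⟩] []) (cond (Nat.beq c 54) [⟨107, 1, 1⟩] [])) (cond (Nat.blt c 58) (cond (Nat.beq c 56) [⟨109, -1, 1⟩] []) (cond (Nat.beq c 58) [⟨110, -1, 1⟩] [])))) (cond (Nat.blt c 71) (cond (Nat.blt c 66) (cond (Nat.blt c 64) (cond (Nat.beq c 61) [⟨111, -1, 1⟩] []) (cond (Nat.beq c 64) [⟨113, -1, 1⟩] [])) (cond (Nat.blt c 68) (cond (Nat.beq c 66) [⟨115, 1, 1⟩] []) (cond (Nat.beq c 68) [⟨116, 1, 1⟩] []))) (cond (Nat.blt c 75) (cond (Nat.blt c 74) (cond (Nat.beq c 71) [⟨117, 1, 1⟩] []) (cond (Nat.beq c 74) [⟨127, 1, 1⟩] [])) (cond (Nat.blt c 76) (cond (Nat.beq c 75) [⟨180, -1, 2⟩, ⟨0, 1, 1⟩, ⟨1, 1, 1⟩, ⟨2, 1, 1⟩, ⟨3, 1, 1⟩, ⟨4, 1, 1⟩, ⟨5, 1, 1⟩, ⟨6, 1, 1⟩, ⟨7, 0, 1⟩] []) (cond (Nat.beq c 76) [⟨129, 1, 1⟩] [])))))) (cond (Nat.blt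 c 144) (cond (Nat.blt c 119) (cond (Nat.blt c 85) (cond (Nat.blt c 80) (cond (Nat.blt c 78) (cond (Nat.beq c 77) [⟨132, 1, 1⟩] []) (cond (Nat.beq c 78) [⟨136, 1, 1⟩] [])) (cond (Nat.blt c 84) (cond (Nat.beq c 80) [⟨149, 1, 1⟩] []) (cond (Nat.beq c 84) [⟨153, -1, 1⟩] []))) (cond (Nat.blt c 102) (cond (Nat.blt c 97) (cond (Nat.beq c 85) [⟨158, 1, 1⟩] []) (cond (Nat.beq c 97) [⟨170, -1, 1⟩] [])) (cond (Nat.blt c 106) (cond (Nat.beq c 102) [⟨171, 1, 1⟩] []) (cond (Nat.beq c 106) [⟨175, -1, 1⟩] [])))) (cond (Nat.blt c 138) (cond (Nat.blt c 126) (cond (Nat.blt c 123) (cond (Nat.beq c 119) [⟨177, -1, 1⟩] []) (cond (Nat.beq c 123) [⟨178, -1, 1⟩] [])) (cond (Nat.blt c 128) (cond (Nat.beq c 126) [⟨179, -1, 1⟩] []) (cond (Nat.beq c 128) [⟨181, -1, 1⟩] []))) (cond (Nat.blt c 140) (cond (Nat.blt c 139) (cond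 (Nat.beq c 138) [⟨184, -1, 1⟩] []) (cond (Nat.beq c 139) [⟨187, -1, 1⟩] [])) (cond (Nat.blt c 142) (cond (Nat.beq c 140) [⟨189, -1, 1⟩] []) (cond (Nat.beq c 142) [⟨191, 1, 1⟩] []))))) (cond (Nat.blt c 166) (cond (Nat.blt c 160) (cond (Nat.blt c 146) (cond (Nat.blt c 145) (cond (Nat.beq c 144) [⟨194, 1, 1⟩] []) (cond (Nat.beq c 145) [⟨197, 1, 1⟩] [])) (cond (Nat.blt c 148) (cond (Nat.beq c 146) [⟨199, 1, 1⟩] []) (cond (Nat.beq c 148) [⟨201, -1, 1⟩] []))) (cond (Nat.blt c 163) (cond (Nat.blt c 161) (cond (Nat.beq c 160) [⟨213, -1, 1⟩] []) (cond (Nat.beq c 161) [⟨215, -1, 1⟩] [])) (cond (Nat.blt c 164) (cond (Nat.beq c 163) [⟨217, 1, 1⟩] []) (cond (Nat.beq c 164) [⟨218, -1, 1⟩] [])))) (cond (Nat.blt c 206) (cond (Nat.blt c 202) (cond (Nat.blt c 168) (cond (Nat.beq c 166) [⟨220, 1, 1⟩] []) (cond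 (Nat.beq c 168) [⟨221, 1, 1⟩] [])) (cond (Nat.blt c 204) (cond (Nat.beq c 202) [⟨234, 1, 1⟩] []) (cond (Nat.beq c 204) [⟨236, -1, 1⟩] []))) (cond (Nat.blt c 223) (cond (Nat.blt c 209) (cond (Nat.beq c 206) [⟨237, -1, 1⟩] []) (cond (Nat.beq c 209) [⟨238, -1, 1⟩] [])) (cond (Nat.blt c 228) (cond (Nat.beq c 223) [⟨241, 1, 1⟩] []) (cond (Nat.blt c 232) (cond (Nat.beq c 228) [⟨242, 1, 1⟩] []) (cond (Nat.beq c 232) [⟨246, -1, 1⟩] [])))))))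

/-- Compiled columns of `x_173` for type E8. -/
def colsE8_173 (c : ℕ) : List CEnt :=
  cond (Nat.blt c 77) (cond (Nat.blt c 35) (cond (Nat.blt c 8) (cond (Nat.blt c 4) (cond (Nat.blt c 2) (cond (Nat.blt c 1) (cond (Nat.beq c 0) [⟨181, -1, 1⟩] []) (cond (Nat.beq c 1) [⟨181, -1, 1⟩] [])) (cond (Nat.blt c 3) (cond (Nat.beq c 2) [⟨181, 0, 1⟩] []) (cond (Nat.beq c 3) [⟨181, 1, 1⟩] []))) (cond (Nat.blt c 6) (cond (Nat.blt c 5) (cond (Nat.beq c 4) [⟨181, 0, 1⟩] []) (cond (Nat.beq c 5) [⟨181, 0, 1⟩] [])) (cond (Nat.blt c 7) (cond (Nat.beq c 6) [⟨181, 0, 1⟩] []) (cond (Nat.beq c 7) [⟨181, -1, 1⟩] [])))) (cond (Nat.blt c 18) (cond (Nat.blt c 14) (cond (Nat.blt c 13) (cond (Nat.beq c 8) [⟨23, 1, 1⟩] []) (cond (Nat.beq c 13) [⟨28, 1, 1⟩] [])) (cond (Nat.blt c 17) (cond (Nat.beq c 14) [⟨33, 1, 1⟩] []) (cond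 (Nat.beq c 17) [⟨47, -1, 1⟩] []))) (cond (Nat.blt c 20) (cond (Nat.blt c 19) (cond (Nat.beq c 18) [⟨50, -1, 1⟩] []) (cond (Nat.beq c 19) [⟨52, -1, 1⟩] [])) (cond (Nat.blt c 34) (cond (Nat.beq c 20) [⟨53, -1, 1⟩] []) (cond (Nat.beq c 34) [⟨88, 1, 1⟩] []))))) (cond (Nat.blt c 60) (cond (Nat.blt c 41) (cond (Nat.blt c 38) (cond (Nat.blt c 36) (cond (Nat.beq c 35) [⟨90, 1, 1⟩] []) (cond (Nat.beq c 36) [⟨91, 1, 1⟩] [])) (cond (Nat.blt c 39) (cond (Nat.beq c 38) [⟨93, 1, 1⟩] []) (cond (Nat.beq c 39) [⟨94, 1, 1⟩] []))) (cond (Nat.blt c 55) (cond (Nat.blt c 54) (cond (Nat.beq c 41) [⟨95, 1, 1⟩] []) (cond (Nat.beq c 54) [⟨108, -1, 1⟩] [])) (cond (Nat.blt c 57) (cond (Nat.beq c 55) [⟨109, -1, 1⟩] []) (cond (Nat.beq c 57) [⟨110, -1, 1⟩] [])))) (cond (Nat.blt c 70) (cond (Nat.blt c 65) (cond (Nat.blt c 64)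 (cond (Nat.beq c 60) [⟨111, -1, 1⟩] []) (cond (Nat.beq c 64) [⟨114, 1, 1⟩] [])) (cond (Nat.blt c 67) (cond (Nat.beq c 65) [⟨115, 1, 1⟩] []) (cond (Nat.beq c 67) [⟨116, 1, 1⟩] []))) (cond (Nat.blt c 75) (cond (Nat.blt c 74) (cond (Nat.beq c 70) [⟨117, 1, 1⟩] []) (cond (Nat.beq c 74) [⟨181, -1, 2⟩, ⟨0, 1, 1⟩, ⟨1, 1, 1⟩, ⟨2, 1, 1⟩, ⟨3, 1, 1⟩, ⟨4, 1, 1⟩, ⟨5, 1, 1⟩, ⟨6, 1, 1⟩, ⟨7, 1, 1⟩] [])) (cond (Nat.blt c 76) (cond (Nat.beq c 75) [⟨128, 1, 1⟩] []) (cond (Nat.beq c 76) [⟨130, 1, 1⟩] [])))))) (cond (Nat.blt c 144) (cond (Nat.blt c 118) (cond (Nat.blt c 85) (cond (Nat.blt c 79) (cond (Nat.blt c 78) (cond (Nat.beq c 77) [⟨133, 1, 1⟩] []) (cond (Nat.beq c 78) [⟨137, 1, 1⟩] [])) (cond (Nat.blt c 84) (cond (Nat.beq c 79) [⟨149, 1, 1⟩] []) (cond (Nat.beq c 84) [⟨154, -1, 1⟩] []))) (cond (Nat.blt c 101)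 (cond (Nat.blt c 96) (cond (Nat.beq c 85) [⟨159, 1, 1⟩] []) (cond (Nat.beq c 96) [⟨170, -1, 1⟩] [])) (cond (Nat.blt c 106) (cond (Nat.beq c 101) [⟨171, 1, 1⟩] []) (cond (Nat.beq c 106) [⟨176, -1, 1⟩] [])))) (cond (Nat.blt c 138) (cond (Nat.blt c 125) (cond (Nat.blt c 122) (cond (Nat.beq c 118) [⟨177, -1, 1⟩] []) (cond (Nat.beq c 122) [⟨178, -1, 1⟩] [])) (cond (Nat.blt c 127) (cond (Nat.beq c 125) [⟨179, -1, 1⟩] []) (cond (Nat.beq c 127) [⟨180, -1, 1⟩] []))) (cond (Nat.blt c 140) (cond (Nat.blt c 139) (cond (Nat.beq c 138) [⟨185, -1, 1⟩] []) (cond (Nat.beq c 139) [⟨188, -1, 1⟩] [])) (cond (Nat.blt c 141) (cond (Nat.beq c 140) [⟨190, -1, 1⟩] []) (cond (Nat.beq c 141) [⟨191, -1, 1⟩] []))))) (cond (Nat.blt c 165) (cond (Nat.blt c 160) (cond (Nat.blt c 146) (cond (Nat.blt c 145) (cond (Nat.beq c 144)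 [⟨195, 1, 1⟩] []) (cond (Nat.beq c 145) [⟨198, 1, 1⟩] [])) (cond (Nat.blt c 147) (cond (Nat.beq c 146) [⟨200, 1, 1⟩] []) (cond (Nat.beq c 147) [⟨201, 1, 1⟩] []))) (cond (Nat.blt c 162) (cond (Nat.blt c 161) (cond (Nat.beq c 160) [⟨214, -1, 1⟩] []) (cond (Nat.beq c 161) [⟨216, -1, 1⟩] [])) (cond (Nat.blt c 164) (cond (Nat.beq c 162) [⟨217, -1, 1⟩] []) (cond (Nat.beq c 164) [⟨219, -1, 1⟩] [])))) (cond (Nat.blt c 205) (cond (Nat.blt c 202) (cond (Nat.blt c 167) (cond (Nat.beq c 165) [⟨220, -1, 1⟩] []) (cond (Nat.beq c 167) [⟨221, -1, 1⟩] [])) (cond (Nat.blt c 203) (cond (Nat.beq c 202) [⟨235, 1, 1⟩] []) (cond (Nat.beq c 203) [⟨236, 1, 1⟩] []))) (cond (Nat.blt c 222) (cond (Nat.blt c 208) (cond (Nat.beq c 205) [⟨237, 1, 1⟩] []) (cond (Nat.beq c 208) [⟨238, 1, 1⟩] [])) (cond (Nat.blt c 227) (cond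 (Nat.beq c 222) [⟨241, -1, 1⟩] []) (cond (Nat.blt c 232) (cond (Nat.beq c 227) [⟨242, -1, 1⟩] []) (cond (Nat.beq c 232) [⟨247, -1, 1⟩] [])))))))

/-- Compiled columns of `x_174` for type E8. -/
def colsE8_174 (c : ℕ) : List CEnt :=
  cond (Nat.blt c 77) (cond (Nat.blt c 32) (cond (Nat.blt c 11) (cond (Nat.blt c 4) (cond (Nat.blt c 2) (cond (Nat.blt c 1) (cond (Nat.beq c 0) [⟨182, -1, 1⟩] []) (cond (Nat.beq c 1) [⟨182, 0, 1⟩] [])) (cond (Nat.blt c 3) (cond (Nat.beq c 2) [⟨182, 1, 1⟩] []) (cond (Nat.beq c 3) [⟨182, -1, 1⟩] []))) (cond (Nat.blt c 6) (cond (Nat.blt c 5) (cond (Nat.beq c 4) [⟨182, 0, 1⟩] []) (cond (Nat.beq c 5) [⟨182, 1, 1⟩] [])) (cond (Nat.blt c 7) (cond (Nat.beq c 6) [⟨182, 0, 1⟩] []) (cond (Nat.beq c 7) [⟨182, 0, 1⟩] [])))) (cond (Nat.blt c 19) (cond (Nat.blt c 14) (cond (Nat.blt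 c 12) (cond (Nat.beq c 11) [⟨24, -1, 1⟩] []) (cond (Nat.beq c 12) [⟨25, -1, 1⟩] [])) (cond (Nat.blt c 16) (cond (Nat.beq c 14) [⟨34, 1, 1⟩] []) (cond (Nat.beq c 16) [⟨44, 1, 1⟩] []))) (cond (Nat.blt c 21) (cond (Nat.blt c 20) (cond (Nat.beq c 19) [⟨54, 1, 1⟩] []) (cond (Nat.beq c 20) [⟨55, 1, 1⟩] [])) (cond (Nat.blt c 31) (cond (Nat.beq c 21) [⟨56, 1, 1⟩] []) (cond (Nat.beq c 31) [⟨86, 1, 1⟩] []))))) (cond (Nat.blt c 63) (cond (Nat.blt c 43) (cond (Nat.blt c 41) (cond (Nat.blt c 33) (cond (Nat.beq c 32) [⟨87, 1, 1⟩] []) (cond (Nat.beq c 33) [⟨88, 1, 1⟩] [])) (cond (Nat.blt c 42) (cond (Nat.beq c 41) [⟨96, 1, 1⟩] []) (cond (Nat.beq c 42) [⟨97, 1, 1⟩] []))) (cond (Nat.blt c 52) (cond (Nat.blt c 51) (cond (Nat.beq c 43) [⟨98, 1, 1⟩] []) (cond (Nat.beq c 51) [⟨107, 1, 1⟩] [])) (cond (Nat.blt c 53)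 (cond (Nat.beq c 52) [⟨108, 1, 1⟩] []) (cond (Nat.beq c 53) [⟨109, 1, 1⟩] [])))) (cond (Nat.blt c 70) (cond (Nat.blt c 68) (cond (Nat.blt c 67) (cond (Nat.beq c 63) [⟨112, 1, 1⟩] []) (cond (Nat.beq c 67) [⟨118, -1, 1⟩] [])) (cond (Nat.blt c 69) (cond (Nat.beq c 68) [⟨119, -1, 1⟩] []) (cond (Nat.beq c 69) [⟨120, -1, 1⟩] []))) (cond (Nat.blt c 72) (cond (Nat.blt c 71) (cond (Nat.beq c 70) [⟨122, 1, 1⟩] []) (cond (Nat.beq c 71) [⟨123, 1, 1⟩] [])) (cond (Nat.blt c 73) (cond (Nat.beq c 72) [⟨124, 1, 1⟩] []) (cond (Nat.beq c 73) [⟨182, -1, 2⟩, ⟨0, 1, 1⟩, ⟨1, 1, 1⟩, ⟨2, 1, 1⟩, ⟨3, 2, 1⟩, ⟨4, 1, 1⟩, ⟨5, 0, 1⟩, ⟨6, 0, 1⟩, ⟨7, 0, 1⟩] [])))))) (cond (Nat.blt c 143) (cond (Nat.blt c 116) (cond (Nat.blt c 85) (cond (Nat.blt c 82) (cond (Nat.blt c 78) (cond (Nat.beq c 77) [⟨138, 1, 1⟩] []) (cond (Nat.beq c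 78) [⟨139, -1, 1⟩] [])) (cond (Nat.blt c 83) (cond (Nat.beq c 82) [⟨150, 1, 1⟩] []) (cond (Nat.beq c 83) [⟨151, -1, 1⟩] []))) (cond (Nat.blt c 104) (cond (Nat.blt c 95) (cond (Nat.beq c 85) [⟨160, 1, 1⟩] []) (cond (Nat.beq c 95) [⟨170, -1, 1⟩] [])) (cond (Nat.blt c 105) (cond (Nat.beq c 104) [⟨172, 1, 1⟩] []) (cond (Nat.beq c 105) [⟨173, -1, 1⟩] [])))) (cond (Nat.blt c 133) (cond (Nat.blt c 131) (cond (Nat.blt c 117) (cond (Nat.beq c 116) [⟨177, 1, 1⟩] []) (cond (Nat.beq c 117) [⟨178, -1, 1⟩] [])) (cond (Nat.blt c 132) (cond (Nat.beq c 131) [⟨183, -1, 1⟩] []) (cond (Nat.beq c 132) [⟨184, -1, 1⟩] []))) (cond (Nat.blt c 136) (cond (Nat.blt c 135) (cond (Nat.beq c 133) [⟨185, -1, 1⟩] []) (cond (Nat.beq c 135) [⟨186, 1, 1⟩] [])) (cond (Nat.blt c 137) (cond (Nat.beq c 136) [⟨187, 1, 1⟩] []) (cond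 (Nat.beq c 137) [⟨188, 1, 1⟩] []))))) (cond (Nat.blt c 168) (cond (Nat.blt c 157) (cond (Nat.blt c 147) (cond (Nat.blt c 146) (cond (Nat.beq c 143) [⟨192, -1, 1⟩] []) (cond (Nat.beq c 146) [⟨202, -1, 1⟩] [])) (cond (Nat.blt c 148) (cond (Nat.beq c 147) [⟨203, -1, 1⟩] []) (cond (Nat.beq c 148) [⟨204, -1, 1⟩] []))) (cond (Nat.blt c 159) (cond (Nat.blt c 158) (cond (Nat.beq c 157) [⟨212, -1, 1⟩] []) (cond (Nat.beq c 158) [⟨213, -1, 1⟩] [])) (cond (Nat.blt c 167) (cond (Nat.beq c 159) [⟨214, -1, 1⟩] []) (cond (Nat.beq c 167) [⟨222, -1, 1⟩] [])))) (cond (Nat.blt c 201) (cond (Nat.blt c 199) (cond (Nat.blt c 169) (cond (Nat.beq c 168) [⟨223, -1, 1⟩] []) (cond (Nat.beq c 169) [⟨224, -1, 1⟩] [])) (cond (Nat.blt c 200) (cond (Nat.beq c 199) [⟨234, -1, 1⟩] []) (cond (Nat.beq c 200) [⟨235, -1, 1⟩] [])))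 (cond (Nat.blt c 221) (cond (Nat.blt c 211) (cond (Nat.beq c 201) [⟨236, -1, 1⟩] []) (cond (Nat.beq c 211) [⟨239, -1, 1⟩] [])) (cond (Nat.blt c 230) (cond (Nat.beq c 221) [⟨241, -1, 1⟩] []) (cond (Nat.blt c 231) (cond (Nat.beq c 230) [⟨243, 1, 1⟩] []) (cond (Nat.beq c 231) [⟨244, 1, 1⟩] [])))))))

/-- Compiled columns of `x_175` for type E8. -/
def colsE8_175 (c : ℕ) : List CEnt :=
  cond (Nat.blt c 76) (cond (Nat.blt c 32) (cond (Nat.blt c 10) (cond (Nat.blt c 4) (cond (Nat.blt c 2) (cond (Nat.blt c 1) (cond (Nat.beq c 0) [⟨183, -1, 1⟩] []) (cond (Nat.beq c 1) [⟨183, 0, 1⟩] [])) (cond (Nat.blt c 3) (cond (Nat.beq c 2) [⟨183, 1, 1⟩] []) (cond (Nat.beq c 3) [⟨183, -1, 1⟩] []))) (cond (Nat.blt c 6) (cond (Nat.blt c 5) (cond (Nat.beq c 4) [⟨183, 1, 1⟩] []) (cond (Nat.beq c 5) [⟨183, -1, 1⟩] []))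 (cond (Nat.blt c 7) (cond (Nat.beq c 6) [⟨183, 1, 1⟩] []) (cond (Nat.beq c 7) [⟨183, 0, 1⟩] [])))) (cond (Nat.blt c 18) (cond (Nat.blt c 14) (cond (Nat.blt c 12) (cond (Nat.beq c 10) [⟨24, -1, 1⟩] []) (cond (Nat.beq c 12) [⟨26, 1, 1⟩] [])) (cond (Nat.blt c 16) (cond (Nat.beq c 14) [⟨35, -1, 1⟩] []) (cond (Nat.beq c 16) [⟨45, -1, 1⟩] []))) (cond (Nat.blt c 21) (cond (Nat.blt c 20) (cond (Nat.beq c 18) [⟨54, 1, 1⟩] []) (cond (Nat.beq c 20) [⟨57, -1, 1⟩] [])) (cond (Nat.blt c 30) (cond (Nat.beq c 21) [⟨58, -1, 1⟩] []) (cond (Nat.beq c 30) [⟨86, 1, 1⟩] []))))) (cond (Nat.blt c 62) (cond (Nat.blt c 43) (cond (Nat.blt c 39) (cond (Nat.blt c 33) (cond (Nat.beq c 32) [⟨89, -1, 1⟩] []) (cond (Nat.beq c 33) [⟨90, -1, 1⟩] [])) (cond (Nat.blt c 40) (cond (Nat.beq c 39) [⟨96, 1, 1⟩] []) (cond (Nat.beq c 40)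 [⟨97, 1, 1⟩] []))) (cond (Nat.blt c 50) (cond (Nat.blt c 49) (cond (Nat.beq c 43) [⟨99, -1, 1⟩] []) (cond (Nat.beq c 49) [⟨107, 1, 1⟩] [])) (cond (Nat.blt c 53) (cond (Nat.beq c 50) [⟨108, 1, 1⟩] []) (cond (Nat.beq c 53) [⟨110, -1, 1⟩] [])))) (cond (Nat.blt c 70) (cond (Nat.blt c 66) (cond (Nat.blt c 65) (cond (Nat.beq c 62) [⟨112, 1, 1⟩] []) (cond (Nat.beq c 65) [⟨118, -1, 1⟩] [])) (cond (Nat.blt c 69) (cond (Nat.beq c 66) [⟨119, -1, 1⟩] []) (cond (Nat.beq c 69) [⟨121, 1, 1⟩] []))) (cond (Nat.blt c 72) (cond (Nat.blt c 71) (cond (Nat.beq c 70) [⟨125, 1, 1⟩] []) (cond (Nat.beq c 71) [⟨126, 1, 1⟩] [])) (cond (Nat.blt c 73) (cond (Nat.beq c 72) [⟨183, -1, 2⟩, ⟨0, 1, 1⟩, ⟨1, 1, 1⟩, ⟨2, 1, 1⟩, ⟨3, 2, 1⟩, ⟨4, 1, 1⟩, ⟨5, 1, 1⟩, ⟨6, 0, 1⟩, ⟨7, 0, 1⟩] []) (cond (Nat.beq c 73) [⟨131, 1, 1⟩] [])))))) (cond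 (Nat.blt c 143) (cond (Nat.blt c 115) (cond (Nat.blt c 85) (cond (Nat.blt c 81) (cond (Nat.blt c 78) (cond (Nat.beq c 76) [⟨138, 1, 1⟩] []) (cond (Nat.beq c 78) [⟨140, -1, 1⟩] [])) (cond (Nat.blt c 83) (cond (Nat.beq c 81) [⟨150, 1, 1⟩] []) (cond (Nat.beq c 83) [⟨152, -1, 1⟩] []))) (cond (Nat.blt c 103) (cond (Nat.blt c 94) (cond (Nat.beq c 85) [⟨161, 1, 1⟩] []) (cond (Nat.beq c 94) [⟨170, -1, 1⟩] [])) (cond (Nat.blt c 105) (cond (Nat.beq c 103) [⟨172, 1, 1⟩] []) (cond (Nat.beq c 105) [⟨174, -1, 1⟩] [])))) (cond (Nat.blt c 130) (cond (Nat.blt c 124) (cond (Nat.blt c 117) (cond (Nat.beq c 115) [⟨177, 1, 1⟩] []) (cond (Nat.beq c 117) [⟨179, -1, 1⟩] [])) (cond (Nat.blt c 129) (cond (Nat.beq c 124) [⟨182, -1, 1⟩] []) (cond (Nat.beq c 129) [⟨184, -1, 1⟩] []))) (cond (Nat.blt c 136) (cond (Nat.blt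 c 134) (cond (Nat.beq c 130) [⟨185, -1, 1⟩] []) (cond (Nat.beq c 134) [⟨186, -1, 1⟩] [])) (cond (Nat.blt c 137) (cond (Nat.beq c 136) [⟨189, 1, 1⟩] []) (cond (Nat.beq c 137) [⟨190, 1, 1⟩] []))))) (cond (Nat.blt c 166) (cond (Nat.blt c 156) (cond (Nat.blt c 147) (cond (Nat.blt c 145) (cond (Nat.beq c 143) [⟨193, -1, 1⟩] []) (cond (Nat.beq c 145) [⟨202, 1, 1⟩] [])) (cond (Nat.blt c 148) (cond (Nat.beq c 147) [⟨205, -1, 1⟩] []) (cond (Nat.beq c 148) [⟨206, -1, 1⟩] []))) (cond (Nat.blt c 159) (cond (Nat.blt c 158) (cond (Nat.beq c 156) [⟨212, 1, 1⟩] []) (cond (Nat.beq c 158) [⟨215, -1, 1⟩] [])) (cond (Nat.blt c 165) (cond (Nat.beq c 159) [⟨216, -1, 1⟩] []) (cond (Nat.beq c 165) [⟨222, 1, 1⟩] [])))) (cond (Nat.blt c 201) (cond (Nat.blt c 197) (cond (Nat.blt c 169) (cond (Nat.beq c 166) [⟨223, 1, 1⟩]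 []) (cond (Nat.beq c 169) [⟨225, -1, 1⟩] [])) (cond (Nat.blt c 198) (cond (Nat.beq c 197) [⟨234, 1, 1⟩] []) (cond (Nat.beq c 198) [⟨235, 1, 1⟩] []))) (cond (Nat.blt c 220) (cond (Nat.blt c 210) (cond (Nat.beq c 201) [⟨237, -1, 1⟩] []) (cond (Nat.beq c 210) [⟨239, 1, 1⟩] [])) (cond (Nat.blt c 229) (cond (Nat.beq c 220) [⟨241, 1, 1⟩] []) (cond (Nat.blt c 231) (cond (Nat.beq c 229) [⟨243, -1, 1⟩] []) (cond (Nat.beq c 231) [⟨245, 1, 1⟩] [])))))))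

/-- Compiled columns of `x_176` for type E8. -/
def colsE8_176 (c : ℕ) : List CEnt :=
  cond (Nat.blt c 75) (cond (Nat.blt c 31) (cond (Nat.blt c 9) (cond (Nat.blt c 4) (cond (Nat.blt c 2) (cond (Nat.blt c 1) (cond (Nat.beq c 0) [⟨184, -1, 1⟩] []) (cond (Nat.beq c 1) [⟨184, 0, 1⟩] [])) (cond (Nat.blt c 3) (cond (Nat.beq c 2) [⟨184, 1, 1⟩] []) (cond (Nat.beq c 3) [⟨184, -1, 1⟩] []))) (cond (Nat.blt c 6) (cond (Nat.blt c 5) (cond (Nat.beq c 4) [⟨184, 1, 1⟩] []) (cond (Nat.beq c 5) [⟨184, 0, 1⟩] [])) (cond (Nat.blt c 7) (cond (Nat.beq c 6) [⟨184, -1, 1⟩] []) (cond (Nat.beq c 7) [⟨184, 1, 1⟩] [])))) (cond (Nat.blt c 18) (cond (Nat.blt c 14) (cond (Nat.blt c 12) (cond (Nat.beq c 9) [⟨24, -1, 1⟩] []) (cond (Nat.beq c 12) [⟨27, -1, 1⟩] [])) (cond (Nat.blt c 16) (cond (Nat.beq c 14) [⟨36, 1, 1⟩] [])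 (cond (Nat.beq c 16) [⟨46, 1, 1⟩] []))) (cond (Nat.blt c 21) (cond (Nat.blt c 19) (cond (Nat.beq c 18) [⟨55, -1, 1⟩] []) (cond (Nat.beq c 19) [⟨57, -1, 1⟩] [])) (cond (Nat.blt c 30) (cond (Nat.beq c 21) [⟨59, 1, 1⟩] []) (cond (Nat.beq c 30) [⟨87, -1, 1⟩] []))))) (cond (Nat.blt c 61) (cond (Nat.blt c 42) (cond (Nat.blt c 38) (cond (Nat.blt c 33) (cond (Nat.beq c 31) [⟨89, -1, 1⟩] []) (cond (Nat.beq c 33) [⟨91, 1, 1⟩] [])) (cond (Nat.blt c 40) (cond (Nat.beq c 38) [⟨96, 1, 1⟩] []) (cond (Nat.beq c 40) [⟨98, -1, 1⟩] []))) (cond (Nat.blt c 50) (cond (Nat.blt c 48) (cond (Nat.beq c 42) [⟨99, -1, 1⟩] []) (cond (Nat.beq c 48) [⟨107, 1, 1⟩] [])) (cond (Nat.blt c 52) (cond (Nat.beq c 50) [⟨109, -1, 1⟩] []) (cond (Nat.beq c 52) [⟨110, -1, 1⟩] [])))) (cond (Nat.blt c 70) (cond (Nat.blt c 66) (cond (Nat.blt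 c 64) (cond (Nat.beq c 61) [⟨112, 1, 1⟩] []) (cond (Nat.beq c 64) [⟨118, -1, 1⟩] [])) (cond (Nat.blt c 68) (cond (Nat.beq c 66) [⟨120, 1, 1⟩] []) (cond (Nat.beq c 68) [⟨121, 1, 1⟩] []))) (cond (Nat.blt c 72) (cond (Nat.blt c 71) (cond (Nat.beq c 70) [⟨127, 1, 1⟩] []) (cond (Nat.beq c 71) [⟨184, -1, 2⟩, ⟨0, 1, 1⟩, ⟨1, 1, 1⟩, ⟨2, 1, 1⟩, ⟨3, 2, 1⟩, ⟨4, 1, 1⟩, ⟨5, 1, 1⟩, ⟨6, 1, 1⟩, ⟨7, 0, 1⟩] [])) (cond (Nat.blt c 73) (cond (Nat.beq c 72) [⟨129, 1, 1⟩] []) (cond (Nat.beq c 73) [⟨132, 1, 1⟩] [])))))) (cond (Nat.blt c 143) (cond (Nat.blt c 114) (cond (Nat.blt c 85) (cond (Nat.blt c 80) (cond (Nat.blt c 78) (cond (Nat.beq c 75) [⟨138, 1, 1⟩] []) (cond (Nat.beq c 78) [⟨141, -1, 1⟩] [])) (cond (Nat.blt c 83) (cond (Nat.beq c 80) [⟨150, 1, 1⟩] []) (cond (Nat.beq c 83) [⟨153, -1, 1⟩] []))) (cond (Nat.blt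 c 102) (cond (Nat.blt c 93) (cond (Nat.beq c 85) [⟨162, 1, 1⟩] []) (cond (Nat.beq c 93) [⟨170, -1, 1⟩] [])) (cond (Nat.blt c 105) (cond (Nat.beq c 102) [⟨172, 1, 1⟩] []) (cond (Nat.beq c 105) [⟨175, -1, 1⟩] [])))) (cond (Nat.blt c 128) (cond (Nat.blt c 123) (cond (Nat.blt c 117) (cond (Nat.beq c 114) [⟨177, 1, 1⟩] []) (cond (Nat.beq c 117) [⟨180, -1, 1⟩] [])) (cond (Nat.blt c 126) (cond (Nat.beq c 123) [⟨182, -1, 1⟩] []) (cond (Nat.beq c 126) [⟨183, -1, 1⟩] []))) (cond (Nat.blt c 135) (cond (Nat.blt c 134) (cond (Nat.beq c 128) [⟨185, -1, 1⟩] []) (cond (Nat.beq c 134) [⟨187, -1, 1⟩] [])) (cond (Nat.blt c 137) (cond (Nat.beq c 135) [⟨189, -1, 1⟩] []) (cond (Nat.beq c 137) [⟨191, 1, 1⟩] []))))) (cond (Nat.blt c 166) (cond (Nat.blt c 156) (cond (Nat.blt c 146) (cond (Nat.blt c 145) (cond (Nat.beq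 c 143) [⟨194, -1, 1⟩] []) (cond (Nat.beq c 145) [⟨203, 1, 1⟩] [])) (cond (Nat.blt c 148) (cond (Nat.beq c 146) [⟨205, 1, 1⟩] []) (cond (Nat.beq c 148) [⟨207, -1, 1⟩] []))) (cond (Nat.blt c 159) (cond (Nat.blt c 157) (cond (Nat.beq c 156) [⟨213, 1, 1⟩] []) (cond (Nat.beq c 157) [⟨215, 1, 1⟩] [])) (cond (Nat.blt c 164) (cond (Nat.beq c 159) [⟨217, -1, 1⟩] []) (cond (Nat.beq c 164) [⟨222, -1, 1⟩] [])))) (cond (Nat.blt c 200) (cond (Nat.blt c 196) (cond (Nat.blt c 168) (cond (Nat.beq c 166) [⟨224, 1, 1⟩] []) (cond (Nat.beq c 168) [⟨225, 1, 1⟩] [])) (cond (Nat.blt c 198) (cond (Nat.beq c 196) [⟨234, -1, 1⟩] []) (cond (Nat.beq c 198) [⟨236, 1, 1⟩] []))) (cond (Nat.blt c 219) (cond (Nat.blt c 209) (cond (Nat.beq c 200) [⟨237, 1, 1⟩] []) (cond (Nat.beq c 209) [⟨239, -1, 1⟩] [])) (cond (Nat.blt c 228)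 (cond (Nat.beq c 219) [⟨241, -1, 1⟩] []) (cond (Nat.blt c 231) (cond (Nat.beq c 228) [⟨243, 1, 1⟩] []) (cond (Nat.beq c 231) [⟨246, 1, 1⟩] [])))))))

/-- Compiled columns of `x_177` for type E8. -/
def colsE8_177 (c : ℕ) : List CEnt :=
  cond (Nat.blt c 74) (cond (Nat.blt c 31) (cond (Nat.blt c 8) (cond (Nat.blt c 4) (cond (Nat.blt c 2) (cond (Nat.blt c 1) (cond (Nat.beq c 0) [⟨185, -1, 1⟩] []) (cond (Nat.beq c 1) [⟨185, 0, 1⟩] [])) (cond (Nat.blt c 3) (cond (Nat.beq c 2) [⟨185, 1, 1⟩] []) (cond (Nat.beq c 3) [⟨185, -1, 1⟩] []))) (cond (Nat.blt c 6) (cond (Nat.blt c 5) (cond (Nat.beq c 4) [⟨185, 1, 1⟩] []) (cond (Nat.beq c 5) [⟨185, 0, 1⟩] [])) (cond (Nat.blt c 7) (cond (Nat.beq c 6) [⟨185, 0, 1⟩] []) (cond (Nat.beq c 7) [⟨185, -1, 1⟩] [])))) (cond (Nat.blt c 18) (cond (Nat.blt c 14) (cond (Nat.blt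 c 12) (cond (Nat.beq c 8) [⟨24, -1, 1⟩] []) (cond (Nat.beq c 12) [⟨28, 1, 1⟩] [])) (cond (Nat.blt c 16) (cond (Nat.beq c 14) [⟨37, -1, 1⟩] []) (cond (Nat.beq c 16) [⟨47, -1, 1⟩] []))) (cond (Nat.blt c 20) (cond (Nat.blt c 19) (cond (Nat.beq c 18) [⟨56, 1, 1⟩] []) (cond (Nat.beq c 19) [⟨58, 1, 1⟩] [])) (cond (Nat.blt c 30) (cond (Nat.beq c 20) [⟨59, 1, 1⟩] []) (cond (Nat.beq c 30) [⟨88, 1, 1⟩] []))))) (cond (Nat.blt c 60) (cond (Nat.blt c 41) (cond (Nat.blt c 38) (cond (Nat.blt c 32) (cond (Nat.beq c 31) [⟨90, 1, 1⟩] []) (cond (Nat.beq c 32) [⟨91, 1, 1⟩] [])) (cond (Nat.blt c 39) (cond (Nat.beq c 38) [⟨97, -1, 1⟩] []) (cond (Nat.beq c 39) [⟨98, -1, 1⟩] []))) (cond (Nat.blt c 49) (cond (Nat.blt c 48) (cond (Nat.beq c 41) [⟨99, -1, 1⟩] []) (cond (Nat.beq c 48) [⟨108, -1, 1⟩] [])) (cond (Nat.blt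 c 51) (cond (Nat.beq c 49) [⟨109, -1, 1⟩] []) (cond (Nat.beq c 51) [⟨110, -1, 1⟩] [])))) (cond (Nat.blt c 70) (cond (Nat.blt c 65) (cond (Nat.blt c 64) (cond (Nat.beq c 60) [⟨112, 1, 1⟩] []) (cond (Nat.beq c 64) [⟨119, 1, 1⟩] [])) (cond (Nat.blt c 67) (cond (Nat.beq c 65) [⟨120, 1, 1⟩] []) (cond (Nat.beq c 67) [⟨121, 1, 1⟩] []))) (cond (Nat.blt c 72) (cond (Nat.blt c 71) (cond (Nat.beq c 70) [⟨185, -1, 2⟩, ⟨0, 1, 1⟩, ⟨1, 1, 1⟩, ⟨2, 1, 1⟩, ⟨3, 2, 1⟩, ⟨4, 1, 1⟩, ⟨5, 1, 1⟩, ⟨6, 1, 1⟩, ⟨7, 1, 1⟩] []) (cond (Nat.beq c 71) [⟨128, 1, 1⟩] [])) (cond (Nat.blt c 73) (cond (Nat.beq c 72) [⟨130, 1, 1⟩] []) (cond (Nat.beq c 73) [⟨133, 1, 1⟩] [])))))) (cond (Nat.blt c 143) (cond (Nat.blt c 113) (cond (Nat.blt c 85) (cond (Nat.blt c 79) (cond (Nat.blt c 78) (cond (Nat.beq c 74) [⟨138, 1, 1⟩] []) (cond (Nat.beq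 c 78) [⟨142, -1, 1⟩] [])) (cond (Nat.blt c 83) (cond (Nat.beq c 79) [⟨150, 1, 1⟩] []) (cond (Nat.beq c 83) [⟨154, -1, 1⟩] []))) (cond (Nat.blt c 101) (cond (Nat.blt c 92) (cond (Nat.beq c 85) [⟨163, 1, 1⟩] []) (cond (Nat.beq c 92) [⟨170, -1, 1⟩] [])) (cond (Nat.blt c 105) (cond (Nat.beq c 101) [⟨172, 1, 1⟩] []) (cond (Nat.beq c 105) [⟨176, -1, 1⟩] [])))) (cond (Nat.blt c 127) (cond (Nat.blt c 122) (cond (Nat.blt c 117) (cond (Nat.beq c 113) [⟨177, 1, 1⟩] []) (cond (Nat.beq c 117) [⟨181, -1, 1⟩] [])) (cond (Nat.blt c 125) (cond (Nat.beq c 122) [⟨182, -1, 1⟩] []) (cond (Nat.beq c 125) [⟨183, -1, 1⟩] []))) (cond (Nat.blt c 135) (cond (Nat.blt c 134) (cond (Nat.beq c 127) [⟨184, -1, 1⟩] []) (cond (Nat.beq c 134) [⟨188, -1, 1⟩] [])) (cond (Nat.blt c 136) (cond (Nat.beq c 135) [⟨190, -1, 1⟩] []) (cond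 (Nat.beq c 136) [⟨191, -1, 1⟩] []))))) (cond (Nat.blt c 165) (cond (Nat.blt c 156) (cond (Nat.blt c 146) (cond (Nat.blt c 145) (cond (Nat.beq c 143) [⟨195, -1, 1⟩] []) (cond (Nat.beq c 145) [⟨204, 1, 1⟩] [])) (cond (Nat.blt c 147) (cond (Nat.beq c 146) [⟨206, 1, 1⟩] []) (cond (Nat.beq c 147) [⟨207, 1, 1⟩] []))) (cond (Nat.blt c 158) (cond (Nat.blt c 157) (cond (Nat.beq c 156) [⟨214, 1, 1⟩] []) (cond (Nat.beq c 157) [⟨216, 1, 1⟩] [])) (cond (Nat.blt c 164) (cond (Nat.beq c 158) [⟨217, 1, 1⟩] []) (cond (Nat.beq c 164) [⟨223, -1, 1⟩] [])))) (cond (Nat.blt c 199) (cond (Nat.blt c 196) (cond (Nat.blt c 167) (cond (Nat.beq c 165) [⟨224, -1, 1⟩] []) (cond (Nat.beq c 167) [⟨225, -1, 1⟩] [])) (cond (Nat.blt c 197) (cond (Nat.beq c 196) [⟨235, -1, 1⟩] []) (cond (Nat.beq c 197) [⟨236, -1, 1⟩] []))) (cond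 (Nat.blt c 218) (cond (Nat.blt c 208) (cond (Nat.beq c 199) [⟨237, -1, 1⟩] []) (cond (Nat.beq c 208) [⟨239, 1, 1⟩] [])) (cond (Nat.blt c 227) (cond (Nat.beq c 218) [⟨241, 1, 1⟩] []) (cond (Nat.blt c 231) (cond (Nat.beq c 227) [⟨243, -1, 1⟩] []) (cond (Nat.beq c 231) [⟨247, 1, 1⟩] [])))))))

/-- Compiled columns of `x_178` for type E8. -/
def colsE8_178 (c : ℕ) : List CEnt :=
  cond (Nat.blt c 76) (cond (Nat.blt c 32) (cond (Nat.blt c 10) (cond (Nat.blt c 4) (cond (Nat.blt c 2) (cond (Nat.blt c 1) (cond (Nat.beq c 0) [⟨186, -1, 1⟩] []) (cond (Nat.beq c 1) [⟨186, 0, 1⟩] [])) (cond (Nat.blt c 3) (cond (Nat.beq c 2) [⟨186, 1, 1⟩] []) (cond (Nat.beq c 3) [⟨186, 0, 1⟩] []))) (cond (Nat.blt c 6) (cond (Nat.blt c 5) (cond (Nat.beq c 4) [⟨186, -1, 1⟩] []) (cond (Nat.beq c 5) [⟨186, 0, 1⟩] [])) (cond (Nat.blt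 c 7) (cond (Nat.beq c 6) [⟨186, 1, 1⟩] []) (cond (Nat.beq c 7) [⟨186, 0, 1⟩] [])))) (cond (Nat.blt c 17) (cond (Nat.blt c 14) (cond (Nat.blt c 11) (cond (Nat.beq c 10) [⟨25, 1, 1⟩] []) (cond (Nat.beq c 11) [⟨26, 1, 1⟩] [])) (cond (Nat.blt c 16) (cond (Nat.beq c 14) [⟨38, 1, 1⟩] []) (cond (Nat.beq c 16) [⟨48, 1, 1⟩] []))) (cond (Nat.blt c 21) (cond (Nat.blt c 20) (cond (Nat.beq c 17) [⟨54, 1, 1⟩] []) (cond (Nat.beq c 20) [⟨60, 1, 1⟩] [])) (cond (Nat.blt c 29) (cond (Nat.beq c 21) [⟨61, 1, 1⟩] []) (cond (Nat.beq c 29) [⟨86, 1, 1⟩] []))))) (cond (Nat.blt c 59) (cond (Nat.blt c 43) (cond (Nat.blt c 36) (cond (Nat.blt c 33) (cond (Nat.beq c 32) [⟨92, 1, 1⟩] []) (cond (Nat.beq c 33) [⟨93, 1, 1⟩] [])) (cond (Nat.blt c 37) (cond (Nat.beq c 36) [⟨96, 1, 1⟩] []) (cond (Nat.beq c 37) [⟨97, 1, 1⟩] [])))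 (cond (Nat.blt c 47) (cond (Nat.blt c 46) (cond (Nat.beq c 43) [⟨100, 1, 1⟩] []) (cond (Nat.beq c 46) [⟨107, 1, 1⟩] [])) (cond (Nat.blt c 53) (cond (Nat.beq c 47) [⟨108, 1, 1⟩] []) (cond (Nat.beq c 53) [⟨111, 1, 1⟩] [])))) (cond (Nat.blt c 68) (cond (Nat.blt c 66) (cond (Nat.blt c 65) (cond (Nat.beq c 59) [⟨112, 1, 1⟩] []) (cond (Nat.beq c 65) [⟨122, -1, 1⟩] [])) (cond (Nat.blt c 67) (cond (Nat.beq c 66) [⟨123, -1, 1⟩] []) (cond (Nat.beq c 67) [⟨125, 1, 1⟩] []))) (cond (Nat.blt c 72) (cond (Nat.blt c 69) (cond (Nat.beq c 68) [⟨126, 1, 1⟩] []) (cond (Nat.beq c 69) [⟨186, -1, 2⟩, ⟨0, 1, 1⟩, ⟨1, 1, 1⟩, ⟨2, 1, 1⟩, ⟨3, 2, 1⟩, ⟨4, 2, 1⟩, ⟨5, 1, 1⟩, ⟨6, 0, 1⟩, ⟨7, 0, 1⟩] [])) (cond (Nat.blt c 73) (cond (Nat.beq c 72) [⟨134, 1, 1⟩] []) (cond (Nat.beq c 73) [⟨135, -1, 1⟩] [])))))) (cond (Nat.blt c 143)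 (cond (Nat.blt c 115) (cond (Nat.blt c 85) (cond (Nat.blt c 81) (cond (Nat.blt c 77) (cond (Nat.beq c 76) [⟨139, 1, 1⟩] []) (cond (Nat.beq c 77) [⟨140, -1, 1⟩] [])) (cond (Nat.blt c 82) (cond (Nat.beq c 81) [⟨151, 1, 1⟩] []) (cond (Nat.beq c 82) [⟨152, -1, 1⟩] []))) (cond (Nat.blt c 103) (cond (Nat.blt c 91) (cond (Nat.beq c 85) [⟨164, 1, 1⟩] []) (cond (Nat.beq c 91) [⟨170, -1, 1⟩] [])) (cond (Nat.blt c 104) (cond (Nat.beq c 103) [⟨173, 1, 1⟩] []) (cond (Nat.beq c 104) [⟨174, -1, 1⟩] [])))) (cond (Nat.blt c 129) (cond (Nat.blt c 120) (cond (Nat.blt c 116) (cond (Nat.beq c 115) [⟨178, 1, 1⟩] []) (cond (Nat.beq c 116) [⟨179, -1, 1⟩] [])) (cond (Nat.blt c 121) (cond (Nat.beq c 120) [⟨182, 1, 1⟩] []) (cond (Nat.beq c 121) [⟨183, -1, 1⟩] []))) (cond (Nat.blt c 132) (cond (Nat.blt c 130) (cond (Nat.beq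 c 129) [⟨187, -1, 1⟩] []) (cond (Nat.beq c 130) [⟨188, -1, 1⟩] [])) (cond (Nat.blt c 133) (cond (Nat.beq c 132) [⟨189, 1, 1⟩] []) (cond (Nat.beq c 133) [⟨190, 1, 1⟩] []))))) (cond (Nat.blt c 163) (cond (Nat.blt c 155) (cond (Nat.blt c 147) (cond (Nat.blt c 144) (cond (Nat.beq c 143) [⟨196, -1, 1⟩] []) (cond (Nat.beq c 144) [⟨202, -1, 1⟩] [])) (cond (Nat.blt c 148) (cond (Nat.beq c 147) [⟨208, -1, 1⟩] []) (cond (Nat.beq c 148) [⟨209, -1, 1⟩] []))) (cond (Nat.blt c 159) (cond (Nat.blt c 158) (cond (Nat.beq c 155) [⟨212, -1, 1⟩] []) (cond (Nat.beq c 158) [⟨218, -1, 1⟩] [])) (cond (Nat.blt c 162) (cond (Nat.beq c 159) [⟨219, -1, 1⟩] []) (cond (Nat.beq c 162) [⟨222, -1, 1⟩] [])))) (cond (Nat.blt c 201) (cond (Nat.blt c 194) (cond (Nat.blt c 169) (cond (Nat.beq c 163) [⟨223, -1, 1⟩] []) (cond (Nat.beq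 c 169) [⟨226, -1, 1⟩] [])) (cond (Nat.blt c 195) (cond (Nat.beq c 194) [⟨234, -1, 1⟩] []) (cond (Nat.beq c 195) [⟨235, -1, 1⟩] []))) (cond (Nat.blt c 217) (cond (Nat.blt c 207) (cond (Nat.beq c 201) [⟨238, -1, 1⟩] []) (cond (Nat.beq c 207) [⟨239, -1, 1⟩] [])) (cond (Nat.blt c 229) (cond (Nat.beq c 217) [⟨241, -1, 1⟩] []) (cond (Nat.blt c 230) (cond (Nat.beq c 229) [⟨244, -1, 1⟩] []) (cond (Nat.beq c 230) [⟨245, -1, 1⟩] [])))))))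

/-- Compiled columns of `x_179` for type E8. -/
def colsE8_179 (c : ℕ) : List CEnt :=
  cond (Nat.blt c 75) (cond (Nat.blt c 31) (cond (Nat.blt c 9) (cond (Nat.blt c 4) (cond (Nat.blt c 2) (cond (Nat.blt c 1) (cond (Nat.beq c 0) [⟨187, -1, 1⟩] []) (cond (Nat.beq c 1) [⟨187, 0, 1⟩] [])) (cond (Nat.blt c 3) (cond (Nat.beq c 2) [⟨187, 1, 1⟩] []) (cond (Nat.beq c 3) [⟨187, 0, 1⟩] []))) (cond (Nat.blt c 6) (cond (Nat.blt c 5) (cond (Nat.beq c 4) [⟨187, -1, 1⟩] []) (cond (Nat.beq c 5) [⟨187, 1, 1⟩] [])) (cond (Nat.blt c 7) (cond (Nat.beq c 6) [⟨187, -1, 1⟩] []) (cond (Nat.beq c 7) [⟨187, 1, 1⟩] [])))) (cond (Nat.blt c 17) (cond (Nat.blt c 14) (cond (Nat.blt c 11) (cond (Nat.beq c 9) [⟨25, 1, 1⟩] []) (cond (Nat.beq c 11) [⟨27, -1, 1⟩] [])) (cond (Nat.blt c 16) (cond (Nat.beq c 14) [⟨39, -1, 1⟩] [])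 (cond (Nat.beq c 16) [⟨49, -1, 1⟩] []))) (cond (Nat.blt c 21) (cond (Nat.blt c 19) (cond (Nat.beq c 17) [⟨55, -1, 1⟩] []) (cond (Nat.beq c 19) [⟨60, 1, 1⟩] [])) (cond (Nat.blt c 29) (cond (Nat.beq c 21) [⟨62, -1, 1⟩] []) (cond (Nat.beq c 29) [⟨87, -1, 1⟩] []))))) (cond (Nat.blt c 58) (cond (Nat.blt c 42) (cond (Nat.blt c 35) (cond (Nat.blt c 33) (cond (Nat.beq c 31) [⟨92, 1, 1⟩] []) (cond (Nat.beq c 33) [⟨94, -1, 1⟩] [])) (cond (Nat.blt c 37) (cond (Nat.beq c 35) [⟨96, 1, 1⟩] []) (cond (Nat.beq c 37) [⟨98, -1, 1⟩] []))) (cond (Nat.blt c 47) (cond (Nat.blt c 45) (cond (Nat.beq c 42) [⟨100, 1, 1⟩] []) (cond (Nat.beq c 45) [⟨107, 1, 1⟩] [])) (cond (Nat.blt c 52) (cond (Nat.beq c 47) [⟨109, -1, 1⟩] []) (cond (Nat.beq c 52) [⟨111, 1, 1⟩] [])))) (cond (Nat.blt c 68) (cond (Nat.blt c 66) (cond (Nat.blt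 c 64) (cond (Nat.beq c 58) [⟨112, 1, 1⟩] []) (cond (Nat.beq c 64) [⟨122, -1, 1⟩] [])) (cond (Nat.blt c 67) (cond (Nat.beq c 66) [⟨124, 1, 1⟩] []) (cond (Nat.beq c 67) [⟨127, 1, 1⟩] []))) (cond (Nat.blt c 71) (cond (Nat.blt c 69) (cond (Nat.beq c 68) [⟨187, -1, 2⟩, ⟨0, 1, 1⟩, ⟨1, 1, 1⟩, ⟨2, 1, 1⟩, ⟨3, 2, 1⟩, ⟨4, 2, 1⟩, ⟨5, 1, 1⟩, ⟨6, 1, 1⟩, ⟨7, 0, 1⟩] []) (cond (Nat.beq c 69) [⟨129, 1, 1⟩] [])) (cond (Nat.blt c 73) (cond (Nat.beq c 71) [⟨134, 1, 1⟩] []) (cond (Nat.beq c 73) [⟨136, -1, 1⟩] [])))))) (cond (Nat.blt c 143) (cond (Nat.blt c 114) (cond (Nat.blt c 85) (cond (Nat.blt c 80) (cond (Nat.blt c 77) (cond (Nat.beq c 75) [⟨139, 1, 1⟩] []) (cond (Nat.beq c 77) [⟨141, -1, 1⟩] [])) (cond (Nat.blt c 82) (cond (Nat.beq c 80) [⟨151, 1, 1⟩] []) (cond (Nat.beq c 82) [⟨153, -1, 1⟩] []))) (cond (Nat.blt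 c 102) (cond (Nat.blt c 90) (cond (Nat.beq c 85) [⟨165, 1, 1⟩] []) (cond (Nat.beq c 90) [⟨170, -1, 1⟩] [])) (cond (Nat.blt c 104) (cond (Nat.beq c 102) [⟨173, 1, 1⟩] []) (cond (Nat.beq c 104) [⟨175, -1, 1⟩] [])))) (cond (Nat.blt c 126) (cond (Nat.blt c 119) (cond (Nat.blt c 116) (cond (Nat.beq c 114) [⟨178, 1, 1⟩] []) (cond (Nat.beq c 116) [⟨180, -1, 1⟩] [])) (cond (Nat.blt c 121) (cond (Nat.beq c 119) [⟨182, 1, 1⟩] []) (cond (Nat.beq c 121) [⟨184, -1, 1⟩] []))) (cond (Nat.blt c 131) (cond (Nat.blt c 128) (cond (Nat.beq c 126) [⟨186, -1, 1⟩] []) (cond (Nat.beq c 128) [⟨188, -1, 1⟩] [])) (cond (Nat.blt c 133) (cond (Nat.beq c 131) [⟨189, -1, 1⟩] []) (cond (Nat.beq c 133) [⟨191, 1, 1⟩] []))))) (cond (Nat.blt c 163) (cond (Nat.blt c 155) (cond (Nat.blt c 146) (cond (Nat.blt c 144) (cond (Nat.beq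 c 143) [⟨197, -1, 1⟩] []) (cond (Nat.beq c 144) [⟨203, -1, 1⟩] [])) (cond (Nat.blt c 148) (cond (Nat.beq c 146) [⟨208, 1, 1⟩] []) (cond (Nat.beq c 148) [⟨210, -1, 1⟩] []))) (cond (Nat.blt c 159) (cond (Nat.blt c 157) (cond (Nat.beq c 155) [⟨213, -1, 1⟩] []) (cond (Nat.beq c 157) [⟨218, 1, 1⟩] [])) (cond (Nat.blt c 161) (cond (Nat.beq c 159) [⟨220, -1, 1⟩] []) (cond (Nat.beq c 161) [⟨222, 1, 1⟩] [])))) (cond (Nat.blt c 200) (cond (Nat.blt c 193) (cond (Nat.blt c 168) (cond (Nat.beq c 163) [⟨224, -1, 1⟩] []) (cond (Nat.beq c 168) [⟨226, 1, 1⟩] [])) (cond (Nat.blt c 195) (cond (Nat.beq c 193) [⟨234, 1, 1⟩] []) (cond (Nat.beq c 195) [⟨236, -1, 1⟩] []))) (cond (Nat.blt c 216) (cond (Nat.blt c 206) (cond (Nat.beq c 200) [⟨238, 1, 1⟩] []) (cond (Nat.beq c 206) [⟨239, 1, 1⟩] [])) (cond (Nat.blt c 228)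 (cond (Nat.beq c 216) [⟨241, 1, 1⟩] []) (cond (Nat.blt c 230) (cond (Nat.beq c 228) [⟨244, 1, 1⟩] []) (cond (Nat.beq c 230) [⟨246, -1, 1⟩] [])))))))

end Cfsg.Agent.Lib.Helper3.ChevM
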