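import Cfsg.Agent.Lib.Helper3.ChevM2
set_option autoImplicit false
set_option maxRecDepth 100000

namespace Cfsg.Agent.Lib.Helper3.ChevM

/-- Compiled columns of `x_180` for type E8. -/
def colsE8_180 (c : ℕ) : List CEnt :=
  cond (Nat.blt c 74) (cond (Nat.blt c 31) (cond (Nat.blt c 8) (cond (Nat.blt c 4) (cond (Nat.blt c 2) (cond (Nat.blt c 1) (cond (Nat.beq c 0) [⟨188, -1, 1⟩] []) (cond (Nat.beq c 1) [⟨188, 0, 1⟩] [])) (cond (Nat.blt c 3) (cond (Nat.beq c 2) [⟨188, 1, 1⟩] []) (cond (Nat.beq c 3) [⟨188, 0, 1⟩] []))) (cond (Nat.blt c 6) (cond (Nat.blt c 5) (cond (Nat.beq c 4) [⟨188, -1, 1⟩] []) (cond (Nat.beq c 5) [⟨188, 1, 1⟩] [])) (cond (Nat.blt c 7) (cond (Nat.beq c 6) [⟨188, 0, 1⟩] []) (cond (Nat.beq c 7) [⟨188, -1, 1⟩] [])))) (cond (Nat.blt c 17) (cond (Nat.blt c 14) (cond (Nat.blt c 11)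 (cond (Nat.beq c 8) [⟨25, 1, 1⟩] []) (cond (Nat.beq c 11) [⟨28, 1, 1⟩] [])) (cond (Nat.blt c 16) (cond (Nat.beq c 14) [⟨40, 1, 1⟩] []) (cond (Nat.beq c 16) [⟨50, 1, 1⟩] []))) (cond (Nat.blt c 20) (cond (Nat.blt c 19) (cond (Nat.beq c 17) [⟨56, 1, 1⟩] []) (cond (Nat.beq c 19) [⟨61, -1, 1⟩] [])) (cond (Nat.blt c 29) (cond (Nat.beq c 20) [⟨62, -1, 1⟩] []) (cond (Nat.beq c 29) [⟨88, 1, 1⟩] []))))) (cond (Nat.blt c 57) (cond (Nat.blt c 41) (cond (Nat.blt c 35) (cond (Nat.blt c 32) (cond (Nat.beq c 31) [⟨93, -1, 1⟩] []) (cond (Nat.beq c 32) [⟨94, -1, 1⟩] [])) (cond (Nat.blt c 36) (cond (Nat.beq c 35) [⟨97, -1, 1⟩] []) (cond (Nat.beq c 36) [⟨98, -1, 1⟩] []))) (cond (Nat.blt c 46) (cond (Nat.blt c 45) (cond (Nat.beq c 41) [⟨100, 1, 1⟩] []) (cond (Nat.beq c 45) [⟨108, -1, 1⟩] [])) (cond (Nat.blt c 51)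 (cond (Nat.beq c 46) [⟨109, -1, 1⟩] []) (cond (Nat.beq c 51) [⟨111, 1, 1⟩] [])))) (cond (Nat.blt c 68) (cond (Nat.blt c 65) (cond (Nat.blt c 64) (cond (Nat.beq c 57) [⟨112, 1, 1⟩] []) (cond (Nat.beq c 64) [⟨123, 1, 1⟩] [])) (cond (Nat.blt c 67) (cond (Nat.beq c 65) [⟨124, 1, 1⟩] []) (cond (Nat.beq c 67) [⟨188, -1, 2⟩, ⟨0, 1, 1⟩, ⟨1, 1, 1⟩, ⟨2, 1, 1⟩, ⟨3, 2, 1⟩, ⟨4, 2, 1⟩, ⟨5, 1, 1⟩, ⟨6, 1, 1⟩, ⟨7, 1, 1⟩] []))) (cond (Nat.blt c 70) (cond (Nat.blt c 69) (cond (Nat.beq c 68) [⟨128, 1, 1⟩] []) (cond (Nat.beq c 69) [⟨130, 1, 1⟩] [])) (cond (Nat.blt c 73) (cond (Nat.beq c 70) [⟨134, 1, 1⟩] []) (cond (Nat.beq c 73) [⟨137, -1, 1⟩] [])))))) (cond (Nat.blt c 143) (cond (Nat.blt c 113) (cond (Nat.blt c 85) (cond (Nat.blt c 79) (cond (Nat.blt c 77) (cond (Nat.beq c 74) [⟨139, 1, 1⟩] []) (cond (Nat.beq c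 77) [⟨142, -1, 1⟩] [])) (cond (Nat.blt c 82) (cond (Nat.beq c 79) [⟨151, 1, 1⟩] []) (cond (Nat.beq c 82) [⟨154, -1, 1⟩] []))) (cond (Nat.blt c 101) (cond (Nat.blt c 89) (cond (Nat.beq c 85) [⟨166, 1, 1⟩] []) (cond (Nat.beq c 89) [⟨170, -1, 1⟩] [])) (cond (Nat.blt c 104) (cond (Nat.beq c 101) [⟨173, 1, 1⟩] []) (cond (Nat.beq c 104) [⟨176, -1, 1⟩] [])))) (cond (Nat.blt c 125) (cond (Nat.blt c 118) (cond (Nat.blt c 116) (cond (Nat.beq c 113) [⟨178, 1, 1⟩] []) (cond (Nat.beq c 116) [⟨181, -1, 1⟩] [])) (cond (Nat.blt c 121) (cond (Nat.beq c 118) [⟨182, 1, 1⟩] []) (cond (Nat.beq c 121) [⟨185, -1, 1⟩] []))) (cond (Nat.blt c 131) (cond (Nat.blt c 127) (cond (Nat.beq c 125) [⟨186, -1, 1⟩] []) (cond (Nat.beq c 127) [⟨187, -1, 1⟩] [])) (cond (Nat.blt c 132) (cond (Nat.beq c 131) [⟨190, -1, 1⟩] []) (cond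 (Nat.beq c 132) [⟨191, -1, 1⟩] []))))) (cond (Nat.blt c 162) (cond (Nat.blt c 155) (cond (Nat.blt c 146) (cond (Nat.blt c 144) (cond (Nat.beq c 143) [⟨198, -1, 1⟩] []) (cond (Nat.beq c 144) [⟨204, -1, 1⟩] [])) (cond (Nat.blt c 147) (cond (Nat.beq c 146) [⟨209, 1, 1⟩] []) (cond (Nat.beq c 147) [⟨210, 1, 1⟩] []))) (cond (Nat.blt c 158) (cond (Nat.blt c 157) (cond (Nat.beq c 155) [⟨214, -1, 1⟩] []) (cond (Nat.beq c 157) [⟨219, 1, 1⟩] [])) (cond (Nat.blt c 161) (cond (Nat.beq c 158) [⟨220, 1, 1⟩] []) (cond (Nat.beq c 161) [⟨223, 1, 1⟩] [])))) (cond (Nat.blt c 199) (cond (Nat.blt c 193) (cond (Nat.blt c 167) (cond (Nat.beq c 162) [⟨224, 1, 1⟩] []) (cond (Nat.beq c 167) [⟨226, -1, 1⟩] [])) (cond (Nat.blt c 194) (cond (Nat.beq c 193) [⟨235, 1, 1⟩] []) (cond (Nat.beq c 194) [⟨236, 1, 1⟩] []))) (cond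 (Nat.blt c 215) (cond (Nat.blt c 205) (cond (Nat.beq c 199) [⟨238, -1, 1⟩] []) (cond (Nat.beq c 205) [⟨239, -1, 1⟩] [])) (cond (Nat.blt c 227) (cond (Nat.beq c 215) [⟨241, -1, 1⟩] []) (cond (Nat.blt c 230) (cond (Nat.beq c 227) [⟨244, -1, 1⟩] []) (cond (Nat.beq c 230) [⟨247, -1, 1⟩] [])))))))

/-- Compiled columns of `x_181` for type E8. -/
def colsE8_181 (c : ℕ) : List CEnt :=
  cond (Nat.blt c 75) (cond (Nat.blt c 30) (cond (Nat.blt c 9) (cond (Nat.blt c 4) (cond (Nat.blt c 2) (cond (Nat.blt c 1) (cond (Nat.beq c 0) [⟨189, -1, 1⟩] []) (cond (Nat.beq c 1) [⟨189, 0, 1⟩] [])) (cond (Nat.blt c 3) (cond (Nat.beq c 2) [⟨189, 1, 1⟩] []) (cond (Nat.beq c 3) [⟨189, 0, 1⟩] []))) (cond (Nat.blt c 6) (cond (Nat.blt c 5) (cond (Nat.beq c 4) [⟨189, 0, 1⟩] []) (cond (Nat.beq c 5) [⟨189, -1, 1⟩] [])) (cond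 (Nat.blt c 7) (cond (Nat.beq c 6) [⟨189, 0, 1⟩] []) (cond (Nat.beq c 7) [⟨189, 1, 1⟩] [])))) (cond (Nat.blt c 17) (cond (Nat.blt c 14) (cond (Nat.blt c 10) (cond (Nat.beq c 9) [⟨26, -1, 1⟩] []) (cond (Nat.beq c 10) [⟨27, -1, 1⟩] [])) (cond (Nat.blt c 16) (cond (Nat.beq c 14) [⟨41, 1, 1⟩] []) (cond (Nat.beq c 16) [⟨51, 1, 1⟩] []))) (cond (Nat.blt c 21) (cond (Nat.blt c 18) (cond (Nat.beq c 17) [⟨57, 1, 1⟩] []) (cond (Nat.beq c 18) [⟨60, 1, 1⟩] [])) (cond (Nat.blt c 29) (cond (Nat.beq c 21) [⟨63, 1, 1⟩] []) (cond (Nat.beq c 29) [⟨89, 1, 1⟩] []))))) (cond (Nat.blt c 56) (cond (Nat.blt c 40) (cond (Nat.blt c 34) (cond (Nat.blt c 33) (cond (Nat.beq c 30) [⟨92, 1, 1⟩] []) (cond (Nat.beq c 33) [⟨95, 1, 1⟩] [])) (cond (Nat.blt c 37) (cond (Nat.beq c 34) [⟨96, 1, 1⟩] []) (cond (Nat.beq c 37) [⟨99, 1,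 1⟩] []))) (cond (Nat.blt c 47) (cond (Nat.blt c 44) (cond (Nat.beq c 40) [⟨100, 1, 1⟩] []) (cond (Nat.beq c 44) [⟨107, 1, 1⟩] [])) (cond (Nat.blt c 50) (cond (Nat.beq c 47) [⟨110, 1, 1⟩] []) (cond (Nat.beq c 50) [⟨111, 1, 1⟩] [])))) (cond (Nat.blt c 68) (cond (Nat.blt c 65) (cond (Nat.blt c 64) (cond (Nat.beq c 56) [⟨112, 1, 1⟩] []) (cond (Nat.beq c 64) [⟨125, -1, 1⟩] [])) (cond (Nat.blt c 66) (cond (Nat.beq c 65) [⟨127, 1, 1⟩] []) (cond (Nat.beq c 66) [⟨189, -1, 2⟩, ⟨0, 1, 1⟩, ⟨1, 1, 1⟩, ⟨2, 1, 1⟩, ⟨3, 2, 1⟩, ⟨4, 2, 1⟩, ⟨5, 2, 1⟩, ⟨6, 1, 1⟩, ⟨7, 0, 1⟩] []))) (cond (Nat.blt c 71) (cond (Nat.blt c 69) (cond (Nat.beq c 68) [⟨131, 1, 1⟩] []) (cond (Nat.beq c 69) [⟨132, -1, 1⟩] [])) (cond (Nat.blt c 72) (cond (Nat.beq c 71) [⟨135, 1, 1⟩] []) (cond (Nat.beq c 72) [⟨136, -1, 1⟩] [])))))) (cond (Nat.blt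 c 143) (cond (Nat.blt c 114) (cond (Nat.blt c 85) (cond (Nat.blt c 80) (cond (Nat.blt c 76) (cond (Nat.beq c 75) [⟨140, 1, 1⟩] []) (cond (Nat.beq c 76) [⟨141, -1, 1⟩] [])) (cond (Nat.blt c 81) (cond (Nat.beq c 80) [⟨152, 1, 1⟩] []) (cond (Nat.beq c 81) [⟨153, -1, 1⟩] []))) (cond (Nat.blt c 102) (cond (Nat.blt c 88) (cond (Nat.beq c 85) [⟨167, 1, 1⟩] []) (cond (Nat.beq c 88) [⟨170, -1, 1⟩] [])) (cond (Nat.blt c 103) (cond (Nat.beq c 102) [⟨174, 1, 1⟩] []) (cond (Nat.beq c 103) [⟨175, -1, 1⟩] [])))) (cond (Nat.blt c 123) (cond (Nat.blt c 119) (cond (Nat.blt c 115) (cond (Nat.beq c 114) [⟨179, 1, 1⟩] []) (cond (Nat.beq c 115) [⟨180, -1, 1⟩] [])) (cond (Nat.blt c 120) (cond (Nat.beq c 119) [⟨183, 1, 1⟩] []) (cond (Nat.beq c 120) [⟨184, -1, 1⟩] []))) (cond (Nat.blt c 128) (cond (Nat.blt c 124) (cond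 (Nat.beq c 123) [⟨186, 1, 1⟩] []) (cond (Nat.beq c 124) [⟨187, -1, 1⟩] [])) (cond (Nat.blt c 130) (cond (Nat.beq c 128) [⟨190, -1, 1⟩] []) (cond (Nat.beq c 130) [⟨191, 1, 1⟩] []))))) (cond (Nat.blt c 163) (cond (Nat.blt c 155) (cond (Nat.blt c 145) (cond (Nat.blt c 144) (cond (Nat.beq c 143) [⟨199, -1, 1⟩] []) (cond (Nat.beq c 144) [⟨205, -1, 1⟩] [])) (cond (Nat.blt c 148) (cond (Nat.beq c 145) [⟨208, -1, 1⟩] []) (cond (Nat.beq c 148) [⟨211, -1, 1⟩] []))) (cond (Nat.blt c 159) (cond (Nat.blt c 156) (cond (Nat.beq c 155) [⟨215, -1, 1⟩] []) (cond (Nat.beq c 156) [⟨218, -1, 1⟩] [])) (cond (Nat.blt c 160) (cond (Nat.beq c 159) [⟨221, -1, 1⟩] []) (cond (Nat.beq c 160) [⟨222, -1, 1⟩] [])))) (cond (Nat.blt c 198) (cond (Nat.blt c 192) (cond (Nat.blt c 166) (cond (Nat.beq c 163) [⟨225, -1, 1⟩] []) (cond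 (Nat.beq c 166) [⟨226, -1, 1⟩] [])) (cond (Nat.blt c 195) (cond (Nat.beq c 192) [⟨234, -1, 1⟩] []) (cond (Nat.beq c 195) [⟨237, -1, 1⟩] []))) (cond (Nat.blt c 214) (cond (Nat.blt c 204) (cond (Nat.beq c 198) [⟨238, -1, 1⟩] []) (cond (Nat.beq c 204) [⟨239, -1, 1⟩] [])) (cond (Nat.blt c 228) (cond (Nat.beq c 214) [⟨241, -1, 1⟩] []) (cond (Nat.blt c 229) (cond (Nat.beq c 228) [⟨245, 1, 1⟩] []) (cond (Nat.beq c 229) [⟨246, 1, 1⟩] [])))))))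

/-- Compiled columns of `x_182` for type E8. -/
def colsE8_182 (c : ℕ) : List CEnt :=
  cond (Nat.blt c 74) (cond (Nat.blt c 30) (cond (Nat.blt c 8) (cond (Nat.blt c 4) (cond (Nat.blt c 2) (cond (Nat.blt c 1) (cond (Nat.beq c 0) [⟨190, -1, 1⟩] []) (cond (Nat.beq c 1) [⟨190, 0, 1⟩] [])) (cond (Nat.blt c 3) (cond (Nat.beq c 2) [⟨190, 1, 1⟩] []) (cond (Nat.beq c 3) [⟨190, 0, 1⟩] []))) (cond (Nat.blt c 6) (cond (Nat.blt c 5) (cond (Nat.beq c 4) [⟨190, 0, 1⟩] []) (cond (Nat.beq c 5) [⟨190, -1, 1⟩] [])) (cond (Nat.blt c 7) (cond (Nat.beq c 6) [⟨190, 1, 1⟩] []) (cond (Nat.beq c 7) [⟨190, -1, 1⟩] [])))) (cond (Nat.blt c 17) (cond (Nat.blt c 14) (cond (Nat.blt c 10) (cond (Nat.beq c 8) [⟨26, -1, 1⟩] []) (cond (Nat.beq c 10) [⟨28, 1, 1⟩] [])) (cond (Nat.blt c 16) (cond (Nat.beq c 14) [⟨42, -1, 1⟩] [])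 (cond (Nat.beq c 16) [⟨52, -1, 1⟩] []))) (cond (Nat.blt c 20) (cond (Nat.blt c 18) (cond (Nat.beq c 17) [⟨58, -1, 1⟩] []) (cond (Nat.beq c 18) [⟨61, -1, 1⟩] [])) (cond (Nat.blt c 29) (cond (Nat.beq c 20) [⟨63, 1, 1⟩] []) (cond (Nat.beq c 29) [⟨90, -1, 1⟩] []))))) (cond (Nat.blt c 55) (cond (Nat.blt c 39) (cond (Nat.blt c 34) (cond (Nat.blt c 32) (cond (Nat.beq c 30) [⟨93, -1, 1⟩] []) (cond (Nat.beq c 32) [⟨95, 1, 1⟩] [])) (cond (Nat.blt c 36) (cond (Nat.beq c 34) [⟨97, -1, 1⟩] []) (cond (Nat.beq c 36) [⟨99, 1, 1⟩] []))) (cond (Nat.blt c 46) (cond (Nat.blt c 44) (cond (Nat.beq c 39) [⟨100, 1, 1⟩] []) (cond (Nat.beq c 44) [⟨108, -1, 1⟩] [])) (cond (Nat.blt c 49) (cond (Nat.beq c 46) [⟨110, 1, 1⟩] []) (cond (Nat.beq c 49) [⟨111, 1, 1⟩] [])))) (cond (Nat.blt c 67) (cond (Nat.blt c 65) (cond (Nat.blt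 c 64) (cond (Nat.beq c 55) [⟨112, 1, 1⟩] []) (cond (Nat.beq c 64) [⟨126, 1, 1⟩] [])) (cond (Nat.blt c 66) (cond (Nat.beq c 65) [⟨190, -1, 2⟩, ⟨0, 1, 1⟩, ⟨1, 1, 1⟩, ⟨2, 1, 1⟩, ⟨3, 2, 1⟩, ⟨4, 2, 1⟩, ⟨5, 2, 1⟩, ⟨6, 1, 1⟩, ⟨7, 1, 1⟩] []) (cond (Nat.beq c 66) [⟨128, 1, 1⟩] []))) (cond (Nat.blt c 70) (cond (Nat.blt c 69) (cond (Nat.beq c 67) [⟨131, 1, 1⟩] []) (cond (Nat.beq c 69) [⟨133, -1, 1⟩] [])) (cond (Nat.blt c 72) (cond (Nat.beq c 70) [⟨135, 1, 1⟩] []) (cond (Nat.beq c 72) [⟨137, -1, 1⟩] [])))))) (cond (Nat.blt c 143) (cond (Nat.blt c 113) (cond (Nat.blt c 85) (cond (Nat.blt c 79) (cond (Nat.blt c 76) (cond (Nat.beq c 74) [⟨140, 1, 1⟩] []) (cond (Nat.beq c 76) [⟨142, -1, 1⟩] [])) (cond (Nat.blt c 81) (cond (Nat.beq c 79) [⟨152, 1, 1⟩] []) (cond (Nat.beq c 81) [⟨154, -1, 1⟩] []))) (cond (Nat.blt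 c 101) (cond (Nat.blt c 87) (cond (Nat.beq c 85) [⟨168, 1, 1⟩] []) (cond (Nat.beq c 87) [⟨170, -1, 1⟩] [])) (cond (Nat.blt c 103) (cond (Nat.beq c 101) [⟨174, 1, 1⟩] []) (cond (Nat.beq c 103) [⟨176, -1, 1⟩] [])))) (cond (Nat.blt c 122) (cond (Nat.blt c 118) (cond (Nat.blt c 115) (cond (Nat.beq c 113) [⟨179, 1, 1⟩] []) (cond (Nat.beq c 115) [⟨181, -1, 1⟩] [])) (cond (Nat.blt c 120) (cond (Nat.beq c 118) [⟨183, 1, 1⟩] []) (cond (Nat.beq c 120) [⟨185, -1, 1⟩] []))) (cond (Nat.blt c 127) (cond (Nat.blt c 124) (cond (Nat.beq c 122) [⟨186, 1, 1⟩] []) (cond (Nat.beq c 124) [⟨188, -1, 1⟩] [])) (cond (Nat.blt c 129) (cond (Nat.beq c 127) [⟨189, -1, 1⟩] []) (cond (Nat.beq c 129) [⟨191, -1, 1⟩] []))))) (cond (Nat.blt c 162) (cond (Nat.blt c 155) (cond (Nat.blt c 145) (cond (Nat.blt c 144) (cond (Nat.beq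 c 143) [⟨200, -1, 1⟩] []) (cond (Nat.beq c 144) [⟨206, -1, 1⟩] [])) (cond (Nat.blt c 147) (cond (Nat.beq c 145) [⟨209, -1, 1⟩] []) (cond (Nat.beq c 147) [⟨211, 1, 1⟩] []))) (cond (Nat.blt c 158) (cond (Nat.blt c 156) (cond (Nat.beq c 155) [⟨216, -1, 1⟩] []) (cond (Nat.beq c 156) [⟨219, -1, 1⟩] [])) (cond (Nat.blt c 160) (cond (Nat.beq c 158) [⟨221, 1, 1⟩] []) (cond (Nat.beq c 160) [⟨223, -1, 1⟩] [])))) (cond (Nat.blt c 197) (cond (Nat.blt c 192) (cond (Nat.blt c 165) (cond (Nat.beq c 162) [⟨225, 1, 1⟩] []) (cond (Nat.beq c 165) [⟨226, 1, 1⟩] [])) (cond (Nat.blt c 194) (cond (Nat.beq c 192) [⟨235, -1, 1⟩] []) (cond (Nat.beq c 194) [⟨237, 1, 1⟩] []))) (cond (Nat.blt c 213) (cond (Nat.blt c 203) (cond (Nat.beq c 197) [⟨238, 1, 1⟩] []) (cond (Nat.beq c 203) [⟨239, 1, 1⟩] [])) (cond (Nat.blt c 227)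 (cond (Nat.beq c 213) [⟨241, 1, 1⟩] []) (cond (Nat.blt c 229) (cond (Nat.beq c 227) [⟨245, -1, 1⟩] []) (cond (Nat.beq c 229) [⟨247, 1, 1⟩] [])))))))

/-- Compiled columns of `x_183` for type E8. -/
def colsE8_183 (c : ℕ) : List CEnt :=
  cond (Nat.blt c 74) (cond (Nat.blt c 30) (cond (Nat.blt c 8) (cond (Nat.blt c 4) (cond (Nat.blt c 2) (cond (Nat.blt c 1) (cond (Nat.beq c 0) [⟨191, -1, 1⟩] []) (cond (Nat.beq c 1) [⟨191, 0, 1⟩] [])) (cond (Nat.blt c 3) (cond (Nat.beq c 2) [⟨191, 1, 1⟩] []) (cond (Nat.beq c 3) [⟨191, 0, 1⟩] []))) (cond (Nat.blt c 6) (cond (Nat.blt c 5) (cond (Nat.beq c 4) [⟨191, 0, 1⟩] []) (cond (Nat.beq c 5) [⟨191, 0, 1⟩] [])) (cond (Nat.blt c 7) (cond (Nat.beq c 6) [⟨191, -1, 1⟩] []) (cond (Nat.beq c 7) [⟨191, 0, 1⟩] [])))) (cond (Nat.blt c 17) (cond (Nat.blt c 14) (cond (Nat.blt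 c 9) (cond (Nat.beq c 8) [⟨27, 1, 1⟩] []) (cond (Nat.beq c 9) [⟨28, 1, 1⟩] [])) (cond (Nat.blt c 16) (cond (Nat.beq c 14) [⟨43, 1, 1⟩] []) (cond (Nat.beq c 16) [⟨53, 1, 1⟩] []))) (cond (Nat.blt c 19) (cond (Nat.blt c 18) (cond (Nat.beq c 17) [⟨59, 1, 1⟩] []) (cond (Nat.beq c 18) [⟨62, 1, 1⟩] [])) (cond (Nat.blt c 29) (cond (Nat.beq c 19) [⟨63, 1, 1⟩] []) (cond (Nat.beq c 29) [⟨91, 1, 1⟩] []))))) (cond (Nat.blt c 54) (cond (Nat.blt c 38) (cond (Nat.blt c 34) (cond (Nat.blt c 31) (cond (Nat.beq c 30) [⟨94, 1, 1⟩] []) (cond (Nat.beq c 31) [⟨95, 1, 1⟩] [])) (cond (Nat.blt c 35) (cond (Nat.beq c 34) [⟨98, 1, 1⟩] []) (cond (Nat.beq c 35) [⟨99, 1, 1⟩] []))) (cond (Nat.blt c 45) (cond (Nat.blt c 44) (cond (Nat.beq c 38) [⟨100, 1, 1⟩] []) (cond (Nat.beq c 44) [⟨109, 1, 1⟩] [])) (cond (Nat.blt c 48) (cond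 (Nat.beq c 45) [⟨110, 1, 1⟩] []) (cond (Nat.beq c 48) [⟨111, 1, 1⟩] [])))) (cond (Nat.blt c 67) (cond (Nat.blt c 65) (cond (Nat.blt c 64) (cond (Nat.beq c 54) [⟨112, 1, 1⟩] []) (cond (Nat.beq c 64) [⟨191, -1, 2⟩, ⟨0, 1, 1⟩, ⟨1, 1, 1⟩, ⟨2, 1, 1⟩, ⟨3, 2, 1⟩, ⟨4, 2, 1⟩, ⟨5, 2, 1⟩, ⟨6, 2, 1⟩, ⟨7, 1, 1⟩] [])) (cond (Nat.blt c 66) (cond (Nat.beq c 65) [⟨129, 1, 1⟩] []) (cond (Nat.beq c 66) [⟨130, -1, 1⟩] []))) (cond (Nat.blt c 70) (cond (Nat.blt c 68) (cond (Nat.beq c 67) [⟨132, 1, 1⟩] []) (cond (Nat.beq c 68) [⟨133, -1, 1⟩] [])) (cond (Nat.blt c 71) (cond (Nat.beq c 70) [⟨136, 1, 1⟩] []) (cond (Nat.beq c 71) [⟨137, -1, 1⟩] [])))))) (cond (Nat.blt c 143) (cond (Nat.blt c 113) (cond (Nat.blt c 85) (cond (Nat.blt c 79) (cond (Nat.blt c 75) (cond (Nat.beq c 74) [⟨141, 1, 1⟩] []) (cond (Nat.beq c 75) [⟨142,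 -1, 1⟩] [])) (cond (Nat.blt c 80) (cond (Nat.beq c 79) [⟨153, 1, 1⟩] []) (cond (Nat.beq c 80) [⟨154, -1, 1⟩] []))) (cond (Nat.blt c 101) (cond (Nat.blt c 86) (cond (Nat.beq c 85) [⟨169, 1, 1⟩] []) (cond (Nat.beq c 86) [⟨170, -1, 1⟩] [])) (cond (Nat.blt c 102) (cond (Nat.beq c 101) [⟨175, 1, 1⟩] []) (cond (Nat.beq c 102) [⟨176, -1, 1⟩] [])))) (cond (Nat.blt c 122) (cond (Nat.blt c 118) (cond (Nat.blt c 114) (cond (Nat.beq c 113) [⟨180, 1, 1⟩] []) (cond (Nat.beq c 114) [⟨181, -1, 1⟩] [])) (cond (Nat.blt c 119) (cond (Nat.beq c 118) [⟨184, 1, 1⟩] []) (cond (Nat.beq c 119) [⟨185, -1, 1⟩] []))) (cond (Nat.blt c 125) (cond (Nat.blt c 123) (cond (Nat.beq c 122) [⟨187, 1, 1⟩] []) (cond (Nat.beq c 123) [⟨188, -1, 1⟩] [])) (cond (Nat.blt c 126) (cond (Nat.beq c 125) [⟨189, 1, 1⟩] []) (cond (Nat.beq c 126)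 [⟨190, -1, 1⟩] []))))) (cond (Nat.blt c 161) (cond (Nat.blt c 155) (cond (Nat.blt c 145) (cond (Nat.blt c 144) (cond (Nat.beq c 143) [⟨201, -1, 1⟩] []) (cond (Nat.beq c 144) [⟨207, -1, 1⟩] [])) (cond (Nat.blt c 146) (cond (Nat.beq c 145) [⟨210, -1, 1⟩] []) (cond (Nat.beq c 146) [⟨211, -1, 1⟩] []))) (cond (Nat.blt c 157) (cond (Nat.blt c 156) (cond (Nat.beq c 155) [⟨217, -1, 1⟩] []) (cond (Nat.beq c 156) [⟨220, -1, 1⟩] [])) (cond (Nat.blt c 160) (cond (Nat.beq c 157) [⟨221, -1, 1⟩] []) (cond (Nat.beq c 160) [⟨224, -1, 1⟩] [])))) (cond (Nat.blt c 196) (cond (Nat.blt c 192) (cond (Nat.blt c 164) (cond (Nat.beq c 161) [⟨225, -1, 1⟩] []) (cond (Nat.beq c 164) [⟨226, -1, 1⟩] [])) (cond (Nat.blt c 193) (cond (Nat.beq c 192) [⟨236, -1, 1⟩] []) (cond (Nat.beq c 193) [⟨237, -1, 1⟩] []))) (cond (Nat.blt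 c 212) (cond (Nat.blt c 202) (cond (Nat.beq c 196) [⟨238, -1, 1⟩] []) (cond (Nat.beq c 202) [⟨239, -1, 1⟩] [])) (cond (Nat.blt c 227) (cond (Nat.beq c 212) [⟨241, -1, 1⟩] []) (cond (Nat.blt c 228) (cond (Nat.beq c 227) [⟨246, -1, 1⟩] []) (cond (Nat.beq c 228) [⟨247, -1, 1⟩] [])))))))

/-- Compiled columns of `x_184` for type E8. -/
def colsE8_184 (c : ℕ) : List CEnt :=
  cond (Nat.blt c 77) (cond (Nat.blt c 27) (cond (Nat.blt c 11) (cond (Nat.blt c 4) (cond (Nat.blt c 2) (cond (Nat.blt c 1) (cond (Nat.beq c 0) [⟨192, 0, 1⟩] []) (cond (Nat.beq c 1) [⟨192, 0, 1⟩] [])) (cond (Nat.blt c 3) (cond (Nat.beq c 2) [⟨192, -1, 1⟩] []) (cond (Nat.beq c 3) [⟨192, 0, 1⟩] []))) (cond (Nat.blt c 6) (cond (Nat.blt c 5) (cond (Nat.beq c 4) [⟨192, 0, 1⟩] []) (cond (Nat.beq c 5) [⟨192, 1, 1⟩] [])) (cond (Nat.blt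 c 7) (cond (Nat.beq c 6) [⟨192, 0, 1⟩] []) (cond (Nat.beq c 7) [⟨192, 0, 1⟩] [])))) (cond (Nat.blt c 19) (cond (Nat.blt c 13) (cond (Nat.blt c 12) (cond (Nat.beq c 11) [⟨29, 1, 1⟩] []) (cond (Nat.beq c 12) [⟨30, 1, 1⟩] [])) (cond (Nat.blt c 15) (cond (Nat.beq c 13) [⟨34, 1, 1⟩] []) (cond (Nat.beq c 15) [⟨44, 1, 1⟩] []))) (cond (Nat.blt c 21) (cond (Nat.blt c 20) (cond (Nat.beq c 19) [⟨64, -1, 1⟩] []) (cond (Nat.beq c 20) [⟨65, -1, 1⟩] [])) (cond (Nat.blt c 26) (cond (Nat.beq c 21) [⟨66, -1, 1⟩] []) (cond (Nat.beq c 26) [⟨86, 1, 1⟩] []))))) (cond (Nat.blt c 57) (cond (Nat.blt c 43) (cond (Nat.blt c 41) (cond (Nat.blt c 28) (cond (Nat.beq c 27) [⟨87, 1, 1⟩] []) (cond (Nat.beq c 28) [⟨88, 1, 1⟩] [])) (cond (Nat.blt c 42) (cond (Nat.beq c 41) [⟨101, -1, 1⟩] []) (cond (Nat.beq c 42) [⟨102, -1, 1⟩]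 []))) (cond (Nat.blt c 52) (cond (Nat.blt c 51) (cond (Nat.beq c 43) [⟨103, -1, 1⟩] []) (cond (Nat.beq c 51) [⟨113, 1, 1⟩] [])) (cond (Nat.blt c 53) (cond (Nat.beq c 52) [⟨114, 1, 1⟩] []) (cond (Nat.beq c 53) [⟨115, 1, 1⟩] [])))) (cond (Nat.blt c 61) (cond (Nat.blt c 59) (cond (Nat.blt c 58) (cond (Nat.beq c 57) [⟨118, -1, 1⟩] []) (cond (Nat.beq c 58) [⟨119, -1, 1⟩] [])) (cond (Nat.blt c 60) (cond (Nat.beq c 59) [⟨120, -1, 1⟩] []) (cond (Nat.beq c 60) [⟨122, 1, 1⟩] []))) (cond (Nat.blt c 63) (cond (Nat.blt c 62) (cond (Nat.beq c 61) [⟨123, 1, 1⟩] []) (cond (Nat.beq c 62) [⟨124, 1, 1⟩] [])) (cond (Nat.blt c 73) (cond (Nat.beq c 63) [⟨192, -1, 2⟩, ⟨0, 1, 1⟩, ⟨1, 1, 1⟩, ⟨2, 2, 1⟩, ⟨3, 2, 1⟩, ⟨4, 1, 1⟩, ⟨5, 0, 1⟩, ⟨6, 0, 1⟩, ⟨7, 0, 1⟩] []) (cond (Nat.beq c 73) [⟨143, 1, 1⟩] [])))))) (cond (Nat.blt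 c 137) (cond (Nat.blt c 110) (cond (Nat.blt c 84) (cond (Nat.blt c 82) (cond (Nat.blt c 78) (cond (Nat.beq c 77) [⟨144, -1, 1⟩] []) (cond (Nat.beq c 78) [⟨145, 1, 1⟩] [])) (cond (Nat.blt c 83) (cond (Nat.beq c 82) [⟨155, 1, 1⟩] []) (cond (Nat.beq c 83) [⟨156, -1, 1⟩] []))) (cond (Nat.blt c 99) (cond (Nat.blt c 95) (cond (Nat.beq c 84) [⟨160, 1, 1⟩] []) (cond (Nat.beq c 95) [⟨171, -1, 1⟩] [])) (cond (Nat.blt c 100) (cond (Nat.beq c 99) [⟨172, 1, 1⟩] []) (cond (Nat.beq c 100) [⟨173, -1, 1⟩] [])))) (cond (Nat.blt c 132) (cond (Nat.blt c 112) (cond (Nat.blt c 111) (cond (Nat.beq c 110) [⟨177, -1, 1⟩] []) (cond (Nat.beq c 111) [⟨178, 1, 1⟩] [])) (cond (Nat.blt c 131) (cond (Nat.beq c 112) [⟨182, -1, 1⟩] []) (cond (Nat.beq c 131) [⟨193, -1, 1⟩] []))) (cond (Nat.blt c 135) (cond (Nat.blt c 133) (cond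 (Nat.beq c 132) [⟨194, -1, 1⟩] []) (cond (Nat.beq c 133) [⟨195, -1, 1⟩] [])) (cond (Nat.blt c 136) (cond (Nat.beq c 135) [⟨196, 1, 1⟩] []) (cond (Nat.beq c 136) [⟨197, 1, 1⟩] []))))) (cond (Nat.blt c 168) (cond (Nat.blt c 152) (cond (Nat.blt c 141) (cond (Nat.blt c 140) (cond (Nat.beq c 137) [⟨198, 1, 1⟩] []) (cond (Nat.beq c 140) [⟨202, -1, 1⟩] [])) (cond (Nat.blt c 142) (cond (Nat.beq c 141) [⟨203, -1, 1⟩] []) (cond (Nat.beq c 142) [⟨204, -1, 1⟩] []))) (cond (Nat.blt c 154) (cond (Nat.blt c 153) (cond (Nat.beq c 152) [⟨212, 1, 1⟩] []) (cond (Nat.beq c 153) [⟨213, 1, 1⟩] [])) (cond (Nat.blt c 167) (cond (Nat.beq c 154) [⟨214, 1, 1⟩] []) (cond (Nat.beq c 167) [⟨227, -1, 1⟩] [])))) (cond (Nat.blt c 191) (cond (Nat.blt c 189) (cond (Nat.blt c 169) (cond (Nat.beq c 168) [⟨228, -1, 1⟩] []) (cond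 (Nat.beq c 169) [⟨229, -1, 1⟩] [])) (cond (Nat.blt c 190) (cond (Nat.beq c 189) [⟨234, 1, 1⟩] []) (cond (Nat.beq c 190) [⟨235, 1, 1⟩] []))) (cond (Nat.blt c 221) (cond (Nat.blt c 211) (cond (Nat.beq c 191) [⟨236, 1, 1⟩] []) (cond (Nat.beq c 211) [⟨240, -1, 1⟩] [])) (cond (Nat.blt c 225) (cond (Nat.beq c 221) [⟨242, -1, 1⟩] []) (cond (Nat.blt c 226) (cond (Nat.beq c 225) [⟨243, -1, 1⟩] []) (cond (Nat.beq c 226) [⟨244, -1, 1⟩] [])))))))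

/-- Compiled columns of `x_185` for type E8. -/
def colsE8_185 (c : ℕ) : List CEnt :=
  cond (Nat.blt c 76) (cond (Nat.blt c 27) (cond (Nat.blt c 10) (cond (Nat.blt c 4) (cond (Nat.blt c 2) (cond (Nat.blt c 1) (cond (Nat.beq c 0) [⟨193, 0, 1⟩] []) (cond (Nat.beq c 1) [⟨193, 0, 1⟩] [])) (cond (Nat.blt c 3) (cond (Nat.beq c 2) [⟨193, -1, 1⟩] []) (cond (Nat.beq c 3) [⟨193, 0, 1⟩] []))) (cond (Nat.blt c 6) (cond (Nat.blt c 5) (cond (Nat.beq c 4) [⟨193, 1, 1⟩] []) (cond (Nat.beq c 5) [⟨193, -1, 1⟩] [])) (cond (Nat.blt c 7) (cond (Nat.beq c 6) [⟨193, 1, 1⟩] []) (cond (Nat.beq c 7) [⟨193, 0, 1⟩] [])))) (cond (Nat.blt c 18) (cond (Nat.blt c 13) (cond (Nat.blt c 12) (cond (Nat.beq c 10) [⟨29, 1, 1⟩] []) (cond (Nat.beq c 12) [⟨31, -1, 1⟩] [])) (cond (Nat.blt c 15) (cond (Nat.beq c 13) [⟨35, -1, 1⟩] [])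 (cond (Nat.beq c 15) [⟨45, -1, 1⟩] []))) (cond (Nat.blt c 21) (cond (Nat.blt c 20) (cond (Nat.beq c 18) [⟨64, -1, 1⟩] []) (cond (Nat.beq c 20) [⟨67, 1, 1⟩] [])) (cond (Nat.blt c 25) (cond (Nat.beq c 21) [⟨68, 1, 1⟩] []) (cond (Nat.beq c 25) [⟨86, 1, 1⟩] []))))) (cond (Nat.blt c 55) (cond (Nat.blt c 43) (cond (Nat.blt c 39) (cond (Nat.blt c 28) (cond (Nat.beq c 27) [⟨89, -1, 1⟩] []) (cond (Nat.beq c 28) [⟨90, -1, 1⟩] [])) (cond (Nat.blt c 40) (cond (Nat.beq c 39) [⟨101, -1, 1⟩] []) (cond (Nat.beq c 40) [⟨102, -1, 1⟩] []))) (cond (Nat.blt c 50) (cond (Nat.blt c 49) (cond (Nat.beq c 43) [⟨104, 1, 1⟩] []) (cond (Nat.beq c 49) [⟨113, 1, 1⟩] [])) (cond (Nat.blt c 53) (cond (Nat.beq c 50) [⟨114, 1, 1⟩] []) (cond (Nat.beq c 53) [⟨116, -1, 1⟩] [])))) (cond (Nat.blt c 61) (cond (Nat.blt c 59) (cond (Nat.blt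 c 56) (cond (Nat.beq c 55) [⟨118, -1, 1⟩] []) (cond (Nat.beq c 56) [⟨119, -1, 1⟩] [])) (cond (Nat.blt c 60) (cond (Nat.beq c 59) [⟨121, 1, 1⟩] []) (cond (Nat.beq c 60) [⟨125, 1, 1⟩] []))) (cond (Nat.blt c 63) (cond (Nat.blt c 62) (cond (Nat.beq c 61) [⟨126, 1, 1⟩] []) (cond (Nat.beq c 62) [⟨193, -1, 2⟩, ⟨0, 1, 1⟩, ⟨1, 1, 1⟩, ⟨2, 2, 1⟩, ⟨3, 2, 1⟩, ⟨4, 1, 1⟩, ⟨5, 1, 1⟩, ⟨6, 0, 1⟩, ⟨7, 0, 1⟩] [])) (cond (Nat.blt c 72) (cond (Nat.beq c 63) [⟨131, 1, 1⟩] []) (cond (Nat.beq c 72) [⟨143, 1, 1⟩] [])))))) (cond (Nat.blt c 137) (cond (Nat.blt c 109) (cond (Nat.blt c 84) (cond (Nat.blt c 81) (cond (Nat.blt c 78) (cond (Nat.beq c 76) [⟨144, -1, 1⟩] []) (cond (Nat.beq c 78) [⟨146, 1, 1⟩] [])) (cond (Nat.blt c 83) (cond (Nat.beq c 81) [⟨155, 1, 1⟩] []) (cond (Nat.beq c 83) [⟨157, -1, 1⟩] []))) (cond (Nat.blt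 c 98) (cond (Nat.blt c 94) (cond (Nat.beq c 84) [⟨161, 1, 1⟩] []) (cond (Nat.beq c 94) [⟨171, -1, 1⟩] [])) (cond (Nat.blt c 100) (cond (Nat.beq c 98) [⟨172, 1, 1⟩] []) (cond (Nat.beq c 100) [⟨174, -1, 1⟩] [])))) (cond (Nat.blt c 129) (cond (Nat.blt c 112) (cond (Nat.blt c 111) (cond (Nat.beq c 109) [⟨177, -1, 1⟩] []) (cond (Nat.beq c 111) [⟨179, 1, 1⟩] [])) (cond (Nat.blt c 124) (cond (Nat.beq c 112) [⟨183, -1, 1⟩] []) (cond (Nat.beq c 124) [⟨192, -1, 1⟩] []))) (cond (Nat.blt c 134) (cond (Nat.blt c 130) (cond (Nat.beq c 129) [⟨194, -1, 1⟩] []) (cond (Nat.beq c 130) [⟨195, -1, 1⟩] [])) (cond (Nat.blt c 136) (cond (Nat.beq c 134) [⟨196, -1, 1⟩] []) (cond (Nat.beq c 136) [⟨199, 1, 1⟩] []))))) (cond (Nat.blt c 166) (cond (Nat.blt c 151) (cond (Nat.blt c 141) (cond (Nat.blt c 139) (cond (Nat.beq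 c 137) [⟨200, 1, 1⟩] []) (cond (Nat.beq c 139) [⟨202, 1, 1⟩] [])) (cond (Nat.blt c 142) (cond (Nat.beq c 141) [⟨205, -1, 1⟩] []) (cond (Nat.beq c 142) [⟨206, -1, 1⟩] []))) (cond (Nat.blt c 154) (cond (Nat.blt c 153) (cond (Nat.beq c 151) [⟨212, -1, 1⟩] []) (cond (Nat.beq c 153) [⟨215, 1, 1⟩] [])) (cond (Nat.blt c 165) (cond (Nat.beq c 154) [⟨216, 1, 1⟩] []) (cond (Nat.beq c 165) [⟨227, 1, 1⟩] [])))) (cond (Nat.blt c 191) (cond (Nat.blt c 187) (cond (Nat.blt c 169) (cond (Nat.beq c 166) [⟨228, 1, 1⟩] []) (cond (Nat.beq c 169) [⟨230, -1, 1⟩] [])) (cond (Nat.blt c 188) (cond (Nat.beq c 187) [⟨234, -1, 1⟩] []) (cond (Nat.beq c 188) [⟨235, -1, 1⟩] []))) (cond (Nat.blt c 220) (cond (Nat.blt c 210) (cond (Nat.beq c 191) [⟨237, 1, 1⟩] []) (cond (Nat.beq c 210) [⟨240, 1, 1⟩] [])) (cond (Nat.blt c 224)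 (cond (Nat.beq c 220) [⟨242, 1, 1⟩] []) (cond (Nat.blt c 226) (cond (Nat.beq c 224) [⟨243, 1, 1⟩] []) (cond (Nat.beq c 226) [⟨245, -1, 1⟩] [])))))))

/-- Compiled columns of `x_186` for type E8. -/
def colsE8_186 (c : ℕ) : List CEnt :=
  cond (Nat.blt c 75) (cond (Nat.blt c 26) (cond (Nat.blt c 9) (cond (Nat.blt c 4) (cond (Nat.blt c 2) (cond (Nat.blt c 1) (cond (Nat.beq c 0) [⟨194, 0, 1⟩] []) (cond (Nat.beq c 1) [⟨194, 0, 1⟩] [])) (cond (Nat.blt c 3) (cond (Nat.beq c 2) [⟨194, -1, 1⟩] []) (cond (Nat.beq c 3) [⟨194, 0, 1⟩] []))) (cond (Nat.blt c 6) (cond (Nat.blt c 5) (cond (Nat.beq c 4) [⟨194, 1, 1⟩] []) (cond (Nat.beq c 5) [⟨194, 0, 1⟩] [])) (cond (Nat.blt c 7) (cond (Nat.beq c 6) [⟨194, -1, 1⟩] []) (cond (Nat.beq c 7) [⟨194, 1, 1⟩] [])))) (cond (Nat.blt c 18) (cond (Nat.blt c 13) (cond (Nat.blt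 c 12) (cond (Nat.beq c 9) [⟨29, 1, 1⟩] []) (cond (Nat.beq c 12) [⟨32, 1, 1⟩] [])) (cond (Nat.blt c 15) (cond (Nat.beq c 13) [⟨36, 1, 1⟩] []) (cond (Nat.beq c 15) [⟨46, 1, 1⟩] []))) (cond (Nat.blt c 21) (cond (Nat.blt c 19) (cond (Nat.beq c 18) [⟨65, 1, 1⟩] []) (cond (Nat.beq c 19) [⟨67, 1, 1⟩] [])) (cond (Nat.blt c 25) (cond (Nat.beq c 21) [⟨69, -1, 1⟩] []) (cond (Nat.beq c 25) [⟨87, -1, 1⟩] []))))) (cond (Nat.blt c 54) (cond (Nat.blt c 42) (cond (Nat.blt c 38) (cond (Nat.blt c 28) (cond (Nat.beq c 26) [⟨89, -1, 1⟩] []) (cond (Nat.beq c 28) [⟨91, 1, 1⟩] [])) (cond (Nat.blt c 40) (cond (Nat.beq c 38) [⟨101, -1, 1⟩] []) (cond (Nat.beq c 40) [⟨103, 1, 1⟩] []))) (cond (Nat.blt c 50) (cond (Nat.blt c 48) (cond (Nat.beq c 42) [⟨104, 1, 1⟩] []) (cond (Nat.beq c 48) [⟨113, 1, 1⟩] [])) (cond (Nat.blt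 c 52) (cond (Nat.beq c 50) [⟨115, -1, 1⟩] []) (cond (Nat.beq c 52) [⟨116, -1, 1⟩] [])))) (cond (Nat.blt c 61) (cond (Nat.blt c 58) (cond (Nat.blt c 56) (cond (Nat.beq c 54) [⟨118, -1, 1⟩] []) (cond (Nat.beq c 56) [⟨120, 1, 1⟩] [])) (cond (Nat.blt c 60) (cond (Nat.beq c 58) [⟨121, 1, 1⟩] []) (cond (Nat.beq c 60) [⟨127, 1, 1⟩] []))) (cond (Nat.blt c 63) (cond (Nat.blt c 62) (cond (Nat.beq c 61) [⟨194, -1, 2⟩, ⟨0, 1, 1⟩, ⟨1, 1, 1⟩, ⟨2, 2, 1⟩, ⟨3, 2, 1⟩, ⟨4, 1, 1⟩, ⟨5, 1, 1⟩, ⟨6, 1, 1⟩, ⟨7, 0, 1⟩] []) (cond (Nat.beq c 62) [⟨129, 1, 1⟩] [])) (cond (Nat.blt c 71) (cond (Nat.beq c 63) [⟨132, 1, 1⟩] []) (cond (Nat.beq c 71) [⟨143, 1, 1⟩] [])))))) (cond (Nat.blt c 137) (cond (Nat.blt c 108) (cond (Nat.blt c 84) (cond (Nat.blt c 80) (cond (Nat.blt c 78) (cond (Nat.beq c 75) [⟨144, -1, 1⟩] []) (cond (Nat.beq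 c 78) [⟨147, 1, 1⟩] [])) (cond (Nat.blt c 83) (cond (Nat.beq c 80) [⟨155, 1, 1⟩] []) (cond (Nat.beq c 83) [⟨158, -1, 1⟩] []))) (cond (Nat.blt c 97) (cond (Nat.blt c 93) (cond (Nat.beq c 84) [⟨162, 1, 1⟩] []) (cond (Nat.beq c 93) [⟨171, -1, 1⟩] [])) (cond (Nat.blt c 100) (cond (Nat.beq c 97) [⟨172, 1, 1⟩] []) (cond (Nat.beq c 100) [⟨175, -1, 1⟩] [])))) (cond (Nat.blt c 126) (cond (Nat.blt c 112) (cond (Nat.blt c 111) (cond (Nat.beq c 108) [⟨177, -1, 1⟩] []) (cond (Nat.beq c 111) [⟨180, 1, 1⟩] [])) (cond (Nat.blt c 123) (cond (Nat.beq c 112) [⟨184, -1, 1⟩] []) (cond (Nat.beq c 123) [⟨192, -1, 1⟩] []))) (cond (Nat.blt c 134) (cond (Nat.blt c 128) (cond (Nat.beq c 126) [⟨193, -1, 1⟩] []) (cond (Nat.beq c 128) [⟨195, -1, 1⟩] [])) (cond (Nat.blt c 135) (cond (Nat.beq c 134) [⟨197, -1, 1⟩] []) (cond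 (Nat.beq c 135) [⟨199, -1, 1⟩] []))))) (cond (Nat.blt c 166) (cond (Nat.blt c 151) (cond (Nat.blt c 140) (cond (Nat.blt c 139) (cond (Nat.beq c 137) [⟨201, 1, 1⟩] []) (cond (Nat.beq c 139) [⟨203, 1, 1⟩] [])) (cond (Nat.blt c 142) (cond (Nat.beq c 140) [⟨205, 1, 1⟩] []) (cond (Nat.beq c 142) [⟨207, -1, 1⟩] []))) (cond (Nat.blt c 154) (cond (Nat.blt c 152) (cond (Nat.beq c 151) [⟨213, -1, 1⟩] []) (cond (Nat.beq c 152) [⟨215, -1, 1⟩] [])) (cond (Nat.blt c 164) (cond (Nat.beq c 154) [⟨217, 1, 1⟩] []) (cond (Nat.beq c 164) [⟨227, -1, 1⟩] [])))) (cond (Nat.blt c 190) (cond (Nat.blt c 186) (cond (Nat.blt c 168) (cond (Nat.beq c 166) [⟨229, 1, 1⟩] []) (cond (Nat.beq c 168) [⟨230, 1, 1⟩] [])) (cond (Nat.blt c 188) (cond (Nat.beq c 186) [⟨234, 1, 1⟩] []) (cond (Nat.beq c 188) [⟨236, -1, 1⟩] []))) (cond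 (Nat.blt c 219) (cond (Nat.blt c 209) (cond (Nat.beq c 190) [⟨237, -1, 1⟩] []) (cond (Nat.beq c 209) [⟨240, -1, 1⟩] [])) (cond (Nat.blt c 223) (cond (Nat.beq c 219) [⟨242, -1, 1⟩] []) (cond (Nat.blt c 226) (cond (Nat.beq c 223) [⟨243, -1, 1⟩] []) (cond (Nat.beq c 226) [⟨246, -1, 1⟩] [])))))))

/-- Compiled columns of `x_187` for type E8. -/
def colsE8_187 (c : ℕ) : List CEnt :=
  cond (Nat.blt c 74) (cond (Nat.blt c 26) (cond (Nat.blt c 8) (cond (Nat.blt c 4) (cond (Nat.blt c 2) (cond (Nat.blt c 1) (cond (Nat.beq c 0) [⟨195, 0, 1⟩] []) (cond (Nat.beq c 1) [⟨195, 0, 1⟩] [])) (cond (Nat.blt c 3) (cond (Nat.beq c 2) [⟨195, -1, 1⟩] []) (cond (Nat.beq c 3) [⟨195, 0, 1⟩] []))) (cond (Nat.blt c 6) (cond (Nat.blt c 5) (cond (Nat.beq c 4) [⟨195, 1, 1⟩] []) (cond (Nat.beq c 5) [⟨195, 0, 1⟩] [])) (cond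 (Nat.blt c 7) (cond (Nat.beq c 6) [⟨195, 0, 1⟩] []) (cond (Nat.beq c 7) [⟨195, -1, 1⟩] [])))) (cond (Nat.blt c 18) (cond (Nat.blt c 13) (cond (Nat.blt c 12) (cond (Nat.beq c 8) [⟨29, 1, 1⟩] []) (cond (Nat.beq c 12) [⟨33, -1, 1⟩] [])) (cond (Nat.blt c 15) (cond (Nat.beq c 13) [⟨37, -1, 1⟩] []) (cond (Nat.beq c 15) [⟨47, -1, 1⟩] []))) (cond (Nat.blt c 20) (cond (Nat.blt c 19) (cond (Nat.beq c 18) [⟨66, -1, 1⟩] []) (cond (Nat.beq c 19) [⟨68, -1, 1⟩] [])) (cond (Nat.blt c 25) (cond (Nat.beq c 20) [⟨69, -1, 1⟩] []) (cond (Nat.beq c 25) [⟨88, 1, 1⟩] []))))) (cond (Nat.blt c 54) (cond (Nat.blt c 41) (cond (Nat.blt c 38) (cond (Nat.blt c 27) (cond (Nat.beq c 26) [⟨90, 1, 1⟩] []) (cond (Nat.beq c 27) [⟨91, 1, 1⟩] [])) (cond (Nat.blt c 39) (cond (Nat.beq c 38) [⟨102, 1, 1⟩] []) (cond (Nat.beq c 39) [⟨103,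 1, 1⟩] []))) (cond (Nat.blt c 49) (cond (Nat.blt c 48) (cond (Nat.beq c 41) [⟨104, 1, 1⟩] []) (cond (Nat.beq c 48) [⟨114, -1, 1⟩] [])) (cond (Nat.blt c 51) (cond (Nat.beq c 49) [⟨115, -1, 1⟩] []) (cond (Nat.beq c 51) [⟨116, -1, 1⟩] [])))) (cond (Nat.blt c 61) (cond (Nat.blt c 57) (cond (Nat.blt c 55) (cond (Nat.beq c 54) [⟨119, 1, 1⟩] []) (cond (Nat.beq c 55) [⟨120, 1, 1⟩] [])) (cond (Nat.blt c 60) (cond (Nat.beq c 57) [⟨121, 1, 1⟩] []) (cond (Nat.beq c 60) [⟨195, -1, 2⟩, ⟨0, 1, 1⟩, ⟨1, 1, 1⟩, ⟨2, 2, 1⟩, ⟨3, 2, 1⟩, ⟨4, 1, 1⟩, ⟨5, 1, 1⟩, ⟨6, 1, 1⟩, ⟨7, 1, 1⟩] []))) (cond (Nat.blt c 63) (cond (Nat.blt c 62) (cond (Nat.beq c 61) [⟨128, 1, 1⟩] []) (cond (Nat.beq c 62) [⟨130, 1, 1⟩] [])) (cond (Nat.blt c 70) (cond (Nat.beq c 63) [⟨133, 1, 1⟩] []) (cond (Nat.beq c 70) [⟨143, 1, 1⟩] [])))))) (cond (Nat.blt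 c 136) (cond (Nat.blt c 107) (cond (Nat.blt c 84) (cond (Nat.blt c 79) (cond (Nat.blt c 78) (cond (Nat.beq c 74) [⟨144, -1, 1⟩] []) (cond (Nat.beq c 78) [⟨148, 1, 1⟩] [])) (cond (Nat.blt c 83) (cond (Nat.beq c 79) [⟨155, 1, 1⟩] []) (cond (Nat.beq c 83) [⟨159, -1, 1⟩] []))) (cond (Nat.blt c 96) (cond (Nat.blt c 92) (cond (Nat.beq c 84) [⟨163, 1, 1⟩] []) (cond (Nat.beq c 92) [⟨171, -1, 1⟩] [])) (cond (Nat.blt c 100) (cond (Nat.beq c 96) [⟨172, 1, 1⟩] []) (cond (Nat.beq c 100) [⟨176, -1, 1⟩] [])))) (cond (Nat.blt c 125) (cond (Nat.blt c 112) (cond (Nat.blt c 111) (cond (Nat.beq c 107) [⟨177, -1, 1⟩] []) (cond (Nat.beq c 111) [⟨181, 1, 1⟩] [])) (cond (Nat.blt c 122) (cond (Nat.beq c 112) [⟨185, -1, 1⟩] []) (cond (Nat.beq c 122) [⟨192, -1, 1⟩] []))) (cond (Nat.blt c 134) (cond (Nat.blt c 127) (cond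 (Nat.beq c 125) [⟨193, -1, 1⟩] []) (cond (Nat.beq c 127) [⟨194, -1, 1⟩] [])) (cond (Nat.blt c 135) (cond (Nat.beq c 134) [⟨198, -1, 1⟩] []) (cond (Nat.beq c 135) [⟨200, -1, 1⟩] []))))) (cond (Nat.blt c 165) (cond (Nat.blt c 151) (cond (Nat.blt c 140) (cond (Nat.blt c 139) (cond (Nat.beq c 136) [⟨201, -1, 1⟩] []) (cond (Nat.beq c 139) [⟨204, 1, 1⟩] [])) (cond (Nat.blt c 141) (cond (Nat.beq c 140) [⟨206, 1, 1⟩] []) (cond (Nat.beq c 141) [⟨207, 1, 1⟩] []))) (cond (Nat.blt c 153) (cond (Nat.blt c 152) (cond (Nat.beq c 151) [⟨214, -1, 1⟩] []) (cond (Nat.beq c 152) [⟨216, -1, 1⟩] [])) (cond (Nat.blt c 164) (cond (Nat.beq c 153) [⟨217, -1, 1⟩] []) (cond (Nat.beq c 164) [⟨228, -1, 1⟩] [])))) (cond (Nat.blt c 189) (cond (Nat.blt c 186) (cond (Nat.blt c 167) (cond (Nat.beq c 165) [⟨229, -1, 1⟩] []) (cond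 (Nat.beq c 167) [⟨230, -1, 1⟩] [])) (cond (Nat.blt c 187) (cond (Nat.beq c 186) [⟨235, 1, 1⟩] []) (cond (Nat.beq c 187) [⟨236, 1, 1⟩] []))) (cond (Nat.blt c 218) (cond (Nat.blt c 208) (cond (Nat.beq c 189) [⟨237, 1, 1⟩] []) (cond (Nat.beq c 208) [⟨240, 1, 1⟩] [])) (cond (Nat.blt c 222) (cond (Nat.beq c 218) [⟨242, 1, 1⟩] []) (cond (Nat.blt c 226) (cond (Nat.beq c 222) [⟨243, 1, 1⟩] []) (cond (Nat.beq c 226) [⟨247, -1, 1⟩] [])))))))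

/-- Compiled columns of `x_188` for type E8. -/
def colsE8_188 (c : ℕ) : List CEnt :=
  cond (Nat.blt c 76) (cond (Nat.blt c 27) (cond (Nat.blt c 10) (cond (Nat.blt c 4) (cond (Nat.blt c 2) (cond (Nat.blt c 1) (cond (Nat.beq c 0) [⟨196, 0, 1⟩] []) (cond (Nat.beq c 1) [⟨196, 0, 1⟩] [])) (cond (Nat.blt c 3) (cond (Nat.beq c 2) [⟨196, -1, 1⟩] []) (cond (Nat.beq c 3) [⟨196, 1, 1⟩] []))) (cond (Nat.blt c 6) (cond (Nat.blt c 5) (cond (Nat.beq c 4) [⟨196, -1, 1⟩] []) (cond (Nat.beq c 5) [⟨196, 0, 1⟩] [])) (cond (Nat.blt c 7) (cond (Nat.beq c 6) [⟨196, 1, 1⟩] []) (cond (Nat.beq c 7) [⟨196, 0, 1⟩] [])))) (cond (Nat.blt c 17) (cond (Nat.blt c 13) (cond (Nat.blt c 11) (cond (Nat.beq c 10) [⟨30, -1, 1⟩] []) (cond (Nat.beq c 11) [⟨31, -1, 1⟩] [])) (cond (Nat.blt c 15) (cond (Nat.beq c 13) [⟨38, 1, 1⟩] [])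 (cond (Nat.beq c 15) [⟨48, 1, 1⟩] []))) (cond (Nat.blt c 21) (cond (Nat.blt c 20) (cond (Nat.beq c 17) [⟨64, -1, 1⟩] []) (cond (Nat.beq c 20) [⟨70, -1, 1⟩] [])) (cond (Nat.blt c 24) (cond (Nat.beq c 21) [⟨71, -1, 1⟩] []) (cond (Nat.beq c 24) [⟨86, 1, 1⟩] []))))) (cond (Nat.blt c 55) (cond (Nat.blt c 43) (cond (Nat.blt c 36) (cond (Nat.blt c 28) (cond (Nat.beq c 27) [⟨92, 1, 1⟩] []) (cond (Nat.beq c 28) [⟨93, 1, 1⟩] [])) (cond (Nat.blt c 37) (cond (Nat.beq c 36) [⟨101, -1, 1⟩] []) (cond (Nat.beq c 37) [⟨102, -1, 1⟩] []))) (cond (Nat.blt c 47) (cond (Nat.blt c 46) (cond (Nat.beq c 43) [⟨105, -1, 1⟩] []) (cond (Nat.beq c 46) [⟨113, 1, 1⟩] [])) (cond (Nat.blt c 53) (cond (Nat.beq c 47) [⟨114, 1, 1⟩] []) (cond (Nat.beq c 53) [⟨117, 1, 1⟩] [])))) (cond (Nat.blt c 59) (cond (Nat.blt c 57) (cond (Nat.blt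 c 56) (cond (Nat.beq c 55) [⟨122, -1, 1⟩] []) (cond (Nat.beq c 56) [⟨123, -1, 1⟩] [])) (cond (Nat.blt c 58) (cond (Nat.beq c 57) [⟨125, 1, 1⟩] []) (cond (Nat.beq c 58) [⟨126, 1, 1⟩] []))) (cond (Nat.blt c 63) (cond (Nat.blt c 62) (cond (Nat.beq c 59) [⟨196, -1, 2⟩, ⟨0, 1, 1⟩, ⟨1, 1, 1⟩, ⟨2, 2, 1⟩, ⟨3, 2, 1⟩, ⟨4, 2, 1⟩, ⟨5, 1, 1⟩, ⟨6, 0, 1⟩, ⟨7, 0, 1⟩] []) (cond (Nat.beq c 62) [⟨134, 1, 1⟩] [])) (cond (Nat.blt c 69) (cond (Nat.beq c 63) [⟨135, -1, 1⟩] []) (cond (Nat.beq c 69) [⟨143, 1, 1⟩] [])))))) (cond (Nat.blt c 133) (cond (Nat.blt c 109) (cond (Nat.blt c 84) (cond (Nat.blt c 81) (cond (Nat.blt c 77) (cond (Nat.beq c 76) [⟨145, -1, 1⟩] []) (cond (Nat.beq c 77) [⟨146, 1, 1⟩] [])) (cond (Nat.blt c 82) (cond (Nat.beq c 81) [⟨156, 1, 1⟩] []) (cond (Nat.beq c 82) [⟨157, -1, 1⟩] []))) (cond (Nat.blt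 c 98) (cond (Nat.blt c 91) (cond (Nat.beq c 84) [⟨164, 1, 1⟩] []) (cond (Nat.beq c 91) [⟨171, -1, 1⟩] [])) (cond (Nat.blt c 99) (cond (Nat.beq c 98) [⟨173, 1, 1⟩] []) (cond (Nat.beq c 99) [⟨174, -1, 1⟩] [])))) (cond (Nat.blt c 121) (cond (Nat.blt c 112) (cond (Nat.blt c 110) (cond (Nat.beq c 109) [⟨178, -1, 1⟩] []) (cond (Nat.beq c 110) [⟨179, 1, 1⟩] [])) (cond (Nat.blt c 120) (cond (Nat.beq c 112) [⟨186, -1, 1⟩] []) (cond (Nat.beq c 120) [⟨192, 1, 1⟩] []))) (cond (Nat.blt c 130) (cond (Nat.blt c 129) (cond (Nat.beq c 121) [⟨193, -1, 1⟩] []) (cond (Nat.beq c 129) [⟨197, -1, 1⟩] [])) (cond (Nat.blt c 132) (cond (Nat.beq c 130) [⟨198, -1, 1⟩] []) (cond (Nat.beq c 132) [⟨199, 1, 1⟩] []))))) (cond (Nat.blt c 163) (cond (Nat.blt c 150) (cond (Nat.blt c 141) (cond (Nat.blt c 138) (cond (Nat.beq c 133)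 [⟨200, 1, 1⟩] []) (cond (Nat.beq c 138) [⟨202, -1, 1⟩] [])) (cond (Nat.blt c 142) (cond (Nat.beq c 141) [⟨208, -1, 1⟩] []) (cond (Nat.beq c 142) [⟨209, -1, 1⟩] []))) (cond (Nat.blt c 154) (cond (Nat.blt c 153) (cond (Nat.beq c 150) [⟨212, 1, 1⟩] []) (cond (Nat.beq c 153) [⟨218, 1, 1⟩] [])) (cond (Nat.blt c 162) (cond (Nat.beq c 154) [⟨219, 1, 1⟩] []) (cond (Nat.beq c 162) [⟨227, -1, 1⟩] [])))) (cond (Nat.blt c 191) (cond (Nat.blt c 184) (cond (Nat.blt c 169) (cond (Nat.beq c 163) [⟨228, -1, 1⟩] []) (cond (Nat.beq c 169) [⟨231, -1, 1⟩] [])) (cond (Nat.blt c 185) (cond (Nat.beq c 184) [⟨234, 1, 1⟩] []) (cond (Nat.beq c 185) [⟨235, 1, 1⟩] []))) (cond (Nat.blt c 217) (cond (Nat.blt c 207) (cond (Nat.beq c 191) [⟨238, 1, 1⟩] []) (cond (Nat.beq c 207) [⟨240, -1, 1⟩] [])) (cond (Nat.blt c 224) (cond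 (Nat.beq c 217) [⟨242, -1, 1⟩] []) (cond (Nat.blt c 225) (cond (Nat.beq c 224) [⟨244, 1, 1⟩] []) (cond (Nat.beq c 225) [⟨245, 1, 1⟩] [])))))))

/-- Compiled columns of `x_189` for type E8. -/
def colsE8_189 (c : ℕ) : List CEnt :=
  cond (Nat.blt c 75) (cond (Nat.blt c 26) (cond (Nat.blt c 9) (cond (Nat.blt c 4) (cond (Nat.blt c 2) (cond (Nat.blt c 1) (cond (Nat.beq c 0) [⟨197, 0, 1⟩] []) (cond (Nat.beq c 1) [⟨197, 0, 1⟩] [])) (cond (Nat.blt c 3) (cond (Nat.beq c 2) [⟨197, -1, 1⟩] []) (cond (Nat.beq c 3) [⟨197, 1, 1⟩] []))) (cond (Nat.blt c 6) (cond (Nat.blt c 5) (cond (Nat.beq c 4) [⟨197, -1, 1⟩] []) (cond (Nat.beq c 5) [⟨197, 1, 1⟩] [])) (cond (Nat.blt c 7) (cond (Nat.beq c 6) [⟨197, -1, 1⟩] []) (cond (Nat.beq c 7) [⟨197, 1, 1⟩] [])))) (cond (Nat.blt c 17) (cond (Nat.blt c 13) (cond (Nat.blt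 c 11) (cond (Nat.beq c 9) [⟨30, -1, 1⟩] []) (cond (Nat.beq c 11) [⟨32, 1, 1⟩] [])) (cond (Nat.blt c 15) (cond (Nat.beq c 13) [⟨39, -1, 1⟩] []) (cond (Nat.beq c 15) [⟨49, -1, 1⟩] []))) (cond (Nat.blt c 21) (cond (Nat.blt c 19) (cond (Nat.beq c 17) [⟨65, 1, 1⟩] []) (cond (Nat.beq c 19) [⟨70, -1, 1⟩] [])) (cond (Nat.blt c 24) (cond (Nat.beq c 21) [⟨72, 1, 1⟩] []) (cond (Nat.beq c 24) [⟨87, -1, 1⟩] []))))) (cond (Nat.blt c 54) (cond (Nat.blt c 42) (cond (Nat.blt c 35) (cond (Nat.blt c 28) (cond (Nat.beq c 26) [⟨92, 1, 1⟩] []) (cond (Nat.beq c 28) [⟨94, -1, 1⟩] [])) (cond (Nat.blt c 37) (cond (Nat.beq c 35) [⟨101, -1, 1⟩] []) (cond (Nat.beq c 37) [⟨103, 1, 1⟩] []))) (cond (Nat.blt c 47) (cond (Nat.blt c 45) (cond (Nat.beq c 42) [⟨105, -1, 1⟩] []) (cond (Nat.beq c 45) [⟨113, 1, 1⟩] [])) (cond (Nat.blt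 c 52) (cond (Nat.beq c 47) [⟨115, -1, 1⟩] []) (cond (Nat.beq c 52) [⟨117, 1, 1⟩] [])))) (cond (Nat.blt c 59) (cond (Nat.blt c 57) (cond (Nat.blt c 56) (cond (Nat.beq c 54) [⟨122, -1, 1⟩] []) (cond (Nat.beq c 56) [⟨124, 1, 1⟩] [])) (cond (Nat.blt c 58) (cond (Nat.beq c 57) [⟨127, 1, 1⟩] []) (cond (Nat.beq c 58) [⟨197, -1, 2⟩, ⟨0, 1, 1⟩, ⟨1, 1, 1⟩, ⟨2, 2, 1⟩, ⟨3, 2, 1⟩, ⟨4, 2, 1⟩, ⟨5, 1, 1⟩, ⟨6, 1, 1⟩, ⟨7, 0, 1⟩] []))) (cond (Nat.blt c 63) (cond (Nat.blt c 61) (cond (Nat.beq c 59) [⟨129, 1, 1⟩] []) (cond (Nat.beq c 61) [⟨134, 1, 1⟩] [])) (cond (Nat.blt c 68) (cond (Nat.beq c 63) [⟨136, -1, 1⟩] []) (cond (Nat.beq c 68) [⟨143, 1, 1⟩] [])))))) (cond (Nat.blt c 133) (cond (Nat.blt c 108) (cond (Nat.blt c 84) (cond (Nat.blt c 80) (cond (Nat.blt c 77) (cond (Nat.beq c 75) [⟨145, -1, 1⟩] []) (cond (Nat.beq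 c 77) [⟨147, 1, 1⟩] [])) (cond (Nat.blt c 82) (cond (Nat.beq c 80) [⟨156, 1, 1⟩] []) (cond (Nat.beq c 82) [⟨158, -1, 1⟩] []))) (cond (Nat.blt c 97) (cond (Nat.blt c 90) (cond (Nat.beq c 84) [⟨165, 1, 1⟩] []) (cond (Nat.beq c 90) [⟨171, -1, 1⟩] [])) (cond (Nat.blt c 99) (cond (Nat.beq c 97) [⟨173, 1, 1⟩] []) (cond (Nat.beq c 99) [⟨175, -1, 1⟩] [])))) (cond (Nat.blt c 121) (cond (Nat.blt c 112) (cond (Nat.blt c 110) (cond (Nat.beq c 108) [⟨178, -1, 1⟩] []) (cond (Nat.beq c 110) [⟨180, 1, 1⟩] [])) (cond (Nat.blt c 119) (cond (Nat.beq c 112) [⟨187, -1, 1⟩] []) (cond (Nat.beq c 119) [⟨192, 1, 1⟩] []))) (cond (Nat.blt c 128) (cond (Nat.blt c 126) (cond (Nat.beq c 121) [⟨194, -1, 1⟩] []) (cond (Nat.beq c 126) [⟨196, -1, 1⟩] [])) (cond (Nat.blt c 131) (cond (Nat.beq c 128) [⟨198, -1, 1⟩] []) (cond (Nat.beq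 c 131) [⟨199, -1, 1⟩] []))))) (cond (Nat.blt c 163) (cond (Nat.blt c 150) (cond (Nat.blt c 140) (cond (Nat.blt c 138) (cond (Nat.beq c 133) [⟨201, 1, 1⟩] []) (cond (Nat.beq c 138) [⟨203, -1, 1⟩] [])) (cond (Nat.blt c 142) (cond (Nat.beq c 140) [⟨208, 1, 1⟩] []) (cond (Nat.beq c 142) [⟨210, -1, 1⟩] []))) (cond (Nat.blt c 154) (cond (Nat.blt c 152) (cond (Nat.beq c 150) [⟨213, 1, 1⟩] []) (cond (Nat.beq c 152) [⟨218, -1, 1⟩] [])) (cond (Nat.blt c 161) (cond (Nat.beq c 154) [⟨220, 1, 1⟩] []) (cond (Nat.beq c 161) [⟨227, 1, 1⟩] [])))) (cond (Nat.blt c 190) (cond (Nat.blt c 183) (cond (Nat.blt c 168) (cond (Nat.beq c 163) [⟨229, -1, 1⟩] []) (cond (Nat.beq c 168) [⟨231, 1, 1⟩] [])) (cond (Nat.blt c 185) (cond (Nat.beq c 183) [⟨234, -1, 1⟩] []) (cond (Nat.beq c 185) [⟨236, 1, 1⟩] []))) (cond (Nat.blt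 c 216) (cond (Nat.blt c 206) (cond (Nat.beq c 190) [⟨238, -1, 1⟩] []) (cond (Nat.beq c 206) [⟨240, 1, 1⟩] [])) (cond (Nat.blt c 223) (cond (Nat.beq c 216) [⟨242, 1, 1⟩] []) (cond (Nat.blt c 225) (cond (Nat.beq c 223) [⟨244, -1, 1⟩] []) (cond (Nat.beq c 225) [⟨246, 1, 1⟩] [])))))))

/-- Compiled columns of `x_190` for type E8. -/
def colsE8_190 (c : ℕ) : List CEnt :=
  cond (Nat.blt c 74) (cond (Nat.blt c 26) (cond (Nat.blt c 8) (cond (Nat.blt c 4) (cond (Nat.blt c 2) (cond (Nat.blt c 1) (cond (Nat.beq c 0) [⟨198, 0, 1⟩] []) (cond (Nat.beq c 1) [⟨198, 0, 1⟩] [])) (cond (Nat.blt c 3) (cond (Nat.beq c 2) [⟨198, -1, 1⟩] []) (cond (Nat.beq c 3) [⟨198, 1, 1⟩] []))) (cond (Nat.blt c 6) (cond (Nat.blt c 5) (cond (Nat.beq c 4) [⟨198, -1, 1⟩] []) (cond (Nat.beq c 5) [⟨198, 1, 1⟩] [])) (cond (Nat.blt c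 7) (cond (Nat.beq c 6) [⟨198, 0, 1⟩] []) (cond (Nat.beq c 7) [⟨198, -1, 1⟩] [])))) (cond (Nat.blt c 17) (cond (Nat.blt c 13) (cond (Nat.blt c 11) (cond (Nat.beq c 8) [⟨30, -1, 1⟩] []) (cond (Nat.beq c 11) [⟨33, -1, 1⟩] [])) (cond (Nat.blt c 15) (cond (Nat.beq c 13) [⟨40, 1, 1⟩] []) (cond (Nat.beq c 15) [⟨50, 1, 1⟩] []))) (cond (Nat.blt c 20) (cond (Nat.blt c 19) (cond (Nat.beq c 17) [⟨66, -1, 1⟩] []) (cond (Nat.beq c 19) [⟨71, 1, 1⟩] [])) (cond (Nat.blt c 24) (cond (Nat.beq c 20) [⟨72, 1, 1⟩] []) (cond (Nat.beq c 24) [⟨88, 1, 1⟩] []))))) (cond (Nat.blt c 54) (cond (Nat.blt c 41) (cond (Nat.blt c 35) (cond (Nat.blt c 27) (cond (Nat.beq c 26) [⟨93, -1, 1⟩] []) (cond (Nat.beq c 27) [⟨94, -1, 1⟩] [])) (cond (Nat.blt c 36) (cond (Nat.beq c 35) [⟨102, 1, 1⟩] []) (cond (Nat.beq c 36) [⟨103, 1, 1⟩] [])))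 (cond (Nat.blt c 46) (cond (Nat.blt c 45) (cond (Nat.beq c 41) [⟨105, -1, 1⟩] []) (cond (Nat.beq c 45) [⟨114, -1, 1⟩] [])) (cond (Nat.blt c 51) (cond (Nat.beq c 46) [⟨115, -1, 1⟩] []) (cond (Nat.beq c 51) [⟨117, 1, 1⟩] [])))) (cond (Nat.blt c 59) (cond (Nat.blt c 57) (cond (Nat.blt c 55) (cond (Nat.beq c 54) [⟨123, 1, 1⟩] []) (cond (Nat.beq c 55) [⟨124, 1, 1⟩] [])) (cond (Nat.blt c 58) (cond (Nat.beq c 57) [⟨198, -1, 2⟩, ⟨0, 1, 1⟩, ⟨1, 1, 1⟩, ⟨2, 2, 1⟩, ⟨3, 2, 1⟩, ⟨4, 2, 1⟩, ⟨5, 1, 1⟩, ⟨6, 1, 1⟩, ⟨7, 1, 1⟩] []) (cond (Nat.beq c 58) [⟨128, 1, 1⟩] []))) (cond (Nat.blt c 63) (cond (Nat.blt c 60) (cond (Nat.beq c 59) [⟨130, 1, 1⟩] []) (cond (Nat.beq c 60) [⟨134, 1, 1⟩] [])) (cond (Nat.blt c 67) (cond (Nat.beq c 63) [⟨137, -1, 1⟩] []) (cond (Nat.beq c 67) [⟨143, 1, 1⟩] [])))))) (cond (Nat.blt c 132)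 (cond (Nat.blt c 107) (cond (Nat.blt c 84) (cond (Nat.blt c 79) (cond (Nat.blt c 77) (cond (Nat.beq c 74) [⟨145, -1, 1⟩] []) (cond (Nat.beq c 77) [⟨148, 1, 1⟩] [])) (cond (Nat.blt c 82) (cond (Nat.beq c 79) [⟨156, 1, 1⟩] []) (cond (Nat.beq c 82) [⟨159, -1, 1⟩] []))) (cond (Nat.blt c 96) (cond (Nat.blt c 89) (cond (Nat.beq c 84) [⟨166, 1, 1⟩] []) (cond (Nat.beq c 89) [⟨171, -1, 1⟩] [])) (cond (Nat.blt c 99) (cond (Nat.beq c 96) [⟨173, 1, 1⟩] []) (cond (Nat.beq c 99) [⟨176, -1, 1⟩] [])))) (cond (Nat.blt c 121) (cond (Nat.blt c 112) (cond (Nat.blt c 110) (cond (Nat.beq c 107) [⟨178, -1, 1⟩] []) (cond (Nat.beq c 110) [⟨181, 1, 1⟩] [])) (cond (Nat.blt c 118) (cond (Nat.beq c 112) [⟨188, -1, 1⟩] []) (cond (Nat.beq c 118) [⟨192, 1, 1⟩] []))) (cond (Nat.blt c 127) (cond (Nat.blt c 125) (cond (Nat.beq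 c 121) [⟨195, -1, 1⟩] []) (cond (Nat.beq c 125) [⟨196, -1, 1⟩] [])) (cond (Nat.blt c 131) (cond (Nat.beq c 127) [⟨197, -1, 1⟩] []) (cond (Nat.beq c 131) [⟨200, -1, 1⟩] []))))) (cond (Nat.blt c 162) (cond (Nat.blt c 150) (cond (Nat.blt c 140) (cond (Nat.blt c 138) (cond (Nat.beq c 132) [⟨201, -1, 1⟩] []) (cond (Nat.beq c 138) [⟨204, -1, 1⟩] [])) (cond (Nat.blt c 141) (cond (Nat.beq c 140) [⟨209, 1, 1⟩] []) (cond (Nat.beq c 141) [⟨210, 1, 1⟩] []))) (cond (Nat.blt c 153) (cond (Nat.blt c 152) (cond (Nat.beq c 150) [⟨214, 1, 1⟩] []) (cond (Nat.beq c 152) [⟨219, -1, 1⟩] [])) (cond (Nat.blt c 161) (cond (Nat.beq c 153) [⟨220, -1, 1⟩] []) (cond (Nat.beq c 161) [⟨228, 1, 1⟩] [])))) (cond (Nat.blt c 189) (cond (Nat.blt c 183) (cond (Nat.blt c 167) (cond (Nat.beq c 162) [⟨229, 1, 1⟩] []) (cond (Nat.beq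 c 167) [⟨231, -1, 1⟩] [])) (cond (Nat.blt c 184) (cond (Nat.beq c 183) [⟨235, -1, 1⟩] []) (cond (Nat.beq c 184) [⟨236, -1, 1⟩] []))) (cond (Nat.blt c 215) (cond (Nat.blt c 205) (cond (Nat.beq c 189) [⟨238, 1, 1⟩] []) (cond (Nat.beq c 205) [⟨240, -1, 1⟩] [])) (cond (Nat.blt c 222) (cond (Nat.beq c 215) [⟨242, -1, 1⟩] []) (cond (Nat.blt c 225) (cond (Nat.beq c 222) [⟨244, 1, 1⟩] []) (cond (Nat.beq c 225) [⟨247, 1, 1⟩] [])))))))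

/-- Compiled columns of `x_191` for type E8. -/
def colsE8_191 (c : ℕ) : List CEnt :=
  cond (Nat.blt c 75) (cond (Nat.blt c 25) (cond (Nat.blt c 9) (cond (Nat.blt c 4) (cond (Nat.blt c 2) (cond (Nat.blt c 1) (cond (Nat.beq c 0) [⟨199, 0, 1⟩] []) (cond (Nat.beq c 1) [⟨199, 0, 1⟩] [])) (cond (Nat.blt c 3) (cond (Nat.beq c 2) [⟨199, -1, 1⟩] []) (cond (Nat.beq c 3) [⟨199, 1, 1⟩] []))) (cond (Nat.blt c 6) (cond (Nat.blt c 5) (cond (Nat.beq c 4) [⟨199, 0, 1⟩] []) (cond (Nat.beq c 5) [⟨199, -1, 1⟩] [])) (cond (Nat.blt c 7) (cond (Nat.beq c 6) [⟨199, 0, 1⟩] []) (cond (Nat.beq c 7) [⟨199, 1, 1⟩] [])))) (cond (Nat.blt c 17) (cond (Nat.blt c 13) (cond (Nat.blt c 10) (cond (Nat.beq c 9) [⟨31, 1, 1⟩] []) (cond (Nat.beq c 10) [⟨32, 1, 1⟩] [])) (cond (Nat.blt c 15) (cond (Nat.beq c 13) [⟨41, 1, 1⟩] []) (cond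 (Nat.beq c 15) [⟨51, 1, 1⟩] []))) (cond (Nat.blt c 21) (cond (Nat.blt c 18) (cond (Nat.beq c 17) [⟨67, -1, 1⟩] []) (cond (Nat.beq c 18) [⟨70, -1, 1⟩] [])) (cond (Nat.blt c 24) (cond (Nat.beq c 21) [⟨73, -1, 1⟩] []) (cond (Nat.beq c 24) [⟨89, 1, 1⟩] []))))) (cond (Nat.blt c 54) (cond (Nat.blt c 40) (cond (Nat.blt c 34) (cond (Nat.blt c 28) (cond (Nat.beq c 25) [⟨92, 1, 1⟩] []) (cond (Nat.beq c 28) [⟨95, 1, 1⟩] [])) (cond (Nat.blt c 37) (cond (Nat.beq c 34) [⟨101, -1, 1⟩] []) (cond (Nat.beq c 37) [⟨104, -1, 1⟩] []))) (cond (Nat.blt c 47) (cond (Nat.blt c 44) (cond (Nat.beq c 40) [⟨105, -1, 1⟩] []) (cond (Nat.beq c 44) [⟨113, 1, 1⟩] [])) (cond (Nat.blt c 50) (cond (Nat.beq c 47) [⟨116, 1, 1⟩] []) (cond (Nat.beq c 50) [⟨117, 1, 1⟩] [])))) (cond (Nat.blt c 59) (cond (Nat.blt c 56) (cond (Nat.blt c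 55) (cond (Nat.beq c 54) [⟨125, -1, 1⟩] []) (cond (Nat.beq c 55) [⟨127, 1, 1⟩] [])) (cond (Nat.blt c 58) (cond (Nat.beq c 56) [⟨199, -1, 2⟩, ⟨0, 1, 1⟩, ⟨1, 1, 1⟩, ⟨2, 2, 1⟩, ⟨3, 2, 1⟩, ⟨4, 2, 1⟩, ⟨5, 2, 1⟩, ⟨6, 1, 1⟩, ⟨7, 0, 1⟩] []) (cond (Nat.beq c 58) [⟨131, 1, 1⟩] []))) (cond (Nat.blt c 62) (cond (Nat.blt c 61) (cond (Nat.beq c 59) [⟨132, -1, 1⟩] []) (cond (Nat.beq c 61) [⟨135, 1, 1⟩] [])) (cond (Nat.blt c 66) (cond (Nat.beq c 62) [⟨136, -1, 1⟩] []) (cond (Nat.beq c 66) [⟨143, 1, 1⟩] [])))))) (cond (Nat.blt c 130) (cond (Nat.blt c 108) (cond (Nat.blt c 84) (cond (Nat.blt c 80) (cond (Nat.blt c 76) (cond (Nat.beq c 75) [⟨146, -1, 1⟩] []) (cond (Nat.beq c 76) [⟨147, 1, 1⟩] [])) (cond (Nat.blt c 81) (cond (Nat.beq c 80) [⟨157, 1, 1⟩] []) (cond (Nat.beq c 81) [⟨158, -1, 1⟩] []))) (cond (Nat.blt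 c 97) (cond (Nat.blt c 88) (cond (Nat.beq c 84) [⟨167, 1, 1⟩] []) (cond (Nat.beq c 88) [⟨171, -1, 1⟩] [])) (cond (Nat.blt c 98) (cond (Nat.beq c 97) [⟨174, 1, 1⟩] []) (cond (Nat.beq c 98) [⟨175, -1, 1⟩] [])))) (cond (Nat.blt c 120) (cond (Nat.blt c 112) (cond (Nat.blt c 109) (cond (Nat.beq c 108) [⟨179, -1, 1⟩] []) (cond (Nat.beq c 109) [⟨180, 1, 1⟩] [])) (cond (Nat.blt c 119) (cond (Nat.beq c 112) [⟨189, -1, 1⟩] []) (cond (Nat.beq c 119) [⟨193, 1, 1⟩] []))) (cond (Nat.blt c 124) (cond (Nat.blt c 123) (cond (Nat.beq c 120) [⟨194, -1, 1⟩] []) (cond (Nat.beq c 123) [⟨196, 1, 1⟩] [])) (cond (Nat.blt c 128) (cond (Nat.beq c 124) [⟨197, -1, 1⟩] []) (cond (Nat.beq c 128) [⟨200, -1, 1⟩] []))))) (cond (Nat.blt c 163) (cond (Nat.blt c 150) (cond (Nat.blt c 139) (cond (Nat.blt c 138) (cond (Nat.beq c 130)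 [⟨201, 1, 1⟩] []) (cond (Nat.beq c 138) [⟨205, -1, 1⟩] [])) (cond (Nat.blt c 142) (cond (Nat.beq c 139) [⟨208, -1, 1⟩] []) (cond (Nat.beq c 142) [⟨211, -1, 1⟩] []))) (cond (Nat.blt c 154) (cond (Nat.blt c 151) (cond (Nat.beq c 150) [⟨215, 1, 1⟩] []) (cond (Nat.beq c 151) [⟨218, 1, 1⟩] [])) (cond (Nat.blt c 160) (cond (Nat.beq c 154) [⟨221, 1, 1⟩] []) (cond (Nat.beq c 160) [⟨227, -1, 1⟩] [])))) (cond (Nat.blt c 188) (cond (Nat.blt c 182) (cond (Nat.blt c 166) (cond (Nat.beq c 163) [⟨230, -1, 1⟩] []) (cond (Nat.beq c 166) [⟨231, -1, 1⟩] [])) (cond (Nat.blt c 185) (cond (Nat.beq c 182) [⟨234, 1, 1⟩] []) (cond (Nat.beq c 185) [⟨237, 1, 1⟩] []))) (cond (Nat.blt c 214) (cond (Nat.blt c 204) (cond (Nat.beq c 188) [⟨238, 1, 1⟩] []) (cond (Nat.beq c 204) [⟨240, -1, 1⟩] [])) (cond (Nat.blt c 223) (cond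 (Nat.beq c 214) [⟨242, -1, 1⟩] []) (cond (Nat.blt c 224) (cond (Nat.beq c 223) [⟨245, -1, 1⟩] []) (cond (Nat.beq c 224) [⟨246, -1, 1⟩] [])))))))

/-- Compiled columns of `x_192` for type E8. -/
def colsE8_192 (c : ℕ) : List CEnt :=
  cond (Nat.blt c 74) (cond (Nat.blt c 25) (cond (Nat.blt c 8) (cond (Nat.blt c 4) (cond (Nat.blt c 2) (cond (Nat.blt c 1) (cond (Nat.beq c 0) [⟨200, 0, 1⟩] []) (cond (Nat.beq c 1) [⟨200, 0, 1⟩] [])) (cond (Nat.blt c 3) (cond (Nat.beq c 2) [⟨200, -1, 1⟩] []) (cond (Nat.beq c 3) [⟨200, 1, 1⟩] []))) (cond (Nat.blt c 6) (cond (Nat.blt c 5) (cond (Nat.beq c 4) [⟨200, 0, 1⟩] []) (cond (Nat.beq c 5) [⟨200, -1, 1⟩] [])) (cond (Nat.blt c 7) (cond (Nat.beq c 6) [⟨200, 1, 1⟩] []) (cond (Nat.beq c 7) [⟨200, -1, 1⟩] [])))) (cond (Nat.blt c 17) (cond (Nat.blt c 13) (cond (Nat.blt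 c 10) (cond (Nat.beq c 8) [⟨31, 1, 1⟩] []) (cond (Nat.beq c 10) [⟨33, -1, 1⟩] [])) (cond (Nat.blt c 15) (cond (Nat.beq c 13) [⟨42, -1, 1⟩] []) (cond (Nat.beq c 15) [⟨52, -1, 1⟩] []))) (cond (Nat.blt c 20) (cond (Nat.blt c 18) (cond (Nat.beq c 17) [⟨68, 1, 1⟩] []) (cond (Nat.beq c 18) [⟨71, 1, 1⟩] [])) (cond (Nat.blt c 24) (cond (Nat.beq c 20) [⟨73, -1, 1⟩] []) (cond (Nat.beq c 24) [⟨90, -1, 1⟩] []))))) (cond (Nat.blt c 54) (cond (Nat.blt c 39) (cond (Nat.blt c 34) (cond (Nat.blt c 27) (cond (Nat.beq c 25) [⟨93, -1, 1⟩] []) (cond (Nat.beq c 27) [⟨95, 1, 1⟩] [])) (cond (Nat.blt c 36) (cond (Nat.beq c 34) [⟨102, 1, 1⟩] []) (cond (Nat.beq c 36) [⟨104, -1, 1⟩] []))) (cond (Nat.blt c 46) (cond (Nat.blt c 44) (cond (Nat.beq c 39) [⟨105, -1, 1⟩] []) (cond (Nat.beq c 44) [⟨114, -1, 1⟩] [])) (cond (Nat.blt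 c 49) (cond (Nat.beq c 46) [⟨116, 1, 1⟩] []) (cond (Nat.beq c 49) [⟨117, 1, 1⟩] [])))) (cond (Nat.blt c 59) (cond (Nat.blt c 56) (cond (Nat.blt c 55) (cond (Nat.beq c 54) [⟨126, 1, 1⟩] []) (cond (Nat.beq c 55) [⟨200, -1, 2⟩, ⟨0, 1, 1⟩, ⟨1, 1, 1⟩, ⟨2, 2, 1⟩, ⟨3, 2, 1⟩, ⟨4, 2, 1⟩, ⟨5, 2, 1⟩, ⟨6, 1, 1⟩, ⟨7, 1, 1⟩] [])) (cond (Nat.blt c 57) (cond (Nat.beq c 56) [⟨128, 1, 1⟩] []) (cond (Nat.beq c 57) [⟨131, 1, 1⟩] []))) (cond (Nat.blt c 62) (cond (Nat.blt c 60) (cond (Nat.beq c 59) [⟨133, -1, 1⟩] []) (cond (Nat.beq c 60) [⟨135, 1, 1⟩] [])) (cond (Nat.blt c 65) (cond (Nat.beq c 62) [⟨137, -1, 1⟩] []) (cond (Nat.beq c 65) [⟨143, 1, 1⟩] [])))))) (cond (Nat.blt c 129) (cond (Nat.blt c 107) (cond (Nat.blt c 84) (cond (Nat.blt c 79) (cond (Nat.blt c 76) (cond (Nat.beq c 74) [⟨146, -1, 1⟩] []) (cond (Nat.beq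 c 76) [⟨148, 1, 1⟩] [])) (cond (Nat.blt c 81) (cond (Nat.beq c 79) [⟨157, 1, 1⟩] []) (cond (Nat.beq c 81) [⟨159, -1, 1⟩] []))) (cond (Nat.blt c 96) (cond (Nat.blt c 87) (cond (Nat.beq c 84) [⟨168, 1, 1⟩] []) (cond (Nat.beq c 87) [⟨171, -1, 1⟩] [])) (cond (Nat.blt c 98) (cond (Nat.beq c 96) [⟨174, 1, 1⟩] []) (cond (Nat.beq c 98) [⟨176, -1, 1⟩] [])))) (cond (Nat.blt c 120) (cond (Nat.blt c 112) (cond (Nat.blt c 109) (cond (Nat.beq c 107) [⟨179, -1, 1⟩] []) (cond (Nat.beq c 109) [⟨181, 1, 1⟩] [])) (cond (Nat.blt c 118) (cond (Nat.beq c 112) [⟨190, -1, 1⟩] []) (cond (Nat.beq c 118) [⟨193, 1, 1⟩] []))) (cond (Nat.blt c 124) (cond (Nat.blt c 122) (cond (Nat.beq c 120) [⟨195, -1, 1⟩] []) (cond (Nat.beq c 122) [⟨196, 1, 1⟩] [])) (cond (Nat.blt c 127) (cond (Nat.beq c 124) [⟨198, -1, 1⟩] []) (cond (Nat.beq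 c 127) [⟨199, -1, 1⟩] []))))) (cond (Nat.blt c 162) (cond (Nat.blt c 150) (cond (Nat.blt c 139) (cond (Nat.blt c 138) (cond (Nat.beq c 129) [⟨201, -1, 1⟩] []) (cond (Nat.beq c 138) [⟨206, -1, 1⟩] [])) (cond (Nat.blt c 141) (cond (Nat.beq c 139) [⟨209, -1, 1⟩] []) (cond (Nat.beq c 141) [⟨211, 1, 1⟩] []))) (cond (Nat.blt c 153) (cond (Nat.blt c 151) (cond (Nat.beq c 150) [⟨216, 1, 1⟩] []) (cond (Nat.beq c 151) [⟨219, 1, 1⟩] [])) (cond (Nat.blt c 160) (cond (Nat.beq c 153) [⟨221, -1, 1⟩] []) (cond (Nat.beq c 160) [⟨228, -1, 1⟩] [])))) (cond (Nat.blt c 187) (cond (Nat.blt c 182) (cond (Nat.blt c 165) (cond (Nat.beq c 162) [⟨230, 1, 1⟩] []) (cond (Nat.beq c 165) [⟨231, 1, 1⟩] [])) (cond (Nat.blt c 184) (cond (Nat.beq c 182) [⟨235, 1, 1⟩] []) (cond (Nat.beq c 184) [⟨237, -1, 1⟩] []))) (cond (Nat.blt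 c 213) (cond (Nat.blt c 203) (cond (Nat.beq c 187) [⟨238, -1, 1⟩] []) (cond (Nat.beq c 203) [⟨240, 1, 1⟩] [])) (cond (Nat.blt c 222) (cond (Nat.beq c 213) [⟨242, 1, 1⟩] []) (cond (Nat.blt c 224) (cond (Nat.beq c 222) [⟨245, 1, 1⟩] []) (cond (Nat.beq c 224) [⟨247, -1, 1⟩] [])))))))

/-- Compiled columns of `x_193` for type E8. -/
def colsE8_193 (c : ℕ) : List CEnt :=
  cond (Nat.blt c 74) (cond (Nat.blt c 25) (cond (Nat.blt c 8) (cond (Nat.blt c 4) (cond (Nat.blt c 2) (cond (Nat.blt c 1) (cond (Nat.beq c 0) [⟨201, 0, 1⟩] []) (cond (Nat.beq c 1) [⟨201, 0, 1⟩] [])) (cond (Nat.blt c 3) (cond (Nat.beq c 2) [⟨201, -1, 1⟩] []) (cond (Nat.beq c 3) [⟨201, 1, 1⟩] []))) (cond (Nat.blt c 6) (cond (Nat.blt c 5) (cond (Nat.beq c 4) [⟨201, 0, 1⟩] []) (cond (Nat.beq c 5) [⟨201, 0, 1⟩] [])) (cond (Nat.blt c 7)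 (cond (Nat.beq c 6) [⟨201, -1, 1⟩] []) (cond (Nat.beq c 7) [⟨201, 0, 1⟩] [])))) (cond (Nat.blt c 17) (cond (Nat.blt c 13) (cond (Nat.blt c 9) (cond (Nat.beq c 8) [⟨32, -1, 1⟩] []) (cond (Nat.beq c 9) [⟨33, -1, 1⟩] [])) (cond (Nat.blt c 15) (cond (Nat.beq c 13) [⟨43, 1, 1⟩] []) (cond (Nat.beq c 15) [⟨53, 1, 1⟩] []))) (cond (Nat.blt c 19) (cond (Nat.blt c 18) (cond (Nat.beq c 17) [⟨69, -1, 1⟩] []) (cond (Nat.beq c 18) [⟨72, -1, 1⟩] [])) (cond (Nat.blt c 24) (cond (Nat.beq c 19) [⟨73, -1, 1⟩] []) (cond (Nat.beq c 24) [⟨91, 1, 1⟩] []))))) (cond (Nat.blt c 54) (cond (Nat.blt c 38) (cond (Nat.blt c 34) (cond (Nat.blt c 26) (cond (Nat.beq c 25) [⟨94, 1, 1⟩] []) (cond (Nat.beq c 26) [⟨95, 1, 1⟩] [])) (cond (Nat.blt c 35) (cond (Nat.beq c 34) [⟨103, -1, 1⟩] []) (cond (Nat.beq c 35) [⟨104, -1, 1⟩] [])))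 (cond (Nat.blt c 45) (cond (Nat.blt c 44) (cond (Nat.beq c 38) [⟨105, -1, 1⟩] []) (cond (Nat.beq c 44) [⟨115, 1, 1⟩] [])) (cond (Nat.blt c 48) (cond (Nat.beq c 45) [⟨116, 1, 1⟩] []) (cond (Nat.beq c 48) [⟨117, 1, 1⟩] [])))) (cond (Nat.blt c 58) (cond (Nat.blt c 56) (cond (Nat.blt c 55) (cond (Nat.beq c 54) [⟨201, -1, 2⟩, ⟨0, 1, 1⟩, ⟨1, 1, 1⟩, ⟨2, 2, 1⟩, ⟨3, 2, 1⟩, ⟨4, 2, 1⟩, ⟨5, 2, 1⟩, ⟨6, 2, 1⟩, ⟨7, 1, 1⟩] []) (cond (Nat.beq c 55) [⟨129, 1, 1⟩] [])) (cond (Nat.blt c 57) (cond (Nat.beq c 56) [⟨130, -1, 1⟩] []) (cond (Nat.beq c 57) [⟨132, 1, 1⟩] []))) (cond (Nat.blt c 61) (cond (Nat.blt c 60) (cond (Nat.beq c 58) [⟨133, -1, 1⟩] []) (cond (Nat.beq c 60) [⟨136, 1, 1⟩] [])) (cond (Nat.blt c 64) (cond (Nat.beq c 61) [⟨137, -1, 1⟩] []) (cond (Nat.beq c 64) [⟨143, 1, 1⟩] [])))))) (cond (Nat.blt c 126)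 (cond (Nat.blt c 107) (cond (Nat.blt c 84) (cond (Nat.blt c 79) (cond (Nat.blt c 75) (cond (Nat.beq c 74) [⟨147, -1, 1⟩] []) (cond (Nat.beq c 75) [⟨148, 1, 1⟩] [])) (cond (Nat.blt c 80) (cond (Nat.beq c 79) [⟨158, 1, 1⟩] []) (cond (Nat.beq c 80) [⟨159, -1, 1⟩] []))) (cond (Nat.blt c 96) (cond (Nat.blt c 86) (cond (Nat.beq c 84) [⟨169, 1, 1⟩] []) (cond (Nat.beq c 86) [⟨171, -1, 1⟩] [])) (cond (Nat.blt c 97) (cond (Nat.beq c 96) [⟨175, 1, 1⟩] []) (cond (Nat.beq c 97) [⟨176, -1, 1⟩] [])))) (cond (Nat.blt c 119) (cond (Nat.blt c 112) (cond (Nat.blt c 108) (cond (Nat.beq c 107) [⟨180, -1, 1⟩] []) (cond (Nat.beq c 108) [⟨181, 1, 1⟩] [])) (cond (Nat.blt c 118) (cond (Nat.beq c 112) [⟨191, -1, 1⟩] []) (cond (Nat.beq c 118) [⟨194, 1, 1⟩] []))) (cond (Nat.blt c 123) (cond (Nat.blt c 122) (cond (Nat.beq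 c 119) [⟨195, -1, 1⟩] []) (cond (Nat.beq c 122) [⟨197, 1, 1⟩] [])) (cond (Nat.blt c 125) (cond (Nat.beq c 123) [⟨198, -1, 1⟩] []) (cond (Nat.beq c 125) [⟨199, 1, 1⟩] []))))) (cond (Nat.blt c 161) (cond (Nat.blt c 150) (cond (Nat.blt c 139) (cond (Nat.blt c 138) (cond (Nat.beq c 126) [⟨200, -1, 1⟩] []) (cond (Nat.beq c 138) [⟨207, -1, 1⟩] [])) (cond (Nat.blt c 140) (cond (Nat.beq c 139) [⟨210, -1, 1⟩] []) (cond (Nat.beq c 140) [⟨211, -1, 1⟩] []))) (cond (Nat.blt c 152) (cond (Nat.blt c 151) (cond (Nat.beq c 150) [⟨217, 1, 1⟩] []) (cond (Nat.beq c 151) [⟨220, 1, 1⟩] [])) (cond (Nat.blt c 160) (cond (Nat.beq c 152) [⟨221, 1, 1⟩] []) (cond (Nat.beq c 160) [⟨229, -1, 1⟩] [])))) (cond (Nat.blt c 186) (cond (Nat.blt c 182) (cond (Nat.blt c 164) (cond (Nat.beq c 161) [⟨230, -1, 1⟩] []) (cond (Nat.beq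 c 164) [⟨231, -1, 1⟩] [])) (cond (Nat.blt c 183) (cond (Nat.beq c 182) [⟨236, 1, 1⟩] []) (cond (Nat.beq c 183) [⟨237, 1, 1⟩] []))) (cond (Nat.blt c 212) (cond (Nat.blt c 202) (cond (Nat.beq c 186) [⟨238, 1, 1⟩] []) (cond (Nat.beq c 202) [⟨240, -1, 1⟩] [])) (cond (Nat.blt c 222) (cond (Nat.beq c 212) [⟨242, -1, 1⟩] []) (cond (Nat.blt c 223) (cond (Nat.beq c 222) [⟨246, 1, 1⟩] []) (cond (Nat.beq c 223) [⟨247, 1, 1⟩] [])))))))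

/-- Compiled columns of `x_194` for type E8. -/
def colsE8_194 (c : ℕ) : List CEnt :=
  cond (Nat.blt c 72) (cond (Nat.blt c 27) (cond (Nat.blt c 10) (cond (Nat.blt c 4) (cond (Nat.blt c 2) (cond (Nat.blt c 1) (cond (Nat.beq c 0) [⟨202, 0, 1⟩] []) (cond (Nat.beq c 1) [⟨202, 1, 1⟩] [])) (cond (Nat.blt c 3) (cond (Nat.beq c 2) [⟨202, 0, 1⟩] []) (cond (Nat.beq c 3) [⟨202, -1, 1⟩] []))) (cond (Nat.blt c 6) (cond (Nat.blt c 5) (cond (Nat.beq c 4) [⟨202, 0, 1⟩] []) (cond (Nat.beq c 5) [⟨202, 0, 1⟩] [])) (cond (Nat.blt c 7) (cond (Nat.beq c 6) [⟨202, 1, 1⟩] []) (cond (Nat.beq c 7) [⟨202, 0, 1⟩] [])))) (cond (Nat.blt c 16) (cond (Nat.blt c 12) (cond (Nat.blt c 11) (cond (Nat.beq c 10) [⟨34, 1, 1⟩] []) (cond (Nat.beq c 11) [⟨35, 1, 1⟩] [])) (cond (Nat.blt c 15) (cond (Nat.beq c 12) [⟨38, 1, 1⟩] []) (cond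 (Nat.beq c 15) [⟨54, -1, 1⟩] []))) (cond (Nat.blt c 21) (cond (Nat.blt c 20) (cond (Nat.beq c 16) [⟨64, -1, 1⟩] []) (cond (Nat.beq c 20) [⟨74, 1, 1⟩] [])) (cond (Nat.blt c 23) (cond (Nat.beq c 21) [⟨75, 1, 1⟩] []) (cond (Nat.beq c 23) [⟨86, 1, 1⟩] []))))) (cond (Nat.blt c 50) (cond (Nat.blt c 43) (cond (Nat.blt c 32) (cond (Nat.blt c 28) (cond (Nat.beq c 27) [⟨96, -1, 1⟩] []) (cond (Nat.beq c 28) [⟨97, -1, 1⟩] [])) (cond (Nat.blt c 33) (cond (Nat.beq c 32) [⟨101, -1, 1⟩] []) (cond (Nat.beq c 33) [⟨102, -1, 1⟩] []))) (cond (Nat.blt c 47) (cond (Nat.blt c 46) (cond (Nat.beq c 43) [⟨106, 1, 1⟩] []) (cond (Nat.beq c 46) [⟨118, 1, 1⟩] [])) (cond (Nat.blt c 49) (cond (Nat.beq c 47) [⟨119, 1, 1⟩] []) (cond (Nat.beq c 49) [⟨122, -1, 1⟩] [])))) (cond (Nat.blt c 59) (cond (Nat.blt c 52) (cond (Nat.blt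 c 51) (cond (Nat.beq c 50) [⟨123, -1, 1⟩] []) (cond (Nat.beq c 51) [⟨125, 1, 1⟩] [])) (cond (Nat.blt c 53) (cond (Nat.beq c 52) [⟨126, 1, 1⟩] []) (cond (Nat.beq c 53) [⟨202, -1, 2⟩, ⟨0, 1, 1⟩, ⟨1, 1, 1⟩, ⟨2, 2, 1⟩, ⟨3, 3, 1⟩, ⟨4, 2, 1⟩, ⟨5, 1, 1⟩, ⟨6, 0, 1⟩, ⟨7, 0, 1⟩] []))) (cond (Nat.blt c 63) (cond (Nat.blt c 62) (cond (Nat.beq c 59) [⟨138, 1, 1⟩] []) (cond (Nat.beq c 62) [⟨139, -1, 1⟩] [])) (cond (Nat.blt c 69) (cond (Nat.beq c 63) [⟨140, 1, 1⟩] []) (cond (Nat.beq c 69) [⟨144, 1, 1⟩] [])))))) (cond (Nat.blt c 132) (cond (Nat.blt c 109) (cond (Nat.blt c 83) (cond (Nat.blt c 81) (cond (Nat.blt c 73) (cond (Nat.beq c 72) [⟨145, -1, 1⟩] []) (cond (Nat.beq c 73) [⟨146, 1, 1⟩] [])) (cond (Nat.blt c 82) (cond (Nat.beq c 81) [⟨160, 1, 1⟩] []) (cond (Nat.beq c 82) [⟨161, -1, 1⟩] []))) (cond (Nat.blt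 c 94) (cond (Nat.blt c 91) (cond (Nat.beq c 83) [⟨164, 1, 1⟩] []) (cond (Nat.beq c 91) [⟨172, -1, 1⟩] [])) (cond (Nat.blt c 95) (cond (Nat.beq c 94) [⟨173, 1, 1⟩] []) (cond (Nat.beq c 95) [⟨174, -1, 1⟩] [])))) (cond (Nat.blt c 116) (cond (Nat.blt c 111) (cond (Nat.blt c 110) (cond (Nat.beq c 109) [⟨182, -1, 1⟩] []) (cond (Nat.beq c 110) [⟨183, 1, 1⟩] [])) (cond (Nat.blt c 115) (cond (Nat.beq c 111) [⟨186, -1, 1⟩] []) (cond (Nat.beq c 115) [⟨192, -1, 1⟩] []))) (cond (Nat.blt c 129) (cond (Nat.blt c 117) (cond (Nat.beq c 116) [⟨193, 1, 1⟩] []) (cond (Nat.beq c 117) [⟨196, -1, 1⟩] [])) (cond (Nat.blt c 130) (cond (Nat.beq c 129) [⟨203, -1, 1⟩] []) (cond (Nat.beq c 130) [⟨204, -1, 1⟩] []))))) (cond (Nat.blt c 159) (cond (Nat.blt c 149) (cond (Nat.blt c 136) (cond (Nat.blt c 133) (cond (Nat.beq c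 132) [⟨205, 1, 1⟩] []) (cond (Nat.beq c 133) [⟨206, 1, 1⟩] [])) (cond (Nat.blt c 137) (cond (Nat.beq c 136) [⟨208, -1, 1⟩] []) (cond (Nat.beq c 137) [⟨209, -1, 1⟩] []))) (cond (Nat.blt c 154) (cond (Nat.blt c 153) (cond (Nat.beq c 149) [⟨212, -1, 1⟩] []) (cond (Nat.beq c 153) [⟨222, 1, 1⟩] [])) (cond (Nat.blt c 158) (cond (Nat.beq c 154) [⟨223, 1, 1⟩] []) (cond (Nat.beq c 158) [⟨227, 1, 1⟩] [])))) (cond (Nat.blt c 191) (cond (Nat.blt c 180) (cond (Nat.blt c 169) (cond (Nat.beq c 159) [⟨228, 1, 1⟩] []) (cond (Nat.beq c 169) [⟨232, -1, 1⟩] [])) (cond (Nat.blt c 181) (cond (Nat.beq c 180) [⟨234, -1, 1⟩] []) (cond (Nat.beq c 181) [⟨235, -1, 1⟩] []))) (cond (Nat.blt c 217) (cond (Nat.blt c 201) (cond (Nat.beq c 191) [⟨239, 1, 1⟩] []) (cond (Nat.beq c 201) [⟨240, 1, 1⟩] [])) (cond (Nat.blt c 220) (cond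 (Nat.beq c 217) [⟨243, -1, 1⟩] []) (cond (Nat.blt c 221) (cond (Nat.beq c 220) [⟨244, -1, 1⟩] []) (cond (Nat.beq c 221) [⟨245, -1, 1⟩] [])))))))

/-- Compiled columns of `x_195` for type E8. -/
def colsE8_195 (c : ℕ) : List CEnt :=
  cond (Nat.blt c 71) (cond (Nat.blt c 26) (cond (Nat.blt c 9) (cond (Nat.blt c 4) (cond (Nat.blt c 2) (cond (Nat.blt c 1) (cond (Nat.beq c 0) [⟨203, 0, 1⟩] []) (cond (Nat.beq c 1) [⟨203, 1, 1⟩] [])) (cond (Nat.blt c 3) (cond (Nat.beq c 2) [⟨203, 0, 1⟩] []) (cond (Nat.beq c 3) [⟨203, -1, 1⟩] []))) (cond (Nat.blt c 6) (cond (Nat.blt c 5) (cond (Nat.beq c 4) [⟨203, 0, 1⟩] []) (cond (Nat.beq c 5) [⟨203, 1, 1⟩] [])) (cond (Nat.blt c 7) (cond (Nat.beq c 6) [⟨203, -1, 1⟩] []) (cond (Nat.beq c 7) [⟨203, 1, 1⟩] [])))) (cond (Nat.blt c 16) (cond (Nat.blt c 12) (cond (Nat.blt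 c 11) (cond (Nat.beq c 9) [⟨34, 1, 1⟩] []) (cond (Nat.beq c 11) [⟨36, -1, 1⟩] [])) (cond (Nat.blt c 15) (cond (Nat.beq c 12) [⟨39, -1, 1⟩] []) (cond (Nat.beq c 15) [⟨55, 1, 1⟩] []))) (cond (Nat.blt c 21) (cond (Nat.blt c 19) (cond (Nat.beq c 16) [⟨65, 1, 1⟩] []) (cond (Nat.beq c 19) [⟨74, 1, 1⟩] [])) (cond (Nat.blt c 23) (cond (Nat.beq c 21) [⟨76, -1, 1⟩] []) (cond (Nat.beq c 23) [⟨87, -1, 1⟩] []))))) (cond (Nat.blt c 50) (cond (Nat.blt c 42) (cond (Nat.blt c 31) (cond (Nat.blt c 28) (cond (Nat.beq c 26) [⟨96, -1, 1⟩] []) (cond (Nat.beq c 28) [⟨98, 1, 1⟩] [])) (cond (Nat.blt c 33) (cond (Nat.beq c 31) [⟨101, -1, 1⟩] []) (cond (Nat.beq c 33) [⟨103, 1, 1⟩] []))) (cond (Nat.blt c 47) (cond (Nat.blt c 45) (cond (Nat.beq c 42) [⟨106, 1, 1⟩] []) (cond (Nat.beq c 45) [⟨118, 1, 1⟩] [])) (cond (Nat.blt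 c 48) (cond (Nat.beq c 47) [⟨120, -1, 1⟩] []) (cond (Nat.beq c 48) [⟨122, -1, 1⟩] [])))) (cond (Nat.blt c 58) (cond (Nat.blt c 52) (cond (Nat.blt c 51) (cond (Nat.beq c 50) [⟨124, 1, 1⟩] []) (cond (Nat.beq c 51) [⟨127, 1, 1⟩] [])) (cond (Nat.blt c 53) (cond (Nat.beq c 52) [⟨203, -1, 2⟩, ⟨0, 1, 1⟩, ⟨1, 1, 1⟩, ⟨2, 2, 1⟩, ⟨3, 3, 1⟩, ⟨4, 2, 1⟩, ⟨5, 1, 1⟩, ⟨6, 1, 1⟩, ⟨7, 0, 1⟩] []) (cond (Nat.beq c 53) [⟨129, 1, 1⟩] []))) (cond (Nat.blt c 63) (cond (Nat.blt c 61) (cond (Nat.beq c 58) [⟨138, 1, 1⟩] []) (cond (Nat.beq c 61) [⟨139, -1, 1⟩] [])) (cond (Nat.blt c 68) (cond (Nat.beq c 63) [⟨141, 1, 1⟩] []) (cond (Nat.beq c 68) [⟨144, 1, 1⟩] [])))))) (cond (Nat.blt c 131) (cond (Nat.blt c 108) (cond (Nat.blt c 83) (cond (Nat.blt c 80) (cond (Nat.blt c 73) (cond (Nat.beq c 71) [⟨145, -1, 1⟩] []) (cond (Nat.beq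 c 73) [⟨147, 1, 1⟩] [])) (cond (Nat.blt c 82) (cond (Nat.beq c 80) [⟨160, 1, 1⟩] []) (cond (Nat.beq c 82) [⟨162, -1, 1⟩] []))) (cond (Nat.blt c 93) (cond (Nat.blt c 90) (cond (Nat.beq c 83) [⟨165, 1, 1⟩] []) (cond (Nat.beq c 90) [⟨172, -1, 1⟩] [])) (cond (Nat.blt c 95) (cond (Nat.beq c 93) [⟨173, 1, 1⟩] []) (cond (Nat.beq c 95) [⟨175, -1, 1⟩] [])))) (cond (Nat.blt c 116) (cond (Nat.blt c 111) (cond (Nat.blt c 110) (cond (Nat.beq c 108) [⟨182, -1, 1⟩] []) (cond (Nat.beq c 110) [⟨184, 1, 1⟩] [])) (cond (Nat.blt c 114) (cond (Nat.beq c 111) [⟨187, -1, 1⟩] []) (cond (Nat.beq c 114) [⟨192, -1, 1⟩] []))) (cond (Nat.blt c 126) (cond (Nat.blt c 117) (cond (Nat.beq c 116) [⟨194, 1, 1⟩] []) (cond (Nat.beq c 117) [⟨197, -1, 1⟩] [])) (cond (Nat.blt c 128) (cond (Nat.beq c 126) [⟨202, -1, 1⟩] []) (cond (Nat.beq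 c 128) [⟨204, -1, 1⟩] []))))) (cond (Nat.blt c 159) (cond (Nat.blt c 149) (cond (Nat.blt c 135) (cond (Nat.blt c 133) (cond (Nat.beq c 131) [⟨205, -1, 1⟩] []) (cond (Nat.beq c 133) [⟨207, 1, 1⟩] [])) (cond (Nat.blt c 137) (cond (Nat.beq c 135) [⟨208, 1, 1⟩] []) (cond (Nat.beq c 137) [⟨210, -1, 1⟩] []))) (cond (Nat.blt c 154) (cond (Nat.blt c 152) (cond (Nat.beq c 149) [⟨213, -1, 1⟩] []) (cond (Nat.beq c 152) [⟨222, -1, 1⟩] [])) (cond (Nat.blt c 157) (cond (Nat.beq c 154) [⟨224, 1, 1⟩] []) (cond (Nat.beq c 157) [⟨227, -1, 1⟩] [])))) (cond (Nat.blt c 190) (cond (Nat.blt c 179) (cond (Nat.blt c 168) (cond (Nat.beq c 159) [⟨229, 1, 1⟩] []) (cond (Nat.beq c 168) [⟨232, 1, 1⟩] [])) (cond (Nat.blt c 181) (cond (Nat.beq c 179) [⟨234, 1, 1⟩] []) (cond (Nat.beq c 181) [⟨236, -1, 1⟩] []))) (cond (Nat.blt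 c 216) (cond (Nat.blt c 200) (cond (Nat.beq c 190) [⟨239, -1, 1⟩] []) (cond (Nat.beq c 200) [⟨240, -1, 1⟩] [])) (cond (Nat.blt c 219) (cond (Nat.beq c 216) [⟨243, 1, 1⟩] []) (cond (Nat.blt c 221) (cond (Nat.beq c 219) [⟨244, 1, 1⟩] []) (cond (Nat.beq c 221) [⟨246, -1, 1⟩] [])))))))

/-- Compiled columns of `x_196` for type E8. -/
def colsE8_196 (c : ℕ) : List CEnt :=
  cond (Nat.blt c 70) (cond (Nat.blt c 26) (cond (Nat.blt c 8) (cond (Nat.blt c 4) (cond (Nat.blt c 2) (cond (Nat.blt c 1) (cond (Nat.beq c 0) [⟨204, 0, 1⟩] []) (cond (Nat.beq c 1) [⟨204, 1, 1⟩] [])) (cond (Nat.blt c 3) (cond (Nat.beq c 2) [⟨204, 0, 1⟩] []) (cond (Nat.beq c 3) [⟨204, -1, 1⟩] []))) (cond (Nat.blt c 6) (cond (Nat.blt c 5) (cond (Nat.beq c 4) [⟨204, 0, 1⟩] []) (cond (Nat.beq c 5) [⟨204, 1, 1⟩] [])) (cond (Nat.blt c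 7) (cond (Nat.beq c 6) [⟨204, 0, 1⟩] []) (cond (Nat.beq c 7) [⟨204, -1, 1⟩] [])))) (cond (Nat.blt c 16) (cond (Nat.blt c 12) (cond (Nat.blt c 11) (cond (Nat.beq c 8) [⟨34, 1, 1⟩] []) (cond (Nat.beq c 11) [⟨37, 1, 1⟩] [])) (cond (Nat.blt c 15) (cond (Nat.beq c 12) [⟨40, 1, 1⟩] []) (cond (Nat.beq c 15) [⟨56, -1, 1⟩] []))) (cond (Nat.blt c 20) (cond (Nat.blt c 19) (cond (Nat.beq c 16) [⟨66, -1, 1⟩] []) (cond (Nat.beq c 19) [⟨75, -1, 1⟩] [])) (cond (Nat.blt c 23) (cond (Nat.beq c 20) [⟨76, -1, 1⟩] []) (cond (Nat.beq c 23) [⟨88, 1, 1⟩] []))))) (cond (Nat.blt c 49) (cond (Nat.blt c 41) (cond (Nat.blt c 31) (cond (Nat.blt c 27) (cond (Nat.beq c 26) [⟨97, 1, 1⟩] []) (cond (Nat.beq c 27) [⟨98, 1, 1⟩] [])) (cond (Nat.blt c 32) (cond (Nat.beq c 31) [⟨102, 1, 1⟩] []) (cond (Nat.beq c 32) [⟨103, 1, 1⟩] [])))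 (cond (Nat.blt c 46) (cond (Nat.blt c 45) (cond (Nat.beq c 41) [⟨106, 1, 1⟩] []) (cond (Nat.beq c 45) [⟨119, -1, 1⟩] [])) (cond (Nat.blt c 48) (cond (Nat.beq c 46) [⟨120, -1, 1⟩] []) (cond (Nat.beq c 48) [⟨123, 1, 1⟩] [])))) (cond (Nat.blt c 57) (cond (Nat.blt c 52) (cond (Nat.blt c 51) (cond (Nat.beq c 49) [⟨124, 1, 1⟩] []) (cond (Nat.beq c 51) [⟨204, -1, 2⟩, ⟨0, 1, 1⟩, ⟨1, 1, 1⟩, ⟨2, 2, 1⟩, ⟨3, 3, 1⟩, ⟨4, 2, 1⟩, ⟨5, 1, 1⟩, ⟨6, 1, 1⟩, ⟨7, 1, 1⟩] [])) (cond (Nat.blt c 53) (cond (Nat.beq c 52) [⟨128, 1, 1⟩] []) (cond (Nat.beq c 53) [⟨130, 1, 1⟩] []))) (cond (Nat.blt c 63) (cond (Nat.blt c 60) (cond (Nat.beq c 57) [⟨138, 1, 1⟩] []) (cond (Nat.beq c 60) [⟨139, -1, 1⟩] [])) (cond (Nat.blt c 67) (cond (Nat.beq c 63) [⟨142, 1, 1⟩] []) (cond (Nat.beq c 67) [⟨144, 1, 1⟩] [])))))) (cond (Nat.blt c 131)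 (cond (Nat.blt c 107) (cond (Nat.blt c 83) (cond (Nat.blt c 79) (cond (Nat.blt c 73) (cond (Nat.beq c 70) [⟨145, -1, 1⟩] []) (cond (Nat.beq c 73) [⟨148, 1, 1⟩] [])) (cond (Nat.blt c 82) (cond (Nat.beq c 79) [⟨160, 1, 1⟩] []) (cond (Nat.beq c 82) [⟨163, -1, 1⟩] []))) (cond (Nat.blt c 92) (cond (Nat.blt c 89) (cond (Nat.beq c 83) [⟨166, 1, 1⟩] []) (cond (Nat.beq c 89) [⟨172, -1, 1⟩] [])) (cond (Nat.blt c 95) (cond (Nat.beq c 92) [⟨173, 1, 1⟩] []) (cond (Nat.beq c 95) [⟨176, -1, 1⟩] [])))) (cond (Nat.blt c 116) (cond (Nat.blt c 111) (cond (Nat.blt c 110) (cond (Nat.beq c 107) [⟨182, -1, 1⟩] []) (cond (Nat.beq c 110) [⟨185, 1, 1⟩] [])) (cond (Nat.blt c 113) (cond (Nat.beq c 111) [⟨188, -1, 1⟩] []) (cond (Nat.beq c 113) [⟨192, -1, 1⟩] []))) (cond (Nat.blt c 125) (cond (Nat.blt c 117) (cond (Nat.beq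 c 116) [⟨195, 1, 1⟩] []) (cond (Nat.beq c 117) [⟨198, -1, 1⟩] [])) (cond (Nat.blt c 127) (cond (Nat.beq c 125) [⟨202, -1, 1⟩] []) (cond (Nat.beq c 127) [⟨203, -1, 1⟩] []))))) (cond (Nat.blt c 158) (cond (Nat.blt c 149) (cond (Nat.blt c 135) (cond (Nat.blt c 132) (cond (Nat.beq c 131) [⟨206, -1, 1⟩] []) (cond (Nat.beq c 132) [⟨207, -1, 1⟩] [])) (cond (Nat.blt c 136) (cond (Nat.beq c 135) [⟨209, 1, 1⟩] []) (cond (Nat.beq c 136) [⟨210, 1, 1⟩] []))) (cond (Nat.blt c 153) (cond (Nat.blt c 152) (cond (Nat.beq c 149) [⟨214, -1, 1⟩] []) (cond (Nat.beq c 152) [⟨223, -1, 1⟩] [])) (cond (Nat.blt c 157) (cond (Nat.beq c 153) [⟨224, -1, 1⟩] []) (cond (Nat.beq c 157) [⟨228, -1, 1⟩] [])))) (cond (Nat.blt c 189) (cond (Nat.blt c 179) (cond (Nat.blt c 167) (cond (Nat.beq c 158) [⟨229, -1, 1⟩] []) (cond (Nat.beq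 c 167) [⟨232, -1, 1⟩] [])) (cond (Nat.blt c 180) (cond (Nat.beq c 179) [⟨235, 1, 1⟩] []) (cond (Nat.beq c 180) [⟨236, 1, 1⟩] []))) (cond (Nat.blt c 215) (cond (Nat.blt c 199) (cond (Nat.beq c 189) [⟨239, 1, 1⟩] []) (cond (Nat.beq c 199) [⟨240, 1, 1⟩] [])) (cond (Nat.blt c 218) (cond (Nat.beq c 215) [⟨243, -1, 1⟩] []) (cond (Nat.blt c 221) (cond (Nat.beq c 218) [⟨244, -1, 1⟩] []) (cond (Nat.beq c 221) [⟨247, -1, 1⟩] [])))))))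

/-- Compiled columns of `x_197` for type E8. -/
def colsE8_197 (c : ℕ) : List CEnt :=
  cond (Nat.blt c 71) (cond (Nat.blt c 25) (cond (Nat.blt c 9) (cond (Nat.blt c 4) (cond (Nat.blt c 2) (cond (Nat.blt c 1) (cond (Nat.beq c 0) [⟨205, 0, 1⟩] []) (cond (Nat.beq c 1) [⟨205, 1, 1⟩] [])) (cond (Nat.blt c 3) (cond (Nat.beq c 2) [⟨205, 0, 1⟩] []) (cond (Nat.beq c 3) [⟨205, -1, 1⟩] []))) (cond (Nat.blt c 6) (cond (Nat.blt c 5) (cond (Nat.beq c 4) [⟨205, 1, 1⟩] []) (cond (Nat.beq c 5) [⟨205, -1, 1⟩] [])) (cond (Nat.blt c 7) (cond (Nat.beq c 6) [⟨205, 0, 1⟩] []) (cond (Nat.beq c 7) [⟨205, 1, 1⟩] [])))) (cond (Nat.blt c 16) (cond (Nat.blt c 12) (cond (Nat.blt c 10) (cond (Nat.beq c 9) [⟨35, -1, 1⟩] []) (cond (Nat.beq c 10) [⟨36, -1, 1⟩] [])) (cond (Nat.blt c 15) (cond (Nat.beq c 12) [⟨41, 1, 1⟩] [])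 (cond (Nat.beq c 15) [⟨57, -1, 1⟩] []))) (cond (Nat.blt c 21) (cond (Nat.blt c 18) (cond (Nat.beq c 16) [⟨67, -1, 1⟩] []) (cond (Nat.beq c 18) [⟨74, 1, 1⟩] [])) (cond (Nat.blt c 23) (cond (Nat.beq c 21) [⟨77, 1, 1⟩] []) (cond (Nat.beq c 23) [⟨89, 1, 1⟩] []))))) (cond (Nat.blt c 49) (cond (Nat.blt c 40) (cond (Nat.blt c 30) (cond (Nat.blt c 28) (cond (Nat.beq c 25) [⟨96, -1, 1⟩] []) (cond (Nat.beq c 28) [⟨99, -1, 1⟩] [])) (cond (Nat.blt c 33) (cond (Nat.beq c 30) [⟨101, -1, 1⟩] []) (cond (Nat.beq c 33) [⟨104, -1, 1⟩] []))) (cond (Nat.blt c 47) (cond (Nat.blt c 44) (cond (Nat.beq c 40) [⟨106, 1, 1⟩] []) (cond (Nat.beq c 44) [⟨118, 1, 1⟩] [])) (cond (Nat.blt c 48) (cond (Nat.beq c 47) [⟨121, 1, 1⟩] []) (cond (Nat.beq c 48) [⟨125, -1, 1⟩] [])))) (cond (Nat.blt c 56) (cond (Nat.blt c 52) (cond (Nat.blt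 c 50) (cond (Nat.beq c 49) [⟨127, 1, 1⟩] []) (cond (Nat.beq c 50) [⟨205, -1, 2⟩, ⟨0, 1, 1⟩, ⟨1, 1, 1⟩, ⟨2, 2, 1⟩, ⟨3, 3, 1⟩, ⟨4, 2, 1⟩, ⟨5, 2, 1⟩, ⟨6, 1, 1⟩, ⟨7, 0, 1⟩] [])) (cond (Nat.blt c 53) (cond (Nat.beq c 52) [⟨131, 1, 1⟩] []) (cond (Nat.beq c 53) [⟨132, -1, 1⟩] []))) (cond (Nat.blt c 62) (cond (Nat.blt c 61) (cond (Nat.beq c 56) [⟨138, 1, 1⟩] []) (cond (Nat.beq c 61) [⟨140, -1, 1⟩] [])) (cond (Nat.blt c 66) (cond (Nat.beq c 62) [⟨141, 1, 1⟩] []) (cond (Nat.beq c 66) [⟨144, 1, 1⟩] [])))))) (cond (Nat.blt c 128) (cond (Nat.blt c 108) (cond (Nat.blt c 83) (cond (Nat.blt c 80) (cond (Nat.blt c 72) (cond (Nat.beq c 71) [⟨146, -1, 1⟩] []) (cond (Nat.beq c 72) [⟨147, 1, 1⟩] [])) (cond (Nat.blt c 81) (cond (Nat.beq c 80) [⟨161, 1, 1⟩] []) (cond (Nat.beq c 81) [⟨162, -1, 1⟩] []))) (cond (Nat.blt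 c 93) (cond (Nat.blt c 88) (cond (Nat.beq c 83) [⟨167, 1, 1⟩] []) (cond (Nat.beq c 88) [⟨172, -1, 1⟩] [])) (cond (Nat.blt c 94) (cond (Nat.beq c 93) [⟨174, 1, 1⟩] []) (cond (Nat.beq c 94) [⟨175, -1, 1⟩] [])))) (cond (Nat.blt c 115) (cond (Nat.blt c 111) (cond (Nat.blt c 109) (cond (Nat.beq c 108) [⟨183, -1, 1⟩] []) (cond (Nat.beq c 109) [⟨184, 1, 1⟩] [])) (cond (Nat.blt c 114) (cond (Nat.beq c 111) [⟨189, -1, 1⟩] []) (cond (Nat.beq c 114) [⟨193, -1, 1⟩] []))) (cond (Nat.blt c 123) (cond (Nat.blt c 117) (cond (Nat.beq c 115) [⟨194, 1, 1⟩] []) (cond (Nat.beq c 117) [⟨199, -1, 1⟩] [])) (cond (Nat.blt c 124) (cond (Nat.beq c 123) [⟨202, 1, 1⟩] []) (cond (Nat.beq c 124) [⟨203, -1, 1⟩] []))))) (cond (Nat.blt c 159) (cond (Nat.blt c 149) (cond (Nat.blt c 134) (cond (Nat.blt c 130) (cond (Nat.beq c 128)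 [⟨206, -1, 1⟩] []) (cond (Nat.beq c 130) [⟨207, 1, 1⟩] [])) (cond (Nat.blt c 137) (cond (Nat.beq c 134) [⟨208, -1, 1⟩] []) (cond (Nat.beq c 137) [⟨211, -1, 1⟩] []))) (cond (Nat.blt c 154) (cond (Nat.blt c 151) (cond (Nat.beq c 149) [⟨215, -1, 1⟩] []) (cond (Nat.beq c 151) [⟨222, 1, 1⟩] [])) (cond (Nat.blt c 156) (cond (Nat.beq c 154) [⟨225, 1, 1⟩] []) (cond (Nat.beq c 156) [⟨227, 1, 1⟩] [])))) (cond (Nat.blt c 188) (cond (Nat.blt c 178) (cond (Nat.blt c 166) (cond (Nat.beq c 159) [⟨230, 1, 1⟩] []) (cond (Nat.beq c 166) [⟨232, -1, 1⟩] [])) (cond (Nat.blt c 181) (cond (Nat.beq c 178) [⟨234, -1, 1⟩] []) (cond (Nat.beq c 181) [⟨237, -1, 1⟩] []))) (cond (Nat.blt c 214) (cond (Nat.blt c 198) (cond (Nat.beq c 188) [⟨239, 1, 1⟩] []) (cond (Nat.beq c 198) [⟨240, 1, 1⟩] [])) (cond (Nat.blt c 219) (cond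 (Nat.beq c 214) [⟨243, -1, 1⟩] []) (cond (Nat.blt c 220) (cond (Nat.beq c 219) [⟨245, 1, 1⟩] []) (cond (Nat.beq c 220) [⟨246, 1, 1⟩] [])))))))

/-- Compiled columns of `x_198` for type E8. -/
def colsE8_198 (c : ℕ) : List CEnt :=
  cond (Nat.blt c 70) (cond (Nat.blt c 25) (cond (Nat.blt c 8) (cond (Nat.blt c 4) (cond (Nat.blt c 2) (cond (Nat.blt c 1) (cond (Nat.beq c 0) [⟨206, 0, 1⟩] []) (cond (Nat.beq c 1) [⟨206, 1, 1⟩] [])) (cond (Nat.blt c 3) (cond (Nat.beq c 2) [⟨206, 0, 1⟩] []) (cond (Nat.beq c 3) [⟨206, -1, 1⟩] []))) (cond (Nat.blt c 6) (cond (Nat.blt c 5) (cond (Nat.beq c 4) [⟨206, 1, 1⟩] []) (cond (Nat.beq c 5) [⟨206, -1, 1⟩] [])) (cond (Nat.blt c 7) (cond (Nat.beq c 6) [⟨206, 1, 1⟩] []) (cond (Nat.beq c 7) [⟨206, -1, 1⟩] [])))) (cond (Nat.blt c 16) (cond (Nat.blt c 12) (cond (Nat.blt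 c 10) (cond (Nat.beq c 8) [⟨35, -1, 1⟩] []) (cond (Nat.beq c 10) [⟨37, 1, 1⟩] [])) (cond (Nat.blt c 15) (cond (Nat.beq c 12) [⟨42, -1, 1⟩] []) (cond (Nat.beq c 15) [⟨58, 1, 1⟩] []))) (cond (Nat.blt c 20) (cond (Nat.blt c 18) (cond (Nat.beq c 16) [⟨68, 1, 1⟩] []) (cond (Nat.beq c 18) [⟨75, -1, 1⟩] [])) (cond (Nat.blt c 23) (cond (Nat.beq c 20) [⟨77, 1, 1⟩] []) (cond (Nat.beq c 23) [⟨90, -1, 1⟩] []))))) (cond (Nat.blt c 49) (cond (Nat.blt c 39) (cond (Nat.blt c 30) (cond (Nat.blt c 27) (cond (Nat.beq c 25) [⟨97, 1, 1⟩] []) (cond (Nat.beq c 27) [⟨99, -1, 1⟩] [])) (cond (Nat.blt c 32) (cond (Nat.beq c 30) [⟨102, 1, 1⟩] []) (cond (Nat.beq c 32) [⟨104, -1, 1⟩] []))) (cond (Nat.blt c 46) (cond (Nat.blt c 44) (cond (Nat.beq c 39) [⟨106, 1, 1⟩] []) (cond (Nat.beq c 44) [⟨119, -1, 1⟩] [])) (cond (Nat.blt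 c 48) (cond (Nat.beq c 46) [⟨121, 1, 1⟩] []) (cond (Nat.beq c 48) [⟨126, 1, 1⟩] [])))) (cond (Nat.blt c 55) (cond (Nat.blt c 51) (cond (Nat.blt c 50) (cond (Nat.beq c 49) [⟨206, -1, 2⟩, ⟨0, 1, 1⟩, ⟨1, 1, 1⟩, ⟨2, 2, 1⟩, ⟨3, 3, 1⟩, ⟨4, 2, 1⟩, ⟨5, 2, 1⟩, ⟨6, 1, 1⟩, ⟨7, 1, 1⟩] []) (cond (Nat.beq c 50) [⟨128, 1, 1⟩] [])) (cond (Nat.blt c 53) (cond (Nat.beq c 51) [⟨131, 1, 1⟩] []) (cond (Nat.beq c 53) [⟨133, -1, 1⟩] []))) (cond (Nat.blt c 62) (cond (Nat.blt c 60) (cond (Nat.beq c 55) [⟨138, 1, 1⟩] []) (cond (Nat.beq c 60) [⟨140, -1, 1⟩] [])) (cond (Nat.blt c 65) (cond (Nat.beq c 62) [⟨142, 1, 1⟩] []) (cond (Nat.beq c 65) [⟨144, 1, 1⟩] [])))))) (cond (Nat.blt c 127) (cond (Nat.blt c 107) (cond (Nat.blt c 83) (cond (Nat.blt c 79) (cond (Nat.blt c 72) (cond (Nat.beq c 70) [⟨146, -1, 1⟩] []) (cond (Nat.beq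 c 72) [⟨148, 1, 1⟩] [])) (cond (Nat.blt c 81) (cond (Nat.beq c 79) [⟨161, 1, 1⟩] []) (cond (Nat.beq c 81) [⟨163, -1, 1⟩] []))) (cond (Nat.blt c 92) (cond (Nat.blt c 87) (cond (Nat.beq c 83) [⟨168, 1, 1⟩] []) (cond (Nat.beq c 87) [⟨172, -1, 1⟩] [])) (cond (Nat.blt c 94) (cond (Nat.beq c 92) [⟨174, 1, 1⟩] []) (cond (Nat.beq c 94) [⟨176, -1, 1⟩] [])))) (cond (Nat.blt c 115) (cond (Nat.blt c 111) (cond (Nat.blt c 109) (cond (Nat.beq c 107) [⟨183, -1, 1⟩] []) (cond (Nat.beq c 109) [⟨185, 1, 1⟩] [])) (cond (Nat.blt c 113) (cond (Nat.beq c 111) [⟨190, -1, 1⟩] []) (cond (Nat.beq c 113) [⟨193, -1, 1⟩] []))) (cond (Nat.blt c 122) (cond (Nat.blt c 117) (cond (Nat.beq c 115) [⟨195, 1, 1⟩] []) (cond (Nat.beq c 117) [⟨200, -1, 1⟩] [])) (cond (Nat.blt c 124) (cond (Nat.beq c 122) [⟨202, 1, 1⟩] []) (cond (Nat.beq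 c 124) [⟨204, -1, 1⟩] []))))) (cond (Nat.blt c 158) (cond (Nat.blt c 149) (cond (Nat.blt c 134) (cond (Nat.blt c 129) (cond (Nat.beq c 127) [⟨205, -1, 1⟩] []) (cond (Nat.beq c 129) [⟨207, -1, 1⟩] [])) (cond (Nat.blt c 136) (cond (Nat.beq c 134) [⟨209, -1, 1⟩] []) (cond (Nat.beq c 136) [⟨211, 1, 1⟩] []))) (cond (Nat.blt c 153) (cond (Nat.blt c 151) (cond (Nat.beq c 149) [⟨216, -1, 1⟩] []) (cond (Nat.beq c 151) [⟨223, 1, 1⟩] [])) (cond (Nat.blt c 156) (cond (Nat.beq c 153) [⟨225, -1, 1⟩] []) (cond (Nat.beq c 156) [⟨228, 1, 1⟩] [])))) (cond (Nat.blt c 187) (cond (Nat.blt c 178) (cond (Nat.blt c 165) (cond (Nat.beq c 158) [⟨230, -1, 1⟩] []) (cond (Nat.beq c 165) [⟨232, 1, 1⟩] [])) (cond (Nat.blt c 180) (cond (Nat.beq c 178) [⟨235, -1, 1⟩] []) (cond (Nat.beq c 180) [⟨237, 1, 1⟩] []))) (cond (Nat.blt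 c 213) (cond (Nat.blt c 197) (cond (Nat.beq c 187) [⟨239, -1, 1⟩] []) (cond (Nat.beq c 197) [⟨240, -1, 1⟩] [])) (cond (Nat.blt c 218) (cond (Nat.beq c 213) [⟨243, 1, 1⟩] []) (cond (Nat.blt c 220) (cond (Nat.beq c 218) [⟨245, -1, 1⟩] []) (cond (Nat.beq c 220) [⟨247, 1, 1⟩] [])))))))

/-- Compiled columns of `x_199` for type E8. -/
def colsE8_199 (c : ℕ) : List CEnt :=
  cond (Nat.blt c 70) (cond (Nat.blt c 25) (cond (Nat.blt c 8) (cond (Nat.blt c 4) (cond (Nat.blt c 2) (cond (Nat.blt c 1) (cond (Nat.beq c 0) [⟨207, 0, 1⟩] []) (cond (Nat.beq c 1) [⟨207, 1, 1⟩] [])) (cond (Nat.blt c 3) (cond (Nat.beq c 2) [⟨207, 0, 1⟩] []) (cond (Nat.beq c 3) [⟨207, -1, 1⟩] []))) (cond (Nat.blt c 6) (cond (Nat.blt c 5) (cond (Nat.beq c 4) [⟨207, 1, 1⟩] []) (cond (Nat.beq c 5) [⟨207, 0, 1⟩] [])) (cond (Nat.blt c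 7) (cond (Nat.beq c 6) [⟨207, -1, 1⟩] []) (cond (Nat.beq c 7) [⟨207, 0, 1⟩] [])))) (cond (Nat.blt c 16) (cond (Nat.blt c 12) (cond (Nat.blt c 9) (cond (Nat.beq c 8) [⟨36, 1, 1⟩] []) (cond (Nat.beq c 9) [⟨37, 1, 1⟩] [])) (cond (Nat.blt c 15) (cond (Nat.beq c 12) [⟨43, 1, 1⟩] []) (cond (Nat.beq c 15) [⟨59, -1, 1⟩] []))) (cond (Nat.blt c 19) (cond (Nat.blt c 18) (cond (Nat.beq c 16) [⟨69, -1, 1⟩] []) (cond (Nat.beq c 18) [⟨76, 1, 1⟩] [])) (cond (Nat.blt c 23) (cond (Nat.beq c 19) [⟨77, 1, 1⟩] []) (cond (Nat.beq c 23) [⟨91, 1, 1⟩] []))))) (cond (Nat.blt c 49) (cond (Nat.blt c 38) (cond (Nat.blt c 30) (cond (Nat.blt c 26) (cond (Nat.beq c 25) [⟨98, -1, 1⟩] []) (cond (Nat.beq c 26) [⟨99, -1, 1⟩] [])) (cond (Nat.blt c 31) (cond (Nat.beq c 30) [⟨103, -1, 1⟩] []) (cond (Nat.beq c 31) [⟨104, -1, 1⟩] [])))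 (cond (Nat.blt c 45) (cond (Nat.blt c 44) (cond (Nat.beq c 38) [⟨106, 1, 1⟩] []) (cond (Nat.beq c 44) [⟨120, 1, 1⟩] [])) (cond (Nat.blt c 48) (cond (Nat.beq c 45) [⟨121, 1, 1⟩] []) (cond (Nat.beq c 48) [⟨207, -1, 2⟩, ⟨0, 1, 1⟩, ⟨1, 1, 1⟩, ⟨2, 2, 1⟩, ⟨3, 3, 1⟩, ⟨4, 2, 1⟩, ⟨5, 2, 1⟩, ⟨6, 2, 1⟩, ⟨7, 1, 1⟩] [])))) (cond (Nat.blt c 54) (cond (Nat.blt c 51) (cond (Nat.blt c 50) (cond (Nat.beq c 49) [⟨129, 1, 1⟩] []) (cond (Nat.beq c 50) [⟨130, -1, 1⟩] [])) (cond (Nat.blt c 52) (cond (Nat.beq c 51) [⟨132, 1, 1⟩] []) (cond (Nat.beq c 52) [⟨133, -1, 1⟩] []))) (cond (Nat.blt c 61) (cond (Nat.blt c 60) (cond (Nat.beq c 54) [⟨138, 1, 1⟩] []) (cond (Nat.beq c 60) [⟨141, -1, 1⟩] [])) (cond (Nat.blt c 64) (cond (Nat.beq c 61) [⟨142, 1, 1⟩] []) (cond (Nat.beq c 64) [⟨144, 1, 1⟩] [])))))) (cond (Nat.blt c 125)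 (cond (Nat.blt c 107) (cond (Nat.blt c 83) (cond (Nat.blt c 79) (cond (Nat.blt c 71) (cond (Nat.beq c 70) [⟨147, -1, 1⟩] []) (cond (Nat.beq c 71) [⟨148, 1, 1⟩] [])) (cond (Nat.blt c 80) (cond (Nat.beq c 79) [⟨162, 1, 1⟩] []) (cond (Nat.beq c 80) [⟨163, -1, 1⟩] []))) (cond (Nat.blt c 92) (cond (Nat.blt c 86) (cond (Nat.beq c 83) [⟨169, 1, 1⟩] []) (cond (Nat.beq c 86) [⟨172, -1, 1⟩] [])) (cond (Nat.blt c 93) (cond (Nat.beq c 92) [⟨175, 1, 1⟩] []) (cond (Nat.beq c 93) [⟨176, -1, 1⟩] [])))) (cond (Nat.blt c 114) (cond (Nat.blt c 111) (cond (Nat.blt c 108) (cond (Nat.beq c 107) [⟨184, -1, 1⟩] []) (cond (Nat.beq c 108) [⟨185, 1, 1⟩] [])) (cond (Nat.blt c 113) (cond (Nat.beq c 111) [⟨191, -1, 1⟩] []) (cond (Nat.beq c 113) [⟨194, -1, 1⟩] []))) (cond (Nat.blt c 122) (cond (Nat.blt c 117) (cond (Nat.beq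 c 114) [⟨195, 1, 1⟩] []) (cond (Nat.beq c 117) [⟨201, -1, 1⟩] [])) (cond (Nat.blt c 123) (cond (Nat.beq c 122) [⟨203, 1, 1⟩] []) (cond (Nat.beq c 123) [⟨204, -1, 1⟩] []))))) (cond (Nat.blt c 157) (cond (Nat.blt c 149) (cond (Nat.blt c 134) (cond (Nat.blt c 126) (cond (Nat.beq c 125) [⟨205, 1, 1⟩] []) (cond (Nat.beq c 126) [⟨206, -1, 1⟩] [])) (cond (Nat.blt c 135) (cond (Nat.beq c 134) [⟨210, -1, 1⟩] []) (cond (Nat.beq c 135) [⟨211, -1, 1⟩] []))) (cond (Nat.blt c 152) (cond (Nat.blt c 151) (cond (Nat.beq c 149) [⟨217, -1, 1⟩] []) (cond (Nat.beq c 151) [⟨224, 1, 1⟩] [])) (cond (Nat.blt c 156) (cond (Nat.beq c 152) [⟨225, 1, 1⟩] []) (cond (Nat.beq c 156) [⟨229, 1, 1⟩] [])))) (cond (Nat.blt c 186) (cond (Nat.blt c 178) (cond (Nat.blt c 164) (cond (Nat.beq c 157) [⟨230, 1, 1⟩] []) (cond (Nat.beq c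 164) [⟨232, -1, 1⟩] [])) (cond (Nat.blt c 179) (cond (Nat.beq c 178) [⟨236, -1, 1⟩] []) (cond (Nat.beq c 179) [⟨237, -1, 1⟩] []))) (cond (Nat.blt c 212) (cond (Nat.blt c 196) (cond (Nat.beq c 186) [⟨239, 1, 1⟩] []) (cond (Nat.beq c 196) [⟨240, 1, 1⟩] [])) (cond (Nat.blt c 218) (cond (Nat.beq c 212) [⟨243, -1, 1⟩] []) (cond (Nat.blt c 219) (cond (Nat.beq c 218) [⟨246, -1, 1⟩] []) (cond (Nat.beq c 219) [⟨247, -1, 1⟩] [])))))))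

/-- Compiled columns of `x_200` for type E8. -/
def colsE8_200 (c : ℕ) : List CEnt :=
  cond (Nat.blt c 68) (cond (Nat.blt c 24) (cond (Nat.blt c 9) (cond (Nat.blt c 4) (cond (Nat.blt c 2) (cond (Nat.blt c 1) (cond (Nat.beq c 0) [⟨208, 0, 1⟩] []) (cond (Nat.beq c 1) [⟨208, 1, 1⟩] [])) (cond (Nat.blt c 3) (cond (Nat.beq c 2) [⟨208, 0, 1⟩] []) (cond (Nat.beq c 3) [⟨208, 0, 1⟩] []))) (cond (Nat.blt c 6) (cond (Nat.blt c 5) (cond (Nat.beq c 4) [⟨208, -1, 1⟩] []) (cond (Nat.beq c 5) [⟨208, 0, 1⟩] [])) (cond (Nat.blt c 7) (cond (Nat.beq c 6) [⟨208, 0, 1⟩] []) (cond (Nat.beq c 7) [⟨208, 1, 1⟩] [])))) (cond (Nat.blt c 16) (cond (Nat.blt c 11) (cond (Nat.blt c 10) (cond (Nat.beq c 9) [⟨38, 1, 1⟩] []) (cond (Nat.beq c 10) [⟨39, 1, 1⟩] [])) (cond (Nat.blt c 15) (cond (Nat.beq c 11) [⟨41, 1, 1⟩] []) (cond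 (Nat.beq c 15) [⟨60, 1, 1⟩] []))) (cond (Nat.blt c 21) (cond (Nat.blt c 17) (cond (Nat.beq c 16) [⟨70, 1, 1⟩] []) (cond (Nat.beq c 17) [⟨74, 1, 1⟩] [])) (cond (Nat.blt c 23) (cond (Nat.beq c 21) [⟨78, -1, 1⟩] []) (cond (Nat.beq c 23) [⟨92, -1, 1⟩] []))))) (cond (Nat.blt c 47) (cond (Nat.blt c 37) (cond (Nat.blt c 29) (cond (Nat.blt c 28) (cond (Nat.beq c 24) [⟨96, -1, 1⟩] []) (cond (Nat.beq c 28) [⟨100, 1, 1⟩] [])) (cond (Nat.blt c 33) (cond (Nat.beq c 29) [⟨101, -1, 1⟩] []) (cond (Nat.beq c 33) [⟨105, 1, 1⟩] []))) (cond (Nat.blt c 45) (cond (Nat.blt c 44) (cond (Nat.beq c 37) [⟨106, 1, 1⟩] []) (cond (Nat.beq c 44) [⟨122, 1, 1⟩] [])) (cond (Nat.blt c 46) (cond (Nat.beq c 45) [⟨125, -1, 1⟩] []) (cond (Nat.beq c 46) [⟨127, 1, 1⟩] [])))) (cond (Nat.blt c 56) (cond (Nat.blt c 52) (cond (Nat.blt c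 50) (cond (Nat.beq c 47) [⟨208, -1, 2⟩, ⟨0, 1, 1⟩, ⟨1, 1, 1⟩, ⟨2, 2, 1⟩, ⟨3, 3, 1⟩, ⟨4, 3, 1⟩, ⟨5, 2, 1⟩, ⟨6, 1, 1⟩, ⟨7, 0, 1⟩] []) (cond (Nat.beq c 50) [⟨134, 1, 1⟩] [])) (cond (Nat.blt c 53) (cond (Nat.beq c 52) [⟨135, -1, 1⟩] []) (cond (Nat.beq c 53) [⟨136, 1, 1⟩] []))) (cond (Nat.blt c 59) (cond (Nat.blt c 58) (cond (Nat.beq c 56) [⟨139, 1, 1⟩] []) (cond (Nat.beq c 58) [⟨140, -1, 1⟩] [])) (cond (Nat.blt c 66) (cond (Nat.beq c 59) [⟨141, 1, 1⟩] []) (cond (Nat.beq c 66) [⟨145, 1, 1⟩] [])))))) (cond (Nat.blt c 121) (cond (Nat.blt c 108) (cond (Nat.blt c 82) (cond (Nat.blt c 80) (cond (Nat.blt c 69) (cond (Nat.beq c 68) [⟨146, -1, 1⟩] []) (cond (Nat.beq c 69) [⟨147, 1, 1⟩] [])) (cond (Nat.blt c 81) (cond (Nat.beq c 80) [⟨164, 1, 1⟩] []) (cond (Nat.beq c 81) [⟨165, -1, 1⟩] []))) (cond (Nat.blt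 c 90) (cond (Nat.blt c 88) (cond (Nat.beq c 82) [⟨167, 1, 1⟩] []) (cond (Nat.beq c 88) [⟨173, -1, 1⟩] [])) (cond (Nat.blt c 91) (cond (Nat.beq c 90) [⟨174, 1, 1⟩] []) (cond (Nat.beq c 91) [⟨175, -1, 1⟩] [])))) (cond (Nat.blt c 115) (cond (Nat.blt c 110) (cond (Nat.blt c 109) (cond (Nat.beq c 108) [⟨186, -1, 1⟩] []) (cond (Nat.beq c 109) [⟨187, 1, 1⟩] [])) (cond (Nat.blt c 114) (cond (Nat.beq c 110) [⟨189, -1, 1⟩] []) (cond (Nat.beq c 114) [⟨196, -1, 1⟩] []))) (cond (Nat.blt c 119) (cond (Nat.blt c 116) (cond (Nat.beq c 115) [⟨197, 1, 1⟩] []) (cond (Nat.beq c 116) [⟨199, -1, 1⟩] [])) (cond (Nat.blt c 120) (cond (Nat.beq c 119) [⟨202, -1, 1⟩] []) (cond (Nat.beq c 120) [⟨203, 1, 1⟩] []))))) (cond (Nat.blt c 159) (cond (Nat.blt c 149) (cond (Nat.blt c 130) (cond (Nat.blt c 128) (cond (Nat.beq c 121)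 [⟨205, -1, 1⟩] []) (cond (Nat.beq c 128) [⟨209, -1, 1⟩] [])) (cond (Nat.blt c 133) (cond (Nat.beq c 130) [⟨210, 1, 1⟩] []) (cond (Nat.beq c 133) [⟨211, -1, 1⟩] []))) (cond (Nat.blt c 154) (cond (Nat.blt c 150) (cond (Nat.beq c 149) [⟨218, -1, 1⟩] []) (cond (Nat.beq c 150) [⟨222, -1, 1⟩] [])) (cond (Nat.blt c 155) (cond (Nat.beq c 154) [⟨226, 1, 1⟩] []) (cond (Nat.beq c 155) [⟨227, -1, 1⟩] [])))) (cond (Nat.blt c 185) (cond (Nat.blt c 177) (cond (Nat.blt c 163) (cond (Nat.beq c 159) [⟨231, 1, 1⟩] []) (cond (Nat.beq c 163) [⟨232, 1, 1⟩] [])) (cond (Nat.blt c 181) (cond (Nat.beq c 177) [⟨234, 1, 1⟩] []) (cond (Nat.beq c 181) [⟨238, -1, 1⟩] []))) (cond (Nat.blt c 214) (cond (Nat.blt c 195) (cond (Nat.beq c 185) [⟨239, -1, 1⟩] []) (cond (Nat.beq c 195) [⟨240, -1, 1⟩] [])) (cond (Nat.blt c 216) (cond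 (Nat.beq c 214) [⟨244, -1, 1⟩] []) (cond (Nat.blt c 217) (cond (Nat.beq c 216) [⟨245, -1, 1⟩] []) (cond (Nat.beq c 217) [⟨246, -1, 1⟩] [])))))))

/-- Compiled columns of `x_201` for type E8. -/
def colsE8_201 (c : ℕ) : List CEnt :=
  cond (Nat.blt c 67) (cond (Nat.blt c 24) (cond (Nat.blt c 8) (cond (Nat.blt c 4) (cond (Nat.blt c 2) (cond (Nat.blt c 1) (cond (Nat.beq c 0) [⟨209, 0, 1⟩] []) (cond (Nat.beq c 1) [⟨209, 1, 1⟩] [])) (cond (Nat.blt c 3) (cond (Nat.beq c 2) [⟨209, 0, 1⟩] []) (cond (Nat.beq c 3) [⟨209, 0, 1⟩] []))) (cond (Nat.blt c 6) (cond (Nat.blt c 5) (cond (Nat.beq c 4) [⟨209, -1, 1⟩] []) (cond (Nat.beq c 5) [⟨209, 0, 1⟩] [])) (cond (Nat.blt c 7) (cond (Nat.beq c 6) [⟨209, 1, 1⟩] []) (cond (Nat.beq c 7) [⟨209, -1, 1⟩] [])))) (cond (Nat.blt c 16) (cond (Nat.blt c 11) (cond (Nat.blt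 c 10) (cond (Nat.beq c 8) [⟨38, 1, 1⟩] []) (cond (Nat.beq c 10) [⟨40, -1, 1⟩] [])) (cond (Nat.blt c 15) (cond (Nat.beq c 11) [⟨42, -1, 1⟩] []) (cond (Nat.beq c 15) [⟨61, -1, 1⟩] []))) (cond (Nat.blt c 20) (cond (Nat.blt c 17) (cond (Nat.beq c 16) [⟨71, -1, 1⟩] []) (cond (Nat.beq c 17) [⟨75, -1, 1⟩] [])) (cond (Nat.blt c 23) (cond (Nat.beq c 20) [⟨78, -1, 1⟩] []) (cond (Nat.beq c 23) [⟨93, 1, 1⟩] []))))) (cond (Nat.blt c 47) (cond (Nat.blt c 36) (cond (Nat.blt c 29) (cond (Nat.blt c 27) (cond (Nat.beq c 24) [⟨97, 1, 1⟩] []) (cond (Nat.beq c 27) [⟨100, 1, 1⟩] [])) (cond (Nat.blt c 32) (cond (Nat.beq c 29) [⟨102, 1, 1⟩] []) (cond (Nat.beq c 32) [⟨105, 1, 1⟩] []))) (cond (Nat.blt c 45) (cond (Nat.blt c 44) (cond (Nat.beq c 36) [⟨106, 1, 1⟩] []) (cond (Nat.beq c 44) [⟨123, -1, 1⟩] [])) (cond (Nat.blt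 c 46) (cond (Nat.beq c 45) [⟨126, 1, 1⟩] []) (cond (Nat.beq c 46) [⟨209, -1, 2⟩, ⟨0, 1, 1⟩, ⟨1, 1, 1⟩, ⟨2, 2, 1⟩, ⟨3, 3, 1⟩, ⟨4, 3, 1⟩, ⟨5, 2, 1⟩, ⟨6, 1, 1⟩, ⟨7, 1, 1⟩] [])))) (cond (Nat.blt c 55) (cond (Nat.blt c 51) (cond (Nat.blt c 49) (cond (Nat.beq c 47) [⟨128, 1, 1⟩] []) (cond (Nat.beq c 49) [⟨134, 1, 1⟩] [])) (cond (Nat.blt c 53) (cond (Nat.beq c 51) [⟨135, -1, 1⟩] []) (cond (Nat.beq c 53) [⟨137, 1, 1⟩] []))) (cond (Nat.blt c 59) (cond (Nat.blt c 57) (cond (Nat.beq c 55) [⟨139, 1, 1⟩] []) (cond (Nat.beq c 57) [⟨140, -1, 1⟩] [])) (cond (Nat.blt c 65) (cond (Nat.beq c 59) [⟨142, 1, 1⟩] []) (cond (Nat.beq c 65) [⟨145, 1, 1⟩] [])))))) (cond (Nat.blt c 121) (cond (Nat.blt c 107) (cond (Nat.blt c 82) (cond (Nat.blt c 79) (cond (Nat.blt c 69) (cond (Nat.beq c 67) [⟨146, -1, 1⟩] []) (cond (Nat.beq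 c 69) [⟨148, 1, 1⟩] [])) (cond (Nat.blt c 81) (cond (Nat.beq c 79) [⟨164, 1, 1⟩] []) (cond (Nat.beq c 81) [⟨166, -1, 1⟩] []))) (cond (Nat.blt c 89) (cond (Nat.blt c 87) (cond (Nat.beq c 82) [⟨168, 1, 1⟩] []) (cond (Nat.beq c 87) [⟨173, -1, 1⟩] [])) (cond (Nat.blt c 91) (cond (Nat.beq c 89) [⟨174, 1, 1⟩] []) (cond (Nat.beq c 91) [⟨176, -1, 1⟩] [])))) (cond (Nat.blt c 115) (cond (Nat.blt c 110) (cond (Nat.blt c 109) (cond (Nat.beq c 107) [⟨186, -1, 1⟩] []) (cond (Nat.beq c 109) [⟨188, 1, 1⟩] [])) (cond (Nat.blt c 113) (cond (Nat.beq c 110) [⟨190, -1, 1⟩] []) (cond (Nat.beq c 113) [⟨196, -1, 1⟩] []))) (cond (Nat.blt c 118) (cond (Nat.blt c 116) (cond (Nat.beq c 115) [⟨198, 1, 1⟩] []) (cond (Nat.beq c 116) [⟨200, -1, 1⟩] [])) (cond (Nat.blt c 120) (cond (Nat.beq c 118) [⟨202, -1, 1⟩] []) (cond (Nat.beq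 c 120) [⟨204, 1, 1⟩] []))))) (cond (Nat.blt c 158) (cond (Nat.blt c 149) (cond (Nat.blt c 129) (cond (Nat.blt c 127) (cond (Nat.beq c 121) [⟨206, -1, 1⟩] []) (cond (Nat.beq c 127) [⟨208, -1, 1⟩] [])) (cond (Nat.blt c 132) (cond (Nat.beq c 129) [⟨210, -1, 1⟩] []) (cond (Nat.beq c 132) [⟨211, 1, 1⟩] []))) (cond (Nat.blt c 153) (cond (Nat.blt c 150) (cond (Nat.beq c 149) [⟨219, -1, 1⟩] []) (cond (Nat.beq c 150) [⟨223, -1, 1⟩] [])) (cond (Nat.blt c 155) (cond (Nat.beq c 153) [⟨226, -1, 1⟩] []) (cond (Nat.beq c 155) [⟨228, -1, 1⟩] [])))) (cond (Nat.blt c 184) (cond (Nat.blt c 177) (cond (Nat.blt c 162) (cond (Nat.beq c 158) [⟨231, -1, 1⟩] []) (cond (Nat.beq c 162) [⟨232, -1, 1⟩] [])) (cond (Nat.blt c 180) (cond (Nat.beq c 177) [⟨235, 1, 1⟩] []) (cond (Nat.beq c 180) [⟨238, 1, 1⟩] []))) (cond (Nat.blt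 c 213) (cond (Nat.blt c 194) (cond (Nat.beq c 184) [⟨239, 1, 1⟩] []) (cond (Nat.beq c 194) [⟨240, 1, 1⟩] [])) (cond (Nat.blt c 215) (cond (Nat.beq c 213) [⟨244, 1, 1⟩] []) (cond (Nat.blt c 217) (cond (Nat.beq c 215) [⟨245, 1, 1⟩] []) (cond (Nat.beq c 217) [⟨247, -1, 1⟩] [])))))))

/-- Compiled columns of `x_202` for type E8. -/
def colsE8_202 (c : ℕ) : List CEnt :=
  cond (Nat.blt c 67) (cond (Nat.blt c 24) (cond (Nat.blt c 8) (cond (Nat.blt c 4) (cond (Nat.blt c 2) (cond (Nat.blt c 1) (cond (Nat.beq c 0) [⟨210, 0, 1⟩] []) (cond (Nat.beq c 1) [⟨210, 1, 1⟩] [])) (cond (Nat.blt c 3) (cond (Nat.beq c 2) [⟨210, 0, 1⟩] []) (cond (Nat.beq c 3) [⟨210, 0, 1⟩] []))) (cond (Nat.blt c 6) (cond (Nat.blt c 5) (cond (Nat.beq c 4) [⟨210, -1, 1⟩] []) (cond (Nat.beq c 5) [⟨210, 1, 1⟩] [])) (cond (Nat.blt c 7)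 (cond (Nat.beq c 6) [⟨210, -1, 1⟩] []) (cond (Nat.beq c 7) [⟨210, 0, 1⟩] [])))) (cond (Nat.blt c 16) (cond (Nat.blt c 11) (cond (Nat.blt c 9) (cond (Nat.beq c 8) [⟨39, -1, 1⟩] []) (cond (Nat.beq c 9) [⟨40, -1, 1⟩] [])) (cond (Nat.blt c 15) (cond (Nat.beq c 11) [⟨43, 1, 1⟩] []) (cond (Nat.beq c 15) [⟨62, 1, 1⟩] []))) (cond (Nat.blt c 19) (cond (Nat.blt c 17) (cond (Nat.beq c 16) [⟨72, 1, 1⟩] []) (cond (Nat.beq c 17) [⟨76, 1, 1⟩] [])) (cond (Nat.blt c 23) (cond (Nat.beq c 19) [⟨78, -1, 1⟩] []) (cond (Nat.beq c 23) [⟨94, -1, 1⟩] []))))) (cond (Nat.blt c 47) (cond (Nat.blt c 35) (cond (Nat.blt c 29) (cond (Nat.blt c 26) (cond (Nat.beq c 24) [⟨98, -1, 1⟩] []) (cond (Nat.beq c 26) [⟨100, 1, 1⟩] [])) (cond (Nat.blt c 31) (cond (Nat.beq c 29) [⟨103, -1, 1⟩] []) (cond (Nat.beq c 31) [⟨105, 1, 1⟩] [])))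 (cond (Nat.blt c 45) (cond (Nat.blt c 44) (cond (Nat.beq c 35) [⟨106, 1, 1⟩] []) (cond (Nat.beq c 44) [⟨124, 1, 1⟩] [])) (cond (Nat.blt c 46) (cond (Nat.beq c 45) [⟨210, -1, 2⟩, ⟨0, 1, 1⟩, ⟨1, 1, 1⟩, ⟨2, 2, 1⟩, ⟨3, 3, 1⟩, ⟨4, 3, 1⟩, ⟨5, 2, 1⟩, ⟨6, 2, 1⟩, ⟨7, 1, 1⟩] []) (cond (Nat.beq c 46) [⟨129, 1, 1⟩] [])))) (cond (Nat.blt c 54) (cond (Nat.blt c 51) (cond (Nat.blt c 48) (cond (Nat.beq c 47) [⟨130, -1, 1⟩] []) (cond (Nat.beq c 48) [⟨134, 1, 1⟩] [])) (cond (Nat.blt c 52) (cond (Nat.beq c 51) [⟨136, -1, 1⟩] []) (cond (Nat.beq c 52) [⟨137, 1, 1⟩] []))) (cond (Nat.blt c 58) (cond (Nat.blt c 57) (cond (Nat.beq c 54) [⟨139, 1, 1⟩] []) (cond (Nat.beq c 57) [⟨141, -1, 1⟩] [])) (cond (Nat.blt c 64) (cond (Nat.beq c 58) [⟨142, 1, 1⟩] []) (cond (Nat.beq c 64) [⟨145, 1, 1⟩] [])))))) (cond (Nat.blt c 121)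 (cond (Nat.blt c 107) (cond (Nat.blt c 82) (cond (Nat.blt c 79) (cond (Nat.blt c 68) (cond (Nat.beq c 67) [⟨147, -1, 1⟩] []) (cond (Nat.beq c 68) [⟨148, 1, 1⟩] [])) (cond (Nat.blt c 80) (cond (Nat.beq c 79) [⟨165, 1, 1⟩] []) (cond (Nat.beq c 80) [⟨166, -1, 1⟩] []))) (cond (Nat.blt c 89) (cond (Nat.blt c 86) (cond (Nat.beq c 82) [⟨169, 1, 1⟩] []) (cond (Nat.beq c 86) [⟨173, -1, 1⟩] [])) (cond (Nat.blt c 90) (cond (Nat.beq c 89) [⟨175, 1, 1⟩] []) (cond (Nat.beq c 90) [⟨176, -1, 1⟩] [])))) (cond (Nat.blt c 114) (cond (Nat.blt c 110) (cond (Nat.blt c 108) (cond (Nat.beq c 107) [⟨187, -1, 1⟩] []) (cond (Nat.beq c 108) [⟨188, 1, 1⟩] [])) (cond (Nat.blt c 113) (cond (Nat.beq c 110) [⟨191, -1, 1⟩] []) (cond (Nat.beq c 113) [⟨197, -1, 1⟩] []))) (cond (Nat.blt c 118) (cond (Nat.blt c 116) (cond (Nat.beq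 c 114) [⟨198, 1, 1⟩] []) (cond (Nat.beq c 116) [⟨201, -1, 1⟩] [])) (cond (Nat.blt c 119) (cond (Nat.beq c 118) [⟨203, -1, 1⟩] []) (cond (Nat.beq c 119) [⟨204, 1, 1⟩] []))))) (cond (Nat.blt c 157) (cond (Nat.blt c 149) (cond (Nat.blt c 126) (cond (Nat.blt c 125) (cond (Nat.beq c 121) [⟨207, -1, 1⟩] []) (cond (Nat.beq c 125) [⟨208, 1, 1⟩] [])) (cond (Nat.blt c 131) (cond (Nat.beq c 126) [⟨209, -1, 1⟩] []) (cond (Nat.beq c 131) [⟨211, -1, 1⟩] []))) (cond (Nat.blt c 152) (cond (Nat.blt c 150) (cond (Nat.beq c 149) [⟨220, -1, 1⟩] []) (cond (Nat.beq c 150) [⟨224, -1, 1⟩] [])) (cond (Nat.blt c 155) (cond (Nat.beq c 152) [⟨226, 1, 1⟩] []) (cond (Nat.beq c 155) [⟨229, -1, 1⟩] [])))) (cond (Nat.blt c 183) (cond (Nat.blt c 177) (cond (Nat.blt c 161) (cond (Nat.beq c 157) [⟨231, 1, 1⟩] []) (cond (Nat.beq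 c 161) [⟨232, 1, 1⟩] [])) (cond (Nat.blt c 179) (cond (Nat.beq c 177) [⟨236, 1, 1⟩] []) (cond (Nat.beq c 179) [⟨238, -1, 1⟩] []))) (cond (Nat.blt c 212) (cond (Nat.blt c 193) (cond (Nat.beq c 183) [⟨239, -1, 1⟩] []) (cond (Nat.beq c 193) [⟨240, -1, 1⟩] [])) (cond (Nat.blt c 215) (cond (Nat.beq c 212) [⟨244, -1, 1⟩] []) (cond (Nat.blt c 216) (cond (Nat.beq c 215) [⟨246, 1, 1⟩] []) (cond (Nat.beq c 216) [⟨247, 1, 1⟩] [])))))))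

/-- Compiled columns of `x_203` for type E8. -/
def colsE8_203 (c : ℕ) : List CEnt :=
  cond (Nat.blt c 65) (cond (Nat.blt c 24) (cond (Nat.blt c 8) (cond (Nat.blt c 4) (cond (Nat.blt c 2) (cond (Nat.blt c 1) (cond (Nat.beq c 0) [⟨211, 0, 1⟩] []) (cond (Nat.beq c 1) [⟨211, 1, 1⟩] [])) (cond (Nat.blt c 3) (cond (Nat.beq c 2) [⟨211, 0, 1⟩] []) (cond (Nat.beq c 3) [⟨211, 0, 1⟩] []))) (cond (Nat.blt c 6) (cond (Nat.blt c 5) (cond (Nat.beq c 4) [⟨211, 0, 1⟩] []) (cond (Nat.beq c 5) [⟨211, -1, 1⟩] [])) (cond (Nat.blt c 7) (cond (Nat.beq c 6) [⟨211, 0, 1⟩] []) (cond (Nat.beq c 7) [⟨211, 0, 1⟩] [])))) (cond (Nat.blt c 16) (cond (Nat.blt c 10) (cond (Nat.blt c 9) (cond (Nat.beq c 8) [⟨41, 1, 1⟩] []) (cond (Nat.beq c 9) [⟨42, 1, 1⟩] [])) (cond (Nat.blt c 15) (cond (Nat.beq c 10) [⟨43, 1, 1⟩] []) (cond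 (Nat.beq c 15) [⟨63, -1, 1⟩] []))) (cond (Nat.blt c 18) (cond (Nat.blt c 17) (cond (Nat.beq c 16) [⟨73, -1, 1⟩] []) (cond (Nat.beq c 17) [⟨77, -1, 1⟩] [])) (cond (Nat.blt c 23) (cond (Nat.beq c 18) [⟨78, -1, 1⟩] []) (cond (Nat.beq c 23) [⟨95, 1, 1⟩] []))))) (cond (Nat.blt c 47) (cond (Nat.blt c 34) (cond (Nat.blt c 29) (cond (Nat.blt c 25) (cond (Nat.beq c 24) [⟨99, 1, 1⟩] []) (cond (Nat.beq c 25) [⟨100, 1, 1⟩] [])) (cond (Nat.blt c 30) (cond (Nat.beq c 29) [⟨104, 1, 1⟩] []) (cond (Nat.beq c 30) [⟨105, 1, 1⟩] []))) (cond (Nat.blt c 45) (cond (Nat.blt c 44) (cond (Nat.beq c 34) [⟨106, 1, 1⟩] []) (cond (Nat.beq c 44) [⟨211, -1, 2⟩, ⟨0, 1, 1⟩, ⟨1, 1, 1⟩, ⟨2, 2, 1⟩, ⟨3, 3, 1⟩, ⟨4, 3, 1⟩, ⟨5, 3, 1⟩, ⟨6, 2, 1⟩, ⟨7, 1, 1⟩] [])) (cond (Nat.blt c 46) (cond (Nat.beq c 45) [⟨131, 1, 1⟩] []) (cond (Nat.beq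 c 46) [⟨132, -1, 1⟩] [])))) (cond (Nat.blt c 54) (cond (Nat.blt c 49) (cond (Nat.blt c 48) (cond (Nat.beq c 47) [⟨133, 1, 1⟩] []) (cond (Nat.beq c 48) [⟨135, 1, 1⟩] [])) (cond (Nat.blt c 50) (cond (Nat.beq c 49) [⟨136, -1, 1⟩] []) (cond (Nat.beq c 50) [⟨137, 1, 1⟩] []))) (cond (Nat.blt c 56) (cond (Nat.blt c 55) (cond (Nat.beq c 54) [⟨140, 1, 1⟩] []) (cond (Nat.beq c 55) [⟨141, -1, 1⟩] [])) (cond (Nat.blt c 64) (cond (Nat.beq c 56) [⟨142, 1, 1⟩] []) (cond (Nat.beq c 64) [⟨146, 1, 1⟩] [])))))) (cond (Nat.blt c 120) (cond (Nat.blt c 107) (cond (Nat.blt c 81) (cond (Nat.blt c 79) (cond (Nat.blt c 66) (cond (Nat.beq c 65) [⟨147, -1, 1⟩] []) (cond (Nat.beq c 66) [⟨148, 1, 1⟩] [])) (cond (Nat.blt c 80) (cond (Nat.beq c 79) [⟨167, 1, 1⟩] []) (cond (Nat.beq c 80) [⟨168, -1, 1⟩] []))) (cond (Nat.blt c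 87) (cond (Nat.blt c 86) (cond (Nat.beq c 81) [⟨169, 1, 1⟩] []) (cond (Nat.beq c 86) [⟨174, -1, 1⟩] [])) (cond (Nat.blt c 88) (cond (Nat.beq c 87) [⟨175, 1, 1⟩] []) (cond (Nat.beq c 88) [⟨176, -1, 1⟩] [])))) (cond (Nat.blt c 114) (cond (Nat.blt c 109) (cond (Nat.blt c 108) (cond (Nat.beq c 107) [⟨189, -1, 1⟩] []) (cond (Nat.beq c 108) [⟨190, 1, 1⟩] [])) (cond (Nat.blt c 113) (cond (Nat.beq c 109) [⟨191, -1, 1⟩] []) (cond (Nat.beq c 113) [⟨199, -1, 1⟩] []))) (cond (Nat.blt c 118) (cond (Nat.blt c 115) (cond (Nat.beq c 114) [⟨200, 1, 1⟩] []) (cond (Nat.beq c 115) [⟨201, -1, 1⟩] [])) (cond (Nat.blt c 119) (cond (Nat.beq c 118) [⟨205, -1, 1⟩] []) (cond (Nat.beq c 119) [⟨206, 1, 1⟩] []))))) (cond (Nat.blt c 156) (cond (Nat.blt c 149) (cond (Nat.blt c 123) (cond (Nat.blt c 122) (cond (Nat.beq c 120)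 [⟨207, -1, 1⟩] []) (cond (Nat.beq c 122) [⟨208, -1, 1⟩] [])) (cond (Nat.blt c 124) (cond (Nat.beq c 123) [⟨209, 1, 1⟩] []) (cond (Nat.beq c 124) [⟨210, -1, 1⟩] []))) (cond (Nat.blt c 151) (cond (Nat.blt c 150) (cond (Nat.beq c 149) [⟨221, -1, 1⟩] []) (cond (Nat.beq c 150) [⟨225, -1, 1⟩] [])) (cond (Nat.blt c 155) (cond (Nat.beq c 151) [⟨226, -1, 1⟩] []) (cond (Nat.beq c 155) [⟨230, -1, 1⟩] [])))) (cond (Nat.blt c 182) (cond (Nat.blt c 177) (cond (Nat.blt c 160) (cond (Nat.beq c 156) [⟨231, -1, 1⟩] []) (cond (Nat.beq c 160) [⟨232, -1, 1⟩] [])) (cond (Nat.blt c 178) (cond (Nat.beq c 177) [⟨237, 1, 1⟩] []) (cond (Nat.beq c 178) [⟨238, 1, 1⟩] []))) (cond (Nat.blt c 212) (cond (Nat.blt c 192) (cond (Nat.beq c 182) [⟨239, 1, 1⟩] []) (cond (Nat.beq c 192) [⟨240, 1, 1⟩] [])) (cond (Nat.blt c 213) (cond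 (Nat.beq c 212) [⟨245, -1, 1⟩] []) (cond (Nat.blt c 214) (cond (Nat.beq c 213) [⟨246, -1, 1⟩] []) (cond (Nat.beq c 214) [⟨247, -1, 1⟩] [])))))))

/-- Compiled columns of `x_204` for type E8. -/
def colsE8_204 (c : ℕ) : List CEnt :=
  cond (Nat.blt c 72) (cond (Nat.blt c 27) (cond (Nat.blt c 10) (cond (Nat.blt c 4) (cond (Nat.blt c 2) (cond (Nat.blt c 1) (cond (Nat.beq c 0) [⟨212, 0, 1⟩] []) (cond (Nat.beq c 1) [⟨212, -1, 1⟩] [])) (cond (Nat.blt c 3) (cond (Nat.beq c 2) [⟨212, 0, 1⟩] []) (cond (Nat.beq c 3) [⟨212, 0, 1⟩] []))) (cond (Nat.blt c 6) (cond (Nat.blt c 5) (cond (Nat.beq c 4) [⟨212, 0, 1⟩] []) (cond (Nat.beq c 5) [⟨212, 0, 1⟩] [])) (cond (Nat.blt c 7) (cond (Nat.beq c 6) [⟨212, 1, 1⟩] []) (cond (Nat.beq c 7) [⟨212, 0, 1⟩] [])))) (cond (Nat.blt c 14) (cond (Nat.blt c 12) (cond (Nat.blt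 c 11) (cond (Nat.beq c 10) [⟨44, -1, 1⟩] []) (cond (Nat.beq c 11) [⟨45, -1, 1⟩] [])) (cond (Nat.blt c 13) (cond (Nat.beq c 12) [⟨48, -1, 1⟩] []) (cond (Nat.beq c 13) [⟨54, -1, 1⟩] []))) (cond (Nat.blt c 21) (cond (Nat.blt c 20) (cond (Nat.beq c 14) [⟨64, -1, 1⟩] []) (cond (Nat.beq c 20) [⟨79, -1, 1⟩] [])) (cond (Nat.blt c 22) (cond (Nat.beq c 21) [⟨80, -1, 1⟩] []) (cond (Nat.beq c 22) [⟨86, 1, 1⟩] []))))) (cond (Nat.blt c 41) (cond (Nat.blt c 36) (cond (Nat.blt c 32) (cond (Nat.blt c 28) (cond (Nat.beq c 27) [⟨107, 1, 1⟩] []) (cond (Nat.beq c 28) [⟨108, 1, 1⟩] [])) (cond (Nat.blt c 33) (cond (Nat.beq c 32) [⟨113, -1, 1⟩] []) (cond (Nat.beq c 33) [⟨114, -1, 1⟩] []))) (cond (Nat.blt c 39) (cond (Nat.blt c 37) (cond (Nat.beq c 36) [⟨118, 1, 1⟩] []) (cond (Nat.beq c 37) [⟨119, 1, 1⟩] [])) (cond (Nat.blt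 c 40) (cond (Nat.beq c 39) [⟨122, -1, 1⟩] []) (cond (Nat.beq c 40) [⟨123, -1, 1⟩] [])))) (cond (Nat.blt c 59) (cond (Nat.blt c 43) (cond (Nat.blt c 42) (cond (Nat.beq c 41) [⟨125, 1, 1⟩] []) (cond (Nat.beq c 42) [⟨126, 1, 1⟩] [])) (cond (Nat.blt c 53) (cond (Nat.beq c 43) [⟨212, -1, 2⟩, ⟨0, 1, 1⟩, ⟨1, 2, 1⟩, ⟨2, 2, 1⟩, ⟨3, 3, 1⟩, ⟨4, 2, 1⟩, ⟨5, 1, 1⟩, ⟨6, 0, 1⟩, ⟨7, 0, 1⟩] []) (cond (Nat.beq c 53) [⟨149, 1, 1⟩] []))) (cond (Nat.blt c 63) (cond (Nat.blt c 62) (cond (Nat.beq c 59) [⟨150, -1, 1⟩] []) (cond (Nat.beq c 62) [⟨151, 1, 1⟩] [])) (cond (Nat.blt c 69) (cond (Nat.beq c 63) [⟨152, -1, 1⟩] []) (cond (Nat.beq c 69) [⟨155, 1, 1⟩] [])))))) (cond (Nat.blt c 130) (cond (Nat.blt c 98) (cond (Nat.blt c 78) (cond (Nat.blt c 76) (cond (Nat.blt c 73) (cond (Nat.beq c 72) [⟨156, -1, 1⟩] []) (cond (Nat.beq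 c 73) [⟨157, 1, 1⟩] [])) (cond (Nat.blt c 77) (cond (Nat.beq c 76) [⟨160, 1, 1⟩] []) (cond (Nat.beq c 77) [⟨161, -1, 1⟩] []))) (cond (Nat.blt c 94) (cond (Nat.blt c 91) (cond (Nat.beq c 78) [⟨164, 1, 1⟩] []) (cond (Nat.beq c 91) [⟨177, -1, 1⟩] [])) (cond (Nat.blt c 95) (cond (Nat.beq c 94) [⟨178, 1, 1⟩] []) (cond (Nat.beq c 95) [⟨179, -1, 1⟩] [])))) (cond (Nat.blt c 104) (cond (Nat.blt c 100) (cond (Nat.blt c 99) (cond (Nat.beq c 98) [⟨182, -1, 1⟩] []) (cond (Nat.beq c 99) [⟨183, 1, 1⟩] [])) (cond (Nat.blt c 103) (cond (Nat.beq c 100) [⟨186, -1, 1⟩] []) (cond (Nat.beq c 103) [⟨192, 1, 1⟩] []))) (cond (Nat.blt c 106) (cond (Nat.blt c 105) (cond (Nat.beq c 104) [⟨193, -1, 1⟩] []) (cond (Nat.beq c 105) [⟨196, 1, 1⟩] [])) (cond (Nat.blt c 129) (cond (Nat.beq c 106) [⟨202, -1, 1⟩] []) (cond (Nat.beq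 c 129) [⟨213, -1, 1⟩] []))))) (cond (Nat.blt c 148) (cond (Nat.blt c 137) (cond (Nat.blt c 133) (cond (Nat.blt c 132) (cond (Nat.beq c 130) [⟨214, -1, 1⟩] []) (cond (Nat.beq c 132) [⟨215, 1, 1⟩] [])) (cond (Nat.blt c 136) (cond (Nat.beq c 133) [⟨216, 1, 1⟩] []) (cond (Nat.beq c 136) [⟨218, -1, 1⟩] []))) (cond (Nat.blt c 142) (cond (Nat.blt c 141) (cond (Nat.beq c 137) [⟨219, -1, 1⟩] []) (cond (Nat.beq c 141) [⟨222, 1, 1⟩] [])) (cond (Nat.blt c 147) (cond (Nat.beq c 142) [⟨223, 1, 1⟩] []) (cond (Nat.beq c 147) [⟨227, -1, 1⟩] [])))) (cond (Nat.blt c 191) (cond (Nat.blt c 175) (cond (Nat.blt c 169) (cond (Nat.beq c 148) [⟨228, -1, 1⟩] []) (cond (Nat.beq c 169) [⟨233, -1, 1⟩] [])) (cond (Nat.blt c 176) (cond (Nat.beq c 175) [⟨234, 1, 1⟩] []) (cond (Nat.beq c 176) [⟨235, 1, 1⟩] []))) (cond (Nat.blt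 c 207) (cond (Nat.blt c 201) (cond (Nat.beq c 191) [⟨241, 1, 1⟩] []) (cond (Nat.beq c 201) [⟨242, 1, 1⟩] [])) (cond (Nat.blt c 210) (cond (Nat.beq c 207) [⟨243, 1, 1⟩] []) (cond (Nat.blt c 211) (cond (Nat.beq c 210) [⟨244, 1, 1⟩] []) (cond (Nat.beq c 211) [⟨245, 1, 1⟩] [])))))))

/-- Compiled columns of `x_205` for type E8. -/
def colsE8_205 (c : ℕ) : List CEnt :=
  cond (Nat.blt c 71) (cond (Nat.blt c 26) (cond (Nat.blt c 9) (cond (Nat.blt c 4) (cond (Nat.blt c 2) (cond (Nat.blt c 1) (cond (Nat.beq c 0) [⟨213, 0, 1⟩] []) (cond (Nat.beq c 1) [⟨213, -1, 1⟩] [])) (cond (Nat.blt c 3) (cond (Nat.beq c 2) [⟨213, 0, 1⟩] []) (cond (Nat.beq c 3) [⟨213, 0, 1⟩] []))) (cond (Nat.blt c 6) (cond (Nat.blt c 5) (cond (Nat.beq c 4) [⟨213, 0, 1⟩] []) (cond (Nat.beq c 5) [⟨213, 1, 1⟩] [])) (cond (Nat.blt c 7)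 (cond (Nat.beq c 6) [⟨213, -1, 1⟩] []) (cond (Nat.beq c 7) [⟨213, 1, 1⟩] [])))) (cond (Nat.blt c 14) (cond (Nat.blt c 12) (cond (Nat.blt c 11) (cond (Nat.beq c 9) [⟨44, -1, 1⟩] []) (cond (Nat.beq c 11) [⟨46, 1, 1⟩] [])) (cond (Nat.blt c 13) (cond (Nat.beq c 12) [⟨49, 1, 1⟩] []) (cond (Nat.beq c 13) [⟨55, 1, 1⟩] []))) (cond (Nat.blt c 21) (cond (Nat.blt c 19) (cond (Nat.beq c 14) [⟨65, 1, 1⟩] []) (cond (Nat.beq c 19) [⟨79, -1, 1⟩] [])) (cond (Nat.blt c 22) (cond (Nat.beq c 21) [⟨81, 1, 1⟩] []) (cond (Nat.beq c 22) [⟨87, -1, 1⟩] []))))) (cond (Nat.blt c 41) (cond (Nat.blt c 35) (cond (Nat.blt c 31) (cond (Nat.blt c 28) (cond (Nat.beq c 26) [⟨107, 1, 1⟩] []) (cond (Nat.beq c 28) [⟨109, -1, 1⟩] [])) (cond (Nat.blt c 33) (cond (Nat.beq c 31) [⟨113, -1, 1⟩] []) (cond (Nat.beq c 33) [⟨115, 1, 1⟩] [])))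 (cond (Nat.blt c 38) (cond (Nat.blt c 37) (cond (Nat.beq c 35) [⟨118, 1, 1⟩] []) (cond (Nat.beq c 37) [⟨120, -1, 1⟩] [])) (cond (Nat.blt c 40) (cond (Nat.beq c 38) [⟨122, -1, 1⟩] []) (cond (Nat.beq c 40) [⟨124, 1, 1⟩] [])))) (cond (Nat.blt c 58) (cond (Nat.blt c 43) (cond (Nat.blt c 42) (cond (Nat.beq c 41) [⟨127, 1, 1⟩] []) (cond (Nat.beq c 42) [⟨213, -1, 2⟩, ⟨0, 1, 1⟩, ⟨1, 2, 1⟩, ⟨2, 2, 1⟩, ⟨3, 3, 1⟩, ⟨4, 2, 1⟩, ⟨5, 1, 1⟩, ⟨6, 1, 1⟩, ⟨7, 0, 1⟩] [])) (cond (Nat.blt c 52) (cond (Nat.beq c 43) [⟨129, 1, 1⟩] []) (cond (Nat.beq c 52) [⟨149, 1, 1⟩] []))) (cond (Nat.blt c 63) (cond (Nat.blt c 61) (cond (Nat.beq c 58) [⟨150, -1, 1⟩] []) (cond (Nat.beq c 61) [⟨151, 1, 1⟩] [])) (cond (Nat.blt c 68) (cond (Nat.beq c 63) [⟨153, -1, 1⟩] []) (cond (Nat.beq c 68) [⟨155, 1, 1⟩] [])))))) (cond (Nat.blt c 128)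 (cond (Nat.blt c 97) (cond (Nat.blt c 78) (cond (Nat.blt c 75) (cond (Nat.blt c 73) (cond (Nat.beq c 71) [⟨156, -1, 1⟩] []) (cond (Nat.beq c 73) [⟨158, 1, 1⟩] [])) (cond (Nat.blt c 77) (cond (Nat.beq c 75) [⟨160, 1, 1⟩] []) (cond (Nat.beq c 77) [⟨162, -1, 1⟩] []))) (cond (Nat.blt c 93) (cond (Nat.blt c 90) (cond (Nat.beq c 78) [⟨165, 1, 1⟩] []) (cond (Nat.beq c 90) [⟨177, -1, 1⟩] [])) (cond (Nat.blt c 95) (cond (Nat.beq c 93) [⟨178, 1, 1⟩] []) (cond (Nat.beq c 95) [⟨180, -1, 1⟩] [])))) (cond (Nat.blt c 104) (cond (Nat.blt c 100) (cond (Nat.blt c 99) (cond (Nat.beq c 97) [⟨182, -1, 1⟩] []) (cond (Nat.beq c 99) [⟨184, 1, 1⟩] [])) (cond (Nat.blt c 102) (cond (Nat.beq c 100) [⟨187, -1, 1⟩] []) (cond (Nat.beq c 102) [⟨192, 1, 1⟩] []))) (cond (Nat.blt c 106) (cond (Nat.blt c 105) (cond (Nat.beq c 104)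 [⟨194, -1, 1⟩] []) (cond (Nat.beq c 105) [⟨197, 1, 1⟩] [])) (cond (Nat.blt c 126) (cond (Nat.beq c 106) [⟨203, -1, 1⟩] []) (cond (Nat.beq c 126) [⟨212, -1, 1⟩] []))))) (cond (Nat.blt c 148) (cond (Nat.blt c 137) (cond (Nat.blt c 133) (cond (Nat.blt c 131) (cond (Nat.beq c 128) [⟨214, -1, 1⟩] []) (cond (Nat.beq c 131) [⟨215, -1, 1⟩] [])) (cond (Nat.blt c 135) (cond (Nat.beq c 133) [⟨217, 1, 1⟩] []) (cond (Nat.beq c 135) [⟨218, 1, 1⟩] []))) (cond (Nat.blt c 142) (cond (Nat.blt c 140) (cond (Nat.beq c 137) [⟨220, -1, 1⟩] []) (cond (Nat.beq c 140) [⟨222, -1, 1⟩] [])) (cond (Nat.blt c 146) (cond (Nat.beq c 142) [⟨224, 1, 1⟩] []) (cond (Nat.beq c 146) [⟨227, 1, 1⟩] [])))) (cond (Nat.blt c 190) (cond (Nat.blt c 174) (cond (Nat.blt c 168) (cond (Nat.beq c 148) [⟨229, -1, 1⟩] []) (cond (Nat.beq c 168)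 [⟨233, 1, 1⟩] [])) (cond (Nat.blt c 176) (cond (Nat.beq c 174) [⟨234, -1, 1⟩] []) (cond (Nat.beq c 176) [⟨236, 1, 1⟩] []))) (cond (Nat.blt c 206) (cond (Nat.blt c 200) (cond (Nat.beq c 190) [⟨241, -1, 1⟩] []) (cond (Nat.beq c 200) [⟨242, -1, 1⟩] [])) (cond (Nat.blt c 209) (cond (Nat.beq c 206) [⟨243, -1, 1⟩] []) (cond (Nat.blt c 211) (cond (Nat.beq c 209) [⟨244, -1, 1⟩] []) (cond (Nat.beq c 211) [⟨246, 1, 1⟩] [])))))))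

/-- Compiled columns of `x_206` for type E8. -/
def colsE8_206 (c : ℕ) : List CEnt :=
  cond (Nat.blt c 70) (cond (Nat.blt c 26) (cond (Nat.blt c 8) (cond (Nat.blt c 4) (cond (Nat.blt c 2) (cond (Nat.blt c 1) (cond (Nat.beq c 0) [⟨214, 0, 1⟩] []) (cond (Nat.beq c 1) [⟨214, -1, 1⟩] [])) (cond (Nat.blt c 3) (cond (Nat.beq c 2) [⟨214, 0, 1⟩] []) (cond (Nat.beq c 3) [⟨214, 0, 1⟩] []))) (cond (Nat.blt c 6) (cond (Nat.blt c 5) (cond (Nat.beq c 4) [⟨214, 0, 1⟩] []) (cond (Nat.beq c 5) [⟨214, 1, 1⟩] [])) (cond (Nat.blt c 7) (cond (Nat.beq c 6) [⟨214, 0, 1⟩] []) (cond (Nat.beq c 7) [⟨214, -1, 1⟩] [])))) (cond (Nat.blt c 14) (cond (Nat.blt c 12) (cond (Nat.blt c 11) (cond (Nat.beq c 8) [⟨44, -1, 1⟩] []) (cond (Nat.beq c 11) [⟨47, -1, 1⟩] [])) (cond (Nat.blt c 13) (cond (Nat.beq c 12) [⟨50, -1, 1⟩] [])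 (cond (Nat.beq c 13) [⟨56, -1, 1⟩] []))) (cond (Nat.blt c 20) (cond (Nat.blt c 19) (cond (Nat.beq c 14) [⟨66, -1, 1⟩] []) (cond (Nat.beq c 19) [⟨80, 1, 1⟩] [])) (cond (Nat.blt c 22) (cond (Nat.beq c 20) [⟨81, 1, 1⟩] []) (cond (Nat.beq c 22) [⟨88, 1, 1⟩] []))))) (cond (Nat.blt c 41) (cond (Nat.blt c 35) (cond (Nat.blt c 31) (cond (Nat.blt c 27) (cond (Nat.beq c 26) [⟨108, -1, 1⟩] []) (cond (Nat.beq c 27) [⟨109, -1, 1⟩] [])) (cond (Nat.blt c 32) (cond (Nat.beq c 31) [⟨114, 1, 1⟩] []) (cond (Nat.beq c 32) [⟨115, 1, 1⟩] []))) (cond (Nat.blt c 38) (cond (Nat.blt c 36) (cond (Nat.beq c 35) [⟨119, -1, 1⟩] []) (cond (Nat.beq c 36) [⟨120, -1, 1⟩] [])) (cond (Nat.blt c 39) (cond (Nat.beq c 38) [⟨123, 1, 1⟩] []) (cond (Nat.beq c 39) [⟨124, 1, 1⟩] [])))) (cond (Nat.blt c 57) (cond (Nat.blt c 43) (cond (Nat.blt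 c 42) (cond (Nat.beq c 41) [⟨214, -1, 2⟩, ⟨0, 1, 1⟩, ⟨1, 2, 1⟩, ⟨2, 2, 1⟩, ⟨3, 3, 1⟩, ⟨4, 2, 1⟩, ⟨5, 1, 1⟩, ⟨6, 1, 1⟩, ⟨7, 1, 1⟩] []) (cond (Nat.beq c 42) [⟨128, 1, 1⟩] [])) (cond (Nat.blt c 51) (cond (Nat.beq c 43) [⟨130, 1, 1⟩] []) (cond (Nat.beq c 51) [⟨149, 1, 1⟩] []))) (cond (Nat.blt c 63) (cond (Nat.blt c 60) (cond (Nat.beq c 57) [⟨150, -1, 1⟩] []) (cond (Nat.beq c 60) [⟨151, 1, 1⟩] [])) (cond (Nat.blt c 67) (cond (Nat.beq c 63) [⟨154, -1, 1⟩] []) (cond (Nat.beq c 67) [⟨155, 1, 1⟩] [])))))) (cond (Nat.blt c 127) (cond (Nat.blt c 96) (cond (Nat.blt c 78) (cond (Nat.blt c 74) (cond (Nat.blt c 73) (cond (Nat.beq c 70) [⟨156, -1, 1⟩] []) (cond (Nat.beq c 73) [⟨159, 1, 1⟩] [])) (cond (Nat.blt c 77) (cond (Nat.beq c 74) [⟨160, 1, 1⟩] []) (cond (Nat.beq c 77) [⟨163, -1, 1⟩] []))) (cond (Nat.blt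 c 92) (cond (Nat.blt c 89) (cond (Nat.beq c 78) [⟨166, 1, 1⟩] []) (cond (Nat.beq c 89) [⟨177, -1, 1⟩] [])) (cond (Nat.blt c 95) (cond (Nat.beq c 92) [⟨178, 1, 1⟩] []) (cond (Nat.beq c 95) [⟨181, -1, 1⟩] [])))) (cond (Nat.blt c 104) (cond (Nat.blt c 100) (cond (Nat.blt c 99) (cond (Nat.beq c 96) [⟨182, -1, 1⟩] []) (cond (Nat.beq c 99) [⟨185, 1, 1⟩] [])) (cond (Nat.blt c 101) (cond (Nat.beq c 100) [⟨188, -1, 1⟩] []) (cond (Nat.beq c 101) [⟨192, 1, 1⟩] []))) (cond (Nat.blt c 106) (cond (Nat.blt c 105) (cond (Nat.beq c 104) [⟨195, -1, 1⟩] []) (cond (Nat.beq c 105) [⟨198, 1, 1⟩] [])) (cond (Nat.blt c 125) (cond (Nat.beq c 106) [⟨204, -1, 1⟩] []) (cond (Nat.beq c 125) [⟨212, -1, 1⟩] []))))) (cond (Nat.blt c 147) (cond (Nat.blt c 136) (cond (Nat.blt c 132) (cond (Nat.blt c 131) (cond (Nat.beq c 127)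 [⟨213, -1, 1⟩] []) (cond (Nat.beq c 131) [⟨216, -1, 1⟩] [])) (cond (Nat.blt c 135) (cond (Nat.beq c 132) [⟨217, -1, 1⟩] []) (cond (Nat.beq c 135) [⟨219, 1, 1⟩] []))) (cond (Nat.blt c 141) (cond (Nat.blt c 140) (cond (Nat.beq c 136) [⟨220, 1, 1⟩] []) (cond (Nat.beq c 140) [⟨223, -1, 1⟩] [])) (cond (Nat.blt c 146) (cond (Nat.beq c 141) [⟨224, -1, 1⟩] []) (cond (Nat.beq c 146) [⟨228, 1, 1⟩] [])))) (cond (Nat.blt c 189) (cond (Nat.blt c 174) (cond (Nat.blt c 167) (cond (Nat.beq c 147) [⟨229, 1, 1⟩] []) (cond (Nat.beq c 167) [⟨233, -1, 1⟩] [])) (cond (Nat.blt c 175) (cond (Nat.beq c 174) [⟨235, -1, 1⟩] []) (cond (Nat.beq c 175) [⟨236, -1, 1⟩] []))) (cond (Nat.blt c 205) (cond (Nat.blt c 199) (cond (Nat.beq c 189) [⟨241, 1, 1⟩] []) (cond (Nat.beq c 199) [⟨242, 1, 1⟩] [])) (cond (Nat.blt c 208) (cond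 (Nat.beq c 205) [⟨243, 1, 1⟩] []) (cond (Nat.blt c 211) (cond (Nat.beq c 208) [⟨244, 1, 1⟩] []) (cond (Nat.beq c 211) [⟨247, 1, 1⟩] [])))))))

/-- Compiled columns of `x_207` for type E8. -/
def colsE8_207 (c : ℕ) : List CEnt :=
  cond (Nat.blt c 71) (cond (Nat.blt c 25) (cond (Nat.blt c 9) (cond (Nat.blt c 4) (cond (Nat.blt c 2) (cond (Nat.blt c 1) (cond (Nat.beq c 0) [⟨215, 0, 1⟩] []) (cond (Nat.beq c 1) [⟨215, -1, 1⟩] [])) (cond (Nat.blt c 3) (cond (Nat.beq c 2) [⟨215, 0, 1⟩] []) (cond (Nat.beq c 3) [⟨215, 0, 1⟩] []))) (cond (Nat.blt c 6) (cond (Nat.blt c 5) (cond (Nat.beq c 4) [⟨215, 1, 1⟩] []) (cond (Nat.beq c 5) [⟨215, -1, 1⟩] [])) (cond (Nat.blt c 7) (cond (Nat.beq c 6) [⟨215, 0, 1⟩] []) (cond (Nat.beq c 7) [⟨215, 1, 1⟩] [])))) (cond (Nat.blt c 14) (cond (Nat.blt c 12) (cond (Nat.blt c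 10) (cond (Nat.beq c 9) [⟨45, 1, 1⟩] []) (cond (Nat.beq c 10) [⟨46, 1, 1⟩] [])) (cond (Nat.blt c 13) (cond (Nat.beq c 12) [⟨51, -1, 1⟩] []) (cond (Nat.beq c 13) [⟨57, -1, 1⟩] []))) (cond (Nat.blt c 21) (cond (Nat.blt c 18) (cond (Nat.beq c 14) [⟨67, -1, 1⟩] []) (cond (Nat.beq c 18) [⟨79, -1, 1⟩] [])) (cond (Nat.blt c 22) (cond (Nat.beq c 21) [⟨82, -1, 1⟩] []) (cond (Nat.beq c 22) [⟨89, 1, 1⟩] []))))) (cond (Nat.blt c 40) (cond (Nat.blt c 34) (cond (Nat.blt c 30) (cond (Nat.blt c 28) (cond (Nat.beq c 25) [⟨107, 1, 1⟩] []) (cond (Nat.beq c 28) [⟨110, 1, 1⟩] [])) (cond (Nat.blt c 33) (cond (Nat.beq c 30) [⟨113, -1, 1⟩] []) (cond (Nat.beq c 33) [⟨116, -1, 1⟩] []))) (cond (Nat.blt c 38) (cond (Nat.blt c 37) (cond (Nat.beq c 34) [⟨118, 1, 1⟩] []) (cond (Nat.beq c 37) [⟨121, 1, 1⟩] [])) (cond (Nat.blt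 c 39) (cond (Nat.beq c 38) [⟨125, -1, 1⟩] []) (cond (Nat.beq c 39) [⟨127, 1, 1⟩] [])))) (cond (Nat.blt c 56) (cond (Nat.blt c 43) (cond (Nat.blt c 42) (cond (Nat.beq c 40) [⟨215, -1, 2⟩, ⟨0, 1, 1⟩, ⟨1, 2, 1⟩, ⟨2, 2, 1⟩, ⟨3, 3, 1⟩, ⟨4, 2, 1⟩, ⟨5, 2, 1⟩, ⟨6, 1, 1⟩, ⟨7, 0, 1⟩] []) (cond (Nat.beq c 42) [⟨131, 1, 1⟩] [])) (cond (Nat.blt c 50) (cond (Nat.beq c 43) [⟨132, -1, 1⟩] []) (cond (Nat.beq c 50) [⟨149, 1, 1⟩] []))) (cond (Nat.blt c 62) (cond (Nat.blt c 61) (cond (Nat.beq c 56) [⟨150, -1, 1⟩] []) (cond (Nat.beq c 61) [⟨152, 1, 1⟩] [])) (cond (Nat.blt c 66) (cond (Nat.beq c 62) [⟨153, -1, 1⟩] []) (cond (Nat.beq c 66) [⟨155, 1, 1⟩] [])))))) (cond (Nat.blt c 124) (cond (Nat.blt c 97) (cond (Nat.blt c 78) (cond (Nat.blt c 75) (cond (Nat.blt c 72) (cond (Nat.beq c 71) [⟨157, -1, 1⟩] []) (cond (Nat.beq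 c 72) [⟨158, 1, 1⟩] [])) (cond (Nat.blt c 76) (cond (Nat.beq c 75) [⟨161, 1, 1⟩] []) (cond (Nat.beq c 76) [⟨162, -1, 1⟩] []))) (cond (Nat.blt c 93) (cond (Nat.blt c 88) (cond (Nat.beq c 78) [⟨167, 1, 1⟩] []) (cond (Nat.beq c 88) [⟨177, -1, 1⟩] [])) (cond (Nat.blt c 94) (cond (Nat.beq c 93) [⟨179, 1, 1⟩] []) (cond (Nat.beq c 94) [⟨180, -1, 1⟩] [])))) (cond (Nat.blt c 103) (cond (Nat.blt c 100) (cond (Nat.blt c 98) (cond (Nat.beq c 97) [⟨183, -1, 1⟩] []) (cond (Nat.beq c 98) [⟨184, 1, 1⟩] [])) (cond (Nat.blt c 102) (cond (Nat.beq c 100) [⟨189, -1, 1⟩] []) (cond (Nat.beq c 102) [⟨193, 1, 1⟩] []))) (cond (Nat.blt c 106) (cond (Nat.blt c 105) (cond (Nat.beq c 103) [⟨194, -1, 1⟩] []) (cond (Nat.beq c 105) [⟨199, 1, 1⟩] [])) (cond (Nat.blt c 123) (cond (Nat.beq c 106) [⟨205, -1, 1⟩] []) (cond (Nat.beq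 c 123) [⟨212, 1, 1⟩] []))))) (cond (Nat.blt c 148) (cond (Nat.blt c 137) (cond (Nat.blt c 130) (cond (Nat.blt c 128) (cond (Nat.beq c 124) [⟨213, -1, 1⟩] []) (cond (Nat.beq c 128) [⟨216, -1, 1⟩] [])) (cond (Nat.blt c 134) (cond (Nat.beq c 130) [⟨217, 1, 1⟩] []) (cond (Nat.beq c 134) [⟨218, -1, 1⟩] []))) (cond (Nat.blt c 142) (cond (Nat.blt c 139) (cond (Nat.beq c 137) [⟨221, -1, 1⟩] []) (cond (Nat.beq c 139) [⟨222, 1, 1⟩] [])) (cond (Nat.blt c 145) (cond (Nat.beq c 142) [⟨225, 1, 1⟩] []) (cond (Nat.beq c 145) [⟨227, -1, 1⟩] [])))) (cond (Nat.blt c 188) (cond (Nat.blt c 173) (cond (Nat.blt c 166) (cond (Nat.beq c 148) [⟨230, -1, 1⟩] []) (cond (Nat.beq c 166) [⟨233, -1, 1⟩] [])) (cond (Nat.blt c 176) (cond (Nat.beq c 173) [⟨234, 1, 1⟩] []) (cond (Nat.beq c 176) [⟨237, 1, 1⟩] []))) (cond (Nat.blt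 c 204) (cond (Nat.blt c 198) (cond (Nat.beq c 188) [⟨241, 1, 1⟩] []) (cond (Nat.beq c 198) [⟨242, 1, 1⟩] [])) (cond (Nat.blt c 209) (cond (Nat.beq c 204) [⟨243, 1, 1⟩] []) (cond (Nat.blt c 210) (cond (Nat.beq c 209) [⟨245, -1, 1⟩] []) (cond (Nat.beq c 210) [⟨246, -1, 1⟩] [])))))))

/-- Compiled columns of `x_208` for type E8. -/
def colsE8_208 (c : ℕ) : List CEnt :=
  cond (Nat.blt c 70) (cond (Nat.blt c 25) (cond (Nat.blt c 8) (cond (Nat.blt c 4) (cond (Nat.blt c 2) (cond (Nat.blt c 1) (cond (Nat.beq c 0) [⟨216, 0, 1⟩] []) (cond (Nat.beq c 1) [⟨216, -1, 1⟩] [])) (cond (Nat.blt c 3) (cond (Nat.beq c 2) [⟨216, 0, 1⟩] []) (cond (Nat.beq c 3) [⟨216, 0, 1⟩] []))) (cond (Nat.blt c 6) (cond (Nat.blt c 5) (cond (Nat.beq c 4) [⟨216, 1, 1⟩] []) (cond (Nat.beq c 5) [⟨216, -1, 1⟩] [])) (cond (Nat.blt c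 7) (cond (Nat.beq c 6) [⟨216, 1, 1⟩] []) (cond (Nat.beq c 7) [⟨216, -1, 1⟩] [])))) (cond (Nat.blt c 14) (cond (Nat.blt c 12) (cond (Nat.blt c 10) (cond (Nat.beq c 8) [⟨45, 1, 1⟩] []) (cond (Nat.beq c 10) [⟨47, -1, 1⟩] [])) (cond (Nat.blt c 13) (cond (Nat.beq c 12) [⟨52, 1, 1⟩] []) (cond (Nat.beq c 13) [⟨58, 1, 1⟩] []))) (cond (Nat.blt c 20) (cond (Nat.blt c 18) (cond (Nat.beq c 14) [⟨68, 1, 1⟩] []) (cond (Nat.beq c 18) [⟨80, 1, 1⟩] [])) (cond (Nat.blt c 22) (cond (Nat.beq c 20) [⟨82, -1, 1⟩] []) (cond (Nat.beq c 22) [⟨90, -1, 1⟩] []))))) (cond (Nat.blt c 40) (cond (Nat.blt c 34) (cond (Nat.blt c 30) (cond (Nat.blt c 27) (cond (Nat.beq c 25) [⟨108, -1, 1⟩] []) (cond (Nat.beq c 27) [⟨110, 1, 1⟩] [])) (cond (Nat.blt c 32) (cond (Nat.beq c 30) [⟨114, 1, 1⟩] []) (cond (Nat.beq c 32) [⟨116, -1, 1⟩]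 []))) (cond (Nat.blt c 38) (cond (Nat.blt c 36) (cond (Nat.beq c 34) [⟨119, -1, 1⟩] []) (cond (Nat.beq c 36) [⟨121, 1, 1⟩] [])) (cond (Nat.blt c 39) (cond (Nat.beq c 38) [⟨126, 1, 1⟩] []) (cond (Nat.beq c 39) [⟨216, -1, 2⟩, ⟨0, 1, 1⟩, ⟨1, 2, 1⟩, ⟨2, 2, 1⟩, ⟨3, 3, 1⟩, ⟨4, 2, 1⟩, ⟨5, 2, 1⟩, ⟨6, 1, 1⟩, ⟨7, 1, 1⟩] [])))) (cond (Nat.blt c 55) (cond (Nat.blt c 43) (cond (Nat.blt c 41) (cond (Nat.beq c 40) [⟨128, 1, 1⟩] []) (cond (Nat.beq c 41) [⟨131, 1, 1⟩] [])) (cond (Nat.blt c 49) (cond (Nat.beq c 43) [⟨133, -1, 1⟩] []) (cond (Nat.beq c 49) [⟨149, 1, 1⟩] []))) (cond (Nat.blt c 62) (cond (Nat.blt c 60) (cond (Nat.beq c 55) [⟨150, -1, 1⟩] []) (cond (Nat.beq c 60) [⟨152, 1, 1⟩] [])) (cond (Nat.blt c 65) (cond (Nat.beq c 62) [⟨154, -1, 1⟩] []) (cond (Nat.beq c 65) [⟨155, 1, 1⟩] [])))))) (cond (Nat.blt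 c 124) (cond (Nat.blt c 96) (cond (Nat.blt c 78) (cond (Nat.blt c 74) (cond (Nat.blt c 72) (cond (Nat.beq c 70) [⟨157, -1, 1⟩] []) (cond (Nat.beq c 72) [⟨159, 1, 1⟩] [])) (cond (Nat.blt c 76) (cond (Nat.beq c 74) [⟨161, 1, 1⟩] []) (cond (Nat.beq c 76) [⟨163, -1, 1⟩] []))) (cond (Nat.blt c 92) (cond (Nat.blt c 87) (cond (Nat.beq c 78) [⟨168, 1, 1⟩] []) (cond (Nat.beq c 87) [⟨177, -1, 1⟩] [])) (cond (Nat.blt c 94) (cond (Nat.beq c 92) [⟨179, 1, 1⟩] []) (cond (Nat.beq c 94) [⟨181, -1, 1⟩] [])))) (cond (Nat.blt c 103) (cond (Nat.blt c 100) (cond (Nat.blt c 98) (cond (Nat.beq c 96) [⟨183, -1, 1⟩] []) (cond (Nat.beq c 98) [⟨185, 1, 1⟩] [])) (cond (Nat.blt c 101) (cond (Nat.beq c 100) [⟨190, -1, 1⟩] []) (cond (Nat.beq c 101) [⟨193, 1, 1⟩] []))) (cond (Nat.blt c 106) (cond (Nat.blt c 105) (cond (Nat.beq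 c 103) [⟨195, -1, 1⟩] []) (cond (Nat.beq c 105) [⟨200, 1, 1⟩] [])) (cond (Nat.blt c 122) (cond (Nat.beq c 106) [⟨206, -1, 1⟩] []) (cond (Nat.beq c 122) [⟨212, 1, 1⟩] []))))) (cond (Nat.blt c 147) (cond (Nat.blt c 136) (cond (Nat.blt c 129) (cond (Nat.blt c 127) (cond (Nat.beq c 124) [⟨214, -1, 1⟩] []) (cond (Nat.beq c 127) [⟨215, -1, 1⟩] [])) (cond (Nat.blt c 134) (cond (Nat.beq c 129) [⟨217, -1, 1⟩] []) (cond (Nat.beq c 134) [⟨219, -1, 1⟩] []))) (cond (Nat.blt c 141) (cond (Nat.blt c 139) (cond (Nat.beq c 136) [⟨221, 1, 1⟩] []) (cond (Nat.beq c 139) [⟨223, 1, 1⟩] [])) (cond (Nat.blt c 145) (cond (Nat.beq c 141) [⟨225, -1, 1⟩] []) (cond (Nat.beq c 145) [⟨228, -1, 1⟩] [])))) (cond (Nat.blt c 187) (cond (Nat.blt c 173) (cond (Nat.blt c 165) (cond (Nat.beq c 147) [⟨230, 1, 1⟩] []) (cond (Nat.beq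 c 165) [⟨233, 1, 1⟩] [])) (cond (Nat.blt c 175) (cond (Nat.beq c 173) [⟨235, 1, 1⟩] []) (cond (Nat.beq c 175) [⟨237, -1, 1⟩] []))) (cond (Nat.blt c 203) (cond (Nat.blt c 197) (cond (Nat.beq c 187) [⟨241, -1, 1⟩] []) (cond (Nat.beq c 197) [⟨242, -1, 1⟩] [])) (cond (Nat.blt c 208) (cond (Nat.beq c 203) [⟨243, -1, 1⟩] []) (cond (Nat.blt c 210) (cond (Nat.beq c 208) [⟨245, 1, 1⟩] []) (cond (Nat.beq c 210) [⟨247, -1, 1⟩] [])))))))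

/-- Compiled columns of `x_209` for type E8. -/
def colsE8_209 (c : ℕ) : List CEnt :=
  cond (Nat.blt c 70) (cond (Nat.blt c 25) (cond (Nat.blt c 8) (cond (Nat.blt c 4) (cond (Nat.blt c 2) (cond (Nat.blt c 1) (cond (Nat.beq c 0) [⟨217, 0, 1⟩] []) (cond (Nat.beq c 1) [⟨217, -1, 1⟩] [])) (cond (Nat.blt c 3) (cond (Nat.beq c 2) [⟨217, 0, 1⟩] []) (cond (Nat.beq c 3) [⟨217, 0, 1⟩] []))) (cond (Nat.blt c 6) (cond (Nat.blt c 5) (cond (Nat.beq c 4) [⟨217, 1, 1⟩] []) (cond (Nat.beq c 5) [⟨217, 0, 1⟩] [])) (cond (Nat.blt c 7) (cond (Nat.beq c 6) [⟨217, -1, 1⟩] []) (cond (Nat.beq c 7) [⟨217, 0, 1⟩] [])))) (cond (Nat.blt c 14) (cond (Nat.blt c 12) (cond (Nat.blt c 9) (cond (Nat.beq c 8) [⟨46, -1, 1⟩] []) (cond (Nat.beq c 9) [⟨47, -1, 1⟩] [])) (cond (Nat.blt c 13) (cond (Nat.beq c 12) [⟨53, -1, 1⟩] []) (cond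 (Nat.beq c 13) [⟨59, -1, 1⟩] []))) (cond (Nat.blt c 19) (cond (Nat.blt c 18) (cond (Nat.beq c 14) [⟨69, -1, 1⟩] []) (cond (Nat.beq c 18) [⟨81, -1, 1⟩] [])) (cond (Nat.blt c 22) (cond (Nat.beq c 19) [⟨82, -1, 1⟩] []) (cond (Nat.beq c 22) [⟨91, 1, 1⟩] []))))) (cond (Nat.blt c 40) (cond (Nat.blt c 34) (cond (Nat.blt c 30) (cond (Nat.blt c 26) (cond (Nat.beq c 25) [⟨109, 1, 1⟩] []) (cond (Nat.beq c 26) [⟨110, 1, 1⟩] [])) (cond (Nat.blt c 31) (cond (Nat.beq c 30) [⟨115, -1, 1⟩] []) (cond (Nat.beq c 31) [⟨116, -1, 1⟩] []))) (cond (Nat.blt c 38) (cond (Nat.blt c 35) (cond (Nat.beq c 34) [⟨120, 1, 1⟩] []) (cond (Nat.beq c 35) [⟨121, 1, 1⟩] [])) (cond (Nat.blt c 39) (cond (Nat.beq c 38) [⟨217, -1, 2⟩, ⟨0, 1, 1⟩, ⟨1, 2, 1⟩, ⟨2, 2, 1⟩, ⟨3, 3, 1⟩, ⟨4, 2, 1⟩, ⟨5, 2, 1⟩, ⟨6, 2, 1⟩, ⟨7, 1, 1⟩] []) (cond (Nat.beq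 c 39) [⟨129, 1, 1⟩] [])))) (cond (Nat.blt c 54) (cond (Nat.blt c 42) (cond (Nat.blt c 41) (cond (Nat.beq c 40) [⟨130, -1, 1⟩] []) (cond (Nat.beq c 41) [⟨132, 1, 1⟩] [])) (cond (Nat.blt c 48) (cond (Nat.beq c 42) [⟨133, -1, 1⟩] []) (cond (Nat.beq c 48) [⟨149, 1, 1⟩] []))) (cond (Nat.blt c 61) (cond (Nat.blt c 60) (cond (Nat.beq c 54) [⟨150, -1, 1⟩] []) (cond (Nat.beq c 60) [⟨153, 1, 1⟩] [])) (cond (Nat.blt c 64) (cond (Nat.beq c 61) [⟨154, -1, 1⟩] []) (cond (Nat.beq c 64) [⟨155, 1, 1⟩] [])))))) (cond (Nat.blt c 123) (cond (Nat.blt c 96) (cond (Nat.blt c 78) (cond (Nat.blt c 74) (cond (Nat.blt c 71) (cond (Nat.beq c 70) [⟨158, -1, 1⟩] []) (cond (Nat.beq c 71) [⟨159, 1, 1⟩] [])) (cond (Nat.blt c 75) (cond (Nat.beq c 74) [⟨162, 1, 1⟩] []) (cond (Nat.beq c 75) [⟨163, -1, 1⟩] []))) (cond (Nat.blt c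 92) (cond (Nat.blt c 86) (cond (Nat.beq c 78) [⟨169, 1, 1⟩] []) (cond (Nat.beq c 86) [⟨177, -1, 1⟩] [])) (cond (Nat.blt c 93) (cond (Nat.beq c 92) [⟨180, 1, 1⟩] []) (cond (Nat.beq c 93) [⟨181, -1, 1⟩] [])))) (cond (Nat.blt c 102) (cond (Nat.blt c 100) (cond (Nat.blt c 97) (cond (Nat.beq c 96) [⟨184, -1, 1⟩] []) (cond (Nat.beq c 97) [⟨185, 1, 1⟩] [])) (cond (Nat.blt c 101) (cond (Nat.beq c 100) [⟨191, -1, 1⟩] []) (cond (Nat.beq c 101) [⟨194, 1, 1⟩] []))) (cond (Nat.blt c 106) (cond (Nat.blt c 105) (cond (Nat.beq c 102) [⟨195, -1, 1⟩] []) (cond (Nat.beq c 105) [⟨201, 1, 1⟩] [])) (cond (Nat.blt c 122) (cond (Nat.beq c 106) [⟨207, -1, 1⟩] []) (cond (Nat.beq c 122) [⟨213, 1, 1⟩] []))))) (cond (Nat.blt c 146) (cond (Nat.blt c 135) (cond (Nat.blt c 126) (cond (Nat.blt c 125) (cond (Nat.beq c 123) [⟨214,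 -1, 1⟩] []) (cond (Nat.beq c 125) [⟨215, 1, 1⟩] [])) (cond (Nat.blt c 134) (cond (Nat.beq c 126) [⟨216, -1, 1⟩] []) (cond (Nat.beq c 134) [⟨220, -1, 1⟩] []))) (cond (Nat.blt c 140) (cond (Nat.blt c 139) (cond (Nat.beq c 135) [⟨221, -1, 1⟩] []) (cond (Nat.beq c 139) [⟨224, 1, 1⟩] [])) (cond (Nat.blt c 145) (cond (Nat.beq c 140) [⟨225, 1, 1⟩] []) (cond (Nat.beq c 145) [⟨229, -1, 1⟩] [])))) (cond (Nat.blt c 186) (cond (Nat.blt c 173) (cond (Nat.blt c 164) (cond (Nat.beq c 146) [⟨230, -1, 1⟩] []) (cond (Nat.beq c 164) [⟨233, -1, 1⟩] [])) (cond (Nat.blt c 174) (cond (Nat.beq c 173) [⟨236, 1, 1⟩] []) (cond (Nat.beq c 174) [⟨237, 1, 1⟩] []))) (cond (Nat.blt c 202) (cond (Nat.blt c 196) (cond (Nat.beq c 186) [⟨241, 1, 1⟩] []) (cond (Nat.beq c 196) [⟨242, 1, 1⟩] [])) (cond (Nat.blt c 208) (cond (Nat.beq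 c 202) [⟨243, 1, 1⟩] []) (cond (Nat.blt c 209) (cond (Nat.beq c 208) [⟨246, 1, 1⟩] []) (cond (Nat.beq c 209) [⟨247, 1, 1⟩] [])))))))

end Cfsg.Agent.Lib.Helper3.ChevM
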