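import Cfsg.Agent.Lib.Helper3.ChevM2
set_option autoImplicit false
set_option maxRecDepth 100000

namespace Cfsg.Agent.Lib.Helper3.ChevM

/-- Compiled columns of `x_210` for type E8. -/
def colsE8_210 (c : ℕ) : List CEnt :=
  cond (Nat.blt c 68) (cond (Nat.blt c 24) (cond (Nat.blt c 9) (cond (Nat.blt c 4) (cond (Nat.blt c 2) (cond (Nat.blt c 1) (cond (Nat.beq c 0) [⟨218, 0, 1⟩] []) (cond (Nat.beq c 1) [⟨218, -1, 1⟩] [])) (cond (Nat.blt c 3) (cond (Nat.beq c 2) [⟨218, 0, 1⟩] []) (cond (Nat.beq c 3) [⟨218, 1, 1⟩] []))) (cond (Nat.blt c 6) (cond (Nat.blt c 5) (cond (Nat.beq c 4) [⟨218, -1, 1⟩] []) (cond (Nat.beq c 5) [⟨218, 0, 1⟩] [])) (cond (Nat.blt c 7) (cond (Nat.beq c 6) [⟨218, 0, 1⟩] []) (cond (Nat.beq c 7) [⟨218, 1, 1⟩] [])))) (cond (Nat.blt c 14) (cond (Nat.blt c 11) (cond (Nat.blt c 10)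 (cond (Nat.beq c 9) [⟨48, -1, 1⟩] []) (cond (Nat.beq c 10) [⟨49, -1, 1⟩] [])) (cond (Nat.blt c 13) (cond (Nat.beq c 11) [⟨51, -1, 1⟩] []) (cond (Nat.beq c 13) [⟨60, 1, 1⟩] []))) (cond (Nat.blt c 21) (cond (Nat.blt c 17) (cond (Nat.beq c 14) [⟨70, 1, 1⟩] []) (cond (Nat.beq c 17) [⟨79, -1, 1⟩] [])) (cond (Nat.blt c 22) (cond (Nat.beq c 21) [⟨83, 1, 1⟩] []) (cond (Nat.beq c 22) [⟨92, -1, 1⟩] []))))) (cond (Nat.blt c 40) (cond (Nat.blt c 34) (cond (Nat.blt c 29) (cond (Nat.blt c 28) (cond (Nat.beq c 24) [⟨107, 1, 1⟩] []) (cond (Nat.beq c 28) [⟨111, -1, 1⟩] [])) (cond (Nat.blt c 33) (cond (Nat.beq c 29) [⟨113, -1, 1⟩] []) (cond (Nat.beq c 33) [⟨117, 1, 1⟩] []))) (cond (Nat.blt c 36) (cond (Nat.blt c 35) (cond (Nat.beq c 34) [⟨122, 1, 1⟩] []) (cond (Nat.beq c 35) [⟨125, -1, 1⟩] [])) (cond (Nat.blt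 c 37) (cond (Nat.beq c 36) [⟨127, 1, 1⟩] []) (cond (Nat.beq c 37) [⟨218, -1, 2⟩, ⟨0, 1, 1⟩, ⟨1, 2, 1⟩, ⟨2, 2, 1⟩, ⟨3, 3, 1⟩, ⟨4, 3, 1⟩, ⟨5, 2, 1⟩, ⟨6, 1, 1⟩, ⟨7, 0, 1⟩] [])))) (cond (Nat.blt c 56) (cond (Nat.blt c 43) (cond (Nat.blt c 42) (cond (Nat.beq c 40) [⟨134, 1, 1⟩] []) (cond (Nat.beq c 42) [⟨135, -1, 1⟩] [])) (cond (Nat.blt c 47) (cond (Nat.beq c 43) [⟨136, 1, 1⟩] []) (cond (Nat.beq c 47) [⟨149, 1, 1⟩] []))) (cond (Nat.blt c 59) (cond (Nat.blt c 58) (cond (Nat.beq c 56) [⟨151, -1, 1⟩] []) (cond (Nat.beq c 58) [⟨152, 1, 1⟩] [])) (cond (Nat.blt c 66) (cond (Nat.beq c 59) [⟨153, -1, 1⟩] []) (cond (Nat.beq c 66) [⟨156, 1, 1⟩] [])))))) (cond (Nat.blt c 120) (cond (Nat.blt c 97) (cond (Nat.blt c 77) (cond (Nat.blt c 75) (cond (Nat.blt c 69) (cond (Nat.beq c 68) [⟨157, -1, 1⟩] []) (cond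 (Nat.beq c 69) [⟨158, 1, 1⟩] [])) (cond (Nat.blt c 76) (cond (Nat.beq c 75) [⟨164, 1, 1⟩] []) (cond (Nat.beq c 76) [⟨165, -1, 1⟩] []))) (cond (Nat.blt c 90) (cond (Nat.blt c 88) (cond (Nat.beq c 77) [⟨167, 1, 1⟩] []) (cond (Nat.beq c 88) [⟨178, -1, 1⟩] [])) (cond (Nat.blt c 91) (cond (Nat.beq c 90) [⟨179, 1, 1⟩] []) (cond (Nat.beq c 91) [⟨180, -1, 1⟩] [])))) (cond (Nat.blt c 103) (cond (Nat.blt c 99) (cond (Nat.blt c 98) (cond (Nat.beq c 97) [⟨186, -1, 1⟩] []) (cond (Nat.beq c 98) [⟨187, 1, 1⟩] [])) (cond (Nat.blt c 102) (cond (Nat.beq c 99) [⟨189, -1, 1⟩] []) (cond (Nat.beq c 102) [⟨196, 1, 1⟩] []))) (cond (Nat.blt c 106) (cond (Nat.blt c 104) (cond (Nat.beq c 103) [⟨197, -1, 1⟩] []) (cond (Nat.beq c 104) [⟨199, 1, 1⟩] [])) (cond (Nat.blt c 119) (cond (Nat.beq c 106) [⟨208, -1, 1⟩] []) (cond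 (Nat.beq c 119) [⟨212, -1, 1⟩] []))))) (cond (Nat.blt c 148) (cond (Nat.blt c 133) (cond (Nat.blt c 128) (cond (Nat.blt c 121) (cond (Nat.beq c 120) [⟨213, 1, 1⟩] []) (cond (Nat.beq c 121) [⟨215, -1, 1⟩] [])) (cond (Nat.blt c 130) (cond (Nat.beq c 128) [⟨219, -1, 1⟩] []) (cond (Nat.beq c 130) [⟨220, 1, 1⟩] []))) (cond (Nat.blt c 142) (cond (Nat.blt c 138) (cond (Nat.beq c 133) [⟨221, -1, 1⟩] []) (cond (Nat.beq c 138) [⟨222, -1, 1⟩] [])) (cond (Nat.blt c 144) (cond (Nat.beq c 142) [⟨226, 1, 1⟩] []) (cond (Nat.beq c 144) [⟨227, 1, 1⟩] [])))) (cond (Nat.blt c 185) (cond (Nat.blt c 172) (cond (Nat.blt c 163) (cond (Nat.beq c 148) [⟨231, -1, 1⟩] []) (cond (Nat.beq c 163) [⟨233, 1, 1⟩] [])) (cond (Nat.blt c 176) (cond (Nat.beq c 172) [⟨234, -1, 1⟩] []) (cond (Nat.beq c 176) [⟨238, 1, 1⟩] [])))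 (cond (Nat.blt c 204) (cond (Nat.blt c 195) (cond (Nat.beq c 185) [⟨241, -1, 1⟩] []) (cond (Nat.beq c 195) [⟨242, -1, 1⟩] [])) (cond (Nat.blt c 206) (cond (Nat.beq c 204) [⟨244, 1, 1⟩] []) (cond (Nat.blt c 207) (cond (Nat.beq c 206) [⟨245, 1, 1⟩] []) (cond (Nat.beq c 207) [⟨246, 1, 1⟩] [])))))))

/-- Compiled columns of `x_211` for type E8. -/
def colsE8_211 (c : ℕ) : List CEnt :=
  cond (Nat.blt c 67) (cond (Nat.blt c 24) (cond (Nat.blt c 8) (cond (Nat.blt c 4) (cond (Nat.blt c 2) (cond (Nat.blt c 1) (cond (Nat.beq c 0) [⟨219, 0, 1⟩] []) (cond (Nat.beq c 1) [⟨219, -1, 1⟩] [])) (cond (Nat.blt c 3) (cond (Nat.beq c 2) [⟨219, 0, 1⟩] []) (cond (Nat.beq c 3) [⟨219, 1, 1⟩] []))) (cond (Nat.blt c 6) (cond (Nat.blt c 5) (cond (Nat.beq c 4) [⟨219, -1, 1⟩] []) (cond (Nat.beq c 5) [⟨219, 0, 1⟩] []))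 (cond (Nat.blt c 7) (cond (Nat.beq c 6) [⟨219, 1, 1⟩] []) (cond (Nat.beq c 7) [⟨219, -1, 1⟩] [])))) (cond (Nat.blt c 14) (cond (Nat.blt c 11) (cond (Nat.blt c 10) (cond (Nat.beq c 8) [⟨48, -1, 1⟩] []) (cond (Nat.beq c 10) [⟨50, 1, 1⟩] [])) (cond (Nat.blt c 13) (cond (Nat.beq c 11) [⟨52, 1, 1⟩] []) (cond (Nat.beq c 13) [⟨61, -1, 1⟩] []))) (cond (Nat.blt c 20) (cond (Nat.blt c 17) (cond (Nat.beq c 14) [⟨71, -1, 1⟩] []) (cond (Nat.beq c 17) [⟨80, 1, 1⟩] [])) (cond (Nat.blt c 22) (cond (Nat.beq c 20) [⟨83, 1, 1⟩] []) (cond (Nat.beq c 22) [⟨93, 1, 1⟩] []))))) (cond (Nat.blt c 39) (cond (Nat.blt c 34) (cond (Nat.blt c 29) (cond (Nat.blt c 27) (cond (Nat.beq c 24) [⟨108, -1, 1⟩] []) (cond (Nat.beq c 27) [⟨111, -1, 1⟩] [])) (cond (Nat.blt c 32) (cond (Nat.beq c 29) [⟨114, 1, 1⟩] []) (cond (Nat.beq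 c 32) [⟨117, 1, 1⟩] []))) (cond (Nat.blt c 36) (cond (Nat.blt c 35) (cond (Nat.beq c 34) [⟨123, -1, 1⟩] []) (cond (Nat.beq c 35) [⟨126, 1, 1⟩] [])) (cond (Nat.blt c 37) (cond (Nat.beq c 36) [⟨219, -1, 2⟩, ⟨0, 1, 1⟩, ⟨1, 2, 1⟩, ⟨2, 2, 1⟩, ⟨3, 3, 1⟩, ⟨4, 3, 1⟩, ⟨5, 2, 1⟩, ⟨6, 1, 1⟩, ⟨7, 1, 1⟩] []) (cond (Nat.beq c 37) [⟨128, 1, 1⟩] [])))) (cond (Nat.blt c 55) (cond (Nat.blt c 43) (cond (Nat.blt c 41) (cond (Nat.beq c 39) [⟨134, 1, 1⟩] []) (cond (Nat.beq c 41) [⟨135, -1, 1⟩] [])) (cond (Nat.blt c 46) (cond (Nat.beq c 43) [⟨137, 1, 1⟩] []) (cond (Nat.beq c 46) [⟨149, 1, 1⟩] []))) (cond (Nat.blt c 59) (cond (Nat.blt c 57) (cond (Nat.beq c 55) [⟨151, -1, 1⟩] []) (cond (Nat.beq c 57) [⟨152, 1, 1⟩] [])) (cond (Nat.blt c 65) (cond (Nat.beq c 59) [⟨154, -1, 1⟩] []) (cond (Nat.beq c 65) [⟨156, 1, 1⟩]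 [])))))) (cond (Nat.blt c 120) (cond (Nat.blt c 96) (cond (Nat.blt c 77) (cond (Nat.blt c 74) (cond (Nat.blt c 69) (cond (Nat.beq c 67) [⟨157, -1, 1⟩] []) (cond (Nat.beq c 69) [⟨159, 1, 1⟩] [])) (cond (Nat.blt c 76) (cond (Nat.beq c 74) [⟨164, 1, 1⟩] []) (cond (Nat.beq c 76) [⟨166, -1, 1⟩] []))) (cond (Nat.blt c 89) (cond (Nat.blt c 87) (cond (Nat.beq c 77) [⟨168, 1, 1⟩] []) (cond (Nat.beq c 87) [⟨178, -1, 1⟩] [])) (cond (Nat.blt c 91) (cond (Nat.beq c 89) [⟨179, 1, 1⟩] []) (cond (Nat.beq c 91) [⟨181, -1, 1⟩] [])))) (cond (Nat.blt c 103) (cond (Nat.blt c 99) (cond (Nat.blt c 98) (cond (Nat.beq c 96) [⟨186, -1, 1⟩] []) (cond (Nat.beq c 98) [⟨188, 1, 1⟩] [])) (cond (Nat.blt c 101) (cond (Nat.beq c 99) [⟨190, -1, 1⟩] []) (cond (Nat.beq c 101) [⟨196, 1, 1⟩] []))) (cond (Nat.blt c 106) (cond (Nat.blt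 c 104) (cond (Nat.beq c 103) [⟨198, -1, 1⟩] []) (cond (Nat.beq c 104) [⟨200, 1, 1⟩] [])) (cond (Nat.blt c 118) (cond (Nat.beq c 106) [⟨209, -1, 1⟩] []) (cond (Nat.beq c 118) [⟨212, -1, 1⟩] []))))) (cond (Nat.blt c 147) (cond (Nat.blt c 132) (cond (Nat.blt c 127) (cond (Nat.blt c 121) (cond (Nat.beq c 120) [⟨214, 1, 1⟩] []) (cond (Nat.beq c 121) [⟨216, -1, 1⟩] [])) (cond (Nat.blt c 129) (cond (Nat.beq c 127) [⟨218, -1, 1⟩] []) (cond (Nat.beq c 129) [⟨220, -1, 1⟩] []))) (cond (Nat.blt c 141) (cond (Nat.blt c 138) (cond (Nat.beq c 132) [⟨221, 1, 1⟩] []) (cond (Nat.beq c 138) [⟨223, -1, 1⟩] [])) (cond (Nat.blt c 144) (cond (Nat.beq c 141) [⟨226, -1, 1⟩] []) (cond (Nat.beq c 144) [⟨228, 1, 1⟩] [])))) (cond (Nat.blt c 184) (cond (Nat.blt c 172) (cond (Nat.blt c 162) (cond (Nat.beq c 147) [⟨231,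 1, 1⟩] []) (cond (Nat.beq c 162) [⟨233, -1, 1⟩] [])) (cond (Nat.blt c 175) (cond (Nat.beq c 172) [⟨235, -1, 1⟩] []) (cond (Nat.beq c 175) [⟨238, -1, 1⟩] []))) (cond (Nat.blt c 203) (cond (Nat.blt c 194) (cond (Nat.beq c 184) [⟨241, 1, 1⟩] []) (cond (Nat.beq c 194) [⟨242, 1, 1⟩] [])) (cond (Nat.blt c 205) (cond (Nat.beq c 203) [⟨244, -1, 1⟩] []) (cond (Nat.blt c 207) (cond (Nat.beq c 205) [⟨245, -1, 1⟩] []) (cond (Nat.beq c 207) [⟨247, 1, 1⟩] [])))))))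

/-- Compiled columns of `x_212` for type E8. -/
def colsE8_212 (c : ℕ) : List CEnt :=
  cond (Nat.blt c 67) (cond (Nat.blt c 24) (cond (Nat.blt c 8) (cond (Nat.blt c 4) (cond (Nat.blt c 2) (cond (Nat.blt c 1) (cond (Nat.beq c 0) [⟨220, 0, 1⟩] []) (cond (Nat.beq c 1) [⟨220, -1, 1⟩] [])) (cond (Nat.blt c 3) (cond (Nat.beq c 2) [⟨220, 0, 1⟩] []) (cond (Nat.beq c 3) [⟨220, 1, 1⟩] []))) (cond (Nat.blt c 6) (cond (Nat.blt c 5) (cond (Nat.beq c 4) [⟨220, -1, 1⟩] []) (cond (Nat.beq c 5) [⟨220, 1, 1⟩] [])) (cond (Nat.blt c 7) (cond (Nat.beq c 6) [⟨220, -1, 1⟩] []) (cond (Nat.beq c 7) [⟨220, 0, 1⟩] [])))) (cond (Nat.blt c 14) (cond (Nat.blt c 11) (cond (Nat.blt c 9) (cond (Nat.beq c 8) [⟨49, 1, 1⟩] []) (cond (Nat.beq c 9) [⟨50, 1, 1⟩] [])) (cond (Nat.blt c 13) (cond (Nat.beq c 11) [⟨53, -1, 1⟩] [])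 (cond (Nat.beq c 13) [⟨62, 1, 1⟩] []))) (cond (Nat.blt c 19) (cond (Nat.blt c 17) (cond (Nat.beq c 14) [⟨72, 1, 1⟩] []) (cond (Nat.beq c 17) [⟨81, -1, 1⟩] [])) (cond (Nat.blt c 22) (cond (Nat.beq c 19) [⟨83, 1, 1⟩] []) (cond (Nat.beq c 22) [⟨94, -1, 1⟩] []))))) (cond (Nat.blt c 38) (cond (Nat.blt c 34) (cond (Nat.blt c 29) (cond (Nat.blt c 26) (cond (Nat.beq c 24) [⟨109, 1, 1⟩] []) (cond (Nat.beq c 26) [⟨111, -1, 1⟩] [])) (cond (Nat.blt c 31) (cond (Nat.beq c 29) [⟨115, -1, 1⟩] []) (cond (Nat.beq c 31) [⟨117, 1, 1⟩] []))) (cond (Nat.blt c 36) (cond (Nat.blt c 35) (cond (Nat.beq c 34) [⟨124, 1, 1⟩] []) (cond (Nat.beq c 35) [⟨220, -1, 2⟩, ⟨0, 1, 1⟩, ⟨1, 2, 1⟩, ⟨2, 2, 1⟩, ⟨3, 3, 1⟩, ⟨4, 3, 1⟩, ⟨5, 2, 1⟩, ⟨6, 2, 1⟩, ⟨7, 1, 1⟩] [])) (cond (Nat.blt c 37) (cond (Nat.beq c 36) [⟨129, 1, 1⟩] []) (cond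 (Nat.beq c 37) [⟨130, -1, 1⟩] [])))) (cond (Nat.blt c 54) (cond (Nat.blt c 42) (cond (Nat.blt c 41) (cond (Nat.beq c 38) [⟨134, 1, 1⟩] []) (cond (Nat.beq c 41) [⟨136, -1, 1⟩] [])) (cond (Nat.blt c 45) (cond (Nat.beq c 42) [⟨137, 1, 1⟩] []) (cond (Nat.beq c 45) [⟨149, 1, 1⟩] []))) (cond (Nat.blt c 58) (cond (Nat.blt c 57) (cond (Nat.beq c 54) [⟨151, -1, 1⟩] []) (cond (Nat.beq c 57) [⟨153, 1, 1⟩] [])) (cond (Nat.blt c 64) (cond (Nat.beq c 58) [⟨154, -1, 1⟩] []) (cond (Nat.beq c 64) [⟨156, 1, 1⟩] [])))))) (cond (Nat.blt c 119) (cond (Nat.blt c 96) (cond (Nat.blt c 77) (cond (Nat.blt c 74) (cond (Nat.blt c 68) (cond (Nat.beq c 67) [⟨158, -1, 1⟩] []) (cond (Nat.beq c 68) [⟨159, 1, 1⟩] [])) (cond (Nat.blt c 75) (cond (Nat.beq c 74) [⟨165, 1, 1⟩] []) (cond (Nat.beq c 75) [⟨166, -1, 1⟩] []))) (cond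 (Nat.blt c 89) (cond (Nat.blt c 86) (cond (Nat.beq c 77) [⟨169, 1, 1⟩] []) (cond (Nat.beq c 86) [⟨178, -1, 1⟩] [])) (cond (Nat.blt c 90) (cond (Nat.beq c 89) [⟨180, 1, 1⟩] []) (cond (Nat.beq c 90) [⟨181, -1, 1⟩] [])))) (cond (Nat.blt c 102) (cond (Nat.blt c 99) (cond (Nat.blt c 97) (cond (Nat.beq c 96) [⟨187, -1, 1⟩] []) (cond (Nat.beq c 97) [⟨188, 1, 1⟩] [])) (cond (Nat.blt c 101) (cond (Nat.beq c 99) [⟨191, -1, 1⟩] []) (cond (Nat.beq c 101) [⟨197, 1, 1⟩] []))) (cond (Nat.blt c 106) (cond (Nat.blt c 104) (cond (Nat.beq c 102) [⟨198, -1, 1⟩] []) (cond (Nat.beq c 104) [⟨201, 1, 1⟩] [])) (cond (Nat.blt c 118) (cond (Nat.beq c 106) [⟨210, -1, 1⟩] []) (cond (Nat.beq c 118) [⟨213, -1, 1⟩] []))))) (cond (Nat.blt c 146) (cond (Nat.blt c 131) (cond (Nat.blt c 125) (cond (Nat.blt c 121) (cond (Nat.beq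 c 119) [⟨214, 1, 1⟩] []) (cond (Nat.beq c 121) [⟨217, -1, 1⟩] [])) (cond (Nat.blt c 126) (cond (Nat.beq c 125) [⟨218, 1, 1⟩] []) (cond (Nat.beq c 126) [⟨219, -1, 1⟩] []))) (cond (Nat.blt c 140) (cond (Nat.blt c 138) (cond (Nat.beq c 131) [⟨221, -1, 1⟩] []) (cond (Nat.beq c 138) [⟨224, -1, 1⟩] [])) (cond (Nat.blt c 144) (cond (Nat.beq c 140) [⟨226, 1, 1⟩] []) (cond (Nat.beq c 144) [⟨229, 1, 1⟩] [])))) (cond (Nat.blt c 183) (cond (Nat.blt c 172) (cond (Nat.blt c 161) (cond (Nat.beq c 146) [⟨231, -1, 1⟩] []) (cond (Nat.beq c 161) [⟨233, 1, 1⟩] [])) (cond (Nat.blt c 174) (cond (Nat.beq c 172) [⟨236, -1, 1⟩] []) (cond (Nat.beq c 174) [⟨238, 1, 1⟩] []))) (cond (Nat.blt c 202) (cond (Nat.blt c 193) (cond (Nat.beq c 183) [⟨241, -1, 1⟩] []) (cond (Nat.beq c 193) [⟨242, -1, 1⟩] [])) (cond (Nat.blt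 c 205) (cond (Nat.beq c 202) [⟨244, 1, 1⟩] []) (cond (Nat.blt c 206) (cond (Nat.beq c 205) [⟨246, -1, 1⟩] []) (cond (Nat.beq c 206) [⟨247, -1, 1⟩] [])))))))

/-- Compiled columns of `x_213` for type E8. -/
def colsE8_213 (c : ℕ) : List CEnt :=
  cond (Nat.blt c 65) (cond (Nat.blt c 24) (cond (Nat.blt c 8) (cond (Nat.blt c 4) (cond (Nat.blt c 2) (cond (Nat.blt c 1) (cond (Nat.beq c 0) [⟨221, 0, 1⟩] []) (cond (Nat.beq c 1) [⟨221, -1, 1⟩] [])) (cond (Nat.blt c 3) (cond (Nat.beq c 2) [⟨221, 0, 1⟩] []) (cond (Nat.beq c 3) [⟨221, 1, 1⟩] []))) (cond (Nat.blt c 6) (cond (Nat.blt c 5) (cond (Nat.beq c 4) [⟨221, 0, 1⟩] []) (cond (Nat.beq c 5) [⟨221, -1, 1⟩] [])) (cond (Nat.blt c 7) (cond (Nat.beq c 6) [⟨221, 0, 1⟩] []) (cond (Nat.beq c 7) [⟨221, 0, 1⟩] [])))) (cond (Nat.blt c 14) (cond (Nat.blt c 10)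 (cond (Nat.blt c 9) (cond (Nat.beq c 8) [⟨51, -1, 1⟩] []) (cond (Nat.beq c 9) [⟨52, -1, 1⟩] [])) (cond (Nat.blt c 13) (cond (Nat.beq c 10) [⟨53, -1, 1⟩] []) (cond (Nat.beq c 13) [⟨63, -1, 1⟩] []))) (cond (Nat.blt c 18) (cond (Nat.blt c 17) (cond (Nat.beq c 14) [⟨73, -1, 1⟩] []) (cond (Nat.beq c 17) [⟨82, 1, 1⟩] [])) (cond (Nat.blt c 22) (cond (Nat.beq c 18) [⟨83, 1, 1⟩] []) (cond (Nat.beq c 22) [⟨95, 1, 1⟩] []))))) (cond (Nat.blt c 38) (cond (Nat.blt c 34) (cond (Nat.blt c 29) (cond (Nat.blt c 25) (cond (Nat.beq c 24) [⟨110, -1, 1⟩] []) (cond (Nat.beq c 25) [⟨111, -1, 1⟩] [])) (cond (Nat.blt c 30) (cond (Nat.beq c 29) [⟨116, 1, 1⟩] []) (cond (Nat.beq c 30) [⟨117, 1, 1⟩] []))) (cond (Nat.blt c 36) (cond (Nat.blt c 35) (cond (Nat.beq c 34) [⟨221, -1, 2⟩, ⟨0, 1, 1⟩, ⟨1, 2, 1⟩, ⟨2, 2, 1⟩, ⟨3,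 3, 1⟩, ⟨4, 3, 1⟩, ⟨5, 3, 1⟩, ⟨6, 2, 1⟩, ⟨7, 1, 1⟩] []) (cond (Nat.beq c 35) [⟨131, 1, 1⟩] [])) (cond (Nat.blt c 37) (cond (Nat.beq c 36) [⟨132, -1, 1⟩] []) (cond (Nat.beq c 37) [⟨133, 1, 1⟩] [])))) (cond (Nat.blt c 54) (cond (Nat.blt c 40) (cond (Nat.blt c 39) (cond (Nat.beq c 38) [⟨135, 1, 1⟩] []) (cond (Nat.beq c 39) [⟨136, -1, 1⟩] [])) (cond (Nat.blt c 44) (cond (Nat.beq c 40) [⟨137, 1, 1⟩] []) (cond (Nat.beq c 44) [⟨149, 1, 1⟩] []))) (cond (Nat.blt c 56) (cond (Nat.blt c 55) (cond (Nat.beq c 54) [⟨152, -1, 1⟩] []) (cond (Nat.beq c 55) [⟨153, 1, 1⟩] [])) (cond (Nat.blt c 64) (cond (Nat.beq c 56) [⟨154, -1, 1⟩] []) (cond (Nat.beq c 64) [⟨157, 1, 1⟩] [])))))) (cond (Nat.blt c 119) (cond (Nat.blt c 96) (cond (Nat.blt c 76) (cond (Nat.blt c 74) (cond (Nat.blt c 66) (cond (Nat.beq c 65) [⟨158,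 -1, 1⟩] []) (cond (Nat.beq c 66) [⟨159, 1, 1⟩] [])) (cond (Nat.blt c 75) (cond (Nat.beq c 74) [⟨167, 1, 1⟩] []) (cond (Nat.beq c 75) [⟨168, -1, 1⟩] []))) (cond (Nat.blt c 87) (cond (Nat.blt c 86) (cond (Nat.beq c 76) [⟨169, 1, 1⟩] []) (cond (Nat.beq c 86) [⟨179, -1, 1⟩] [])) (cond (Nat.blt c 88) (cond (Nat.beq c 87) [⟨180, 1, 1⟩] []) (cond (Nat.beq c 88) [⟨181, -1, 1⟩] [])))) (cond (Nat.blt c 102) (cond (Nat.blt c 98) (cond (Nat.blt c 97) (cond (Nat.beq c 96) [⟨189, -1, 1⟩] []) (cond (Nat.beq c 97) [⟨190, 1, 1⟩] [])) (cond (Nat.blt c 101) (cond (Nat.beq c 98) [⟨191, -1, 1⟩] []) (cond (Nat.beq c 101) [⟨199, 1, 1⟩] []))) (cond (Nat.blt c 106) (cond (Nat.blt c 103) (cond (Nat.beq c 102) [⟨200, -1, 1⟩] []) (cond (Nat.beq c 103) [⟨201, 1, 1⟩] [])) (cond (Nat.blt c 118) (cond (Nat.beq c 106) [⟨211,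 -1, 1⟩] []) (cond (Nat.beq c 118) [⟨215, -1, 1⟩] []))))) (cond (Nat.blt c 145) (cond (Nat.blt c 124) (cond (Nat.blt c 122) (cond (Nat.blt c 120) (cond (Nat.beq c 119) [⟨216, 1, 1⟩] []) (cond (Nat.beq c 120) [⟨217, -1, 1⟩] [])) (cond (Nat.blt c 123) (cond (Nat.beq c 122) [⟨218, -1, 1⟩] []) (cond (Nat.beq c 123) [⟨219, 1, 1⟩] []))) (cond (Nat.blt c 139) (cond (Nat.blt c 138) (cond (Nat.beq c 124) [⟨220, -1, 1⟩] []) (cond (Nat.beq c 138) [⟨225, -1, 1⟩] [])) (cond (Nat.blt c 144) (cond (Nat.beq c 139) [⟨226, -1, 1⟩] []) (cond (Nat.beq c 144) [⟨230, 1, 1⟩] [])))) (cond (Nat.blt c 182) (cond (Nat.blt c 172) (cond (Nat.blt c 160) (cond (Nat.beq c 145) [⟨231, 1, 1⟩] []) (cond (Nat.beq c 160) [⟨233, -1, 1⟩] [])) (cond (Nat.blt c 173) (cond (Nat.beq c 172) [⟨237, -1, 1⟩] []) (cond (Nat.beq c 173) [⟨238,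 -1, 1⟩] []))) (cond (Nat.blt c 202) (cond (Nat.blt c 192) (cond (Nat.beq c 182) [⟨241, 1, 1⟩] []) (cond (Nat.beq c 192) [⟨242, 1, 1⟩] [])) (cond (Nat.blt c 203) (cond (Nat.beq c 202) [⟨245, 1, 1⟩] []) (cond (Nat.blt c 204) (cond (Nat.beq c 203) [⟨246, 1, 1⟩] []) (cond (Nat.beq c 204) [⟨247, 1, 1⟩] [])))))))

/-- Compiled columns of `x_214` for type E8. -/
def colsE8_214 (c : ℕ) : List CEnt :=
  cond (Nat.blt c 68) (cond (Nat.blt c 23) (cond (Nat.blt c 9) (cond (Nat.blt c 4) (cond (Nat.blt c 2) (cond (Nat.blt c 1) (cond (Nat.beq c 0) [⟨222, 0, 1⟩] []) (cond (Nat.beq c 1) [⟨222, 0, 1⟩] [])) (cond (Nat.blt c 3) (cond (Nat.beq c 2) [⟨222, 1, 1⟩] []) (cond (Nat.beq c 3) [⟨222, -1, 1⟩] []))) (cond (Nat.blt c 6) (cond (Nat.blt c 5) (cond (Nat.beq c 4) [⟨222, 0, 1⟩] []) (cond (Nat.beq c 5) [⟨222,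 0, 1⟩] [])) (cond (Nat.blt c 7) (cond (Nat.beq c 6) [⟨222, 0, 1⟩] []) (cond (Nat.beq c 7) [⟨222, 1, 1⟩] [])))) (cond (Nat.blt c 14) (cond (Nat.blt c 11) (cond (Nat.blt c 10) (cond (Nat.beq c 9) [⟨54, 1, 1⟩] []) (cond (Nat.beq c 10) [⟨55, 1, 1⟩] [])) (cond (Nat.blt c 12) (cond (Nat.beq c 11) [⟨57, 1, 1⟩] []) (cond (Nat.beq c 12) [⟨60, 1, 1⟩] []))) (cond (Nat.blt c 21) (cond (Nat.blt c 16) (cond (Nat.beq c 14) [⟨74, -1, 1⟩] []) (cond (Nat.beq c 16) [⟨79, -1, 1⟩] [])) (cond (Nat.blt c 22) (cond (Nat.beq c 21) [⟨84, -1, 1⟩] []) (cond (Nat.beq c 22) [⟨96, 1, 1⟩] []))))) (cond (Nat.blt c 40) (cond (Nat.blt c 31) (cond (Nat.blt c 29) (cond (Nat.blt c 28) (cond (Nat.beq c 23) [⟨107, 1, 1⟩] []) (cond (Nat.beq c 28) [⟨112, 1, 1⟩] [])) (cond (Nat.blt c 30) (cond (Nat.beq c 29) [⟨118, -1, 1⟩] []) (cond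 (Nat.beq c 30) [⟨122, 1, 1⟩] []))) (cond (Nat.blt c 33) (cond (Nat.blt c 32) (cond (Nat.beq c 31) [⟨125, -1, 1⟩] []) (cond (Nat.beq c 32) [⟨127, 1, 1⟩] [])) (cond (Nat.blt c 37) (cond (Nat.beq c 33) [⟨222, -1, 2⟩, ⟨0, 1, 1⟩, ⟨1, 2, 1⟩, ⟨2, 2, 1⟩, ⟨3, 4, 1⟩, ⟨4, 3, 1⟩, ⟨5, 2, 1⟩, ⟨6, 1, 1⟩, ⟨7, 0, 1⟩] []) (cond (Nat.beq c 37) [⟨138, 1, 1⟩] [])))) (cond (Nat.blt c 50) (cond (Nat.blt c 43) (cond (Nat.blt c 42) (cond (Nat.beq c 40) [⟨139, -1, 1⟩] []) (cond (Nat.beq c 42) [⟨140, 1, 1⟩] [])) (cond (Nat.blt c 47) (cond (Nat.beq c 43) [⟨141, -1, 1⟩] []) (cond (Nat.beq c 47) [⟨150, 1, 1⟩] []))) (cond (Nat.blt c 53) (cond (Nat.blt c 52) (cond (Nat.beq c 50) [⟨151, -1, 1⟩] []) (cond (Nat.beq c 52) [⟨152, 1, 1⟩] [])) (cond (Nat.blt c 66) (cond (Nat.beq c 53) [⟨153, -1, 1⟩] []) (cond (Nat.beq c 66) [⟨160,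 1, 1⟩] [])))))) (cond (Nat.blt c 115) (cond (Nat.blt c 93) (cond (Nat.blt c 73) (cond (Nat.blt c 71) (cond (Nat.blt c 69) (cond (Nat.beq c 68) [⟨161, -1, 1⟩] []) (cond (Nat.beq c 69) [⟨162, 1, 1⟩] [])) (cond (Nat.blt c 72) (cond (Nat.beq c 71) [⟨164, 1, 1⟩] []) (cond (Nat.beq c 72) [⟨165, -1, 1⟩] []))) (cond (Nat.blt c 90) (cond (Nat.blt c 88) (cond (Nat.beq c 73) [⟨167, 1, 1⟩] []) (cond (Nat.beq c 88) [⟨182, -1, 1⟩] [])) (cond (Nat.blt c 91) (cond (Nat.beq c 90) [⟨183, 1, 1⟩] []) (cond (Nat.beq c 91) [⟨184, -1, 1⟩] [])))) (cond (Nat.blt c 103) (cond (Nat.blt c 95) (cond (Nat.blt c 94) (cond (Nat.beq c 93) [⟨186, -1, 1⟩] []) (cond (Nat.beq c 94) [⟨187, 1, 1⟩] [])) (cond (Nat.blt c 102) (cond (Nat.beq c 95) [⟨189, -1, 1⟩] []) (cond (Nat.beq c 102) [⟨202, 1, 1⟩] []))) (cond (Nat.blt c 105)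 (cond (Nat.blt c 104) (cond (Nat.beq c 103) [⟨203, -1, 1⟩] []) (cond (Nat.beq c 104) [⟨205, 1, 1⟩] [])) (cond (Nat.blt c 114) (cond (Nat.beq c 105) [⟨208, -1, 1⟩] []) (cond (Nat.beq c 114) [⟨212, 1, 1⟩] []))))) (cond (Nat.blt c 148) (cond (Nat.blt c 130) (cond (Nat.blt c 117) (cond (Nat.blt c 116) (cond (Nat.beq c 115) [⟨213, -1, 1⟩] []) (cond (Nat.beq c 116) [⟨215, 1, 1⟩] [])) (cond (Nat.blt c 128) (cond (Nat.beq c 117) [⟨218, -1, 1⟩] []) (cond (Nat.beq c 128) [⟨223, -1, 1⟩] []))) (cond (Nat.blt c 137) (cond (Nat.blt c 133) (cond (Nat.beq c 130) [⟨224, 1, 1⟩] []) (cond (Nat.beq c 133) [⟨225, -1, 1⟩] [])) (cond (Nat.blt c 143) (cond (Nat.beq c 137) [⟨226, 1, 1⟩] []) (cond (Nat.beq c 143) [⟨227, -1, 1⟩] [])))) (cond (Nat.blt c 181) (cond (Nat.blt c 171) (cond (Nat.blt c 159) (cond (Nat.beq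 c 148) [⟨232, -1, 1⟩] []) (cond (Nat.beq c 159) [⟨233, -1, 1⟩] [])) (cond (Nat.blt c 176) (cond (Nat.beq c 171) [⟨234, 1, 1⟩] []) (cond (Nat.beq c 176) [⟨239, 1, 1⟩] []))) (cond (Nat.blt c 198) (cond (Nat.blt c 195) (cond (Nat.beq c 181) [⟨241, 1, 1⟩] []) (cond (Nat.beq c 195) [⟨243, -1, 1⟩] [])) (cond (Nat.blt c 200) (cond (Nat.beq c 198) [⟨244, -1, 1⟩] []) (cond (Nat.blt c 201) (cond (Nat.beq c 200) [⟨245, -1, 1⟩] []) (cond (Nat.beq c 201) [⟨246, -1, 1⟩] [])))))))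

/-- Compiled columns of `x_215` for type E8. -/
def colsE8_215 (c : ℕ) : List CEnt :=
  cond (Nat.blt c 67) (cond (Nat.blt c 23) (cond (Nat.blt c 8) (cond (Nat.blt c 4) (cond (Nat.blt c 2) (cond (Nat.blt c 1) (cond (Nat.beq c 0) [⟨223, 0, 1⟩] []) (cond (Nat.beq c 1) [⟨223, 0, 1⟩] [])) (cond (Nat.blt c 3) (cond (Nat.beq c 2) [⟨223, 1, 1⟩] []) (cond (Nat.beq c 3) [⟨223, -1, 1⟩] []))) (cond (Nat.blt c 6) (cond (Nat.blt c 5) (cond (Nat.beq c 4) [⟨223, 0, 1⟩] []) (cond (Nat.beq c 5) [⟨223, 0, 1⟩] [])) (cond (Nat.blt c 7) (cond (Nat.beq c 6) [⟨223, 1, 1⟩] []) (cond (Nat.beq c 7) [⟨223, -1, 1⟩] [])))) (cond (Nat.blt c 14) (cond (Nat.blt c 11) (cond (Nat.blt c 10) (cond (Nat.beq c 8) [⟨54, 1, 1⟩] []) (cond (Nat.beq c 10) [⟨56, -1, 1⟩] [])) (cond (Nat.blt c 12) (cond (Nat.beq c 11) [⟨58, -1, 1⟩]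 []) (cond (Nat.beq c 12) [⟨61, -1, 1⟩] []))) (cond (Nat.blt c 20) (cond (Nat.blt c 16) (cond (Nat.beq c 14) [⟨75, 1, 1⟩] []) (cond (Nat.beq c 16) [⟨80, 1, 1⟩] [])) (cond (Nat.blt c 22) (cond (Nat.beq c 20) [⟨84, -1, 1⟩] []) (cond (Nat.beq c 22) [⟨97, -1, 1⟩] []))))) (cond (Nat.blt c 39) (cond (Nat.blt c 31) (cond (Nat.blt c 29) (cond (Nat.blt c 27) (cond (Nat.beq c 23) [⟨108, -1, 1⟩] []) (cond (Nat.beq c 27) [⟨112, 1, 1⟩] [])) (cond (Nat.blt c 30) (cond (Nat.beq c 29) [⟨119, 1, 1⟩] []) (cond (Nat.beq c 30) [⟨123, -1, 1⟩] []))) (cond (Nat.blt c 33) (cond (Nat.blt c 32) (cond (Nat.beq c 31) [⟨126, 1, 1⟩] []) (cond (Nat.beq c 32) [⟨223, -1, 2⟩, ⟨0, 1, 1⟩, ⟨1, 2, 1⟩, ⟨2, 2, 1⟩, ⟨3, 4, 1⟩, ⟨4, 3, 1⟩, ⟨5, 2, 1⟩, ⟨6, 1, 1⟩, ⟨7, 1, 1⟩] [])) (cond (Nat.blt c 36) (cond (Nat.beq c 33) [⟨128, 1, 1⟩]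 []) (cond (Nat.beq c 36) [⟨138, 1, 1⟩] [])))) (cond (Nat.blt c 49) (cond (Nat.blt c 43) (cond (Nat.blt c 41) (cond (Nat.beq c 39) [⟨139, -1, 1⟩] []) (cond (Nat.beq c 41) [⟨140, 1, 1⟩] [])) (cond (Nat.blt c 46) (cond (Nat.beq c 43) [⟨142, -1, 1⟩] []) (cond (Nat.beq c 46) [⟨150, 1, 1⟩] []))) (cond (Nat.blt c 53) (cond (Nat.blt c 51) (cond (Nat.beq c 49) [⟨151, -1, 1⟩] []) (cond (Nat.beq c 51) [⟨152, 1, 1⟩] [])) (cond (Nat.blt c 65) (cond (Nat.beq c 53) [⟨154, -1, 1⟩] []) (cond (Nat.beq c 65) [⟨160, 1, 1⟩] [])))))) (cond (Nat.blt c 115) (cond (Nat.blt c 92) (cond (Nat.blt c 73) (cond (Nat.blt c 70) (cond (Nat.blt c 69) (cond (Nat.beq c 67) [⟨161, -1, 1⟩] []) (cond (Nat.beq c 69) [⟨163, 1, 1⟩] [])) (cond (Nat.blt c 72) (cond (Nat.beq c 70) [⟨164, 1, 1⟩] []) (cond (Nat.beq c 72) [⟨166, -1, 1⟩]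 []))) (cond (Nat.blt c 89) (cond (Nat.blt c 87) (cond (Nat.beq c 73) [⟨168, 1, 1⟩] []) (cond (Nat.beq c 87) [⟨182, -1, 1⟩] [])) (cond (Nat.blt c 91) (cond (Nat.beq c 89) [⟨183, 1, 1⟩] []) (cond (Nat.beq c 91) [⟨185, -1, 1⟩] [])))) (cond (Nat.blt c 103) (cond (Nat.blt c 95) (cond (Nat.blt c 94) (cond (Nat.beq c 92) [⟨186, -1, 1⟩] []) (cond (Nat.beq c 94) [⟨188, 1, 1⟩] [])) (cond (Nat.blt c 101) (cond (Nat.beq c 95) [⟨190, -1, 1⟩] []) (cond (Nat.beq c 101) [⟨202, 1, 1⟩] []))) (cond (Nat.blt c 105) (cond (Nat.blt c 104) (cond (Nat.beq c 103) [⟨204, -1, 1⟩] []) (cond (Nat.beq c 104) [⟨206, 1, 1⟩] [])) (cond (Nat.blt c 113) (cond (Nat.beq c 105) [⟨209, -1, 1⟩] []) (cond (Nat.beq c 113) [⟨212, 1, 1⟩] []))))) (cond (Nat.blt c 147) (cond (Nat.blt c 129) (cond (Nat.blt c 117) (cond (Nat.blt c 116)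 (cond (Nat.beq c 115) [⟨214, -1, 1⟩] []) (cond (Nat.beq c 116) [⟨216, 1, 1⟩] [])) (cond (Nat.blt c 127) (cond (Nat.beq c 117) [⟨219, -1, 1⟩] []) (cond (Nat.beq c 127) [⟨222, -1, 1⟩] []))) (cond (Nat.blt c 136) (cond (Nat.blt c 132) (cond (Nat.beq c 129) [⟨224, -1, 1⟩] []) (cond (Nat.beq c 132) [⟨225, 1, 1⟩] [])) (cond (Nat.blt c 143) (cond (Nat.beq c 136) [⟨226, -1, 1⟩] []) (cond (Nat.beq c 143) [⟨228, -1, 1⟩] [])))) (cond (Nat.blt c 180) (cond (Nat.blt c 171) (cond (Nat.blt c 158) (cond (Nat.beq c 147) [⟨232, 1, 1⟩] []) (cond (Nat.beq c 158) [⟨233, 1, 1⟩] [])) (cond (Nat.blt c 175) (cond (Nat.beq c 171) [⟨235, 1, 1⟩] []) (cond (Nat.beq c 175) [⟨239, -1, 1⟩] []))) (cond (Nat.blt c 197) (cond (Nat.blt c 194) (cond (Nat.beq c 180) [⟨241, -1, 1⟩] []) (cond (Nat.beq c 194) [⟨243, 1, 1⟩] []))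 (cond (Nat.blt c 199) (cond (Nat.beq c 197) [⟨244, 1, 1⟩] []) (cond (Nat.blt c 201) (cond (Nat.beq c 199) [⟨245, 1, 1⟩] []) (cond (Nat.beq c 201) [⟨247, -1, 1⟩] [])))))))

/-- Compiled columns of `x_216` for type E8. -/
def colsE8_216 (c : ℕ) : List CEnt :=
  cond (Nat.blt c 67) (cond (Nat.blt c 23) (cond (Nat.blt c 8) (cond (Nat.blt c 4) (cond (Nat.blt c 2) (cond (Nat.blt c 1) (cond (Nat.beq c 0) [⟨224, 0, 1⟩] []) (cond (Nat.beq c 1) [⟨224, 0, 1⟩] [])) (cond (Nat.blt c 3) (cond (Nat.beq c 2) [⟨224, 1, 1⟩] []) (cond (Nat.beq c 3) [⟨224, -1, 1⟩] []))) (cond (Nat.blt c 6) (cond (Nat.blt c 5) (cond (Nat.beq c 4) [⟨224, 0, 1⟩] []) (cond (Nat.beq c 5) [⟨224, 1, 1⟩] [])) (cond (Nat.blt c 7) (cond (Nat.beq c 6) [⟨224, -1, 1⟩] []) (cond (Nat.beq c 7) [⟨224, 0, 1⟩] [])))) (cond (Nat.blt c 14) (cond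 (Nat.blt c 11) (cond (Nat.blt c 9) (cond (Nat.beq c 8) [⟨55, -1, 1⟩] []) (cond (Nat.beq c 9) [⟨56, -1, 1⟩] [])) (cond (Nat.blt c 12) (cond (Nat.beq c 11) [⟨59, 1, 1⟩] []) (cond (Nat.beq c 12) [⟨62, 1, 1⟩] []))) (cond (Nat.blt c 19) (cond (Nat.blt c 16) (cond (Nat.beq c 14) [⟨76, -1, 1⟩] []) (cond (Nat.beq c 16) [⟨81, -1, 1⟩] [])) (cond (Nat.blt c 22) (cond (Nat.beq c 19) [⟨84, -1, 1⟩] []) (cond (Nat.beq c 22) [⟨98, 1, 1⟩] []))))) (cond (Nat.blt c 38) (cond (Nat.blt c 31) (cond (Nat.blt c 29) (cond (Nat.blt c 26) (cond (Nat.beq c 23) [⟨109, 1, 1⟩] []) (cond (Nat.beq c 26) [⟨112, 1, 1⟩] [])) (cond (Nat.blt c 30) (cond (Nat.beq c 29) [⟨120, -1, 1⟩] []) (cond (Nat.beq c 30) [⟨124, 1, 1⟩] []))) (cond (Nat.blt c 33) (cond (Nat.blt c 32) (cond (Nat.beq c 31) [⟨224, -1, 2⟩, ⟨0, 1, 1⟩, ⟨1, 2, 1⟩,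 ⟨2, 2, 1⟩, ⟨3, 4, 1⟩, ⟨4, 3, 1⟩, ⟨5, 2, 1⟩, ⟨6, 2, 1⟩, ⟨7, 1, 1⟩] []) (cond (Nat.beq c 32) [⟨129, 1, 1⟩] [])) (cond (Nat.blt c 35) (cond (Nat.beq c 33) [⟨130, -1, 1⟩] []) (cond (Nat.beq c 35) [⟨138, 1, 1⟩] [])))) (cond (Nat.blt c 48) (cond (Nat.blt c 42) (cond (Nat.blt c 41) (cond (Nat.beq c 38) [⟨139, -1, 1⟩] []) (cond (Nat.beq c 41) [⟨141, 1, 1⟩] [])) (cond (Nat.blt c 45) (cond (Nat.beq c 42) [⟨142, -1, 1⟩] []) (cond (Nat.beq c 45) [⟨150, 1, 1⟩] []))) (cond (Nat.blt c 52) (cond (Nat.blt c 51) (cond (Nat.beq c 48) [⟨151, -1, 1⟩] []) (cond (Nat.beq c 51) [⟨153, 1, 1⟩] [])) (cond (Nat.blt c 64) (cond (Nat.beq c 52) [⟨154, -1, 1⟩] []) (cond (Nat.beq c 64) [⟨160, 1, 1⟩] [])))))) (cond (Nat.blt c 114) (cond (Nat.blt c 92) (cond (Nat.blt c 73) (cond (Nat.blt c 70) (cond (Nat.blt c 68) (cond (Nat.beq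 c 67) [⟨162, -1, 1⟩] []) (cond (Nat.beq c 68) [⟨163, 1, 1⟩] [])) (cond (Nat.blt c 71) (cond (Nat.beq c 70) [⟨165, 1, 1⟩] []) (cond (Nat.beq c 71) [⟨166, -1, 1⟩] []))) (cond (Nat.blt c 89) (cond (Nat.blt c 86) (cond (Nat.beq c 73) [⟨169, 1, 1⟩] []) (cond (Nat.beq c 86) [⟨182, -1, 1⟩] [])) (cond (Nat.blt c 90) (cond (Nat.beq c 89) [⟨184, 1, 1⟩] []) (cond (Nat.beq c 90) [⟨185, -1, 1⟩] [])))) (cond (Nat.blt c 102) (cond (Nat.blt c 95) (cond (Nat.blt c 93) (cond (Nat.beq c 92) [⟨187, -1, 1⟩] []) (cond (Nat.beq c 93) [⟨188, 1, 1⟩] [])) (cond (Nat.blt c 101) (cond (Nat.beq c 95) [⟨191, -1, 1⟩] []) (cond (Nat.beq c 101) [⟨203, 1, 1⟩] []))) (cond (Nat.blt c 105) (cond (Nat.blt c 104) (cond (Nat.beq c 102) [⟨204, -1, 1⟩] []) (cond (Nat.beq c 104) [⟨207, 1, 1⟩] [])) (cond (Nat.blt c 113) (cond (Nat.beq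 c 105) [⟨210, -1, 1⟩] []) (cond (Nat.beq c 113) [⟨213, 1, 1⟩] []))))) (cond (Nat.blt c 146) (cond (Nat.blt c 126) (cond (Nat.blt c 117) (cond (Nat.blt c 116) (cond (Nat.beq c 114) [⟨214, -1, 1⟩] []) (cond (Nat.beq c 116) [⟨217, 1, 1⟩] [])) (cond (Nat.blt c 125) (cond (Nat.beq c 117) [⟨220, -1, 1⟩] []) (cond (Nat.beq c 125) [⟨222, 1, 1⟩] []))) (cond (Nat.blt c 135) (cond (Nat.blt c 131) (cond (Nat.beq c 126) [⟨223, -1, 1⟩] []) (cond (Nat.beq c 131) [⟨225, -1, 1⟩] [])) (cond (Nat.blt c 143) (cond (Nat.beq c 135) [⟨226, 1, 1⟩] []) (cond (Nat.beq c 143) [⟨229, -1, 1⟩] [])))) (cond (Nat.blt c 179) (cond (Nat.blt c 171) (cond (Nat.blt c 157) (cond (Nat.beq c 146) [⟨232, -1, 1⟩] []) (cond (Nat.beq c 157) [⟨233, -1, 1⟩] [])) (cond (Nat.blt c 174) (cond (Nat.beq c 171) [⟨236, 1, 1⟩] []) (cond (Nat.beq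 c 174) [⟨239, 1, 1⟩] []))) (cond (Nat.blt c 196) (cond (Nat.blt c 193) (cond (Nat.beq c 179) [⟨241, 1, 1⟩] []) (cond (Nat.beq c 193) [⟨243, -1, 1⟩] [])) (cond (Nat.blt c 199) (cond (Nat.beq c 196) [⟨244, -1, 1⟩] []) (cond (Nat.blt c 200) (cond (Nat.beq c 199) [⟨246, 1, 1⟩] []) (cond (Nat.beq c 200) [⟨247, 1, 1⟩] [])))))))

/-- Compiled columns of `x_217` for type E8. -/
def colsE8_217 (c : ℕ) : List CEnt :=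
  cond (Nat.blt c 65) (cond (Nat.blt c 23) (cond (Nat.blt c 8) (cond (Nat.blt c 4) (cond (Nat.blt c 2) (cond (Nat.blt c 1) (cond (Nat.beq c 0) [⟨225, 0, 1⟩] []) (cond (Nat.beq c 1) [⟨225, 0, 1⟩] [])) (cond (Nat.blt c 3) (cond (Nat.beq c 2) [⟨225, 1, 1⟩] []) (cond (Nat.beq c 3) [⟨225, -1, 1⟩] []))) (cond (Nat.blt c 6) (cond (Nat.blt c 5) (cond (Nat.beq c 4) [⟨225, 1, 1⟩] []) (cond (Nat.beq c 5) [⟨225, -1, 1⟩] [])) (cond (Nat.blt c 7) (cond (Nat.beq c 6) [⟨225, 0, 1⟩] []) (cond (Nat.beq c 7) [⟨225, 0, 1⟩] [])))) (cond (Nat.blt c 14) (cond (Nat.blt c 10) (cond (Nat.blt c 9) (cond (Nat.beq c 8) [⟨57, 1, 1⟩] []) (cond (Nat.beq c 9) [⟨58, 1, 1⟩] [])) (cond (Nat.blt c 12) (cond (Nat.beq c 10) [⟨59, 1, 1⟩] []) (cond (Nat.beq c 12) [⟨63, -1, 1⟩] []))) (cond (Nat.blt c 18) (cond (Nat.blt c 16) (cond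 (Nat.beq c 14) [⟨77, 1, 1⟩] []) (cond (Nat.beq c 16) [⟨82, 1, 1⟩] [])) (cond (Nat.blt c 22) (cond (Nat.beq c 18) [⟨84, -1, 1⟩] []) (cond (Nat.beq c 22) [⟨99, -1, 1⟩] []))))) (cond (Nat.blt c 38) (cond (Nat.blt c 31) (cond (Nat.blt c 29) (cond (Nat.blt c 25) (cond (Nat.beq c 23) [⟨110, -1, 1⟩] []) (cond (Nat.beq c 25) [⟨112, 1, 1⟩] [])) (cond (Nat.blt c 30) (cond (Nat.beq c 29) [⟨121, 1, 1⟩] []) (cond (Nat.beq c 30) [⟨225, -1, 2⟩, ⟨0, 1, 1⟩, ⟨1, 2, 1⟩, ⟨2, 2, 1⟩, ⟨3, 4, 1⟩, ⟨4, 3, 1⟩, ⟨5, 3, 1⟩, ⟨6, 2, 1⟩, ⟨7, 1, 1⟩] []))) (cond (Nat.blt c 33) (cond (Nat.blt c 32) (cond (Nat.beq c 31) [⟨131, 1, 1⟩] []) (cond (Nat.beq c 32) [⟨132, -1, 1⟩] [])) (cond (Nat.blt c 34) (cond (Nat.beq c 33) [⟨133, 1, 1⟩] []) (cond (Nat.beq c 34) [⟨138, 1, 1⟩] [])))) (cond (Nat.blt c 48) (cond (Nat.blt c 40) (cond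 (Nat.blt c 39) (cond (Nat.beq c 38) [⟨140, -1, 1⟩] []) (cond (Nat.beq c 39) [⟨141, 1, 1⟩] [])) (cond (Nat.blt c 44) (cond (Nat.beq c 40) [⟨142, -1, 1⟩] []) (cond (Nat.beq c 44) [⟨150, 1, 1⟩] []))) (cond (Nat.blt c 50) (cond (Nat.blt c 49) (cond (Nat.beq c 48) [⟨152, -1, 1⟩] []) (cond (Nat.beq c 49) [⟨153, 1, 1⟩] [])) (cond (Nat.blt c 64) (cond (Nat.beq c 50) [⟨154, -1, 1⟩] []) (cond (Nat.beq c 64) [⟨161, 1, 1⟩] [])))))) (cond (Nat.blt c 114) (cond (Nat.blt c 92) (cond (Nat.blt c 72) (cond (Nat.blt c 70) (cond (Nat.blt c 66) (cond (Nat.beq c 65) [⟨162, -1, 1⟩] []) (cond (Nat.beq c 66) [⟨163, 1, 1⟩] [])) (cond (Nat.blt c 71) (cond (Nat.beq c 70) [⟨167, 1, 1⟩] []) (cond (Nat.beq c 71) [⟨168, -1, 1⟩] []))) (cond (Nat.blt c 87) (cond (Nat.blt c 86) (cond (Nat.beq c 72) [⟨169, 1, 1⟩] []) (cond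 (Nat.beq c 86) [⟨183, -1, 1⟩] [])) (cond (Nat.blt c 88) (cond (Nat.beq c 87) [⟨184, 1, 1⟩] []) (cond (Nat.beq c 88) [⟨185, -1, 1⟩] [])))) (cond (Nat.blt c 102) (cond (Nat.blt c 94) (cond (Nat.blt c 93) (cond (Nat.beq c 92) [⟨189, -1, 1⟩] []) (cond (Nat.beq c 93) [⟨190, 1, 1⟩] [])) (cond (Nat.blt c 101) (cond (Nat.beq c 94) [⟨191, -1, 1⟩] []) (cond (Nat.beq c 101) [⟨205, 1, 1⟩] []))) (cond (Nat.blt c 105) (cond (Nat.blt c 103) (cond (Nat.beq c 102) [⟨206, -1, 1⟩] []) (cond (Nat.beq c 103) [⟨207, 1, 1⟩] [])) (cond (Nat.blt c 113) (cond (Nat.beq c 105) [⟨211, -1, 1⟩] []) (cond (Nat.beq c 113) [⟨215, 1, 1⟩] []))))) (cond (Nat.blt c 145) (cond (Nat.blt c 123) (cond (Nat.blt c 117) (cond (Nat.blt c 115) (cond (Nat.beq c 114) [⟨216, -1, 1⟩] []) (cond (Nat.beq c 115) [⟨217, 1, 1⟩] [])) (cond (Nat.blt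 c 122) (cond (Nat.beq c 117) [⟨221, -1, 1⟩] []) (cond (Nat.beq c 122) [⟨222, -1, 1⟩] []))) (cond (Nat.blt c 134) (cond (Nat.blt c 124) (cond (Nat.beq c 123) [⟨223, 1, 1⟩] []) (cond (Nat.beq c 124) [⟨224, -1, 1⟩] [])) (cond (Nat.blt c 143) (cond (Nat.beq c 134) [⟨226, -1, 1⟩] []) (cond (Nat.beq c 143) [⟨230, -1, 1⟩] [])))) (cond (Nat.blt c 178) (cond (Nat.blt c 171) (cond (Nat.blt c 156) (cond (Nat.beq c 145) [⟨232, 1, 1⟩] []) (cond (Nat.beq c 156) [⟨233, 1, 1⟩] [])) (cond (Nat.blt c 173) (cond (Nat.beq c 171) [⟨237, 1, 1⟩] []) (cond (Nat.beq c 173) [⟨239, -1, 1⟩] []))) (cond (Nat.blt c 196) (cond (Nat.blt c 192) (cond (Nat.beq c 178) [⟨241, -1, 1⟩] []) (cond (Nat.beq c 192) [⟨243, 1, 1⟩] [])) (cond (Nat.blt c 197) (cond (Nat.beq c 196) [⟨245, -1, 1⟩] []) (cond (Nat.blt c 198) (cond (Nat.beq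 c 197) [⟨246, -1, 1⟩] []) (cond (Nat.beq c 198) [⟨247, -1, 1⟩] [])))))))

/-- Compiled columns of `x_218` for type E8. -/
def colsE8_218 (c : ℕ) : List CEnt :=
  cond (Nat.blt c 65) (cond (Nat.blt c 23) (cond (Nat.blt c 8) (cond (Nat.blt c 4) (cond (Nat.blt c 2) (cond (Nat.blt c 1) (cond (Nat.beq c 0) [⟨226, 0, 1⟩] []) (cond (Nat.beq c 1) [⟨226, 0, 1⟩] [])) (cond (Nat.blt c 3) (cond (Nat.beq c 2) [⟨226, 1, 1⟩] []) (cond (Nat.beq c 3) [⟨226, 0, 1⟩] []))) (cond (Nat.blt c 6) (cond (Nat.blt c 5) (cond (Nat.beq c 4) [⟨226, -1, 1⟩] []) (cond (Nat.beq c 5) [⟨226, 0, 1⟩] [])) (cond (Nat.blt c 7) (cond (Nat.beq c 6) [⟨226, 0, 1⟩] []) (cond (Nat.beq c 7) [⟨226, 0, 1⟩] [])))) (cond (Nat.blt c 14) (cond (Nat.blt c 10) (cond (Nat.blt c 9) (cond (Nat.beq c 8) [⟨60, -1, 1⟩] []) (cond (Nat.beq c 9) [⟨61,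 -1, 1⟩] [])) (cond (Nat.blt c 11) (cond (Nat.beq c 10) [⟨62, -1, 1⟩] []) (cond (Nat.beq c 11) [⟨63, -1, 1⟩] []))) (cond (Nat.blt c 17) (cond (Nat.blt c 16) (cond (Nat.beq c 14) [⟨78, -1, 1⟩] []) (cond (Nat.beq c 16) [⟨83, -1, 1⟩] [])) (cond (Nat.blt c 22) (cond (Nat.beq c 17) [⟨84, -1, 1⟩] []) (cond (Nat.beq c 22) [⟨100, 1, 1⟩] []))))) (cond (Nat.blt c 35) (cond (Nat.blt c 31) (cond (Nat.blt c 29) (cond (Nat.blt c 24) (cond (Nat.beq c 23) [⟨111, 1, 1⟩] []) (cond (Nat.beq c 24) [⟨112, 1, 1⟩] [])) (cond (Nat.blt c 30) (cond (Nat.beq c 29) [⟨226, -1, 2⟩, ⟨0, 1, 1⟩, ⟨1, 2, 1⟩, ⟨2, 2, 1⟩, ⟨3, 4, 1⟩, ⟨4, 4, 1⟩, ⟨5, 3, 1⟩, ⟨6, 2, 1⟩, ⟨7, 1, 1⟩] []) (cond (Nat.beq c 30) [⟨134, 1, 1⟩] []))) (cond (Nat.blt c 33) (cond (Nat.blt c 32) (cond (Nat.beq c 31) [⟨135, -1, 1⟩] []) (cond (Nat.beq c 32) [⟨136,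 1, 1⟩] [])) (cond (Nat.blt c 34) (cond (Nat.beq c 33) [⟨137, -1, 1⟩] []) (cond (Nat.beq c 34) [⟨139, 1, 1⟩] [])))) (cond (Nat.blt c 45) (cond (Nat.blt c 37) (cond (Nat.blt c 36) (cond (Nat.beq c 35) [⟨140, -1, 1⟩] []) (cond (Nat.beq c 36) [⟨141, 1, 1⟩] [])) (cond (Nat.blt c 44) (cond (Nat.beq c 37) [⟨142, -1, 1⟩] []) (cond (Nat.beq c 44) [⟨151, 1, 1⟩] []))) (cond (Nat.blt c 47) (cond (Nat.blt c 46) (cond (Nat.beq c 45) [⟨152, -1, 1⟩] []) (cond (Nat.beq c 46) [⟨153, 1, 1⟩] [])) (cond (Nat.blt c 64) (cond (Nat.beq c 47) [⟨154, -1, 1⟩] []) (cond (Nat.beq c 64) [⟨164, 1, 1⟩] [])))))) (cond (Nat.blt c 114) (cond (Nat.blt c 89) (cond (Nat.blt c 69) (cond (Nat.blt c 67) (cond (Nat.blt c 66) (cond (Nat.beq c 65) [⟨165, -1, 1⟩] []) (cond (Nat.beq c 66) [⟨166, 1, 1⟩] [])) (cond (Nat.blt c 68) (cond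 (Nat.beq c 67) [⟨167, 1, 1⟩] []) (cond (Nat.beq c 68) [⟨168, -1, 1⟩] []))) (cond (Nat.blt c 87) (cond (Nat.blt c 86) (cond (Nat.beq c 69) [⟨169, 1, 1⟩] []) (cond (Nat.beq c 86) [⟨186, -1, 1⟩] [])) (cond (Nat.blt c 88) (cond (Nat.beq c 87) [⟨187, 1, 1⟩] []) (cond (Nat.beq c 88) [⟨188, -1, 1⟩] [])))) (cond (Nat.blt c 102) (cond (Nat.blt c 91) (cond (Nat.blt c 90) (cond (Nat.beq c 89) [⟨189, -1, 1⟩] []) (cond (Nat.beq c 90) [⟨190, 1, 1⟩] [])) (cond (Nat.blt c 101) (cond (Nat.beq c 91) [⟨191, -1, 1⟩] []) (cond (Nat.beq c 101) [⟨208, 1, 1⟩] []))) (cond (Nat.blt c 104) (cond (Nat.blt c 103) (cond (Nat.beq c 102) [⟨209, -1, 1⟩] []) (cond (Nat.beq c 103) [⟨210, 1, 1⟩] [])) (cond (Nat.blt c 113) (cond (Nat.beq c 104) [⟨211, -1, 1⟩] []) (cond (Nat.beq c 113) [⟨218, 1, 1⟩] []))))) (cond (Nat.blt c 144)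 (cond (Nat.blt c 119) (cond (Nat.blt c 116) (cond (Nat.blt c 115) (cond (Nat.beq c 114) [⟨219, -1, 1⟩] []) (cond (Nat.beq c 115) [⟨220, 1, 1⟩] [])) (cond (Nat.blt c 118) (cond (Nat.beq c 116) [⟨221, -1, 1⟩] []) (cond (Nat.beq c 118) [⟨222, 1, 1⟩] []))) (cond (Nat.blt c 121) (cond (Nat.blt c 120) (cond (Nat.beq c 119) [⟨223, -1, 1⟩] []) (cond (Nat.beq c 120) [⟨224, 1, 1⟩] [])) (cond (Nat.blt c 143) (cond (Nat.beq c 121) [⟨225, -1, 1⟩] []) (cond (Nat.beq c 143) [⟨231, -1, 1⟩] [])))) (cond (Nat.blt c 177) (cond (Nat.blt c 171) (cond (Nat.blt c 155) (cond (Nat.beq c 144) [⟨232, -1, 1⟩] []) (cond (Nat.beq c 155) [⟨233, -1, 1⟩] [])) (cond (Nat.blt c 172) (cond (Nat.beq c 171) [⟨238, 1, 1⟩] []) (cond (Nat.beq c 172) [⟨239, 1, 1⟩] []))) (cond (Nat.blt c 193) (cond (Nat.blt c 192) (cond (Nat.beq c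 177) [⟨241, 1, 1⟩] []) (cond (Nat.beq c 192) [⟨244, 1, 1⟩] [])) (cond (Nat.blt c 194) (cond (Nat.beq c 193) [⟨245, 1, 1⟩] []) (cond (Nat.blt c 195) (cond (Nat.beq c 194) [⟨246, 1, 1⟩] []) (cond (Nat.beq c 195) [⟨247, 1, 1⟩] [])))))))

/-- Compiled columns of `x_219` for type E8. -/
def colsE8_219 (c : ℕ) : List CEnt :=
  cond (Nat.blt c 58) (cond (Nat.blt c 23) (cond (Nat.blt c 9) (cond (Nat.blt c 4) (cond (Nat.blt c 2) (cond (Nat.blt c 1) (cond (Nat.beq c 0) [⟨227, 1, 1⟩] []) (cond (Nat.beq c 1) [⟨227, 0, 1⟩] [])) (cond (Nat.blt c 3) (cond (Nat.beq c 2) [⟨227, -1, 1⟩] []) (cond (Nat.beq c 3) [⟨227, 0, 1⟩] []))) (cond (Nat.blt c 6) (cond (Nat.blt c 5) (cond (Nat.beq c 4) [⟨227, 0, 1⟩] []) (cond (Nat.beq c 5) [⟨227, 0, 1⟩] [])) (cond (Nat.blt c 7) (cond (Nat.beq c 6) [⟨227, 0, 1⟩] []) (cond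 (Nat.beq c 7) [⟨227, 1, 1⟩] [])))) (cond (Nat.blt c 13) (cond (Nat.blt c 11) (cond (Nat.blt c 10) (cond (Nat.beq c 9) [⟨64, -1, 1⟩] []) (cond (Nat.beq c 10) [⟨65, -1, 1⟩] [])) (cond (Nat.blt c 12) (cond (Nat.beq c 11) [⟨67, -1, 1⟩] []) (cond (Nat.beq c 12) [⟨70, -1, 1⟩] []))) (cond (Nat.blt c 21) (cond (Nat.blt c 15) (cond (Nat.beq c 13) [⟨74, -1, 1⟩] []) (cond (Nat.beq c 15) [⟨79, -1, 1⟩] [])) (cond (Nat.blt c 22) (cond (Nat.beq c 21) [⟨85, 1, 1⟩] []) (cond (Nat.beq c 22) [⟨101, -1, 1⟩] []))))) (cond (Nat.blt c 40) (cond (Nat.blt c 27) (cond (Nat.blt c 25) (cond (Nat.blt c 24) (cond (Nat.beq c 23) [⟨113, 1, 1⟩] []) (cond (Nat.beq c 24) [⟨118, -1, 1⟩] [])) (cond (Nat.blt c 26) (cond (Nat.beq c 25) [⟨122, 1, 1⟩] []) (cond (Nat.beq c 26) [⟨125, -1, 1⟩] []))) (cond (Nat.blt c 33) (cond (Nat.blt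 c 28) (cond (Nat.beq c 27) [⟨127, 1, 1⟩] []) (cond (Nat.beq c 28) [⟨227, -1, 2⟩, ⟨0, 1, 1⟩, ⟨1, 2, 1⟩, ⟨2, 3, 1⟩, ⟨3, 4, 1⟩, ⟨4, 3, 1⟩, ⟨5, 2, 1⟩, ⟨6, 1, 1⟩, ⟨7, 0, 1⟩] [])) (cond (Nat.blt c 37) (cond (Nat.beq c 33) [⟨143, 1, 1⟩] []) (cond (Nat.beq c 37) [⟨144, -1, 1⟩] [])))) (cond (Nat.blt c 50) (cond (Nat.blt c 43) (cond (Nat.blt c 42) (cond (Nat.beq c 40) [⟨145, 1, 1⟩] []) (cond (Nat.beq c 42) [⟨146, -1, 1⟩] [])) (cond (Nat.blt c 47) (cond (Nat.beq c 43) [⟨147, 1, 1⟩] []) (cond (Nat.beq c 47) [⟨155, 1, 1⟩] []))) (cond (Nat.blt c 53) (cond (Nat.blt c 52) (cond (Nat.beq c 50) [⟨156, -1, 1⟩] []) (cond (Nat.beq c 52) [⟨157, 1, 1⟩] [])) (cond (Nat.blt c 56) (cond (Nat.beq c 53) [⟨158, -1, 1⟩] []) (cond (Nat.beq c 56) [⟨160, 1, 1⟩] [])))))) (cond (Nat.blt c 109) (cond (Nat.blt c 93) (cond (Nat.blt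 c 63) (cond (Nat.blt c 61) (cond (Nat.blt c 59) (cond (Nat.beq c 58) [⟨161, -1, 1⟩] []) (cond (Nat.beq c 59) [⟨162, 1, 1⟩] [])) (cond (Nat.blt c 62) (cond (Nat.beq c 61) [⟨164, 1, 1⟩] []) (cond (Nat.beq c 62) [⟨165, -1, 1⟩] []))) (cond (Nat.blt c 90) (cond (Nat.blt c 88) (cond (Nat.beq c 63) [⟨167, 1, 1⟩] []) (cond (Nat.beq c 88) [⟨192, -1, 1⟩] [])) (cond (Nat.blt c 91) (cond (Nat.beq c 90) [⟨193, 1, 1⟩] []) (cond (Nat.beq c 91) [⟨194, -1, 1⟩] [])))) (cond (Nat.blt c 98) (cond (Nat.blt c 95) (cond (Nat.blt c 94) (cond (Nat.beq c 93) [⟨196, -1, 1⟩] []) (cond (Nat.beq c 94) [⟨197, 1, 1⟩] [])) (cond (Nat.blt c 97) (cond (Nat.beq c 95) [⟨199, -1, 1⟩] []) (cond (Nat.beq c 97) [⟨202, 1, 1⟩] []))) (cond (Nat.blt c 100) (cond (Nat.blt c 99) (cond (Nat.beq c 98) [⟨203, -1, 1⟩] []) (cond (Nat.beq c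 99) [⟨205, 1, 1⟩] [])) (cond (Nat.blt c 108) (cond (Nat.beq c 100) [⟨208, -1, 1⟩] []) (cond (Nat.beq c 108) [⟨212, -1, 1⟩] []))))) (cond (Nat.blt c 142) (cond (Nat.blt c 128) (cond (Nat.blt c 111) (cond (Nat.blt c 110) (cond (Nat.beq c 109) [⟨213, 1, 1⟩] []) (cond (Nat.beq c 110) [⟨215, -1, 1⟩] [])) (cond (Nat.blt c 112) (cond (Nat.beq c 111) [⟨218, 1, 1⟩] []) (cond (Nat.beq c 112) [⟨222, -1, 1⟩] []))) (cond (Nat.blt c 133) (cond (Nat.blt c 130) (cond (Nat.beq c 128) [⟨228, -1, 1⟩] []) (cond (Nat.beq c 130) [⟨229, 1, 1⟩] [])) (cond (Nat.blt c 137) (cond (Nat.beq c 133) [⟨230, -1, 1⟩] []) (cond (Nat.beq c 137) [⟨231, 1, 1⟩] [])))) (cond (Nat.blt c 181) (cond (Nat.blt c 170) (cond (Nat.blt c 154) (cond (Nat.beq c 142) [⟨232, -1, 1⟩] []) (cond (Nat.beq c 154) [⟨233, 1, 1⟩] [])) (cond (Nat.blt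 c 176) (cond (Nat.beq c 170) [⟨234, -1, 1⟩] []) (cond (Nat.beq c 176) [⟨240, 1, 1⟩] []))) (cond (Nat.blt c 188) (cond (Nat.blt c 185) (cond (Nat.beq c 181) [⟨242, 1, 1⟩] []) (cond (Nat.beq c 185) [⟨243, 1, 1⟩] [])) (cond (Nat.blt c 190) (cond (Nat.beq c 188) [⟨244, 1, 1⟩] []) (cond (Nat.blt c 191) (cond (Nat.beq c 190) [⟨245, 1, 1⟩] []) (cond (Nat.beq c 191) [⟨246, 1, 1⟩] [])))))))

/-- Compiled columns of `x_220` for type E8. -/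
def colsE8_220 (c : ℕ) : List CEnt :=
  cond (Nat.blt c 57) (cond (Nat.blt c 23) (cond (Nat.blt c 8) (cond (Nat.blt c 4) (cond (Nat.blt c 2) (cond (Nat.blt c 1) (cond (Nat.beq c 0) [⟨228, 1, 1⟩] []) (cond (Nat.beq c 1) [⟨228, 0, 1⟩] [])) (cond (Nat.blt c 3) (cond (Nat.beq c 2) [⟨228, -1, 1⟩] []) (cond (Nat.beq c 3) [⟨228, 0, 1⟩] []))) (cond (Nat.blt c 6) (cond (Nat.blt c 5) (cond (Nat.beq c 4) [⟨228, 0, 1⟩] []) (cond (Nat.beq c 5) [⟨228, 0, 1⟩] [])) (cond (Nat.blt c 7) (cond (Nat.beq c 6) [⟨228, 1, 1⟩] []) (cond (Nat.beq c 7) [⟨228, -1, 1⟩] [])))) (cond (Nat.blt c 13) (cond (Nat.blt c 11) (cond (Nat.blt c 10) (cond (Nat.beq c 8) [⟨64, -1, 1⟩] []) (cond (Nat.beq c 10) [⟨66, 1, 1⟩] [])) (cond (Nat.blt c 12) (cond (Nat.beq c 11) [⟨68, 1, 1⟩] []) (cond (Nat.beq c 12) [⟨71, 1, 1⟩] []))) (cond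 (Nat.blt c 20) (cond (Nat.blt c 15) (cond (Nat.beq c 13) [⟨75, 1, 1⟩] []) (cond (Nat.beq c 15) [⟨80, 1, 1⟩] [])) (cond (Nat.blt c 22) (cond (Nat.beq c 20) [⟨85, 1, 1⟩] []) (cond (Nat.beq c 22) [⟨102, 1, 1⟩] []))))) (cond (Nat.blt c 39) (cond (Nat.blt c 27) (cond (Nat.blt c 25) (cond (Nat.blt c 24) (cond (Nat.beq c 23) [⟨114, -1, 1⟩] []) (cond (Nat.beq c 24) [⟨119, 1, 1⟩] [])) (cond (Nat.blt c 26) (cond (Nat.beq c 25) [⟨123, -1, 1⟩] []) (cond (Nat.beq c 26) [⟨126, 1, 1⟩] []))) (cond (Nat.blt c 32) (cond (Nat.blt c 28) (cond (Nat.beq c 27) [⟨228, -1, 2⟩, ⟨0, 1, 1⟩, ⟨1, 2, 1⟩, ⟨2, 3, 1⟩, ⟨3, 4, 1⟩, ⟨4, 3, 1⟩, ⟨5, 2, 1⟩, ⟨6, 1, 1⟩, ⟨7, 1, 1⟩] []) (cond (Nat.beq c 28) [⟨128, 1, 1⟩] [])) (cond (Nat.blt c 36) (cond (Nat.beq c 32) [⟨143, 1, 1⟩] []) (cond (Nat.beq c 36) [⟨144, -1, 1⟩] [])))) (cond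 (Nat.blt c 49) (cond (Nat.blt c 43) (cond (Nat.blt c 41) (cond (Nat.beq c 39) [⟨145, 1, 1⟩] []) (cond (Nat.beq c 41) [⟨146, -1, 1⟩] [])) (cond (Nat.blt c 46) (cond (Nat.beq c 43) [⟨148, 1, 1⟩] []) (cond (Nat.beq c 46) [⟨155, 1, 1⟩] []))) (cond (Nat.blt c 53) (cond (Nat.blt c 51) (cond (Nat.beq c 49) [⟨156, -1, 1⟩] []) (cond (Nat.beq c 51) [⟨157, 1, 1⟩] [])) (cond (Nat.blt c 55) (cond (Nat.beq c 53) [⟨159, -1, 1⟩] []) (cond (Nat.beq c 55) [⟨160, 1, 1⟩] [])))))) (cond (Nat.blt c 109) (cond (Nat.blt c 92) (cond (Nat.blt c 63) (cond (Nat.blt c 60) (cond (Nat.blt c 59) (cond (Nat.beq c 57) [⟨161, -1, 1⟩] []) (cond (Nat.beq c 59) [⟨163, 1, 1⟩] [])) (cond (Nat.blt c 62) (cond (Nat.beq c 60) [⟨164, 1, 1⟩] []) (cond (Nat.beq c 62) [⟨166, -1, 1⟩] []))) (cond (Nat.blt c 89) (cond (Nat.blt c 87) (cond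 (Nat.beq c 63) [⟨168, 1, 1⟩] []) (cond (Nat.beq c 87) [⟨192, -1, 1⟩] [])) (cond (Nat.blt c 91) (cond (Nat.beq c 89) [⟨193, 1, 1⟩] []) (cond (Nat.beq c 91) [⟨195, -1, 1⟩] [])))) (cond (Nat.blt c 98) (cond (Nat.blt c 95) (cond (Nat.blt c 94) (cond (Nat.beq c 92) [⟨196, -1, 1⟩] []) (cond (Nat.beq c 94) [⟨198, 1, 1⟩] [])) (cond (Nat.blt c 96) (cond (Nat.beq c 95) [⟨200, -1, 1⟩] []) (cond (Nat.beq c 96) [⟨202, 1, 1⟩] []))) (cond (Nat.blt c 100) (cond (Nat.blt c 99) (cond (Nat.beq c 98) [⟨204, -1, 1⟩] []) (cond (Nat.beq c 99) [⟨206, 1, 1⟩] [])) (cond (Nat.blt c 107) (cond (Nat.beq c 100) [⟨209, -1, 1⟩] []) (cond (Nat.beq c 107) [⟨212, -1, 1⟩] []))))) (cond (Nat.blt c 141) (cond (Nat.blt c 127) (cond (Nat.blt c 111) (cond (Nat.blt c 110) (cond (Nat.beq c 109) [⟨214, 1, 1⟩] []) (cond (Nat.beq c 110)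 [⟨216, -1, 1⟩] [])) (cond (Nat.blt c 112) (cond (Nat.beq c 111) [⟨219, 1, 1⟩] []) (cond (Nat.beq c 112) [⟨223, -1, 1⟩] []))) (cond (Nat.blt c 132) (cond (Nat.blt c 129) (cond (Nat.beq c 127) [⟨227, -1, 1⟩] []) (cond (Nat.beq c 129) [⟨229, -1, 1⟩] [])) (cond (Nat.blt c 136) (cond (Nat.beq c 132) [⟨230, 1, 1⟩] []) (cond (Nat.beq c 136) [⟨231, -1, 1⟩] [])))) (cond (Nat.blt c 180) (cond (Nat.blt c 170) (cond (Nat.blt c 153) (cond (Nat.beq c 141) [⟨232, 1, 1⟩] []) (cond (Nat.beq c 153) [⟨233, -1, 1⟩] [])) (cond (Nat.blt c 175) (cond (Nat.beq c 170) [⟨235, -1, 1⟩] []) (cond (Nat.beq c 175) [⟨240, -1, 1⟩] []))) (cond (Nat.blt c 187) (cond (Nat.blt c 184) (cond (Nat.beq c 180) [⟨242, -1, 1⟩] []) (cond (Nat.beq c 184) [⟨243, -1, 1⟩] [])) (cond (Nat.blt c 189) (cond (Nat.beq c 187) [⟨244, -1, 1⟩] [])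 (cond (Nat.blt c 191) (cond (Nat.beq c 189) [⟨245, -1, 1⟩] []) (cond (Nat.beq c 191) [⟨247, 1, 1⟩] [])))))))

/-- Compiled columns of `x_221` for type E8. -/
def colsE8_221 (c : ℕ) : List CEnt :=
  cond (Nat.blt c 57) (cond (Nat.blt c 23) (cond (Nat.blt c 8) (cond (Nat.blt c 4) (cond (Nat.blt c 2) (cond (Nat.blt c 1) (cond (Nat.beq c 0) [⟨229, 1, 1⟩] []) (cond (Nat.beq c 1) [⟨229, 0, 1⟩] [])) (cond (Nat.blt c 3) (cond (Nat.beq c 2) [⟨229, -1, 1⟩] []) (cond (Nat.beq c 3) [⟨229, 0, 1⟩] []))) (cond (Nat.blt c 6) (cond (Nat.blt c 5) (cond (Nat.beq c 4) [⟨229, 0, 1⟩] []) (cond (Nat.beq c 5) [⟨229, 1, 1⟩] [])) (cond (Nat.blt c 7) (cond (Nat.beq c 6) [⟨229, -1, 1⟩] []) (cond (Nat.beq c 7) [⟨229, 0, 1⟩] [])))) (cond (Nat.blt c 13) (cond (Nat.blt c 11) (cond (Nat.blt c 9) (cond (Nat.beq c 8) [⟨65,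 1, 1⟩] []) (cond (Nat.beq c 9) [⟨66, 1, 1⟩] [])) (cond (Nat.blt c 12) (cond (Nat.beq c 11) [⟨69, -1, 1⟩] []) (cond (Nat.beq c 12) [⟨72, -1, 1⟩] []))) (cond (Nat.blt c 19) (cond (Nat.blt c 15) (cond (Nat.beq c 13) [⟨76, -1, 1⟩] []) (cond (Nat.beq c 15) [⟨81, -1, 1⟩] [])) (cond (Nat.blt c 22) (cond (Nat.beq c 19) [⟨85, 1, 1⟩] []) (cond (Nat.beq c 22) [⟨103, -1, 1⟩] []))))) (cond (Nat.blt c 38) (cond (Nat.blt c 27) (cond (Nat.blt c 25) (cond (Nat.blt c 24) (cond (Nat.beq c 23) [⟨115, 1, 1⟩] []) (cond (Nat.beq c 24) [⟨120, -1, 1⟩] [])) (cond (Nat.blt c 26) (cond (Nat.beq c 25) [⟨124, 1, 1⟩] []) (cond (Nat.beq c 26) [⟨229, -1, 2⟩, ⟨0, 1, 1⟩, ⟨1, 2, 1⟩, ⟨2, 3, 1⟩, ⟨3, 4, 1⟩, ⟨4, 3, 1⟩, ⟨5, 2, 1⟩, ⟨6, 2, 1⟩, ⟨7, 1, 1⟩] []))) (cond (Nat.blt c 31) (cond (Nat.blt c 28) (cond (Nat.beq c 27) [⟨129, 1,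 1⟩] []) (cond (Nat.beq c 28) [⟨130, -1, 1⟩] [])) (cond (Nat.blt c 35) (cond (Nat.beq c 31) [⟨143, 1, 1⟩] []) (cond (Nat.beq c 35) [⟨144, -1, 1⟩] [])))) (cond (Nat.blt c 48) (cond (Nat.blt c 42) (cond (Nat.blt c 41) (cond (Nat.beq c 38) [⟨145, 1, 1⟩] []) (cond (Nat.beq c 41) [⟨147, -1, 1⟩] [])) (cond (Nat.blt c 45) (cond (Nat.beq c 42) [⟨148, 1, 1⟩] []) (cond (Nat.beq c 45) [⟨155, 1, 1⟩] []))) (cond (Nat.blt c 52) (cond (Nat.blt c 51) (cond (Nat.beq c 48) [⟨156, -1, 1⟩] []) (cond (Nat.beq c 51) [⟨158, 1, 1⟩] [])) (cond (Nat.blt c 54) (cond (Nat.beq c 52) [⟨159, -1, 1⟩] []) (cond (Nat.beq c 54) [⟨160, 1, 1⟩] [])))))) (cond (Nat.blt c 108) (cond (Nat.blt c 92) (cond (Nat.blt c 63) (cond (Nat.blt c 60) (cond (Nat.blt c 58) (cond (Nat.beq c 57) [⟨162, -1, 1⟩] []) (cond (Nat.beq c 58) [⟨163, 1,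 1⟩] [])) (cond (Nat.blt c 61) (cond (Nat.beq c 60) [⟨165, 1, 1⟩] []) (cond (Nat.beq c 61) [⟨166, -1, 1⟩] []))) (cond (Nat.blt c 89) (cond (Nat.blt c 86) (cond (Nat.beq c 63) [⟨169, 1, 1⟩] []) (cond (Nat.beq c 86) [⟨192, -1, 1⟩] [])) (cond (Nat.blt c 90) (cond (Nat.beq c 89) [⟨194, 1, 1⟩] []) (cond (Nat.beq c 90) [⟨195, -1, 1⟩] [])))) (cond (Nat.blt c 97) (cond (Nat.blt c 95) (cond (Nat.blt c 93) (cond (Nat.beq c 92) [⟨197, -1, 1⟩] []) (cond (Nat.beq c 93) [⟨198, 1, 1⟩] [])) (cond (Nat.blt c 96) (cond (Nat.beq c 95) [⟨201, -1, 1⟩] []) (cond (Nat.beq c 96) [⟨203, 1, 1⟩] []))) (cond (Nat.blt c 100) (cond (Nat.blt c 99) (cond (Nat.beq c 97) [⟨204, -1, 1⟩] []) (cond (Nat.beq c 99) [⟨207, 1, 1⟩] [])) (cond (Nat.blt c 107) (cond (Nat.beq c 100) [⟨210, -1, 1⟩] []) (cond (Nat.beq c 107) [⟨213, -1,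 1⟩] []))))) (cond (Nat.blt c 140) (cond (Nat.blt c 125) (cond (Nat.blt c 111) (cond (Nat.blt c 110) (cond (Nat.beq c 108) [⟨214, 1, 1⟩] []) (cond (Nat.beq c 110) [⟨217, -1, 1⟩] [])) (cond (Nat.blt c 112) (cond (Nat.beq c 111) [⟨220, 1, 1⟩] []) (cond (Nat.beq c 112) [⟨224, -1, 1⟩] []))) (cond (Nat.blt c 131) (cond (Nat.blt c 126) (cond (Nat.beq c 125) [⟨227, 1, 1⟩] []) (cond (Nat.beq c 126) [⟨228, -1, 1⟩] [])) (cond (Nat.blt c 135) (cond (Nat.beq c 131) [⟨230, -1, 1⟩] []) (cond (Nat.beq c 135) [⟨231, 1, 1⟩] [])))) (cond (Nat.blt c 179) (cond (Nat.blt c 170) (cond (Nat.blt c 152) (cond (Nat.beq c 140) [⟨232, -1, 1⟩] []) (cond (Nat.beq c 152) [⟨233, 1, 1⟩] [])) (cond (Nat.blt c 174) (cond (Nat.beq c 170) [⟨236, -1, 1⟩] []) (cond (Nat.beq c 174) [⟨240, 1, 1⟩] []))) (cond (Nat.blt c 186) (cond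 (Nat.blt c 183) (cond (Nat.beq c 179) [⟨242, 1, 1⟩] []) (cond (Nat.beq c 183) [⟨243, 1, 1⟩] [])) (cond (Nat.blt c 189) (cond (Nat.beq c 186) [⟨244, 1, 1⟩] []) (cond (Nat.blt c 190) (cond (Nat.beq c 189) [⟨246, -1, 1⟩] []) (cond (Nat.beq c 190) [⟨247, -1, 1⟩] [])))))))

/-- Compiled columns of `x_222` for type E8. -/
def colsE8_222 (c : ℕ) : List CEnt :=
  cond (Nat.blt c 55) (cond (Nat.blt c 23) (cond (Nat.blt c 8) (cond (Nat.blt c 4) (cond (Nat.blt c 2) (cond (Nat.blt c 1) (cond (Nat.beq c 0) [⟨230, 1, 1⟩] []) (cond (Nat.beq c 1) [⟨230, 0, 1⟩] [])) (cond (Nat.blt c 3) (cond (Nat.beq c 2) [⟨230, -1, 1⟩] []) (cond (Nat.beq c 3) [⟨230, 0, 1⟩] []))) (cond (Nat.blt c 6) (cond (Nat.blt c 5) (cond (Nat.beq c 4) [⟨230, 1, 1⟩] []) (cond (Nat.beq c 5) [⟨230, -1, 1⟩] [])) (cond (Nat.blt c 7) (cond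 (Nat.beq c 6) [⟨230, 0, 1⟩] []) (cond (Nat.beq c 7) [⟨230, 0, 1⟩] [])))) (cond (Nat.blt c 13) (cond (Nat.blt c 10) (cond (Nat.blt c 9) (cond (Nat.beq c 8) [⟨67, -1, 1⟩] []) (cond (Nat.beq c 9) [⟨68, -1, 1⟩] [])) (cond (Nat.blt c 12) (cond (Nat.beq c 10) [⟨69, -1, 1⟩] []) (cond (Nat.beq c 12) [⟨73, 1, 1⟩] []))) (cond (Nat.blt c 18) (cond (Nat.blt c 15) (cond (Nat.beq c 13) [⟨77, 1, 1⟩] []) (cond (Nat.beq c 15) [⟨82, 1, 1⟩] [])) (cond (Nat.blt c 22) (cond (Nat.beq c 18) [⟨85, 1, 1⟩] []) (cond (Nat.beq c 22) [⟨104, 1, 1⟩] []))))) (cond (Nat.blt c 38) (cond (Nat.blt c 27) (cond (Nat.blt c 25) (cond (Nat.blt c 24) (cond (Nat.beq c 23) [⟨116, -1, 1⟩] []) (cond (Nat.beq c 24) [⟨121, 1, 1⟩] [])) (cond (Nat.blt c 26) (cond (Nat.beq c 25) [⟨230, -1, 2⟩, ⟨0, 1, 1⟩, ⟨1, 2, 1⟩, ⟨2, 3, 1⟩, ⟨3, 4, 1⟩, ⟨4,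 3, 1⟩, ⟨5, 3, 1⟩, ⟨6, 2, 1⟩, ⟨7, 1, 1⟩] []) (cond (Nat.beq c 26) [⟨131, 1, 1⟩] []))) (cond (Nat.blt c 30) (cond (Nat.blt c 28) (cond (Nat.beq c 27) [⟨132, -1, 1⟩] []) (cond (Nat.beq c 28) [⟨133, 1, 1⟩] [])) (cond (Nat.blt c 34) (cond (Nat.beq c 30) [⟨143, 1, 1⟩] []) (cond (Nat.beq c 34) [⟨144, -1, 1⟩] [])))) (cond (Nat.blt c 48) (cond (Nat.blt c 40) (cond (Nat.blt c 39) (cond (Nat.beq c 38) [⟨146, 1, 1⟩] []) (cond (Nat.beq c 39) [⟨147, -1, 1⟩] [])) (cond (Nat.blt c 44) (cond (Nat.beq c 40) [⟨148, 1, 1⟩] []) (cond (Nat.beq c 44) [⟨155, 1, 1⟩] []))) (cond (Nat.blt c 50) (cond (Nat.blt c 49) (cond (Nat.beq c 48) [⟨157, -1, 1⟩] []) (cond (Nat.beq c 49) [⟨158, 1, 1⟩] [])) (cond (Nat.blt c 54) (cond (Nat.beq c 50) [⟨159, -1, 1⟩] []) (cond (Nat.beq c 54) [⟨161, 1, 1⟩] [])))))) (cond (Nat.blt c 108)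 (cond (Nat.blt c 92) (cond (Nat.blt c 62) (cond (Nat.blt c 60) (cond (Nat.blt c 56) (cond (Nat.beq c 55) [⟨162, -1, 1⟩] []) (cond (Nat.beq c 56) [⟨163, 1, 1⟩] [])) (cond (Nat.blt c 61) (cond (Nat.beq c 60) [⟨167, 1, 1⟩] []) (cond (Nat.beq c 61) [⟨168, -1, 1⟩] []))) (cond (Nat.blt c 87) (cond (Nat.blt c 86) (cond (Nat.beq c 62) [⟨169, 1, 1⟩] []) (cond (Nat.beq c 86) [⟨193, -1, 1⟩] [])) (cond (Nat.blt c 88) (cond (Nat.beq c 87) [⟨194, 1, 1⟩] []) (cond (Nat.beq c 88) [⟨195, -1, 1⟩] [])))) (cond (Nat.blt c 97) (cond (Nat.blt c 94) (cond (Nat.blt c 93) (cond (Nat.beq c 92) [⟨199, -1, 1⟩] []) (cond (Nat.beq c 93) [⟨200, 1, 1⟩] [])) (cond (Nat.blt c 96) (cond (Nat.beq c 94) [⟨201, -1, 1⟩] []) (cond (Nat.beq c 96) [⟨205, 1, 1⟩] []))) (cond (Nat.blt c 100) (cond (Nat.blt c 98) (cond (Nat.beq c 97)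 [⟨206, -1, 1⟩] []) (cond (Nat.beq c 98) [⟨207, 1, 1⟩] [])) (cond (Nat.blt c 107) (cond (Nat.beq c 100) [⟨211, -1, 1⟩] []) (cond (Nat.beq c 107) [⟨215, -1, 1⟩] []))))) (cond (Nat.blt c 139) (cond (Nat.blt c 122) (cond (Nat.blt c 111) (cond (Nat.blt c 109) (cond (Nat.beq c 108) [⟨216, 1, 1⟩] []) (cond (Nat.beq c 109) [⟨217, -1, 1⟩] [])) (cond (Nat.blt c 112) (cond (Nat.beq c 111) [⟨221, 1, 1⟩] []) (cond (Nat.beq c 112) [⟨225, -1, 1⟩] []))) (cond (Nat.blt c 124) (cond (Nat.blt c 123) (cond (Nat.beq c 122) [⟨227, -1, 1⟩] []) (cond (Nat.beq c 123) [⟨228, 1, 1⟩] [])) (cond (Nat.blt c 134) (cond (Nat.beq c 124) [⟨229, -1, 1⟩] []) (cond (Nat.beq c 134) [⟨231, -1, 1⟩] [])))) (cond (Nat.blt c 178) (cond (Nat.blt c 170) (cond (Nat.blt c 151) (cond (Nat.beq c 139) [⟨232, 1, 1⟩] []) (cond (Nat.beq c 151)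 [⟨233, -1, 1⟩] [])) (cond (Nat.blt c 173) (cond (Nat.beq c 170) [⟨237, -1, 1⟩] []) (cond (Nat.beq c 173) [⟨240, -1, 1⟩] []))) (cond (Nat.blt c 186) (cond (Nat.blt c 182) (cond (Nat.beq c 178) [⟨242, -1, 1⟩] []) (cond (Nat.beq c 182) [⟨243, -1, 1⟩] [])) (cond (Nat.blt c 187) (cond (Nat.beq c 186) [⟨245, 1, 1⟩] []) (cond (Nat.blt c 188) (cond (Nat.beq c 187) [⟨246, 1, 1⟩] []) (cond (Nat.beq c 188) [⟨247, 1, 1⟩] [])))))))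

/-- Compiled columns of `x_223` for type E8. -/
def colsE8_223 (c : ℕ) : List CEnt :=
  cond (Nat.blt c 55) (cond (Nat.blt c 23) (cond (Nat.blt c 8) (cond (Nat.blt c 4) (cond (Nat.blt c 2) (cond (Nat.blt c 1) (cond (Nat.beq c 0) [⟨231, 1, 1⟩] []) (cond (Nat.beq c 1) [⟨231, 0, 1⟩] [])) (cond (Nat.blt c 3) (cond (Nat.beq c 2) [⟨231, -1, 1⟩] []) (cond (Nat.beq c 3) [⟨231, 1, 1⟩] []))) (cond (Nat.blt c 6) (cond (Nat.blt c 5) (cond (Nat.beq c 4) [⟨231, -1, 1⟩] []) (cond (Nat.beq c 5) [⟨231, 0, 1⟩] [])) (cond (Nat.blt c 7) (cond (Nat.beq c 6) [⟨231, 0, 1⟩] []) (cond (Nat.beq c 7) [⟨231, 0, 1⟩] [])))) (cond (Nat.blt c 13) (cond (Nat.blt c 10) (cond (Nat.blt c 9) (cond (Nat.beq c 8) [⟨70, 1, 1⟩] []) (cond (Nat.beq c 9) [⟨71, 1, 1⟩] [])) (cond (Nat.blt c 11) (cond (Nat.beq c 10) [⟨72, 1, 1⟩] [])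 (cond (Nat.beq c 11) [⟨73, 1, 1⟩] []))) (cond (Nat.blt c 17) (cond (Nat.blt c 15) (cond (Nat.beq c 13) [⟨78, -1, 1⟩] []) (cond (Nat.beq c 15) [⟨83, -1, 1⟩] [])) (cond (Nat.blt c 22) (cond (Nat.beq c 17) [⟨85, 1, 1⟩] []) (cond (Nat.beq c 22) [⟨105, -1, 1⟩] []))))) (cond (Nat.blt c 35) (cond (Nat.blt c 27) (cond (Nat.blt c 25) (cond (Nat.blt c 24) (cond (Nat.beq c 23) [⟨117, 1, 1⟩] []) (cond (Nat.beq c 24) [⟨231, -1, 2⟩, ⟨0, 1, 1⟩, ⟨1, 2, 1⟩, ⟨2, 3, 1⟩, ⟨3, 4, 1⟩, ⟨4, 4, 1⟩, ⟨5, 3, 1⟩, ⟨6, 2, 1⟩, ⟨7, 1, 1⟩] [])) (cond (Nat.blt c 26) (cond (Nat.beq c 25) [⟨134, 1, 1⟩] []) (cond (Nat.beq c 26) [⟨135, -1, 1⟩] []))) (cond (Nat.blt c 29) (cond (Nat.blt c 28) (cond (Nat.beq c 27) [⟨136, 1, 1⟩] []) (cond (Nat.beq c 28) [⟨137, -1, 1⟩] [])) (cond (Nat.blt c 34) (cond (Nat.beq c 29) [⟨143, 1, 1⟩] [])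 (cond (Nat.beq c 34) [⟨145, -1, 1⟩] [])))) (cond (Nat.blt c 45) (cond (Nat.blt c 37) (cond (Nat.blt c 36) (cond (Nat.beq c 35) [⟨146, 1, 1⟩] []) (cond (Nat.beq c 36) [⟨147, -1, 1⟩] [])) (cond (Nat.blt c 44) (cond (Nat.beq c 37) [⟨148, 1, 1⟩] []) (cond (Nat.beq c 44) [⟨156, 1, 1⟩] []))) (cond (Nat.blt c 47) (cond (Nat.blt c 46) (cond (Nat.beq c 45) [⟨157, -1, 1⟩] []) (cond (Nat.beq c 46) [⟨158, 1, 1⟩] [])) (cond (Nat.blt c 54) (cond (Nat.beq c 47) [⟨159, -1, 1⟩] []) (cond (Nat.beq c 54) [⟨164, 1, 1⟩] [])))))) (cond (Nat.blt c 108) (cond (Nat.blt c 89) (cond (Nat.blt c 59) (cond (Nat.blt c 57) (cond (Nat.blt c 56) (cond (Nat.beq c 55) [⟨165, -1, 1⟩] []) (cond (Nat.beq c 56) [⟨166, 1, 1⟩] [])) (cond (Nat.blt c 58) (cond (Nat.beq c 57) [⟨167, 1, 1⟩] []) (cond (Nat.beq c 58) [⟨168, -1, 1⟩] [])))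 (cond (Nat.blt c 87) (cond (Nat.blt c 86) (cond (Nat.beq c 59) [⟨169, 1, 1⟩] []) (cond (Nat.beq c 86) [⟨196, -1, 1⟩] [])) (cond (Nat.blt c 88) (cond (Nat.beq c 87) [⟨197, 1, 1⟩] []) (cond (Nat.beq c 88) [⟨198, -1, 1⟩] [])))) (cond (Nat.blt c 97) (cond (Nat.blt c 91) (cond (Nat.blt c 90) (cond (Nat.beq c 89) [⟨199, -1, 1⟩] []) (cond (Nat.beq c 90) [⟨200, 1, 1⟩] [])) (cond (Nat.blt c 96) (cond (Nat.beq c 91) [⟨201, -1, 1⟩] []) (cond (Nat.beq c 96) [⟨208, 1, 1⟩] []))) (cond (Nat.blt c 99) (cond (Nat.blt c 98) (cond (Nat.beq c 97) [⟨209, -1, 1⟩] []) (cond (Nat.beq c 98) [⟨210, 1, 1⟩] [])) (cond (Nat.blt c 107) (cond (Nat.beq c 99) [⟨211, -1, 1⟩] []) (cond (Nat.beq c 107) [⟨218, -1, 1⟩] []))))) (cond (Nat.blt c 138) (cond (Nat.blt c 118) (cond (Nat.blt c 110) (cond (Nat.blt c 109) (cond (Nat.beq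 c 108) [⟨219, 1, 1⟩] []) (cond (Nat.beq c 109) [⟨220, -1, 1⟩] [])) (cond (Nat.blt c 112) (cond (Nat.beq c 110) [⟨221, 1, 1⟩] []) (cond (Nat.beq c 112) [⟨226, -1, 1⟩] []))) (cond (Nat.blt c 120) (cond (Nat.blt c 119) (cond (Nat.beq c 118) [⟨227, 1, 1⟩] []) (cond (Nat.beq c 119) [⟨228, -1, 1⟩] [])) (cond (Nat.blt c 121) (cond (Nat.beq c 120) [⟨229, 1, 1⟩] []) (cond (Nat.beq c 121) [⟨230, -1, 1⟩] [])))) (cond (Nat.blt c 177) (cond (Nat.blt c 170) (cond (Nat.blt c 150) (cond (Nat.beq c 138) [⟨232, -1, 1⟩] []) (cond (Nat.beq c 150) [⟨233, 1, 1⟩] [])) (cond (Nat.blt c 172) (cond (Nat.beq c 170) [⟨238, -1, 1⟩] []) (cond (Nat.beq c 172) [⟨240, 1, 1⟩] []))) (cond (Nat.blt c 183) (cond (Nat.blt c 182) (cond (Nat.beq c 177) [⟨242, 1, 1⟩] []) (cond (Nat.beq c 182) [⟨244, -1, 1⟩] [])) (cond (Nat.blt c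 184) (cond (Nat.beq c 183) [⟨245, -1, 1⟩] []) (cond (Nat.blt c 185) (cond (Nat.beq c 184) [⟨246, -1, 1⟩] []) (cond (Nat.beq c 185) [⟨247, -1, 1⟩] [])))))))

/-- Compiled columns of `x_224` for type E8. -/
def colsE8_224 (c : ℕ) : List CEnt :=
  cond (Nat.blt c 49) (cond (Nat.blt c 23) (cond (Nat.blt c 8) (cond (Nat.blt c 4) (cond (Nat.blt c 2) (cond (Nat.blt c 1) (cond (Nat.beq c 0) [⟨232, 1, 1⟩] []) (cond (Nat.beq c 1) [⟨232, 1, 1⟩] [])) (cond (Nat.blt c 3) (cond (Nat.beq c 2) [⟨232, 0, 1⟩] []) (cond (Nat.beq c 3) [⟨232, -1, 1⟩] []))) (cond (Nat.blt c 6) (cond (Nat.blt c 5) (cond (Nat.beq c 4) [⟨232, 0, 1⟩] []) (cond (Nat.beq c 5) [⟨232, 0, 1⟩] [])) (cond (Nat.blt c 7) (cond (Nat.beq c 6) [⟨232, 0, 1⟩] []) (cond (Nat.beq c 7) [⟨232, 0, 1⟩] [])))) (cond (Nat.blt c 12) (cond (Nat.blt c 10)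 (cond (Nat.blt c 9) (cond (Nat.beq c 8) [⟨74, -1, 1⟩] []) (cond (Nat.beq c 9) [⟨75, -1, 1⟩] [])) (cond (Nat.blt c 11) (cond (Nat.beq c 10) [⟨76, -1, 1⟩] []) (cond (Nat.beq c 11) [⟨77, -1, 1⟩] []))) (cond (Nat.blt c 16) (cond (Nat.blt c 15) (cond (Nat.beq c 12) [⟨78, -1, 1⟩] []) (cond (Nat.beq c 15) [⟨84, 1, 1⟩] [])) (cond (Nat.blt c 22) (cond (Nat.beq c 16) [⟨85, 1, 1⟩] []) (cond (Nat.beq c 22) [⟨106, 1, 1⟩] []))))) (cond (Nat.blt c 31) (cond (Nat.blt c 27) (cond (Nat.blt c 25) (cond (Nat.blt c 24) (cond (Nat.beq c 23) [⟨232, -1, 2⟩, ⟨0, 1, 1⟩, ⟨1, 2, 1⟩, ⟨2, 3, 1⟩, ⟨3, 5, 1⟩, ⟨4, 4, 1⟩, ⟨5, 3, 1⟩, ⟨6, 2, 1⟩, ⟨7, 1, 1⟩] []) (cond (Nat.beq c 24) [⟨138, 1, 1⟩] [])) (cond (Nat.blt c 26) (cond (Nat.beq c 25) [⟨139, -1, 1⟩] []) (cond (Nat.beq c 26) [⟨140, 1, 1⟩] []))) (cond (Nat.blt c 29) (cond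 (Nat.blt c 28) (cond (Nat.beq c 27) [⟨141, -1, 1⟩] []) (cond (Nat.beq c 28) [⟨142, 1, 1⟩] [])) (cond (Nat.blt c 30) (cond (Nat.beq c 29) [⟨144, 1, 1⟩] []) (cond (Nat.beq c 30) [⟨145, -1, 1⟩] [])))) (cond (Nat.blt c 45) (cond (Nat.blt c 33) (cond (Nat.blt c 32) (cond (Nat.beq c 31) [⟨146, 1, 1⟩] []) (cond (Nat.beq c 32) [⟨147, -1, 1⟩] [])) (cond (Nat.blt c 44) (cond (Nat.beq c 33) [⟨148, 1, 1⟩] []) (cond (Nat.beq c 44) [⟨160, 1, 1⟩] []))) (cond (Nat.blt c 47) (cond (Nat.blt c 46) (cond (Nat.beq c 45) [⟨161, -1, 1⟩] []) (cond (Nat.beq c 46) [⟨162, 1, 1⟩] [])) (cond (Nat.blt c 48) (cond (Nat.beq c 47) [⟨163, -1, 1⟩] []) (cond (Nat.beq c 48) [⟨164, 1, 1⟩] [])))))) (cond (Nat.blt c 108) (cond (Nat.blt c 89) (cond (Nat.blt c 53) (cond (Nat.blt c 51) (cond (Nat.blt c 50) (cond (Nat.beq c 49) [⟨165,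 -1, 1⟩] []) (cond (Nat.beq c 50) [⟨166, 1, 1⟩] [])) (cond (Nat.blt c 52) (cond (Nat.beq c 51) [⟨167, 1, 1⟩] []) (cond (Nat.beq c 52) [⟨168, -1, 1⟩] []))) (cond (Nat.blt c 87) (cond (Nat.blt c 86) (cond (Nat.beq c 53) [⟨169, 1, 1⟩] []) (cond (Nat.beq c 86) [⟨202, -1, 1⟩] [])) (cond (Nat.blt c 88) (cond (Nat.beq c 87) [⟨203, 1, 1⟩] []) (cond (Nat.beq c 88) [⟨204, -1, 1⟩] [])))) (cond (Nat.blt c 93) (cond (Nat.blt c 91) (cond (Nat.blt c 90) (cond (Nat.beq c 89) [⟨205, -1, 1⟩] []) (cond (Nat.beq c 90) [⟨206, 1, 1⟩] [])) (cond (Nat.blt c 92) (cond (Nat.beq c 91) [⟨207, -1, 1⟩] []) (cond (Nat.beq c 92) [⟨208, 1, 1⟩] []))) (cond (Nat.blt c 95) (cond (Nat.blt c 94) (cond (Nat.beq c 93) [⟨209, -1, 1⟩] []) (cond (Nat.beq c 94) [⟨210, 1, 1⟩] [])) (cond (Nat.blt c 107) (cond (Nat.beq c 95) [⟨211, -1,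 1⟩] []) (cond (Nat.beq c 107) [⟨222, -1, 1⟩] []))))) (cond (Nat.blt c 117) (cond (Nat.blt c 113) (cond (Nat.blt c 110) (cond (Nat.blt c 109) (cond (Nat.beq c 108) [⟨223, 1, 1⟩] []) (cond (Nat.beq c 109) [⟨224, -1, 1⟩] [])) (cond (Nat.blt c 111) (cond (Nat.beq c 110) [⟨225, 1, 1⟩] []) (cond (Nat.beq c 111) [⟨226, -1, 1⟩] []))) (cond (Nat.blt c 115) (cond (Nat.blt c 114) (cond (Nat.beq c 113) [⟨227, -1, 1⟩] []) (cond (Nat.beq c 114) [⟨228, 1, 1⟩] [])) (cond (Nat.blt c 116) (cond (Nat.beq c 115) [⟨229, -1, 1⟩] []) (cond (Nat.beq c 116) [⟨230, 1, 1⟩] [])))) (cond (Nat.blt c 177) (cond (Nat.blt c 170) (cond (Nat.blt c 149) (cond (Nat.beq c 117) [⟨231, -1, 1⟩] []) (cond (Nat.beq c 149) [⟨233, -1, 1⟩] [])) (cond (Nat.blt c 171) (cond (Nat.beq c 170) [⟨239, -1, 1⟩] []) (cond (Nat.beq c 171) [⟨240,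 -1, 1⟩] []))) (cond (Nat.blt c 179) (cond (Nat.blt c 178) (cond (Nat.beq c 177) [⟨243, 1, 1⟩] []) (cond (Nat.beq c 178) [⟨244, 1, 1⟩] [])) (cond (Nat.blt c 180) (cond (Nat.beq c 179) [⟨245, 1, 1⟩] []) (cond (Nat.blt c 181) (cond (Nat.beq c 180) [⟨246, 1, 1⟩] []) (cond (Nat.beq c 181) [⟨247, 1, 1⟩] [])))))))

/-- Compiled columns of `x_225` for type E8. -/
def colsE8_225 (c : ℕ) : List CEnt :=
  cond (Nat.blt c 39) (cond (Nat.blt c 23) (cond (Nat.blt c 8) (cond (Nat.blt c 4) (cond (Nat.blt c 2) (cond (Nat.blt c 1) (cond (Nat.beq c 0) [⟨233, 1, 1⟩] []) (cond (Nat.beq c 1) [⟨233, -1, 1⟩] [])) (cond (Nat.blt c 3) (cond (Nat.beq c 2) [⟨233, 0, 1⟩] []) (cond (Nat.beq c 3) [⟨233, 0, 1⟩] []))) (cond (Nat.blt c 6) (cond (Nat.blt c 5) (cond (Nat.beq c 4) [⟨233, 0, 1⟩] []) (cond (Nat.beq c 5) [⟨233,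 0, 1⟩] [])) (cond (Nat.blt c 7) (cond (Nat.beq c 6) [⟨233, 0, 1⟩] []) (cond (Nat.beq c 7) [⟨233, 0, 1⟩] [])))) (cond (Nat.blt c 12) (cond (Nat.blt c 10) (cond (Nat.blt c 9) (cond (Nat.beq c 8) [⟨79, 1, 1⟩] []) (cond (Nat.beq c 9) [⟨80, 1, 1⟩] [])) (cond (Nat.blt c 11) (cond (Nat.beq c 10) [⟨81, 1, 1⟩] []) (cond (Nat.beq c 11) [⟨82, 1, 1⟩] []))) (cond (Nat.blt c 14) (cond (Nat.blt c 13) (cond (Nat.beq c 12) [⟨83, 1, 1⟩] []) (cond (Nat.beq c 13) [⟨84, 1, 1⟩] [])) (cond (Nat.blt c 22) (cond (Nat.beq c 14) [⟨85, 1, 1⟩] []) (cond (Nat.beq c 22) [⟨233, -1, 2⟩, ⟨0, 1, 1⟩, ⟨1, 3, 1⟩, ⟨2, 3, 1⟩, ⟨3, 5, 1⟩, ⟨4, 4, 1⟩, ⟨5, 3, 1⟩, ⟨6, 2, 1⟩, ⟨7, 1, 1⟩] []))))) (cond (Nat.blt c 31) (cond (Nat.blt c 27) (cond (Nat.blt c 25) (cond (Nat.blt c 24) (cond (Nat.beq c 23) [⟨149, 1, 1⟩] []) (cond (Nat.beq c 24)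 [⟨150, -1, 1⟩] [])) (cond (Nat.blt c 26) (cond (Nat.beq c 25) [⟨151, 1, 1⟩] []) (cond (Nat.beq c 26) [⟨152, -1, 1⟩] []))) (cond (Nat.blt c 29) (cond (Nat.blt c 28) (cond (Nat.beq c 27) [⟨153, 1, 1⟩] []) (cond (Nat.beq c 28) [⟨154, -1, 1⟩] [])) (cond (Nat.blt c 30) (cond (Nat.beq c 29) [⟨155, 1, 1⟩] []) (cond (Nat.beq c 30) [⟨156, -1, 1⟩] [])))) (cond (Nat.blt c 35) (cond (Nat.blt c 33) (cond (Nat.blt c 32) (cond (Nat.beq c 31) [⟨157, 1, 1⟩] []) (cond (Nat.beq c 32) [⟨158, -1, 1⟩] [])) (cond (Nat.blt c 34) (cond (Nat.beq c 33) [⟨159, 1, 1⟩] []) (cond (Nat.beq c 34) [⟨160, 1, 1⟩] []))) (cond (Nat.blt c 37) (cond (Nat.blt c 36) (cond (Nat.beq c 35) [⟨161, -1, 1⟩] []) (cond (Nat.beq c 36) [⟨162, 1, 1⟩] [])) (cond (Nat.blt c 38) (cond (Nat.beq c 37) [⟨163, -1, 1⟩] []) (cond (Nat.beq c 38) [⟨164,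 1, 1⟩] [])))))) (cond (Nat.blt c 97) (cond (Nat.blt c 89) (cond (Nat.blt c 43) (cond (Nat.blt c 41) (cond (Nat.blt c 40) (cond (Nat.beq c 39) [⟨165, -1, 1⟩] []) (cond (Nat.beq c 40) [⟨166, 1, 1⟩] [])) (cond (Nat.blt c 42) (cond (Nat.beq c 41) [⟨167, 1, 1⟩] []) (cond (Nat.beq c 42) [⟨168, -1, 1⟩] []))) (cond (Nat.blt c 87) (cond (Nat.blt c 86) (cond (Nat.beq c 43) [⟨169, 1, 1⟩] []) (cond (Nat.beq c 86) [⟨212, -1, 1⟩] [])) (cond (Nat.blt c 88) (cond (Nat.beq c 87) [⟨213, 1, 1⟩] []) (cond (Nat.beq c 88) [⟨214, -1, 1⟩] [])))) (cond (Nat.blt c 93) (cond (Nat.blt c 91) (cond (Nat.blt c 90) (cond (Nat.beq c 89) [⟨215, -1, 1⟩] []) (cond (Nat.beq c 90) [⟨216, 1, 1⟩] [])) (cond (Nat.blt c 92) (cond (Nat.beq c 91) [⟨217, -1, 1⟩] []) (cond (Nat.beq c 92) [⟨218, 1, 1⟩] []))) (cond (Nat.blt c 95) (cond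 (Nat.blt c 94) (cond (Nat.beq c 93) [⟨219, -1, 1⟩] []) (cond (Nat.beq c 94) [⟨220, 1, 1⟩] [])) (cond (Nat.blt c 96) (cond (Nat.beq c 95) [⟨221, -1, 1⟩] []) (cond (Nat.beq c 96) [⟨222, -1, 1⟩] []))))) (cond (Nat.blt c 105) (cond (Nat.blt c 101) (cond (Nat.blt c 99) (cond (Nat.blt c 98) (cond (Nat.beq c 97) [⟨223, 1, 1⟩] []) (cond (Nat.beq c 98) [⟨224, -1, 1⟩] [])) (cond (Nat.blt c 100) (cond (Nat.beq c 99) [⟨225, 1, 1⟩] []) (cond (Nat.beq c 100) [⟨226, -1, 1⟩] []))) (cond (Nat.blt c 103) (cond (Nat.blt c 102) (cond (Nat.beq c 101) [⟨227, 1, 1⟩] []) (cond (Nat.beq c 102) [⟨228, -1, 1⟩] [])) (cond (Nat.blt c 104) (cond (Nat.beq c 103) [⟨229, 1, 1⟩] []) (cond (Nat.beq c 104) [⟨230, -1, 1⟩] [])))) (cond (Nat.blt c 172) (cond (Nat.blt c 170) (cond (Nat.blt c 106) (cond (Nat.beq c 105) [⟨231, 1,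 1⟩] []) (cond (Nat.beq c 106) [⟨232, -1, 1⟩] [])) (cond (Nat.blt c 171) (cond (Nat.beq c 170) [⟨241, -1, 1⟩] []) (cond (Nat.beq c 171) [⟨242, -1, 1⟩] []))) (cond (Nat.blt c 174) (cond (Nat.blt c 173) (cond (Nat.beq c 172) [⟨243, -1, 1⟩] []) (cond (Nat.beq c 173) [⟨244, -1, 1⟩] [])) (cond (Nat.blt c 175) (cond (Nat.beq c 174) [⟨245, -1, 1⟩] []) (cond (Nat.blt c 176) (cond (Nat.beq c 175) [⟨246, -1, 1⟩] []) (cond (Nat.beq c 176) [⟨247, -1, 1⟩] [])))))))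

/-- Compiled columns of `x_226` for type E8. -/
def colsE8_226 (c : ℕ) : List CEnt :=
  cond (Nat.blt c 58) (cond (Nat.blt c 17) (cond (Nat.blt c 9) (cond (Nat.blt c 4) (cond (Nat.blt c 2) (cond (Nat.blt c 1) (cond (Nat.beq c 0) [⟨234, -1, 1⟩] []) (cond (Nat.beq c 1) [⟨234, 0, 1⟩] [])) (cond (Nat.blt c 3) (cond (Nat.beq c 2) [⟨234, 0, 1⟩] []) (cond (Nat.beq c 3) [⟨234, 0, 1⟩] []))) (cond (Nat.blt c 6) (cond (Nat.blt c 5) (cond (Nat.beq c 4) [⟨234, 0, 1⟩] []) (cond (Nat.beq c 5) [⟨234, 0, 1⟩] [])) (cond (Nat.blt c 7) (cond (Nat.beq c 6) [⟨234, 0, 1⟩] []) (cond (Nat.beq c 7) [⟨234, 1, 1⟩] [])))) (cond (Nat.blt c 13) (cond (Nat.blt c 11) (cond (Nat.blt c 10) (cond (Nat.beq c 9) [⟨86, -1, 1⟩] []) (cond (Nat.beq c 10) [⟨87, -1, 1⟩] [])) (cond (Nat.blt c 12) (cond (Nat.beq c 11) [⟨89, -1, 1⟩]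 []) (cond (Nat.beq c 12) [⟨92, -1, 1⟩] []))) (cond (Nat.blt c 15) (cond (Nat.blt c 14) (cond (Nat.beq c 13) [⟨96, -1, 1⟩] []) (cond (Nat.beq c 14) [⟨101, -1, 1⟩] [])) (cond (Nat.blt c 16) (cond (Nat.beq c 15) [⟨107, -1, 1⟩] []) (cond (Nat.beq c 16) [⟨113, 1, 1⟩] []))))) (cond (Nat.blt c 40) (cond (Nat.blt c 21) (cond (Nat.blt c 19) (cond (Nat.blt c 18) (cond (Nat.beq c 17) [⟨118, -1, 1⟩] []) (cond (Nat.beq c 18) [⟨122, 1, 1⟩] [])) (cond (Nat.blt c 20) (cond (Nat.beq c 19) [⟨125, -1, 1⟩] []) (cond (Nat.beq c 20) [⟨127, 1, 1⟩] []))) (cond (Nat.blt c 33) (cond (Nat.blt c 28) (cond (Nat.beq c 21) [⟨234, -1, 2⟩, ⟨0, 2, 1⟩, ⟨1, 2, 1⟩, ⟨2, 3, 1⟩, ⟨3, 4, 1⟩, ⟨4, 3, 1⟩, ⟨5, 2, 1⟩, ⟨6, 1, 1⟩, ⟨7, 0, 1⟩] []) (cond (Nat.beq c 28) [⟨170, 1, 1⟩] [])) (cond (Nat.blt c 37) (cond (Nat.beq c 33) [⟨171, -1,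 1⟩] []) (cond (Nat.beq c 37) [⟨172, 1, 1⟩] [])))) (cond (Nat.blt c 50) (cond (Nat.blt c 43) (cond (Nat.blt c 42) (cond (Nat.beq c 40) [⟨173, -1, 1⟩] []) (cond (Nat.beq c 42) [⟨174, 1, 1⟩] [])) (cond (Nat.blt c 47) (cond (Nat.beq c 43) [⟨175, -1, 1⟩] []) (cond (Nat.beq c 47) [⟨177, -1, 1⟩] []))) (cond (Nat.blt c 53) (cond (Nat.blt c 52) (cond (Nat.beq c 50) [⟨178, 1, 1⟩] []) (cond (Nat.beq c 52) [⟨179, -1, 1⟩] [])) (cond (Nat.blt c 56) (cond (Nat.beq c 53) [⟨180, 1, 1⟩] []) (cond (Nat.beq c 56) [⟨182, -1, 1⟩] [])))))) (cond (Nat.blt c 81) (cond (Nat.blt c 71) (cond (Nat.blt c 63) (cond (Nat.blt c 61) (cond (Nat.blt c 59) (cond (Nat.beq c 58) [⟨183, 1, 1⟩] []) (cond (Nat.beq c 59) [⟨184, -1, 1⟩] [])) (cond (Nat.blt c 62) (cond (Nat.beq c 61) [⟨186, -1, 1⟩] []) (cond (Nat.beq c 62) [⟨187, 1,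 1⟩] []))) (cond (Nat.blt c 68) (cond (Nat.blt c 66) (cond (Nat.beq c 63) [⟨189, -1, 1⟩] []) (cond (Nat.beq c 66) [⟨192, 1, 1⟩] [])) (cond (Nat.blt c 69) (cond (Nat.beq c 68) [⟨193, -1, 1⟩] []) (cond (Nat.beq c 69) [⟨194, 1, 1⟩] [])))) (cond (Nat.blt c 76) (cond (Nat.blt c 73) (cond (Nat.blt c 72) (cond (Nat.beq c 71) [⟨196, 1, 1⟩] []) (cond (Nat.beq c 72) [⟨197, -1, 1⟩] [])) (cond (Nat.blt c 75) (cond (Nat.beq c 73) [⟨199, 1, 1⟩] []) (cond (Nat.beq c 75) [⟨202, -1, 1⟩] []))) (cond (Nat.blt c 78) (cond (Nat.blt c 77) (cond (Nat.beq c 76) [⟨203, 1, 1⟩] []) (cond (Nat.beq c 77) [⟨205, -1, 1⟩] [])) (cond (Nat.blt c 80) (cond (Nat.beq c 78) [⟨208, 1, 1⟩] []) (cond (Nat.beq c 80) [⟨212, 1, 1⟩] []))))) (cond (Nat.blt c 137) (cond (Nat.blt c 85) (cond (Nat.blt c 83) (cond (Nat.blt c 82) (cond (Nat.beq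 c 81) [⟨213, -1, 1⟩] []) (cond (Nat.beq c 82) [⟨215, 1, 1⟩] [])) (cond (Nat.blt c 84) (cond (Nat.beq c 83) [⟨218, -1, 1⟩] []) (cond (Nat.beq c 84) [⟨222, 1, 1⟩] []))) (cond (Nat.blt c 130) (cond (Nat.blt c 128) (cond (Nat.beq c 85) [⟨227, -1, 1⟩] []) (cond (Nat.beq c 128) [⟨235, -1, 1⟩] [])) (cond (Nat.blt c 133) (cond (Nat.beq c 130) [⟨236, 1, 1⟩] []) (cond (Nat.beq c 133) [⟨237, -1, 1⟩] [])))) (cond (Nat.blt c 159) (cond (Nat.blt c 148) (cond (Nat.blt c 142) (cond (Nat.beq c 137) [⟨238, 1, 1⟩] []) (cond (Nat.beq c 142) [⟨239, -1, 1⟩] [])) (cond (Nat.blt c 154) (cond (Nat.beq c 148) [⟨240, 1, 1⟩] []) (cond (Nat.beq c 154) [⟨241, 1, 1⟩] []))) (cond (Nat.blt c 166) (cond (Nat.blt c 163) (cond (Nat.beq c 159) [⟨242, 1, 1⟩] []) (cond (Nat.beq c 163) [⟨243, 1, 1⟩] [])) (cond (Nat.blt c 168) (cond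 (Nat.beq c 166) [⟨244, 1, 1⟩] []) (cond (Nat.blt c 169) (cond (Nat.beq c 168) [⟨245, 1, 1⟩] []) (cond (Nat.beq c 169) [⟨246, 1, 1⟩] [])))))))

/-- Compiled columns of `x_227` for type E8. -/
def colsE8_227 (c : ℕ) : List CEnt :=
  cond (Nat.blt c 57) (cond (Nat.blt c 17) (cond (Nat.blt c 8) (cond (Nat.blt c 4) (cond (Nat.blt c 2) (cond (Nat.blt c 1) (cond (Nat.beq c 0) [⟨235, -1, 1⟩] []) (cond (Nat.beq c 1) [⟨235, 0, 1⟩] [])) (cond (Nat.blt c 3) (cond (Nat.beq c 2) [⟨235, 0, 1⟩] []) (cond (Nat.beq c 3) [⟨235, 0, 1⟩] []))) (cond (Nat.blt c 6) (cond (Nat.blt c 5) (cond (Nat.beq c 4) [⟨235, 0, 1⟩] []) (cond (Nat.beq c 5) [⟨235, 0, 1⟩] [])) (cond (Nat.blt c 7) (cond (Nat.beq c 6) [⟨235, 1, 1⟩] []) (cond (Nat.beq c 7) [⟨235, -1, 1⟩] [])))) (cond (Nat.blt c 13) (cond (Nat.blt c 11) (cond (Nat.blt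 c 10) (cond (Nat.beq c 8) [⟨86, -1, 1⟩] []) (cond (Nat.beq c 10) [⟨88, 1, 1⟩] [])) (cond (Nat.blt c 12) (cond (Nat.beq c 11) [⟨90, 1, 1⟩] []) (cond (Nat.beq c 12) [⟨93, 1, 1⟩] []))) (cond (Nat.blt c 15) (cond (Nat.blt c 14) (cond (Nat.beq c 13) [⟨97, 1, 1⟩] []) (cond (Nat.beq c 14) [⟨102, 1, 1⟩] [])) (cond (Nat.blt c 16) (cond (Nat.beq c 15) [⟨108, 1, 1⟩] []) (cond (Nat.beq c 16) [⟨114, -1, 1⟩] []))))) (cond (Nat.blt c 39) (cond (Nat.blt c 21) (cond (Nat.blt c 19) (cond (Nat.blt c 18) (cond (Nat.beq c 17) [⟨119, 1, 1⟩] []) (cond (Nat.beq c 18) [⟨123, -1, 1⟩] [])) (cond (Nat.blt c 20) (cond (Nat.beq c 19) [⟨126, 1, 1⟩] []) (cond (Nat.beq c 20) [⟨235, -1, 2⟩, ⟨0, 2, 1⟩, ⟨1, 2, 1⟩, ⟨2, 3, 1⟩, ⟨3, 4, 1⟩, ⟨4, 3, 1⟩, ⟨5, 2, 1⟩, ⟨6, 1, 1⟩, ⟨7, 1, 1⟩] []))) (cond (Nat.blt c 32) (cond (Nat.blt c 27)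 (cond (Nat.beq c 21) [⟨128, 1, 1⟩] []) (cond (Nat.beq c 27) [⟨170, 1, 1⟩] [])) (cond (Nat.blt c 36) (cond (Nat.beq c 32) [⟨171, -1, 1⟩] []) (cond (Nat.beq c 36) [⟨172, 1, 1⟩] [])))) (cond (Nat.blt c 49) (cond (Nat.blt c 43) (cond (Nat.blt c 41) (cond (Nat.beq c 39) [⟨173, -1, 1⟩] []) (cond (Nat.beq c 41) [⟨174, 1, 1⟩] [])) (cond (Nat.blt c 46) (cond (Nat.beq c 43) [⟨176, -1, 1⟩] []) (cond (Nat.beq c 46) [⟨177, -1, 1⟩] []))) (cond (Nat.blt c 53) (cond (Nat.blt c 51) (cond (Nat.beq c 49) [⟨178, 1, 1⟩] []) (cond (Nat.beq c 51) [⟨179, -1, 1⟩] [])) (cond (Nat.blt c 55) (cond (Nat.beq c 53) [⟨181, 1, 1⟩] []) (cond (Nat.beq c 55) [⟨182, -1, 1⟩] [])))))) (cond (Nat.blt c 81) (cond (Nat.blt c 70) (cond (Nat.blt c 63) (cond (Nat.blt c 60) (cond (Nat.blt c 59) (cond (Nat.beq c 57) [⟨183, 1, 1⟩] [])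 (cond (Nat.beq c 59) [⟨185, -1, 1⟩] [])) (cond (Nat.blt c 62) (cond (Nat.beq c 60) [⟨186, -1, 1⟩] []) (cond (Nat.beq c 62) [⟨188, 1, 1⟩] []))) (cond (Nat.blt c 67) (cond (Nat.blt c 65) (cond (Nat.beq c 63) [⟨190, -1, 1⟩] []) (cond (Nat.beq c 65) [⟨192, 1, 1⟩] [])) (cond (Nat.blt c 69) (cond (Nat.beq c 67) [⟨193, -1, 1⟩] []) (cond (Nat.beq c 69) [⟨195, 1, 1⟩] [])))) (cond (Nat.blt c 76) (cond (Nat.blt c 73) (cond (Nat.blt c 72) (cond (Nat.beq c 70) [⟨196, 1, 1⟩] []) (cond (Nat.beq c 72) [⟨198, -1, 1⟩] [])) (cond (Nat.blt c 74) (cond (Nat.beq c 73) [⟨200, 1, 1⟩] []) (cond (Nat.beq c 74) [⟨202, -1, 1⟩] []))) (cond (Nat.blt c 78) (cond (Nat.blt c 77) (cond (Nat.beq c 76) [⟨204, 1, 1⟩] []) (cond (Nat.beq c 77) [⟨206, -1, 1⟩] [])) (cond (Nat.blt c 79) (cond (Nat.beq c 78) [⟨209, 1, 1⟩] []) (cond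 (Nat.beq c 79) [⟨212, 1, 1⟩] []))))) (cond (Nat.blt c 136) (cond (Nat.blt c 85) (cond (Nat.blt c 83) (cond (Nat.blt c 82) (cond (Nat.beq c 81) [⟨214, -1, 1⟩] []) (cond (Nat.beq c 82) [⟨216, 1, 1⟩] [])) (cond (Nat.blt c 84) (cond (Nat.beq c 83) [⟨219, -1, 1⟩] []) (cond (Nat.beq c 84) [⟨223, 1, 1⟩] []))) (cond (Nat.blt c 129) (cond (Nat.blt c 127) (cond (Nat.beq c 85) [⟨228, -1, 1⟩] []) (cond (Nat.beq c 127) [⟨234, -1, 1⟩] [])) (cond (Nat.blt c 132) (cond (Nat.beq c 129) [⟨236, -1, 1⟩] []) (cond (Nat.beq c 132) [⟨237, 1, 1⟩] [])))) (cond (Nat.blt c 158) (cond (Nat.blt c 147) (cond (Nat.blt c 141) (cond (Nat.beq c 136) [⟨238, -1, 1⟩] []) (cond (Nat.beq c 141) [⟨239, 1, 1⟩] [])) (cond (Nat.blt c 153) (cond (Nat.beq c 147) [⟨240, -1, 1⟩] []) (cond (Nat.beq c 153) [⟨241, -1, 1⟩] []))) (cond (Nat.blt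 c 165) (cond (Nat.blt c 162) (cond (Nat.beq c 158) [⟨242, -1, 1⟩] []) (cond (Nat.beq c 162) [⟨243, -1, 1⟩] [])) (cond (Nat.blt c 167) (cond (Nat.beq c 165) [⟨244, -1, 1⟩] []) (cond (Nat.blt c 169) (cond (Nat.beq c 167) [⟨245, -1, 1⟩] []) (cond (Nat.beq c 169) [⟨247, 1, 1⟩] [])))))))

/-- Compiled columns of `x_228` for type E8. -/
def colsE8_228 (c : ℕ) : List CEnt :=
  cond (Nat.blt c 57) (cond (Nat.blt c 17) (cond (Nat.blt c 8) (cond (Nat.blt c 4) (cond (Nat.blt c 2) (cond (Nat.blt c 1) (cond (Nat.beq c 0) [⟨236, -1, 1⟩] []) (cond (Nat.beq c 1) [⟨236, 0, 1⟩] [])) (cond (Nat.blt c 3) (cond (Nat.beq c 2) [⟨236, 0, 1⟩] []) (cond (Nat.beq c 3) [⟨236, 0, 1⟩] []))) (cond (Nat.blt c 6) (cond (Nat.blt c 5) (cond (Nat.beq c 4) [⟨236, 0, 1⟩] []) (cond (Nat.beq c 5) [⟨236, 1, 1⟩] [])) (cond (Nat.blt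 c 7) (cond (Nat.beq c 6) [⟨236, -1, 1⟩] []) (cond (Nat.beq c 7) [⟨236, 0, 1⟩] [])))) (cond (Nat.blt c 13) (cond (Nat.blt c 11) (cond (Nat.blt c 9) (cond (Nat.beq c 8) [⟨87, 1, 1⟩] []) (cond (Nat.beq c 9) [⟨88, 1, 1⟩] [])) (cond (Nat.blt c 12) (cond (Nat.beq c 11) [⟨91, -1, 1⟩] []) (cond (Nat.beq c 12) [⟨94, -1, 1⟩] []))) (cond (Nat.blt c 15) (cond (Nat.blt c 14) (cond (Nat.beq c 13) [⟨98, -1, 1⟩] []) (cond (Nat.beq c 14) [⟨103, -1, 1⟩] [])) (cond (Nat.blt c 16) (cond (Nat.beq c 15) [⟨109, -1, 1⟩] []) (cond (Nat.beq c 16) [⟨115, 1, 1⟩] []))))) (cond (Nat.blt c 38) (cond (Nat.blt c 21) (cond (Nat.blt c 19) (cond (Nat.blt c 18) (cond (Nat.beq c 17) [⟨120, -1, 1⟩] []) (cond (Nat.beq c 18) [⟨124, 1, 1⟩] [])) (cond (Nat.blt c 20) (cond (Nat.beq c 19) [⟨236, -1, 2⟩, ⟨0, 2, 1⟩, ⟨1, 2, 1⟩, ⟨2, 3,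 1⟩, ⟨3, 4, 1⟩, ⟨4, 3, 1⟩, ⟨5, 2, 1⟩, ⟨6, 2, 1⟩, ⟨7, 1, 1⟩] []) (cond (Nat.beq c 20) [⟨129, 1, 1⟩] []))) (cond (Nat.blt c 31) (cond (Nat.blt c 26) (cond (Nat.beq c 21) [⟨130, -1, 1⟩] []) (cond (Nat.beq c 26) [⟨170, 1, 1⟩] [])) (cond (Nat.blt c 35) (cond (Nat.beq c 31) [⟨171, -1, 1⟩] []) (cond (Nat.beq c 35) [⟨172, 1, 1⟩] [])))) (cond (Nat.blt c 48) (cond (Nat.blt c 42) (cond (Nat.blt c 41) (cond (Nat.beq c 38) [⟨173, -1, 1⟩] []) (cond (Nat.beq c 41) [⟨175, 1, 1⟩] [])) (cond (Nat.blt c 45) (cond (Nat.beq c 42) [⟨176, -1, 1⟩] []) (cond (Nat.beq c 45) [⟨177, -1, 1⟩] []))) (cond (Nat.blt c 52) (cond (Nat.blt c 51) (cond (Nat.beq c 48) [⟨178, 1, 1⟩] []) (cond (Nat.beq c 51) [⟨180, -1, 1⟩] [])) (cond (Nat.blt c 54) (cond (Nat.beq c 52) [⟨181, 1, 1⟩] []) (cond (Nat.beq c 54) [⟨182, -1, 1⟩] []))))))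 (cond (Nat.blt c 80) (cond (Nat.blt c 70) (cond (Nat.blt c 63) (cond (Nat.blt c 60) (cond (Nat.blt c 58) (cond (Nat.beq c 57) [⟨184, 1, 1⟩] []) (cond (Nat.beq c 58) [⟨185, -1, 1⟩] [])) (cond (Nat.blt c 61) (cond (Nat.beq c 60) [⟨187, -1, 1⟩] []) (cond (Nat.beq c 61) [⟨188, 1, 1⟩] []))) (cond (Nat.blt c 67) (cond (Nat.blt c 64) (cond (Nat.beq c 63) [⟨191, -1, 1⟩] []) (cond (Nat.beq c 64) [⟨192, 1, 1⟩] [])) (cond (Nat.blt c 68) (cond (Nat.beq c 67) [⟨194, -1, 1⟩] []) (cond (Nat.beq c 68) [⟨195, 1, 1⟩] [])))) (cond (Nat.blt c 75) (cond (Nat.blt c 73) (cond (Nat.blt c 71) (cond (Nat.beq c 70) [⟨197, 1, 1⟩] []) (cond (Nat.beq c 71) [⟨198, -1, 1⟩] [])) (cond (Nat.blt c 74) (cond (Nat.beq c 73) [⟨201, 1, 1⟩] []) (cond (Nat.beq c 74) [⟨203, -1, 1⟩] []))) (cond (Nat.blt c 78) (cond (Nat.blt c 77)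 (cond (Nat.beq c 75) [⟨204, 1, 1⟩] []) (cond (Nat.beq c 77) [⟨207, -1, 1⟩] [])) (cond (Nat.blt c 79) (cond (Nat.beq c 78) [⟨210, 1, 1⟩] []) (cond (Nat.beq c 79) [⟨213, 1, 1⟩] []))))) (cond (Nat.blt c 135) (cond (Nat.blt c 85) (cond (Nat.blt c 83) (cond (Nat.blt c 82) (cond (Nat.beq c 80) [⟨214, -1, 1⟩] []) (cond (Nat.beq c 82) [⟨217, 1, 1⟩] [])) (cond (Nat.blt c 84) (cond (Nat.beq c 83) [⟨220, -1, 1⟩] []) (cond (Nat.beq c 84) [⟨224, 1, 1⟩] []))) (cond (Nat.blt c 126) (cond (Nat.blt c 125) (cond (Nat.beq c 85) [⟨229, -1, 1⟩] []) (cond (Nat.beq c 125) [⟨234, 1, 1⟩] [])) (cond (Nat.blt c 131) (cond (Nat.beq c 126) [⟨235, -1, 1⟩] []) (cond (Nat.beq c 131) [⟨237, -1, 1⟩] [])))) (cond (Nat.blt c 157) (cond (Nat.blt c 146) (cond (Nat.blt c 140) (cond (Nat.beq c 135) [⟨238, 1, 1⟩] []) (cond (Nat.beq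 c 140) [⟨239, -1, 1⟩] [])) (cond (Nat.blt c 152) (cond (Nat.beq c 146) [⟨240, 1, 1⟩] []) (cond (Nat.beq c 152) [⟨241, 1, 1⟩] []))) (cond (Nat.blt c 164) (cond (Nat.blt c 161) (cond (Nat.beq c 157) [⟨242, 1, 1⟩] []) (cond (Nat.beq c 161) [⟨243, 1, 1⟩] [])) (cond (Nat.blt c 167) (cond (Nat.beq c 164) [⟨244, 1, 1⟩] []) (cond (Nat.blt c 168) (cond (Nat.beq c 167) [⟨246, -1, 1⟩] []) (cond (Nat.beq c 168) [⟨247, -1, 1⟩] [])))))))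

/-- Compiled columns of `x_229` for type E8. -/
def colsE8_229 (c : ℕ) : List CEnt :=
  cond (Nat.blt c 55) (cond (Nat.blt c 17) (cond (Nat.blt c 8) (cond (Nat.blt c 4) (cond (Nat.blt c 2) (cond (Nat.blt c 1) (cond (Nat.beq c 0) [⟨237, -1, 1⟩] []) (cond (Nat.beq c 1) [⟨237, 0, 1⟩] [])) (cond (Nat.blt c 3) (cond (Nat.beq c 2) [⟨237, 0, 1⟩] []) (cond (Nat.beq c 3) [⟨237, 0, 1⟩] []))) (cond (Nat.blt c 6) (cond (Nat.blt c 5) (cond (Nat.beq c 4) [⟨237, 1, 1⟩] []) (cond (Nat.beq c 5) [⟨237, -1, 1⟩] [])) (cond (Nat.blt c 7) (cond (Nat.beq c 6) [⟨237, 0, 1⟩] []) (cond (Nat.beq c 7) [⟨237, 0, 1⟩] [])))) (cond (Nat.blt c 13) (cond (Nat.blt c 10) (cond (Nat.blt c 9) (cond (Nat.beq c 8) [⟨89, -1, 1⟩] []) (cond (Nat.beq c 9) [⟨90, -1, 1⟩] [])) (cond (Nat.blt c 12) (cond (Nat.beq c 10) [⟨91, -1, 1⟩] [])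 (cond (Nat.beq c 12) [⟨95, 1, 1⟩] []))) (cond (Nat.blt c 15) (cond (Nat.blt c 14) (cond (Nat.beq c 13) [⟨99, 1, 1⟩] []) (cond (Nat.beq c 14) [⟨104, 1, 1⟩] [])) (cond (Nat.blt c 16) (cond (Nat.beq c 15) [⟨110, 1, 1⟩] []) (cond (Nat.beq c 16) [⟨116, -1, 1⟩] []))))) (cond (Nat.blt c 38) (cond (Nat.blt c 21) (cond (Nat.blt c 19) (cond (Nat.blt c 18) (cond (Nat.beq c 17) [⟨121, 1, 1⟩] []) (cond (Nat.beq c 18) [⟨237, -1, 2⟩, ⟨0, 2, 1⟩, ⟨1, 2, 1⟩, ⟨2, 3, 1⟩, ⟨3, 4, 1⟩, ⟨4, 3, 1⟩, ⟨5, 3, 1⟩, ⟨6, 2, 1⟩, ⟨7, 1, 1⟩] [])) (cond (Nat.blt c 20) (cond (Nat.beq c 19) [⟨131, 1, 1⟩] []) (cond (Nat.beq c 20) [⟨132, -1, 1⟩] []))) (cond (Nat.blt c 30) (cond (Nat.blt c 25) (cond (Nat.beq c 21) [⟨133, 1, 1⟩] []) (cond (Nat.beq c 25) [⟨170, 1, 1⟩] [])) (cond (Nat.blt c 34) (cond (Nat.beq c 30) [⟨171, -1, 1⟩] [])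 (cond (Nat.beq c 34) [⟨172, 1, 1⟩] [])))) (cond (Nat.blt c 48) (cond (Nat.blt c 40) (cond (Nat.blt c 39) (cond (Nat.beq c 38) [⟨174, -1, 1⟩] []) (cond (Nat.beq c 39) [⟨175, 1, 1⟩] [])) (cond (Nat.blt c 44) (cond (Nat.beq c 40) [⟨176, -1, 1⟩] []) (cond (Nat.beq c 44) [⟨177, -1, 1⟩] []))) (cond (Nat.blt c 50) (cond (Nat.blt c 49) (cond (Nat.beq c 48) [⟨179, 1, 1⟩] []) (cond (Nat.beq c 49) [⟨180, -1, 1⟩] [])) (cond (Nat.blt c 54) (cond (Nat.beq c 50) [⟨181, 1, 1⟩] []) (cond (Nat.beq c 54) [⟨183, -1, 1⟩] [])))))) (cond (Nat.blt c 80) (cond (Nat.blt c 70) (cond (Nat.blt c 62) (cond (Nat.blt c 60) (cond (Nat.blt c 56) (cond (Nat.beq c 55) [⟨184, 1, 1⟩] []) (cond (Nat.beq c 56) [⟨185, -1, 1⟩] [])) (cond (Nat.blt c 61) (cond (Nat.beq c 60) [⟨189, -1, 1⟩] []) (cond (Nat.beq c 61) [⟨190, 1, 1⟩] [])))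 (cond (Nat.blt c 65) (cond (Nat.blt c 64) (cond (Nat.beq c 62) [⟨191, -1, 1⟩] []) (cond (Nat.beq c 64) [⟨193, 1, 1⟩] [])) (cond (Nat.blt c 66) (cond (Nat.beq c 65) [⟨194, -1, 1⟩] []) (cond (Nat.beq c 66) [⟨195, 1, 1⟩] [])))) (cond (Nat.blt c 75) (cond (Nat.blt c 72) (cond (Nat.blt c 71) (cond (Nat.beq c 70) [⟨199, 1, 1⟩] []) (cond (Nat.beq c 71) [⟨200, -1, 1⟩] [])) (cond (Nat.blt c 74) (cond (Nat.beq c 72) [⟨201, 1, 1⟩] []) (cond (Nat.beq c 74) [⟨205, -1, 1⟩] []))) (cond (Nat.blt c 78) (cond (Nat.blt c 76) (cond (Nat.beq c 75) [⟨206, 1, 1⟩] []) (cond (Nat.beq c 76) [⟨207, -1, 1⟩] [])) (cond (Nat.blt c 79) (cond (Nat.beq c 78) [⟨211, 1, 1⟩] []) (cond (Nat.beq c 79) [⟨215, 1, 1⟩] []))))) (cond (Nat.blt c 134) (cond (Nat.blt c 85) (cond (Nat.blt c 83) (cond (Nat.blt c 81) (cond (Nat.beq c 80)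 [⟨216, -1, 1⟩] []) (cond (Nat.beq c 81) [⟨217, 1, 1⟩] [])) (cond (Nat.blt c 84) (cond (Nat.beq c 83) [⟨221, -1, 1⟩] []) (cond (Nat.beq c 84) [⟨225, 1, 1⟩] []))) (cond (Nat.blt c 123) (cond (Nat.blt c 122) (cond (Nat.beq c 85) [⟨230, -1, 1⟩] []) (cond (Nat.beq c 122) [⟨234, -1, 1⟩] [])) (cond (Nat.blt c 124) (cond (Nat.beq c 123) [⟨235, 1, 1⟩] []) (cond (Nat.beq c 124) [⟨236, -1, 1⟩] [])))) (cond (Nat.blt c 156) (cond (Nat.blt c 145) (cond (Nat.blt c 139) (cond (Nat.beq c 134) [⟨238, -1, 1⟩] []) (cond (Nat.beq c 139) [⟨239, 1, 1⟩] [])) (cond (Nat.blt c 151) (cond (Nat.beq c 145) [⟨240, -1, 1⟩] []) (cond (Nat.beq c 151) [⟨241, -1, 1⟩] []))) (cond (Nat.blt c 164) (cond (Nat.blt c 160) (cond (Nat.beq c 156) [⟨242, -1, 1⟩] []) (cond (Nat.beq c 160) [⟨243, -1, 1⟩] [])) (cond (Nat.blt c 165) (cond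 (Nat.beq c 164) [⟨245, 1, 1⟩] []) (cond (Nat.blt c 166) (cond (Nat.beq c 165) [⟨246, 1, 1⟩] []) (cond (Nat.beq c 166) [⟨247, 1, 1⟩] [])))))))

/-- Compiled columns of `x_230` for type E8. -/
def colsE8_230 (c : ℕ) : List CEnt :=
  cond (Nat.blt c 55) (cond (Nat.blt c 17) (cond (Nat.blt c 8) (cond (Nat.blt c 4) (cond (Nat.blt c 2) (cond (Nat.blt c 1) (cond (Nat.beq c 0) [⟨238, -1, 1⟩] []) (cond (Nat.beq c 1) [⟨238, 0, 1⟩] [])) (cond (Nat.blt c 3) (cond (Nat.beq c 2) [⟨238, 0, 1⟩] []) (cond (Nat.beq c 3) [⟨238, 1, 1⟩] []))) (cond (Nat.blt c 6) (cond (Nat.blt c 5) (cond (Nat.beq c 4) [⟨238, -1, 1⟩] []) (cond (Nat.beq c 5) [⟨238, 0, 1⟩] [])) (cond (Nat.blt c 7) (cond (Nat.beq c 6) [⟨238, 0, 1⟩] []) (cond (Nat.beq c 7) [⟨238, 0, 1⟩] [])))) (cond (Nat.blt c 13) (cond (Nat.blt c 10) (cond (Nat.blt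 c 9) (cond (Nat.beq c 8) [⟨92, 1, 1⟩] []) (cond (Nat.beq c 9) [⟨93, 1, 1⟩] [])) (cond (Nat.blt c 11) (cond (Nat.beq c 10) [⟨94, 1, 1⟩] []) (cond (Nat.beq c 11) [⟨95, 1, 1⟩] []))) (cond (Nat.blt c 15) (cond (Nat.blt c 14) (cond (Nat.beq c 13) [⟨100, -1, 1⟩] []) (cond (Nat.beq c 14) [⟨105, -1, 1⟩] [])) (cond (Nat.blt c 16) (cond (Nat.beq c 15) [⟨111, -1, 1⟩] []) (cond (Nat.beq c 16) [⟨117, 1, 1⟩] []))))) (cond (Nat.blt c 35) (cond (Nat.blt c 21) (cond (Nat.blt c 19) (cond (Nat.blt c 18) (cond (Nat.beq c 17) [⟨238, -1, 2⟩, ⟨0, 2, 1⟩, ⟨1, 2, 1⟩, ⟨2, 3, 1⟩, ⟨3, 4, 1⟩, ⟨4, 4, 1⟩, ⟨5, 3, 1⟩, ⟨6, 2, 1⟩, ⟨7, 1, 1⟩] []) (cond (Nat.beq c 18) [⟨134, 1, 1⟩] [])) (cond (Nat.blt c 20) (cond (Nat.beq c 19) [⟨135, -1, 1⟩] []) (cond (Nat.beq c 20) [⟨136, 1, 1⟩] []))) (cond (Nat.blt c 29) (cond (Nat.blt c 24)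 (cond (Nat.beq c 21) [⟨137, -1, 1⟩] []) (cond (Nat.beq c 24) [⟨170, 1, 1⟩] [])) (cond (Nat.blt c 34) (cond (Nat.beq c 29) [⟨171, -1, 1⟩] []) (cond (Nat.beq c 34) [⟨173, 1, 1⟩] [])))) (cond (Nat.blt c 45) (cond (Nat.blt c 37) (cond (Nat.blt c 36) (cond (Nat.beq c 35) [⟨174, -1, 1⟩] []) (cond (Nat.beq c 36) [⟨175, 1, 1⟩] [])) (cond (Nat.blt c 44) (cond (Nat.beq c 37) [⟨176, -1, 1⟩] []) (cond (Nat.beq c 44) [⟨178, -1, 1⟩] []))) (cond (Nat.blt c 47) (cond (Nat.blt c 46) (cond (Nat.beq c 45) [⟨179, 1, 1⟩] []) (cond (Nat.beq c 46) [⟨180, -1, 1⟩] [])) (cond (Nat.blt c 54) (cond (Nat.beq c 47) [⟨181, 1, 1⟩] []) (cond (Nat.beq c 54) [⟨186, -1, 1⟩] [])))))) (cond (Nat.blt c 80) (cond (Nat.blt c 67) (cond (Nat.blt c 59) (cond (Nat.blt c 57) (cond (Nat.blt c 56) (cond (Nat.beq c 55) [⟨187, 1, 1⟩] [])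 (cond (Nat.beq c 56) [⟨188, -1, 1⟩] [])) (cond (Nat.blt c 58) (cond (Nat.beq c 57) [⟨189, -1, 1⟩] []) (cond (Nat.beq c 58) [⟨190, 1, 1⟩] []))) (cond (Nat.blt c 65) (cond (Nat.blt c 64) (cond (Nat.beq c 59) [⟨191, -1, 1⟩] []) (cond (Nat.beq c 64) [⟨196, 1, 1⟩] [])) (cond (Nat.blt c 66) (cond (Nat.beq c 65) [⟨197, -1, 1⟩] []) (cond (Nat.beq c 66) [⟨198, 1, 1⟩] [])))) (cond (Nat.blt c 75) (cond (Nat.blt c 69) (cond (Nat.blt c 68) (cond (Nat.beq c 67) [⟨199, 1, 1⟩] []) (cond (Nat.beq c 68) [⟨200, -1, 1⟩] [])) (cond (Nat.blt c 74) (cond (Nat.beq c 69) [⟨201, 1, 1⟩] []) (cond (Nat.beq c 74) [⟨208, -1, 1⟩] []))) (cond (Nat.blt c 77) (cond (Nat.blt c 76) (cond (Nat.beq c 75) [⟨209, 1, 1⟩] []) (cond (Nat.beq c 76) [⟨210, -1, 1⟩] [])) (cond (Nat.blt c 79) (cond (Nat.beq c 77) [⟨211, 1, 1⟩] []) (cond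 (Nat.beq c 79) [⟨218, 1, 1⟩] []))))) (cond (Nat.blt c 121) (cond (Nat.blt c 85) (cond (Nat.blt c 82) (cond (Nat.blt c 81) (cond (Nat.beq c 80) [⟨219, -1, 1⟩] []) (cond (Nat.beq c 81) [⟨220, 1, 1⟩] [])) (cond (Nat.blt c 84) (cond (Nat.beq c 82) [⟨221, -1, 1⟩] []) (cond (Nat.beq c 84) [⟨226, 1, 1⟩] []))) (cond (Nat.blt c 119) (cond (Nat.blt c 118) (cond (Nat.beq c 85) [⟨231, -1, 1⟩] []) (cond (Nat.beq c 118) [⟨234, 1, 1⟩] [])) (cond (Nat.blt c 120) (cond (Nat.beq c 119) [⟨235, -1, 1⟩] []) (cond (Nat.beq c 120) [⟨236, 1, 1⟩] [])))) (cond (Nat.blt c 155) (cond (Nat.blt c 144) (cond (Nat.blt c 138) (cond (Nat.beq c 121) [⟨237, -1, 1⟩] []) (cond (Nat.beq c 138) [⟨239, -1, 1⟩] [])) (cond (Nat.blt c 150) (cond (Nat.beq c 144) [⟨240, 1, 1⟩] []) (cond (Nat.beq c 150) [⟨241, 1, 1⟩] []))) (cond (Nat.blt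 c 161) (cond (Nat.blt c 160) (cond (Nat.beq c 155) [⟨242, 1, 1⟩] []) (cond (Nat.beq c 160) [⟨244, -1, 1⟩] [])) (cond (Nat.blt c 162) (cond (Nat.beq c 161) [⟨245, -1, 1⟩] []) (cond (Nat.blt c 163) (cond (Nat.beq c 162) [⟨246, -1, 1⟩] []) (cond (Nat.beq c 163) [⟨247, -1, 1⟩] [])))))))

/-- Compiled columns of `x_231` for type E8. -/
def colsE8_231 (c : ℕ) : List CEnt :=
  cond (Nat.blt c 49) (cond (Nat.blt c 17) (cond (Nat.blt c 8) (cond (Nat.blt c 4) (cond (Nat.blt c 2) (cond (Nat.blt c 1) (cond (Nat.beq c 0) [⟨239, -1, 1⟩] []) (cond (Nat.beq c 1) [⟨239, 1, 1⟩] [])) (cond (Nat.blt c 3) (cond (Nat.beq c 2) [⟨239, 1, 1⟩] []) (cond (Nat.beq c 3) [⟨239, -1, 1⟩] []))) (cond (Nat.blt c 6) (cond (Nat.blt c 5) (cond (Nat.beq c 4) [⟨239, 0, 1⟩] []) (cond (Nat.beq c 5) [⟨239, 0, 1⟩] [])) (cond (Nat.blt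 c 7) (cond (Nat.beq c 6) [⟨239, 0, 1⟩] []) (cond (Nat.beq c 7) [⟨239, 0, 1⟩] [])))) (cond (Nat.blt c 12) (cond (Nat.blt c 10) (cond (Nat.blt c 9) (cond (Nat.beq c 8) [⟨96, -1, 1⟩] []) (cond (Nat.beq c 9) [⟨97, -1, 1⟩] [])) (cond (Nat.blt c 11) (cond (Nat.beq c 10) [⟨98, -1, 1⟩] []) (cond (Nat.beq c 11) [⟨99, -1, 1⟩] []))) (cond (Nat.blt c 15) (cond (Nat.blt c 14) (cond (Nat.beq c 12) [⟨100, -1, 1⟩] []) (cond (Nat.beq c 14) [⟨106, 1, 1⟩] [])) (cond (Nat.blt c 16) (cond (Nat.beq c 15) [⟨112, 1, 1⟩] []) (cond (Nat.beq c 16) [⟨239, -1, 2⟩, ⟨0, 2, 1⟩, ⟨1, 2, 1⟩, ⟨2, 3, 1⟩, ⟨3, 5, 1⟩, ⟨4, 4, 1⟩, ⟨5, 3, 1⟩, ⟨6, 2, 1⟩, ⟨7, 1, 1⟩] []))))) (cond (Nat.blt c 31) (cond (Nat.blt c 21) (cond (Nat.blt c 19) (cond (Nat.blt c 18) (cond (Nat.beq c 17) [⟨138, 1, 1⟩] []) (cond (Nat.beq c 18) [⟨139, -1, 1⟩] []))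 (cond (Nat.blt c 20) (cond (Nat.beq c 19) [⟨140, 1, 1⟩] []) (cond (Nat.beq c 20) [⟨141, -1, 1⟩] []))) (cond (Nat.blt c 29) (cond (Nat.blt c 23) (cond (Nat.beq c 21) [⟨142, 1, 1⟩] []) (cond (Nat.beq c 23) [⟨170, 1, 1⟩] [])) (cond (Nat.blt c 30) (cond (Nat.beq c 29) [⟨172, -1, 1⟩] []) (cond (Nat.beq c 30) [⟨173, 1, 1⟩] [])))) (cond (Nat.blt c 45) (cond (Nat.blt c 33) (cond (Nat.blt c 32) (cond (Nat.beq c 31) [⟨174, -1, 1⟩] []) (cond (Nat.beq c 32) [⟨175, 1, 1⟩] [])) (cond (Nat.blt c 44) (cond (Nat.beq c 33) [⟨176, -1, 1⟩] []) (cond (Nat.beq c 44) [⟨182, -1, 1⟩] []))) (cond (Nat.blt c 47) (cond (Nat.blt c 46) (cond (Nat.beq c 45) [⟨183, 1, 1⟩] []) (cond (Nat.beq c 46) [⟨184, -1, 1⟩] [])) (cond (Nat.blt c 48) (cond (Nat.beq c 47) [⟨185, 1, 1⟩] []) (cond (Nat.beq c 48) [⟨186, -1, 1⟩] []))))))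 (cond (Nat.blt c 80) (cond (Nat.blt c 67) (cond (Nat.blt c 53) (cond (Nat.blt c 51) (cond (Nat.blt c 50) (cond (Nat.beq c 49) [⟨187, 1, 1⟩] []) (cond (Nat.beq c 50) [⟨188, -1, 1⟩] [])) (cond (Nat.blt c 52) (cond (Nat.beq c 51) [⟨189, -1, 1⟩] []) (cond (Nat.beq c 52) [⟨190, 1, 1⟩] []))) (cond (Nat.blt c 65) (cond (Nat.blt c 64) (cond (Nat.beq c 53) [⟨191, -1, 1⟩] []) (cond (Nat.beq c 64) [⟨202, 1, 1⟩] [])) (cond (Nat.blt c 66) (cond (Nat.beq c 65) [⟨203, -1, 1⟩] []) (cond (Nat.beq c 66) [⟨204, 1, 1⟩] [])))) (cond (Nat.blt c 71) (cond (Nat.blt c 69) (cond (Nat.blt c 68) (cond (Nat.beq c 67) [⟨205, 1, 1⟩] []) (cond (Nat.beq c 68) [⟨206, -1, 1⟩] [])) (cond (Nat.blt c 70) (cond (Nat.beq c 69) [⟨207, 1, 1⟩] []) (cond (Nat.beq c 70) [⟨208, -1, 1⟩] []))) (cond (Nat.blt c 73) (cond (Nat.blt c 72)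 (cond (Nat.beq c 71) [⟨209, 1, 1⟩] []) (cond (Nat.beq c 72) [⟨210, -1, 1⟩] [])) (cond (Nat.blt c 79) (cond (Nat.beq c 73) [⟨211, 1, 1⟩] []) (cond (Nat.beq c 79) [⟨222, 1, 1⟩] []))))) (cond (Nat.blt c 116) (cond (Nat.blt c 85) (cond (Nat.blt c 82) (cond (Nat.blt c 81) (cond (Nat.beq c 80) [⟨223, -1, 1⟩] []) (cond (Nat.beq c 81) [⟨224, 1, 1⟩] [])) (cond (Nat.blt c 83) (cond (Nat.beq c 82) [⟨225, -1, 1⟩] []) (cond (Nat.beq c 83) [⟨226, 1, 1⟩] []))) (cond (Nat.blt c 114) (cond (Nat.blt c 113) (cond (Nat.beq c 85) [⟨232, -1, 1⟩] []) (cond (Nat.beq c 113) [⟨234, -1, 1⟩] [])) (cond (Nat.blt c 115) (cond (Nat.beq c 114) [⟨235, 1, 1⟩] []) (cond (Nat.beq c 115) [⟨236, -1, 1⟩] [])))) (cond (Nat.blt c 155) (cond (Nat.blt c 143) (cond (Nat.blt c 117) (cond (Nat.beq c 116) [⟨237, 1, 1⟩] []) (cond (Nat.beq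 c 117) [⟨238, -1, 1⟩] [])) (cond (Nat.blt c 149) (cond (Nat.beq c 143) [⟨240, -1, 1⟩] []) (cond (Nat.beq c 149) [⟨241, -1, 1⟩] []))) (cond (Nat.blt c 157) (cond (Nat.blt c 156) (cond (Nat.beq c 155) [⟨243, 1, 1⟩] []) (cond (Nat.beq c 156) [⟨244, 1, 1⟩] [])) (cond (Nat.blt c 158) (cond (Nat.beq c 157) [⟨245, 1, 1⟩] []) (cond (Nat.blt c 159) (cond (Nat.beq c 158) [⟨246, 1, 1⟩] []) (cond (Nat.beq c 159) [⟨247, 1, 1⟩] [])))))))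

/-- Compiled columns of `x_232` for type E8. -/
def colsE8_232 (c : ℕ) : List CEnt :=
  cond (Nat.blt c 49) (cond (Nat.blt c 17) (cond (Nat.blt c 8) (cond (Nat.blt c 4) (cond (Nat.blt c 2) (cond (Nat.blt c 1) (cond (Nat.beq c 0) [⟨240, 0, 1⟩] []) (cond (Nat.beq c 1) [⟨240, 1, 1⟩] [])) (cond (Nat.blt c 3) (cond (Nat.beq c 2) [⟨240, -1, 1⟩] []) (cond (Nat.beq c 3) [⟨240, 0, 1⟩] []))) (cond (Nat.blt c 6) (cond (Nat.blt c 5) (cond (Nat.beq c 4) [⟨240, 0, 1⟩] []) (cond (Nat.beq c 5) [⟨240, 0, 1⟩] [])) (cond (Nat.blt c 7) (cond (Nat.beq c 6) [⟨240, 0, 1⟩] []) (cond (Nat.beq c 7) [⟨240, 0, 1⟩] [])))) (cond (Nat.blt c 12) (cond (Nat.blt c 10) (cond (Nat.blt c 9) (cond (Nat.beq c 8) [⟨101, 1, 1⟩] []) (cond (Nat.beq c 9) [⟨102, 1, 1⟩] [])) (cond (Nat.blt c 11) (cond (Nat.beq c 10) [⟨103, 1, 1⟩] [])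 (cond (Nat.beq c 11) [⟨104, 1, 1⟩] []))) (cond (Nat.blt c 15) (cond (Nat.blt c 13) (cond (Nat.beq c 12) [⟨105, 1, 1⟩] []) (cond (Nat.beq c 13) [⟨106, 1, 1⟩] [])) (cond (Nat.blt c 16) (cond (Nat.beq c 15) [⟨240, -1, 2⟩, ⟨0, 2, 1⟩, ⟨1, 2, 1⟩, ⟨2, 4, 1⟩, ⟨3, 5, 1⟩, ⟨4, 4, 1⟩, ⟨5, 3, 1⟩, ⟨6, 2, 1⟩, ⟨7, 1, 1⟩] []) (cond (Nat.beq c 16) [⟨143, 1, 1⟩] []))))) (cond (Nat.blt c 26) (cond (Nat.blt c 21) (cond (Nat.blt c 19) (cond (Nat.blt c 18) (cond (Nat.beq c 17) [⟨144, -1, 1⟩] []) (cond (Nat.beq c 18) [⟨145, 1, 1⟩] [])) (cond (Nat.blt c 20) (cond (Nat.beq c 19) [⟨146, -1, 1⟩] []) (cond (Nat.beq c 20) [⟨147, 1, 1⟩] []))) (cond (Nat.blt c 24) (cond (Nat.blt c 23) (cond (Nat.beq c 21) [⟨148, -1, 1⟩] []) (cond (Nat.beq c 23) [⟨171, 1, 1⟩] [])) (cond (Nat.blt c 25) (cond (Nat.beq c 24) [⟨172, -1, 1⟩]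 []) (cond (Nat.beq c 25) [⟨173, 1, 1⟩] [])))) (cond (Nat.blt c 45) (cond (Nat.blt c 28) (cond (Nat.blt c 27) (cond (Nat.beq c 26) [⟨174, -1, 1⟩] []) (cond (Nat.beq c 27) [⟨175, 1, 1⟩] [])) (cond (Nat.blt c 44) (cond (Nat.beq c 28) [⟨176, -1, 1⟩] []) (cond (Nat.beq c 44) [⟨192, -1, 1⟩] []))) (cond (Nat.blt c 47) (cond (Nat.blt c 46) (cond (Nat.beq c 45) [⟨193, 1, 1⟩] []) (cond (Nat.beq c 46) [⟨194, -1, 1⟩] [])) (cond (Nat.blt c 48) (cond (Nat.beq c 47) [⟨195, 1, 1⟩] []) (cond (Nat.beq c 48) [⟨196, -1, 1⟩] [])))))) (cond (Nat.blt c 80) (cond (Nat.blt c 57) (cond (Nat.blt c 53) (cond (Nat.blt c 51) (cond (Nat.blt c 50) (cond (Nat.beq c 49) [⟨197, 1, 1⟩] []) (cond (Nat.beq c 50) [⟨198, -1, 1⟩] [])) (cond (Nat.blt c 52) (cond (Nat.beq c 51) [⟨199, -1, 1⟩] []) (cond (Nat.beq c 52) [⟨200, 1, 1⟩]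 []))) (cond (Nat.blt c 55) (cond (Nat.blt c 54) (cond (Nat.beq c 53) [⟨201, -1, 1⟩] []) (cond (Nat.beq c 54) [⟨202, 1, 1⟩] [])) (cond (Nat.blt c 56) (cond (Nat.beq c 55) [⟨203, -1, 1⟩] []) (cond (Nat.beq c 56) [⟨204, 1, 1⟩] [])))) (cond (Nat.blt c 61) (cond (Nat.blt c 59) (cond (Nat.blt c 58) (cond (Nat.beq c 57) [⟨205, 1, 1⟩] []) (cond (Nat.beq c 58) [⟨206, -1, 1⟩] [])) (cond (Nat.blt c 60) (cond (Nat.beq c 59) [⟨207, 1, 1⟩] []) (cond (Nat.beq c 60) [⟨208, -1, 1⟩] []))) (cond (Nat.blt c 63) (cond (Nat.blt c 62) (cond (Nat.beq c 61) [⟨209, 1, 1⟩] []) (cond (Nat.beq c 62) [⟨210, -1, 1⟩] [])) (cond (Nat.blt c 79) (cond (Nat.beq c 63) [⟨211, 1, 1⟩] []) (cond (Nat.beq c 79) [⟨227, 1, 1⟩] []))))) (cond (Nat.blt c 110) (cond (Nat.blt c 84) (cond (Nat.blt c 82) (cond (Nat.blt c 81) (cond (Nat.beq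 c 80) [⟨228, -1, 1⟩] []) (cond (Nat.beq c 81) [⟨229, 1, 1⟩] [])) (cond (Nat.blt c 83) (cond (Nat.beq c 82) [⟨230, -1, 1⟩] []) (cond (Nat.beq c 83) [⟨231, 1, 1⟩] []))) (cond (Nat.blt c 108) (cond (Nat.blt c 107) (cond (Nat.beq c 84) [⟨232, -1, 1⟩] []) (cond (Nat.beq c 107) [⟨234, 1, 1⟩] [])) (cond (Nat.blt c 109) (cond (Nat.beq c 108) [⟨235, -1, 1⟩] []) (cond (Nat.beq c 109) [⟨236, 1, 1⟩] [])))) (cond (Nat.blt c 150) (cond (Nat.blt c 112) (cond (Nat.blt c 111) (cond (Nat.beq c 110) [⟨237, -1, 1⟩] []) (cond (Nat.beq c 111) [⟨238, 1, 1⟩] [])) (cond (Nat.blt c 149) (cond (Nat.beq c 112) [⟨239, -1, 1⟩] []) (cond (Nat.beq c 149) [⟨242, -1, 1⟩] []))) (cond (Nat.blt c 152) (cond (Nat.blt c 151) (cond (Nat.beq c 150) [⟨243, -1, 1⟩] []) (cond (Nat.beq c 151) [⟨244, -1, 1⟩] [])) (cond (Nat.blt c 153)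 (cond (Nat.beq c 152) [⟨245, -1, 1⟩] []) (cond (Nat.blt c 154) (cond (Nat.beq c 153) [⟨246, -1, 1⟩] []) (cond (Nat.beq c 154) [⟨247, -1, 1⟩] [])))))))

/-- Compiled columns of `x_233` for type E8. -/
def colsE8_233 (c : ℕ) : List CEnt :=
  cond (Nat.blt c 39) (cond (Nat.blt c 17) (cond (Nat.blt c 8) (cond (Nat.blt c 4) (cond (Nat.blt c 2) (cond (Nat.blt c 1) (cond (Nat.beq c 0) [⟨241, -1, 1⟩] []) (cond (Nat.beq c 1) [⟨241, -1, 1⟩] [])) (cond (Nat.blt c 3) (cond (Nat.beq c 2) [⟨241, 1, 1⟩] []) (cond (Nat.beq c 3) [⟨241, 0, 1⟩] []))) (cond (Nat.blt c 6) (cond (Nat.blt c 5) (cond (Nat.beq c 4) [⟨241, 0, 1⟩] []) (cond (Nat.beq c 5) [⟨241, 0, 1⟩] [])) (cond (Nat.blt c 7) (cond (Nat.beq c 6) [⟨241, 0, 1⟩] []) (cond (Nat.beq c 7) [⟨241, 0, 1⟩] [])))) (cond (Nat.blt c 12) (cond (Nat.blt c 10) (cond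 (Nat.blt c 9) (cond (Nat.beq c 8) [⟨107, 1, 1⟩] []) (cond (Nat.beq c 9) [⟨108, 1, 1⟩] [])) (cond (Nat.blt c 11) (cond (Nat.beq c 10) [⟨109, 1, 1⟩] []) (cond (Nat.beq c 11) [⟨110, 1, 1⟩] []))) (cond (Nat.blt c 14) (cond (Nat.blt c 13) (cond (Nat.beq c 12) [⟨111, 1, 1⟩] []) (cond (Nat.beq c 13) [⟨112, 1, 1⟩] [])) (cond (Nat.blt c 16) (cond (Nat.beq c 14) [⟨241, -1, 2⟩, ⟨0, 2, 1⟩, ⟨1, 3, 1⟩, ⟨2, 3, 1⟩, ⟨3, 5, 1⟩, ⟨4, 4, 1⟩, ⟨5, 3, 1⟩, ⟨6, 2, 1⟩, ⟨7, 1, 1⟩] []) (cond (Nat.beq c 16) [⟨149, 1, 1⟩] []))))) (cond (Nat.blt c 31) (cond (Nat.blt c 21) (cond (Nat.blt c 19) (cond (Nat.blt c 18) (cond (Nat.beq c 17) [⟨150, -1, 1⟩] []) (cond (Nat.beq c 18) [⟨151, 1, 1⟩] [])) (cond (Nat.blt c 20) (cond (Nat.beq c 19) [⟨152, -1, 1⟩] []) (cond (Nat.beq c 20) [⟨153, 1, 1⟩] []))) (cond (Nat.blt c 29) (cond (Nat.blt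 c 22) (cond (Nat.beq c 21) [⟨154, -1, 1⟩] []) (cond (Nat.beq c 22) [⟨170, 1, 1⟩] [])) (cond (Nat.blt c 30) (cond (Nat.beq c 29) [⟨177, -1, 1⟩] []) (cond (Nat.beq c 30) [⟨178, 1, 1⟩] [])))) (cond (Nat.blt c 35) (cond (Nat.blt c 33) (cond (Nat.blt c 32) (cond (Nat.beq c 31) [⟨179, -1, 1⟩] []) (cond (Nat.beq c 32) [⟨180, 1, 1⟩] [])) (cond (Nat.blt c 34) (cond (Nat.beq c 33) [⟨181, -1, 1⟩] []) (cond (Nat.beq c 34) [⟨182, -1, 1⟩] []))) (cond (Nat.blt c 37) (cond (Nat.blt c 36) (cond (Nat.beq c 35) [⟨183, 1, 1⟩] []) (cond (Nat.beq c 36) [⟨184, -1, 1⟩] [])) (cond (Nat.blt c 38) (cond (Nat.beq c 37) [⟨185, 1, 1⟩] []) (cond (Nat.beq c 38) [⟨186, -1, 1⟩] [])))))) (cond (Nat.blt c 75) (cond (Nat.blt c 67) (cond (Nat.blt c 43) (cond (Nat.blt c 41) (cond (Nat.blt c 40) (cond (Nat.beq c 39) [⟨187, 1, 1⟩]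 []) (cond (Nat.beq c 40) [⟨188, -1, 1⟩] [])) (cond (Nat.blt c 42) (cond (Nat.beq c 41) [⟨189, -1, 1⟩] []) (cond (Nat.beq c 42) [⟨190, 1, 1⟩] []))) (cond (Nat.blt c 65) (cond (Nat.blt c 64) (cond (Nat.beq c 43) [⟨191, -1, 1⟩] []) (cond (Nat.beq c 64) [⟨212, 1, 1⟩] [])) (cond (Nat.blt c 66) (cond (Nat.beq c 65) [⟨213, -1, 1⟩] []) (cond (Nat.beq c 66) [⟨214, 1, 1⟩] [])))) (cond (Nat.blt c 71) (cond (Nat.blt c 69) (cond (Nat.blt c 68) (cond (Nat.beq c 67) [⟨215, 1, 1⟩] []) (cond (Nat.beq c 68) [⟨216, -1, 1⟩] [])) (cond (Nat.blt c 70) (cond (Nat.beq c 69) [⟨217, 1, 1⟩] []) (cond (Nat.beq c 70) [⟨218, -1, 1⟩] []))) (cond (Nat.blt c 73) (cond (Nat.blt c 72) (cond (Nat.beq c 71) [⟨219, 1, 1⟩] []) (cond (Nat.beq c 72) [⟨220, -1, 1⟩] [])) (cond (Nat.blt c 74) (cond (Nat.beq c 73) [⟨221, 1, 1⟩] [])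 (cond (Nat.beq c 74) [⟨222, 1, 1⟩] []))))) (cond (Nat.blt c 104) (cond (Nat.blt c 85) (cond (Nat.blt c 77) (cond (Nat.blt c 76) (cond (Nat.beq c 75) [⟨223, -1, 1⟩] []) (cond (Nat.beq c 76) [⟨224, 1, 1⟩] [])) (cond (Nat.blt c 78) (cond (Nat.beq c 77) [⟨225, -1, 1⟩] []) (cond (Nat.beq c 78) [⟨226, 1, 1⟩] []))) (cond (Nat.blt c 102) (cond (Nat.blt c 101) (cond (Nat.beq c 85) [⟨233, -1, 1⟩] []) (cond (Nat.beq c 101) [⟨234, 1, 1⟩] [])) (cond (Nat.blt c 103) (cond (Nat.beq c 102) [⟨235, -1, 1⟩] []) (cond (Nat.beq c 103) [⟨236, 1, 1⟩] [])))) (cond (Nat.blt c 144) (cond (Nat.blt c 106) (cond (Nat.blt c 105) (cond (Nat.beq c 104) [⟨237, -1, 1⟩] []) (cond (Nat.beq c 105) [⟨238, 1, 1⟩] [])) (cond (Nat.blt c 143) (cond (Nat.beq c 106) [⟨239, -1, 1⟩] []) (cond (Nat.beq c 143) [⟨242, -1, 1⟩] []))) (cond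 (Nat.blt c 146) (cond (Nat.blt c 145) (cond (Nat.beq c 144) [⟨243, -1, 1⟩] []) (cond (Nat.beq c 145) [⟨244, -1, 1⟩] [])) (cond (Nat.blt c 147) (cond (Nat.beq c 146) [⟨245, -1, 1⟩] []) (cond (Nat.blt c 148) (cond (Nat.beq c 147) [⟨246, -1, 1⟩] []) (cond (Nat.beq c 148) [⟨247, -1, 1⟩] [])))))))

/-- Compiled columns of `x_234` for type E8. -/
def colsE8_234 (c : ℕ) : List CEnt :=
  cond (Nat.blt c 39) (cond (Nat.blt c 17) (cond (Nat.blt c 8) (cond (Nat.blt c 4) (cond (Nat.blt c 2) (cond (Nat.blt c 1) (cond (Nat.beq c 0) [⟨242, 0, 1⟩] []) (cond (Nat.beq c 1) [⟨242, -1, 1⟩] [])) (cond (Nat.blt c 3) (cond (Nat.beq c 2) [⟨242, -1, 1⟩] []) (cond (Nat.beq c 3) [⟨242, 1, 1⟩] []))) (cond (Nat.blt c 6) (cond (Nat.blt c 5) (cond (Nat.beq c 4) [⟨242, 0, 1⟩] []) (cond (Nat.beq c 5) [⟨242, 0, 1⟩] [])) (cond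 (Nat.blt c 7) (cond (Nat.beq c 6) [⟨242, 0, 1⟩] []) (cond (Nat.beq c 7) [⟨242, 0, 1⟩] [])))) (cond (Nat.blt c 12) (cond (Nat.blt c 10) (cond (Nat.blt c 9) (cond (Nat.beq c 8) [⟨113, 1, 1⟩] []) (cond (Nat.beq c 9) [⟨114, 1, 1⟩] [])) (cond (Nat.blt c 11) (cond (Nat.beq c 10) [⟨115, 1, 1⟩] []) (cond (Nat.beq c 11) [⟨116, 1, 1⟩] []))) (cond (Nat.blt c 14) (cond (Nat.blt c 13) (cond (Nat.beq c 12) [⟨117, 1, 1⟩] []) (cond (Nat.beq c 13) [⟨242, -1, 2⟩, ⟨0, 2, 1⟩, ⟨1, 3, 1⟩, ⟨2, 4, 1⟩, ⟨3, 5, 1⟩, ⟨4, 4, 1⟩, ⟨5, 3, 1⟩, ⟨6, 2, 1⟩, ⟨7, 1, 1⟩] [])) (cond (Nat.blt c 15) (cond (Nat.beq c 14) [⟨143, 1, 1⟩] []) (cond (Nat.beq c 15) [⟨149, 1, 1⟩] []))))) (cond (Nat.blt c 26) (cond (Nat.blt c 21) (cond (Nat.blt c 19) (cond (Nat.blt c 18) (cond (Nat.beq c 17) [⟨155, -1, 1⟩] []) (cond (Nat.beq c 18) [⟨156, 1,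 1⟩] [])) (cond (Nat.blt c 20) (cond (Nat.beq c 19) [⟨157, -1, 1⟩] []) (cond (Nat.beq c 20) [⟨158, 1, 1⟩] []))) (cond (Nat.blt c 24) (cond (Nat.blt c 22) (cond (Nat.beq c 21) [⟨159, -1, 1⟩] []) (cond (Nat.beq c 22) [⟨171, 1, 1⟩] [])) (cond (Nat.blt c 25) (cond (Nat.beq c 24) [⟨177, -1, 1⟩] []) (cond (Nat.beq c 25) [⟨178, 1, 1⟩] [])))) (cond (Nat.blt c 35) (cond (Nat.blt c 28) (cond (Nat.blt c 27) (cond (Nat.beq c 26) [⟨179, -1, 1⟩] []) (cond (Nat.beq c 27) [⟨180, 1, 1⟩] [])) (cond (Nat.blt c 34) (cond (Nat.beq c 28) [⟨181, -1, 1⟩] []) (cond (Nat.beq c 34) [⟨192, -1, 1⟩] []))) (cond (Nat.blt c 37) (cond (Nat.blt c 36) (cond (Nat.beq c 35) [⟨193, 1, 1⟩] []) (cond (Nat.beq c 36) [⟨194, -1, 1⟩] [])) (cond (Nat.blt c 38) (cond (Nat.beq c 37) [⟨195, 1, 1⟩] []) (cond (Nat.beq c 38) [⟨196, -1, 1⟩]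 [])))))) (cond (Nat.blt c 75) (cond (Nat.blt c 57) (cond (Nat.blt c 43) (cond (Nat.blt c 41) (cond (Nat.blt c 40) (cond (Nat.beq c 39) [⟨197, 1, 1⟩] []) (cond (Nat.beq c 40) [⟨198, -1, 1⟩] [])) (cond (Nat.blt c 42) (cond (Nat.beq c 41) [⟨199, -1, 1⟩] []) (cond (Nat.beq c 42) [⟨200, 1, 1⟩] []))) (cond (Nat.blt c 55) (cond (Nat.blt c 54) (cond (Nat.beq c 43) [⟨201, -1, 1⟩] []) (cond (Nat.beq c 54) [⟨212, 1, 1⟩] [])) (cond (Nat.blt c 56) (cond (Nat.beq c 55) [⟨213, -1, 1⟩] []) (cond (Nat.beq c 56) [⟨214, 1, 1⟩] [])))) (cond (Nat.blt c 61) (cond (Nat.blt c 59) (cond (Nat.blt c 58) (cond (Nat.beq c 57) [⟨215, 1, 1⟩] []) (cond (Nat.beq c 58) [⟨216, -1, 1⟩] [])) (cond (Nat.blt c 60) (cond (Nat.beq c 59) [⟨217, 1, 1⟩] []) (cond (Nat.beq c 60) [⟨218, -1, 1⟩] []))) (cond (Nat.blt c 63) (cond (Nat.blt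 c 62) (cond (Nat.beq c 61) [⟨219, 1, 1⟩] []) (cond (Nat.beq c 62) [⟨220, -1, 1⟩] [])) (cond (Nat.blt c 74) (cond (Nat.beq c 63) [⟨221, 1, 1⟩] []) (cond (Nat.beq c 74) [⟨227, 1, 1⟩] []))))) (cond (Nat.blt c 99) (cond (Nat.blt c 84) (cond (Nat.blt c 77) (cond (Nat.blt c 76) (cond (Nat.beq c 75) [⟨228, -1, 1⟩] []) (cond (Nat.beq c 76) [⟨229, 1, 1⟩] [])) (cond (Nat.blt c 78) (cond (Nat.beq c 77) [⟨230, -1, 1⟩] []) (cond (Nat.beq c 78) [⟨231, 1, 1⟩] []))) (cond (Nat.blt c 97) (cond (Nat.blt c 96) (cond (Nat.beq c 84) [⟨233, -1, 1⟩] []) (cond (Nat.beq c 96) [⟨234, 1, 1⟩] [])) (cond (Nat.blt c 98) (cond (Nat.beq c 97) [⟨235, -1, 1⟩] []) (cond (Nat.beq c 98) [⟨236, 1, 1⟩] [])))) (cond (Nat.blt c 138) (cond (Nat.blt c 106) (cond (Nat.blt c 100) (cond (Nat.beq c 99) [⟨237, -1, 1⟩] []) (cond (Nat.beq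 c 100) [⟨238, 1, 1⟩] [])) (cond (Nat.blt c 112) (cond (Nat.beq c 106) [⟨240, -1, 1⟩] []) (cond (Nat.beq c 112) [⟨241, -1, 1⟩] []))) (cond (Nat.blt c 140) (cond (Nat.blt c 139) (cond (Nat.beq c 138) [⟨243, -1, 1⟩] []) (cond (Nat.beq c 139) [⟨244, -1, 1⟩] [])) (cond (Nat.blt c 141) (cond (Nat.beq c 140) [⟨245, -1, 1⟩] []) (cond (Nat.blt c 142) (cond (Nat.beq c 141) [⟨246, -1, 1⟩] []) (cond (Nat.beq c 142) [⟨247, -1, 1⟩] [])))))))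

/-- Compiled columns of `x_235` for type E8. -/
def colsE8_235 (c : ℕ) : List CEnt :=
  cond (Nat.blt c 39) (cond (Nat.blt c 16) (cond (Nat.blt c 8) (cond (Nat.blt c 4) (cond (Nat.blt c 2) (cond (Nat.blt c 1) (cond (Nat.beq c 0) [⟨243, 0, 1⟩] []) (cond (Nat.beq c 1) [⟨243, 0, 1⟩] [])) (cond (Nat.blt c 3) (cond (Nat.beq c 2) [⟨243, 0, 1⟩] []) (cond (Nat.beq c 3) [⟨243, -1, 1⟩] []))) (cond (Nat.blt c 6) (cond (Nat.blt c 5) (cond (Nat.beq c 4) [⟨243, 1, 1⟩] []) (cond (Nat.beq c 5) [⟨243, 0, 1⟩] [])) (cond (Nat.blt c 7) (cond (Nat.beq c 6) [⟨243, 0, 1⟩] []) (cond (Nat.beq c 7) [⟨243, 0, 1⟩] [])))) (cond (Nat.blt c 12) (cond (Nat.blt c 10) (cond (Nat.blt c 9) (cond (Nat.beq c 8) [⟨118, 1, 1⟩] []) (cond (Nat.beq c 9) [⟨119, 1, 1⟩] [])) (cond (Nat.blt c 11) (cond (Nat.beq c 10) [⟨120, 1, 1⟩] [])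 (cond (Nat.beq c 11) [⟨121, 1, 1⟩] []))) (cond (Nat.blt c 14) (cond (Nat.blt c 13) (cond (Nat.beq c 12) [⟨243, -1, 2⟩, ⟨0, 2, 1⟩, ⟨1, 3, 1⟩, ⟨2, 4, 1⟩, ⟨3, 6, 1⟩, ⟨4, 4, 1⟩, ⟨5, 3, 1⟩, ⟨6, 2, 1⟩, ⟨7, 1, 1⟩] []) (cond (Nat.beq c 13) [⟨138, 1, 1⟩] [])) (cond (Nat.blt c 15) (cond (Nat.beq c 14) [⟨144, 1, 1⟩] []) (cond (Nat.beq c 15) [⟨150, 1, 1⟩] []))))) (cond (Nat.blt c 26) (cond (Nat.blt c 21) (cond (Nat.blt c 19) (cond (Nat.blt c 18) (cond (Nat.beq c 16) [⟨155, -1, 1⟩] []) (cond (Nat.beq c 18) [⟨160, 1, 1⟩] [])) (cond (Nat.blt c 20) (cond (Nat.beq c 19) [⟨161, -1, 1⟩] []) (cond (Nat.beq c 20) [⟨162, 1, 1⟩] []))) (cond (Nat.blt c 23) (cond (Nat.blt c 22) (cond (Nat.beq c 21) [⟨163, -1, 1⟩] []) (cond (Nat.beq c 22) [⟨172, 1, 1⟩] [])) (cond (Nat.blt c 25) (cond (Nat.beq c 23) [⟨177, -1, 1⟩]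 []) (cond (Nat.beq c 25) [⟨182, 1, 1⟩] [])))) (cond (Nat.blt c 31) (cond (Nat.blt c 28) (cond (Nat.blt c 27) (cond (Nat.beq c 26) [⟨183, -1, 1⟩] []) (cond (Nat.beq c 27) [⟨184, 1, 1⟩] [])) (cond (Nat.blt c 30) (cond (Nat.beq c 28) [⟨185, -1, 1⟩] []) (cond (Nat.beq c 30) [⟨192, -1, 1⟩] []))) (cond (Nat.blt c 33) (cond (Nat.blt c 32) (cond (Nat.beq c 31) [⟨193, 1, 1⟩] []) (cond (Nat.beq c 32) [⟨194, -1, 1⟩] [])) (cond (Nat.blt c 38) (cond (Nat.beq c 33) [⟨195, 1, 1⟩] []) (cond (Nat.beq c 38) [⟨202, -1, 1⟩] [])))))) (cond (Nat.blt c 71) (cond (Nat.blt c 51) (cond (Nat.blt c 43) (cond (Nat.blt c 41) (cond (Nat.blt c 40) (cond (Nat.beq c 39) [⟨203, 1, 1⟩] []) (cond (Nat.beq c 40) [⟨204, -1, 1⟩] [])) (cond (Nat.blt c 42) (cond (Nat.beq c 41) [⟨205, -1, 1⟩] []) (cond (Nat.beq c 42) [⟨206, 1, 1⟩]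 []))) (cond (Nat.blt c 49) (cond (Nat.blt c 48) (cond (Nat.beq c 43) [⟨207, -1, 1⟩] []) (cond (Nat.beq c 48) [⟨212, 1, 1⟩] [])) (cond (Nat.blt c 50) (cond (Nat.beq c 49) [⟨213, -1, 1⟩] []) (cond (Nat.beq c 50) [⟨214, 1, 1⟩] [])))) (cond (Nat.blt c 61) (cond (Nat.blt c 53) (cond (Nat.blt c 52) (cond (Nat.beq c 51) [⟨215, 1, 1⟩] []) (cond (Nat.beq c 52) [⟨216, -1, 1⟩] [])) (cond (Nat.blt c 60) (cond (Nat.beq c 53) [⟨217, 1, 1⟩] []) (cond (Nat.beq c 60) [⟨222, -1, 1⟩] []))) (cond (Nat.blt c 63) (cond (Nat.blt c 62) (cond (Nat.beq c 61) [⟨223, 1, 1⟩] []) (cond (Nat.beq c 62) [⟨224, -1, 1⟩] [])) (cond (Nat.blt c 70) (cond (Nat.beq c 63) [⟨225, 1, 1⟩] []) (cond (Nat.beq c 70) [⟨227, 1, 1⟩] []))))) (cond (Nat.blt c 95) (cond (Nat.blt c 83) (cond (Nat.blt c 73) (cond (Nat.blt c 72) (cond (Nat.beq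 c 71) [⟨228, -1, 1⟩] []) (cond (Nat.beq c 72) [⟨229, 1, 1⟩] [])) (cond (Nat.blt c 78) (cond (Nat.beq c 73) [⟨230, -1, 1⟩] []) (cond (Nat.beq c 78) [⟨232, 1, 1⟩] []))) (cond (Nat.blt c 93) (cond (Nat.blt c 92) (cond (Nat.beq c 83) [⟨233, -1, 1⟩] []) (cond (Nat.beq c 92) [⟨234, 1, 1⟩] [])) (cond (Nat.blt c 94) (cond (Nat.beq c 93) [⟨235, -1, 1⟩] []) (cond (Nat.beq c 94) [⟨236, 1, 1⟩] [])))) (cond (Nat.blt c 117) (cond (Nat.blt c 105) (cond (Nat.blt c 100) (cond (Nat.beq c 95) [⟨237, -1, 1⟩] []) (cond (Nat.beq c 100) [⟨239, 1, 1⟩] [])) (cond (Nat.blt c 111) (cond (Nat.beq c 105) [⟨240, -1, 1⟩] []) (cond (Nat.beq c 111) [⟨241, -1, 1⟩] []))) (cond (Nat.blt c 135) (cond (Nat.blt c 134) (cond (Nat.beq c 117) [⟨242, -1, 1⟩] []) (cond (Nat.beq c 134) [⟨244, -1, 1⟩] [])) (cond (Nat.blt c 136) (cond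 (Nat.beq c 135) [⟨245, -1, 1⟩] []) (cond (Nat.blt c 137) (cond (Nat.beq c 136) [⟨246, -1, 1⟩] []) (cond (Nat.beq c 137) [⟨247, -1, 1⟩] [])))))))

/-- Compiled columns of `x_236` for type E8. -/
def colsE8_236 (c : ℕ) : List CEnt :=
  cond (Nat.blt c 36) (cond (Nat.blt c 16) (cond (Nat.blt c 8) (cond (Nat.blt c 4) (cond (Nat.blt c 2) (cond (Nat.blt c 1) (cond (Nat.beq c 0) [⟨244, 0, 1⟩] []) (cond (Nat.beq c 1) [⟨244, 0, 1⟩] [])) (cond (Nat.blt c 3) (cond (Nat.beq c 2) [⟨244, 0, 1⟩] []) (cond (Nat.beq c 3) [⟨244, 0, 1⟩] []))) (cond (Nat.blt c 6) (cond (Nat.blt c 5) (cond (Nat.beq c 4) [⟨244, -1, 1⟩] []) (cond (Nat.beq c 5) [⟨244, 1, 1⟩] [])) (cond (Nat.blt c 7) (cond (Nat.beq c 6) [⟨244, 0, 1⟩] []) (cond (Nat.beq c 7) [⟨244, 0, 1⟩] [])))) (cond (Nat.blt c 12) (cond (Nat.blt c 10) (cond (Nat.blt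 c 9) (cond (Nat.beq c 8) [⟨122, 1, 1⟩] []) (cond (Nat.beq c 9) [⟨123, 1, 1⟩] [])) (cond (Nat.blt c 11) (cond (Nat.beq c 10) [⟨124, 1, 1⟩] []) (cond (Nat.beq c 11) [⟨244, -1, 2⟩, ⟨0, 2, 1⟩, ⟨1, 3, 1⟩, ⟨2, 4, 1⟩, ⟨3, 6, 1⟩, ⟨4, 5, 1⟩, ⟨5, 3, 1⟩, ⟨6, 2, 1⟩, ⟨7, 1, 1⟩] []))) (cond (Nat.blt c 14) (cond (Nat.blt c 13) (cond (Nat.beq c 12) [⟨134, 1, 1⟩] []) (cond (Nat.beq c 13) [⟨139, 1, 1⟩] [])) (cond (Nat.blt c 15) (cond (Nat.beq c 14) [⟨145, 1, 1⟩] []) (cond (Nat.beq c 15) [⟨151, 1, 1⟩] []))))) (cond (Nat.blt c 26) (cond (Nat.blt c 21) (cond (Nat.blt c 19) (cond (Nat.blt c 17) (cond (Nat.beq c 16) [⟨156, -1, 1⟩] []) (cond (Nat.beq c 17) [⟨160, 1, 1⟩] [])) (cond (Nat.blt c 20) (cond (Nat.beq c 19) [⟨164, -1, 1⟩] []) (cond (Nat.beq c 20) [⟨165, 1, 1⟩] []))) (cond (Nat.blt c 23) (cond (Nat.blt c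 22) (cond (Nat.beq c 21) [⟨166, -1, 1⟩] []) (cond (Nat.beq c 22) [⟨173, 1, 1⟩] [])) (cond (Nat.blt c 24) (cond (Nat.beq c 23) [⟨178, -1, 1⟩] []) (cond (Nat.beq c 24) [⟨182, 1, 1⟩] [])))) (cond (Nat.blt c 31) (cond (Nat.blt c 28) (cond (Nat.blt c 27) (cond (Nat.beq c 26) [⟨186, -1, 1⟩] []) (cond (Nat.beq c 27) [⟨187, 1, 1⟩] [])) (cond (Nat.blt c 29) (cond (Nat.beq c 28) [⟨188, -1, 1⟩] []) (cond (Nat.beq c 29) [⟨192, -1, 1⟩] []))) (cond (Nat.blt c 33) (cond (Nat.blt c 32) (cond (Nat.beq c 31) [⟨196, 1, 1⟩] []) (cond (Nat.beq c 32) [⟨197, -1, 1⟩] [])) (cond (Nat.blt c 35) (cond (Nat.beq c 33) [⟨198, 1, 1⟩] []) (cond (Nat.beq c 35) [⟨202, -1, 1⟩] [])))))) (cond (Nat.blt c 68) (cond (Nat.blt c 51) (cond (Nat.blt c 43) (cond (Nat.blt c 41) (cond (Nat.blt c 37) (cond (Nat.beq c 36) [⟨203, 1, 1⟩]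 []) (cond (Nat.beq c 37) [⟨204, -1, 1⟩] [])) (cond (Nat.blt c 42) (cond (Nat.beq c 41) [⟨208, -1, 1⟩] []) (cond (Nat.beq c 42) [⟨209, 1, 1⟩] []))) (cond (Nat.blt c 46) (cond (Nat.blt c 45) (cond (Nat.beq c 43) [⟨210, -1, 1⟩] []) (cond (Nat.beq c 45) [⟨212, 1, 1⟩] [])) (cond (Nat.blt c 47) (cond (Nat.beq c 46) [⟨213, -1, 1⟩] []) (cond (Nat.beq c 47) [⟨214, 1, 1⟩] [])))) (cond (Nat.blt c 58) (cond (Nat.blt c 53) (cond (Nat.blt c 52) (cond (Nat.beq c 51) [⟨218, 1, 1⟩] []) (cond (Nat.beq c 52) [⟨219, -1, 1⟩] [])) (cond (Nat.blt c 57) (cond (Nat.beq c 53) [⟨220, 1, 1⟩] []) (cond (Nat.beq c 57) [⟨222, -1, 1⟩] []))) (cond (Nat.blt c 63) (cond (Nat.blt c 59) (cond (Nat.beq c 58) [⟨223, 1, 1⟩] []) (cond (Nat.beq c 59) [⟨224, -1, 1⟩] [])) (cond (Nat.blt c 67) (cond (Nat.beq c 63) [⟨226, 1, 1⟩] [])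 (cond (Nat.beq c 67) [⟨227, 1, 1⟩] []))))) (cond (Nat.blt c 95) (cond (Nat.blt c 82) (cond (Nat.blt c 73) (cond (Nat.blt c 69) (cond (Nat.beq c 68) [⟨228, -1, 1⟩] []) (cond (Nat.beq c 69) [⟨229, 1, 1⟩] [])) (cond (Nat.blt c 77) (cond (Nat.beq c 73) [⟨231, -1, 1⟩] []) (cond (Nat.beq c 77) [⟨232, 1, 1⟩] []))) (cond (Nat.blt c 90) (cond (Nat.blt c 89) (cond (Nat.beq c 82) [⟨233, -1, 1⟩] []) (cond (Nat.beq c 89) [⟨234, 1, 1⟩] [])) (cond (Nat.blt c 91) (cond (Nat.beq c 90) [⟨235, -1, 1⟩] []) (cond (Nat.beq c 91) [⟨236, 1, 1⟩] [])))) (cond (Nat.blt c 116) (cond (Nat.blt c 104) (cond (Nat.blt c 99) (cond (Nat.beq c 95) [⟨238, -1, 1⟩] []) (cond (Nat.beq c 99) [⟨239, 1, 1⟩] [])) (cond (Nat.blt c 110) (cond (Nat.beq c 104) [⟨240, -1, 1⟩] []) (cond (Nat.beq c 110) [⟨241, -1, 1⟩] []))) (cond (Nat.blt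 c 131) (cond (Nat.blt c 121) (cond (Nat.beq c 116) [⟨242, -1, 1⟩] []) (cond (Nat.beq c 121) [⟨243, -1, 1⟩] [])) (cond (Nat.blt c 132) (cond (Nat.beq c 131) [⟨245, -1, 1⟩] []) (cond (Nat.blt c 133) (cond (Nat.beq c 132) [⟨246, -1, 1⟩] []) (cond (Nat.beq c 133) [⟨247, -1, 1⟩] [])))))))

/-- Compiled columns of `x_237` for type E8. -/
def colsE8_237 (c : ℕ) : List CEnt :=
  cond (Nat.blt c 36) (cond (Nat.blt c 16) (cond (Nat.blt c 8) (cond (Nat.blt c 4) (cond (Nat.blt c 2) (cond (Nat.blt c 1) (cond (Nat.beq c 0) [⟨245, 0, 1⟩] []) (cond (Nat.beq c 1) [⟨245, 0, 1⟩] [])) (cond (Nat.blt c 3) (cond (Nat.beq c 2) [⟨245, 0, 1⟩] []) (cond (Nat.beq c 3) [⟨245, 0, 1⟩] []))) (cond (Nat.blt c 6) (cond (Nat.blt c 5) (cond (Nat.beq c 4) [⟨245, 0, 1⟩] []) (cond (Nat.beq c 5) [⟨245, -1, 1⟩] [])) (cond (Nat.blt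 c 7) (cond (Nat.beq c 6) [⟨245, 1, 1⟩] []) (cond (Nat.beq c 7) [⟨245, 0, 1⟩] [])))) (cond (Nat.blt c 12) (cond (Nat.blt c 10) (cond (Nat.blt c 9) (cond (Nat.beq c 8) [⟨125, 1, 1⟩] []) (cond (Nat.beq c 9) [⟨126, 1, 1⟩] [])) (cond (Nat.blt c 11) (cond (Nat.beq c 10) [⟨245, -1, 2⟩, ⟨0, 2, 1⟩, ⟨1, 3, 1⟩, ⟨2, 4, 1⟩, ⟨3, 6, 1⟩, ⟨4, 5, 1⟩, ⟨5, 4, 1⟩, ⟨6, 2, 1⟩, ⟨7, 1, 1⟩] []) (cond (Nat.beq c 11) [⟨131, 1, 1⟩] []))) (cond (Nat.blt c 14) (cond (Nat.blt c 13) (cond (Nat.beq c 12) [⟨135, 1, 1⟩] []) (cond (Nat.beq c 13) [⟨140, 1, 1⟩] [])) (cond (Nat.blt c 15) (cond (Nat.beq c 14) [⟨146, 1, 1⟩] []) (cond (Nat.beq c 15) [⟨152, 1, 1⟩] []))))) (cond (Nat.blt c 25) (cond (Nat.blt c 21) (cond (Nat.blt c 18) (cond (Nat.blt c 17) (cond (Nat.beq c 16) [⟨157, -1, 1⟩] []) (cond (Nat.beq c 17) [⟨161, 1, 1⟩] []))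 (cond (Nat.blt c 20) (cond (Nat.beq c 18) [⟨164, -1, 1⟩] []) (cond (Nat.beq c 20) [⟨167, 1, 1⟩] []))) (cond (Nat.blt c 23) (cond (Nat.blt c 22) (cond (Nat.beq c 21) [⟨168, -1, 1⟩] []) (cond (Nat.beq c 22) [⟨174, 1, 1⟩] [])) (cond (Nat.blt c 24) (cond (Nat.beq c 23) [⟨179, -1, 1⟩] []) (cond (Nat.beq c 24) [⟨183, 1, 1⟩] [])))) (cond (Nat.blt c 30) (cond (Nat.blt c 28) (cond (Nat.blt c 27) (cond (Nat.beq c 25) [⟨186, -1, 1⟩] []) (cond (Nat.beq c 27) [⟨189, 1, 1⟩] [])) (cond (Nat.blt c 29) (cond (Nat.beq c 28) [⟨190, -1, 1⟩] []) (cond (Nat.beq c 29) [⟨193, -1, 1⟩] []))) (cond (Nat.blt c 33) (cond (Nat.blt c 32) (cond (Nat.beq c 30) [⟨196, 1, 1⟩] []) (cond (Nat.beq c 32) [⟨199, -1, 1⟩] [])) (cond (Nat.blt c 34) (cond (Nat.beq c 33) [⟨200, 1, 1⟩] []) (cond (Nat.beq c 34) [⟨202, -1, 1⟩] []))))))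 (cond (Nat.blt c 66) (cond (Nat.blt c 49) (cond (Nat.blt c 43) (cond (Nat.blt c 39) (cond (Nat.blt c 37) (cond (Nat.beq c 36) [⟨205, 1, 1⟩] []) (cond (Nat.beq c 37) [⟨206, -1, 1⟩] [])) (cond (Nat.blt c 40) (cond (Nat.beq c 39) [⟨208, -1, 1⟩] []) (cond (Nat.beq c 40) [⟨209, 1, 1⟩] []))) (cond (Nat.blt c 46) (cond (Nat.blt c 44) (cond (Nat.beq c 43) [⟨211, -1, 1⟩] []) (cond (Nat.beq c 44) [⟨212, 1, 1⟩] [])) (cond (Nat.blt c 47) (cond (Nat.beq c 46) [⟨215, -1, 1⟩] []) (cond (Nat.beq c 47) [⟨216, 1, 1⟩] [])))) (cond (Nat.blt c 56) (cond (Nat.blt c 53) (cond (Nat.blt c 50) (cond (Nat.beq c 49) [⟨218, 1, 1⟩] []) (cond (Nat.beq c 50) [⟨219, -1, 1⟩] [])) (cond (Nat.blt c 55) (cond (Nat.beq c 53) [⟨221, 1, 1⟩] []) (cond (Nat.beq c 55) [⟨222, -1, 1⟩] []))) (cond (Nat.blt c 62) (cond (Nat.blt c 59)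 (cond (Nat.beq c 56) [⟨223, 1, 1⟩] []) (cond (Nat.beq c 59) [⟨225, -1, 1⟩] [])) (cond (Nat.blt c 65) (cond (Nat.beq c 62) [⟨226, 1, 1⟩] []) (cond (Nat.beq c 65) [⟨227, 1, 1⟩] []))))) (cond (Nat.blt c 94) (cond (Nat.blt c 81) (cond (Nat.blt c 72) (cond (Nat.blt c 69) (cond (Nat.beq c 66) [⟨228, -1, 1⟩] []) (cond (Nat.beq c 69) [⟨230, 1, 1⟩] [])) (cond (Nat.blt c 76) (cond (Nat.beq c 72) [⟨231, -1, 1⟩] []) (cond (Nat.beq c 76) [⟨232, 1, 1⟩] []))) (cond (Nat.blt c 88) (cond (Nat.blt c 87) (cond (Nat.beq c 81) [⟨233, -1, 1⟩] []) (cond (Nat.beq c 87) [⟨234, 1, 1⟩] [])) (cond (Nat.blt c 91) (cond (Nat.beq c 88) [⟨235, -1, 1⟩] []) (cond (Nat.beq c 91) [⟨237, 1, 1⟩] [])))) (cond (Nat.blt c 115) (cond (Nat.blt c 103) (cond (Nat.blt c 98) (cond (Nat.beq c 94) [⟨238, -1, 1⟩] []) (cond (Nat.beq c 98)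 [⟨239, 1, 1⟩] [])) (cond (Nat.blt c 109) (cond (Nat.beq c 103) [⟨240, -1, 1⟩] []) (cond (Nat.beq c 109) [⟨241, -1, 1⟩] []))) (cond (Nat.blt c 124) (cond (Nat.blt c 120) (cond (Nat.beq c 115) [⟨242, -1, 1⟩] []) (cond (Nat.beq c 120) [⟨243, -1, 1⟩] [])) (cond (Nat.blt c 129) (cond (Nat.beq c 124) [⟨244, -1, 1⟩] []) (cond (Nat.blt c 130) (cond (Nat.beq c 129) [⟨246, -1, 1⟩] []) (cond (Nat.beq c 130) [⟨247, -1, 1⟩] [])))))))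

/-- Compiled columns of `x_238` for type E8. -/
def colsE8_238 (c : ℕ) : List CEnt :=
  cond (Nat.blt c 35) (cond (Nat.blt c 16) (cond (Nat.blt c 8) (cond (Nat.blt c 4) (cond (Nat.blt c 2) (cond (Nat.blt c 1) (cond (Nat.beq c 0) [⟨246, 0, 1⟩] []) (cond (Nat.beq c 1) [⟨246, 0, 1⟩] [])) (cond (Nat.blt c 3) (cond (Nat.beq c 2) [⟨246, 0, 1⟩] []) (cond (Nat.beq c 3) [⟨246, 0, 1⟩] []))) (cond (Nat.blt c 6) (cond (Nat.blt c 5) (cond (Nat.beq c 4) [⟨246, 0, 1⟩] []) (cond (Nat.beq c 5) [⟨246, 0, 1⟩] [])) (cond (Nat.blt c 7) (cond (Nat.beq c 6) [⟨246, -1, 1⟩] []) (cond (Nat.beq c 7) [⟨246, 1, 1⟩] [])))) (cond (Nat.blt c 12) (cond (Nat.blt c 10) (cond (Nat.blt c 9) (cond (Nat.beq c 8) [⟨127, 1, 1⟩] []) (cond (Nat.beq c 9) [⟨246, -1, 2⟩, ⟨0, 2, 1⟩, ⟨1, 3, 1⟩, ⟨2, 4, 1⟩, ⟨3, 6, 1⟩, ⟨4, 5, 1⟩, ⟨5, 4,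 1⟩, ⟨6, 3, 1⟩, ⟨7, 1, 1⟩] [])) (cond (Nat.blt c 11) (cond (Nat.beq c 10) [⟨129, 1, 1⟩] []) (cond (Nat.beq c 11) [⟨132, 1, 1⟩] []))) (cond (Nat.blt c 14) (cond (Nat.blt c 13) (cond (Nat.beq c 12) [⟨136, 1, 1⟩] []) (cond (Nat.beq c 13) [⟨141, 1, 1⟩] [])) (cond (Nat.blt c 15) (cond (Nat.beq c 14) [⟨147, 1, 1⟩] []) (cond (Nat.beq c 15) [⟨153, 1, 1⟩] []))))) (cond (Nat.blt c 25) (cond (Nat.blt c 21) (cond (Nat.blt c 18) (cond (Nat.blt c 17) (cond (Nat.beq c 16) [⟨158, -1, 1⟩] []) (cond (Nat.beq c 17) [⟨162, 1, 1⟩] [])) (cond (Nat.blt c 19) (cond (Nat.beq c 18) [⟨165, -1, 1⟩] []) (cond (Nat.beq c 19) [⟨167, 1, 1⟩] []))) (cond (Nat.blt c 23) (cond (Nat.blt c 22) (cond (Nat.beq c 21) [⟨169, -1, 1⟩] []) (cond (Nat.beq c 22) [⟨175, 1, 1⟩] [])) (cond (Nat.blt c 24) (cond (Nat.beq c 23) [⟨180, -1, 1⟩]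 []) (cond (Nat.beq c 24) [⟨184, 1, 1⟩] [])))) (cond (Nat.blt c 30) (cond (Nat.blt c 28) (cond (Nat.blt c 26) (cond (Nat.beq c 25) [⟨187, -1, 1⟩] []) (cond (Nat.beq c 26) [⟨189, 1, 1⟩] [])) (cond (Nat.blt c 29) (cond (Nat.beq c 28) [⟨191, -1, 1⟩] []) (cond (Nat.beq c 29) [⟨194, -1, 1⟩] []))) (cond (Nat.blt c 33) (cond (Nat.blt c 31) (cond (Nat.beq c 30) [⟨197, 1, 1⟩] []) (cond (Nat.beq c 31) [⟨199, -1, 1⟩] [])) (cond (Nat.blt c 34) (cond (Nat.beq c 33) [⟨201, 1, 1⟩] []) (cond (Nat.beq c 34) [⟨203, -1, 1⟩] [])))))) (cond (Nat.blt c 66) (cond (Nat.blt c 48) (cond (Nat.blt c 42) (cond (Nat.blt c 38) (cond (Nat.blt c 37) (cond (Nat.beq c 35) [⟨205, 1, 1⟩] []) (cond (Nat.beq c 37) [⟨207, -1, 1⟩] [])) (cond (Nat.blt c 40) (cond (Nat.beq c 38) [⟨208, -1, 1⟩] []) (cond (Nat.beq c 40) [⟨210, 1, 1⟩]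 []))) (cond (Nat.blt c 45) (cond (Nat.blt c 44) (cond (Nat.beq c 42) [⟨211, -1, 1⟩] []) (cond (Nat.beq c 44) [⟨213, 1, 1⟩] [])) (cond (Nat.blt c 47) (cond (Nat.beq c 45) [⟨215, -1, 1⟩] []) (cond (Nat.beq c 47) [⟨217, 1, 1⟩] [])))) (cond (Nat.blt c 56) (cond (Nat.blt c 52) (cond (Nat.blt c 50) (cond (Nat.beq c 48) [⟨218, 1, 1⟩] []) (cond (Nat.beq c 50) [⟨220, -1, 1⟩] [])) (cond (Nat.blt c 54) (cond (Nat.beq c 52) [⟨221, 1, 1⟩] []) (cond (Nat.beq c 54) [⟨222, -1, 1⟩] []))) (cond (Nat.blt c 61) (cond (Nat.blt c 58) (cond (Nat.beq c 56) [⟨224, 1, 1⟩] []) (cond (Nat.beq c 58) [⟨225, -1, 1⟩] [])) (cond (Nat.blt c 64) (cond (Nat.beq c 61) [⟨226, 1, 1⟩] []) (cond (Nat.beq c 64) [⟨227, 1, 1⟩] []))))) (cond (Nat.blt c 93) (cond (Nat.blt c 80) (cond (Nat.blt c 71) (cond (Nat.blt c 68) (cond (Nat.beq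 c 66) [⟨229, -1, 1⟩] []) (cond (Nat.beq c 68) [⟨230, 1, 1⟩] [])) (cond (Nat.blt c 75) (cond (Nat.beq c 71) [⟨231, -1, 1⟩] []) (cond (Nat.beq c 75) [⟨232, 1, 1⟩] []))) (cond (Nat.blt c 88) (cond (Nat.blt c 86) (cond (Nat.beq c 80) [⟨233, -1, 1⟩] []) (cond (Nat.beq c 86) [⟨234, 1, 1⟩] [])) (cond (Nat.blt c 90) (cond (Nat.beq c 88) [⟨236, -1, 1⟩] []) (cond (Nat.beq c 90) [⟨237, 1, 1⟩] [])))) (cond (Nat.blt c 114) (cond (Nat.blt c 102) (cond (Nat.blt c 97) (cond (Nat.beq c 93) [⟨238, -1, 1⟩] []) (cond (Nat.beq c 97) [⟨239, 1, 1⟩] [])) (cond (Nat.blt c 108) (cond (Nat.beq c 102) [⟨240, -1, 1⟩] []) (cond (Nat.beq c 108) [⟨241, -1, 1⟩] []))) (cond (Nat.blt c 123) (cond (Nat.blt c 119) (cond (Nat.beq c 114) [⟨242, -1, 1⟩] []) (cond (Nat.beq c 119) [⟨243, -1, 1⟩] [])) (cond (Nat.blt c 126) (cond (Nat.beq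 c 123) [⟨244, -1, 1⟩] []) (cond (Nat.blt c 128) (cond (Nat.beq c 126) [⟨245, -1, 1⟩] []) (cond (Nat.beq c 128) [⟨247, -1, 1⟩] [])))))))

/-- Compiled columns of `x_239` for type E8. -/
def colsE8_239 (c : ℕ) : List CEnt :=
  cond (Nat.blt c 35) (cond (Nat.blt c 16) (cond (Nat.blt c 8) (cond (Nat.blt c 4) (cond (Nat.blt c 2) (cond (Nat.blt c 1) (cond (Nat.beq c 0) [⟨247, 0, 1⟩] []) (cond (Nat.beq c 1) [⟨247, 0, 1⟩] [])) (cond (Nat.blt c 3) (cond (Nat.beq c 2) [⟨247, 0, 1⟩] []) (cond (Nat.beq c 3) [⟨247, 0, 1⟩] []))) (cond (Nat.blt c 6) (cond (Nat.blt c 5) (cond (Nat.beq c 4) [⟨247, 0, 1⟩] []) (cond (Nat.beq c 5) [⟨247, 0, 1⟩] [])) (cond (Nat.blt c 7) (cond (Nat.beq c 6) [⟨247, 0, 1⟩] []) (cond (Nat.beq c 7) [⟨247, -1, 1⟩] [])))) (cond (Nat.blt c 12) (cond (Nat.blt c 10) (cond (Nat.blt c 9)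 (cond (Nat.beq c 8) [⟨247, -1, 2⟩, ⟨0, 2, 1⟩, ⟨1, 3, 1⟩, ⟨2, 4, 1⟩, ⟨3, 6, 1⟩, ⟨4, 5, 1⟩, ⟨5, 4, 1⟩, ⟨6, 3, 1⟩, ⟨7, 2, 1⟩] []) (cond (Nat.beq c 9) [⟨128, 1, 1⟩] [])) (cond (Nat.blt c 11) (cond (Nat.beq c 10) [⟨130, 1, 1⟩] []) (cond (Nat.beq c 11) [⟨133, 1, 1⟩] []))) (cond (Nat.blt c 14) (cond (Nat.blt c 13) (cond (Nat.beq c 12) [⟨137, 1, 1⟩] []) (cond (Nat.beq c 13) [⟨142, 1, 1⟩] [])) (cond (Nat.blt c 15) (cond (Nat.beq c 14) [⟨148, 1, 1⟩] []) (cond (Nat.beq c 15) [⟨154, 1, 1⟩] []))))) (cond (Nat.blt c 25) (cond (Nat.blt c 20) (cond (Nat.blt c 18) (cond (Nat.blt c 17) (cond (Nat.beq c 16) [⟨159, -1, 1⟩] []) (cond (Nat.beq c 17) [⟨163, 1, 1⟩] [])) (cond (Nat.blt c 19) (cond (Nat.beq c 18) [⟨166, -1, 1⟩] []) (cond (Nat.beq c 19) [⟨168, 1, 1⟩] []))) (cond (Nat.blt c 23) (cond (Nat.blt c 22)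 (cond (Nat.beq c 20) [⟨169, -1, 1⟩] []) (cond (Nat.beq c 22) [⟨176, 1, 1⟩] [])) (cond (Nat.blt c 24) (cond (Nat.beq c 23) [⟨181, -1, 1⟩] []) (cond (Nat.beq c 24) [⟨185, 1, 1⟩] [])))) (cond (Nat.blt c 30) (cond (Nat.blt c 27) (cond (Nat.blt c 26) (cond (Nat.beq c 25) [⟨188, -1, 1⟩] []) (cond (Nat.beq c 26) [⟨190, 1, 1⟩] [])) (cond (Nat.blt c 29) (cond (Nat.beq c 27) [⟨191, -1, 1⟩] []) (cond (Nat.beq c 29) [⟨195, -1, 1⟩] []))) (cond (Nat.blt c 32) (cond (Nat.blt c 31) (cond (Nat.beq c 30) [⟨198, 1, 1⟩] []) (cond (Nat.beq c 31) [⟨200, -1, 1⟩] [])) (cond (Nat.blt c 34) (cond (Nat.beq c 32) [⟨201, 1, 1⟩] []) (cond (Nat.beq c 34) [⟨204, -1, 1⟩] [])))))) (cond (Nat.blt c 65) (cond (Nat.blt c 48) (cond (Nat.blt c 41) (cond (Nat.blt c 38) (cond (Nat.blt c 36) (cond (Nat.beq c 35) [⟨206, 1, 1⟩] [])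 (cond (Nat.beq c 36) [⟨207, -1, 1⟩] [])) (cond (Nat.blt c 39) (cond (Nat.beq c 38) [⟨209, -1, 1⟩] []) (cond (Nat.beq c 39) [⟨210, 1, 1⟩] []))) (cond (Nat.blt c 45) (cond (Nat.blt c 44) (cond (Nat.beq c 41) [⟨211, -1, 1⟩] []) (cond (Nat.beq c 44) [⟨214, 1, 1⟩] [])) (cond (Nat.blt c 46) (cond (Nat.beq c 45) [⟨216, -1, 1⟩] []) (cond (Nat.beq c 46) [⟨217, 1, 1⟩] [])))) (cond (Nat.blt c 55) (cond (Nat.blt c 51) (cond (Nat.blt c 49) (cond (Nat.beq c 48) [⟨219, 1, 1⟩] []) (cond (Nat.beq c 49) [⟨220, -1, 1⟩] [])) (cond (Nat.blt c 54) (cond (Nat.beq c 51) [⟨221, 1, 1⟩] []) (cond (Nat.beq c 54) [⟨223, -1, 1⟩] []))) (cond (Nat.blt c 60) (cond (Nat.blt c 57) (cond (Nat.beq c 55) [⟨224, 1, 1⟩] []) (cond (Nat.beq c 57) [⟨225, -1, 1⟩] [])) (cond (Nat.blt c 64) (cond (Nat.beq c 60) [⟨226, 1, 1⟩] []) (cond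 (Nat.beq c 64) [⟨228, 1, 1⟩] []))))) (cond (Nat.blt c 92) (cond (Nat.blt c 79) (cond (Nat.blt c 70) (cond (Nat.blt c 67) (cond (Nat.beq c 65) [⟨229, -1, 1⟩] []) (cond (Nat.beq c 67) [⟨230, 1, 1⟩] [])) (cond (Nat.blt c 74) (cond (Nat.beq c 70) [⟨231, -1, 1⟩] []) (cond (Nat.beq c 74) [⟨232, 1, 1⟩] []))) (cond (Nat.blt c 87) (cond (Nat.blt c 86) (cond (Nat.beq c 79) [⟨233, -1, 1⟩] []) (cond (Nat.beq c 86) [⟨235, 1, 1⟩] [])) (cond (Nat.blt c 89) (cond (Nat.beq c 87) [⟨236, -1, 1⟩] []) (cond (Nat.beq c 89) [⟨237, 1, 1⟩] [])))) (cond (Nat.blt c 113) (cond (Nat.blt c 101) (cond (Nat.blt c 96) (cond (Nat.beq c 92) [⟨238, -1, 1⟩] []) (cond (Nat.beq c 96) [⟨239, 1, 1⟩] [])) (cond (Nat.blt c 107) (cond (Nat.beq c 101) [⟨240, -1, 1⟩] []) (cond (Nat.beq c 107) [⟨241, -1, 1⟩] []))) (cond (Nat.blt c 122)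 (cond (Nat.blt c 118) (cond (Nat.beq c 113) [⟨242, -1, 1⟩] []) (cond (Nat.beq c 118) [⟨243, -1, 1⟩] [])) (cond (Nat.blt c 125) (cond (Nat.beq c 122) [⟨244, -1, 1⟩] []) (cond (Nat.blt c 127) (cond (Nat.beq c 125) [⟨245, -1, 1⟩] []) (cond (Nat.beq c 127) [⟨246, -1, 1⟩] [])))))))

end Cfsg.Agent.Lib.Helper3.ChevM
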