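import Cfsg.Agent.Lib.Helper3.ChevData.E8ColsA
import Cfsg.Agent.Lib.Helper3.ChevData.E8ColsB
import Cfsg.Agent.Lib.Helper3.ChevData.E8ColsC
import Cfsg.Agent.Lib.Helper3.ChevData.E8ColsD
import Cfsg.Agent.Lib.Helper3.ChevData.E8ColsE
import Cfsg.Agent.Lib.Helper3.ChevData.E8ColsF
import Cfsg.Agent.Lib.Helper3.ChevData.E8ColsG
import Cfsg.Agent.Lib.Helper3.ChevData.E8ColsH
set_option autoImplicit false

namespace Cfsg.Agent.Lib.Helper3.ChevM

/-- Compiled columns of the root elements of type E8. -/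
def colsE8 (r c : ℕ) : List CEnt :=
  cond (Nat.blt r 120) (cond (Nat.blt r 60) (cond (Nat.blt r 30) (cond (Nat.blt r 15) (cond (Nat.blt r 7) (cond (Nat.blt r 3) (cond (Nat.blt r 1) (cond (Nat.beq r 0) (colsE8_0 c) []) (cond (Nat.blt r 2) (cond (Nat.beq r 1) (colsE8_1 c) []) (cond (Nat.beq r 2) (colsE8_2 c) []))) (cond (Nat.blt r 5) (cond (Nat.blt r 4) (cond (Nat.beq r 3) (colsE8_3 c) []) (cond (Nat.beq r 4) (colsE8_4 c) [])) (cond (Nat.blt r 6) (cond (Nat.beq r 5) (colsE8_5 c) []) (cond (Nat.beq r 6) (colsE8_6 c) [])))) (cond (Nat.blt r 11) (cond (Nat.blt r 9) (cond (Nat.blt r 8) (cond (Nat.beq r 7) (colsE8_7 c) []) (cond (Nat.beq r 8) (colsE8_8 c) [])) (cond (Nat.blt r 10) (cond (Nat.beq r 9) (colsE8_9 c) []) (cond (Nat.beq r 10) (colsE8_10 c) []))) (cond (Nat.blt r 13) (cond (Nat.blt r 12) (cond (Nat.beq r 11) (colsE8_11 c) []) (cond (Nat.beq r 12) (colsE8_12 c) [])) (cond (Nat.blt r 14) (cond (Nat.beq r 13) (colsE8_13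 c) []) (cond (Nat.beq r 14) (colsE8_14 c) []))))) (cond (Nat.blt r 22) (cond (Nat.blt r 18) (cond (Nat.blt r 16) (cond (Nat.beq r 15) (colsE8_15 c) []) (cond (Nat.blt r 17) (cond (Nat.beq r 16) (colsE8_16 c) []) (cond (Nat.beq r 17) (colsE8_17 c) []))) (cond (Nat.blt r 20) (cond (Nat.blt r 19) (cond (Nat.beq r 18) (colsE8_18 c) []) (cond (Nat.beq r 19) (colsE8_19 c) [])) (cond (Nat.blt r 21) (cond (Nat.beq r 20) (colsE8_20 c) []) (cond (Nat.beq r 21) (colsE8_21 c) [])))) (cond (Nat.blt r 26) (cond (Nat.blt r 24) (cond (Nat.blt r 23) (cond (Nat.beq r 22) (colsE8_22 c) []) (cond (Nat.beq r 23) (colsE8_23 c) [])) (cond (Nat.blt r 25) (cond (Nat.beq r 24) (colsE8_24 c) []) (cond (Nat.beq r 25) (colsE8_25 c) []))) (cond (Nat.blt r 28) (cond (Nat.blt r 27) (cond (Nat.beq r 26) (colsE8_26 c) []) (cond (Nat.beq r 27) (colsE8_27 c) [])) (cond (Nat.blt r 29) (cond (Nat.beq r 28) (colsE8_28 c) []) (cond (Nat.beq r 29) (colsE8_29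 c) [])))))) (cond (Nat.blt r 45) (cond (Nat.blt r 37) (cond (Nat.blt r 33) (cond (Nat.blt r 31) (cond (Nat.beq r 30) (colsE8_30 c) []) (cond (Nat.blt r 32) (cond (Nat.beq r 31) (colsE8_31 c) []) (cond (Nat.beq r 32) (colsE8_32 c) []))) (cond (Nat.blt r 35) (cond (Nat.blt r 34) (cond (Nat.beq r 33) (colsE8_33 c) []) (cond (Nat.beq r 34) (colsE8_34 c) [])) (cond (Nat.blt r 36) (cond (Nat.beq r 35) (colsE8_35 c) []) (cond (Nat.beq r 36) (colsE8_36 c) [])))) (cond (Nat.blt r 41) (cond (Nat.blt r 39) (cond (Nat.blt r 38) (cond (Nat.beq r 37) (colsE8_37 c) []) (cond (Nat.beq r 38) (colsE8_38 c) [])) (cond (Nat.blt r 40) (cond (Nat.beq r 39) (colsE8_39 c) []) (cond (Nat.beq r 40) (colsE8_40 c) []))) (cond (Nat.blt r 43) (cond (Nat.blt r 42) (cond (Nat.beq r 41) (colsE8_41 c) []) (cond (Nat.beq r 42) (colsE8_42 c) [])) (cond (Nat.blt r 44) (cond (Nat.beq r 43) (colsE8_43 c) []) (cond (Nat.beq r 44) (colsE8_44 c) [])))))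 (cond (Nat.blt r 52) (cond (Nat.blt r 48) (cond (Nat.blt r 46) (cond (Nat.beq r 45) (colsE8_45 c) []) (cond (Nat.blt r 47) (cond (Nat.beq r 46) (colsE8_46 c) []) (cond (Nat.beq r 47) (colsE8_47 c) []))) (cond (Nat.blt r 50) (cond (Nat.blt r 49) (cond (Nat.beq r 48) (colsE8_48 c) []) (cond (Nat.beq r 49) (colsE8_49 c) [])) (cond (Nat.blt r 51) (cond (Nat.beq r 50) (colsE8_50 c) []) (cond (Nat.beq r 51) (colsE8_51 c) [])))) (cond (Nat.blt r 56) (cond (Nat.blt r 54) (cond (Nat.blt r 53) (cond (Nat.beq r 52) (colsE8_52 c) []) (cond (Nat.beq r 53) (colsE8_53 c) [])) (cond (Nat.blt r 55) (cond (Nat.beq r 54) (colsE8_54 c) []) (cond (Nat.beq r 55) (colsE8_55 c) []))) (cond (Nat.blt r 58) (cond (Nat.blt r 57) (cond (Nat.beq r 56) (colsE8_56 c) []) (cond (Nat.beq r 57) (colsE8_57 c) [])) (cond (Nat.blt r 59) (cond (Nat.beq r 58) (colsE8_58 c) []) (cond (Nat.beq r 59) (colsE8_59 c) []))))))) (cond (Nat.blt r 90) (cond (Nat.blt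 r 75) (cond (Nat.blt r 67) (cond (Nat.blt r 63) (cond (Nat.blt r 61) (cond (Nat.beq r 60) (colsE8_60 c) []) (cond (Nat.blt r 62) (cond (Nat.beq r 61) (colsE8_61 c) []) (cond (Nat.beq r 62) (colsE8_62 c) []))) (cond (Nat.blt r 65) (cond (Nat.blt r 64) (cond (Nat.beq r 63) (colsE8_63 c) []) (cond (Nat.beq r 64) (colsE8_64 c) [])) (cond (Nat.blt r 66) (cond (Nat.beq r 65) (colsE8_65 c) []) (cond (Nat.beq r 66) (colsE8_66 c) [])))) (cond (Nat.blt r 71) (cond (Nat.blt r 69) (cond (Nat.blt r 68) (cond (Nat.beq r 67) (colsE8_67 c) []) (cond (Nat.beq r 68) (colsE8_68 c) [])) (cond (Nat.blt r 70) (cond (Nat.beq r 69) (colsE8_69 c) []) (cond (Nat.beq r 70) (colsE8_70 c) []))) (cond (Nat.blt r 73) (cond (Nat.blt r 72) (cond (Nat.beq r 71) (colsE8_71 c) []) (cond (Nat.beq r 72) (colsE8_72 c) [])) (cond (Nat.blt r 74) (cond (Nat.beq r 73) (colsE8_73 c) []) (cond (Nat.beq r 74) (colsE8_74 c) []))))) (cond (Nat.blt r 82) (cond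 (Nat.blt r 78) (cond (Nat.blt r 76) (cond (Nat.beq r 75) (colsE8_75 c) []) (cond (Nat.blt r 77) (cond (Nat.beq r 76) (colsE8_76 c) []) (cond (Nat.beq r 77) (colsE8_77 c) []))) (cond (Nat.blt r 80) (cond (Nat.blt r 79) (cond (Nat.beq r 78) (colsE8_78 c) []) (cond (Nat.beq r 79) (colsE8_79 c) [])) (cond (Nat.blt r 81) (cond (Nat.beq r 80) (colsE8_80 c) []) (cond (Nat.beq r 81) (colsE8_81 c) [])))) (cond (Nat.blt r 86) (cond (Nat.blt r 84) (cond (Nat.blt r 83) (cond (Nat.beq r 82) (colsE8_82 c) []) (cond (Nat.beq r 83) (colsE8_83 c) [])) (cond (Nat.blt r 85) (cond (Nat.beq r 84) (colsE8_84 c) []) (cond (Nat.beq r 85) (colsE8_85 c) []))) (cond (Nat.blt r 88) (cond (Nat.blt r 87) (cond (Nat.beq r 86) (colsE8_86 c) []) (cond (Nat.beq r 87) (colsE8_87 c) [])) (cond (Nat.blt r 89) (cond (Nat.beq r 88) (colsE8_88 c) []) (cond (Nat.beq r 89) (colsE8_89 c) [])))))) (cond (Nat.blt r 105) (cond (Nat.blt r 97) (cond (Nat.blt r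 93) (cond (Nat.blt r 91) (cond (Nat.beq r 90) (colsE8_90 c) []) (cond (Nat.blt r 92) (cond (Nat.beq r 91) (colsE8_91 c) []) (cond (Nat.beq r 92) (colsE8_92 c) []))) (cond (Nat.blt r 95) (cond (Nat.blt r 94) (cond (Nat.beq r 93) (colsE8_93 c) []) (cond (Nat.beq r 94) (colsE8_94 c) [])) (cond (Nat.blt r 96) (cond (Nat.beq r 95) (colsE8_95 c) []) (cond (Nat.beq r 96) (colsE8_96 c) [])))) (cond (Nat.blt r 101) (cond (Nat.blt r 99) (cond (Nat.blt r 98) (cond (Nat.beq r 97) (colsE8_97 c) []) (cond (Nat.beq r 98) (colsE8_98 c) [])) (cond (Nat.blt r 100) (cond (Nat.beq r 99) (colsE8_99 c) []) (cond (Nat.beq r 100) (colsE8_100 c) []))) (cond (Nat.blt r 103) (cond (Nat.blt r 102) (cond (Nat.beq r 101) (colsE8_101 c) []) (cond (Nat.beq r 102) (colsE8_102 c) [])) (cond (Nat.blt r 104) (cond (Nat.beq r 103) (colsE8_103 c) []) (cond (Nat.beq r 104) (colsE8_104 c) []))))) (cond (Nat.blt r 112) (cond (Nat.blt r 108) (cond (Nat.blt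 r 106) (cond (Nat.beq r 105) (colsE8_105 c) []) (cond (Nat.blt r 107) (cond (Nat.beq r 106) (colsE8_106 c) []) (cond (Nat.beq r 107) (colsE8_107 c) []))) (cond (Nat.blt r 110) (cond (Nat.blt r 109) (cond (Nat.beq r 108) (colsE8_108 c) []) (cond (Nat.beq r 109) (colsE8_109 c) [])) (cond (Nat.blt r 111) (cond (Nat.beq r 110) (colsE8_110 c) []) (cond (Nat.beq r 111) (colsE8_111 c) [])))) (cond (Nat.blt r 116) (cond (Nat.blt r 114) (cond (Nat.blt r 113) (cond (Nat.beq r 112) (colsE8_112 c) []) (cond (Nat.beq r 113) (colsE8_113 c) [])) (cond (Nat.blt r 115) (cond (Nat.beq r 114) (colsE8_114 c) []) (cond (Nat.beq r 115) (colsE8_115 c) []))) (cond (Nat.blt r 118) (cond (Nat.blt r 117) (cond (Nat.beq r 116) (colsE8_116 c) []) (cond (Nat.beq r 117) (colsE8_117 c) [])) (cond (Nat.blt r 119) (cond (Nat.beq r 118) (colsE8_118 c) []) (cond (Nat.beq r 119) (colsE8_119 c) [])))))))) (cond (Nat.blt r 180) (cond (Nat.blt r 150) (cond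 (Nat.blt r 135) (cond (Nat.blt r 127) (cond (Nat.blt r 123) (cond (Nat.blt r 121) (cond (Nat.beq r 120) (colsE8_120 c) []) (cond (Nat.blt r 122) (cond (Nat.beq r 121) (colsE8_121 c) []) (cond (Nat.beq r 122) (colsE8_122 c) []))) (cond (Nat.blt r 125) (cond (Nat.blt r 124) (cond (Nat.beq r 123) (colsE8_123 c) []) (cond (Nat.beq r 124) (colsE8_124 c) [])) (cond (Nat.blt r 126) (cond (Nat.beq r 125) (colsE8_125 c) []) (cond (Nat.beq r 126) (colsE8_126 c) [])))) (cond (Nat.blt r 131) (cond (Nat.blt r 129) (cond (Nat.blt r 128) (cond (Nat.beq r 127) (colsE8_127 c) []) (cond (Nat.beq r 128) (colsE8_128 c) [])) (cond (Nat.blt r 130) (cond (Nat.beq r 129) (colsE8_129 c) []) (cond (Nat.beq r 130) (colsE8_130 c) []))) (cond (Nat.blt r 133) (cond (Nat.blt r 132) (cond (Nat.beq r 131) (colsE8_131 c) []) (cond (Nat.beq r 132) (colsE8_132 c) [])) (cond (Nat.blt r 134) (cond (Nat.beq r 133) (colsE8_133 c) []) (cond (Nat.beq r 134)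 (colsE8_134 c) []))))) (cond (Nat.blt r 142) (cond (Nat.blt r 138) (cond (Nat.blt r 136) (cond (Nat.beq r 135) (colsE8_135 c) []) (cond (Nat.blt r 137) (cond (Nat.beq r 136) (colsE8_136 c) []) (cond (Nat.beq r 137) (colsE8_137 c) []))) (cond (Nat.blt r 140) (cond (Nat.blt r 139) (cond (Nat.beq r 138) (colsE8_138 c) []) (cond (Nat.beq r 139) (colsE8_139 c) [])) (cond (Nat.blt r 141) (cond (Nat.beq r 140) (colsE8_140 c) []) (cond (Nat.beq r 141) (colsE8_141 c) [])))) (cond (Nat.blt r 146) (cond (Nat.blt r 144) (cond (Nat.blt r 143) (cond (Nat.beq r 142) (colsE8_142 c) []) (cond (Nat.beq r 143) (colsE8_143 c) [])) (cond (Nat.blt r 145) (cond (Nat.beq r 144) (colsE8_144 c) []) (cond (Nat.beq r 145) (colsE8_145 c) []))) (cond (Nat.blt r 148) (cond (Nat.blt r 147) (cond (Nat.beq r 146) (colsE8_146 c) []) (cond (Nat.beq r 147) (colsE8_147 c) [])) (cond (Nat.blt r 149) (cond (Nat.beq r 148) (colsE8_148 c) []) (cond (Nat.beq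 r 149) (colsE8_149 c) [])))))) (cond (Nat.blt r 165) (cond (Nat.blt r 157) (cond (Nat.blt r 153) (cond (Nat.blt r 151) (cond (Nat.beq r 150) (colsE8_150 c) []) (cond (Nat.blt r 152) (cond (Nat.beq r 151) (colsE8_151 c) []) (cond (Nat.beq r 152) (colsE8_152 c) []))) (cond (Nat.blt r 155) (cond (Nat.blt r 154) (cond (Nat.beq r 153) (colsE8_153 c) []) (cond (Nat.beq r 154) (colsE8_154 c) [])) (cond (Nat.blt r 156) (cond (Nat.beq r 155) (colsE8_155 c) []) (cond (Nat.beq r 156) (colsE8_156 c) [])))) (cond (Nat.blt r 161) (cond (Nat.blt r 159) (cond (Nat.blt r 158) (cond (Nat.beq r 157) (colsE8_157 c) []) (cond (Nat.beq r 158) (colsE8_158 c) [])) (cond (Nat.blt r 160) (cond (Nat.beq r 159) (colsE8_159 c) []) (cond (Nat.beq r 160) (colsE8_160 c) []))) (cond (Nat.blt r 163) (cond (Nat.blt r 162) (cond (Nat.beq r 161) (colsE8_161 c) []) (cond (Nat.beq r 162) (colsE8_162 c) [])) (cond (Nat.blt r 164) (cond (Nat.beq r 163)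 (colsE8_163 c) []) (cond (Nat.beq r 164) (colsE8_164 c) []))))) (cond (Nat.blt r 172) (cond (Nat.blt r 168) (cond (Nat.blt r 166) (cond (Nat.beq r 165) (colsE8_165 c) []) (cond (Nat.blt r 167) (cond (Nat.beq r 166) (colsE8_166 c) []) (cond (Nat.beq r 167) (colsE8_167 c) []))) (cond (Nat.blt r 170) (cond (Nat.blt r 169) (cond (Nat.beq r 168) (colsE8_168 c) []) (cond (Nat.beq r 169) (colsE8_169 c) [])) (cond (Nat.blt r 171) (cond (Nat.beq r 170) (colsE8_170 c) []) (cond (Nat.beq r 171) (colsE8_171 c) [])))) (cond (Nat.blt r 176) (cond (Nat.blt r 174) (cond (Nat.blt r 173) (cond (Nat.beq r 172) (colsE8_172 c) []) (cond (Nat.beq r 173) (colsE8_173 c) [])) (cond (Nat.blt r 175) (cond (Nat.beq r 174) (colsE8_174 c) []) (cond (Nat.beq r 175) (colsE8_175 c) []))) (cond (Nat.blt r 178) (cond (Nat.blt r 177) (cond (Nat.beq r 176) (colsE8_176 c) []) (cond (Nat.beq r 177) (colsE8_177 c) [])) (cond (Nat.blt r 179) (cond (Nat.beq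 r 178) (colsE8_178 c) []) (cond (Nat.beq r 179) (colsE8_179 c) []))))))) (cond (Nat.blt r 210) (cond (Nat.blt r 195) (cond (Nat.blt r 187) (cond (Nat.blt r 183) (cond (Nat.blt r 181) (cond (Nat.beq r 180) (colsE8_180 c) []) (cond (Nat.blt r 182) (cond (Nat.beq r 181) (colsE8_181 c) []) (cond (Nat.beq r 182) (colsE8_182 c) []))) (cond (Nat.blt r 185) (cond (Nat.blt r 184) (cond (Nat.beq r 183) (colsE8_183 c) []) (cond (Nat.beq r 184) (colsE8_184 c) [])) (cond (Nat.blt r 186) (cond (Nat.beq r 185) (colsE8_185 c) []) (cond (Nat.beq r 186) (colsE8_186 c) [])))) (cond (Nat.blt r 191) (cond (Nat.blt r 189) (cond (Nat.blt r 188) (cond (Nat.beq r 187) (colsE8_187 c) []) (cond (Nat.beq r 188) (colsE8_188 c) [])) (cond (Nat.blt r 190) (cond (Nat.beq r 189) (colsE8_189 c) []) (cond (Nat.beq r 190) (colsE8_190 c) []))) (cond (Nat.blt r 193) (cond (Nat.blt r 192) (cond (Nat.beq r 191) (colsE8_191 c) []) (cond (Nat.beq r 192)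 (colsE8_192 c) [])) (cond (Nat.blt r 194) (cond (Nat.beq r 193) (colsE8_193 c) []) (cond (Nat.beq r 194) (colsE8_194 c) []))))) (cond (Nat.blt r 202) (cond (Nat.blt r 198) (cond (Nat.blt r 196) (cond (Nat.beq r 195) (colsE8_195 c) []) (cond (Nat.blt r 197) (cond (Nat.beq r 196) (colsE8_196 c) []) (cond (Nat.beq r 197) (colsE8_197 c) []))) (cond (Nat.blt r 200) (cond (Nat.blt r 199) (cond (Nat.beq r 198) (colsE8_198 c) []) (cond (Nat.beq r 199) (colsE8_199 c) [])) (cond (Nat.blt r 201) (cond (Nat.beq r 200) (colsE8_200 c) []) (cond (Nat.beq r 201) (colsE8_201 c) [])))) (cond (Nat.blt r 206) (cond (Nat.blt r 204) (cond (Nat.blt r 203) (cond (Nat.beq r 202) (colsE8_202 c) []) (cond (Nat.beq r 203) (colsE8_203 c) [])) (cond (Nat.blt r 205) (cond (Nat.beq r 204) (colsE8_204 c) []) (cond (Nat.beq r 205) (colsE8_205 c) []))) (cond (Nat.blt r 208) (cond (Nat.blt r 207) (cond (Nat.beq r 206) (colsE8_206 c) []) (cond (Nat.beq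 r 207) (colsE8_207 c) [])) (cond (Nat.blt r 209) (cond (Nat.beq r 208) (colsE8_208 c) []) (cond (Nat.beq r 209) (colsE8_209 c) [])))))) (cond (Nat.blt r 225) (cond (Nat.blt r 217) (cond (Nat.blt r 213) (cond (Nat.blt r 211) (cond (Nat.beq r 210) (colsE8_210 c) []) (cond (Nat.blt r 212) (cond (Nat.beq r 211) (colsE8_211 c) []) (cond (Nat.beq r 212) (colsE8_212 c) []))) (cond (Nat.blt r 215) (cond (Nat.blt r 214) (cond (Nat.beq r 213) (colsE8_213 c) []) (cond (Nat.beq r 214) (colsE8_214 c) [])) (cond (Nat.blt r 216) (cond (Nat.beq r 215) (colsE8_215 c) []) (cond (Nat.beq r 216) (colsE8_216 c) [])))) (cond (Nat.blt r 221) (cond (Nat.blt r 219) (cond (Nat.blt r 218) (cond (Nat.beq r 217) (colsE8_217 c) []) (cond (Nat.beq r 218) (colsE8_218 c) [])) (cond (Nat.blt r 220) (cond (Nat.beq r 219) (colsE8_219 c) []) (cond (Nat.beq r 220) (colsE8_220 c) []))) (cond (Nat.blt r 223) (cond (Nat.blt r 222) (cond (Nat.beq r 221)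 (colsE8_221 c) []) (cond (Nat.beq r 222) (colsE8_222 c) [])) (cond (Nat.blt r 224) (cond (Nat.beq r 223) (colsE8_223 c) []) (cond (Nat.beq r 224) (colsE8_224 c) []))))) (cond (Nat.blt r 232) (cond (Nat.blt r 228) (cond (Nat.blt r 226) (cond (Nat.beq r 225) (colsE8_225 c) []) (cond (Nat.blt r 227) (cond (Nat.beq r 226) (colsE8_226 c) []) (cond (Nat.beq r 227) (colsE8_227 c) []))) (cond (Nat.blt r 230) (cond (Nat.blt r 229) (cond (Nat.beq r 228) (colsE8_228 c) []) (cond (Nat.beq r 229) (colsE8_229 c) [])) (cond (Nat.blt r 231) (cond (Nat.beq r 230) (colsE8_230 c) []) (cond (Nat.beq r 231) (colsE8_231 c) [])))) (cond (Nat.blt r 236) (cond (Nat.blt r 234) (cond (Nat.blt r 233) (cond (Nat.beq r 232) (colsE8_232 c) []) (cond (Nat.beq r 233) (colsE8_233 c) [])) (cond (Nat.blt r 235) (cond (Nat.beq r 234) (colsE8_234 c) []) (cond (Nat.beq r 235) (colsE8_235 c) []))) (cond (Nat.blt r 238) (cond (Nat.blt r 237) (cond (Nat.beq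 r 236) (colsE8_236 c) []) (cond (Nat.beq r 237) (colsE8_237 c) [])) (cond (Nat.blt r 239) (cond (Nat.beq r 238) (colsE8_238 c) []) (cond (Nat.beq r 239) (colsE8_239 c) []))))))))

end Cfsg.Agent.Lib.Helper3.ChevM
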