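import Cfsg.Agent.Lib.Helper3.ChevM2
set_option autoImplicit false
set_option maxRecDepth 100000

namespace Cfsg.Agent.Lib.Helper3.ChevM

/-- Compiled columns of `x_0` for type E8. -/
def colsE8_0 (c : ℕ) : List CEnt :=
  cond (Nat.blt c 207) (cond (Nat.blt c 163) (cond (Nat.blt c 128) (cond (Nat.blt c 4) (cond (Nat.blt c 2) (cond (Nat.blt c 1) (cond (Nat.beq c 0) [⟨8, 0, 1⟩] []) (cond (Nat.beq c 1) [⟨8, 0, 1⟩] [])) (cond (Nat.blt c 3) (cond (Nat.beq c 2) [⟨8, 0, 1⟩] []) (cond (Nat.beq c 3) [⟨8, 0, 1⟩] []))) (cond (Nat.blt c 6) (cond (Nat.blt c 5) (cond (Nat.beq c 4) [⟨8, 0, 1⟩] []) (cond (Nat.beq c 5) [⟨8, 0, 1⟩] [])) (cond (Nat.blt c 7) (cond (Nat.beq c 6) [⟨8, 0, 1⟩] []) (cond (Nat.beq c 7) [⟨8, 1, 1⟩] [])))) (cond (Nat.blt c 142) (cond (Nat.blt c 133) (cond (Nat.blt c 130) (cond (Nat.beq c 128)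 [⟨9, 1, 1⟩] []) (cond (Nat.beq c 130) [⟨10, 1, 1⟩] [])) (cond (Nat.blt c 137) (cond (Nat.beq c 133) [⟨11, 1, 1⟩] []) (cond (Nat.beq c 137) [⟨12, 1, 1⟩] []))) (cond (Nat.blt c 154) (cond (Nat.blt c 148) (cond (Nat.beq c 142) [⟨13, 1, 1⟩] []) (cond (Nat.beq c 148) [⟨14, 1, 1⟩] [])) (cond (Nat.blt c 159) (cond (Nat.beq c 154) [⟨15, 1, 1⟩] []) (cond (Nat.beq c 159) [⟨16, -1, 1⟩] []))))) (cond (Nat.blt c 190) (cond (Nat.blt c 176) (cond (Nat.blt c 168) (cond (Nat.blt c 166) (cond (Nat.beq c 163) [⟨17, 1, 1⟩] []) (cond (Nat.beq c 166) [⟨18, -1, 1⟩] [])) (cond (Nat.blt c 169) (cond (Nat.beq c 168) [⟨19, 1, 1⟩] []) (cond (Nat.beq c 169) [⟨20, -1, 1⟩] []))) (cond (Nat.blt c 185) (cond (Nat.blt c 181) (cond (Nat.beq c 176) [⟨22, 1, 1⟩] []) (cond (Nat.beq c 181) [⟨23, -1, 1⟩] [])) (cond (Nat.blt c 188) (cond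 (Nat.beq c 185) [⟨24, 1, 1⟩] []) (cond (Nat.beq c 188) [⟨25, -1, 1⟩] [])))) (cond (Nat.blt c 200) (cond (Nat.blt c 195) (cond (Nat.blt c 191) (cond (Nat.beq c 190) [⟨26, 1, 1⟩] []) (cond (Nat.beq c 191) [⟨27, -1, 1⟩] [])) (cond (Nat.blt c 198) (cond (Nat.beq c 195) [⟨29, -1, 1⟩] []) (cond (Nat.beq c 198) [⟨30, 1, 1⟩] []))) (cond (Nat.blt c 204) (cond (Nat.blt c 201) (cond (Nat.beq c 200) [⟨31, -1, 1⟩] []) (cond (Nat.beq c 201) [⟨32, 1, 1⟩] [])) (cond (Nat.blt c 206) (cond (Nat.beq c 204) [⟨34, -1, 1⟩] []) (cond (Nat.beq c 206) [⟨35, 1, 1⟩] [])))))) (cond (Nat.blt c 230) (cond (Nat.blt c 220) (cond (Nat.blt c 214) (cond (Nat.blt c 210) (cond (Nat.blt c 209) (cond (Nat.beq c 207) [⟨36, -1, 1⟩] []) (cond (Nat.beq c 209) [⟨38, -1, 1⟩] [])) (cond (Nat.blt c 211) (cond (Nat.beq c 210) [⟨39, 1, 1⟩] [])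 (cond (Nat.beq c 211) [⟨41, -1, 1⟩] []))) (cond (Nat.blt c 217) (cond (Nat.blt c 216) (cond (Nat.beq c 214) [⟨44, 1, 1⟩] []) (cond (Nat.beq c 216) [⟨45, -1, 1⟩] [])) (cond (Nat.blt c 219) (cond (Nat.beq c 217) [⟨46, 1, 1⟩] []) (cond (Nat.beq c 219) [⟨48, 1, 1⟩] [])))) (cond (Nat.blt c 225) (cond (Nat.blt c 223) (cond (Nat.blt c 221) (cond (Nat.beq c 220) [⟨49, -1, 1⟩] []) (cond (Nat.beq c 221) [⟨51, 1, 1⟩] [])) (cond (Nat.blt c 224) (cond (Nat.beq c 223) [⟨54, -1, 1⟩] []) (cond (Nat.beq c 224) [⟨55, 1, 1⟩] []))) (cond (Nat.blt c 228) (cond (Nat.blt c 226) (cond (Nat.beq c 225) [⟨57, -1, 1⟩] []) (cond (Nat.beq c 226) [⟨60, 1, 1⟩] [])) (cond (Nat.blt c 229) (cond (Nat.beq c 228) [⟨64, 1, 1⟩] []) (cond (Nat.beq c 229) [⟨65, -1, 1⟩] []))))) (cond (Nat.blt c 239) (cond (Nat.blt c 235) (cond (Nat.blt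 c 232) (cond (Nat.blt c 231) (cond (Nat.beq c 230) [⟨67, 1, 1⟩] []) (cond (Nat.beq c 231) [⟨70, -1, 1⟩] [])) (cond (Nat.blt c 233) (cond (Nat.beq c 232) [⟨74, 1, 1⟩] []) (cond (Nat.beq c 233) [⟨79, -1, 1⟩] []))) (cond (Nat.blt c 237) (cond (Nat.blt c 236) (cond (Nat.beq c 235) [⟨86, 1, 1⟩] []) (cond (Nat.beq c 236) [⟨87, -1, 1⟩] [])) (cond (Nat.blt c 238) (cond (Nat.beq c 237) [⟨89, 1, 1⟩] []) (cond (Nat.beq c 238) [⟨92, -1, 1⟩] [])))) (cond (Nat.blt c 243) (cond (Nat.blt c 241) (cond (Nat.blt c 240) (cond (Nat.beq c 239) [⟨96, 1, 1⟩] []) (cond (Nat.beq c 240) [⟨101, -1, 1⟩] [])) (cond (Nat.blt c 242) (cond (Nat.beq c 241) [⟨107, -1, 1⟩] []) (cond (Nat.beq c 242) [⟨113, -1, 1⟩] []))) (cond (Nat.blt c 245) (cond (Nat.blt c 244) (cond (Nat.beq c 243) [⟨118, -1, 1⟩] []) (cond (Nat.beq c 244) [⟨122,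 -1, 1⟩] [])) (cond (Nat.blt c 246) (cond (Nat.beq c 245) [⟨125, -1, 1⟩] []) (cond (Nat.blt c 247) (cond (Nat.beq c 246) [⟨127, -1, 1⟩] []) (cond (Nat.beq c 247) [⟨8, -1, 2⟩, ⟨0, -2, 1⟩, ⟨1, -3, 1⟩, ⟨2, -4, 1⟩, ⟨3, -6, 1⟩, ⟨4, -5, 1⟩, ⟨5, -4, 1⟩, ⟨6, -3, 1⟩, ⟨7, -2, 1⟩] [])))))))

/-- Compiled columns of `x_1` for type E8. -/
def colsE8_1 (c : ℕ) : List CEnt :=
  cond (Nat.blt c 207) (cond (Nat.blt c 162) (cond (Nat.blt c 127) (cond (Nat.blt c 4) (cond (Nat.blt c 2) (cond (Nat.blt c 1) (cond (Nat.beq c 0) [⟨9, 0, 1⟩] []) (cond (Nat.beq c 1) [⟨9, 0, 1⟩] [])) (cond (Nat.blt c 3) (cond (Nat.beq c 2) [⟨9, 0, 1⟩] []) (cond (Nat.beq c 3) [⟨9, 0, 1⟩] []))) (cond (Nat.blt c 6) (cond (Nat.blt c 5) (cond (Nat.beq c 4) [⟨9, 0, 1⟩] []) (cond (Nat.beq c 5) [⟨9, 0, 1⟩] [])) (cond (Nat.blt c 7) (cond (Nat.beq c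 6) [⟨9, 1, 1⟩] []) (cond (Nat.beq c 7) [⟨9, -1, 1⟩] [])))) (cond (Nat.blt c 141) (cond (Nat.blt c 132) (cond (Nat.blt c 129) (cond (Nat.beq c 127) [⟨8, 1, 1⟩] []) (cond (Nat.beq c 129) [⟨10, 1, 1⟩] [])) (cond (Nat.blt c 136) (cond (Nat.beq c 132) [⟨11, 1, 1⟩] []) (cond (Nat.beq c 136) [⟨12, 1, 1⟩] []))) (cond (Nat.blt c 153) (cond (Nat.blt c 147) (cond (Nat.beq c 141) [⟨13, 1, 1⟩] []) (cond (Nat.beq c 147) [⟨14, 1, 1⟩] [])) (cond (Nat.blt c 158) (cond (Nat.beq c 153) [⟨15, 1, 1⟩] []) (cond (Nat.beq c 158) [⟨16, -1, 1⟩] []))))) (cond (Nat.blt c 189) (cond (Nat.blt c 175) (cond (Nat.blt c 167) (cond (Nat.blt c 165) (cond (Nat.beq c 162) [⟨17, 1, 1⟩] []) (cond (Nat.beq c 165) [⟨18, -1, 1⟩] [])) (cond (Nat.blt c 169) (cond (Nat.beq c 167) [⟨19, 1, 1⟩] []) (cond (Nat.beq c 169) [⟨21, -1, 1⟩] []))) (cond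 (Nat.blt c 184) (cond (Nat.blt c 180) (cond (Nat.beq c 175) [⟨22, 1, 1⟩] []) (cond (Nat.beq c 180) [⟨23, -1, 1⟩] [])) (cond (Nat.blt c 187) (cond (Nat.beq c 184) [⟨24, 1, 1⟩] []) (cond (Nat.beq c 187) [⟨25, -1, 1⟩] [])))) (cond (Nat.blt c 199) (cond (Nat.blt c 194) (cond (Nat.blt c 191) (cond (Nat.beq c 189) [⟨26, 1, 1⟩] []) (cond (Nat.beq c 191) [⟨28, -1, 1⟩] [])) (cond (Nat.blt c 197) (cond (Nat.beq c 194) [⟨29, -1, 1⟩] []) (cond (Nat.beq c 197) [⟨30, 1, 1⟩] []))) (cond (Nat.blt c 203) (cond (Nat.blt c 201) (cond (Nat.beq c 199) [⟨31, -1, 1⟩] []) (cond (Nat.beq c 201) [⟨33, 1, 1⟩] [])) (cond (Nat.blt c 205) (cond (Nat.beq c 203) [⟨34, -1, 1⟩] []) (cond (Nat.beq c 205) [⟨35, 1, 1⟩] [])))))) (cond (Nat.blt c 230) (cond (Nat.blt c 220) (cond (Nat.blt c 213) (cond (Nat.blt c 210) (cond (Nat.blt c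 208) (cond (Nat.beq c 207) [⟨37, -1, 1⟩] []) (cond (Nat.beq c 208) [⟨38, -1, 1⟩] [])) (cond (Nat.blt c 211) (cond (Nat.beq c 210) [⟨40, 1, 1⟩] []) (cond (Nat.beq c 211) [⟨42, -1, 1⟩] []))) (cond (Nat.blt c 217) (cond (Nat.blt c 215) (cond (Nat.beq c 213) [⟨44, 1, 1⟩] []) (cond (Nat.beq c 215) [⟨45, -1, 1⟩] [])) (cond (Nat.blt c 218) (cond (Nat.beq c 217) [⟨47, 1, 1⟩] []) (cond (Nat.beq c 218) [⟨48, 1, 1⟩] [])))) (cond (Nat.blt c 225) (cond (Nat.blt c 222) (cond (Nat.blt c 221) (cond (Nat.beq c 220) [⟨50, -1, 1⟩] []) (cond (Nat.beq c 221) [⟨52, 1, 1⟩] [])) (cond (Nat.blt c 224) (cond (Nat.beq c 222) [⟨54, -1, 1⟩] []) (cond (Nat.beq c 224) [⟨56, 1, 1⟩] []))) (cond (Nat.blt c 227) (cond (Nat.blt c 226) (cond (Nat.beq c 225) [⟨58, -1, 1⟩] []) (cond (Nat.beq c 226) [⟨61, 1, 1⟩] [])) (cond (Nat.blt c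 229) (cond (Nat.beq c 227) [⟨64, 1, 1⟩] []) (cond (Nat.beq c 229) [⟨66, -1, 1⟩] []))))) (cond (Nat.blt c 239) (cond (Nat.blt c 234) (cond (Nat.blt c 232) (cond (Nat.blt c 231) (cond (Nat.beq c 230) [⟨68, 1, 1⟩] []) (cond (Nat.beq c 231) [⟨71, -1, 1⟩] [])) (cond (Nat.blt c 233) (cond (Nat.beq c 232) [⟨75, 1, 1⟩] []) (cond (Nat.beq c 233) [⟨80, -1, 1⟩] []))) (cond (Nat.blt c 237) (cond (Nat.blt c 236) (cond (Nat.beq c 234) [⟨86, 1, 1⟩] []) (cond (Nat.beq c 236) [⟨88, -1, 1⟩] [])) (cond (Nat.blt c 238) (cond (Nat.beq c 237) [⟨90, 1, 1⟩] []) (cond (Nat.beq c 238) [⟨93, -1, 1⟩] [])))) (cond (Nat.blt c 243) (cond (Nat.blt c 241) (cond (Nat.blt c 240) (cond (Nat.beq c 239) [⟨97, 1, 1⟩] []) (cond (Nat.beq c 240) [⟨102, -1, 1⟩] [])) (cond (Nat.blt c 242) (cond (Nat.beq c 241) [⟨108, -1, 1⟩] []) (cond (Nat.beq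 c 242) [⟨114, -1, 1⟩] []))) (cond (Nat.blt c 245) (cond (Nat.blt c 244) (cond (Nat.beq c 243) [⟨119, -1, 1⟩] []) (cond (Nat.beq c 244) [⟨123, -1, 1⟩] [])) (cond (Nat.blt c 246) (cond (Nat.beq c 245) [⟨126, -1, 1⟩] []) (cond (Nat.blt c 247) (cond (Nat.beq c 246) [⟨9, -1, 2⟩, ⟨0, -2, 1⟩, ⟨1, -3, 1⟩, ⟨2, -4, 1⟩, ⟨3, -6, 1⟩, ⟨4, -5, 1⟩, ⟨5, -4, 1⟩, ⟨6, -3, 1⟩, ⟨7, -1, 1⟩] []) (cond (Nat.beq c 247) [⟨128, -1, 1⟩] [])))))))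

/-- Compiled columns of `x_2` for type E8. -/
def colsE8_2 (c : ℕ) : List CEnt :=
  cond (Nat.blt c 206) (cond (Nat.blt c 161) (cond (Nat.blt c 125) (cond (Nat.blt c 4) (cond (Nat.blt c 2) (cond (Nat.blt c 1) (cond (Nat.beq c 0) [⟨10, 0, 1⟩] []) (cond (Nat.beq c 1) [⟨10, 0, 1⟩] [])) (cond (Nat.blt c 3) (cond (Nat.beq c 2) [⟨10, 0, 1⟩] []) (cond (Nat.beq c 3) [⟨10, 0, 1⟩] []))) (cond (Nat.blt c 6) (cond (Nat.blt c 5) (cond (Nat.beq c 4) [⟨10, 0, 1⟩] []) (cond (Nat.beq c 5) [⟨10, 1, 1⟩] [])) (cond (Nat.blt c 7) (cond (Nat.beq c 6) [⟨10, -1, 1⟩] []) (cond (Nat.beq c 7) [⟨10, 0, 1⟩] [])))) (cond (Nat.blt c 140) (cond (Nat.blt c 131) (cond (Nat.blt c 126) (cond (Nat.beq c 125) [⟨8, 1, 1⟩] []) (cond (Nat.beq c 126) [⟨9, 1, 1⟩] [])) (cond (Nat.blt c 135) (cond (Nat.beq c 131) [⟨11, 1, 1⟩] []) (cond (Nat.beq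 c 135) [⟨12, 1, 1⟩] []))) (cond (Nat.blt c 152) (cond (Nat.blt c 146) (cond (Nat.beq c 140) [⟨13, 1, 1⟩] []) (cond (Nat.beq c 146) [⟨14, 1, 1⟩] [])) (cond (Nat.blt c 157) (cond (Nat.beq c 152) [⟨15, 1, 1⟩] []) (cond (Nat.beq c 157) [⟨16, -1, 1⟩] []))))) (cond (Nat.blt c 189) (cond (Nat.blt c 174) (cond (Nat.blt c 167) (cond (Nat.blt c 164) (cond (Nat.beq c 161) [⟨17, 1, 1⟩] []) (cond (Nat.beq c 164) [⟨18, -1, 1⟩] [])) (cond (Nat.blt c 168) (cond (Nat.beq c 167) [⟨20, 1, 1⟩] []) (cond (Nat.beq c 168) [⟨21, -1, 1⟩] []))) (cond (Nat.blt c 183) (cond (Nat.blt c 179) (cond (Nat.beq c 174) [⟨22, 1, 1⟩] []) (cond (Nat.beq c 179) [⟨23, -1, 1⟩] [])) (cond (Nat.blt c 186) (cond (Nat.beq c 183) [⟨24, 1, 1⟩] []) (cond (Nat.beq c 186) [⟨25, -1, 1⟩] [])))) (cond (Nat.blt c 199) (cond (Nat.blt c 193) (cond (Nat.blt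 c 190) (cond (Nat.beq c 189) [⟨27, 1, 1⟩] []) (cond (Nat.beq c 190) [⟨28, -1, 1⟩] [])) (cond (Nat.blt c 196) (cond (Nat.beq c 193) [⟨29, -1, 1⟩] []) (cond (Nat.beq c 196) [⟨30, 1, 1⟩] []))) (cond (Nat.blt c 202) (cond (Nat.blt c 200) (cond (Nat.beq c 199) [⟨32, -1, 1⟩] []) (cond (Nat.beq c 200) [⟨33, 1, 1⟩] [])) (cond (Nat.blt c 205) (cond (Nat.beq c 202) [⟨34, -1, 1⟩] []) (cond (Nat.beq c 205) [⟨36, 1, 1⟩] [])))))) (cond (Nat.blt c 230) (cond (Nat.blt c 219) (cond (Nat.blt c 212) (cond (Nat.blt c 209) (cond (Nat.blt c 208) (cond (Nat.beq c 206) [⟨37, -1, 1⟩] []) (cond (Nat.beq c 208) [⟨39, -1, 1⟩] [])) (cond (Nat.blt c 211) (cond (Nat.beq c 209) [⟨40, 1, 1⟩] []) (cond (Nat.beq c 211) [⟨43, -1, 1⟩] []))) (cond (Nat.blt c 216) (cond (Nat.blt c 215) (cond (Nat.beq c 212) [⟨44, 1, 1⟩] []) (cond (Nat.beq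 c 215) [⟨46, -1, 1⟩] [])) (cond (Nat.blt c 218) (cond (Nat.beq c 216) [⟨47, 1, 1⟩] []) (cond (Nat.beq c 218) [⟨49, 1, 1⟩] [])))) (cond (Nat.blt c 225) (cond (Nat.blt c 222) (cond (Nat.blt c 221) (cond (Nat.beq c 219) [⟨50, -1, 1⟩] []) (cond (Nat.beq c 221) [⟨53, 1, 1⟩] [])) (cond (Nat.blt c 223) (cond (Nat.beq c 222) [⟨55, -1, 1⟩] []) (cond (Nat.beq c 223) [⟨56, 1, 1⟩] []))) (cond (Nat.blt c 227) (cond (Nat.blt c 226) (cond (Nat.beq c 225) [⟨59, -1, 1⟩] []) (cond (Nat.beq c 226) [⟨62, 1, 1⟩] [])) (cond (Nat.blt c 228) (cond (Nat.beq c 227) [⟨65, 1, 1⟩] []) (cond (Nat.beq c 228) [⟨66, -1, 1⟩] []))))) (cond (Nat.blt c 239) (cond (Nat.blt c 234) (cond (Nat.blt c 232) (cond (Nat.blt c 231) (cond (Nat.beq c 230) [⟨69, 1, 1⟩] []) (cond (Nat.beq c 231) [⟨72, -1, 1⟩] [])) (cond (Nat.blt c 233) (cond (Nat.beq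 c 232) [⟨76, 1, 1⟩] []) (cond (Nat.beq c 233) [⟨81, -1, 1⟩] []))) (cond (Nat.blt c 237) (cond (Nat.blt c 235) (cond (Nat.beq c 234) [⟨87, 1, 1⟩] []) (cond (Nat.beq c 235) [⟨88, -1, 1⟩] [])) (cond (Nat.blt c 238) (cond (Nat.beq c 237) [⟨91, 1, 1⟩] []) (cond (Nat.beq c 238) [⟨94, -1, 1⟩] [])))) (cond (Nat.blt c 243) (cond (Nat.blt c 241) (cond (Nat.blt c 240) (cond (Nat.beq c 239) [⟨98, 1, 1⟩] []) (cond (Nat.beq c 240) [⟨103, -1, 1⟩] [])) (cond (Nat.blt c 242) (cond (Nat.beq c 241) [⟨109, -1, 1⟩] []) (cond (Nat.beq c 242) [⟨115, -1, 1⟩] []))) (cond (Nat.blt c 245) (cond (Nat.blt c 244) (cond (Nat.beq c 243) [⟨120, -1, 1⟩] []) (cond (Nat.beq c 244) [⟨124, -1, 1⟩] [])) (cond (Nat.blt c 246) (cond (Nat.beq c 245) [⟨10, -1, 2⟩, ⟨0, -2, 1⟩, ⟨1, -3, 1⟩, ⟨2, -4, 1⟩, ⟨3, -6, 1⟩, ⟨4, -5, 1⟩, ⟨5, -4, 1⟩, ⟨6,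 -2, 1⟩, ⟨7, -1, 1⟩] []) (cond (Nat.blt c 247) (cond (Nat.beq c 246) [⟨129, -1, 1⟩] []) (cond (Nat.beq c 247) [⟨130, -1, 1⟩] [])))))))

/-- Compiled columns of `x_3` for type E8. -/
def colsE8_3 (c : ℕ) : List CEnt :=
  cond (Nat.blt c 204) (cond (Nat.blt c 160) (cond (Nat.blt c 122) (cond (Nat.blt c 4) (cond (Nat.blt c 2) (cond (Nat.blt c 1) (cond (Nat.beq c 0) [⟨11, 0, 1⟩] []) (cond (Nat.beq c 1) [⟨11, 0, 1⟩] [])) (cond (Nat.blt c 3) (cond (Nat.beq c 2) [⟨11, 0, 1⟩] []) (cond (Nat.beq c 3) [⟨11, 0, 1⟩] []))) (cond (Nat.blt c 6) (cond (Nat.blt c 5) (cond (Nat.beq c 4) [⟨11, 1, 1⟩] []) (cond (Nat.beq c 5) [⟨11, -1, 1⟩] [])) (cond (Nat.blt c 7) (cond (Nat.beq c 6) [⟨11, 0, 1⟩] []) (cond (Nat.beq c 7) [⟨11, 0, 1⟩] [])))) (cond (Nat.blt c 139) (cond (Nat.blt c 124) (cond (Nat.blt c 123) (cond (Nat.beq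 c 122) [⟨8, 1, 1⟩] []) (cond (Nat.beq c 123) [⟨9, 1, 1⟩] [])) (cond (Nat.blt c 134) (cond (Nat.beq c 124) [⟨10, 1, 1⟩] []) (cond (Nat.beq c 134) [⟨12, 1, 1⟩] []))) (cond (Nat.blt c 151) (cond (Nat.blt c 145) (cond (Nat.beq c 139) [⟨13, 1, 1⟩] []) (cond (Nat.beq c 145) [⟨14, 1, 1⟩] [])) (cond (Nat.blt c 156) (cond (Nat.beq c 151) [⟨15, 1, 1⟩] []) (cond (Nat.beq c 156) [⟨16, -1, 1⟩] []))))) (cond (Nat.blt c 187) (cond (Nat.blt c 173) (cond (Nat.blt c 165) (cond (Nat.blt c 164) (cond (Nat.beq c 160) [⟨17, 1, 1⟩] []) (cond (Nat.beq c 164) [⟨19, -1, 1⟩] [])) (cond (Nat.blt c 166) (cond (Nat.beq c 165) [⟨20, 1, 1⟩] []) (cond (Nat.beq c 166) [⟨21, -1, 1⟩] []))) (cond (Nat.blt c 182) (cond (Nat.blt c 178) (cond (Nat.beq c 173) [⟨22, 1, 1⟩] []) (cond (Nat.beq c 178) [⟨23, -1, 1⟩] [])) (cond (Nat.blt c 186)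 (cond (Nat.beq c 182) [⟨24, 1, 1⟩] []) (cond (Nat.beq c 186) [⟨26, -1, 1⟩] [])))) (cond (Nat.blt c 197) (cond (Nat.blt c 192) (cond (Nat.blt c 188) (cond (Nat.beq c 187) [⟨27, 1, 1⟩] []) (cond (Nat.beq c 188) [⟨28, -1, 1⟩] [])) (cond (Nat.blt c 196) (cond (Nat.beq c 192) [⟨29, -1, 1⟩] []) (cond (Nat.beq c 196) [⟨31, 1, 1⟩] []))) (cond (Nat.blt c 202) (cond (Nat.blt c 198) (cond (Nat.beq c 197) [⟨32, -1, 1⟩] []) (cond (Nat.beq c 198) [⟨33, 1, 1⟩] [])) (cond (Nat.blt c 203) (cond (Nat.beq c 202) [⟨35, -1, 1⟩] []) (cond (Nat.beq c 203) [⟨36, 1, 1⟩] [])))))) (cond (Nat.blt c 229) (cond (Nat.blt c 219) (cond (Nat.blt c 212) (cond (Nat.blt c 209) (cond (Nat.blt c 208) (cond (Nat.beq c 204) [⟨37, -1, 1⟩] []) (cond (Nat.beq c 208) [⟨41, -1, 1⟩] [])) (cond (Nat.blt c 210) (cond (Nat.beq c 209) [⟨42, 1, 1⟩]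 []) (cond (Nat.beq c 210) [⟨43, -1, 1⟩] []))) (cond (Nat.blt c 214) (cond (Nat.blt c 213) (cond (Nat.beq c 212) [⟨45, 1, 1⟩] []) (cond (Nat.beq c 213) [⟨46, -1, 1⟩] [])) (cond (Nat.blt c 218) (cond (Nat.beq c 214) [⟨47, 1, 1⟩] []) (cond (Nat.beq c 218) [⟨51, 1, 1⟩] [])))) (cond (Nat.blt c 224) (cond (Nat.blt c 222) (cond (Nat.blt c 220) (cond (Nat.beq c 219) [⟨52, -1, 1⟩] []) (cond (Nat.beq c 220) [⟨53, 1, 1⟩] [])) (cond (Nat.blt c 223) (cond (Nat.beq c 222) [⟨57, -1, 1⟩] []) (cond (Nat.beq c 223) [⟨58, 1, 1⟩] []))) (cond (Nat.blt c 227) (cond (Nat.blt c 226) (cond (Nat.beq c 224) [⟨59, -1, 1⟩] []) (cond (Nat.beq c 226) [⟨63, 1, 1⟩] [])) (cond (Nat.blt c 228) (cond (Nat.beq c 227) [⟨67, 1, 1⟩] []) (cond (Nat.beq c 228) [⟨68, -1, 1⟩] []))))) (cond (Nat.blt c 239) (cond (Nat.blt c 234) (cond (Nat.blt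 c 232) (cond (Nat.blt c 231) (cond (Nat.beq c 229) [⟨69, 1, 1⟩] []) (cond (Nat.beq c 231) [⟨73, -1, 1⟩] [])) (cond (Nat.blt c 233) (cond (Nat.beq c 232) [⟨77, 1, 1⟩] []) (cond (Nat.beq c 233) [⟨82, -1, 1⟩] []))) (cond (Nat.blt c 236) (cond (Nat.blt c 235) (cond (Nat.beq c 234) [⟨89, 1, 1⟩] []) (cond (Nat.beq c 235) [⟨90, -1, 1⟩] [])) (cond (Nat.blt c 238) (cond (Nat.beq c 236) [⟨91, 1, 1⟩] []) (cond (Nat.beq c 238) [⟨95, -1, 1⟩] [])))) (cond (Nat.blt c 243) (cond (Nat.blt c 241) (cond (Nat.blt c 240) (cond (Nat.beq c 239) [⟨99, 1, 1⟩] []) (cond (Nat.beq c 240) [⟨104, -1, 1⟩] [])) (cond (Nat.blt c 242) (cond (Nat.beq c 241) [⟨110, -1, 1⟩] []) (cond (Nat.beq c 242) [⟨116, -1, 1⟩] []))) (cond (Nat.blt c 245) (cond (Nat.blt c 244) (cond (Nat.beq c 243) [⟨121, -1, 1⟩] []) (cond (Nat.beq c 244) [⟨11,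 -1, 2⟩, ⟨0, -2, 1⟩, ⟨1, -3, 1⟩, ⟨2, -4, 1⟩, ⟨3, -6, 1⟩, ⟨4, -5, 1⟩, ⟨5, -3, 1⟩, ⟨6, -2, 1⟩, ⟨7, -1, 1⟩] [])) (cond (Nat.blt c 246) (cond (Nat.beq c 245) [⟨131, -1, 1⟩] []) (cond (Nat.blt c 247) (cond (Nat.beq c 246) [⟨132, -1, 1⟩] []) (cond (Nat.beq c 247) [⟨133, -1, 1⟩] [])))))))

/-- Compiled columns of `x_4` for type E8. -/
def colsE8_4 (c : ℕ) : List CEnt :=
  cond (Nat.blt c 204) (cond (Nat.blt c 160) (cond (Nat.blt c 118) (cond (Nat.blt c 4) (cond (Nat.blt c 2) (cond (Nat.blt c 1) (cond (Nat.beq c 0) [⟨12, 0, 1⟩] []) (cond (Nat.beq c 1) [⟨12, 0, 1⟩] [])) (cond (Nat.blt c 3) (cond (Nat.beq c 2) [⟨12, 0, 1⟩] []) (cond (Nat.beq c 3) [⟨12, 1, 1⟩] []))) (cond (Nat.blt c 6) (cond (Nat.blt c 5) (cond (Nat.beq c 4) [⟨12, -1, 1⟩] []) (cond (Nat.beq c 5) [⟨12, 0, 1⟩] [])) (cond (Nat.blt c 7) (cond (Nat.beq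 c 6) [⟨12, 0, 1⟩] []) (cond (Nat.beq c 7) [⟨12, 0, 1⟩] [])))) (cond (Nat.blt c 138) (cond (Nat.blt c 120) (cond (Nat.blt c 119) (cond (Nat.beq c 118) [⟨8, 1, 1⟩] []) (cond (Nat.beq c 119) [⟨9, 1, 1⟩] [])) (cond (Nat.blt c 121) (cond (Nat.beq c 120) [⟨10, 1, 1⟩] []) (cond (Nat.beq c 121) [⟨11, 1, 1⟩] []))) (cond (Nat.blt c 150) (cond (Nat.blt c 144) (cond (Nat.beq c 138) [⟨13, 1, 1⟩] []) (cond (Nat.beq c 144) [⟨14, 1, 1⟩] [])) (cond (Nat.blt c 155) (cond (Nat.beq c 150) [⟨15, 1, 1⟩] []) (cond (Nat.beq c 155) [⟨16, -1, 1⟩] []))))) (cond (Nat.blt c 184) (cond (Nat.blt c 172) (cond (Nat.blt c 162) (cond (Nat.blt c 161) (cond (Nat.beq c 160) [⟨18, 1, 1⟩] []) (cond (Nat.beq c 161) [⟨19, -1, 1⟩] [])) (cond (Nat.blt c 163) (cond (Nat.beq c 162) [⟨20, 1, 1⟩] []) (cond (Nat.beq c 163) [⟨21, -1, 1⟩] [])))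 (cond (Nat.blt c 182) (cond (Nat.blt c 177) (cond (Nat.beq c 172) [⟨22, 1, 1⟩] []) (cond (Nat.beq c 177) [⟨23, -1, 1⟩] [])) (cond (Nat.blt c 183) (cond (Nat.beq c 182) [⟨25, 1, 1⟩] []) (cond (Nat.beq c 183) [⟨26, -1, 1⟩] [])))) (cond (Nat.blt c 194) (cond (Nat.blt c 192) (cond (Nat.blt c 185) (cond (Nat.beq c 184) [⟨27, 1, 1⟩] []) (cond (Nat.beq c 185) [⟨28, -1, 1⟩] [])) (cond (Nat.blt c 193) (cond (Nat.beq c 192) [⟨30, -1, 1⟩] []) (cond (Nat.beq c 193) [⟨31, 1, 1⟩] []))) (cond (Nat.blt c 202) (cond (Nat.blt c 195) (cond (Nat.beq c 194) [⟨32, -1, 1⟩] []) (cond (Nat.beq c 195) [⟨33, 1, 1⟩] [])) (cond (Nat.blt c 203) (cond (Nat.beq c 202) [⟨38, -1, 1⟩] []) (cond (Nat.beq c 203) [⟨39, 1, 1⟩] [])))))) (cond (Nat.blt c 229) (cond (Nat.blt c 216) (cond (Nat.blt c 212) (cond (Nat.blt c 206) (cond (Nat.blt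 c 205) (cond (Nat.beq c 204) [⟨40, -1, 1⟩] []) (cond (Nat.beq c 205) [⟨41, -1, 1⟩] [])) (cond (Nat.blt c 207) (cond (Nat.beq c 206) [⟨42, 1, 1⟩] []) (cond (Nat.beq c 207) [⟨43, -1, 1⟩] []))) (cond (Nat.blt c 214) (cond (Nat.blt c 213) (cond (Nat.beq c 212) [⟨48, 1, 1⟩] []) (cond (Nat.beq c 213) [⟨49, -1, 1⟩] [])) (cond (Nat.blt c 215) (cond (Nat.beq c 214) [⟨50, 1, 1⟩] []) (cond (Nat.beq c 215) [⟨51, 1, 1⟩] [])))) (cond (Nat.blt c 224) (cond (Nat.blt c 222) (cond (Nat.blt c 217) (cond (Nat.beq c 216) [⟨52, -1, 1⟩] []) (cond (Nat.beq c 217) [⟨53, 1, 1⟩] [])) (cond (Nat.blt c 223) (cond (Nat.beq c 222) [⟨60, -1, 1⟩] []) (cond (Nat.beq c 223) [⟨61, 1, 1⟩] []))) (cond (Nat.blt c 227) (cond (Nat.blt c 225) (cond (Nat.beq c 224) [⟨62, -1, 1⟩] []) (cond (Nat.beq c 225) [⟨63, 1, 1⟩] [])) (cond (Nat.blt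 c 228) (cond (Nat.beq c 227) [⟨70, 1, 1⟩] []) (cond (Nat.beq c 228) [⟨71, -1, 1⟩] []))))) (cond (Nat.blt c 239) (cond (Nat.blt c 234) (cond (Nat.blt c 232) (cond (Nat.blt c 230) (cond (Nat.beq c 229) [⟨72, 1, 1⟩] []) (cond (Nat.beq c 230) [⟨73, -1, 1⟩] [])) (cond (Nat.blt c 233) (cond (Nat.beq c 232) [⟨78, 1, 1⟩] []) (cond (Nat.beq c 233) [⟨83, -1, 1⟩] []))) (cond (Nat.blt c 236) (cond (Nat.blt c 235) (cond (Nat.beq c 234) [⟨92, 1, 1⟩] []) (cond (Nat.beq c 235) [⟨93, -1, 1⟩] [])) (cond (Nat.blt c 237) (cond (Nat.beq c 236) [⟨94, 1, 1⟩] []) (cond (Nat.beq c 237) [⟨95, -1, 1⟩] [])))) (cond (Nat.blt c 243) (cond (Nat.blt c 241) (cond (Nat.blt c 240) (cond (Nat.beq c 239) [⟨100, 1, 1⟩] []) (cond (Nat.beq c 240) [⟨105, -1, 1⟩] [])) (cond (Nat.blt c 242) (cond (Nat.beq c 241) [⟨111, -1, 1⟩] []) (cond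 (Nat.beq c 242) [⟨117, -1, 1⟩] []))) (cond (Nat.blt c 245) (cond (Nat.blt c 244) (cond (Nat.beq c 243) [⟨12, -1, 2⟩, ⟨0, -2, 1⟩, ⟨1, -3, 1⟩, ⟨2, -4, 1⟩, ⟨3, -6, 1⟩, ⟨4, -4, 1⟩, ⟨5, -3, 1⟩, ⟨6, -2, 1⟩, ⟨7, -1, 1⟩] []) (cond (Nat.beq c 244) [⟨134, -1, 1⟩] [])) (cond (Nat.blt c 246) (cond (Nat.beq c 245) [⟨135, -1, 1⟩] []) (cond (Nat.blt c 247) (cond (Nat.beq c 246) [⟨136, -1, 1⟩] []) (cond (Nat.beq c 247) [⟨137, -1, 1⟩] [])))))))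

/-- Compiled columns of `x_5` for type E8. -/
def colsE8_5 (c : ℕ) : List CEnt :=
  cond (Nat.blt c 198) (cond (Nat.blt c 156) (cond (Nat.blt c 113) (cond (Nat.blt c 4) (cond (Nat.blt c 2) (cond (Nat.blt c 1) (cond (Nat.beq c 0) [⟨13, 0, 1⟩] []) (cond (Nat.beq c 1) [⟨13, 1, 1⟩] [])) (cond (Nat.blt c 3) (cond (Nat.beq c 2) [⟨13, 1, 1⟩] []) (cond (Nat.beq c 3) [⟨13, -1, 1⟩] []))) (cond (Nat.blt c 6) (cond (Nat.blt c 5) (cond (Nat.beq c 4) [⟨13, 0, 1⟩] []) (cond (Nat.beq c 5) [⟨13, 0, 1⟩] [])) (cond (Nat.blt c 7) (cond (Nat.beq c 6) [⟨13, 0, 1⟩] []) (cond (Nat.beq c 7) [⟨13, 0, 1⟩] [])))) (cond (Nat.blt c 117) (cond (Nat.blt c 115) (cond (Nat.blt c 114) (cond (Nat.beq c 113) [⟨8, 1, 1⟩] []) (cond (Nat.beq c 114) [⟨9, 1, 1⟩] [])) (cond (Nat.blt c 116) (cond (Nat.beq c 115) [⟨10, 1, 1⟩] []) (cond (Nat.beq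 c 116) [⟨11, 1, 1⟩] []))) (cond (Nat.blt c 149) (cond (Nat.blt c 143) (cond (Nat.beq c 117) [⟨12, 1, 1⟩] []) (cond (Nat.beq c 143) [⟨14, 1, 1⟩] [])) (cond (Nat.blt c 155) (cond (Nat.beq c 149) [⟨15, 1, 1⟩] []) (cond (Nat.beq c 155) [⟨17, -1, 1⟩] []))))) (cond (Nat.blt c 180) (cond (Nat.blt c 171) (cond (Nat.blt c 158) (cond (Nat.blt c 157) (cond (Nat.beq c 156) [⟨18, 1, 1⟩] []) (cond (Nat.beq c 157) [⟨19, -1, 1⟩] [])) (cond (Nat.blt c 159) (cond (Nat.beq c 158) [⟨20, 1, 1⟩] []) (cond (Nat.beq c 159) [⟨21, -1, 1⟩] []))) (cond (Nat.blt c 178) (cond (Nat.blt c 177) (cond (Nat.beq c 171) [⟨22, 1, 1⟩] []) (cond (Nat.beq c 177) [⟨24, -1, 1⟩] [])) (cond (Nat.blt c 179) (cond (Nat.beq c 178) [⟨25, 1, 1⟩] []) (cond (Nat.beq c 179) [⟨26, -1, 1⟩] [])))) (cond (Nat.blt c 194) (cond (Nat.blt c 192) (cond (Nat.blt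 c 181) (cond (Nat.beq c 180) [⟨27, 1, 1⟩] []) (cond (Nat.beq c 181) [⟨28, -1, 1⟩] [])) (cond (Nat.blt c 193) (cond (Nat.beq c 192) [⟨34, -1, 1⟩] []) (cond (Nat.beq c 193) [⟨35, 1, 1⟩] []))) (cond (Nat.blt c 196) (cond (Nat.blt c 195) (cond (Nat.beq c 194) [⟨36, -1, 1⟩] []) (cond (Nat.beq c 195) [⟨37, 1, 1⟩] [])) (cond (Nat.blt c 197) (cond (Nat.beq c 196) [⟨38, -1, 1⟩] []) (cond (Nat.beq c 197) [⟨39, 1, 1⟩] [])))))) (cond (Nat.blt c 229) (cond (Nat.blt c 216) (cond (Nat.blt c 212) (cond (Nat.blt c 200) (cond (Nat.blt c 199) (cond (Nat.beq c 198) [⟨40, -1, 1⟩] []) (cond (Nat.beq c 199) [⟨41, -1, 1⟩] [])) (cond (Nat.blt c 201) (cond (Nat.beq c 200) [⟨42, 1, 1⟩] []) (cond (Nat.beq c 201) [⟨43, -1, 1⟩] []))) (cond (Nat.blt c 214) (cond (Nat.blt c 213) (cond (Nat.beq c 212) [⟨54, 1, 1⟩] []) (cond (Nat.beq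 c 213) [⟨55, -1, 1⟩] [])) (cond (Nat.blt c 215) (cond (Nat.beq c 214) [⟨56, 1, 1⟩] []) (cond (Nat.beq c 215) [⟨57, 1, 1⟩] [])))) (cond (Nat.blt c 220) (cond (Nat.blt c 218) (cond (Nat.blt c 217) (cond (Nat.beq c 216) [⟨58, -1, 1⟩] []) (cond (Nat.beq c 217) [⟨59, 1, 1⟩] [])) (cond (Nat.blt c 219) (cond (Nat.beq c 218) [⟨60, -1, 1⟩] []) (cond (Nat.beq c 219) [⟨61, 1, 1⟩] []))) (cond (Nat.blt c 227) (cond (Nat.blt c 221) (cond (Nat.beq c 220) [⟨62, -1, 1⟩] []) (cond (Nat.beq c 221) [⟨63, 1, 1⟩] [])) (cond (Nat.blt c 228) (cond (Nat.beq c 227) [⟨74, 1, 1⟩] []) (cond (Nat.beq c 228) [⟨75, -1, 1⟩] []))))) (cond (Nat.blt c 238) (cond (Nat.blt c 234) (cond (Nat.blt c 231) (cond (Nat.blt c 230) (cond (Nat.beq c 229) [⟨76, 1, 1⟩] []) (cond (Nat.beq c 230) [⟨77, -1, 1⟩] [])) (cond (Nat.blt c 233) (cond (Nat.beq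 c 231) [⟨78, 1, 1⟩] []) (cond (Nat.beq c 233) [⟨84, -1, 1⟩] []))) (cond (Nat.blt c 236) (cond (Nat.blt c 235) (cond (Nat.beq c 234) [⟨96, 1, 1⟩] []) (cond (Nat.beq c 235) [⟨97, -1, 1⟩] [])) (cond (Nat.blt c 237) (cond (Nat.beq c 236) [⟨98, 1, 1⟩] []) (cond (Nat.beq c 237) [⟨99, -1, 1⟩] [])))) (cond (Nat.blt c 243) (cond (Nat.blt c 241) (cond (Nat.blt c 240) (cond (Nat.beq c 238) [⟨100, 1, 1⟩] []) (cond (Nat.beq c 240) [⟨106, -1, 1⟩] [])) (cond (Nat.blt c 242) (cond (Nat.beq c 241) [⟨112, -1, 1⟩] []) (cond (Nat.beq c 242) [⟨13, -1, 2⟩, ⟨0, -2, 1⟩, ⟨1, -3, 1⟩, ⟨2, -4, 1⟩, ⟨3, -5, 1⟩, ⟨4, -4, 1⟩, ⟨5, -3, 1⟩, ⟨6, -2, 1⟩, ⟨7, -1, 1⟩] []))) (cond (Nat.blt c 245) (cond (Nat.blt c 244) (cond (Nat.beq c 243) [⟨138, -1, 1⟩] []) (cond (Nat.beq c 244) [⟨139, -1, 1⟩] [])) (cond (Nat.blt c 246) (cond (Nat.beq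 c 245) [⟨140, -1, 1⟩] []) (cond (Nat.blt c 247) (cond (Nat.beq c 246) [⟨141, -1, 1⟩] []) (cond (Nat.beq c 247) [⟨142, -1, 1⟩] [])))))))

/-- Compiled columns of `x_6` for type E8. -/
def colsE8_6 (c : ℕ) : List CEnt :=
  cond (Nat.blt c 188) (cond (Nat.blt c 151) (cond (Nat.blt c 107) (cond (Nat.blt c 4) (cond (Nat.blt c 2) (cond (Nat.blt c 1) (cond (Nat.beq c 0) [⟨14, 1, 1⟩] []) (cond (Nat.beq c 1) [⟨14, 1, 1⟩] [])) (cond (Nat.blt c 3) (cond (Nat.beq c 2) [⟨14, -1, 1⟩] []) (cond (Nat.beq c 3) [⟨14, 0, 1⟩] []))) (cond (Nat.blt c 6) (cond (Nat.blt c 5) (cond (Nat.beq c 4) [⟨14, 0, 1⟩] []) (cond (Nat.beq c 5) [⟨14, 0, 1⟩] [])) (cond (Nat.blt c 7) (cond (Nat.beq c 6) [⟨14, 0, 1⟩] []) (cond (Nat.beq c 7) [⟨14, 0, 1⟩] [])))) (cond (Nat.blt c 111) (cond (Nat.blt c 109) (cond (Nat.blt c 108) (cond (Nat.beq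 c 107) [⟨8, 1, 1⟩] []) (cond (Nat.beq c 108) [⟨9, 1, 1⟩] [])) (cond (Nat.blt c 110) (cond (Nat.beq c 109) [⟨10, 1, 1⟩] []) (cond (Nat.beq c 110) [⟨11, 1, 1⟩] []))) (cond (Nat.blt c 149) (cond (Nat.blt c 112) (cond (Nat.beq c 111) [⟨12, 1, 1⟩] []) (cond (Nat.beq c 112) [⟨13, 1, 1⟩] [])) (cond (Nat.blt c 150) (cond (Nat.beq c 149) [⟨16, 1, 1⟩] []) (cond (Nat.beq c 150) [⟨17, -1, 1⟩] []))))) (cond (Nat.blt c 180) (cond (Nat.blt c 170) (cond (Nat.blt c 153) (cond (Nat.blt c 152) (cond (Nat.beq c 151) [⟨18, 1, 1⟩] []) (cond (Nat.beq c 152) [⟨19, -1, 1⟩] [])) (cond (Nat.blt c 154) (cond (Nat.beq c 153) [⟨20, 1, 1⟩] []) (cond (Nat.beq c 154) [⟨21, -1, 1⟩] []))) (cond (Nat.blt c 178) (cond (Nat.blt c 177) (cond (Nat.beq c 170) [⟨22, 1, 1⟩] []) (cond (Nat.beq c 177) [⟨29, -1, 1⟩] [])) (cond (Nat.blt c 179)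 (cond (Nat.beq c 178) [⟨30, 1, 1⟩] []) (cond (Nat.beq c 179) [⟨31, -1, 1⟩] [])))) (cond (Nat.blt c 184) (cond (Nat.blt c 182) (cond (Nat.blt c 181) (cond (Nat.beq c 180) [⟨32, 1, 1⟩] []) (cond (Nat.beq c 181) [⟨33, -1, 1⟩] [])) (cond (Nat.blt c 183) (cond (Nat.beq c 182) [⟨34, -1, 1⟩] []) (cond (Nat.beq c 183) [⟨35, 1, 1⟩] []))) (cond (Nat.blt c 186) (cond (Nat.blt c 185) (cond (Nat.beq c 184) [⟨36, -1, 1⟩] []) (cond (Nat.beq c 185) [⟨37, 1, 1⟩] [])) (cond (Nat.blt c 187) (cond (Nat.beq c 186) [⟨38, -1, 1⟩] []) (cond (Nat.beq c 187) [⟨39, 1, 1⟩] [])))))) (cond (Nat.blt c 224) (cond (Nat.blt c 216) (cond (Nat.blt c 212) (cond (Nat.blt c 190) (cond (Nat.blt c 189) (cond (Nat.beq c 188) [⟨40, -1, 1⟩] []) (cond (Nat.beq c 189) [⟨41, -1, 1⟩] [])) (cond (Nat.blt c 191) (cond (Nat.beq c 190) [⟨42, 1, 1⟩]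 []) (cond (Nat.beq c 191) [⟨43, -1, 1⟩] []))) (cond (Nat.blt c 214) (cond (Nat.blt c 213) (cond (Nat.beq c 212) [⟨64, 1, 1⟩] []) (cond (Nat.beq c 213) [⟨65, -1, 1⟩] [])) (cond (Nat.blt c 215) (cond (Nat.beq c 214) [⟨66, 1, 1⟩] []) (cond (Nat.beq c 215) [⟨67, 1, 1⟩] [])))) (cond (Nat.blt c 220) (cond (Nat.blt c 218) (cond (Nat.blt c 217) (cond (Nat.beq c 216) [⟨68, -1, 1⟩] []) (cond (Nat.beq c 217) [⟨69, 1, 1⟩] [])) (cond (Nat.blt c 219) (cond (Nat.beq c 218) [⟨70, -1, 1⟩] []) (cond (Nat.beq c 219) [⟨71, 1, 1⟩] []))) (cond (Nat.blt c 222) (cond (Nat.blt c 221) (cond (Nat.beq c 220) [⟨72, -1, 1⟩] []) (cond (Nat.beq c 221) [⟨73, 1, 1⟩] [])) (cond (Nat.blt c 223) (cond (Nat.beq c 222) [⟨74, 1, 1⟩] []) (cond (Nat.beq c 223) [⟨75, -1, 1⟩] []))))) (cond (Nat.blt c 238) (cond (Nat.blt c 234) (cond (Nat.blt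 c 226) (cond (Nat.blt c 225) (cond (Nat.beq c 224) [⟨76, 1, 1⟩] []) (cond (Nat.beq c 225) [⟨77, -1, 1⟩] [])) (cond (Nat.blt c 233) (cond (Nat.beq c 226) [⟨78, 1, 1⟩] []) (cond (Nat.beq c 233) [⟨85, -1, 1⟩] []))) (cond (Nat.blt c 236) (cond (Nat.blt c 235) (cond (Nat.beq c 234) [⟨101, 1, 1⟩] []) (cond (Nat.beq c 235) [⟨102, -1, 1⟩] [])) (cond (Nat.blt c 237) (cond (Nat.beq c 236) [⟨103, 1, 1⟩] []) (cond (Nat.beq c 237) [⟨104, -1, 1⟩] [])))) (cond (Nat.blt c 243) (cond (Nat.blt c 241) (cond (Nat.blt c 239) (cond (Nat.beq c 238) [⟨105, 1, 1⟩] []) (cond (Nat.beq c 239) [⟨106, -1, 1⟩] [])) (cond (Nat.blt c 242) (cond (Nat.beq c 241) [⟨14, -1, 2⟩, ⟨0, -2, 1⟩, ⟨1, -3, 1⟩, ⟨2, -3, 1⟩, ⟨3, -5, 1⟩, ⟨4, -4, 1⟩, ⟨5, -3, 1⟩, ⟨6, -2, 1⟩, ⟨7, -1, 1⟩] []) (cond (Nat.beq c 242) [⟨143, -1, 1⟩] []))) (cond (Nat.blt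 c 245) (cond (Nat.blt c 244) (cond (Nat.beq c 243) [⟨144, -1, 1⟩] []) (cond (Nat.beq c 244) [⟨145, -1, 1⟩] [])) (cond (Nat.blt c 246) (cond (Nat.beq c 245) [⟨146, -1, 1⟩] []) (cond (Nat.blt c 247) (cond (Nat.beq c 246) [⟨147, -1, 1⟩] []) (cond (Nat.beq c 247) [⟨148, -1, 1⟩] [])))))))

/-- Compiled columns of `x_7` for type E8. -/
def colsE8_7 (c : ℕ) : List CEnt :=
  cond (Nat.blt c 198) (cond (Nat.blt c 145) (cond (Nat.blt c 101) (cond (Nat.blt c 4) (cond (Nat.blt c 2) (cond (Nat.blt c 1) (cond (Nat.beq c 0) [⟨15, 0, 1⟩] []) (cond (Nat.beq c 1) [⟨15, -1, 1⟩] [])) (cond (Nat.blt c 3) (cond (Nat.beq c 2) [⟨15, 1, 1⟩] []) (cond (Nat.beq c 3) [⟨15, 0, 1⟩] []))) (cond (Nat.blt c 6) (cond (Nat.blt c 5) (cond (Nat.beq c 4) [⟨15, 0, 1⟩] []) (cond (Nat.beq c 5) [⟨15, 0, 1⟩] [])) (cond (Nat.blt c 7) (cond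 (Nat.beq c 6) [⟨15, 0, 1⟩] []) (cond (Nat.beq c 7) [⟨15, 0, 1⟩] [])))) (cond (Nat.blt c 105) (cond (Nat.blt c 103) (cond (Nat.blt c 102) (cond (Nat.beq c 101) [⟨8, 1, 1⟩] []) (cond (Nat.beq c 102) [⟨9, 1, 1⟩] [])) (cond (Nat.blt c 104) (cond (Nat.beq c 103) [⟨10, 1, 1⟩] []) (cond (Nat.beq c 104) [⟨11, 1, 1⟩] []))) (cond (Nat.blt c 143) (cond (Nat.blt c 106) (cond (Nat.beq c 105) [⟨12, 1, 1⟩] []) (cond (Nat.beq c 106) [⟨13, 1, 1⟩] [])) (cond (Nat.blt c 144) (cond (Nat.beq c 143) [⟨16, 1, 1⟩] []) (cond (Nat.beq c 144) [⟨17, -1, 1⟩] []))))) (cond (Nat.blt c 175) (cond (Nat.blt c 171) (cond (Nat.blt c 147) (cond (Nat.blt c 146) (cond (Nat.beq c 145) [⟨18, 1, 1⟩] []) (cond (Nat.beq c 146) [⟨19, -1, 1⟩] [])) (cond (Nat.blt c 148) (cond (Nat.beq c 147) [⟨20, 1, 1⟩] []) (cond (Nat.beq c 148) [⟨21, -1, 1⟩]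 []))) (cond (Nat.blt c 173) (cond (Nat.blt c 172) (cond (Nat.beq c 171) [⟨23, 1, 1⟩] []) (cond (Nat.beq c 172) [⟨24, -1, 1⟩] [])) (cond (Nat.blt c 174) (cond (Nat.beq c 173) [⟨25, 1, 1⟩] []) (cond (Nat.beq c 174) [⟨26, -1, 1⟩] [])))) (cond (Nat.blt c 194) (cond (Nat.blt c 192) (cond (Nat.blt c 176) (cond (Nat.beq c 175) [⟨27, 1, 1⟩] []) (cond (Nat.beq c 176) [⟨28, -1, 1⟩] [])) (cond (Nat.blt c 193) (cond (Nat.beq c 192) [⟨44, -1, 1⟩] []) (cond (Nat.beq c 193) [⟨45, 1, 1⟩] []))) (cond (Nat.blt c 196) (cond (Nat.blt c 195) (cond (Nat.beq c 194) [⟨46, -1, 1⟩] []) (cond (Nat.beq c 195) [⟨47, 1, 1⟩] [])) (cond (Nat.blt c 197) (cond (Nat.beq c 196) [⟨48, -1, 1⟩] []) (cond (Nat.beq c 197) [⟨49, 1, 1⟩] [])))))) (cond (Nat.blt c 229) (cond (Nat.blt c 206) (cond (Nat.blt c 202) (cond (Nat.blt c 200) (cond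 (Nat.blt c 199) (cond (Nat.beq c 198) [⟨50, -1, 1⟩] []) (cond (Nat.beq c 199) [⟨51, -1, 1⟩] [])) (cond (Nat.blt c 201) (cond (Nat.beq c 200) [⟨52, 1, 1⟩] []) (cond (Nat.beq c 201) [⟨53, -1, 1⟩] []))) (cond (Nat.blt c 204) (cond (Nat.blt c 203) (cond (Nat.beq c 202) [⟨54, 1, 1⟩] []) (cond (Nat.beq c 203) [⟨55, -1, 1⟩] [])) (cond (Nat.blt c 205) (cond (Nat.beq c 204) [⟨56, 1, 1⟩] []) (cond (Nat.beq c 205) [⟨57, 1, 1⟩] [])))) (cond (Nat.blt c 210) (cond (Nat.blt c 208) (cond (Nat.blt c 207) (cond (Nat.beq c 206) [⟨58, -1, 1⟩] []) (cond (Nat.beq c 207) [⟨59, 1, 1⟩] [])) (cond (Nat.blt c 209) (cond (Nat.beq c 208) [⟨60, -1, 1⟩] []) (cond (Nat.beq c 209) [⟨61, 1, 1⟩] []))) (cond (Nat.blt c 227) (cond (Nat.blt c 211) (cond (Nat.beq c 210) [⟨62, -1, 1⟩] []) (cond (Nat.beq c 211) [⟨63, 1, 1⟩] [])) (cond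 (Nat.blt c 228) (cond (Nat.beq c 227) [⟨79, 1, 1⟩] []) (cond (Nat.beq c 228) [⟨80, -1, 1⟩] []))))) (cond (Nat.blt c 238) (cond (Nat.blt c 234) (cond (Nat.blt c 231) (cond (Nat.blt c 230) (cond (Nat.beq c 229) [⟨81, 1, 1⟩] []) (cond (Nat.beq c 230) [⟨82, -1, 1⟩] [])) (cond (Nat.blt c 232) (cond (Nat.beq c 231) [⟨83, 1, 1⟩] []) (cond (Nat.beq c 232) [⟨84, -1, 1⟩] []))) (cond (Nat.blt c 236) (cond (Nat.blt c 235) (cond (Nat.beq c 234) [⟨107, 1, 1⟩] []) (cond (Nat.beq c 235) [⟨108, -1, 1⟩] [])) (cond (Nat.blt c 237) (cond (Nat.beq c 236) [⟨109, 1, 1⟩] []) (cond (Nat.beq c 237) [⟨110, -1, 1⟩] [])))) (cond (Nat.blt c 243) (cond (Nat.blt c 240) (cond (Nat.blt c 239) (cond (Nat.beq c 238) [⟨111, 1, 1⟩] []) (cond (Nat.beq c 239) [⟨112, -1, 1⟩] [])) (cond (Nat.blt c 242) (cond (Nat.beq c 240) [⟨15, -1, 2⟩,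 ⟨0, -2, 1⟩, ⟨1, -2, 1⟩, ⟨2, -4, 1⟩, ⟨3, -5, 1⟩, ⟨4, -4, 1⟩, ⟨5, -3, 1⟩, ⟨6, -2, 1⟩, ⟨7, -1, 1⟩] []) (cond (Nat.beq c 242) [⟨149, -1, 1⟩] []))) (cond (Nat.blt c 245) (cond (Nat.blt c 244) (cond (Nat.beq c 243) [⟨150, -1, 1⟩] []) (cond (Nat.beq c 244) [⟨151, -1, 1⟩] [])) (cond (Nat.blt c 246) (cond (Nat.beq c 245) [⟨152, -1, 1⟩] []) (cond (Nat.blt c 247) (cond (Nat.beq c 246) [⟨153, -1, 1⟩] []) (cond (Nat.beq c 247) [⟨154, -1, 1⟩] [])))))))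

/-- Compiled columns of `x_8` for type E8. -/
def colsE8_8 (c : ℕ) : List CEnt :=
  cond (Nat.blt c 188) (cond (Nat.blt c 139) (cond (Nat.blt c 96) (cond (Nat.blt c 4) (cond (Nat.blt c 2) (cond (Nat.blt c 1) (cond (Nat.beq c 0) [⟨16, 1, 1⟩] []) (cond (Nat.beq c 1) [⟨16, -1, 1⟩] [])) (cond (Nat.blt c 3) (cond (Nat.beq c 2) [⟨16, -1, 1⟩] []) (cond (Nat.beq c 3) [⟨16, 1, 1⟩] []))) (cond (Nat.blt c 6) (cond (Nat.blt c 5) (cond (Nat.beq c 4) [⟨16, 0, 1⟩] []) (cond (Nat.beq c 5) [⟨16, 0, 1⟩] [])) (cond (Nat.blt c 7) (cond (Nat.beq c 6) [⟨16, 0, 1⟩] []) (cond (Nat.beq c 7) [⟨16, 0, 1⟩] [])))) (cond (Nat.blt c 100) (cond (Nat.blt c 98) (cond (Nat.blt c 97) (cond (Nat.beq c 96) [⟨8, -1, 1⟩] []) (cond (Nat.beq c 97) [⟨9, -1, 1⟩] [])) (cond (Nat.blt c 99) (cond (Nat.beq c 98) [⟨10, -1, 1⟩] []) (cond (Nat.beq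 c 99) [⟨11, -1, 1⟩] []))) (cond (Nat.blt c 112) (cond (Nat.blt c 106) (cond (Nat.beq c 100) [⟨12, -1, 1⟩] []) (cond (Nat.beq c 106) [⟨14, 1, 1⟩] [])) (cond (Nat.blt c 138) (cond (Nat.beq c 112) [⟨15, 1, 1⟩] []) (cond (Nat.beq c 138) [⟨17, 1, 1⟩] []))))) (cond (Nat.blt c 175) (cond (Nat.blt c 170) (cond (Nat.blt c 141) (cond (Nat.blt c 140) (cond (Nat.beq c 139) [⟨18, -1, 1⟩] []) (cond (Nat.beq c 140) [⟨19, 1, 1⟩] [])) (cond (Nat.blt c 142) (cond (Nat.beq c 141) [⟨20, -1, 1⟩] []) (cond (Nat.beq c 142) [⟨21, 1, 1⟩] []))) (cond (Nat.blt c 173) (cond (Nat.blt c 172) (cond (Nat.beq c 170) [⟨23, 1, 1⟩] []) (cond (Nat.beq c 172) [⟨29, -1, 1⟩] [])) (cond (Nat.blt c 174) (cond (Nat.beq c 173) [⟨30, 1, 1⟩] []) (cond (Nat.beq c 174) [⟨31, -1, 1⟩] [])))) (cond (Nat.blt c 184) (cond (Nat.blt c 182) (cond (Nat.blt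 c 176) (cond (Nat.beq c 175) [⟨32, 1, 1⟩] []) (cond (Nat.beq c 176) [⟨33, -1, 1⟩] [])) (cond (Nat.blt c 183) (cond (Nat.beq c 182) [⟨44, -1, 1⟩] []) (cond (Nat.beq c 183) [⟨45, 1, 1⟩] []))) (cond (Nat.blt c 186) (cond (Nat.blt c 185) (cond (Nat.beq c 184) [⟨46, -1, 1⟩] []) (cond (Nat.beq c 185) [⟨47, 1, 1⟩] [])) (cond (Nat.blt c 187) (cond (Nat.beq c 186) [⟨48, -1, 1⟩] []) (cond (Nat.beq c 187) [⟨49, 1, 1⟩] [])))))) (cond (Nat.blt c 224) (cond (Nat.blt c 206) (cond (Nat.blt c 202) (cond (Nat.blt c 190) (cond (Nat.blt c 189) (cond (Nat.beq c 188) [⟨50, -1, 1⟩] []) (cond (Nat.beq c 189) [⟨51, -1, 1⟩] [])) (cond (Nat.blt c 191) (cond (Nat.beq c 190) [⟨52, 1, 1⟩] []) (cond (Nat.beq c 191) [⟨53, -1, 1⟩] []))) (cond (Nat.blt c 204) (cond (Nat.blt c 203) (cond (Nat.beq c 202) [⟨64, 1, 1⟩] []) (cond (Nat.beq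 c 203) [⟨65, -1, 1⟩] [])) (cond (Nat.blt c 205) (cond (Nat.beq c 204) [⟨66, 1, 1⟩] []) (cond (Nat.beq c 205) [⟨67, 1, 1⟩] [])))) (cond (Nat.blt c 210) (cond (Nat.blt c 208) (cond (Nat.blt c 207) (cond (Nat.beq c 206) [⟨68, -1, 1⟩] []) (cond (Nat.beq c 207) [⟨69, 1, 1⟩] [])) (cond (Nat.blt c 209) (cond (Nat.beq c 208) [⟨70, -1, 1⟩] []) (cond (Nat.beq c 209) [⟨71, 1, 1⟩] []))) (cond (Nat.blt c 222) (cond (Nat.blt c 211) (cond (Nat.beq c 210) [⟨72, -1, 1⟩] []) (cond (Nat.beq c 211) [⟨73, 1, 1⟩] [])) (cond (Nat.blt c 223) (cond (Nat.beq c 222) [⟨79, 1, 1⟩] []) (cond (Nat.beq c 223) [⟨80, -1, 1⟩] []))))) (cond (Nat.blt c 238) (cond (Nat.blt c 234) (cond (Nat.blt c 226) (cond (Nat.blt c 225) (cond (Nat.beq c 224) [⟨81, 1, 1⟩] []) (cond (Nat.beq c 225) [⟨82, -1, 1⟩] [])) (cond (Nat.blt c 232) (cond (Nat.beq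 c 226) [⟨83, 1, 1⟩] []) (cond (Nat.beq c 232) [⟨85, -1, 1⟩] []))) (cond (Nat.blt c 236) (cond (Nat.blt c 235) (cond (Nat.beq c 234) [⟨113, -1, 1⟩] []) (cond (Nat.beq c 235) [⟨114, 1, 1⟩] [])) (cond (Nat.blt c 237) (cond (Nat.beq c 236) [⟨115, -1, 1⟩] []) (cond (Nat.beq c 237) [⟨116, 1, 1⟩] [])))) (cond (Nat.blt c 243) (cond (Nat.blt c 240) (cond (Nat.blt c 239) (cond (Nat.beq c 238) [⟨117, -1, 1⟩] []) (cond (Nat.beq c 239) [⟨16, -1, 2⟩, ⟨0, -2, 1⟩, ⟨1, -2, 1⟩, ⟨2, -3, 1⟩, ⟨3, -5, 1⟩, ⟨4, -4, 1⟩, ⟨5, -3, 1⟩, ⟨6, -2, 1⟩, ⟨7, -1, 1⟩] [])) (cond (Nat.blt c 241) (cond (Nat.beq c 240) [⟨143, -1, 1⟩] []) (cond (Nat.beq c 241) [⟨149, -1, 1⟩] []))) (cond (Nat.blt c 245) (cond (Nat.blt c 244) (cond (Nat.beq c 243) [⟨155, 1, 1⟩] []) (cond (Nat.beq c 244) [⟨156, 1, 1⟩] [])) (cond (Nat.blt c 246) (cond (Nat.beq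 c 245) [⟨157, 1, 1⟩] []) (cond (Nat.blt c 247) (cond (Nat.beq c 246) [⟨158, 1, 1⟩] []) (cond (Nat.beq c 247) [⟨159, 1, 1⟩] [])))))))

/-- Compiled columns of `x_9` for type E8. -/
def colsE8_9 (c : ℕ) : List CEnt :=
  cond (Nat.blt c 188) (cond (Nat.blt c 134) (cond (Nat.blt c 92) (cond (Nat.blt c 4) (cond (Nat.blt c 2) (cond (Nat.blt c 1) (cond (Nat.beq c 0) [⟨17, 1, 1⟩] []) (cond (Nat.beq c 1) [⟨17, 0, 1⟩] [])) (cond (Nat.blt c 3) (cond (Nat.beq c 2) [⟨17, 0, 1⟩] []) (cond (Nat.beq c 3) [⟨17, -1, 1⟩] []))) (cond (Nat.blt c 6) (cond (Nat.blt c 5) (cond (Nat.beq c 4) [⟨17, 1, 1⟩] []) (cond (Nat.beq c 5) [⟨17, 0, 1⟩] [])) (cond (Nat.blt c 7) (cond (Nat.beq c 6) [⟨17, 0, 1⟩] []) (cond (Nat.beq c 7) [⟨17, 0, 1⟩] [])))) (cond (Nat.blt c 100) (cond (Nat.blt c 94) (cond (Nat.blt c 93) (cond (Nat.beq c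 92) [⟨8, 1, 1⟩] []) (cond (Nat.beq c 93) [⟨9, 1, 1⟩] [])) (cond (Nat.blt c 95) (cond (Nat.beq c 94) [⟨10, 1, 1⟩] []) (cond (Nat.beq c 95) [⟨11, 1, 1⟩] []))) (cond (Nat.blt c 111) (cond (Nat.blt c 105) (cond (Nat.beq c 100) [⟨13, -1, 1⟩] []) (cond (Nat.beq c 105) [⟨14, -1, 1⟩] [])) (cond (Nat.blt c 117) (cond (Nat.beq c 111) [⟨15, -1, 1⟩] []) (cond (Nat.beq c 117) [⟨16, 1, 1⟩] []))))) (cond (Nat.blt c 175) (cond (Nat.blt c 170) (cond (Nat.blt c 136) (cond (Nat.blt c 135) (cond (Nat.beq c 134) [⟨18, 1, 1⟩] []) (cond (Nat.beq c 135) [⟨19, -1, 1⟩] [])) (cond (Nat.blt c 137) (cond (Nat.beq c 136) [⟨20, 1, 1⟩] []) (cond (Nat.beq c 137) [⟨21, -1, 1⟩] []))) (cond (Nat.blt c 173) (cond (Nat.blt c 171) (cond (Nat.beq c 170) [⟨24, 1, 1⟩] []) (cond (Nat.beq c 171) [⟨29, -1, 1⟩] [])) (cond (Nat.blt c 174) (cond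 (Nat.beq c 173) [⟨34, 1, 1⟩] []) (cond (Nat.beq c 174) [⟨35, -1, 1⟩] [])))) (cond (Nat.blt c 180) (cond (Nat.blt c 178) (cond (Nat.blt c 176) (cond (Nat.beq c 175) [⟨36, 1, 1⟩] []) (cond (Nat.beq c 176) [⟨37, -1, 1⟩] [])) (cond (Nat.blt c 179) (cond (Nat.beq c 178) [⟨44, -1, 1⟩] []) (cond (Nat.beq c 179) [⟨45, 1, 1⟩] []))) (cond (Nat.blt c 186) (cond (Nat.blt c 181) (cond (Nat.beq c 180) [⟨46, -1, 1⟩] []) (cond (Nat.beq c 181) [⟨47, 1, 1⟩] [])) (cond (Nat.blt c 187) (cond (Nat.beq c 186) [⟨54, -1, 1⟩] []) (cond (Nat.beq c 187) [⟨55, 1, 1⟩] [])))))) (cond (Nat.blt c 220) (cond (Nat.blt c 200) (cond (Nat.blt c 196) (cond (Nat.blt c 190) (cond (Nat.blt c 189) (cond (Nat.beq c 188) [⟨56, -1, 1⟩] []) (cond (Nat.beq c 189) [⟨57, -1, 1⟩] [])) (cond (Nat.blt c 191) (cond (Nat.beq c 190) [⟨58, 1, 1⟩] [])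 (cond (Nat.beq c 191) [⟨59, -1, 1⟩] []))) (cond (Nat.blt c 198) (cond (Nat.blt c 197) (cond (Nat.beq c 196) [⟨64, 1, 1⟩] []) (cond (Nat.beq c 197) [⟨65, -1, 1⟩] [])) (cond (Nat.blt c 199) (cond (Nat.beq c 198) [⟨66, 1, 1⟩] []) (cond (Nat.beq c 199) [⟨67, 1, 1⟩] [])))) (cond (Nat.blt c 210) (cond (Nat.blt c 208) (cond (Nat.blt c 201) (cond (Nat.beq c 200) [⟨68, -1, 1⟩] []) (cond (Nat.beq c 201) [⟨69, 1, 1⟩] [])) (cond (Nat.blt c 209) (cond (Nat.beq c 208) [⟨74, -1, 1⟩] []) (cond (Nat.beq c 209) [⟨75, 1, 1⟩] []))) (cond (Nat.blt c 218) (cond (Nat.blt c 211) (cond (Nat.beq c 210) [⟨76, -1, 1⟩] []) (cond (Nat.beq c 211) [⟨77, 1, 1⟩] [])) (cond (Nat.blt c 219) (cond (Nat.beq c 218) [⟨79, 1, 1⟩] []) (cond (Nat.beq c 219) [⟨80, -1, 1⟩] []))))) (cond (Nat.blt c 238) (cond (Nat.blt c 234) (cond (Nat.blt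 c 226) (cond (Nat.blt c 221) (cond (Nat.beq c 220) [⟨81, 1, 1⟩] []) (cond (Nat.beq c 221) [⟨82, -1, 1⟩] [])) (cond (Nat.blt c 231) (cond (Nat.beq c 226) [⟨84, 1, 1⟩] []) (cond (Nat.beq c 231) [⟨85, -1, 1⟩] []))) (cond (Nat.blt c 236) (cond (Nat.blt c 235) (cond (Nat.beq c 234) [⟨118, 1, 1⟩] []) (cond (Nat.beq c 235) [⟨119, -1, 1⟩] [])) (cond (Nat.blt c 237) (cond (Nat.beq c 236) [⟨120, 1, 1⟩] []) (cond (Nat.beq c 237) [⟨121, -1, 1⟩] [])))) (cond (Nat.blt c 242) (cond (Nat.blt c 240) (cond (Nat.blt c 239) (cond (Nat.beq c 238) [⟨17, -1, 2⟩, ⟨0, -2, 1⟩, ⟨1, -2, 1⟩, ⟨2, -3, 1⟩, ⟨3, -4, 1⟩, ⟨4, -4, 1⟩, ⟨5, -3, 1⟩, ⟨6, -2, 1⟩, ⟨7, -1, 1⟩] []) (cond (Nat.beq c 239) [⟨138, -1, 1⟩] [])) (cond (Nat.blt c 241) (cond (Nat.beq c 240) [⟨144, 1, 1⟩] []) (cond (Nat.beq c 241) [⟨150, 1, 1⟩] []))) (cond (Nat.blt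 c 245) (cond (Nat.blt c 244) (cond (Nat.beq c 242) [⟨155, 1, 1⟩] []) (cond (Nat.beq c 244) [⟨160, -1, 1⟩] [])) (cond (Nat.blt c 246) (cond (Nat.beq c 245) [⟨161, -1, 1⟩] []) (cond (Nat.blt c 247) (cond (Nat.beq c 246) [⟨162, -1, 1⟩] []) (cond (Nat.beq c 247) [⟨163, -1, 1⟩] [])))))))

/-- Compiled columns of `x_10` for type E8. -/
def colsE8_10 (c : ℕ) : List CEnt :=
  cond (Nat.blt c 185) (cond (Nat.blt c 121) (cond (Nat.blt c 89) (cond (Nat.blt c 4) (cond (Nat.blt c 2) (cond (Nat.blt c 1) (cond (Nat.beq c 0) [⟨18, 1, 1⟩] []) (cond (Nat.beq c 1) [⟨18, 0, 1⟩] [])) (cond (Nat.blt c 3) (cond (Nat.beq c 2) [⟨18, 0, 1⟩] []) (cond (Nat.beq c 3) [⟨18, 0, 1⟩] []))) (cond (Nat.blt c 6) (cond (Nat.blt c 5) (cond (Nat.beq c 4) [⟨18, -1, 1⟩] []) (cond (Nat.beq c 5) [⟨18, 1, 1⟩] [])) (cond (Nat.blt c 7) (cond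 (Nat.beq c 6) [⟨18, 0, 1⟩] []) (cond (Nat.beq c 7) [⟨18, 0, 1⟩] [])))) (cond (Nat.blt c 99) (cond (Nat.blt c 91) (cond (Nat.blt c 90) (cond (Nat.beq c 89) [⟨8, -1, 1⟩] []) (cond (Nat.beq c 90) [⟨9, -1, 1⟩] [])) (cond (Nat.blt c 95) (cond (Nat.beq c 91) [⟨10, -1, 1⟩] []) (cond (Nat.beq c 95) [⟨12, 1, 1⟩] []))) (cond (Nat.blt c 110) (cond (Nat.blt c 104) (cond (Nat.beq c 99) [⟨13, 1, 1⟩] []) (cond (Nat.beq c 104) [⟨14, 1, 1⟩] [])) (cond (Nat.blt c 116) (cond (Nat.beq c 110) [⟨15, 1, 1⟩] []) (cond (Nat.beq c 116) [⟨16, -1, 1⟩] []))))) (cond (Nat.blt c 175) (cond (Nat.blt c 170) (cond (Nat.blt c 132) (cond (Nat.blt c 131) (cond (Nat.beq c 121) [⟨17, 1, 1⟩] []) (cond (Nat.beq c 131) [⟨19, 1, 1⟩] [])) (cond (Nat.blt c 133) (cond (Nat.beq c 132) [⟨20, -1, 1⟩] []) (cond (Nat.beq c 133) [⟨21, 1, 1⟩] [])))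 (cond (Nat.blt c 172) (cond (Nat.blt c 171) (cond (Nat.beq c 170) [⟨25, 1, 1⟩] []) (cond (Nat.beq c 171) [⟨30, -1, 1⟩] [])) (cond (Nat.blt c 174) (cond (Nat.beq c 172) [⟨34, 1, 1⟩] []) (cond (Nat.beq c 174) [⟨38, -1, 1⟩] [])))) (cond (Nat.blt c 180) (cond (Nat.blt c 177) (cond (Nat.blt c 176) (cond (Nat.beq c 175) [⟨39, 1, 1⟩] []) (cond (Nat.beq c 176) [⟨40, -1, 1⟩] [])) (cond (Nat.blt c 179) (cond (Nat.beq c 177) [⟨44, -1, 1⟩] []) (cond (Nat.beq c 179) [⟨48, 1, 1⟩] []))) (cond (Nat.blt c 183) (cond (Nat.blt c 181) (cond (Nat.beq c 180) [⟨49, -1, 1⟩] []) (cond (Nat.beq c 181) [⟨50, 1, 1⟩] [])) (cond (Nat.blt c 184) (cond (Nat.beq c 183) [⟨54, -1, 1⟩] []) (cond (Nat.beq c 184) [⟨55, 1, 1⟩] [])))))) (cond (Nat.blt c 217) (cond (Nat.blt c 200) (cond (Nat.blt c 193) (cond (Nat.blt c 190) (cond (Nat.blt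 c 189) (cond (Nat.beq c 185) [⟨56, -1, 1⟩] []) (cond (Nat.beq c 189) [⟨60, -1, 1⟩] [])) (cond (Nat.blt c 191) (cond (Nat.beq c 190) [⟨61, 1, 1⟩] []) (cond (Nat.beq c 191) [⟨62, -1, 1⟩] []))) (cond (Nat.blt c 195) (cond (Nat.blt c 194) (cond (Nat.beq c 193) [⟨64, 1, 1⟩] []) (cond (Nat.beq c 194) [⟨65, -1, 1⟩] [])) (cond (Nat.blt c 199) (cond (Nat.beq c 195) [⟨66, 1, 1⟩] []) (cond (Nat.beq c 199) [⟨70, 1, 1⟩] [])))) (cond (Nat.blt c 207) (cond (Nat.blt c 205) (cond (Nat.blt c 201) (cond (Nat.beq c 200) [⟨71, -1, 1⟩] []) (cond (Nat.beq c 201) [⟨72, 1, 1⟩] [])) (cond (Nat.blt c 206) (cond (Nat.beq c 205) [⟨74, -1, 1⟩] []) (cond (Nat.beq c 206) [⟨75, 1, 1⟩] []))) (cond (Nat.blt c 215) (cond (Nat.blt c 211) (cond (Nat.beq c 207) [⟨76, -1, 1⟩] []) (cond (Nat.beq c 211) [⟨78, 1, 1⟩] [])) (cond (Nat.blt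 c 216) (cond (Nat.beq c 215) [⟨79, 1, 1⟩] []) (cond (Nat.beq c 216) [⟨80, -1, 1⟩] []))))) (cond (Nat.blt c 238) (cond (Nat.blt c 234) (cond (Nat.blt c 225) (cond (Nat.blt c 221) (cond (Nat.beq c 217) [⟨81, 1, 1⟩] []) (cond (Nat.beq c 221) [⟨83, -1, 1⟩] [])) (cond (Nat.blt c 230) (cond (Nat.beq c 225) [⟨84, 1, 1⟩] []) (cond (Nat.beq c 230) [⟨85, -1, 1⟩] []))) (cond (Nat.blt c 236) (cond (Nat.blt c 235) (cond (Nat.beq c 234) [⟨122, -1, 1⟩] []) (cond (Nat.beq c 235) [⟨123, 1, 1⟩] [])) (cond (Nat.blt c 237) (cond (Nat.beq c 236) [⟨124, -1, 1⟩] []) (cond (Nat.beq c 237) [⟨18, -1, 2⟩, ⟨0, -2, 1⟩, ⟨1, -2, 1⟩, ⟨2, -3, 1⟩, ⟨3, -4, 1⟩, ⟨4, -3, 1⟩, ⟨5, -3, 1⟩, ⟨6, -2, 1⟩, ⟨7, -1, 1⟩] [])))) (cond (Nat.blt c 242) (cond (Nat.blt c 240) (cond (Nat.blt c 239) (cond (Nat.beq c 238) [⟨134, -1, 1⟩] []) (cond (Nat.beq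 c 239) [⟨139, 1, 1⟩] [])) (cond (Nat.blt c 241) (cond (Nat.beq c 240) [⟨145, -1, 1⟩] []) (cond (Nat.beq c 241) [⟨151, -1, 1⟩] []))) (cond (Nat.blt c 245) (cond (Nat.blt c 243) (cond (Nat.beq c 242) [⟨156, -1, 1⟩] []) (cond (Nat.beq c 243) [⟨160, -1, 1⟩] [])) (cond (Nat.blt c 246) (cond (Nat.beq c 245) [⟨164, 1, 1⟩] []) (cond (Nat.blt c 247) (cond (Nat.beq c 246) [⟨165, 1, 1⟩] []) (cond (Nat.beq c 247) [⟨166, 1, 1⟩] [])))))))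

/-- Compiled columns of `x_11` for type E8. -/
def colsE8_11 (c : ℕ) : List CEnt :=
  cond (Nat.blt c 185) (cond (Nat.blt c 120) (cond (Nat.blt c 87) (cond (Nat.blt c 4) (cond (Nat.blt c 2) (cond (Nat.blt c 1) (cond (Nat.beq c 0) [⟨19, 1, 1⟩] []) (cond (Nat.beq c 1) [⟨19, 0, 1⟩] [])) (cond (Nat.blt c 3) (cond (Nat.beq c 2) [⟨19, 0, 1⟩] []) (cond (Nat.beq c 3) [⟨19, 0, 1⟩] []))) (cond (Nat.blt c 6) (cond (Nat.blt c 5) (cond (Nat.beq c 4) [⟨19, 0, 1⟩] []) (cond (Nat.beq c 5) [⟨19, -1, 1⟩] [])) (cond (Nat.blt c 7) (cond (Nat.beq c 6) [⟨19, 1, 1⟩] []) (cond (Nat.beq c 7) [⟨19, 0, 1⟩] [])))) (cond (Nat.blt c 98) (cond (Nat.blt c 91) (cond (Nat.blt c 88) (cond (Nat.beq c 87) [⟨8, 1, 1⟩] []) (cond (Nat.beq c 88) [⟨9, 1, 1⟩] [])) (cond (Nat.blt c 94) (cond (Nat.beq c 91) [⟨11, -1, 1⟩] []) (cond (Nat.beq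 c 94) [⟨12, -1, 1⟩] []))) (cond (Nat.blt c 109) (cond (Nat.blt c 103) (cond (Nat.beq c 98) [⟨13, -1, 1⟩] []) (cond (Nat.beq c 103) [⟨14, -1, 1⟩] [])) (cond (Nat.blt c 115) (cond (Nat.beq c 109) [⟨15, -1, 1⟩] []) (cond (Nat.beq c 115) [⟨16, 1, 1⟩] []))))) (cond (Nat.blt c 175) (cond (Nat.blt c 170) (cond (Nat.blt c 129) (cond (Nat.blt c 124) (cond (Nat.beq c 120) [⟨17, -1, 1⟩] []) (cond (Nat.beq c 124) [⟨18, 1, 1⟩] [])) (cond (Nat.blt c 130) (cond (Nat.beq c 129) [⟨20, 1, 1⟩] []) (cond (Nat.beq c 130) [⟨21, -1, 1⟩] []))) (cond (Nat.blt c 172) (cond (Nat.blt c 171) (cond (Nat.beq c 170) [⟨26, 1, 1⟩] []) (cond (Nat.beq c 171) [⟨31, -1, 1⟩] [])) (cond (Nat.blt c 173) (cond (Nat.beq c 172) [⟨35, 1, 1⟩] []) (cond (Nat.beq c 173) [⟨38, -1, 1⟩] [])))) (cond (Nat.blt c 180) (cond (Nat.blt c 177) (cond (Nat.blt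 c 176) (cond (Nat.beq c 175) [⟨41, 1, 1⟩] []) (cond (Nat.beq c 176) [⟨42, -1, 1⟩] [])) (cond (Nat.blt c 178) (cond (Nat.beq c 177) [⟨45, -1, 1⟩] []) (cond (Nat.beq c 178) [⟨48, 1, 1⟩] []))) (cond (Nat.blt c 182) (cond (Nat.blt c 181) (cond (Nat.beq c 180) [⟨51, -1, 1⟩] []) (cond (Nat.beq c 181) [⟨52, 1, 1⟩] [])) (cond (Nat.blt c 184) (cond (Nat.beq c 182) [⟨54, -1, 1⟩] []) (cond (Nat.beq c 184) [⟨57, 1, 1⟩] [])))))) (cond (Nat.blt c 217) (cond (Nat.blt c 198) (cond (Nat.blt c 192) (cond (Nat.blt c 188) (cond (Nat.blt c 187) (cond (Nat.beq c 185) [⟨58, -1, 1⟩] []) (cond (Nat.beq c 187) [⟨60, -1, 1⟩] [])) (cond (Nat.blt c 191) (cond (Nat.beq c 188) [⟨61, 1, 1⟩] []) (cond (Nat.beq c 191) [⟨63, -1, 1⟩] []))) (cond (Nat.blt c 195) (cond (Nat.blt c 194) (cond (Nat.beq c 192) [⟨64, 1, 1⟩] []) (cond (Nat.beq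 c 194) [⟨67, -1, 1⟩] [])) (cond (Nat.blt c 197) (cond (Nat.beq c 195) [⟨68, 1, 1⟩] []) (cond (Nat.beq c 197) [⟨70, 1, 1⟩] [])))) (cond (Nat.blt c 207) (cond (Nat.blt c 203) (cond (Nat.blt c 201) (cond (Nat.beq c 198) [⟨71, -1, 1⟩] []) (cond (Nat.beq c 201) [⟨73, 1, 1⟩] [])) (cond (Nat.blt c 204) (cond (Nat.beq c 203) [⟨74, -1, 1⟩] []) (cond (Nat.beq c 204) [⟨75, 1, 1⟩] []))) (cond (Nat.blt c 213) (cond (Nat.blt c 210) (cond (Nat.beq c 207) [⟨77, -1, 1⟩] []) (cond (Nat.beq c 210) [⟨78, 1, 1⟩] [])) (cond (Nat.blt c 214) (cond (Nat.beq c 213) [⟨79, 1, 1⟩] []) (cond (Nat.beq c 214) [⟨80, -1, 1⟩] []))))) (cond (Nat.blt c 238) (cond (Nat.blt c 234) (cond (Nat.blt c 224) (cond (Nat.blt c 220) (cond (Nat.beq c 217) [⟨82, 1, 1⟩] []) (cond (Nat.beq c 220) [⟨83, -1, 1⟩] [])) (cond (Nat.blt c 229) (cond (Nat.beq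 c 224) [⟨84, 1, 1⟩] []) (cond (Nat.beq c 229) [⟨85, -1, 1⟩] []))) (cond (Nat.blt c 236) (cond (Nat.blt c 235) (cond (Nat.beq c 234) [⟨125, 1, 1⟩] []) (cond (Nat.beq c 235) [⟨126, -1, 1⟩] [])) (cond (Nat.blt c 237) (cond (Nat.beq c 236) [⟨19, -1, 2⟩, ⟨0, -2, 1⟩, ⟨1, -2, 1⟩, ⟨2, -3, 1⟩, ⟨3, -4, 1⟩, ⟨4, -3, 1⟩, ⟨5, -2, 1⟩, ⟨6, -2, 1⟩, ⟨7, -1, 1⟩] []) (cond (Nat.beq c 237) [⟨131, -1, 1⟩] [])))) (cond (Nat.blt c 242) (cond (Nat.blt c 240) (cond (Nat.blt c 239) (cond (Nat.beq c 238) [⟨135, 1, 1⟩] []) (cond (Nat.beq c 239) [⟨140, -1, 1⟩] [])) (cond (Nat.blt c 241) (cond (Nat.beq c 240) [⟨146, 1, 1⟩] []) (cond (Nat.beq c 241) [⟨152, 1, 1⟩] []))) (cond (Nat.blt c 244) (cond (Nat.blt c 243) (cond (Nat.beq c 242) [⟨157, 1, 1⟩] []) (cond (Nat.beq c 243) [⟨161, 1, 1⟩] [])) (cond (Nat.blt c 246) (cond (Nat.beq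 c 244) [⟨164, 1, 1⟩] []) (cond (Nat.blt c 247) (cond (Nat.beq c 246) [⟨167, -1, 1⟩] []) (cond (Nat.beq c 247) [⟨168, -1, 1⟩] [])))))))

/-- Compiled columns of `x_12` for type E8. -/
def colsE8_12 (c : ℕ) : List CEnt :=
  cond (Nat.blt c 185) (cond (Nat.blt c 119) (cond (Nat.blt c 86) (cond (Nat.blt c 4) (cond (Nat.blt c 2) (cond (Nat.blt c 1) (cond (Nat.beq c 0) [⟨20, 1, 1⟩] []) (cond (Nat.beq c 1) [⟨20, 0, 1⟩] [])) (cond (Nat.blt c 3) (cond (Nat.beq c 2) [⟨20, 0, 1⟩] []) (cond (Nat.beq c 3) [⟨20, 0, 1⟩] []))) (cond (Nat.blt c 6) (cond (Nat.blt c 5) (cond (Nat.beq c 4) [⟨20, 0, 1⟩] []) (cond (Nat.beq c 5) [⟨20, 0, 1⟩] [])) (cond (Nat.blt c 7) (cond (Nat.beq c 6) [⟨20, -1, 1⟩] []) (cond (Nat.beq c 7) [⟨20, 1, 1⟩] [])))) (cond (Nat.blt c 97) (cond (Nat.blt c 90) (cond (Nat.blt c 88) (cond (Nat.beq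 c 86) [⟨8, -1, 1⟩] []) (cond (Nat.beq c 88) [⟨10, 1, 1⟩] [])) (cond (Nat.blt c 93) (cond (Nat.beq c 90) [⟨11, 1, 1⟩] []) (cond (Nat.beq c 93) [⟨12, 1, 1⟩] []))) (cond (Nat.blt c 108) (cond (Nat.blt c 102) (cond (Nat.beq c 97) [⟨13, 1, 1⟩] []) (cond (Nat.beq c 102) [⟨14, 1, 1⟩] [])) (cond (Nat.blt c 114) (cond (Nat.beq c 108) [⟨15, 1, 1⟩] []) (cond (Nat.beq c 114) [⟨16, -1, 1⟩] []))))) (cond (Nat.blt c 174) (cond (Nat.blt c 170) (cond (Nat.blt c 126) (cond (Nat.blt c 123) (cond (Nat.beq c 119) [⟨17, 1, 1⟩] []) (cond (Nat.beq c 123) [⟨18, -1, 1⟩] [])) (cond (Nat.blt c 128) (cond (Nat.beq c 126) [⟨19, 1, 1⟩] []) (cond (Nat.beq c 128) [⟨21, 1, 1⟩] []))) (cond (Nat.blt c 172) (cond (Nat.blt c 171) (cond (Nat.beq c 170) [⟨27, 1, 1⟩] []) (cond (Nat.beq c 171) [⟨32, -1, 1⟩] [])) (cond (Nat.blt c 173) (cond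 (Nat.beq c 172) [⟨36, 1, 1⟩] []) (cond (Nat.beq c 173) [⟨39, -1, 1⟩] [])))) (cond (Nat.blt c 179) (cond (Nat.blt c 177) (cond (Nat.blt c 176) (cond (Nat.beq c 174) [⟨41, 1, 1⟩] []) (cond (Nat.beq c 176) [⟨43, -1, 1⟩] [])) (cond (Nat.blt c 178) (cond (Nat.beq c 177) [⟨46, -1, 1⟩] []) (cond (Nat.beq c 178) [⟨49, 1, 1⟩] []))) (cond (Nat.blt c 182) (cond (Nat.blt c 181) (cond (Nat.beq c 179) [⟨51, -1, 1⟩] []) (cond (Nat.beq c 181) [⟨53, 1, 1⟩] [])) (cond (Nat.blt c 183) (cond (Nat.beq c 182) [⟨55, -1, 1⟩] []) (cond (Nat.beq c 183) [⟨57, 1, 1⟩] [])))))) (cond (Nat.blt c 216) (cond (Nat.blt c 198) (cond (Nat.blt c 192) (cond (Nat.blt c 188) (cond (Nat.blt c 186) (cond (Nat.beq c 185) [⟨59, -1, 1⟩] []) (cond (Nat.beq c 186) [⟨60, -1, 1⟩] [])) (cond (Nat.blt c 190) (cond (Nat.beq c 188) [⟨62, 1, 1⟩] [])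 (cond (Nat.beq c 190) [⟨63, -1, 1⟩] []))) (cond (Nat.blt c 195) (cond (Nat.blt c 193) (cond (Nat.beq c 192) [⟨65, 1, 1⟩] []) (cond (Nat.beq c 193) [⟨67, -1, 1⟩] [])) (cond (Nat.blt c 196) (cond (Nat.beq c 195) [⟨69, 1, 1⟩] []) (cond (Nat.beq c 196) [⟨70, 1, 1⟩] [])))) (cond (Nat.blt c 206) (cond (Nat.blt c 202) (cond (Nat.blt c 200) (cond (Nat.beq c 198) [⟨72, -1, 1⟩] []) (cond (Nat.beq c 200) [⟨73, 1, 1⟩] [])) (cond (Nat.blt c 204) (cond (Nat.beq c 202) [⟨74, -1, 1⟩] []) (cond (Nat.beq c 204) [⟨76, 1, 1⟩] []))) (cond (Nat.blt c 212) (cond (Nat.blt c 209) (cond (Nat.beq c 206) [⟨77, -1, 1⟩] []) (cond (Nat.beq c 209) [⟨78, 1, 1⟩] [])) (cond (Nat.blt c 214) (cond (Nat.beq c 212) [⟨79, 1, 1⟩] []) (cond (Nat.beq c 214) [⟨81, -1, 1⟩] []))))) (cond (Nat.blt c 238) (cond (Nat.blt c 234) (cond (Nat.blt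 c 223) (cond (Nat.blt c 219) (cond (Nat.beq c 216) [⟨82, 1, 1⟩] []) (cond (Nat.beq c 219) [⟨83, -1, 1⟩] [])) (cond (Nat.blt c 228) (cond (Nat.beq c 223) [⟨84, 1, 1⟩] []) (cond (Nat.beq c 228) [⟨85, -1, 1⟩] []))) (cond (Nat.blt c 236) (cond (Nat.blt c 235) (cond (Nat.beq c 234) [⟨127, -1, 1⟩] []) (cond (Nat.beq c 235) [⟨20, -1, 2⟩, ⟨0, -2, 1⟩, ⟨1, -2, 1⟩, ⟨2, -3, 1⟩, ⟨3, -4, 1⟩, ⟨4, -3, 1⟩, ⟨5, -2, 1⟩, ⟨6, -1, 1⟩, ⟨7, -1, 1⟩] [])) (cond (Nat.blt c 237) (cond (Nat.beq c 236) [⟨129, -1, 1⟩] []) (cond (Nat.beq c 237) [⟨132, 1, 1⟩] [])))) (cond (Nat.blt c 242) (cond (Nat.blt c 240) (cond (Nat.blt c 239) (cond (Nat.beq c 238) [⟨136, -1, 1⟩] []) (cond (Nat.beq c 239) [⟨141, 1, 1⟩] [])) (cond (Nat.blt c 241) (cond (Nat.beq c 240) [⟨147, -1, 1⟩] []) (cond (Nat.beq c 241) [⟨153, -1, 1⟩] []))) (cond (Nat.blt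 c 244) (cond (Nat.blt c 243) (cond (Nat.beq c 242) [⟨158, -1, 1⟩] []) (cond (Nat.beq c 243) [⟨162, -1, 1⟩] [])) (cond (Nat.blt c 245) (cond (Nat.beq c 244) [⟨165, -1, 1⟩] []) (cond (Nat.blt c 247) (cond (Nat.beq c 245) [⟨167, -1, 1⟩] []) (cond (Nat.beq c 247) [⟨169, 1, 1⟩] [])))))))

/-- Compiled columns of `x_13` for type E8. -/
def colsE8_13 (c : ℕ) : List CEnt :=
  cond (Nat.blt c 184) (cond (Nat.blt c 118) (cond (Nat.blt c 86) (cond (Nat.blt c 4) (cond (Nat.blt c 2) (cond (Nat.blt c 1) (cond (Nat.beq c 0) [⟨21, 1, 1⟩] []) (cond (Nat.beq c 1) [⟨21, 0, 1⟩] [])) (cond (Nat.blt c 3) (cond (Nat.beq c 2) [⟨21, 0, 1⟩] []) (cond (Nat.beq c 3) [⟨21, 0, 1⟩] []))) (cond (Nat.blt c 6) (cond (Nat.blt c 5) (cond (Nat.beq c 4) [⟨21, 0, 1⟩] []) (cond (Nat.beq c 5) [⟨21, 0, 1⟩] [])) (cond (Nat.blt c 7) (cond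 (Nat.beq c 6) [⟨21, 0, 1⟩] []) (cond (Nat.beq c 7) [⟨21, -1, 1⟩] [])))) (cond (Nat.blt c 96) (cond (Nat.blt c 89) (cond (Nat.blt c 87) (cond (Nat.beq c 86) [⟨9, -1, 1⟩] []) (cond (Nat.beq c 87) [⟨10, -1, 1⟩] [])) (cond (Nat.blt c 92) (cond (Nat.beq c 89) [⟨11, -1, 1⟩] []) (cond (Nat.beq c 92) [⟨12, -1, 1⟩] []))) (cond (Nat.blt c 107) (cond (Nat.blt c 101) (cond (Nat.beq c 96) [⟨13, -1, 1⟩] []) (cond (Nat.beq c 101) [⟨14, -1, 1⟩] [])) (cond (Nat.blt c 113) (cond (Nat.beq c 107) [⟨15, -1, 1⟩] []) (cond (Nat.beq c 113) [⟨16, 1, 1⟩] []))))) (cond (Nat.blt c 174) (cond (Nat.blt c 170) (cond (Nat.blt c 125) (cond (Nat.blt c 122) (cond (Nat.beq c 118) [⟨17, -1, 1⟩] []) (cond (Nat.beq c 122) [⟨18, 1, 1⟩] [])) (cond (Nat.blt c 127) (cond (Nat.beq c 125) [⟨19, -1, 1⟩] []) (cond (Nat.beq c 127) [⟨20, 1, 1⟩]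 []))) (cond (Nat.blt c 172) (cond (Nat.blt c 171) (cond (Nat.beq c 170) [⟨28, 1, 1⟩] []) (cond (Nat.beq c 171) [⟨33, -1, 1⟩] [])) (cond (Nat.blt c 173) (cond (Nat.beq c 172) [⟨37, 1, 1⟩] []) (cond (Nat.beq c 173) [⟨40, -1, 1⟩] [])))) (cond (Nat.blt c 179) (cond (Nat.blt c 177) (cond (Nat.blt c 175) (cond (Nat.beq c 174) [⟨42, 1, 1⟩] []) (cond (Nat.beq c 175) [⟨43, -1, 1⟩] [])) (cond (Nat.blt c 178) (cond (Nat.beq c 177) [⟨47, -1, 1⟩] []) (cond (Nat.beq c 178) [⟨50, 1, 1⟩] []))) (cond (Nat.blt c 182) (cond (Nat.blt c 180) (cond (Nat.beq c 179) [⟨52, -1, 1⟩] []) (cond (Nat.beq c 180) [⟨53, 1, 1⟩] [])) (cond (Nat.blt c 183) (cond (Nat.beq c 182) [⟨56, -1, 1⟩] []) (cond (Nat.beq c 183) [⟨58, 1, 1⟩] [])))))) (cond (Nat.blt c 215) (cond (Nat.blt c 197) (cond (Nat.blt c 192) (cond (Nat.blt c 187) (cond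 (Nat.blt c 186) (cond (Nat.beq c 184) [⟨59, -1, 1⟩] []) (cond (Nat.beq c 186) [⟨61, -1, 1⟩] [])) (cond (Nat.blt c 189) (cond (Nat.beq c 187) [⟨62, 1, 1⟩] []) (cond (Nat.beq c 189) [⟨63, -1, 1⟩] []))) (cond (Nat.blt c 194) (cond (Nat.blt c 193) (cond (Nat.beq c 192) [⟨66, 1, 1⟩] []) (cond (Nat.beq c 193) [⟨68, -1, 1⟩] [])) (cond (Nat.blt c 196) (cond (Nat.beq c 194) [⟨69, 1, 1⟩] []) (cond (Nat.beq c 196) [⟨71, 1, 1⟩] [])))) (cond (Nat.blt c 205) (cond (Nat.blt c 202) (cond (Nat.blt c 199) (cond (Nat.beq c 197) [⟨72, -1, 1⟩] []) (cond (Nat.beq c 199) [⟨73, 1, 1⟩] [])) (cond (Nat.blt c 203) (cond (Nat.beq c 202) [⟨75, -1, 1⟩] []) (cond (Nat.beq c 203) [⟨76, 1, 1⟩] []))) (cond (Nat.blt c 212) (cond (Nat.blt c 208) (cond (Nat.beq c 205) [⟨77, -1, 1⟩] []) (cond (Nat.beq c 208) [⟨78, 1, 1⟩] [])) (cond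 (Nat.blt c 213) (cond (Nat.beq c 212) [⟨80, 1, 1⟩] []) (cond (Nat.beq c 213) [⟨81, -1, 1⟩] []))))) (cond (Nat.blt c 238) (cond (Nat.blt c 234) (cond (Nat.blt c 222) (cond (Nat.blt c 218) (cond (Nat.beq c 215) [⟨82, 1, 1⟩] []) (cond (Nat.beq c 218) [⟨83, -1, 1⟩] [])) (cond (Nat.blt c 227) (cond (Nat.beq c 222) [⟨84, 1, 1⟩] []) (cond (Nat.beq c 227) [⟨85, -1, 1⟩] []))) (cond (Nat.blt c 236) (cond (Nat.blt c 235) (cond (Nat.beq c 234) [⟨21, -1, 2⟩, ⟨0, -2, 1⟩, ⟨1, -2, 1⟩, ⟨2, -3, 1⟩, ⟨3, -4, 1⟩, ⟨4, -3, 1⟩, ⟨5, -2, 1⟩, ⟨6, -1, 1⟩, ⟨7, 0, 1⟩] []) (cond (Nat.beq c 235) [⟨128, -1, 1⟩] [])) (cond (Nat.blt c 237) (cond (Nat.beq c 236) [⟨130, 1, 1⟩] []) (cond (Nat.beq c 237) [⟨133, -1, 1⟩] [])))) (cond (Nat.blt c 242) (cond (Nat.blt c 240) (cond (Nat.blt c 239) (cond (Nat.beq c 238) [⟨137, 1, 1⟩] []) (cond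 (Nat.beq c 239) [⟨142, -1, 1⟩] [])) (cond (Nat.blt c 241) (cond (Nat.beq c 240) [⟨148, 1, 1⟩] []) (cond (Nat.beq c 241) [⟨154, 1, 1⟩] []))) (cond (Nat.blt c 244) (cond (Nat.blt c 243) (cond (Nat.beq c 242) [⟨159, 1, 1⟩] []) (cond (Nat.beq c 243) [⟨163, 1, 1⟩] [])) (cond (Nat.blt c 245) (cond (Nat.beq c 244) [⟨166, 1, 1⟩] []) (cond (Nat.blt c 246) (cond (Nat.beq c 245) [⟨168, 1, 1⟩] []) (cond (Nat.beq c 246) [⟨169, 1, 1⟩] [])))))))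

/-- Compiled columns of `x_14` for type E8. -/
def colsE8_14 (c : ℕ) : List CEnt :=
  cond (Nat.blt c 166) (cond (Nat.blt c 150) (cond (Nat.blt c 79) (cond (Nat.blt c 4) (cond (Nat.blt c 2) (cond (Nat.blt c 1) (cond (Nat.beq c 0) [⟨22, -1, 1⟩] []) (cond (Nat.beq c 1) [⟨22, 1, 1⟩] [])) (cond (Nat.blt c 3) (cond (Nat.beq c 2) [⟨22, 0, 1⟩] []) (cond (Nat.beq c 3) [⟨22, 0, 1⟩] []))) (cond (Nat.blt c 6) (cond (Nat.blt c 5) (cond (Nat.beq c 4) [⟨22, 0, 1⟩] []) (cond (Nat.beq c 5) [⟨22, 0, 1⟩] [])) (cond (Nat.blt c 7) (cond (Nat.beq c 6) [⟨22, 0, 1⟩] []) (cond (Nat.beq c 7) [⟨22, 0, 1⟩] [])))) (cond (Nat.blt c 83) (cond (Nat.blt c 81) (cond (Nat.blt c 80) (cond (Nat.beq c 79) [⟨8, 1, 1⟩] []) (cond (Nat.beq c 80) [⟨9, 1, 1⟩] [])) (cond (Nat.blt c 82) (cond (Nat.beq c 81) [⟨10, 1, 1⟩] []) (cond (Nat.beq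 c 82) [⟨11, 1, 1⟩] []))) (cond (Nat.blt c 85) (cond (Nat.blt c 84) (cond (Nat.beq c 83) [⟨12, 1, 1⟩] []) (cond (Nat.beq c 84) [⟨13, 1, 1⟩] [])) (cond (Nat.blt c 149) (cond (Nat.beq c 85) [⟨14, 1, 1⟩] []) (cond (Nat.beq c 149) [⟨23, 1, 1⟩] []))))) (cond (Nat.blt c 158) (cond (Nat.blt c 154) (cond (Nat.blt c 152) (cond (Nat.blt c 151) (cond (Nat.beq c 150) [⟨24, -1, 1⟩] []) (cond (Nat.beq c 151) [⟨25, 1, 1⟩] [])) (cond (Nat.blt c 153) (cond (Nat.beq c 152) [⟨26, -1, 1⟩] []) (cond (Nat.beq c 153) [⟨27, 1, 1⟩] []))) (cond (Nat.blt c 156) (cond (Nat.blt c 155) (cond (Nat.beq c 154) [⟨28, -1, 1⟩] []) (cond (Nat.beq c 155) [⟨29, 1, 1⟩] [])) (cond (Nat.blt c 157) (cond (Nat.beq c 156) [⟨30, -1, 1⟩] []) (cond (Nat.beq c 157) [⟨31, 1, 1⟩] [])))) (cond (Nat.blt c 162) (cond (Nat.blt c 160) (cond (Nat.blt c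 159) (cond (Nat.beq c 158) [⟨32, -1, 1⟩] []) (cond (Nat.beq c 159) [⟨33, 1, 1⟩] [])) (cond (Nat.blt c 161) (cond (Nat.beq c 160) [⟨34, 1, 1⟩] []) (cond (Nat.beq c 161) [⟨35, -1, 1⟩] []))) (cond (Nat.blt c 164) (cond (Nat.blt c 163) (cond (Nat.beq c 162) [⟨36, 1, 1⟩] []) (cond (Nat.beq c 163) [⟨37, -1, 1⟩] [])) (cond (Nat.blt c 165) (cond (Nat.beq c 164) [⟨38, 1, 1⟩] []) (cond (Nat.beq c 165) [⟨39, -1, 1⟩] [])))))) (cond (Nat.blt c 224) (cond (Nat.blt c 216) (cond (Nat.blt c 212) (cond (Nat.blt c 168) (cond (Nat.blt c 167) (cond (Nat.beq c 166) [⟨40, 1, 1⟩] []) (cond (Nat.beq c 167) [⟨41, 1, 1⟩] [])) (cond (Nat.blt c 169) (cond (Nat.beq c 168) [⟨42, -1, 1⟩] []) (cond (Nat.beq c 169) [⟨43, 1, 1⟩] []))) (cond (Nat.blt c 214) (cond (Nat.blt c 213) (cond (Nat.beq c 212) [⟨86, -1, 1⟩] []) (cond (Nat.beq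 c 213) [⟨87, 1, 1⟩] [])) (cond (Nat.blt c 215) (cond (Nat.beq c 214) [⟨88, -1, 1⟩] []) (cond (Nat.beq c 215) [⟨89, -1, 1⟩] [])))) (cond (Nat.blt c 220) (cond (Nat.blt c 218) (cond (Nat.blt c 217) (cond (Nat.beq c 216) [⟨90, 1, 1⟩] []) (cond (Nat.beq c 217) [⟨91, -1, 1⟩] [])) (cond (Nat.blt c 219) (cond (Nat.beq c 218) [⟨92, 1, 1⟩] []) (cond (Nat.beq c 219) [⟨93, -1, 1⟩] []))) (cond (Nat.blt c 222) (cond (Nat.blt c 221) (cond (Nat.beq c 220) [⟨94, 1, 1⟩] []) (cond (Nat.beq c 221) [⟨95, -1, 1⟩] [])) (cond (Nat.blt c 223) (cond (Nat.beq c 222) [⟨96, -1, 1⟩] []) (cond (Nat.beq c 223) [⟨97, 1, 1⟩] []))))) (cond (Nat.blt c 232) (cond (Nat.blt c 228) (cond (Nat.blt c 226) (cond (Nat.blt c 225) (cond (Nat.beq c 224) [⟨98, -1, 1⟩] []) (cond (Nat.beq c 225) [⟨99, 1, 1⟩] [])) (cond (Nat.blt c 227) (cond (Nat.beq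 c 226) [⟨100, -1, 1⟩] []) (cond (Nat.beq c 227) [⟨101, 1, 1⟩] []))) (cond (Nat.blt c 230) (cond (Nat.blt c 229) (cond (Nat.beq c 228) [⟨102, -1, 1⟩] []) (cond (Nat.beq c 229) [⟨103, 1, 1⟩] [])) (cond (Nat.blt c 231) (cond (Nat.beq c 230) [⟨104, -1, 1⟩] []) (cond (Nat.beq c 231) [⟨105, 1, 1⟩] [])))) (cond (Nat.blt c 243) (cond (Nat.blt c 241) (cond (Nat.blt c 233) (cond (Nat.beq c 232) [⟨106, -1, 1⟩] []) (cond (Nat.beq c 233) [⟨22, -1, 2⟩, ⟨0, -1, 1⟩, ⟨1, -3, 1⟩, ⟨2, -3, 1⟩, ⟨3, -5, 1⟩, ⟨4, -4, 1⟩, ⟨5, -3, 1⟩, ⟨6, -2, 1⟩, ⟨7, -1, 1⟩] [])) (cond (Nat.blt c 242) (cond (Nat.beq c 241) [⟨170, -1, 1⟩] []) (cond (Nat.beq c 242) [⟨171, -1, 1⟩] []))) (cond (Nat.blt c 245) (cond (Nat.blt c 244) (cond (Nat.beq c 243) [⟨172, -1, 1⟩] []) (cond (Nat.beq c 244) [⟨173, -1, 1⟩] [])) (cond (Nat.blt c 246) (cond (Nat.beq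 c 245) [⟨174, -1, 1⟩] []) (cond (Nat.blt c 247) (cond (Nat.beq c 246) [⟨175, -1, 1⟩] []) (cond (Nat.beq c 247) [⟨176, -1, 1⟩] [])))))))

/-- Compiled columns of `x_15` for type E8. -/
def colsE8_15 (c : ℕ) : List CEnt :=
  cond (Nat.blt c 166) (cond (Nat.blt c 138) (cond (Nat.blt c 74) (cond (Nat.blt c 4) (cond (Nat.blt c 2) (cond (Nat.blt c 1) (cond (Nat.beq c 0) [⟨23, -1, 1⟩] []) (cond (Nat.beq c 1) [⟨23, -1, 1⟩] [])) (cond (Nat.blt c 3) (cond (Nat.beq c 2) [⟨23, 0, 1⟩] []) (cond (Nat.beq c 3) [⟨23, 1, 1⟩] []))) (cond (Nat.blt c 6) (cond (Nat.blt c 5) (cond (Nat.beq c 4) [⟨23, 0, 1⟩] []) (cond (Nat.beq c 5) [⟨23, 0, 1⟩] [])) (cond (Nat.blt c 7) (cond (Nat.beq c 6) [⟨23, 0, 1⟩] []) (cond (Nat.beq c 7) [⟨23, 0, 1⟩] [])))) (cond (Nat.blt c 78) (cond (Nat.blt c 76) (cond (Nat.blt c 75) (cond (Nat.beq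 c 74) [⟨8, -1, 1⟩] []) (cond (Nat.beq c 75) [⟨9, -1, 1⟩] [])) (cond (Nat.blt c 77) (cond (Nat.beq c 76) [⟨10, -1, 1⟩] []) (cond (Nat.beq c 77) [⟨11, -1, 1⟩] []))) (cond (Nat.blt c 85) (cond (Nat.blt c 84) (cond (Nat.beq c 78) [⟨12, -1, 1⟩] []) (cond (Nat.beq c 84) [⟨15, 1, 1⟩] [])) (cond (Nat.blt c 106) (cond (Nat.beq c 85) [⟨16, 1, 1⟩] []) (cond (Nat.beq c 106) [⟨22, 1, 1⟩] []))))) (cond (Nat.blt c 147) (cond (Nat.blt c 142) (cond (Nat.blt c 140) (cond (Nat.blt c 139) (cond (Nat.beq c 138) [⟨24, 1, 1⟩] []) (cond (Nat.beq c 139) [⟨25, -1, 1⟩] [])) (cond (Nat.blt c 141) (cond (Nat.beq c 140) [⟨26, 1, 1⟩] []) (cond (Nat.beq c 141) [⟨27, -1, 1⟩] []))) (cond (Nat.blt c 145) (cond (Nat.blt c 144) (cond (Nat.beq c 142) [⟨28, 1, 1⟩] []) (cond (Nat.beq c 144) [⟨29, 1, 1⟩] [])) (cond (Nat.blt c 146) (cond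 (Nat.beq c 145) [⟨30, -1, 1⟩] []) (cond (Nat.beq c 146) [⟨31, 1, 1⟩] [])))) (cond (Nat.blt c 162) (cond (Nat.blt c 160) (cond (Nat.blt c 148) (cond (Nat.beq c 147) [⟨32, -1, 1⟩] []) (cond (Nat.beq c 148) [⟨33, 1, 1⟩] [])) (cond (Nat.blt c 161) (cond (Nat.beq c 160) [⟨44, 1, 1⟩] []) (cond (Nat.beq c 161) [⟨45, -1, 1⟩] []))) (cond (Nat.blt c 164) (cond (Nat.blt c 163) (cond (Nat.beq c 162) [⟨46, 1, 1⟩] []) (cond (Nat.beq c 163) [⟨47, -1, 1⟩] [])) (cond (Nat.blt c 165) (cond (Nat.beq c 164) [⟨48, 1, 1⟩] []) (cond (Nat.beq c 165) [⟨49, -1, 1⟩] [])))))) (cond (Nat.blt c 224) (cond (Nat.blt c 206) (cond (Nat.blt c 202) (cond (Nat.blt c 168) (cond (Nat.blt c 167) (cond (Nat.beq c 166) [⟨50, 1, 1⟩] []) (cond (Nat.beq c 167) [⟨51, 1, 1⟩] [])) (cond (Nat.blt c 169) (cond (Nat.beq c 168) [⟨52, -1, 1⟩] [])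 (cond (Nat.beq c 169) [⟨53, 1, 1⟩] []))) (cond (Nat.blt c 204) (cond (Nat.blt c 203) (cond (Nat.beq c 202) [⟨86, -1, 1⟩] []) (cond (Nat.beq c 203) [⟨87, 1, 1⟩] [])) (cond (Nat.blt c 205) (cond (Nat.beq c 204) [⟨88, -1, 1⟩] []) (cond (Nat.beq c 205) [⟨89, -1, 1⟩] [])))) (cond (Nat.blt c 210) (cond (Nat.blt c 208) (cond (Nat.blt c 207) (cond (Nat.beq c 206) [⟨90, 1, 1⟩] []) (cond (Nat.beq c 207) [⟨91, -1, 1⟩] [])) (cond (Nat.blt c 209) (cond (Nat.beq c 208) [⟨92, 1, 1⟩] []) (cond (Nat.beq c 209) [⟨93, -1, 1⟩] []))) (cond (Nat.blt c 222) (cond (Nat.blt c 211) (cond (Nat.beq c 210) [⟨94, 1, 1⟩] []) (cond (Nat.beq c 211) [⟨95, -1, 1⟩] [])) (cond (Nat.blt c 223) (cond (Nat.beq c 222) [⟨107, -1, 1⟩] []) (cond (Nat.beq c 223) [⟨108, 1, 1⟩] []))))) (cond (Nat.blt c 232) (cond (Nat.blt c 228) (cond (Nat.blt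 c 226) (cond (Nat.blt c 225) (cond (Nat.beq c 224) [⟨109, -1, 1⟩] []) (cond (Nat.beq c 225) [⟨110, 1, 1⟩] [])) (cond (Nat.blt c 227) (cond (Nat.beq c 226) [⟨111, -1, 1⟩] []) (cond (Nat.beq c 227) [⟨113, -1, 1⟩] []))) (cond (Nat.blt c 230) (cond (Nat.blt c 229) (cond (Nat.beq c 228) [⟨114, 1, 1⟩] []) (cond (Nat.beq c 229) [⟨115, -1, 1⟩] [])) (cond (Nat.blt c 231) (cond (Nat.beq c 230) [⟨116, 1, 1⟩] []) (cond (Nat.beq c 231) [⟨117, -1, 1⟩] [])))) (cond (Nat.blt c 243) (cond (Nat.blt c 239) (cond (Nat.blt c 233) (cond (Nat.beq c 232) [⟨23, -1, 2⟩, ⟨0, -1, 1⟩, ⟨1, -2, 1⟩, ⟨2, -3, 1⟩, ⟨3, -5, 1⟩, ⟨4, -4, 1⟩, ⟨5, -3, 1⟩, ⟨6, -2, 1⟩, ⟨7, -1, 1⟩] []) (cond (Nat.beq c 233) [⟨149, -1, 1⟩] [])) (cond (Nat.blt c 240) (cond (Nat.beq c 239) [⟨170, -1, 1⟩] []) (cond (Nat.beq c 240) [⟨171, -1, 1⟩] []))) (cond (Nat.blt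 c 245) (cond (Nat.blt c 244) (cond (Nat.beq c 243) [⟨177, 1, 1⟩] []) (cond (Nat.beq c 244) [⟨178, 1, 1⟩] [])) (cond (Nat.blt c 246) (cond (Nat.beq c 245) [⟨179, 1, 1⟩] []) (cond (Nat.blt c 247) (cond (Nat.beq c 246) [⟨180, 1, 1⟩] []) (cond (Nat.beq c 247) [⟨181, 1, 1⟩] [])))))))

/-- Compiled columns of `x_16` for type E8. -/
def colsE8_16 (c : ℕ) : List CEnt :=
  cond (Nat.blt c 166) (cond (Nat.blt c 117) (cond (Nat.blt c 70) (cond (Nat.blt c 4) (cond (Nat.blt c 2) (cond (Nat.blt c 1) (cond (Nat.beq c 0) [⟨24, -1, 1⟩] []) (cond (Nat.beq c 1) [⟨24, 0, 1⟩] [])) (cond (Nat.blt c 3) (cond (Nat.beq c 2) [⟨24, 1, 1⟩] []) (cond (Nat.beq c 3) [⟨24, -1, 1⟩] []))) (cond (Nat.blt c 6) (cond (Nat.blt c 5) (cond (Nat.beq c 4) [⟨24, 1, 1⟩] []) (cond (Nat.beq c 5) [⟨24, 0, 1⟩] [])) (cond (Nat.blt c 7) (cond (Nat.beq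 c 6) [⟨24, 0, 1⟩] []) (cond (Nat.beq c 7) [⟨24, 0, 1⟩] [])))) (cond (Nat.blt c 78) (cond (Nat.blt c 72) (cond (Nat.blt c 71) (cond (Nat.beq c 70) [⟨8, 1, 1⟩] []) (cond (Nat.beq c 71) [⟨9, 1, 1⟩] [])) (cond (Nat.blt c 73) (cond (Nat.beq c 72) [⟨10, 1, 1⟩] []) (cond (Nat.beq c 73) [⟨11, 1, 1⟩] []))) (cond (Nat.blt c 85) (cond (Nat.blt c 83) (cond (Nat.beq c 78) [⟨13, -1, 1⟩] []) (cond (Nat.beq c 83) [⟨15, -1, 1⟩] [])) (cond (Nat.blt c 105) (cond (Nat.beq c 85) [⟨17, 1, 1⟩] []) (cond (Nat.beq c 105) [⟨22, -1, 1⟩] []))))) (cond (Nat.blt c 147) (cond (Nat.blt c 137) (cond (Nat.blt c 135) (cond (Nat.blt c 134) (cond (Nat.beq c 117) [⟨23, 1, 1⟩] []) (cond (Nat.beq c 134) [⟨25, 1, 1⟩] [])) (cond (Nat.blt c 136) (cond (Nat.beq c 135) [⟨26, -1, 1⟩] []) (cond (Nat.beq c 136) [⟨27, 1, 1⟩] []))) (cond (Nat.blt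 c 145) (cond (Nat.blt c 143) (cond (Nat.beq c 137) [⟨28, -1, 1⟩] []) (cond (Nat.beq c 143) [⟨29, 1, 1⟩] [])) (cond (Nat.blt c 146) (cond (Nat.beq c 145) [⟨34, -1, 1⟩] []) (cond (Nat.beq c 146) [⟨35, 1, 1⟩] [])))) (cond (Nat.blt c 158) (cond (Nat.blt c 156) (cond (Nat.blt c 148) (cond (Nat.beq c 147) [⟨36, -1, 1⟩] []) (cond (Nat.beq c 148) [⟨37, 1, 1⟩] [])) (cond (Nat.blt c 157) (cond (Nat.beq c 156) [⟨44, 1, 1⟩] []) (cond (Nat.beq c 157) [⟨45, -1, 1⟩] []))) (cond (Nat.blt c 164) (cond (Nat.blt c 159) (cond (Nat.beq c 158) [⟨46, 1, 1⟩] []) (cond (Nat.beq c 159) [⟨47, -1, 1⟩] [])) (cond (Nat.blt c 165) (cond (Nat.beq c 164) [⟨54, 1, 1⟩] []) (cond (Nat.beq c 165) [⟨55, -1, 1⟩] [])))))) (cond (Nat.blt c 220) (cond (Nat.blt c 200) (cond (Nat.blt c 196) (cond (Nat.blt c 168) (cond (Nat.blt c 167) (cond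 (Nat.beq c 166) [⟨56, 1, 1⟩] []) (cond (Nat.beq c 167) [⟨57, 1, 1⟩] [])) (cond (Nat.blt c 169) (cond (Nat.beq c 168) [⟨58, -1, 1⟩] []) (cond (Nat.beq c 169) [⟨59, 1, 1⟩] []))) (cond (Nat.blt c 198) (cond (Nat.blt c 197) (cond (Nat.beq c 196) [⟨86, -1, 1⟩] []) (cond (Nat.beq c 197) [⟨87, 1, 1⟩] [])) (cond (Nat.blt c 199) (cond (Nat.beq c 198) [⟨88, -1, 1⟩] []) (cond (Nat.beq c 199) [⟨89, -1, 1⟩] [])))) (cond (Nat.blt c 210) (cond (Nat.blt c 208) (cond (Nat.blt c 201) (cond (Nat.beq c 200) [⟨90, 1, 1⟩] []) (cond (Nat.beq c 201) [⟨91, -1, 1⟩] [])) (cond (Nat.blt c 209) (cond (Nat.beq c 208) [⟨96, 1, 1⟩] []) (cond (Nat.beq c 209) [⟨97, -1, 1⟩] []))) (cond (Nat.blt c 218) (cond (Nat.blt c 211) (cond (Nat.beq c 210) [⟨98, 1, 1⟩] []) (cond (Nat.beq c 211) [⟨99, -1, 1⟩] [])) (cond (Nat.blt c 219) (cond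 (Nat.beq c 218) [⟨107, -1, 1⟩] []) (cond (Nat.beq c 219) [⟨108, 1, 1⟩] []))))) (cond (Nat.blt c 232) (cond (Nat.blt c 228) (cond (Nat.blt c 226) (cond (Nat.blt c 221) (cond (Nat.beq c 220) [⟨109, -1, 1⟩] []) (cond (Nat.beq c 221) [⟨110, 1, 1⟩] [])) (cond (Nat.blt c 227) (cond (Nat.beq c 226) [⟨112, -1, 1⟩] []) (cond (Nat.beq c 227) [⟨118, 1, 1⟩] []))) (cond (Nat.blt c 230) (cond (Nat.blt c 229) (cond (Nat.beq c 228) [⟨119, -1, 1⟩] []) (cond (Nat.beq c 229) [⟨120, 1, 1⟩] [])) (cond (Nat.blt c 231) (cond (Nat.beq c 230) [⟨121, -1, 1⟩] []) (cond (Nat.beq c 231) [⟨24, -1, 2⟩, ⟨0, -1, 1⟩, ⟨1, -2, 1⟩, ⟨2, -3, 1⟩, ⟨3, -4, 1⟩, ⟨4, -4, 1⟩, ⟨5, -3, 1⟩, ⟨6, -2, 1⟩, ⟨7, -1, 1⟩] [])))) (cond (Nat.blt c 242) (cond (Nat.blt c 238) (cond (Nat.blt c 233) (cond (Nat.beq c 232) [⟨138, -1, 1⟩] []) (cond (Nat.beq c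 233) [⟨150, 1, 1⟩] [])) (cond (Nat.blt c 240) (cond (Nat.beq c 238) [⟨170, -1, 1⟩] []) (cond (Nat.beq c 240) [⟨172, 1, 1⟩] []))) (cond (Nat.blt c 245) (cond (Nat.blt c 244) (cond (Nat.beq c 242) [⟨177, 1, 1⟩] []) (cond (Nat.beq c 244) [⟨182, -1, 1⟩] [])) (cond (Nat.blt c 246) (cond (Nat.beq c 245) [⟨183, -1, 1⟩] []) (cond (Nat.blt c 247) (cond (Nat.beq c 246) [⟨184, -1, 1⟩] []) (cond (Nat.beq c 247) [⟨185, -1, 1⟩] [])))))))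

/-- Compiled columns of `x_17` for type E8. -/
def colsE8_17 (c : ℕ) : List CEnt :=
  cond (Nat.blt c 163) (cond (Nat.blt c 116) (cond (Nat.blt c 67) (cond (Nat.blt c 4) (cond (Nat.blt c 2) (cond (Nat.blt c 1) (cond (Nat.beq c 0) [⟨25, -1, 1⟩] []) (cond (Nat.beq c 1) [⟨25, 0, 1⟩] [])) (cond (Nat.blt c 3) (cond (Nat.beq c 2) [⟨25, 1, 1⟩] []) (cond (Nat.beq c 3) [⟨25, 0, 1⟩] []))) (cond (Nat.blt c 6) (cond (Nat.blt c 5) (cond (Nat.beq c 4) [⟨25, -1, 1⟩] []) (cond (Nat.beq c 5) [⟨25, 1, 1⟩] [])) (cond (Nat.blt c 7) (cond (Nat.beq c 6) [⟨25, 0, 1⟩] []) (cond (Nat.beq c 7) [⟨25, 0, 1⟩] [])))) (cond (Nat.blt c 77) (cond (Nat.blt c 69) (cond (Nat.blt c 68) (cond (Nat.beq c 67) [⟨8, -1, 1⟩] []) (cond (Nat.beq c 68) [⟨9, -1, 1⟩] [])) (cond (Nat.blt c 73) (cond (Nat.beq c 69) [⟨10, -1, 1⟩] []) (cond (Nat.beq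 c 73) [⟨12, 1, 1⟩] []))) (cond (Nat.blt c 85) (cond (Nat.blt c 82) (cond (Nat.beq c 77) [⟨13, 1, 1⟩] []) (cond (Nat.beq c 82) [⟨15, 1, 1⟩] [])) (cond (Nat.blt c 104) (cond (Nat.beq c 85) [⟨18, 1, 1⟩] []) (cond (Nat.beq c 104) [⟨22, 1, 1⟩] []))))) (cond (Nat.blt c 147) (cond (Nat.blt c 133) (cond (Nat.blt c 131) (cond (Nat.blt c 121) (cond (Nat.beq c 116) [⟨23, -1, 1⟩] []) (cond (Nat.beq c 121) [⟨24, 1, 1⟩] [])) (cond (Nat.blt c 132) (cond (Nat.beq c 131) [⟨26, 1, 1⟩] []) (cond (Nat.beq c 132) [⟨27, -1, 1⟩] []))) (cond (Nat.blt c 144) (cond (Nat.blt c 143) (cond (Nat.beq c 133) [⟨28, 1, 1⟩] []) (cond (Nat.beq c 143) [⟨30, 1, 1⟩] [])) (cond (Nat.blt c 146) (cond (Nat.beq c 144) [⟨34, -1, 1⟩] []) (cond (Nat.beq c 146) [⟨38, 1, 1⟩] [])))) (cond (Nat.blt c 158) (cond (Nat.blt c 155) (cond (Nat.blt c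 148) (cond (Nat.beq c 147) [⟨39, -1, 1⟩] []) (cond (Nat.beq c 148) [⟨40, 1, 1⟩] [])) (cond (Nat.blt c 157) (cond (Nat.beq c 155) [⟨44, 1, 1⟩] []) (cond (Nat.beq c 157) [⟨48, -1, 1⟩] []))) (cond (Nat.blt c 161) (cond (Nat.blt c 159) (cond (Nat.beq c 158) [⟨49, 1, 1⟩] []) (cond (Nat.beq c 159) [⟨50, -1, 1⟩] [])) (cond (Nat.blt c 162) (cond (Nat.beq c 161) [⟨54, 1, 1⟩] []) (cond (Nat.beq c 162) [⟨55, -1, 1⟩] [])))))) (cond (Nat.blt c 217) (cond (Nat.blt c 200) (cond (Nat.blt c 193) (cond (Nat.blt c 168) (cond (Nat.blt c 167) (cond (Nat.beq c 163) [⟨56, 1, 1⟩] []) (cond (Nat.beq c 167) [⟨60, 1, 1⟩] [])) (cond (Nat.blt c 169) (cond (Nat.beq c 168) [⟨61, -1, 1⟩] []) (cond (Nat.beq c 169) [⟨62, 1, 1⟩] []))) (cond (Nat.blt c 195) (cond (Nat.blt c 194) (cond (Nat.beq c 193) [⟨86, -1, 1⟩] []) (cond (Nat.beq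 c 194) [⟨87, 1, 1⟩] [])) (cond (Nat.blt c 199) (cond (Nat.beq c 195) [⟨88, -1, 1⟩] []) (cond (Nat.beq c 199) [⟨92, -1, 1⟩] [])))) (cond (Nat.blt c 207) (cond (Nat.blt c 205) (cond (Nat.blt c 201) (cond (Nat.beq c 200) [⟨93, 1, 1⟩] []) (cond (Nat.beq c 201) [⟨94, -1, 1⟩] [])) (cond (Nat.blt c 206) (cond (Nat.beq c 205) [⟨96, 1, 1⟩] []) (cond (Nat.beq c 206) [⟨97, -1, 1⟩] []))) (cond (Nat.blt c 215) (cond (Nat.blt c 211) (cond (Nat.beq c 207) [⟨98, 1, 1⟩] []) (cond (Nat.beq c 211) [⟨100, -1, 1⟩] [])) (cond (Nat.blt c 216) (cond (Nat.beq c 215) [⟨107, -1, 1⟩] []) (cond (Nat.beq c 216) [⟨108, 1, 1⟩] []))))) (cond (Nat.blt c 232) (cond (Nat.blt c 228) (cond (Nat.blt c 225) (cond (Nat.blt c 221) (cond (Nat.beq c 217) [⟨109, -1, 1⟩] []) (cond (Nat.beq c 221) [⟨111, 1, 1⟩] [])) (cond (Nat.blt c 227) (cond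 (Nat.beq c 225) [⟨112, -1, 1⟩] []) (cond (Nat.beq c 227) [⟨122, -1, 1⟩] []))) (cond (Nat.blt c 230) (cond (Nat.blt c 229) (cond (Nat.beq c 228) [⟨123, 1, 1⟩] []) (cond (Nat.beq c 229) [⟨124, -1, 1⟩] [])) (cond (Nat.blt c 231) (cond (Nat.beq c 230) [⟨25, -1, 2⟩, ⟨0, -1, 1⟩, ⟨1, -2, 1⟩, ⟨2, -3, 1⟩, ⟨3, -4, 1⟩, ⟨4, -3, 1⟩, ⟨5, -3, 1⟩, ⟨6, -2, 1⟩, ⟨7, -1, 1⟩] []) (cond (Nat.beq c 231) [⟨134, -1, 1⟩] [])))) (cond (Nat.blt c 242) (cond (Nat.blt c 237) (cond (Nat.blt c 233) (cond (Nat.beq c 232) [⟨139, 1, 1⟩] []) (cond (Nat.beq c 233) [⟨151, -1, 1⟩] [])) (cond (Nat.blt c 240) (cond (Nat.beq c 237) [⟨170, -1, 1⟩] []) (cond (Nat.beq c 240) [⟨173, -1, 1⟩] []))) (cond (Nat.blt c 245) (cond (Nat.blt c 243) (cond (Nat.beq c 242) [⟨178, -1, 1⟩] []) (cond (Nat.beq c 243) [⟨182, -1, 1⟩] [])) (cond (Nat.blt c 246)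 (cond (Nat.beq c 245) [⟨186, 1, 1⟩] []) (cond (Nat.blt c 247) (cond (Nat.beq c 246) [⟨187, 1, 1⟩] []) (cond (Nat.beq c 247) [⟨188, 1, 1⟩] [])))))))

/-- Compiled columns of `x_18` for type E8. -/
def colsE8_18 (c : ℕ) : List CEnt :=
  cond (Nat.blt c 163) (cond (Nat.blt c 115) (cond (Nat.blt c 65) (cond (Nat.blt c 4) (cond (Nat.blt c 2) (cond (Nat.blt c 1) (cond (Nat.beq c 0) [⟨26, -1, 1⟩] []) (cond (Nat.beq c 1) [⟨26, 0, 1⟩] [])) (cond (Nat.blt c 3) (cond (Nat.beq c 2) [⟨26, 1, 1⟩] []) (cond (Nat.beq c 3) [⟨26, 0, 1⟩] []))) (cond (Nat.blt c 6) (cond (Nat.blt c 5) (cond (Nat.beq c 4) [⟨26, 0, 1⟩] []) (cond (Nat.beq c 5) [⟨26, -1, 1⟩] [])) (cond (Nat.blt c 7) (cond (Nat.beq c 6) [⟨26, 1, 1⟩] []) (cond (Nat.beq c 7) [⟨26, 0, 1⟩] [])))) (cond (Nat.blt c 76) (cond (Nat.blt c 69) (cond (Nat.blt c 66)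 (cond (Nat.beq c 65) [⟨8, 1, 1⟩] []) (cond (Nat.beq c 66) [⟨9, 1, 1⟩] [])) (cond (Nat.blt c 72) (cond (Nat.beq c 69) [⟨11, -1, 1⟩] []) (cond (Nat.beq c 72) [⟨12, -1, 1⟩] []))) (cond (Nat.blt c 85) (cond (Nat.blt c 81) (cond (Nat.beq c 76) [⟨13, -1, 1⟩] []) (cond (Nat.beq c 81) [⟨15, -1, 1⟩] [])) (cond (Nat.blt c 103) (cond (Nat.beq c 85) [⟨19, 1, 1⟩] []) (cond (Nat.beq c 103) [⟨22, -1, 1⟩] []))))) (cond (Nat.blt c 147) (cond (Nat.blt c 130) (cond (Nat.blt c 124) (cond (Nat.blt c 120) (cond (Nat.beq c 115) [⟨23, 1, 1⟩] []) (cond (Nat.beq c 120) [⟨24, -1, 1⟩] [])) (cond (Nat.blt c 129) (cond (Nat.beq c 124) [⟨25, 1, 1⟩] []) (cond (Nat.beq c 129) [⟨27, 1, 1⟩] []))) (cond (Nat.blt c 144) (cond (Nat.blt c 143) (cond (Nat.beq c 130) [⟨28, -1, 1⟩] []) (cond (Nat.beq c 143) [⟨31, 1, 1⟩] [])) (cond (Nat.blt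 c 145) (cond (Nat.beq c 144) [⟨35, -1, 1⟩] []) (cond (Nat.beq c 145) [⟨38, 1, 1⟩] [])))) (cond (Nat.blt c 158) (cond (Nat.blt c 155) (cond (Nat.blt c 148) (cond (Nat.beq c 147) [⟨41, -1, 1⟩] []) (cond (Nat.beq c 148) [⟨42, 1, 1⟩] [])) (cond (Nat.blt c 156) (cond (Nat.beq c 155) [⟨45, 1, 1⟩] []) (cond (Nat.beq c 156) [⟨48, -1, 1⟩] []))) (cond (Nat.blt c 160) (cond (Nat.blt c 159) (cond (Nat.beq c 158) [⟨51, 1, 1⟩] []) (cond (Nat.beq c 159) [⟨52, -1, 1⟩] [])) (cond (Nat.blt c 162) (cond (Nat.beq c 160) [⟨54, 1, 1⟩] []) (cond (Nat.beq c 162) [⟨57, -1, 1⟩] [])))))) (cond (Nat.blt c 217) (cond (Nat.blt c 198) (cond (Nat.blt c 192) (cond (Nat.blt c 166) (cond (Nat.blt c 165) (cond (Nat.beq c 163) [⟨58, 1, 1⟩] []) (cond (Nat.beq c 165) [⟨60, 1, 1⟩] [])) (cond (Nat.blt c 169) (cond (Nat.beq c 166) [⟨61,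 -1, 1⟩] []) (cond (Nat.beq c 169) [⟨63, 1, 1⟩] []))) (cond (Nat.blt c 195) (cond (Nat.blt c 194) (cond (Nat.beq c 192) [⟨86, -1, 1⟩] []) (cond (Nat.beq c 194) [⟨89, 1, 1⟩] [])) (cond (Nat.blt c 197) (cond (Nat.beq c 195) [⟨90, -1, 1⟩] []) (cond (Nat.beq c 197) [⟨92, -1, 1⟩] [])))) (cond (Nat.blt c 207) (cond (Nat.blt c 203) (cond (Nat.blt c 201) (cond (Nat.beq c 198) [⟨93, 1, 1⟩] []) (cond (Nat.beq c 201) [⟨95, -1, 1⟩] [])) (cond (Nat.blt c 204) (cond (Nat.beq c 203) [⟨96, 1, 1⟩] []) (cond (Nat.beq c 204) [⟨97, -1, 1⟩] []))) (cond (Nat.blt c 213) (cond (Nat.blt c 210) (cond (Nat.beq c 207) [⟨99, 1, 1⟩] []) (cond (Nat.beq c 210) [⟨100, -1, 1⟩] [])) (cond (Nat.blt c 214) (cond (Nat.beq c 213) [⟨107, -1, 1⟩] []) (cond (Nat.beq c 214) [⟨108, 1, 1⟩] []))))) (cond (Nat.blt c 232) (cond (Nat.blt c 228)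 (cond (Nat.blt c 224) (cond (Nat.blt c 220) (cond (Nat.beq c 217) [⟨110, -1, 1⟩] []) (cond (Nat.beq c 220) [⟨111, 1, 1⟩] [])) (cond (Nat.blt c 227) (cond (Nat.beq c 224) [⟨112, -1, 1⟩] []) (cond (Nat.beq c 227) [⟨125, 1, 1⟩] []))) (cond (Nat.blt c 230) (cond (Nat.blt c 229) (cond (Nat.beq c 228) [⟨126, -1, 1⟩] []) (cond (Nat.beq c 229) [⟨26, -1, 2⟩, ⟨0, -1, 1⟩, ⟨1, -2, 1⟩, ⟨2, -3, 1⟩, ⟨3, -4, 1⟩, ⟨4, -3, 1⟩, ⟨5, -2, 1⟩, ⟨6, -2, 1⟩, ⟨7, -1, 1⟩] [])) (cond (Nat.blt c 231) (cond (Nat.beq c 230) [⟨131, -1, 1⟩] []) (cond (Nat.beq c 231) [⟨135, 1, 1⟩] [])))) (cond (Nat.blt c 242) (cond (Nat.blt c 236) (cond (Nat.blt c 233) (cond (Nat.beq c 232) [⟨140, -1, 1⟩] []) (cond (Nat.beq c 233) [⟨152, 1, 1⟩] [])) (cond (Nat.blt c 240) (cond (Nat.beq c 236) [⟨170, -1, 1⟩] []) (cond (Nat.beq c 240) [⟨174, 1, 1⟩]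 []))) (cond (Nat.blt c 244) (cond (Nat.blt c 243) (cond (Nat.beq c 242) [⟨179, 1, 1⟩] []) (cond (Nat.beq c 243) [⟨183, 1, 1⟩] [])) (cond (Nat.blt c 246) (cond (Nat.beq c 244) [⟨186, 1, 1⟩] []) (cond (Nat.blt c 247) (cond (Nat.beq c 246) [⟨189, -1, 1⟩] []) (cond (Nat.beq c 247) [⟨190, -1, 1⟩] [])))))))

/-- Compiled columns of `x_19` for type E8. -/
def colsE8_19 (c : ℕ) : List CEnt :=
  cond (Nat.blt c 163) (cond (Nat.blt c 114) (cond (Nat.blt c 64) (cond (Nat.blt c 4) (cond (Nat.blt c 2) (cond (Nat.blt c 1) (cond (Nat.beq c 0) [⟨27, -1, 1⟩] []) (cond (Nat.beq c 1) [⟨27, 0, 1⟩] [])) (cond (Nat.blt c 3) (cond (Nat.beq c 2) [⟨27, 1, 1⟩] []) (cond (Nat.beq c 3) [⟨27, 0, 1⟩] []))) (cond (Nat.blt c 6) (cond (Nat.blt c 5) (cond (Nat.beq c 4) [⟨27, 0, 1⟩] []) (cond (Nat.beq c 5) [⟨27, 0, 1⟩] [])) (cond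 (Nat.blt c 7) (cond (Nat.beq c 6) [⟨27, -1, 1⟩] []) (cond (Nat.beq c 7) [⟨27, 1, 1⟩] [])))) (cond (Nat.blt c 75) (cond (Nat.blt c 68) (cond (Nat.blt c 66) (cond (Nat.beq c 64) [⟨8, -1, 1⟩] []) (cond (Nat.beq c 66) [⟨10, 1, 1⟩] [])) (cond (Nat.blt c 71) (cond (Nat.beq c 68) [⟨11, 1, 1⟩] []) (cond (Nat.beq c 71) [⟨12, 1, 1⟩] []))) (cond (Nat.blt c 85) (cond (Nat.blt c 80) (cond (Nat.beq c 75) [⟨13, 1, 1⟩] []) (cond (Nat.beq c 80) [⟨15, 1, 1⟩] [])) (cond (Nat.blt c 102) (cond (Nat.beq c 85) [⟨20, 1, 1⟩] []) (cond (Nat.beq c 102) [⟨22, 1, 1⟩] []))))) (cond (Nat.blt c 146) (cond (Nat.blt c 128) (cond (Nat.blt c 123) (cond (Nat.blt c 119) (cond (Nat.beq c 114) [⟨23, -1, 1⟩] []) (cond (Nat.beq c 119) [⟨24, 1, 1⟩] [])) (cond (Nat.blt c 126) (cond (Nat.beq c 123) [⟨25, -1, 1⟩] []) (cond (Nat.beq c 126) [⟨26,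 1, 1⟩] []))) (cond (Nat.blt c 144) (cond (Nat.blt c 143) (cond (Nat.beq c 128) [⟨28, 1, 1⟩] []) (cond (Nat.beq c 143) [⟨32, 1, 1⟩] [])) (cond (Nat.blt c 145) (cond (Nat.beq c 144) [⟨36, -1, 1⟩] []) (cond (Nat.beq c 145) [⟨39, 1, 1⟩] [])))) (cond (Nat.blt c 157) (cond (Nat.blt c 155) (cond (Nat.blt c 148) (cond (Nat.beq c 146) [⟨41, -1, 1⟩] []) (cond (Nat.beq c 148) [⟨43, 1, 1⟩] [])) (cond (Nat.blt c 156) (cond (Nat.beq c 155) [⟨46, 1, 1⟩] []) (cond (Nat.beq c 156) [⟨49, -1, 1⟩] []))) (cond (Nat.blt c 160) (cond (Nat.blt c 159) (cond (Nat.beq c 157) [⟨51, 1, 1⟩] []) (cond (Nat.beq c 159) [⟨53, -1, 1⟩] [])) (cond (Nat.blt c 161) (cond (Nat.beq c 160) [⟨55, 1, 1⟩] []) (cond (Nat.beq c 161) [⟨57, -1, 1⟩] [])))))) (cond (Nat.blt c 216) (cond (Nat.blt c 198) (cond (Nat.blt c 192) (cond (Nat.blt c 166)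 (cond (Nat.blt c 164) (cond (Nat.beq c 163) [⟨59, 1, 1⟩] []) (cond (Nat.beq c 164) [⟨60, 1, 1⟩] [])) (cond (Nat.blt c 168) (cond (Nat.beq c 166) [⟨62, -1, 1⟩] []) (cond (Nat.beq c 168) [⟨63, 1, 1⟩] []))) (cond (Nat.blt c 195) (cond (Nat.blt c 193) (cond (Nat.beq c 192) [⟨87, -1, 1⟩] []) (cond (Nat.beq c 193) [⟨89, 1, 1⟩] [])) (cond (Nat.blt c 196) (cond (Nat.beq c 195) [⟨91, -1, 1⟩] []) (cond (Nat.beq c 196) [⟨92, -1, 1⟩] [])))) (cond (Nat.blt c 206) (cond (Nat.blt c 202) (cond (Nat.blt c 200) (cond (Nat.beq c 198) [⟨94, 1, 1⟩] []) (cond (Nat.beq c 200) [⟨95, -1, 1⟩] [])) (cond (Nat.blt c 204) (cond (Nat.beq c 202) [⟨96, 1, 1⟩] []) (cond (Nat.beq c 204) [⟨98, -1, 1⟩] []))) (cond (Nat.blt c 212) (cond (Nat.blt c 209) (cond (Nat.beq c 206) [⟨99, 1, 1⟩] []) (cond (Nat.beq c 209) [⟨100, -1, 1⟩] []))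 (cond (Nat.blt c 214) (cond (Nat.beq c 212) [⟨107, -1, 1⟩] []) (cond (Nat.beq c 214) [⟨109, 1, 1⟩] []))))) (cond (Nat.blt c 232) (cond (Nat.blt c 228) (cond (Nat.blt c 223) (cond (Nat.blt c 219) (cond (Nat.beq c 216) [⟨110, -1, 1⟩] []) (cond (Nat.beq c 219) [⟨111, 1, 1⟩] [])) (cond (Nat.blt c 227) (cond (Nat.beq c 223) [⟨112, -1, 1⟩] []) (cond (Nat.beq c 227) [⟨127, -1, 1⟩] []))) (cond (Nat.blt c 230) (cond (Nat.blt c 229) (cond (Nat.beq c 228) [⟨27, -1, 2⟩, ⟨0, -1, 1⟩, ⟨1, -2, 1⟩, ⟨2, -3, 1⟩, ⟨3, -4, 1⟩, ⟨4, -3, 1⟩, ⟨5, -2, 1⟩, ⟨6, -1, 1⟩, ⟨7, -1, 1⟩] []) (cond (Nat.beq c 229) [⟨129, -1, 1⟩] [])) (cond (Nat.blt c 231) (cond (Nat.beq c 230) [⟨132, 1, 1⟩] []) (cond (Nat.beq c 231) [⟨136, -1, 1⟩] [])))) (cond (Nat.blt c 242) (cond (Nat.blt c 235) (cond (Nat.blt c 233) (cond (Nat.beq c 232) [⟨141,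 1, 1⟩] []) (cond (Nat.beq c 233) [⟨153, -1, 1⟩] [])) (cond (Nat.blt c 240) (cond (Nat.beq c 235) [⟨170, -1, 1⟩] []) (cond (Nat.beq c 240) [⟨175, -1, 1⟩] []))) (cond (Nat.blt c 244) (cond (Nat.blt c 243) (cond (Nat.beq c 242) [⟨180, -1, 1⟩] []) (cond (Nat.beq c 243) [⟨184, -1, 1⟩] [])) (cond (Nat.blt c 245) (cond (Nat.beq c 244) [⟨187, -1, 1⟩] []) (cond (Nat.blt c 247) (cond (Nat.beq c 245) [⟨189, -1, 1⟩] []) (cond (Nat.beq c 247) [⟨191, 1, 1⟩] [])))))))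

/-- Compiled columns of `x_20` for type E8. -/
def colsE8_20 (c : ℕ) : List CEnt :=
  cond (Nat.blt c 162) (cond (Nat.blt c 113) (cond (Nat.blt c 64) (cond (Nat.blt c 4) (cond (Nat.blt c 2) (cond (Nat.blt c 1) (cond (Nat.beq c 0) [⟨28, -1, 1⟩] []) (cond (Nat.beq c 1) [⟨28, 0, 1⟩] [])) (cond (Nat.blt c 3) (cond (Nat.beq c 2) [⟨28, 1, 1⟩] []) (cond (Nat.beq c 3) [⟨28, 0, 1⟩] []))) (cond (Nat.blt c 6) (cond (Nat.blt c 5) (cond (Nat.beq c 4) [⟨28, 0, 1⟩] []) (cond (Nat.beq c 5) [⟨28, 0, 1⟩] [])) (cond (Nat.blt c 7) (cond (Nat.beq c 6) [⟨28, 0, 1⟩] []) (cond (Nat.beq c 7) [⟨28, -1, 1⟩] [])))) (cond (Nat.blt c 74) (cond (Nat.blt c 67) (cond (Nat.blt c 65) (cond (Nat.beq c 64) [⟨9, -1, 1⟩] []) (cond (Nat.beq c 65) [⟨10, -1, 1⟩] [])) (cond (Nat.blt c 70) (cond (Nat.beq c 67) [⟨11, -1, 1⟩] []) (cond (Nat.beq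 c 70) [⟨12, -1, 1⟩] []))) (cond (Nat.blt c 85) (cond (Nat.blt c 79) (cond (Nat.beq c 74) [⟨13, -1, 1⟩] []) (cond (Nat.beq c 79) [⟨15, -1, 1⟩] [])) (cond (Nat.blt c 101) (cond (Nat.beq c 85) [⟨21, 1, 1⟩] []) (cond (Nat.beq c 101) [⟨22, -1, 1⟩] []))))) (cond (Nat.blt c 146) (cond (Nat.blt c 127) (cond (Nat.blt c 122) (cond (Nat.blt c 118) (cond (Nat.beq c 113) [⟨23, 1, 1⟩] []) (cond (Nat.beq c 118) [⟨24, -1, 1⟩] [])) (cond (Nat.blt c 125) (cond (Nat.beq c 122) [⟨25, 1, 1⟩] []) (cond (Nat.beq c 125) [⟨26, -1, 1⟩] []))) (cond (Nat.blt c 144) (cond (Nat.blt c 143) (cond (Nat.beq c 127) [⟨27, 1, 1⟩] []) (cond (Nat.beq c 143) [⟨33, 1, 1⟩] [])) (cond (Nat.blt c 145) (cond (Nat.beq c 144) [⟨37, -1, 1⟩] []) (cond (Nat.beq c 145) [⟨40, 1, 1⟩] [])))) (cond (Nat.blt c 157) (cond (Nat.blt c 155) (cond (Nat.blt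 c 147) (cond (Nat.beq c 146) [⟨42, -1, 1⟩] []) (cond (Nat.beq c 147) [⟨43, 1, 1⟩] [])) (cond (Nat.blt c 156) (cond (Nat.beq c 155) [⟨47, 1, 1⟩] []) (cond (Nat.beq c 156) [⟨50, -1, 1⟩] []))) (cond (Nat.blt c 160) (cond (Nat.blt c 158) (cond (Nat.beq c 157) [⟨52, 1, 1⟩] []) (cond (Nat.beq c 158) [⟨53, -1, 1⟩] [])) (cond (Nat.blt c 161) (cond (Nat.beq c 160) [⟨56, 1, 1⟩] []) (cond (Nat.beq c 161) [⟨58, -1, 1⟩] [])))))) (cond (Nat.blt c 215) (cond (Nat.blt c 197) (cond (Nat.blt c 192) (cond (Nat.blt c 165) (cond (Nat.blt c 164) (cond (Nat.beq c 162) [⟨59, 1, 1⟩] []) (cond (Nat.beq c 164) [⟨61, 1, 1⟩] [])) (cond (Nat.blt c 167) (cond (Nat.beq c 165) [⟨62, -1, 1⟩] []) (cond (Nat.beq c 167) [⟨63, 1, 1⟩] []))) (cond (Nat.blt c 194) (cond (Nat.blt c 193) (cond (Nat.beq c 192) [⟨88, -1, 1⟩] []) (cond (Nat.beq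 c 193) [⟨90, 1, 1⟩] [])) (cond (Nat.blt c 196) (cond (Nat.beq c 194) [⟨91, -1, 1⟩] []) (cond (Nat.beq c 196) [⟨93, -1, 1⟩] [])))) (cond (Nat.blt c 205) (cond (Nat.blt c 202) (cond (Nat.blt c 199) (cond (Nat.beq c 197) [⟨94, 1, 1⟩] []) (cond (Nat.beq c 199) [⟨95, -1, 1⟩] [])) (cond (Nat.blt c 203) (cond (Nat.beq c 202) [⟨97, 1, 1⟩] []) (cond (Nat.beq c 203) [⟨98, -1, 1⟩] []))) (cond (Nat.blt c 212) (cond (Nat.blt c 208) (cond (Nat.beq c 205) [⟨99, 1, 1⟩] []) (cond (Nat.beq c 208) [⟨100, -1, 1⟩] [])) (cond (Nat.blt c 213) (cond (Nat.beq c 212) [⟨108, -1, 1⟩] []) (cond (Nat.beq c 213) [⟨109, 1, 1⟩] []))))) (cond (Nat.blt c 232) (cond (Nat.blt c 228) (cond (Nat.blt c 222) (cond (Nat.blt c 218) (cond (Nat.beq c 215) [⟨110, -1, 1⟩] []) (cond (Nat.beq c 218) [⟨111, 1, 1⟩] [])) (cond (Nat.blt c 227) (cond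 (Nat.beq c 222) [⟨112, -1, 1⟩] []) (cond (Nat.beq c 227) [⟨28, -1, 2⟩, ⟨0, -1, 1⟩, ⟨1, -2, 1⟩, ⟨2, -3, 1⟩, ⟨3, -4, 1⟩, ⟨4, -3, 1⟩, ⟨5, -2, 1⟩, ⟨6, -1, 1⟩, ⟨7, 0, 1⟩] []))) (cond (Nat.blt c 230) (cond (Nat.blt c 229) (cond (Nat.beq c 228) [⟨128, -1, 1⟩] []) (cond (Nat.beq c 229) [⟨130, 1, 1⟩] [])) (cond (Nat.blt c 231) (cond (Nat.beq c 230) [⟨133, -1, 1⟩] []) (cond (Nat.beq c 231) [⟨137, 1, 1⟩] [])))) (cond (Nat.blt c 242) (cond (Nat.blt c 234) (cond (Nat.blt c 233) (cond (Nat.beq c 232) [⟨142, -1, 1⟩] []) (cond (Nat.beq c 233) [⟨154, 1, 1⟩] [])) (cond (Nat.blt c 240) (cond (Nat.beq c 234) [⟨170, -1, 1⟩] []) (cond (Nat.beq c 240) [⟨176, 1, 1⟩] []))) (cond (Nat.blt c 244) (cond (Nat.blt c 243) (cond (Nat.beq c 242) [⟨181, 1, 1⟩] []) (cond (Nat.beq c 243) [⟨185, 1, 1⟩] [])) (cond (Nat.blt c 245) (cond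 (Nat.beq c 244) [⟨188, 1, 1⟩] []) (cond (Nat.blt c 246) (cond (Nat.beq c 245) [⟨190, 1, 1⟩] []) (cond (Nat.beq c 246) [⟨191, 1, 1⟩] [])))))))

/-- Compiled columns of `x_21` for type E8. -/
def colsE8_21 (c : ℕ) : List CEnt :=
  cond (Nat.blt c 166) (cond (Nat.blt c 111) (cond (Nat.blt c 60) (cond (Nat.blt c 4) (cond (Nat.blt c 2) (cond (Nat.blt c 1) (cond (Nat.beq c 0) [⟨29, 0, 1⟩] []) (cond (Nat.beq c 1) [⟨29, 0, 1⟩] [])) (cond (Nat.blt c 3) (cond (Nat.beq c 2) [⟨29, -1, 1⟩] []) (cond (Nat.beq c 3) [⟨29, 0, 1⟩] []))) (cond (Nat.blt c 6) (cond (Nat.blt c 5) (cond (Nat.beq c 4) [⟨29, 1, 1⟩] []) (cond (Nat.beq c 5) [⟨29, 0, 1⟩] [])) (cond (Nat.blt c 7) (cond (Nat.beq c 6) [⟨29, 0, 1⟩] []) (cond (Nat.beq c 7) [⟨29, 0, 1⟩] [])))) (cond (Nat.blt c 78) (cond (Nat.blt c 62) (cond (Nat.blt c 61) (cond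 (Nat.beq c 60) [⟨8, -1, 1⟩] []) (cond (Nat.beq c 61) [⟨9, -1, 1⟩] [])) (cond (Nat.blt c 63) (cond (Nat.beq c 62) [⟨10, -1, 1⟩] []) (cond (Nat.beq c 63) [⟨11, -1, 1⟩] []))) (cond (Nat.blt c 84) (cond (Nat.blt c 83) (cond (Nat.beq c 78) [⟨14, -1, 1⟩] []) (cond (Nat.beq c 83) [⟨16, -1, 1⟩] [])) (cond (Nat.blt c 100) (cond (Nat.beq c 84) [⟨17, -1, 1⟩] []) (cond (Nat.beq c 100) [⟨22, 1, 1⟩] []))))) (cond (Nat.blt c 141) (cond (Nat.blt c 136) (cond (Nat.blt c 134) (cond (Nat.blt c 112) (cond (Nat.beq c 111) [⟨23, 1, 1⟩] []) (cond (Nat.beq c 112) [⟨24, 1, 1⟩] [])) (cond (Nat.blt c 135) (cond (Nat.beq c 134) [⟨30, 1, 1⟩] []) (cond (Nat.beq c 135) [⟨31, -1, 1⟩] []))) (cond (Nat.blt c 139) (cond (Nat.blt c 137) (cond (Nat.beq c 136) [⟨32, 1, 1⟩] []) (cond (Nat.beq c 137) [⟨33, -1, 1⟩] [])) (cond (Nat.blt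 c 140) (cond (Nat.beq c 139) [⟨34, 1, 1⟩] []) (cond (Nat.beq c 140) [⟨35, -1, 1⟩] [])))) (cond (Nat.blt c 153) (cond (Nat.blt c 151) (cond (Nat.blt c 142) (cond (Nat.beq c 141) [⟨36, 1, 1⟩] []) (cond (Nat.beq c 142) [⟨37, -1, 1⟩] [])) (cond (Nat.blt c 152) (cond (Nat.beq c 151) [⟨44, 1, 1⟩] []) (cond (Nat.beq c 152) [⟨45, -1, 1⟩] []))) (cond (Nat.blt c 164) (cond (Nat.blt c 154) (cond (Nat.beq c 153) [⟨46, 1, 1⟩] []) (cond (Nat.beq c 154) [⟨47, -1, 1⟩] [])) (cond (Nat.blt c 165) (cond (Nat.beq c 164) [⟨64, 1, 1⟩] []) (cond (Nat.beq c 165) [⟨65, -1, 1⟩] [])))))) (cond (Nat.blt c 220) (cond (Nat.blt c 190) (cond (Nat.blt c 186) (cond (Nat.blt c 168) (cond (Nat.blt c 167) (cond (Nat.beq c 166) [⟨66, 1, 1⟩] []) (cond (Nat.beq c 167) [⟨67, 1, 1⟩] [])) (cond (Nat.blt c 169) (cond (Nat.beq c 168) [⟨68,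 -1, 1⟩] []) (cond (Nat.beq c 169) [⟨69, 1, 1⟩] []))) (cond (Nat.blt c 188) (cond (Nat.blt c 187) (cond (Nat.beq c 186) [⟨86, -1, 1⟩] []) (cond (Nat.beq c 187) [⟨87, 1, 1⟩] [])) (cond (Nat.blt c 189) (cond (Nat.beq c 188) [⟨88, -1, 1⟩] []) (cond (Nat.beq c 189) [⟨89, -1, 1⟩] [])))) (cond (Nat.blt c 210) (cond (Nat.blt c 208) (cond (Nat.blt c 191) (cond (Nat.beq c 190) [⟨90, 1, 1⟩] []) (cond (Nat.beq c 191) [⟨91, -1, 1⟩] [])) (cond (Nat.blt c 209) (cond (Nat.beq c 208) [⟨101, 1, 1⟩] []) (cond (Nat.beq c 209) [⟨102, -1, 1⟩] []))) (cond (Nat.blt c 218) (cond (Nat.blt c 211) (cond (Nat.beq c 210) [⟨103, 1, 1⟩] []) (cond (Nat.beq c 211) [⟨104, -1, 1⟩] [])) (cond (Nat.blt c 219) (cond (Nat.beq c 218) [⟨113, 1, 1⟩] []) (cond (Nat.beq c 219) [⟨114, -1, 1⟩] []))))) (cond (Nat.blt c 232) (cond (Nat.blt c 224)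 (cond (Nat.blt c 222) (cond (Nat.blt c 221) (cond (Nat.beq c 220) [⟨115, 1, 1⟩] []) (cond (Nat.beq c 221) [⟨116, -1, 1⟩] [])) (cond (Nat.blt c 223) (cond (Nat.beq c 222) [⟨118, 1, 1⟩] []) (cond (Nat.beq c 223) [⟨119, -1, 1⟩] []))) (cond (Nat.blt c 226) (cond (Nat.blt c 225) (cond (Nat.beq c 224) [⟨120, 1, 1⟩] []) (cond (Nat.beq c 225) [⟨121, -1, 1⟩] [])) (cond (Nat.blt c 231) (cond (Nat.beq c 226) [⟨29, -1, 2⟩, ⟨0, -1, 1⟩, ⟨1, -2, 1⟩, ⟨2, -2, 1⟩, ⟨3, -4, 1⟩, ⟨4, -4, 1⟩, ⟨5, -3, 1⟩, ⟨6, -2, 1⟩, ⟨7, -1, 1⟩] []) (cond (Nat.beq c 231) [⟨143, -1, 1⟩] [])))) (cond (Nat.blt c 241) (cond (Nat.blt c 238) (cond (Nat.blt c 233) (cond (Nat.beq c 232) [⟨144, -1, 1⟩] []) (cond (Nat.beq c 233) [⟨155, -1, 1⟩] [])) (cond (Nat.blt c 239) (cond (Nat.beq c 238) [⟨171, 1, 1⟩] []) (cond (Nat.beq c 239) [⟨172, 1, 1⟩]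 []))) (cond (Nat.blt c 245) (cond (Nat.blt c 244) (cond (Nat.beq c 241) [⟨177, 1, 1⟩] []) (cond (Nat.beq c 244) [⟨192, 1, 1⟩] [])) (cond (Nat.blt c 246) (cond (Nat.beq c 245) [⟨193, 1, 1⟩] []) (cond (Nat.blt c 247) (cond (Nat.beq c 246) [⟨194, 1, 1⟩] []) (cond (Nat.beq c 247) [⟨195, 1, 1⟩] [])))))))

/-- Compiled columns of `x_22` for type E8. -/
def colsE8_22 (c : ℕ) : List CEnt :=
  cond (Nat.blt c 163) (cond (Nat.blt c 110) (cond (Nat.blt c 57) (cond (Nat.blt c 4) (cond (Nat.blt c 2) (cond (Nat.blt c 1) (cond (Nat.beq c 0) [⟨30, 0, 1⟩] []) (cond (Nat.beq c 1) [⟨30, 0, 1⟩] [])) (cond (Nat.blt c 3) (cond (Nat.beq c 2) [⟨30, -1, 1⟩] []) (cond (Nat.beq c 3) [⟨30, 1, 1⟩] []))) (cond (Nat.blt c 6) (cond (Nat.blt c 5) (cond (Nat.beq c 4) [⟨30, -1, 1⟩] []) (cond (Nat.beq c 5) [⟨30, 1, 1⟩] [])) (cond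 (Nat.blt c 7) (cond (Nat.beq c 6) [⟨30, 0, 1⟩] []) (cond (Nat.beq c 7) [⟨30, 0, 1⟩] [])))) (cond (Nat.blt c 77) (cond (Nat.blt c 59) (cond (Nat.blt c 58) (cond (Nat.beq c 57) [⟨8, 1, 1⟩] []) (cond (Nat.beq c 58) [⟨9, 1, 1⟩] [])) (cond (Nat.blt c 63) (cond (Nat.beq c 59) [⟨10, 1, 1⟩] []) (cond (Nat.beq c 63) [⟨12, -1, 1⟩] []))) (cond (Nat.blt c 84) (cond (Nat.blt c 82) (cond (Nat.beq c 77) [⟨14, 1, 1⟩] []) (cond (Nat.beq c 82) [⟨16, 1, 1⟩] [])) (cond (Nat.blt c 99) (cond (Nat.beq c 84) [⟨18, -1, 1⟩] []) (cond (Nat.beq c 99) [⟨22, -1, 1⟩] []))))) (cond (Nat.blt c 141) (cond (Nat.blt c 132) (cond (Nat.blt c 121) (cond (Nat.blt c 112) (cond (Nat.beq c 110) [⟨23, -1, 1⟩] []) (cond (Nat.beq c 112) [⟨25, 1, 1⟩] [])) (cond (Nat.blt c 131) (cond (Nat.beq c 121) [⟨29, 1, 1⟩] []) (cond (Nat.beq c 131) [⟨31,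 1, 1⟩] []))) (cond (Nat.blt c 138) (cond (Nat.blt c 133) (cond (Nat.beq c 132) [⟨32, -1, 1⟩] []) (cond (Nat.beq c 133) [⟨33, 1, 1⟩] [])) (cond (Nat.blt c 140) (cond (Nat.beq c 138) [⟨34, 1, 1⟩] []) (cond (Nat.beq c 140) [⟨38, -1, 1⟩] [])))) (cond (Nat.blt c 153) (cond (Nat.blt c 150) (cond (Nat.blt c 142) (cond (Nat.beq c 141) [⟨39, 1, 1⟩] []) (cond (Nat.beq c 142) [⟨40, -1, 1⟩] [])) (cond (Nat.blt c 152) (cond (Nat.beq c 150) [⟨44, 1, 1⟩] []) (cond (Nat.beq c 152) [⟨48, -1, 1⟩] []))) (cond (Nat.blt c 161) (cond (Nat.blt c 154) (cond (Nat.beq c 153) [⟨49, 1, 1⟩] []) (cond (Nat.beq c 154) [⟨50, -1, 1⟩] [])) (cond (Nat.blt c 162) (cond (Nat.beq c 161) [⟨64, 1, 1⟩] []) (cond (Nat.beq c 162) [⟨65, -1, 1⟩] [])))))) (cond (Nat.blt c 217) (cond (Nat.blt c 190) (cond (Nat.blt c 183) (cond (Nat.blt c 168)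 (cond (Nat.blt c 167) (cond (Nat.beq c 163) [⟨66, 1, 1⟩] []) (cond (Nat.beq c 167) [⟨70, 1, 1⟩] [])) (cond (Nat.blt c 169) (cond (Nat.beq c 168) [⟨71, -1, 1⟩] []) (cond (Nat.beq c 169) [⟨72, 1, 1⟩] []))) (cond (Nat.blt c 185) (cond (Nat.blt c 184) (cond (Nat.beq c 183) [⟨86, -1, 1⟩] []) (cond (Nat.beq c 184) [⟨87, 1, 1⟩] [])) (cond (Nat.blt c 189) (cond (Nat.beq c 185) [⟨88, -1, 1⟩] []) (cond (Nat.beq c 189) [⟨92, -1, 1⟩] [])))) (cond (Nat.blt c 207) (cond (Nat.blt c 205) (cond (Nat.blt c 191) (cond (Nat.beq c 190) [⟨93, 1, 1⟩] []) (cond (Nat.beq c 191) [⟨94, -1, 1⟩] [])) (cond (Nat.blt c 206) (cond (Nat.beq c 205) [⟨101, 1, 1⟩] []) (cond (Nat.beq c 206) [⟨102, -1, 1⟩] []))) (cond (Nat.blt c 215) (cond (Nat.blt c 211) (cond (Nat.beq c 207) [⟨103, 1, 1⟩] []) (cond (Nat.beq c 211) [⟨105, -1, 1⟩] []))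 (cond (Nat.blt c 216) (cond (Nat.beq c 215) [⟨113, 1, 1⟩] []) (cond (Nat.beq c 216) [⟨114, -1, 1⟩] []))))) (cond (Nat.blt c 232) (cond (Nat.blt c 224) (cond (Nat.blt c 222) (cond (Nat.blt c 221) (cond (Nat.beq c 217) [⟨115, 1, 1⟩] []) (cond (Nat.beq c 221) [⟨117, -1, 1⟩] [])) (cond (Nat.blt c 223) (cond (Nat.beq c 222) [⟨122, -1, 1⟩] []) (cond (Nat.beq c 223) [⟨123, 1, 1⟩] []))) (cond (Nat.blt c 226) (cond (Nat.blt c 225) (cond (Nat.beq c 224) [⟨124, -1, 1⟩] []) (cond (Nat.beq c 225) [⟨30, -1, 2⟩, ⟨0, -1, 1⟩, ⟨1, -2, 1⟩, ⟨2, -2, 1⟩, ⟨3, -4, 1⟩, ⟨4, -3, 1⟩, ⟨5, -3, 1⟩, ⟨6, -2, 1⟩, ⟨7, -1, 1⟩] [])) (cond (Nat.blt c 230) (cond (Nat.beq c 226) [⟨134, -1, 1⟩] []) (cond (Nat.beq c 230) [⟨143, -1, 1⟩] [])))) (cond (Nat.blt c 241) (cond (Nat.blt c 237) (cond (Nat.blt c 233) (cond (Nat.beq c 232) [⟨145,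 1, 1⟩] []) (cond (Nat.beq c 233) [⟨156, 1, 1⟩] [])) (cond (Nat.blt c 239) (cond (Nat.beq c 237) [⟨171, 1, 1⟩] []) (cond (Nat.beq c 239) [⟨173, -1, 1⟩] []))) (cond (Nat.blt c 245) (cond (Nat.blt c 243) (cond (Nat.beq c 241) [⟨178, -1, 1⟩] []) (cond (Nat.beq c 243) [⟨192, 1, 1⟩] [])) (cond (Nat.blt c 246) (cond (Nat.beq c 245) [⟨196, -1, 1⟩] []) (cond (Nat.blt c 247) (cond (Nat.beq c 246) [⟨197, -1, 1⟩] []) (cond (Nat.beq c 247) [⟨198, -1, 1⟩] [])))))))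

/-- Compiled columns of `x_23` for type E8. -/
def colsE8_23 (c : ℕ) : List CEnt :=
  cond (Nat.blt c 163) (cond (Nat.blt c 109) (cond (Nat.blt c 55) (cond (Nat.blt c 4) (cond (Nat.blt c 2) (cond (Nat.blt c 1) (cond (Nat.beq c 0) [⟨31, 0, 1⟩] []) (cond (Nat.beq c 1) [⟨31, 0, 1⟩] [])) (cond (Nat.blt c 3) (cond (Nat.beq c 2) [⟨31, -1, 1⟩] []) (cond (Nat.beq c 3) [⟨31, 1, 1⟩] []))) (cond (Nat.blt c 6) (cond (Nat.blt c 5) (cond (Nat.beq c 4) [⟨31, 0, 1⟩] []) (cond (Nat.beq c 5) [⟨31, -1, 1⟩] [])) (cond (Nat.blt c 7) (cond (Nat.beq c 6) [⟨31, 1, 1⟩] []) (cond (Nat.beq c 7) [⟨31, 0, 1⟩] [])))) (cond (Nat.blt c 76) (cond (Nat.blt c 59) (cond (Nat.blt c 56) (cond (Nat.beq c 55) [⟨8, -1, 1⟩] []) (cond (Nat.beq c 56) [⟨9, -1, 1⟩] [])) (cond (Nat.blt c 62) (cond (Nat.beq c 59) [⟨11, 1, 1⟩] []) (cond (Nat.beq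 c 62) [⟨12, 1, 1⟩] []))) (cond (Nat.blt c 84) (cond (Nat.blt c 81) (cond (Nat.beq c 76) [⟨14, -1, 1⟩] []) (cond (Nat.beq c 81) [⟨16, -1, 1⟩] [])) (cond (Nat.blt c 98) (cond (Nat.beq c 84) [⟨19, -1, 1⟩] []) (cond (Nat.beq c 98) [⟨22, 1, 1⟩] []))))) (cond (Nat.blt c 141) (cond (Nat.blt c 129) (cond (Nat.blt c 120) (cond (Nat.blt c 112) (cond (Nat.beq c 109) [⟨23, 1, 1⟩] []) (cond (Nat.beq c 112) [⟨26, 1, 1⟩] [])) (cond (Nat.blt c 124) (cond (Nat.beq c 120) [⟨29, -1, 1⟩] []) (cond (Nat.beq c 124) [⟨30, 1, 1⟩] []))) (cond (Nat.blt c 138) (cond (Nat.blt c 130) (cond (Nat.beq c 129) [⟨32, 1, 1⟩] []) (cond (Nat.beq c 130) [⟨33, -1, 1⟩] [])) (cond (Nat.blt c 139) (cond (Nat.beq c 138) [⟨35, 1, 1⟩] []) (cond (Nat.beq c 139) [⟨38, -1, 1⟩] [])))) (cond (Nat.blt c 153) (cond (Nat.blt c 150) (cond (Nat.blt c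 142) (cond (Nat.beq c 141) [⟨41, 1, 1⟩] []) (cond (Nat.beq c 142) [⟨42, -1, 1⟩] [])) (cond (Nat.blt c 151) (cond (Nat.beq c 150) [⟨45, 1, 1⟩] []) (cond (Nat.beq c 151) [⟨48, -1, 1⟩] []))) (cond (Nat.blt c 160) (cond (Nat.blt c 154) (cond (Nat.beq c 153) [⟨51, 1, 1⟩] []) (cond (Nat.beq c 154) [⟨52, -1, 1⟩] [])) (cond (Nat.blt c 162) (cond (Nat.beq c 160) [⟨64, 1, 1⟩] []) (cond (Nat.beq c 162) [⟨67, -1, 1⟩] [])))))) (cond (Nat.blt c 217) (cond (Nat.blt c 188) (cond (Nat.blt c 182) (cond (Nat.blt c 166) (cond (Nat.blt c 165) (cond (Nat.beq c 163) [⟨68, 1, 1⟩] []) (cond (Nat.beq c 165) [⟨70, 1, 1⟩] [])) (cond (Nat.blt c 169) (cond (Nat.beq c 166) [⟨71, -1, 1⟩] []) (cond (Nat.beq c 169) [⟨73, 1, 1⟩] []))) (cond (Nat.blt c 185) (cond (Nat.blt c 184) (cond (Nat.beq c 182) [⟨86, -1, 1⟩] []) (cond (Nat.beq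 c 184) [⟨89, 1, 1⟩] [])) (cond (Nat.blt c 187) (cond (Nat.beq c 185) [⟨90, -1, 1⟩] []) (cond (Nat.beq c 187) [⟨92, -1, 1⟩] [])))) (cond (Nat.blt c 207) (cond (Nat.blt c 203) (cond (Nat.blt c 191) (cond (Nat.beq c 188) [⟨93, 1, 1⟩] []) (cond (Nat.beq c 191) [⟨95, -1, 1⟩] [])) (cond (Nat.blt c 204) (cond (Nat.beq c 203) [⟨101, 1, 1⟩] []) (cond (Nat.beq c 204) [⟨102, -1, 1⟩] []))) (cond (Nat.blt c 213) (cond (Nat.blt c 210) (cond (Nat.beq c 207) [⟨104, 1, 1⟩] []) (cond (Nat.beq c 210) [⟨105, -1, 1⟩] [])) (cond (Nat.blt c 214) (cond (Nat.beq c 213) [⟨113, 1, 1⟩] []) (cond (Nat.beq c 214) [⟨114, -1, 1⟩] []))))) (cond (Nat.blt c 232) (cond (Nat.blt c 224) (cond (Nat.blt c 222) (cond (Nat.blt c 220) (cond (Nat.beq c 217) [⟨116, 1, 1⟩] []) (cond (Nat.beq c 220) [⟨117, -1, 1⟩] [])) (cond (Nat.blt c 223)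 (cond (Nat.beq c 222) [⟨125, 1, 1⟩] []) (cond (Nat.beq c 223) [⟨126, -1, 1⟩] []))) (cond (Nat.blt c 226) (cond (Nat.blt c 225) (cond (Nat.beq c 224) [⟨31, -1, 2⟩, ⟨0, -1, 1⟩, ⟨1, -2, 1⟩, ⟨2, -2, 1⟩, ⟨3, -4, 1⟩, ⟨4, -3, 1⟩, ⟨5, -2, 1⟩, ⟨6, -2, 1⟩, ⟨7, -1, 1⟩] []) (cond (Nat.beq c 225) [⟨131, -1, 1⟩] [])) (cond (Nat.blt c 229) (cond (Nat.beq c 226) [⟨135, 1, 1⟩] []) (cond (Nat.beq c 229) [⟨143, -1, 1⟩] [])))) (cond (Nat.blt c 241) (cond (Nat.blt c 236) (cond (Nat.blt c 233) (cond (Nat.beq c 232) [⟨146, -1, 1⟩] []) (cond (Nat.beq c 233) [⟨157, -1, 1⟩] [])) (cond (Nat.blt c 239) (cond (Nat.beq c 236) [⟨171, 1, 1⟩] []) (cond (Nat.beq c 239) [⟨174, 1, 1⟩] []))) (cond (Nat.blt c 244) (cond (Nat.blt c 243) (cond (Nat.beq c 241) [⟨179, 1, 1⟩] []) (cond (Nat.beq c 243) [⟨193, -1, 1⟩] [])) (cond (Nat.blt c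 246) (cond (Nat.beq c 244) [⟨196, -1, 1⟩] []) (cond (Nat.blt c 247) (cond (Nat.beq c 246) [⟨199, 1, 1⟩] []) (cond (Nat.beq c 247) [⟨200, 1, 1⟩] [])))))))

/-- Compiled columns of `x_24` for type E8. -/
def colsE8_24 (c : ℕ) : List CEnt :=
  cond (Nat.blt c 163) (cond (Nat.blt c 108) (cond (Nat.blt c 54) (cond (Nat.blt c 4) (cond (Nat.blt c 2) (cond (Nat.blt c 1) (cond (Nat.beq c 0) [⟨32, 0, 1⟩] []) (cond (Nat.beq c 1) [⟨32, 0, 1⟩] [])) (cond (Nat.blt c 3) (cond (Nat.beq c 2) [⟨32, -1, 1⟩] []) (cond (Nat.beq c 3) [⟨32, 1, 1⟩] []))) (cond (Nat.blt c 6) (cond (Nat.blt c 5) (cond (Nat.beq c 4) [⟨32, 0, 1⟩] []) (cond (Nat.beq c 5) [⟨32, 0, 1⟩] [])) (cond (Nat.blt c 7) (cond (Nat.beq c 6) [⟨32, -1, 1⟩] []) (cond (Nat.beq c 7) [⟨32, 1, 1⟩] [])))) (cond (Nat.blt c 75) (cond (Nat.blt c 58) (cond (Nat.blt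 c 56) (cond (Nat.beq c 54) [⟨8, 1, 1⟩] []) (cond (Nat.beq c 56) [⟨10, -1, 1⟩] [])) (cond (Nat.blt c 61) (cond (Nat.beq c 58) [⟨11, -1, 1⟩] []) (cond (Nat.beq c 61) [⟨12, -1, 1⟩] []))) (cond (Nat.blt c 84) (cond (Nat.blt c 80) (cond (Nat.beq c 75) [⟨14, 1, 1⟩] []) (cond (Nat.beq c 80) [⟨16, 1, 1⟩] [])) (cond (Nat.blt c 97) (cond (Nat.beq c 84) [⟨20, -1, 1⟩] []) (cond (Nat.beq c 97) [⟨22, -1, 1⟩] []))))) (cond (Nat.blt c 140) (cond (Nat.blt c 126) (cond (Nat.blt c 119) (cond (Nat.blt c 112) (cond (Nat.beq c 108) [⟨23, -1, 1⟩] []) (cond (Nat.beq c 112) [⟨27, 1, 1⟩] [])) (cond (Nat.blt c 123) (cond (Nat.beq c 119) [⟨29, 1, 1⟩] []) (cond (Nat.beq c 123) [⟨30, -1, 1⟩] []))) (cond (Nat.blt c 138) (cond (Nat.blt c 128) (cond (Nat.beq c 126) [⟨31, 1, 1⟩] []) (cond (Nat.beq c 128) [⟨33, 1, 1⟩] [])) (cond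 (Nat.blt c 139) (cond (Nat.beq c 138) [⟨36, 1, 1⟩] []) (cond (Nat.beq c 139) [⟨39, -1, 1⟩] [])))) (cond (Nat.blt c 152) (cond (Nat.blt c 150) (cond (Nat.blt c 142) (cond (Nat.beq c 140) [⟨41, 1, 1⟩] []) (cond (Nat.beq c 142) [⟨43, -1, 1⟩] [])) (cond (Nat.blt c 151) (cond (Nat.beq c 150) [⟨46, 1, 1⟩] []) (cond (Nat.beq c 151) [⟨49, -1, 1⟩] []))) (cond (Nat.blt c 160) (cond (Nat.blt c 154) (cond (Nat.beq c 152) [⟨51, 1, 1⟩] []) (cond (Nat.beq c 154) [⟨53, -1, 1⟩] [])) (cond (Nat.blt c 161) (cond (Nat.beq c 160) [⟨65, 1, 1⟩] []) (cond (Nat.beq c 161) [⟨67, -1, 1⟩] [])))))) (cond (Nat.blt c 216) (cond (Nat.blt c 188) (cond (Nat.blt c 182) (cond (Nat.blt c 166) (cond (Nat.blt c 164) (cond (Nat.beq c 163) [⟨69, 1, 1⟩] []) (cond (Nat.beq c 164) [⟨70, 1, 1⟩] [])) (cond (Nat.blt c 168) (cond (Nat.beq c 166)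 [⟨72, -1, 1⟩] []) (cond (Nat.beq c 168) [⟨73, 1, 1⟩] []))) (cond (Nat.blt c 185) (cond (Nat.blt c 183) (cond (Nat.beq c 182) [⟨87, -1, 1⟩] []) (cond (Nat.beq c 183) [⟨89, 1, 1⟩] [])) (cond (Nat.blt c 186) (cond (Nat.beq c 185) [⟨91, -1, 1⟩] []) (cond (Nat.beq c 186) [⟨92, -1, 1⟩] [])))) (cond (Nat.blt c 206) (cond (Nat.blt c 202) (cond (Nat.blt c 190) (cond (Nat.beq c 188) [⟨94, 1, 1⟩] []) (cond (Nat.beq c 190) [⟨95, -1, 1⟩] [])) (cond (Nat.blt c 204) (cond (Nat.beq c 202) [⟨101, 1, 1⟩] []) (cond (Nat.beq c 204) [⟨103, -1, 1⟩] []))) (cond (Nat.blt c 212) (cond (Nat.blt c 209) (cond (Nat.beq c 206) [⟨104, 1, 1⟩] []) (cond (Nat.beq c 209) [⟨105, -1, 1⟩] [])) (cond (Nat.blt c 214) (cond (Nat.beq c 212) [⟨113, 1, 1⟩] []) (cond (Nat.beq c 214) [⟨115, -1, 1⟩] []))))) (cond (Nat.blt c 232) (cond (Nat.blt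 c 224) (cond (Nat.blt c 222) (cond (Nat.blt c 219) (cond (Nat.beq c 216) [⟨116, 1, 1⟩] []) (cond (Nat.beq c 219) [⟨117, -1, 1⟩] [])) (cond (Nat.blt c 223) (cond (Nat.beq c 222) [⟨127, -1, 1⟩] []) (cond (Nat.beq c 223) [⟨32, -1, 2⟩, ⟨0, -1, 1⟩, ⟨1, -2, 1⟩, ⟨2, -2, 1⟩, ⟨3, -4, 1⟩, ⟨4, -3, 1⟩, ⟨5, -2, 1⟩, ⟨6, -1, 1⟩, ⟨7, -1, 1⟩] []))) (cond (Nat.blt c 226) (cond (Nat.blt c 225) (cond (Nat.beq c 224) [⟨129, -1, 1⟩] []) (cond (Nat.beq c 225) [⟨132, 1, 1⟩] [])) (cond (Nat.blt c 228) (cond (Nat.beq c 226) [⟨136, -1, 1⟩] []) (cond (Nat.beq c 228) [⟨143, -1, 1⟩] [])))) (cond (Nat.blt c 241) (cond (Nat.blt c 235) (cond (Nat.blt c 233) (cond (Nat.beq c 232) [⟨147, 1, 1⟩] []) (cond (Nat.beq c 233) [⟨158, 1, 1⟩] [])) (cond (Nat.blt c 239) (cond (Nat.beq c 235) [⟨171, 1, 1⟩] []) (cond (Nat.beq c 239) [⟨175, -1,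 1⟩] []))) (cond (Nat.blt c 244) (cond (Nat.blt c 243) (cond (Nat.beq c 241) [⟨180, -1, 1⟩] []) (cond (Nat.beq c 243) [⟨194, 1, 1⟩] [])) (cond (Nat.blt c 245) (cond (Nat.beq c 244) [⟨197, 1, 1⟩] []) (cond (Nat.blt c 247) (cond (Nat.beq c 245) [⟨199, 1, 1⟩] []) (cond (Nat.beq c 247) [⟨201, -1, 1⟩] [])))))))

/-- Compiled columns of `x_25` for type E8. -/
def colsE8_25 (c : ℕ) : List CEnt :=
  cond (Nat.blt c 162) (cond (Nat.blt c 107) (cond (Nat.blt c 54) (cond (Nat.blt c 4) (cond (Nat.blt c 2) (cond (Nat.blt c 1) (cond (Nat.beq c 0) [⟨33, 0, 1⟩] []) (cond (Nat.beq c 1) [⟨33, 0, 1⟩] [])) (cond (Nat.blt c 3) (cond (Nat.beq c 2) [⟨33, -1, 1⟩] []) (cond (Nat.beq c 3) [⟨33, 1, 1⟩] []))) (cond (Nat.blt c 6) (cond (Nat.blt c 5) (cond (Nat.beq c 4) [⟨33, 0, 1⟩] []) (cond (Nat.beq c 5) [⟨33, 0, 1⟩] [])) (cond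 (Nat.blt c 7) (cond (Nat.beq c 6) [⟨33, 0, 1⟩] []) (cond (Nat.beq c 7) [⟨33, -1, 1⟩] [])))) (cond (Nat.blt c 74) (cond (Nat.blt c 57) (cond (Nat.blt c 55) (cond (Nat.beq c 54) [⟨9, 1, 1⟩] []) (cond (Nat.beq c 55) [⟨10, 1, 1⟩] [])) (cond (Nat.blt c 60) (cond (Nat.beq c 57) [⟨11, 1, 1⟩] []) (cond (Nat.beq c 60) [⟨12, 1, 1⟩] []))) (cond (Nat.blt c 84) (cond (Nat.blt c 79) (cond (Nat.beq c 74) [⟨14, -1, 1⟩] []) (cond (Nat.beq c 79) [⟨16, -1, 1⟩] [])) (cond (Nat.blt c 96) (cond (Nat.beq c 84) [⟨21, -1, 1⟩] []) (cond (Nat.beq c 96) [⟨22, 1, 1⟩] []))))) (cond (Nat.blt c 140) (cond (Nat.blt c 125) (cond (Nat.blt c 118) (cond (Nat.blt c 112) (cond (Nat.beq c 107) [⟨23, 1, 1⟩] []) (cond (Nat.beq c 112) [⟨28, 1, 1⟩] [])) (cond (Nat.blt c 122) (cond (Nat.beq c 118) [⟨29, -1, 1⟩] []) (cond (Nat.beq c 122) [⟨30,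 1, 1⟩] []))) (cond (Nat.blt c 138) (cond (Nat.blt c 127) (cond (Nat.beq c 125) [⟨31, -1, 1⟩] []) (cond (Nat.beq c 127) [⟨32, 1, 1⟩] [])) (cond (Nat.blt c 139) (cond (Nat.beq c 138) [⟨37, 1, 1⟩] []) (cond (Nat.beq c 139) [⟨40, -1, 1⟩] [])))) (cond (Nat.blt c 152) (cond (Nat.blt c 150) (cond (Nat.blt c 141) (cond (Nat.beq c 140) [⟨42, 1, 1⟩] []) (cond (Nat.beq c 141) [⟨43, -1, 1⟩] [])) (cond (Nat.blt c 151) (cond (Nat.beq c 150) [⟨47, 1, 1⟩] []) (cond (Nat.beq c 151) [⟨50, -1, 1⟩] []))) (cond (Nat.blt c 160) (cond (Nat.blt c 153) (cond (Nat.beq c 152) [⟨52, 1, 1⟩] []) (cond (Nat.beq c 153) [⟨53, -1, 1⟩] [])) (cond (Nat.blt c 161) (cond (Nat.beq c 160) [⟨66, 1, 1⟩] []) (cond (Nat.beq c 161) [⟨68, -1, 1⟩] [])))))) (cond (Nat.blt c 215) (cond (Nat.blt c 187) (cond (Nat.blt c 182) (cond (Nat.blt c 165)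 (cond (Nat.blt c 164) (cond (Nat.beq c 162) [⟨69, 1, 1⟩] []) (cond (Nat.beq c 164) [⟨71, 1, 1⟩] [])) (cond (Nat.blt c 167) (cond (Nat.beq c 165) [⟨72, -1, 1⟩] []) (cond (Nat.beq c 167) [⟨73, 1, 1⟩] []))) (cond (Nat.blt c 184) (cond (Nat.blt c 183) (cond (Nat.beq c 182) [⟨88, -1, 1⟩] []) (cond (Nat.beq c 183) [⟨90, 1, 1⟩] [])) (cond (Nat.blt c 186) (cond (Nat.beq c 184) [⟨91, -1, 1⟩] []) (cond (Nat.beq c 186) [⟨93, -1, 1⟩] [])))) (cond (Nat.blt c 205) (cond (Nat.blt c 202) (cond (Nat.blt c 189) (cond (Nat.beq c 187) [⟨94, 1, 1⟩] []) (cond (Nat.beq c 189) [⟨95, -1, 1⟩] [])) (cond (Nat.blt c 203) (cond (Nat.beq c 202) [⟨102, 1, 1⟩] []) (cond (Nat.beq c 203) [⟨103, -1, 1⟩] []))) (cond (Nat.blt c 212) (cond (Nat.blt c 208) (cond (Nat.beq c 205) [⟨104, 1, 1⟩] []) (cond (Nat.beq c 208) [⟨105, -1, 1⟩] []))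 (cond (Nat.blt c 213) (cond (Nat.beq c 212) [⟨114, 1, 1⟩] []) (cond (Nat.beq c 213) [⟨115, -1, 1⟩] []))))) (cond (Nat.blt c 232) (cond (Nat.blt c 224) (cond (Nat.blt c 222) (cond (Nat.blt c 218) (cond (Nat.beq c 215) [⟨116, 1, 1⟩] []) (cond (Nat.beq c 218) [⟨117, -1, 1⟩] [])) (cond (Nat.blt c 223) (cond (Nat.beq c 222) [⟨33, -1, 2⟩, ⟨0, -1, 1⟩, ⟨1, -2, 1⟩, ⟨2, -2, 1⟩, ⟨3, -4, 1⟩, ⟨4, -3, 1⟩, ⟨5, -2, 1⟩, ⟨6, -1, 1⟩, ⟨7, 0, 1⟩] []) (cond (Nat.beq c 223) [⟨128, -1, 1⟩] []))) (cond (Nat.blt c 226) (cond (Nat.blt c 225) (cond (Nat.beq c 224) [⟨130, 1, 1⟩] []) (cond (Nat.beq c 225) [⟨133, -1, 1⟩] [])) (cond (Nat.blt c 227) (cond (Nat.beq c 226) [⟨137, 1, 1⟩] []) (cond (Nat.beq c 227) [⟨143, -1, 1⟩] [])))) (cond (Nat.blt c 241) (cond (Nat.blt c 234) (cond (Nat.blt c 233) (cond (Nat.beq c 232) [⟨148, -1,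 1⟩] []) (cond (Nat.beq c 233) [⟨159, -1, 1⟩] [])) (cond (Nat.blt c 239) (cond (Nat.beq c 234) [⟨171, 1, 1⟩] []) (cond (Nat.beq c 239) [⟨176, 1, 1⟩] []))) (cond (Nat.blt c 244) (cond (Nat.blt c 243) (cond (Nat.beq c 241) [⟨181, 1, 1⟩] []) (cond (Nat.beq c 243) [⟨195, -1, 1⟩] [])) (cond (Nat.blt c 245) (cond (Nat.beq c 244) [⟨198, -1, 1⟩] []) (cond (Nat.blt c 246) (cond (Nat.beq c 245) [⟨200, -1, 1⟩] []) (cond (Nat.beq c 246) [⟨201, -1, 1⟩] [])))))))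

/-- Compiled columns of `x_26` for type E8. -/
def colsE8_26 (c : ℕ) : List CEnt :=
  cond (Nat.blt c 159) (cond (Nat.blt c 110) (cond (Nat.blt c 51) (cond (Nat.blt c 4) (cond (Nat.blt c 2) (cond (Nat.blt c 1) (cond (Nat.beq c 0) [⟨34, 0, 1⟩] []) (cond (Nat.beq c 1) [⟨34, 1, 1⟩] [])) (cond (Nat.blt c 3) (cond (Nat.beq c 2) [⟨34, 0, 1⟩] []) (cond (Nat.beq c 3) [⟨34, -1, 1⟩] []))) (cond (Nat.blt c 6) (cond (Nat.blt c 5) (cond (Nat.beq c 4) [⟨34, 0, 1⟩] []) (cond (Nat.beq c 5) [⟨34, 1, 1⟩] [])) (cond (Nat.blt c 7) (cond (Nat.beq c 6) [⟨34, 0, 1⟩] []) (cond (Nat.beq c 7) [⟨34, 0, 1⟩] [])))) (cond (Nat.blt c 73) (cond (Nat.blt c 53) (cond (Nat.blt c 52) (cond (Nat.beq c 51) [⟨8, -1, 1⟩] []) (cond (Nat.beq c 52) [⟨9, -1, 1⟩] [])) (cond (Nat.blt c 63) (cond (Nat.beq c 53) [⟨10, -1, 1⟩] []) (cond (Nat.beq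 c 63) [⟨13, -1, 1⟩] []))) (cond (Nat.blt c 83) (cond (Nat.blt c 82) (cond (Nat.beq c 73) [⟨14, -1, 1⟩] []) (cond (Nat.beq c 82) [⟨17, 1, 1⟩] [])) (cond (Nat.blt c 95) (cond (Nat.beq c 83) [⟨18, 1, 1⟩] []) (cond (Nat.beq c 95) [⟨22, 1, 1⟩] []))))) (cond (Nat.blt c 136) (cond (Nat.blt c 131) (cond (Nat.blt c 116) (cond (Nat.blt c 111) (cond (Nat.beq c 110) [⟨24, -1, 1⟩] []) (cond (Nat.beq c 111) [⟨25, -1, 1⟩] [])) (cond (Nat.blt c 117) (cond (Nat.beq c 116) [⟨29, 1, 1⟩] []) (cond (Nat.beq c 117) [⟨30, 1, 1⟩] []))) (cond (Nat.blt c 133) (cond (Nat.blt c 132) (cond (Nat.beq c 131) [⟨35, 1, 1⟩] []) (cond (Nat.beq c 132) [⟨36, -1, 1⟩] [])) (cond (Nat.blt c 135) (cond (Nat.beq c 133) [⟨37, 1, 1⟩] []) (cond (Nat.beq c 135) [⟨38, 1, 1⟩] [])))) (cond (Nat.blt c 153) (cond (Nat.blt c 149) (cond (Nat.blt c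 137) (cond (Nat.beq c 136) [⟨39, -1, 1⟩] []) (cond (Nat.beq c 137) [⟨40, 1, 1⟩] [])) (cond (Nat.blt c 152) (cond (Nat.beq c 149) [⟨44, 1, 1⟩] []) (cond (Nat.beq c 152) [⟨54, -1, 1⟩] []))) (cond (Nat.blt c 157) (cond (Nat.blt c 154) (cond (Nat.beq c 153) [⟨55, 1, 1⟩] []) (cond (Nat.beq c 154) [⟨56, -1, 1⟩] [])) (cond (Nat.blt c 158) (cond (Nat.beq c 157) [⟨64, 1, 1⟩] []) (cond (Nat.beq c 158) [⟨65, -1, 1⟩] [])))))) (cond (Nat.blt c 217) (cond (Nat.blt c 190) (cond (Nat.blt c 179) (cond (Nat.blt c 168) (cond (Nat.blt c 167) (cond (Nat.beq c 159) [⟨66, 1, 1⟩] []) (cond (Nat.beq c 167) [⟨74, 1, 1⟩] [])) (cond (Nat.blt c 169) (cond (Nat.beq c 168) [⟨75, -1, 1⟩] []) (cond (Nat.beq c 169) [⟨76, 1, 1⟩] []))) (cond (Nat.blt c 181) (cond (Nat.blt c 180) (cond (Nat.beq c 179) [⟨86, -1, 1⟩] []) (cond (Nat.beq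 c 180) [⟨87, 1, 1⟩] [])) (cond (Nat.blt c 189) (cond (Nat.beq c 181) [⟨88, -1, 1⟩] []) (cond (Nat.beq c 189) [⟨96, -1, 1⟩] [])))) (cond (Nat.blt c 201) (cond (Nat.blt c 199) (cond (Nat.blt c 191) (cond (Nat.beq c 190) [⟨97, 1, 1⟩] []) (cond (Nat.beq c 191) [⟨98, -1, 1⟩] [])) (cond (Nat.blt c 200) (cond (Nat.beq c 199) [⟨101, 1, 1⟩] []) (cond (Nat.beq c 200) [⟨102, -1, 1⟩] []))) (cond (Nat.blt c 215) (cond (Nat.blt c 211) (cond (Nat.beq c 201) [⟨103, 1, 1⟩] []) (cond (Nat.beq c 211) [⟨106, -1, 1⟩] [])) (cond (Nat.blt c 216) (cond (Nat.beq c 215) [⟨118, -1, 1⟩] []) (cond (Nat.beq c 216) [⟨119, 1, 1⟩] []))))) (cond (Nat.blt c 231) (cond (Nat.blt c 221) (cond (Nat.blt c 219) (cond (Nat.blt c 218) (cond (Nat.beq c 217) [⟨120, -1, 1⟩] []) (cond (Nat.beq c 218) [⟨122, -1, 1⟩] [])) (cond (Nat.blt c 220)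 (cond (Nat.beq c 219) [⟨123, 1, 1⟩] []) (cond (Nat.beq c 220) [⟨124, -1, 1⟩] []))) (cond (Nat.blt c 226) (cond (Nat.blt c 225) (cond (Nat.beq c 221) [⟨34, -1, 2⟩, ⟨0, -1, 1⟩, ⟨1, -2, 1⟩, ⟨2, -2, 1⟩, ⟨3, -3, 1⟩, ⟨4, -3, 1⟩, ⟨5, -3, 1⟩, ⟨6, -2, 1⟩, ⟨7, -1, 1⟩] []) (cond (Nat.beq c 225) [⟨138, -1, 1⟩] [])) (cond (Nat.blt c 230) (cond (Nat.beq c 226) [⟨139, -1, 1⟩] []) (cond (Nat.beq c 230) [⟨144, 1, 1⟩] [])))) (cond (Nat.blt c 241) (cond (Nat.blt c 237) (cond (Nat.blt c 233) (cond (Nat.beq c 231) [⟨145, 1, 1⟩] []) (cond (Nat.beq c 233) [⟨160, -1, 1⟩] [])) (cond (Nat.blt c 238) (cond (Nat.beq c 237) [⟨172, -1, 1⟩] []) (cond (Nat.beq c 238) [⟨173, -1, 1⟩] []))) (cond (Nat.blt c 245) (cond (Nat.blt c 242) (cond (Nat.beq c 241) [⟨182, 1, 1⟩] []) (cond (Nat.beq c 242) [⟨192, 1, 1⟩] [])) (cond (Nat.blt c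 246) (cond (Nat.beq c 245) [⟨202, 1, 1⟩] []) (cond (Nat.blt c 247) (cond (Nat.beq c 246) [⟨203, 1, 1⟩] []) (cond (Nat.beq c 247) [⟨204, 1, 1⟩] [])))))))

/-- Compiled columns of `x_27` for type E8. -/
def colsE8_27 (c : ℕ) : List CEnt :=
  cond (Nat.blt c 159) (cond (Nat.blt c 109) (cond (Nat.blt c 49) (cond (Nat.blt c 4) (cond (Nat.blt c 2) (cond (Nat.blt c 1) (cond (Nat.beq c 0) [⟨35, 0, 1⟩] []) (cond (Nat.beq c 1) [⟨35, 1, 1⟩] [])) (cond (Nat.blt c 3) (cond (Nat.beq c 2) [⟨35, 0, 1⟩] []) (cond (Nat.beq c 3) [⟨35, -1, 1⟩] []))) (cond (Nat.blt c 6) (cond (Nat.blt c 5) (cond (Nat.beq c 4) [⟨35, 1, 1⟩] []) (cond (Nat.beq c 5) [⟨35, -1, 1⟩] [])) (cond (Nat.blt c 7) (cond (Nat.beq c 6) [⟨35, 1, 1⟩] []) (cond (Nat.beq c 7) [⟨35, 0, 1⟩] [])))) (cond (Nat.blt c 72) (cond (Nat.blt c 53) (cond (Nat.blt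 c 50) (cond (Nat.beq c 49) [⟨8, 1, 1⟩] []) (cond (Nat.beq c 50) [⟨9, 1, 1⟩] [])) (cond (Nat.blt c 62) (cond (Nat.beq c 53) [⟨11, -1, 1⟩] []) (cond (Nat.beq c 62) [⟨13, 1, 1⟩] []))) (cond (Nat.blt c 83) (cond (Nat.blt c 81) (cond (Nat.beq c 72) [⟨14, 1, 1⟩] []) (cond (Nat.beq c 81) [⟨17, -1, 1⟩] [])) (cond (Nat.blt c 94) (cond (Nat.beq c 83) [⟨19, 1, 1⟩] []) (cond (Nat.beq c 94) [⟨22, -1, 1⟩] []))))) (cond (Nat.blt c 136) (cond (Nat.blt c 124) (cond (Nat.blt c 115) (cond (Nat.blt c 111) (cond (Nat.beq c 109) [⟨24, 1, 1⟩] []) (cond (Nat.beq c 111) [⟨26, -1, 1⟩] [])) (cond (Nat.blt c 117) (cond (Nat.beq c 115) [⟨29, -1, 1⟩] []) (cond (Nat.beq c 117) [⟨31, 1, 1⟩] []))) (cond (Nat.blt c 130) (cond (Nat.blt c 129) (cond (Nat.beq c 124) [⟨34, 1, 1⟩] []) (cond (Nat.beq c 129) [⟨36, 1, 1⟩] [])) (cond (Nat.blt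 c 134) (cond (Nat.beq c 130) [⟨37, -1, 1⟩] []) (cond (Nat.beq c 134) [⟨38, 1, 1⟩] [])))) (cond (Nat.blt c 153) (cond (Nat.blt c 149) (cond (Nat.blt c 137) (cond (Nat.beq c 136) [⟨41, -1, 1⟩] []) (cond (Nat.beq c 137) [⟨42, 1, 1⟩] [])) (cond (Nat.blt c 151) (cond (Nat.beq c 149) [⟨45, 1, 1⟩] []) (cond (Nat.beq c 151) [⟨54, -1, 1⟩] []))) (cond (Nat.blt c 156) (cond (Nat.blt c 154) (cond (Nat.beq c 153) [⟨57, 1, 1⟩] []) (cond (Nat.beq c 154) [⟨58, -1, 1⟩] [])) (cond (Nat.blt c 158) (cond (Nat.beq c 156) [⟨64, 1, 1⟩] []) (cond (Nat.beq c 158) [⟨67, -1, 1⟩] [])))))) (cond (Nat.blt c 217) (cond (Nat.blt c 188) (cond (Nat.blt c 178) (cond (Nat.blt c 166) (cond (Nat.blt c 165) (cond (Nat.beq c 159) [⟨68, 1, 1⟩] []) (cond (Nat.beq c 165) [⟨74, 1, 1⟩] [])) (cond (Nat.blt c 169) (cond (Nat.beq c 166) [⟨75,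 -1, 1⟩] []) (cond (Nat.beq c 169) [⟨77, 1, 1⟩] []))) (cond (Nat.blt c 181) (cond (Nat.blt c 180) (cond (Nat.beq c 178) [⟨86, -1, 1⟩] []) (cond (Nat.beq c 180) [⟨89, 1, 1⟩] [])) (cond (Nat.blt c 187) (cond (Nat.beq c 181) [⟨90, -1, 1⟩] []) (cond (Nat.beq c 187) [⟨96, -1, 1⟩] [])))) (cond (Nat.blt c 201) (cond (Nat.blt c 197) (cond (Nat.blt c 191) (cond (Nat.beq c 188) [⟨97, 1, 1⟩] []) (cond (Nat.beq c 191) [⟨99, -1, 1⟩] [])) (cond (Nat.blt c 198) (cond (Nat.beq c 197) [⟨101, 1, 1⟩] []) (cond (Nat.beq c 198) [⟨102, -1, 1⟩] []))) (cond (Nat.blt c 213) (cond (Nat.blt c 210) (cond (Nat.beq c 201) [⟨104, 1, 1⟩] []) (cond (Nat.beq c 210) [⟨106, -1, 1⟩] [])) (cond (Nat.blt c 214) (cond (Nat.beq c 213) [⟨118, -1, 1⟩] []) (cond (Nat.beq c 214) [⟨119, 1, 1⟩] []))))) (cond (Nat.blt c 231) (cond (Nat.blt c 221)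 (cond (Nat.blt c 219) (cond (Nat.blt c 218) (cond (Nat.beq c 217) [⟨121, -1, 1⟩] []) (cond (Nat.beq c 218) [⟨125, 1, 1⟩] [])) (cond (Nat.blt c 220) (cond (Nat.beq c 219) [⟨126, -1, 1⟩] []) (cond (Nat.beq c 220) [⟨35, -1, 2⟩, ⟨0, -1, 1⟩, ⟨1, -2, 1⟩, ⟨2, -2, 1⟩, ⟨3, -3, 1⟩, ⟨4, -3, 1⟩, ⟨5, -2, 1⟩, ⟨6, -2, 1⟩, ⟨7, -1, 1⟩] []))) (cond (Nat.blt c 226) (cond (Nat.blt c 224) (cond (Nat.beq c 221) [⟨131, -1, 1⟩] []) (cond (Nat.beq c 224) [⟨138, -1, 1⟩] [])) (cond (Nat.blt c 229) (cond (Nat.beq c 226) [⟨140, 1, 1⟩] []) (cond (Nat.beq c 229) [⟨144, 1, 1⟩] [])))) (cond (Nat.blt c 241) (cond (Nat.blt c 236) (cond (Nat.blt c 233) (cond (Nat.beq c 231) [⟨146, -1, 1⟩] []) (cond (Nat.beq c 233) [⟨161, 1, 1⟩] [])) (cond (Nat.blt c 238) (cond (Nat.beq c 236) [⟨172, -1, 1⟩] []) (cond (Nat.beq c 238) [⟨174, 1, 1⟩]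 []))) (cond (Nat.blt c 244) (cond (Nat.blt c 242) (cond (Nat.beq c 241) [⟨183, -1, 1⟩] []) (cond (Nat.beq c 242) [⟨193, -1, 1⟩] [])) (cond (Nat.blt c 246) (cond (Nat.beq c 244) [⟨202, 1, 1⟩] []) (cond (Nat.blt c 247) (cond (Nat.beq c 246) [⟨205, -1, 1⟩] []) (cond (Nat.beq c 247) [⟨206, -1, 1⟩] [])))))))

/-- Compiled columns of `x_28` for type E8. -/
def colsE8_28 (c : ℕ) : List CEnt :=
  cond (Nat.blt c 159) (cond (Nat.blt c 108) (cond (Nat.blt c 48) (cond (Nat.blt c 4) (cond (Nat.blt c 2) (cond (Nat.blt c 1) (cond (Nat.beq c 0) [⟨36, 0, 1⟩] []) (cond (Nat.beq c 1) [⟨36, 1, 1⟩] [])) (cond (Nat.blt c 3) (cond (Nat.beq c 2) [⟨36, 0, 1⟩] []) (cond (Nat.beq c 3) [⟨36, -1, 1⟩] []))) (cond (Nat.blt c 6) (cond (Nat.blt c 5) (cond (Nat.beq c 4) [⟨36, 1, 1⟩] []) (cond (Nat.beq c 5) [⟨36, 0, 1⟩] [])) (cond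 (Nat.blt c 7) (cond (Nat.beq c 6) [⟨36, -1, 1⟩] []) (cond (Nat.beq c 7) [⟨36, 1, 1⟩] [])))) (cond (Nat.blt c 71) (cond (Nat.blt c 52) (cond (Nat.blt c 50) (cond (Nat.beq c 48) [⟨8, -1, 1⟩] []) (cond (Nat.beq c 50) [⟨10, 1, 1⟩] [])) (cond (Nat.blt c 61) (cond (Nat.beq c 52) [⟨11, 1, 1⟩] []) (cond (Nat.beq c 61) [⟨13, -1, 1⟩] []))) (cond (Nat.blt c 83) (cond (Nat.blt c 80) (cond (Nat.beq c 71) [⟨14, -1, 1⟩] []) (cond (Nat.beq c 80) [⟨17, 1, 1⟩] [])) (cond (Nat.blt c 93) (cond (Nat.beq c 83) [⟨20, 1, 1⟩] []) (cond (Nat.beq c 93) [⟨22, 1, 1⟩] []))))) (cond (Nat.blt c 135) (cond (Nat.blt c 123) (cond (Nat.blt c 114) (cond (Nat.blt c 111) (cond (Nat.beq c 108) [⟨24, -1, 1⟩] []) (cond (Nat.beq c 111) [⟨27, -1, 1⟩] [])) (cond (Nat.blt c 117) (cond (Nat.beq c 114) [⟨29, 1, 1⟩] []) (cond (Nat.beq c 117) [⟨32,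 1, 1⟩] []))) (cond (Nat.blt c 128) (cond (Nat.blt c 126) (cond (Nat.beq c 123) [⟨34, -1, 1⟩] []) (cond (Nat.beq c 126) [⟨35, 1, 1⟩] [])) (cond (Nat.blt c 134) (cond (Nat.beq c 128) [⟨37, 1, 1⟩] []) (cond (Nat.beq c 134) [⟨39, 1, 1⟩] [])))) (cond (Nat.blt c 152) (cond (Nat.blt c 149) (cond (Nat.blt c 137) (cond (Nat.beq c 135) [⟨41, -1, 1⟩] []) (cond (Nat.beq c 137) [⟨43, 1, 1⟩] [])) (cond (Nat.blt c 151) (cond (Nat.beq c 149) [⟨46, 1, 1⟩] []) (cond (Nat.beq c 151) [⟨55, -1, 1⟩] []))) (cond (Nat.blt c 156) (cond (Nat.blt c 154) (cond (Nat.beq c 152) [⟨57, 1, 1⟩] []) (cond (Nat.beq c 154) [⟨59, -1, 1⟩] [])) (cond (Nat.blt c 157) (cond (Nat.beq c 156) [⟨65, 1, 1⟩] []) (cond (Nat.beq c 157) [⟨67, -1, 1⟩] [])))))) (cond (Nat.blt c 216) (cond (Nat.blt c 188) (cond (Nat.blt c 178) (cond (Nat.blt c 166)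 (cond (Nat.blt c 164) (cond (Nat.beq c 159) [⟨69, 1, 1⟩] []) (cond (Nat.beq c 164) [⟨74, 1, 1⟩] [])) (cond (Nat.blt c 168) (cond (Nat.beq c 166) [⟨76, -1, 1⟩] []) (cond (Nat.beq c 168) [⟨77, 1, 1⟩] []))) (cond (Nat.blt c 181) (cond (Nat.blt c 179) (cond (Nat.beq c 178) [⟨87, -1, 1⟩] []) (cond (Nat.beq c 179) [⟨89, 1, 1⟩] [])) (cond (Nat.blt c 186) (cond (Nat.beq c 181) [⟨91, -1, 1⟩] []) (cond (Nat.beq c 186) [⟨96, -1, 1⟩] [])))) (cond (Nat.blt c 200) (cond (Nat.blt c 196) (cond (Nat.blt c 190) (cond (Nat.beq c 188) [⟨98, 1, 1⟩] []) (cond (Nat.beq c 190) [⟨99, -1, 1⟩] [])) (cond (Nat.blt c 198) (cond (Nat.beq c 196) [⟨101, 1, 1⟩] []) (cond (Nat.beq c 198) [⟨103, -1, 1⟩] []))) (cond (Nat.blt c 212) (cond (Nat.blt c 209) (cond (Nat.beq c 200) [⟨104, 1, 1⟩] []) (cond (Nat.beq c 209) [⟨106, -1, 1⟩] []))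 (cond (Nat.blt c 214) (cond (Nat.beq c 212) [⟨118, -1, 1⟩] []) (cond (Nat.beq c 214) [⟨120, 1, 1⟩] []))))) (cond (Nat.blt c 231) (cond (Nat.blt c 221) (cond (Nat.blt c 219) (cond (Nat.blt c 218) (cond (Nat.beq c 216) [⟨121, -1, 1⟩] []) (cond (Nat.beq c 218) [⟨127, -1, 1⟩] [])) (cond (Nat.blt c 220) (cond (Nat.beq c 219) [⟨36, -1, 2⟩, ⟨0, -1, 1⟩, ⟨1, -2, 1⟩, ⟨2, -2, 1⟩, ⟨3, -3, 1⟩, ⟨4, -3, 1⟩, ⟨5, -2, 1⟩, ⟨6, -1, 1⟩, ⟨7, -1, 1⟩] []) (cond (Nat.beq c 220) [⟨129, -1, 1⟩] []))) (cond (Nat.blt c 226) (cond (Nat.blt c 223) (cond (Nat.beq c 221) [⟨132, 1, 1⟩] []) (cond (Nat.beq c 223) [⟨138, -1, 1⟩] [])) (cond (Nat.blt c 228) (cond (Nat.beq c 226) [⟨141, -1, 1⟩] []) (cond (Nat.beq c 228) [⟨144, 1, 1⟩] [])))) (cond (Nat.blt c 241) (cond (Nat.blt c 235) (cond (Nat.blt c 233) (cond (Nat.beq c 231) [⟨147,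 1, 1⟩] []) (cond (Nat.beq c 233) [⟨162, -1, 1⟩] [])) (cond (Nat.blt c 238) (cond (Nat.beq c 235) [⟨172, -1, 1⟩] []) (cond (Nat.beq c 238) [⟨175, -1, 1⟩] []))) (cond (Nat.blt c 244) (cond (Nat.blt c 242) (cond (Nat.beq c 241) [⟨184, 1, 1⟩] []) (cond (Nat.beq c 242) [⟨194, 1, 1⟩] [])) (cond (Nat.blt c 245) (cond (Nat.beq c 244) [⟨203, -1, 1⟩] []) (cond (Nat.blt c 247) (cond (Nat.beq c 245) [⟨205, -1, 1⟩] []) (cond (Nat.beq c 247) [⟨207, 1, 1⟩] [])))))))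

/-- Compiled columns of `x_29` for type E8. -/
def colsE8_29 (c : ℕ) : List CEnt :=
  cond (Nat.blt c 158) (cond (Nat.blt c 107) (cond (Nat.blt c 48) (cond (Nat.blt c 4) (cond (Nat.blt c 2) (cond (Nat.blt c 1) (cond (Nat.beq c 0) [⟨37, 0, 1⟩] []) (cond (Nat.beq c 1) [⟨37, 1, 1⟩] [])) (cond (Nat.blt c 3) (cond (Nat.beq c 2) [⟨37, 0, 1⟩] []) (cond (Nat.beq c 3) [⟨37, -1, 1⟩] []))) (cond (Nat.blt c 6) (cond (Nat.blt c 5) (cond (Nat.beq c 4) [⟨37, 1, 1⟩] []) (cond (Nat.beq c 5) [⟨37, 0, 1⟩] [])) (cond (Nat.blt c 7) (cond (Nat.beq c 6) [⟨37, 0, 1⟩] []) (cond (Nat.beq c 7) [⟨37, -1, 1⟩] [])))) (cond (Nat.blt c 70) (cond (Nat.blt c 51) (cond (Nat.blt c 49) (cond (Nat.beq c 48) [⟨9, -1, 1⟩] []) (cond (Nat.beq c 49) [⟨10, -1, 1⟩] [])) (cond (Nat.blt c 60) (cond (Nat.beq c 51) [⟨11, -1, 1⟩] []) (cond (Nat.beq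 c 60) [⟨13, 1, 1⟩] []))) (cond (Nat.blt c 83) (cond (Nat.blt c 79) (cond (Nat.beq c 70) [⟨14, 1, 1⟩] []) (cond (Nat.beq c 79) [⟨17, -1, 1⟩] [])) (cond (Nat.blt c 92) (cond (Nat.beq c 83) [⟨21, 1, 1⟩] []) (cond (Nat.beq c 92) [⟨22, -1, 1⟩] []))))) (cond (Nat.blt c 135) (cond (Nat.blt c 122) (cond (Nat.blt c 113) (cond (Nat.blt c 111) (cond (Nat.beq c 107) [⟨24, 1, 1⟩] []) (cond (Nat.beq c 111) [⟨28, -1, 1⟩] [])) (cond (Nat.blt c 117) (cond (Nat.beq c 113) [⟨29, -1, 1⟩] []) (cond (Nat.beq c 117) [⟨33, 1, 1⟩] []))) (cond (Nat.blt c 127) (cond (Nat.blt c 125) (cond (Nat.beq c 122) [⟨34, 1, 1⟩] []) (cond (Nat.beq c 125) [⟨35, -1, 1⟩] [])) (cond (Nat.blt c 134) (cond (Nat.beq c 127) [⟨36, 1, 1⟩] []) (cond (Nat.beq c 134) [⟨40, 1, 1⟩] [])))) (cond (Nat.blt c 152) (cond (Nat.blt c 149) (cond (Nat.blt c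 136) (cond (Nat.beq c 135) [⟨42, -1, 1⟩] []) (cond (Nat.beq c 136) [⟨43, 1, 1⟩] [])) (cond (Nat.blt c 151) (cond (Nat.beq c 149) [⟨47, 1, 1⟩] []) (cond (Nat.beq c 151) [⟨56, -1, 1⟩] []))) (cond (Nat.blt c 156) (cond (Nat.blt c 153) (cond (Nat.beq c 152) [⟨58, 1, 1⟩] []) (cond (Nat.beq c 153) [⟨59, -1, 1⟩] [])) (cond (Nat.blt c 157) (cond (Nat.beq c 156) [⟨66, 1, 1⟩] []) (cond (Nat.beq c 157) [⟨68, -1, 1⟩] [])))))) (cond (Nat.blt c 215) (cond (Nat.blt c 187) (cond (Nat.blt c 178) (cond (Nat.blt c 165) (cond (Nat.blt c 164) (cond (Nat.beq c 158) [⟨69, 1, 1⟩] []) (cond (Nat.beq c 164) [⟨75, 1, 1⟩] [])) (cond (Nat.blt c 167) (cond (Nat.beq c 165) [⟨76, -1, 1⟩] []) (cond (Nat.beq c 167) [⟨77, 1, 1⟩] []))) (cond (Nat.blt c 180) (cond (Nat.blt c 179) (cond (Nat.beq c 178) [⟨88, -1, 1⟩] []) (cond (Nat.beq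 c 179) [⟨90, 1, 1⟩] [])) (cond (Nat.blt c 186) (cond (Nat.beq c 180) [⟨91, -1, 1⟩] []) (cond (Nat.beq c 186) [⟨97, -1, 1⟩] [])))) (cond (Nat.blt c 199) (cond (Nat.blt c 196) (cond (Nat.blt c 189) (cond (Nat.beq c 187) [⟨98, 1, 1⟩] []) (cond (Nat.beq c 189) [⟨99, -1, 1⟩] [])) (cond (Nat.blt c 197) (cond (Nat.beq c 196) [⟨102, 1, 1⟩] []) (cond (Nat.beq c 197) [⟨103, -1, 1⟩] []))) (cond (Nat.blt c 212) (cond (Nat.blt c 208) (cond (Nat.beq c 199) [⟨104, 1, 1⟩] []) (cond (Nat.beq c 208) [⟨106, -1, 1⟩] [])) (cond (Nat.blt c 213) (cond (Nat.beq c 212) [⟨119, -1, 1⟩] []) (cond (Nat.beq c 213) [⟨120, 1, 1⟩] []))))) (cond (Nat.blt c 231) (cond (Nat.blt c 221) (cond (Nat.blt c 219) (cond (Nat.blt c 218) (cond (Nat.beq c 215) [⟨121, -1, 1⟩] []) (cond (Nat.beq c 218) [⟨37, -1, 2⟩, ⟨0, -1, 1⟩, ⟨1, -2, 1⟩, ⟨2,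 -2, 1⟩, ⟨3, -3, 1⟩, ⟨4, -3, 1⟩, ⟨5, -2, 1⟩, ⟨6, -1, 1⟩, ⟨7, 0, 1⟩] [])) (cond (Nat.blt c 220) (cond (Nat.beq c 219) [⟨128, -1, 1⟩] []) (cond (Nat.beq c 220) [⟨130, 1, 1⟩] []))) (cond (Nat.blt c 226) (cond (Nat.blt c 222) (cond (Nat.beq c 221) [⟨133, -1, 1⟩] []) (cond (Nat.beq c 222) [⟨138, -1, 1⟩] [])) (cond (Nat.blt c 227) (cond (Nat.beq c 226) [⟨142, 1, 1⟩] []) (cond (Nat.beq c 227) [⟨144, 1, 1⟩] [])))) (cond (Nat.blt c 241) (cond (Nat.blt c 234) (cond (Nat.blt c 233) (cond (Nat.beq c 231) [⟨148, -1, 1⟩] []) (cond (Nat.beq c 233) [⟨163, 1, 1⟩] [])) (cond (Nat.blt c 238) (cond (Nat.beq c 234) [⟨172, -1, 1⟩] []) (cond (Nat.beq c 238) [⟨176, 1, 1⟩] []))) (cond (Nat.blt c 244) (cond (Nat.blt c 242) (cond (Nat.beq c 241) [⟨185, -1, 1⟩] []) (cond (Nat.beq c 242) [⟨195, -1, 1⟩] [])) (cond (Nat.blt c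 245) (cond (Nat.beq c 244) [⟨204, 1, 1⟩] []) (cond (Nat.blt c 246) (cond (Nat.beq c 245) [⟨206, 1, 1⟩] []) (cond (Nat.beq c 246) [⟨207, 1, 1⟩] [])))))))

end Cfsg.Agent.Lib.Helper3.ChevM
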