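import Cfsg.Agent.Lib.Helper3.ChevData.E8Rel
import Cfsg.Agent.Lib.Helper3.ChevData.E8Wit
set_option autoImplicit false
set_option maxRecDepth 1000000
set_option Elab.async false

namespace Cfsg.Agent.Lib.Helper3.ChevM

theorem e8Comm_1_2294 : allRange 2294 2356 ((fun k => commOKk cdE8 reflE8 etaE8 witE8 (k / 240) (k % 240))) = true := by decide +kernel
theorem e8Comm_1_2356 : allRange 2356 2418 ((fun k => commOKk cdE8 reflE8 etaE8 witE8 (k / 240) (k % 240))) = true := by decide +kernel
theorem e8Comm_1_2418 : allRange 2418 2480 ((fun k => commOKk cdE8 reflE8 etaE8 witE8 (k / 240) (k % 240))) = true := by decide +kernel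
theorem e8Comm_1_2480 : allRange 2480 2542 ((fun k => commOKk cdE8 reflE8 etaE8 witE8 (k / 240) (k % 240))) = true := by decide +kernel
theorem e8Comm_1_2542 : allRange 2542 2604 ((fun k => commOKk cdE8 reflE8 etaE8 witE8 (k / 240) (k % 240))) = true := by decide +kernel
theorem e8Comm_1_2604 : allRange 2604 2666 ((fun k => commOKk cdE8 reflE8 etaE8 witE8 (k / 240) (k % 240))) = true := by decide +kernel
theorem e8Comm_1_2666 : allRange 2666 2728 ((fun k => commOKk cdE8 reflE8 etaE8 witE8 (k / 240) (k % 240))) = true := by decide +kernel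
theorem e8Comm_1_2728 : allRange 2728 2790 ((fun k => commOKk cdE8 reflE8 etaE8 witE8 (k / 240) (k % 240))) = true := by decide +kernel
theorem e8Comm_1_2790 : allRange 2790 2852 ((fun k => commOKk cdE8 reflE8 etaE8 witE8 (k / 240) (k % 240))) = true := by decide +kernel
theorem e8Comm_1_2852 : allRange 2852 2914 ((fun k => commOKk cdE8 reflE8 etaE8 witE8 (k / 240) (k % 240))) = true := by decide +kernel
theorem e8Comm_1_2914 : allRange 2914 2976 ((fun k => commOKk cdE8 reflE8 etaE8 witE8 (k / 240) (k % 240))) = true := by decide +kernel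
theorem e8Comm_1_2976 : allRange 2976 3038 ((fun k => commOKk cdE8 reflE8 etaE8 witE8 (k / 240) (k % 240))) = true := by decide +kernel
theorem e8Comm_1_3038 : allRange 3038 3100 ((fun k => commOKk cdE8 reflE8 etaE8 witE8 (k / 240) (k % 240))) = true := by decide +kernel
theorem e8Comm_1_3100 : allRange 3100 3162 ((fun k => commOKk cdE8 reflE8 etaE8 witE8 (k / 240) (k % 240))) = true := by decide +kernel
theorem e8Comm_1_3162 : allRange 3162 3224 ((fun k => commOKk cdE8 reflE8 etaE8 witE8 (k / 240) (k % 240))) = true := by decide +kernel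
theorem e8Comm_1_3224 : allRange 3224 3286 ((fun k => commOKk cdE8 reflE8 etaE8 witE8 (k / 240) (k % 240))) = true := by decide +kernel
theorem e8Comm_1_3286 : allRange 3286 3348 ((fun k => commOKk cdE8 reflE8 etaE8 witE8 (k / 240) (k % 240))) = true := by decide +kernel
theorem e8Comm_1_3348 : allRange 3348 3410 ((fun k => commOKk cdE8 reflE8 etaE8 witE8 (k / 240) (k % 240))) = true := by decide +kernel
theorem e8Comm_1_3410 : allRange 3410 3472 ((fun k => commOKk cdE8 reflE8 etaE8 witE8 (k / 240) (k % 240))) = true := by decide +kernel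
theorem e8Comm_1_3472 : allRange 3472 3534 ((fun k => commOKk cdE8 reflE8 etaE8 witE8 (k / 240) (k % 240))) = true := by decide +kernel
theorem e8Comm_1_3534 : allRange 3534 3596 ((fun k => commOKk cdE8 reflE8 etaE8 witE8 (k / 240) (k % 240))) = true := by decide +kernel
theorem e8Comm_1_3596 : allRange 3596 3658 ((fun k => commOKk cdE8 reflE8 etaE8 witE8 (k / 240) (k % 240))) = true := by decide +kernel
theorem e8Comm_1_3658 : allRange 3658 3720 ((fun k => commOKk cdE8 reflE8 etaE8 witE8 (k / 240) (k % 240))) = true := by decide +kernel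
theorem e8Comm_1_3720 : allRange 3720 3782 ((fun k => commOKk cdE8 reflE8 etaE8 witE8 (k / 240) (k % 240))) = true := by decide +kernel
theorem e8Comm_1_3782 : allRange 3782 3844 ((fun k => commOKk cdE8 reflE8 etaE8 witE8 (k / 240) (k % 240))) = true := by decide +kernel
theorem e8Comm_1_3844 : allRange 3844 3906 ((fun k => commOKk cdE8 reflE8 etaE8 witE8 (k / 240) (k % 240))) = true := by decide +kernel
theorem e8Comm_1_3906 : allRange 3906 3968 ((fun k => commOKk cdE8 reflE8 etaE8 witE8 (k / 240) (k % 240))) = true := by decide +kernel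
theorem e8Comm_1_3968 : allRange 3968 4030 ((fun k => commOKk cdE8 reflE8 etaE8 witE8 (k / 240) (k % 240))) = true := by decide +kernel
theorem e8Comm_1_4030 : allRange 4030 4092 ((fun k => commOKk cdE8 reflE8 etaE8 witE8 (k / 240) (k % 240))) = true := by decide +kernel
theorem e8Comm_1_4092 : allRange 4092 4154 ((fun k => commOKk cdE8 reflE8 etaE8 witE8 (k / 240) (k % 240))) = true := by decide +kernel
theorem e8Comm_1_4154 : allRange 4154 4216 ((fun k => commOKk cdE8 reflE8 etaE8 witE8 (k / 240) (k % 240))) = true := by decide +kernel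
theorem e8Comm_1_4216 : allRange 4216 4278 ((fun k => commOKk cdE8 reflE8 etaE8 witE8 (k / 240) (k % 240))) = true := by decide +kernel
theorem e8Comm_1_4278 : allRange 4278 4340 ((fun k => commOKk cdE8 reflE8 etaE8 witE8 (k / 240) (k % 240))) = true := by decide +kernel
theorem e8Comm_1_4340 : allRange 4340 4402 ((fun k => commOKk cdE8 reflE8 etaE8 witE8 (k / 240) (k % 240))) = true := by decide +kernel
theorem e8Comm_1_4402 : allRange 4402 4464 ((fun k => commOKk cdE8 reflE8 etaE8 witE8 (k / 240) (k % 240))) = true := by decide +kernel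
theorem e8Comm_1_4464 : allRange 4464 4526 ((fun k => commOKk cdE8 reflE8 etaE8 witE8 (k / 240) (k % 240))) = true := by decide +kernel
theorem e8Comm_1_4526 : allRange 4526 4588 ((fun k => commOKk cdE8 reflE8 etaE8 witE8 (k / 240) (k % 240))) = true := by decide +kernel

/-- Steps of the derivation of the commutator formula of type E8 (roots 2294 to 4587). -/
theorem e8Comm_1 : ∀ r, 2294 ≤ r → r < 4588 → ((fun k => commOKk cdE8 reflE8 etaE8 witE8 (k / 240) (k % 240))) r = true := by
  intro r h1 h2
  by_cases c0 : r < 2356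
  · exact allRange_spec e8Comm_1_2294 r (by omega) c0
  by_cases c1 : r < 2418
  · exact allRange_spec e8Comm_1_2356 r (by omega) c1
  by_cases c2 : r < 2480
  · exact allRange_spec e8Comm_1_2418 r (by omega) c2
  by_cases c3 : r < 2542
  · exact allRange_spec e8Comm_1_2480 r (by omega) c3
  by_cases c4 : r < 2604
  · exact allRange_spec e8Comm_1_2542 r (by omega) c4
  by_cases c5 : r < 2666
  · exact allRange_spec e8Comm_1_2604 r (by omega) c5
  by_cases c6 : r < 2728
  · exact allRange_spec e8Comm_1_2666 r (by omega) c6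
  by_cases c7 : r < 2790
  · exact allRange_spec e8Comm_1_2728 r (by omega) c7
  by_cases c8 : r < 2852
  · exact allRange_spec e8Comm_1_2790 r (by omega) c8
  by_cases c9 : r < 2914
  · exact allRange_spec e8Comm_1_2852 r (by omega) c9
  by_cases c10 : r < 2976
  · exact allRange_spec e8Comm_1_2914 r (by omega) c10
  by_cases c11 : r < 3038
  · exact allRange_spec e8Comm_1_2976 r (by omega) c11
  by_cases c12 : r < 3100
  · exact allRange_spec e8Comm_1_3038 r (by omega) c12
  by_cases c13 : r < 3162
  · exact allRange_spec e8Comm_1_3100 r (by omega) c13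
  by_cases c14 : r < 3224
  · exact allRange_spec e8Comm_1_3162 r (by omega) c14
  by_cases c15 : r < 3286
  · exact allRange_spec e8Comm_1_3224 r (by omega) c15
  by_cases c16 : r < 3348
  · exact allRange_spec e8Comm_1_3286 r (by omega) c16
  by_cases c17 : r < 3410
  · exact allRange_spec e8Comm_1_3348 r (by omega) c17
  by_cases c18 : r < 3472
  · exact allRange_spec e8Comm_1_3410 r (by omega) c18
  by_cases c19 : r < 3534
  · exact allRange_spec e8Comm_1_3472 r (by omega) c19
  by_cases c20 : r < 3596
  · exact allRange_spec e8Comm_1_3534 r (by omega) c20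
  by_cases c21 : r < 3658
  · exact allRange_spec e8Comm_1_3596 r (by omega) c21
  by_cases c22 : r < 3720
  · exact allRange_spec e8Comm_1_3658 r (by omega) c22
  by_cases c23 : r < 3782
  · exact allRange_spec e8Comm_1_3720 r (by omega) c23
  by_cases c24 : r < 3844
  · exact allRange_spec e8Comm_1_3782 r (by omega) c24
  by_cases c25 : r < 3906
  · exact allRange_spec e8Comm_1_3844 r (by omega) c25
  by_cases c26 : r < 3968
  · exact allRange_spec e8Comm_1_3906 r (by omega) c26
  by_cases c27 : r < 4030
  · exact allRange_spec e8Comm_1_3968 r (by omega) c27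
  by_cases c28 : r < 4092
  · exact allRange_spec e8Comm_1_4030 r (by omega) c28
  by_cases c29 : r < 4154
  · exact allRange_spec e8Comm_1_4092 r (by omega) c29
  by_cases c30 : r < 4216
  · exact allRange_spec e8Comm_1_4154 r (by omega) c30
  by_cases c31 : r < 4278
  · exact allRange_spec e8Comm_1_4216 r (by omega) c31
  by_cases c32 : r < 4340
  · exact allRange_spec e8Comm_1_4278 r (by omega) c32
  by_cases c33 : r < 4402
  · exact allRange_spec e8Comm_1_4340 r (by omega) c33
  by_cases c34 : r < 4464
  · exact allRange_spec e8Comm_1_4402 r (by omega) c34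
  by_cases c35 : r < 4526
  · exact allRange_spec e8Comm_1_4464 r (by omega) c35
  exact allRange_spec e8Comm_1_4526 r (by omega) h2

end Cfsg.Agent.Lib.Helper3.ChevM
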