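import Cfsg.Agent.Lib.Helper3.ChevData.E8Rel
import Cfsg.Agent.Lib.Helper3.ChevData.E8Wit
set_option autoImplicit false
set_option maxRecDepth 1000000
set_option Elab.async false

namespace Cfsg.Agent.Lib.Helper3.ChevM

theorem e8Comm_2_4588 : allRange 4588 4650 ((fun k => commOKk cdE8 reflE8 etaE8 witE8 (k / 240) (k % 240))) = true := by decide +kernel
theorem e8Comm_2_4650 : allRange 4650 4712 ((fun k => commOKk cdE8 reflE8 etaE8 witE8 (k / 240) (k % 240))) = true := by decide +kernel
theorem e8Comm_2_4712 : allRange 4712 4774 ((fun k => commOKk cdE8 reflE8 etaE8 witE8 (k / 240) (k % 240))) = true := by decide +kernel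
theorem e8Comm_2_4774 : allRange 4774 4836 ((fun k => commOKk cdE8 reflE8 etaE8 witE8 (k / 240) (k % 240))) = true := by decide +kernel
theorem e8Comm_2_4836 : allRange 4836 4898 ((fun k => commOKk cdE8 reflE8 etaE8 witE8 (k / 240) (k % 240))) = true := by decide +kernel
theorem e8Comm_2_4898 : allRange 4898 4960 ((fun k => commOKk cdE8 reflE8 etaE8 witE8 (k / 240) (k % 240))) = true := by decide +kernel
theorem e8Comm_2_4960 : allRange 4960 5022 ((fun k => commOKk cdE8 reflE8 etaE8 witE8 (k / 240) (k % 240))) = true := by decide +kernel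
theorem e8Comm_2_5022 : allRange 5022 5084 ((fun k => commOKk cdE8 reflE8 etaE8 witE8 (k / 240) (k % 240))) = true := by decide +kernel
theorem e8Comm_2_5084 : allRange 5084 5146 ((fun k => commOKk cdE8 reflE8 etaE8 witE8 (k / 240) (k % 240))) = true := by decide +kernel
theorem e8Comm_2_5146 : allRange 5146 5208 ((fun k => commOKk cdE8 reflE8 etaE8 witE8 (k / 240) (k % 240))) = true := by decide +kernel
theorem e8Comm_2_5208 : allRange 5208 5270 ((fun k => commOKk cdE8 reflE8 etaE8 witE8 (k / 240) (k % 240))) = true := by decide +kernel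
theorem e8Comm_2_5270 : allRange 5270 5332 ((fun k => commOKk cdE8 reflE8 etaE8 witE8 (k / 240) (k % 240))) = true := by decide +kernel
theorem e8Comm_2_5332 : allRange 5332 5394 ((fun k => commOKk cdE8 reflE8 etaE8 witE8 (k / 240) (k % 240))) = true := by decide +kernel
theorem e8Comm_2_5394 : allRange 5394 5456 ((fun k => commOKk cdE8 reflE8 etaE8 witE8 (k / 240) (k % 240))) = true := by decide +kernel
theorem e8Comm_2_5456 : allRange 5456 5518 ((fun k => commOKk cdE8 reflE8 etaE8 witE8 (k / 240) (k % 240))) = true := by decide +kernel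
theorem e8Comm_2_5518 : allRange 5518 5580 ((fun k => commOKk cdE8 reflE8 etaE8 witE8 (k / 240) (k % 240))) = true := by decide +kernel
theorem e8Comm_2_5580 : allRange 5580 5642 ((fun k => commOKk cdE8 reflE8 etaE8 witE8 (k / 240) (k % 240))) = true := by decide +kernel
theorem e8Comm_2_5642 : allRange 5642 5704 ((fun k => commOKk cdE8 reflE8 etaE8 witE8 (k / 240) (k % 240))) = true := by decide +kernel
theorem e8Comm_2_5704 : allRange 5704 5766 ((fun k => commOKk cdE8 reflE8 etaE8 witE8 (k / 240) (k % 240))) = true := by decide +kernel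
theorem e8Comm_2_5766 : allRange 5766 5828 ((fun k => commOKk cdE8 reflE8 etaE8 witE8 (k / 240) (k % 240))) = true := by decide +kernel
theorem e8Comm_2_5828 : allRange 5828 5890 ((fun k => commOKk cdE8 reflE8 etaE8 witE8 (k / 240) (k % 240))) = true := by decide +kernel
theorem e8Comm_2_5890 : allRange 5890 5952 ((fun k => commOKk cdE8 reflE8 etaE8 witE8 (k / 240) (k % 240))) = true := by decide +kernel
theorem e8Comm_2_5952 : allRange 5952 6014 ((fun k => commOKk cdE8 reflE8 etaE8 witE8 (k / 240) (k % 240))) = true := by decide +kernel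
theorem e8Comm_2_6014 : allRange 6014 6076 ((fun k => commOKk cdE8 reflE8 etaE8 witE8 (k / 240) (k % 240))) = true := by decide +kernel
theorem e8Comm_2_6076 : allRange 6076 6138 ((fun k => commOKk cdE8 reflE8 etaE8 witE8 (k / 240) (k % 240))) = true := by decide +kernel
theorem e8Comm_2_6138 : allRange 6138 6200 ((fun k => commOKk cdE8 reflE8 etaE8 witE8 (k / 240) (k % 240))) = true := by decide +kernel
theorem e8Comm_2_6200 : allRange 6200 6262 ((fun k => commOKk cdE8 reflE8 etaE8 witE8 (k / 240) (k % 240))) = true := by decide +kernel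
theorem e8Comm_2_6262 : allRange 6262 6324 ((fun k => commOKk cdE8 reflE8 etaE8 witE8 (k / 240) (k % 240))) = true := by decide +kernel
theorem e8Comm_2_6324 : allRange 6324 6386 ((fun k => commOKk cdE8 reflE8 etaE8 witE8 (k / 240) (k % 240))) = true := by decide +kernel
theorem e8Comm_2_6386 : allRange 6386 6448 ((fun k => commOKk cdE8 reflE8 etaE8 witE8 (k / 240) (k % 240))) = true := by decide +kernel
theorem e8Comm_2_6448 : allRange 6448 6510 ((fun k => commOKk cdE8 reflE8 etaE8 witE8 (k / 240) (k % 240))) = true := by decide +kernel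
theorem e8Comm_2_6510 : allRange 6510 6572 ((fun k => commOKk cdE8 reflE8 etaE8 witE8 (k / 240) (k % 240))) = true := by decide +kernel
theorem e8Comm_2_6572 : allRange 6572 6634 ((fun k => commOKk cdE8 reflE8 etaE8 witE8 (k / 240) (k % 240))) = true := by decide +kernel
theorem e8Comm_2_6634 : allRange 6634 6696 ((fun k => commOKk cdE8 reflE8 etaE8 witE8 (k / 240) (k % 240))) = true := by decide +kernel
theorem e8Comm_2_6696 : allRange 6696 6758 ((fun k => commOKk cdE8 reflE8 etaE8 witE8 (k / 240) (k % 240))) = true := by decide +kernel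
theorem e8Comm_2_6758 : allRange 6758 6820 ((fun k => commOKk cdE8 reflE8 etaE8 witE8 (k / 240) (k % 240))) = true := by decide +kernel
theorem e8Comm_2_6820 : allRange 6820 6882 ((fun k => commOKk cdE8 reflE8 etaE8 witE8 (k / 240) (k % 240))) = true := by decide +kernel

/-- Steps of the derivation of the commutator formula of type E8 (roots 4588 to 6881). -/
theorem e8Comm_2 : ∀ r, 4588 ≤ r → r < 6882 → ((fun k => commOKk cdE8 reflE8 etaE8 witE8 (k / 240) (k % 240))) r = true := by
  intro r h1 h2
  by_cases c0 : r < 4650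
  · exact allRange_spec e8Comm_2_4588 r (by omega) c0
  by_cases c1 : r < 4712
  · exact allRange_spec e8Comm_2_4650 r (by omega) c1
  by_cases c2 : r < 4774
  · exact allRange_spec e8Comm_2_4712 r (by omega) c2
  by_cases c3 : r < 4836
  · exact allRange_spec e8Comm_2_4774 r (by omega) c3
  by_cases c4 : r < 4898
  · exact allRange_spec e8Comm_2_4836 r (by omega) c4
  by_cases c5 : r < 4960
  · exact allRange_spec e8Comm_2_4898 r (by omega) c5
  by_cases c6 : r < 5022
  · exact allRange_spec e8Comm_2_4960 r (by omega) c6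
  by_cases c7 : r < 5084
  · exact allRange_spec e8Comm_2_5022 r (by omega) c7
  by_cases c8 : r < 5146
  · exact allRange_spec e8Comm_2_5084 r (by omega) c8
  by_cases c9 : r < 5208
  · exact allRange_spec e8Comm_2_5146 r (by omega) c9
  by_cases c10 : r < 5270
  · exact allRange_spec e8Comm_2_5208 r (by omega) c10
  by_cases c11 : r < 5332
  · exact allRange_spec e8Comm_2_5270 r (by omega) c11
  by_cases c12 : r < 5394
  · exact allRange_spec e8Comm_2_5332 r (by omega) c12
  by_cases c13 : r < 5456
  · exact allRange_spec e8Comm_2_5394 r (by omega) c13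
  by_cases c14 : r < 5518
  · exact allRange_spec e8Comm_2_5456 r (by omega) c14
  by_cases c15 : r < 5580
  · exact allRange_spec e8Comm_2_5518 r (by omega) c15
  by_cases c16 : r < 5642
  · exact allRange_spec e8Comm_2_5580 r (by omega) c16
  by_cases c17 : r < 5704
  · exact allRange_spec e8Comm_2_5642 r (by omega) c17
  by_cases c18 : r < 5766
  · exact allRange_spec e8Comm_2_5704 r (by omega) c18
  by_cases c19 : r < 5828
  · exact allRange_spec e8Comm_2_5766 r (by omega) c19
  by_cases c20 : r < 5890
  · exact allRange_spec e8Comm_2_5828 r (by omega) c20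
  by_cases c21 : r < 5952
  · exact allRange_spec e8Comm_2_5890 r (by omega) c21
  by_cases c22 : r < 6014
  · exact allRange_spec e8Comm_2_5952 r (by omega) c22
  by_cases c23 : r < 6076
  · exact allRange_spec e8Comm_2_6014 r (by omega) c23
  by_cases c24 : r < 6138
  · exact allRange_spec e8Comm_2_6076 r (by omega) c24
  by_cases c25 : r < 6200
  · exact allRange_spec e8Comm_2_6138 r (by omega) c25
  by_cases c26 : r < 6262
  · exact allRange_spec e8Comm_2_6200 r (by omega) c26
  by_cases c27 : r < 6324
  · exact allRange_spec e8Comm_2_6262 r (by omega) c27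
  by_cases c28 : r < 6386
  · exact allRange_spec e8Comm_2_6324 r (by omega) c28
  by_cases c29 : r < 6448
  · exact allRange_spec e8Comm_2_6386 r (by omega) c29
  by_cases c30 : r < 6510
  · exact allRange_spec e8Comm_2_6448 r (by omega) c30
  by_cases c31 : r < 6572
  · exact allRange_spec e8Comm_2_6510 r (by omega) c31
  by_cases c32 : r < 6634
  · exact allRange_spec e8Comm_2_6572 r (by omega) c32
  by_cases c33 : r < 6696
  · exact allRange_spec e8Comm_2_6634 r (by omega) c33
  by_cases c34 : r < 6758
  · exact allRange_spec e8Comm_2_6696 r (by omega) c34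
  by_cases c35 : r < 6820
  · exact allRange_spec e8Comm_2_6758 r (by omega) c35
  exact allRange_spec e8Comm_2_6820 r (by omega) h2

end Cfsg.Agent.Lib.Helper3.ChevM
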