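import Cfsg.Agent.Lib.Helper3.ChevData.E8Rel
import Cfsg.Agent.Lib.Helper3.ChevData.E8Wit
set_option autoImplicit false
set_option maxRecDepth 1000000
set_option Elab.async false

namespace Cfsg.Agent.Lib.Helper3.ChevM

theorem e8Comm_3_6882 : allRange 6882 6944 ((fun k => commOKk cdE8 reflE8 etaE8 witE8 (k / 240) (k % 240))) = true := by decide +kernel
theorem e8Comm_3_6944 : allRange 6944 7006 ((fun k => commOKk cdE8 reflE8 etaE8 witE8 (k / 240) (k % 240))) = true := by decide +kernel
theorem e8Comm_3_7006 : allRange 7006 7068 ((fun k => commOKk cdE8 reflE8 etaE8 witE8 (k / 240) (k % 240))) = true := by decide +kernel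
theorem e8Comm_3_7068 : allRange 7068 7130 ((fun k => commOKk cdE8 reflE8 etaE8 witE8 (k / 240) (k % 240))) = true := by decide +kernel
theorem e8Comm_3_7130 : allRange 7130 7192 ((fun k => commOKk cdE8 reflE8 etaE8 witE8 (k / 240) (k % 240))) = true := by decide +kernel
theorem e8Comm_3_7192 : allRange 7192 7254 ((fun k => commOKk cdE8 reflE8 etaE8 witE8 (k / 240) (k % 240))) = true := by decide +kernel
theorem e8Comm_3_7254 : allRange 7254 7316 ((fun k => commOKk cdE8 reflE8 etaE8 witE8 (k / 240) (k % 240))) = true := by decide +kernel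
theorem e8Comm_3_7316 : allRange 7316 7378 ((fun k => commOKk cdE8 reflE8 etaE8 witE8 (k / 240) (k % 240))) = true := by decide +kernel
theorem e8Comm_3_7378 : allRange 7378 7440 ((fun k => commOKk cdE8 reflE8 etaE8 witE8 (k / 240) (k % 240))) = true := by decide +kernel
theorem e8Comm_3_7440 : allRange 7440 7502 ((fun k => commOKk cdE8 reflE8 etaE8 witE8 (k / 240) (k % 240))) = true := by decide +kernel
theorem e8Comm_3_7502 : allRange 7502 7564 ((fun k => commOKk cdE8 reflE8 etaE8 witE8 (k / 240) (k % 240))) = true := by decide +kernel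
theorem e8Comm_3_7564 : allRange 7564 7626 ((fun k => commOKk cdE8 reflE8 etaE8 witE8 (k / 240) (k % 240))) = true := by decide +kernel
theorem e8Comm_3_7626 : allRange 7626 7688 ((fun k => commOKk cdE8 reflE8 etaE8 witE8 (k / 240) (k % 240))) = true := by decide +kernel
theorem e8Comm_3_7688 : allRange 7688 7750 ((fun k => commOKk cdE8 reflE8 etaE8 witE8 (k / 240) (k % 240))) = true := by decide +kernel
theorem e8Comm_3_7750 : allRange 7750 7812 ((fun k => commOKk cdE8 reflE8 etaE8 witE8 (k / 240) (k % 240))) = true := by decide +kernel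
theorem e8Comm_3_7812 : allRange 7812 7874 ((fun k => commOKk cdE8 reflE8 etaE8 witE8 (k / 240) (k % 240))) = true := by decide +kernel
theorem e8Comm_3_7874 : allRange 7874 7936 ((fun k => commOKk cdE8 reflE8 etaE8 witE8 (k / 240) (k % 240))) = true := by decide +kernel
theorem e8Comm_3_7936 : allRange 7936 7998 ((fun k => commOKk cdE8 reflE8 etaE8 witE8 (k / 240) (k % 240))) = true := by decide +kernel
theorem e8Comm_3_7998 : allRange 7998 8060 ((fun k => commOKk cdE8 reflE8 etaE8 witE8 (k / 240) (k % 240))) = true := by decide +kernel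
theorem e8Comm_3_8060 : allRange 8060 8122 ((fun k => commOKk cdE8 reflE8 etaE8 witE8 (k / 240) (k % 240))) = true := by decide +kernel
theorem e8Comm_3_8122 : allRange 8122 8184 ((fun k => commOKk cdE8 reflE8 etaE8 witE8 (k / 240) (k % 240))) = true := by decide +kernel
theorem e8Comm_3_8184 : allRange 8184 8246 ((fun k => commOKk cdE8 reflE8 etaE8 witE8 (k / 240) (k % 240))) = true := by decide +kernel
theorem e8Comm_3_8246 : allRange 8246 8308 ((fun k => commOKk cdE8 reflE8 etaE8 witE8 (k / 240) (k % 240))) = true := by decide +kernel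
theorem e8Comm_3_8308 : allRange 8308 8370 ((fun k => commOKk cdE8 reflE8 etaE8 witE8 (k / 240) (k % 240))) = true := by decide +kernel
theorem e8Comm_3_8370 : allRange 8370 8432 ((fun k => commOKk cdE8 reflE8 etaE8 witE8 (k / 240) (k % 240))) = true := by decide +kernel
theorem e8Comm_3_8432 : allRange 8432 8494 ((fun k => commOKk cdE8 reflE8 etaE8 witE8 (k / 240) (k % 240))) = true := by decide +kernel
theorem e8Comm_3_8494 : allRange 8494 8556 ((fun k => commOKk cdE8 reflE8 etaE8 witE8 (k / 240) (k % 240))) = true := by decide +kernel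
theorem e8Comm_3_8556 : allRange 8556 8618 ((fun k => commOKk cdE8 reflE8 etaE8 witE8 (k / 240) (k % 240))) = true := by decide +kernel
theorem e8Comm_3_8618 : allRange 8618 8680 ((fun k => commOKk cdE8 reflE8 etaE8 witE8 (k / 240) (k % 240))) = true := by decide +kernel
theorem e8Comm_3_8680 : allRange 8680 8742 ((fun k => commOKk cdE8 reflE8 etaE8 witE8 (k / 240) (k % 240))) = true := by decide +kernel
theorem e8Comm_3_8742 : allRange 8742 8804 ((fun k => commOKk cdE8 reflE8 etaE8 witE8 (k / 240) (k % 240))) = true := by decide +kernel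
theorem e8Comm_3_8804 : allRange 8804 8866 ((fun k => commOKk cdE8 reflE8 etaE8 witE8 (k / 240) (k % 240))) = true := by decide +kernel
theorem e8Comm_3_8866 : allRange 8866 8928 ((fun k => commOKk cdE8 reflE8 etaE8 witE8 (k / 240) (k % 240))) = true := by decide +kernel
theorem e8Comm_3_8928 : allRange 8928 8990 ((fun k => commOKk cdE8 reflE8 etaE8 witE8 (k / 240) (k % 240))) = true := by decide +kernel
theorem e8Comm_3_8990 : allRange 8990 9052 ((fun k => commOKk cdE8 reflE8 etaE8 witE8 (k / 240) (k % 240))) = true := by decide +kernel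
theorem e8Comm_3_9052 : allRange 9052 9114 ((fun k => commOKk cdE8 reflE8 etaE8 witE8 (k / 240) (k % 240))) = true := by decide +kernel
theorem e8Comm_3_9114 : allRange 9114 9176 ((fun k => commOKk cdE8 reflE8 etaE8 witE8 (k / 240) (k % 240))) = true := by decide +kernel

/-- Steps of the derivation of the commutator formula of type E8 (roots 6882 to 9175). -/
theorem e8Comm_3 : ∀ r, 6882 ≤ r → r < 9176 → ((fun k => commOKk cdE8 reflE8 etaE8 witE8 (k / 240) (k % 240))) r = true := by
  intro r h1 h2
  by_cases c0 : r < 6944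
  · exact allRange_spec e8Comm_3_6882 r (by omega) c0
  by_cases c1 : r < 7006
  · exact allRange_spec e8Comm_3_6944 r (by omega) c1
  by_cases c2 : r < 7068
  · exact allRange_spec e8Comm_3_7006 r (by omega) c2
  by_cases c3 : r < 7130
  · exact allRange_spec e8Comm_3_7068 r (by omega) c3
  by_cases c4 : r < 7192
  · exact allRange_spec e8Comm_3_7130 r (by omega) c4
  by_cases c5 : r < 7254
  · exact allRange_spec e8Comm_3_7192 r (by omega) c5
  by_cases c6 : r < 7316
  · exact allRange_spec e8Comm_3_7254 r (by omega) c6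
  by_cases c7 : r < 7378
  · exact allRange_spec e8Comm_3_7316 r (by omega) c7
  by_cases c8 : r < 7440
  · exact allRange_spec e8Comm_3_7378 r (by omega) c8
  by_cases c9 : r < 7502
  · exact allRange_spec e8Comm_3_7440 r (by omega) c9
  by_cases c10 : r < 7564
  · exact allRange_spec e8Comm_3_7502 r (by omega) c10
  by_cases c11 : r < 7626
  · exact allRange_spec e8Comm_3_7564 r (by omega) c11
  by_cases c12 : r < 7688
  · exact allRange_spec e8Comm_3_7626 r (by omega) c12
  by_cases c13 : r < 7750
  · exact allRange_spec e8Comm_3_7688 r (by omega) c13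
  by_cases c14 : r < 7812
  · exact allRange_spec e8Comm_3_7750 r (by omega) c14
  by_cases c15 : r < 7874
  · exact allRange_spec e8Comm_3_7812 r (by omega) c15
  by_cases c16 : r < 7936
  · exact allRange_spec e8Comm_3_7874 r (by omega) c16
  by_cases c17 : r < 7998
  · exact allRange_spec e8Comm_3_7936 r (by omega) c17
  by_cases c18 : r < 8060
  · exact allRange_spec e8Comm_3_7998 r (by omega) c18
  by_cases c19 : r < 8122
  · exact allRange_spec e8Comm_3_8060 r (by omega) c19
  by_cases c20 : r < 8184
  · exact allRange_spec e8Comm_3_8122 r (by omega) c20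
  by_cases c21 : r < 8246
  · exact allRange_spec e8Comm_3_8184 r (by omega) c21
  by_cases c22 : r < 8308
  · exact allRange_spec e8Comm_3_8246 r (by omega) c22
  by_cases c23 : r < 8370
  · exact allRange_spec e8Comm_3_8308 r (by omega) c23
  by_cases c24 : r < 8432
  · exact allRange_spec e8Comm_3_8370 r (by omega) c24
  by_cases c25 : r < 8494
  · exact allRange_spec e8Comm_3_8432 r (by omega) c25
  by_cases c26 : r < 8556
  · exact allRange_spec e8Comm_3_8494 r (by omega) c26
  by_cases c27 : r < 8618
  · exact allRange_spec e8Comm_3_8556 r (by omega) c27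
  by_cases c28 : r < 8680
  · exact allRange_spec e8Comm_3_8618 r (by omega) c28
  by_cases c29 : r < 8742
  · exact allRange_spec e8Comm_3_8680 r (by omega) c29
  by_cases c30 : r < 8804
  · exact allRange_spec e8Comm_3_8742 r (by omega) c30
  by_cases c31 : r < 8866
  · exact allRange_spec e8Comm_3_8804 r (by omega) c31
  by_cases c32 : r < 8928
  · exact allRange_spec e8Comm_3_8866 r (by omega) c32
  by_cases c33 : r < 8990
  · exact allRange_spec e8Comm_3_8928 r (by omega) c33
  by_cases c34 : r < 9052
  · exact allRange_spec e8Comm_3_8990 r (by omega) c34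
  by_cases c35 : r < 9114
  · exact allRange_spec e8Comm_3_9052 r (by omega) c35
  exact allRange_spec e8Comm_3_9114 r (by omega) h2

end Cfsg.Agent.Lib.Helper3.ChevM
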