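import Cfsg.Agent.Lib.Helper3.ChevData.E8Rel
import Cfsg.Agent.Lib.Helper3.ChevData.E8Wit
set_option autoImplicit false
set_option maxRecDepth 1000000
set_option Elab.async false

namespace Cfsg.Agent.Lib.Helper3.ChevM

theorem e8Comm_4_9176 : allRange 9176 9238 ((fun k => commOKk cdE8 reflE8 etaE8 witE8 (k / 240) (k % 240))) = true := by decide +kernel
theorem e8Comm_4_9238 : allRange 9238 9300 ((fun k => commOKk cdE8 reflE8 etaE8 witE8 (k / 240) (k % 240))) = true := by decide +kernel
theorem e8Comm_4_9300 : allRange 9300 9362 ((fun k => commOKk cdE8 reflE8 etaE8 witE8 (k / 240) (k % 240))) = true := by decide +kernel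
theorem e8Comm_4_9362 : allRange 9362 9424 ((fun k => commOKk cdE8 reflE8 etaE8 witE8 (k / 240) (k % 240))) = true := by decide +kernel
theorem e8Comm_4_9424 : allRange 9424 9486 ((fun k => commOKk cdE8 reflE8 etaE8 witE8 (k / 240) (k % 240))) = true := by decide +kernel
theorem e8Comm_4_9486 : allRange 9486 9548 ((fun k => commOKk cdE8 reflE8 etaE8 witE8 (k / 240) (k % 240))) = true := by decide +kernel
theorem e8Comm_4_9548 : allRange 9548 9610 ((fun k => commOKk cdE8 reflE8 etaE8 witE8 (k / 240) (k % 240))) = true := by decide +kernel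
theorem e8Comm_4_9610 : allRange 9610 9672 ((fun k => commOKk cdE8 reflE8 etaE8 witE8 (k / 240) (k % 240))) = true := by decide +kernel
theorem e8Comm_4_9672 : allRange 9672 9734 ((fun k => commOKk cdE8 reflE8 etaE8 witE8 (k / 240) (k % 240))) = true := by decide +kernel
theorem e8Comm_4_9734 : allRange 9734 9796 ((fun k => commOKk cdE8 reflE8 etaE8 witE8 (k / 240) (k % 240))) = true := by decide +kernel
theorem e8Comm_4_9796 : allRange 9796 9858 ((fun k => commOKk cdE8 reflE8 etaE8 witE8 (k / 240) (k % 240))) = true := by decide +kernel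
theorem e8Comm_4_9858 : allRange 9858 9920 ((fun k => commOKk cdE8 reflE8 etaE8 witE8 (k / 240) (k % 240))) = true := by decide +kernel
theorem e8Comm_4_9920 : allRange 9920 9982 ((fun k => commOKk cdE8 reflE8 etaE8 witE8 (k / 240) (k % 240))) = true := by decide +kernel
theorem e8Comm_4_9982 : allRange 9982 10044 ((fun k => commOKk cdE8 reflE8 etaE8 witE8 (k / 240) (k % 240))) = true := by decide +kernel
theorem e8Comm_4_10044 : allRange 10044 10106 ((fun k => commOKk cdE8 reflE8 etaE8 witE8 (k / 240) (k % 240))) = true := by decide +kernel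
theorem e8Comm_4_10106 : allRange 10106 10168 ((fun k => commOKk cdE8 reflE8 etaE8 witE8 (k / 240) (k % 240))) = true := by decide +kernel
theorem e8Comm_4_10168 : allRange 10168 10230 ((fun k => commOKk cdE8 reflE8 etaE8 witE8 (k / 240) (k % 240))) = true := by decide +kernel
theorem e8Comm_4_10230 : allRange 10230 10292 ((fun k => commOKk cdE8 reflE8 etaE8 witE8 (k / 240) (k % 240))) = true := by decide +kernel
theorem e8Comm_4_10292 : allRange 10292 10354 ((fun k => commOKk cdE8 reflE8 etaE8 witE8 (k / 240) (k % 240))) = true := by decide +kernel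
theorem e8Comm_4_10354 : allRange 10354 10416 ((fun k => commOKk cdE8 reflE8 etaE8 witE8 (k / 240) (k % 240))) = true := by decide +kernel
theorem e8Comm_4_10416 : allRange 10416 10478 ((fun k => commOKk cdE8 reflE8 etaE8 witE8 (k / 240) (k % 240))) = true := by decide +kernel
theorem e8Comm_4_10478 : allRange 10478 10540 ((fun k => commOKk cdE8 reflE8 etaE8 witE8 (k / 240) (k % 240))) = true := by decide +kernel
theorem e8Comm_4_10540 : allRange 10540 10602 ((fun k => commOKk cdE8 reflE8 etaE8 witE8 (k / 240) (k % 240))) = true := by decide +kernel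
theorem e8Comm_4_10602 : allRange 10602 10664 ((fun k => commOKk cdE8 reflE8 etaE8 witE8 (k / 240) (k % 240))) = true := by decide +kernel
theorem e8Comm_4_10664 : allRange 10664 10726 ((fun k => commOKk cdE8 reflE8 etaE8 witE8 (k / 240) (k % 240))) = true := by decide +kernel
theorem e8Comm_4_10726 : allRange 10726 10788 ((fun k => commOKk cdE8 reflE8 etaE8 witE8 (k / 240) (k % 240))) = true := by decide +kernel
theorem e8Comm_4_10788 : allRange 10788 10850 ((fun k => commOKk cdE8 reflE8 etaE8 witE8 (k / 240) (k % 240))) = true := by decide +kernel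
theorem e8Comm_4_10850 : allRange 10850 10912 ((fun k => commOKk cdE8 reflE8 etaE8 witE8 (k / 240) (k % 240))) = true := by decide +kernel
theorem e8Comm_4_10912 : allRange 10912 10974 ((fun k => commOKk cdE8 reflE8 etaE8 witE8 (k / 240) (k % 240))) = true := by decide +kernel
theorem e8Comm_4_10974 : allRange 10974 11036 ((fun k => commOKk cdE8 reflE8 etaE8 witE8 (k / 240) (k % 240))) = true := by decide +kernel
theorem e8Comm_4_11036 : allRange 11036 11098 ((fun k => commOKk cdE8 reflE8 etaE8 witE8 (k / 240) (k % 240))) = true := by decide +kernel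
theorem e8Comm_4_11098 : allRange 11098 11160 ((fun k => commOKk cdE8 reflE8 etaE8 witE8 (k / 240) (k % 240))) = true := by decide +kernel
theorem e8Comm_4_11160 : allRange 11160 11222 ((fun k => commOKk cdE8 reflE8 etaE8 witE8 (k / 240) (k % 240))) = true := by decide +kernel
theorem e8Comm_4_11222 : allRange 11222 11284 ((fun k => commOKk cdE8 reflE8 etaE8 witE8 (k / 240) (k % 240))) = true := by decide +kernel
theorem e8Comm_4_11284 : allRange 11284 11346 ((fun k => commOKk cdE8 reflE8 etaE8 witE8 (k / 240) (k % 240))) = true := by decide +kernel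
theorem e8Comm_4_11346 : allRange 11346 11408 ((fun k => commOKk cdE8 reflE8 etaE8 witE8 (k / 240) (k % 240))) = true := by decide +kernel
theorem e8Comm_4_11408 : allRange 11408 11470 ((fun k => commOKk cdE8 reflE8 etaE8 witE8 (k / 240) (k % 240))) = true := by decide +kernel

/-- Steps of the derivation of the commutator formula of type E8 (roots 9176 to 11469). -/
theorem e8Comm_4 : ∀ r, 9176 ≤ r → r < 11470 → ((fun k => commOKk cdE8 reflE8 etaE8 witE8 (k / 240) (k % 240))) r = true := by
  intro r h1 h2
  by_cases c0 : r < 9238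
  · exact allRange_spec e8Comm_4_9176 r (by omega) c0
  by_cases c1 : r < 9300
  · exact allRange_spec e8Comm_4_9238 r (by omega) c1
  by_cases c2 : r < 9362
  · exact allRange_spec e8Comm_4_9300 r (by omega) c2
  by_cases c3 : r < 9424
  · exact allRange_spec e8Comm_4_9362 r (by omega) c3
  by_cases c4 : r < 9486
  · exact allRange_spec e8Comm_4_9424 r (by omega) c4
  by_cases c5 : r < 9548
  · exact allRange_spec e8Comm_4_9486 r (by omega) c5
  by_cases c6 : r < 9610
  · exact allRange_spec e8Comm_4_9548 r (by omega) c6
  by_cases c7 : r < 9672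
  · exact allRange_spec e8Comm_4_9610 r (by omega) c7
  by_cases c8 : r < 9734
  · exact allRange_spec e8Comm_4_9672 r (by omega) c8
  by_cases c9 : r < 9796
  · exact allRange_spec e8Comm_4_9734 r (by omega) c9
  by_cases c10 : r < 9858
  · exact allRange_spec e8Comm_4_9796 r (by omega) c10
  by_cases c11 : r < 9920
  · exact allRange_spec e8Comm_4_9858 r (by omega) c11
  by_cases c12 : r < 9982
  · exact allRange_spec e8Comm_4_9920 r (by omega) c12
  by_cases c13 : r < 10044
  · exact allRange_spec e8Comm_4_9982 r (by omega) c13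
  by_cases c14 : r < 10106
  · exact allRange_spec e8Comm_4_10044 r (by omega) c14
  by_cases c15 : r < 10168
  · exact allRange_spec e8Comm_4_10106 r (by omega) c15
  by_cases c16 : r < 10230
  · exact allRange_spec e8Comm_4_10168 r (by omega) c16
  by_cases c17 : r < 10292
  · exact allRange_spec e8Comm_4_10230 r (by omega) c17
  by_cases c18 : r < 10354
  · exact allRange_spec e8Comm_4_10292 r (by omega) c18
  by_cases c19 : r < 10416
  · exact allRange_spec e8Comm_4_10354 r (by omega) c19
  by_cases c20 : r < 10478
  · exact allRange_spec e8Comm_4_10416 r (by omega) c20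
  by_cases c21 : r < 10540
  · exact allRange_spec e8Comm_4_10478 r (by omega) c21
  by_cases c22 : r < 10602
  · exact allRange_spec e8Comm_4_10540 r (by omega) c22
  by_cases c23 : r < 10664
  · exact allRange_spec e8Comm_4_10602 r (by omega) c23
  by_cases c24 : r < 10726
  · exact allRange_spec e8Comm_4_10664 r (by omega) c24
  by_cases c25 : r < 10788
  · exact allRange_spec e8Comm_4_10726 r (by omega) c25
  by_cases c26 : r < 10850
  · exact allRange_spec e8Comm_4_10788 r (by omega) c26
  by_cases c27 : r < 10912
  · exact allRange_spec e8Comm_4_10850 r (by omega) c27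
  by_cases c28 : r < 10974
  · exact allRange_spec e8Comm_4_10912 r (by omega) c28
  by_cases c29 : r < 11036
  · exact allRange_spec e8Comm_4_10974 r (by omega) c29
  by_cases c30 : r < 11098
  · exact allRange_spec e8Comm_4_11036 r (by omega) c30
  by_cases c31 : r < 11160
  · exact allRange_spec e8Comm_4_11098 r (by omega) c31
  by_cases c32 : r < 11222
  · exact allRange_spec e8Comm_4_11160 r (by omega) c32
  by_cases c33 : r < 11284
  · exact allRange_spec e8Comm_4_11222 r (by omega) c33
  by_cases c34 : r < 11346
  · exact allRange_spec e8Comm_4_11284 r (by omega) c34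
  by_cases c35 : r < 11408
  · exact allRange_spec e8Comm_4_11346 r (by omega) c35
  exact allRange_spec e8Comm_4_11408 r (by omega) h2

end Cfsg.Agent.Lib.Helper3.ChevM
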