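import Cfsg.Agent.Lib.Helper3.ChevData.E8Rel
import Cfsg.Agent.Lib.Helper3.ChevData.E8Wit
set_option autoImplicit false
set_option maxRecDepth 1000000
set_option Elab.async false

namespace Cfsg.Agent.Lib.Helper3.ChevM

theorem e8Comm_5_11470 : allRange 11470 11532 ((fun k => commOKk cdE8 reflE8 etaE8 witE8 (k / 240) (k % 240))) = true := by decide +kernel
theorem e8Comm_5_11532 : allRange 11532 11594 ((fun k => commOKk cdE8 reflE8 etaE8 witE8 (k / 240) (k % 240))) = true := by decide +kernel
theorem e8Comm_5_11594 : allRange 11594 11656 ((fun k => commOKk cdE8 reflE8 etaE8 witE8 (k / 240) (k % 240))) = true := by decide +kernel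
theorem e8Comm_5_11656 : allRange 11656 11718 ((fun k => commOKk cdE8 reflE8 etaE8 witE8 (k / 240) (k % 240))) = true := by decide +kernel
theorem e8Comm_5_11718 : allRange 11718 11780 ((fun k => commOKk cdE8 reflE8 etaE8 witE8 (k / 240) (k % 240))) = true := by decide +kernel
theorem e8Comm_5_11780 : allRange 11780 11842 ((fun k => commOKk cdE8 reflE8 etaE8 witE8 (k / 240) (k % 240))) = true := by decide +kernel
theorem e8Comm_5_11842 : allRange 11842 11904 ((fun k => commOKk cdE8 reflE8 etaE8 witE8 (k / 240) (k % 240))) = true := by decide +kernel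
theorem e8Comm_5_11904 : allRange 11904 11966 ((fun k => commOKk cdE8 reflE8 etaE8 witE8 (k / 240) (k % 240))) = true := by decide +kernel
theorem e8Comm_5_11966 : allRange 11966 12028 ((fun k => commOKk cdE8 reflE8 etaE8 witE8 (k / 240) (k % 240))) = true := by decide +kernel
theorem e8Comm_5_12028 : allRange 12028 12090 ((fun k => commOKk cdE8 reflE8 etaE8 witE8 (k / 240) (k % 240))) = true := by decide +kernel
theorem e8Comm_5_12090 : allRange 12090 12152 ((fun k => commOKk cdE8 reflE8 etaE8 witE8 (k / 240) (k % 240))) = true := by decide +kernel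
theorem e8Comm_5_12152 : allRange 12152 12214 ((fun k => commOKk cdE8 reflE8 etaE8 witE8 (k / 240) (k % 240))) = true := by decide +kernel
theorem e8Comm_5_12214 : allRange 12214 12276 ((fun k => commOKk cdE8 reflE8 etaE8 witE8 (k / 240) (k % 240))) = true := by decide +kernel
theorem e8Comm_5_12276 : allRange 12276 12338 ((fun k => commOKk cdE8 reflE8 etaE8 witE8 (k / 240) (k % 240))) = true := by decide +kernel
theorem e8Comm_5_12338 : allRange 12338 12400 ((fun k => commOKk cdE8 reflE8 etaE8 witE8 (k / 240) (k % 240))) = true := by decide +kernel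
theorem e8Comm_5_12400 : allRange 12400 12462 ((fun k => commOKk cdE8 reflE8 etaE8 witE8 (k / 240) (k % 240))) = true := by decide +kernel
theorem e8Comm_5_12462 : allRange 12462 12524 ((fun k => commOKk cdE8 reflE8 etaE8 witE8 (k / 240) (k % 240))) = true := by decide +kernel
theorem e8Comm_5_12524 : allRange 12524 12586 ((fun k => commOKk cdE8 reflE8 etaE8 witE8 (k / 240) (k % 240))) = true := by decide +kernel
theorem e8Comm_5_12586 : allRange 12586 12648 ((fun k => commOKk cdE8 reflE8 etaE8 witE8 (k / 240) (k % 240))) = true := by decide +kernel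
theorem e8Comm_5_12648 : allRange 12648 12710 ((fun k => commOKk cdE8 reflE8 etaE8 witE8 (k / 240) (k % 240))) = true := by decide +kernel
theorem e8Comm_5_12710 : allRange 12710 12772 ((fun k => commOKk cdE8 reflE8 etaE8 witE8 (k / 240) (k % 240))) = true := by decide +kernel
theorem e8Comm_5_12772 : allRange 12772 12834 ((fun k => commOKk cdE8 reflE8 etaE8 witE8 (k / 240) (k % 240))) = true := by decide +kernel
theorem e8Comm_5_12834 : allRange 12834 12896 ((fun k => commOKk cdE8 reflE8 etaE8 witE8 (k / 240) (k % 240))) = true := by decide +kernel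
theorem e8Comm_5_12896 : allRange 12896 12958 ((fun k => commOKk cdE8 reflE8 etaE8 witE8 (k / 240) (k % 240))) = true := by decide +kernel
theorem e8Comm_5_12958 : allRange 12958 13020 ((fun k => commOKk cdE8 reflE8 etaE8 witE8 (k / 240) (k % 240))) = true := by decide +kernel
theorem e8Comm_5_13020 : allRange 13020 13082 ((fun k => commOKk cdE8 reflE8 etaE8 witE8 (k / 240) (k % 240))) = true := by decide +kernel
theorem e8Comm_5_13082 : allRange 13082 13144 ((fun k => commOKk cdE8 reflE8 etaE8 witE8 (k / 240) (k % 240))) = true := by decide +kernel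
theorem e8Comm_5_13144 : allRange 13144 13206 ((fun k => commOKk cdE8 reflE8 etaE8 witE8 (k / 240) (k % 240))) = true := by decide +kernel
theorem e8Comm_5_13206 : allRange 13206 13268 ((fun k => commOKk cdE8 reflE8 etaE8 witE8 (k / 240) (k % 240))) = true := by decide +kernel
theorem e8Comm_5_13268 : allRange 13268 13330 ((fun k => commOKk cdE8 reflE8 etaE8 witE8 (k / 240) (k % 240))) = true := by decide +kernel
theorem e8Comm_5_13330 : allRange 13330 13392 ((fun k => commOKk cdE8 reflE8 etaE8 witE8 (k / 240) (k % 240))) = true := by decide +kernel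
theorem e8Comm_5_13392 : allRange 13392 13454 ((fun k => commOKk cdE8 reflE8 etaE8 witE8 (k / 240) (k % 240))) = true := by decide +kernel
theorem e8Comm_5_13454 : allRange 13454 13516 ((fun k => commOKk cdE8 reflE8 etaE8 witE8 (k / 240) (k % 240))) = true := by decide +kernel
theorem e8Comm_5_13516 : allRange 13516 13578 ((fun k => commOKk cdE8 reflE8 etaE8 witE8 (k / 240) (k % 240))) = true := by decide +kernel
theorem e8Comm_5_13578 : allRange 13578 13640 ((fun k => commOKk cdE8 reflE8 etaE8 witE8 (k / 240) (k % 240))) = true := by decide +kernel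
theorem e8Comm_5_13640 : allRange 13640 13702 ((fun k => commOKk cdE8 reflE8 etaE8 witE8 (k / 240) (k % 240))) = true := by decide +kernel
theorem e8Comm_5_13702 : allRange 13702 13764 ((fun k => commOKk cdE8 reflE8 etaE8 witE8 (k / 240) (k % 240))) = true := by decide +kernel

/-- Steps of the derivation of the commutator formula of type E8 (roots 11470 to 13763). -/
theorem e8Comm_5 : ∀ r, 11470 ≤ r → r < 13764 → ((fun k => commOKk cdE8 reflE8 etaE8 witE8 (k / 240) (k % 240))) r = true := by
  intro r h1 h2
  by_cases c0 : r < 11532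
  · exact allRange_spec e8Comm_5_11470 r (by omega) c0
  by_cases c1 : r < 11594
  · exact allRange_spec e8Comm_5_11532 r (by omega) c1
  by_cases c2 : r < 11656
  · exact allRange_spec e8Comm_5_11594 r (by omega) c2
  by_cases c3 : r < 11718
  · exact allRange_spec e8Comm_5_11656 r (by omega) c3
  by_cases c4 : r < 11780
  · exact allRange_spec e8Comm_5_11718 r (by omega) c4
  by_cases c5 : r < 11842
  · exact allRange_spec e8Comm_5_11780 r (by omega) c5
  by_cases c6 : r < 11904
  · exact allRange_spec e8Comm_5_11842 r (by omega) c6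
  by_cases c7 : r < 11966
  · exact allRange_spec e8Comm_5_11904 r (by omega) c7
  by_cases c8 : r < 12028
  · exact allRange_spec e8Comm_5_11966 r (by omega) c8
  by_cases c9 : r < 12090
  · exact allRange_spec e8Comm_5_12028 r (by omega) c9
  by_cases c10 : r < 12152
  · exact allRange_spec e8Comm_5_12090 r (by omega) c10
  by_cases c11 : r < 12214
  · exact allRange_spec e8Comm_5_12152 r (by omega) c11
  by_cases c12 : r < 12276
  · exact allRange_spec e8Comm_5_12214 r (by omega) c12
  by_cases c13 : r < 12338
  · exact allRange_spec e8Comm_5_12276 r (by omega) c13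
  by_cases c14 : r < 12400
  · exact allRange_spec e8Comm_5_12338 r (by omega) c14
  by_cases c15 : r < 12462
  · exact allRange_spec e8Comm_5_12400 r (by omega) c15
  by_cases c16 : r < 12524
  · exact allRange_spec e8Comm_5_12462 r (by omega) c16
  by_cases c17 : r < 12586
  · exact allRange_spec e8Comm_5_12524 r (by omega) c17
  by_cases c18 : r < 12648
  · exact allRange_spec e8Comm_5_12586 r (by omega) c18
  by_cases c19 : r < 12710
  · exact allRange_spec e8Comm_5_12648 r (by omega) c19
  by_cases c20 : r < 12772
  · exact allRange_spec e8Comm_5_12710 r (by omega) c20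
  by_cases c21 : r < 12834
  · exact allRange_spec e8Comm_5_12772 r (by omega) c21
  by_cases c22 : r < 12896
  · exact allRange_spec e8Comm_5_12834 r (by omega) c22
  by_cases c23 : r < 12958
  · exact allRange_spec e8Comm_5_12896 r (by omega) c23
  by_cases c24 : r < 13020
  · exact allRange_spec e8Comm_5_12958 r (by omega) c24
  by_cases c25 : r < 13082
  · exact allRange_spec e8Comm_5_13020 r (by omega) c25
  by_cases c26 : r < 13144
  · exact allRange_spec e8Comm_5_13082 r (by omega) c26
  by_cases c27 : r < 13206
  · exact allRange_spec e8Comm_5_13144 r (by omega) c27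
  by_cases c28 : r < 13268
  · exact allRange_spec e8Comm_5_13206 r (by omega) c28
  by_cases c29 : r < 13330
  · exact allRange_spec e8Comm_5_13268 r (by omega) c29
  by_cases c30 : r < 13392
  · exact allRange_spec e8Comm_5_13330 r (by omega) c30
  by_cases c31 : r < 13454
  · exact allRange_spec e8Comm_5_13392 r (by omega) c31
  by_cases c32 : r < 13516
  · exact allRange_spec e8Comm_5_13454 r (by omega) c32
  by_cases c33 : r < 13578
  · exact allRange_spec e8Comm_5_13516 r (by omega) c33
  by_cases c34 : r < 13640
  · exact allRange_spec e8Comm_5_13578 r (by omega) c34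
  by_cases c35 : r < 13702
  · exact allRange_spec e8Comm_5_13640 r (by omega) c35
  exact allRange_spec e8Comm_5_13702 r (by omega) h2

end Cfsg.Agent.Lib.Helper3.ChevM
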