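import Cfsg.Agent.Lib.Helper3.ChevData.E8Rel
import Cfsg.Agent.Lib.Helper3.ChevData.E8Wit
set_option autoImplicit false
set_option maxRecDepth 1000000
set_option Elab.async false

namespace Cfsg.Agent.Lib.Helper3.ChevM

theorem e8Comm_6_13764 : allRange 13764 13826 ((fun k => commOKk cdE8 reflE8 etaE8 witE8 (k / 240) (k % 240))) = true := by decide +kernel
theorem e8Comm_6_13826 : allRange 13826 13888 ((fun k => commOKk cdE8 reflE8 etaE8 witE8 (k / 240) (k % 240))) = true := by decide +kernel
theorem e8Comm_6_13888 : allRange 13888 13950 ((fun k => commOKk cdE8 reflE8 etaE8 witE8 (k / 240) (k % 240))) = true := by decide +kernel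
theorem e8Comm_6_13950 : allRange 13950 14012 ((fun k => commOKk cdE8 reflE8 etaE8 witE8 (k / 240) (k % 240))) = true := by decide +kernel
theorem e8Comm_6_14012 : allRange 14012 14074 ((fun k => commOKk cdE8 reflE8 etaE8 witE8 (k / 240) (k % 240))) = true := by decide +kernel
theorem e8Comm_6_14074 : allRange 14074 14136 ((fun k => commOKk cdE8 reflE8 etaE8 witE8 (k / 240) (k % 240))) = true := by decide +kernel
theorem e8Comm_6_14136 : allRange 14136 14198 ((fun k => commOKk cdE8 reflE8 etaE8 witE8 (k / 240) (k % 240))) = true := by decide +kernel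
theorem e8Comm_6_14198 : allRange 14198 14260 ((fun k => commOKk cdE8 reflE8 etaE8 witE8 (k / 240) (k % 240))) = true := by decide +kernel
theorem e8Comm_6_14260 : allRange 14260 14322 ((fun k => commOKk cdE8 reflE8 etaE8 witE8 (k / 240) (k % 240))) = true := by decide +kernel
theorem e8Comm_6_14322 : allRange 14322 14384 ((fun k => commOKk cdE8 reflE8 etaE8 witE8 (k / 240) (k % 240))) = true := by decide +kernel
theorem e8Comm_6_14384 : allRange 14384 14446 ((fun k => commOKk cdE8 reflE8 etaE8 witE8 (k / 240) (k % 240))) = true := by decide +kernel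
theorem e8Comm_6_14446 : allRange 14446 14508 ((fun k => commOKk cdE8 reflE8 etaE8 witE8 (k / 240) (k % 240))) = true := by decide +kernel
theorem e8Comm_6_14508 : allRange 14508 14570 ((fun k => commOKk cdE8 reflE8 etaE8 witE8 (k / 240) (k % 240))) = true := by decide +kernel
theorem e8Comm_6_14570 : allRange 14570 14632 ((fun k => commOKk cdE8 reflE8 etaE8 witE8 (k / 240) (k % 240))) = true := by decide +kernel
theorem e8Comm_6_14632 : allRange 14632 14694 ((fun k => commOKk cdE8 reflE8 etaE8 witE8 (k / 240) (k % 240))) = true := by decide +kernel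
theorem e8Comm_6_14694 : allRange 14694 14756 ((fun k => commOKk cdE8 reflE8 etaE8 witE8 (k / 240) (k % 240))) = true := by decide +kernel
theorem e8Comm_6_14756 : allRange 14756 14818 ((fun k => commOKk cdE8 reflE8 etaE8 witE8 (k / 240) (k % 240))) = true := by decide +kernel
theorem e8Comm_6_14818 : allRange 14818 14880 ((fun k => commOKk cdE8 reflE8 etaE8 witE8 (k / 240) (k % 240))) = true := by decide +kernel
theorem e8Comm_6_14880 : allRange 14880 14942 ((fun k => commOKk cdE8 reflE8 etaE8 witE8 (k / 240) (k % 240))) = true := by decide +kernel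
theorem e8Comm_6_14942 : allRange 14942 15004 ((fun k => commOKk cdE8 reflE8 etaE8 witE8 (k / 240) (k % 240))) = true := by decide +kernel
theorem e8Comm_6_15004 : allRange 15004 15066 ((fun k => commOKk cdE8 reflE8 etaE8 witE8 (k / 240) (k % 240))) = true := by decide +kernel
theorem e8Comm_6_15066 : allRange 15066 15128 ((fun k => commOKk cdE8 reflE8 etaE8 witE8 (k / 240) (k % 240))) = true := by decide +kernel
theorem e8Comm_6_15128 : allRange 15128 15190 ((fun k => commOKk cdE8 reflE8 etaE8 witE8 (k / 240) (k % 240))) = true := by decide +kernel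
theorem e8Comm_6_15190 : allRange 15190 15252 ((fun k => commOKk cdE8 reflE8 etaE8 witE8 (k / 240) (k % 240))) = true := by decide +kernel
theorem e8Comm_6_15252 : allRange 15252 15314 ((fun k => commOKk cdE8 reflE8 etaE8 witE8 (k / 240) (k % 240))) = true := by decide +kernel
theorem e8Comm_6_15314 : allRange 15314 15376 ((fun k => commOKk cdE8 reflE8 etaE8 witE8 (k / 240) (k % 240))) = true := by decide +kernel
theorem e8Comm_6_15376 : allRange 15376 15438 ((fun k => commOKk cdE8 reflE8 etaE8 witE8 (k / 240) (k % 240))) = true := by decide +kernel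
theorem e8Comm_6_15438 : allRange 15438 15500 ((fun k => commOKk cdE8 reflE8 etaE8 witE8 (k / 240) (k % 240))) = true := by decide +kernel
theorem e8Comm_6_15500 : allRange 15500 15562 ((fun k => commOKk cdE8 reflE8 etaE8 witE8 (k / 240) (k % 240))) = true := by decide +kernel
theorem e8Comm_6_15562 : allRange 15562 15624 ((fun k => commOKk cdE8 reflE8 etaE8 witE8 (k / 240) (k % 240))) = true := by decide +kernel
theorem e8Comm_6_15624 : allRange 15624 15686 ((fun k => commOKk cdE8 reflE8 etaE8 witE8 (k / 240) (k % 240))) = true := by decide +kernel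
theorem e8Comm_6_15686 : allRange 15686 15748 ((fun k => commOKk cdE8 reflE8 etaE8 witE8 (k / 240) (k % 240))) = true := by decide +kernel
theorem e8Comm_6_15748 : allRange 15748 15810 ((fun k => commOKk cdE8 reflE8 etaE8 witE8 (k / 240) (k % 240))) = true := by decide +kernel
theorem e8Comm_6_15810 : allRange 15810 15872 ((fun k => commOKk cdE8 reflE8 etaE8 witE8 (k / 240) (k % 240))) = true := by decide +kernel
theorem e8Comm_6_15872 : allRange 15872 15934 ((fun k => commOKk cdE8 reflE8 etaE8 witE8 (k / 240) (k % 240))) = true := by decide +kernel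
theorem e8Comm_6_15934 : allRange 15934 15996 ((fun k => commOKk cdE8 reflE8 etaE8 witE8 (k / 240) (k % 240))) = true := by decide +kernel
theorem e8Comm_6_15996 : allRange 15996 16058 ((fun k => commOKk cdE8 reflE8 etaE8 witE8 (k / 240) (k % 240))) = true := by decide +kernel

/-- Steps of the derivation of the commutator formula of type E8 (roots 13764 to 16057). -/
theorem e8Comm_6 : ∀ r, 13764 ≤ r → r < 16058 → ((fun k => commOKk cdE8 reflE8 etaE8 witE8 (k / 240) (k % 240))) r = true := by
  intro r h1 h2
  by_cases c0 : r < 13826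
  · exact allRange_spec e8Comm_6_13764 r (by omega) c0
  by_cases c1 : r < 13888
  · exact allRange_spec e8Comm_6_13826 r (by omega) c1
  by_cases c2 : r < 13950
  · exact allRange_spec e8Comm_6_13888 r (by omega) c2
  by_cases c3 : r < 14012
  · exact allRange_spec e8Comm_6_13950 r (by omega) c3
  by_cases c4 : r < 14074
  · exact allRange_spec e8Comm_6_14012 r (by omega) c4
  by_cases c5 : r < 14136
  · exact allRange_spec e8Comm_6_14074 r (by omega) c5
  by_cases c6 : r < 14198
  · exact allRange_spec e8Comm_6_14136 r (by omega) c6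
  by_cases c7 : r < 14260
  · exact allRange_spec e8Comm_6_14198 r (by omega) c7
  by_cases c8 : r < 14322
  · exact allRange_spec e8Comm_6_14260 r (by omega) c8
  by_cases c9 : r < 14384
  · exact allRange_spec e8Comm_6_14322 r (by omega) c9
  by_cases c10 : r < 14446
  · exact allRange_spec e8Comm_6_14384 r (by omega) c10
  by_cases c11 : r < 14508
  · exact allRange_spec e8Comm_6_14446 r (by omega) c11
  by_cases c12 : r < 14570
  · exact allRange_spec e8Comm_6_14508 r (by omega) c12
  by_cases c13 : r < 14632
  · exact allRange_spec e8Comm_6_14570 r (by omega) c13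
  by_cases c14 : r < 14694
  · exact allRange_spec e8Comm_6_14632 r (by omega) c14
  by_cases c15 : r < 14756
  · exact allRange_spec e8Comm_6_14694 r (by omega) c15
  by_cases c16 : r < 14818
  · exact allRange_spec e8Comm_6_14756 r (by omega) c16
  by_cases c17 : r < 14880
  · exact allRange_spec e8Comm_6_14818 r (by omega) c17
  by_cases c18 : r < 14942
  · exact allRange_spec e8Comm_6_14880 r (by omega) c18
  by_cases c19 : r < 15004
  · exact allRange_spec e8Comm_6_14942 r (by omega) c19
  by_cases c20 : r < 15066
  · exact allRange_spec e8Comm_6_15004 r (by omega) c20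
  by_cases c21 : r < 15128
  · exact allRange_spec e8Comm_6_15066 r (by omega) c21
  by_cases c22 : r < 15190
  · exact allRange_spec e8Comm_6_15128 r (by omega) c22
  by_cases c23 : r < 15252
  · exact allRange_spec e8Comm_6_15190 r (by omega) c23
  by_cases c24 : r < 15314
  · exact allRange_spec e8Comm_6_15252 r (by omega) c24
  by_cases c25 : r < 15376
  · exact allRange_spec e8Comm_6_15314 r (by omega) c25
  by_cases c26 : r < 15438
  · exact allRange_spec e8Comm_6_15376 r (by omega) c26
  by_cases c27 : r < 15500
  · exact allRange_spec e8Comm_6_15438 r (by omega) c27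
  by_cases c28 : r < 15562
  · exact allRange_spec e8Comm_6_15500 r (by omega) c28
  by_cases c29 : r < 15624
  · exact allRange_spec e8Comm_6_15562 r (by omega) c29
  by_cases c30 : r < 15686
  · exact allRange_spec e8Comm_6_15624 r (by omega) c30
  by_cases c31 : r < 15748
  · exact allRange_spec e8Comm_6_15686 r (by omega) c31
  by_cases c32 : r < 15810
  · exact allRange_spec e8Comm_6_15748 r (by omega) c32
  by_cases c33 : r < 15872
  · exact allRange_spec e8Comm_6_15810 r (by omega) c33
  by_cases c34 : r < 15934
  · exact allRange_spec e8Comm_6_15872 r (by omega) c34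
  by_cases c35 : r < 15996
  · exact allRange_spec e8Comm_6_15934 r (by omega) c35
  exact allRange_spec e8Comm_6_15996 r (by omega) h2

end Cfsg.Agent.Lib.Helper3.ChevM
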