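import Cfsg.Agent.Lib.Helper3.ChevData.E8Rel
import Cfsg.Agent.Lib.Helper3.ChevData.E8Wit
set_option autoImplicit false
set_option maxRecDepth 1000000
set_option Elab.async false

namespace Cfsg.Agent.Lib.Helper3.ChevM

theorem e8Comm_7_16058 : allRange 16058 16120 ((fun k => commOKk cdE8 reflE8 etaE8 witE8 (k / 240) (k % 240))) = true := by decide +kernel
theorem e8Comm_7_16120 : allRange 16120 16182 ((fun k => commOKk cdE8 reflE8 etaE8 witE8 (k / 240) (k % 240))) = true := by decide +kernel
theorem e8Comm_7_16182 : allRange 16182 16244 ((fun k => commOKk cdE8 reflE8 etaE8 witE8 (k / 240) (k % 240))) = true := by decide +kernel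
theorem e8Comm_7_16244 : allRange 16244 16306 ((fun k => commOKk cdE8 reflE8 etaE8 witE8 (k / 240) (k % 240))) = true := by decide +kernel
theorem e8Comm_7_16306 : allRange 16306 16368 ((fun k => commOKk cdE8 reflE8 etaE8 witE8 (k / 240) (k % 240))) = true := by decide +kernel
theorem e8Comm_7_16368 : allRange 16368 16430 ((fun k => commOKk cdE8 reflE8 etaE8 witE8 (k / 240) (k % 240))) = true := by decide +kernel
theorem e8Comm_7_16430 : allRange 16430 16492 ((fun k => commOKk cdE8 reflE8 etaE8 witE8 (k / 240) (k % 240))) = true := by decide +kernel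
theorem e8Comm_7_16492 : allRange 16492 16554 ((fun k => commOKk cdE8 reflE8 etaE8 witE8 (k / 240) (k % 240))) = true := by decide +kernel
theorem e8Comm_7_16554 : allRange 16554 16616 ((fun k => commOKk cdE8 reflE8 etaE8 witE8 (k / 240) (k % 240))) = true := by decide +kernel
theorem e8Comm_7_16616 : allRange 16616 16678 ((fun k => commOKk cdE8 reflE8 etaE8 witE8 (k / 240) (k % 240))) = true := by decide +kernel
theorem e8Comm_7_16678 : allRange 16678 16740 ((fun k => commOKk cdE8 reflE8 etaE8 witE8 (k / 240) (k % 240))) = true := by decide +kernel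
theorem e8Comm_7_16740 : allRange 16740 16802 ((fun k => commOKk cdE8 reflE8 etaE8 witE8 (k / 240) (k % 240))) = true := by decide +kernel
theorem e8Comm_7_16802 : allRange 16802 16864 ((fun k => commOKk cdE8 reflE8 etaE8 witE8 (k / 240) (k % 240))) = true := by decide +kernel
theorem e8Comm_7_16864 : allRange 16864 16926 ((fun k => commOKk cdE8 reflE8 etaE8 witE8 (k / 240) (k % 240))) = true := by decide +kernel
theorem e8Comm_7_16926 : allRange 16926 16988 ((fun k => commOKk cdE8 reflE8 etaE8 witE8 (k / 240) (k % 240))) = true := by decide +kernel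
theorem e8Comm_7_16988 : allRange 16988 17050 ((fun k => commOKk cdE8 reflE8 etaE8 witE8 (k / 240) (k % 240))) = true := by decide +kernel
theorem e8Comm_7_17050 : allRange 17050 17112 ((fun k => commOKk cdE8 reflE8 etaE8 witE8 (k / 240) (k % 240))) = true := by decide +kernel
theorem e8Comm_7_17112 : allRange 17112 17174 ((fun k => commOKk cdE8 reflE8 etaE8 witE8 (k / 240) (k % 240))) = true := by decide +kernel
theorem e8Comm_7_17174 : allRange 17174 17236 ((fun k => commOKk cdE8 reflE8 etaE8 witE8 (k / 240) (k % 240))) = true := by decide +kernel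
theorem e8Comm_7_17236 : allRange 17236 17298 ((fun k => commOKk cdE8 reflE8 etaE8 witE8 (k / 240) (k % 240))) = true := by decide +kernel
theorem e8Comm_7_17298 : allRange 17298 17360 ((fun k => commOKk cdE8 reflE8 etaE8 witE8 (k / 240) (k % 240))) = true := by decide +kernel
theorem e8Comm_7_17360 : allRange 17360 17422 ((fun k => commOKk cdE8 reflE8 etaE8 witE8 (k / 240) (k % 240))) = true := by decide +kernel
theorem e8Comm_7_17422 : allRange 17422 17484 ((fun k => commOKk cdE8 reflE8 etaE8 witE8 (k / 240) (k % 240))) = true := by decide +kernel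
theorem e8Comm_7_17484 : allRange 17484 17546 ((fun k => commOKk cdE8 reflE8 etaE8 witE8 (k / 240) (k % 240))) = true := by decide +kernel
theorem e8Comm_7_17546 : allRange 17546 17608 ((fun k => commOKk cdE8 reflE8 etaE8 witE8 (k / 240) (k % 240))) = true := by decide +kernel
theorem e8Comm_7_17608 : allRange 17608 17670 ((fun k => commOKk cdE8 reflE8 etaE8 witE8 (k / 240) (k % 240))) = true := by decide +kernel
theorem e8Comm_7_17670 : allRange 17670 17732 ((fun k => commOKk cdE8 reflE8 etaE8 witE8 (k / 240) (k % 240))) = true := by decide +kernel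
theorem e8Comm_7_17732 : allRange 17732 17794 ((fun k => commOKk cdE8 reflE8 etaE8 witE8 (k / 240) (k % 240))) = true := by decide +kernel
theorem e8Comm_7_17794 : allRange 17794 17856 ((fun k => commOKk cdE8 reflE8 etaE8 witE8 (k / 240) (k % 240))) = true := by decide +kernel
theorem e8Comm_7_17856 : allRange 17856 17918 ((fun k => commOKk cdE8 reflE8 etaE8 witE8 (k / 240) (k % 240))) = true := by decide +kernel
theorem e8Comm_7_17918 : allRange 17918 17980 ((fun k => commOKk cdE8 reflE8 etaE8 witE8 (k / 240) (k % 240))) = true := by decide +kernel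
theorem e8Comm_7_17980 : allRange 17980 18042 ((fun k => commOKk cdE8 reflE8 etaE8 witE8 (k / 240) (k % 240))) = true := by decide +kernel
theorem e8Comm_7_18042 : allRange 18042 18104 ((fun k => commOKk cdE8 reflE8 etaE8 witE8 (k / 240) (k % 240))) = true := by decide +kernel
theorem e8Comm_7_18104 : allRange 18104 18166 ((fun k => commOKk cdE8 reflE8 etaE8 witE8 (k / 240) (k % 240))) = true := by decide +kernel
theorem e8Comm_7_18166 : allRange 18166 18228 ((fun k => commOKk cdE8 reflE8 etaE8 witE8 (k / 240) (k % 240))) = true := by decide +kernel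
theorem e8Comm_7_18228 : allRange 18228 18290 ((fun k => commOKk cdE8 reflE8 etaE8 witE8 (k / 240) (k % 240))) = true := by decide +kernel
theorem e8Comm_7_18290 : allRange 18290 18352 ((fun k => commOKk cdE8 reflE8 etaE8 witE8 (k / 240) (k % 240))) = true := by decide +kernel

/-- Steps of the derivation of the commutator formula of type E8 (roots 16058 to 18351). -/
theorem e8Comm_7 : ∀ r, 16058 ≤ r → r < 18352 → ((fun k => commOKk cdE8 reflE8 etaE8 witE8 (k / 240) (k % 240))) r = true := by
  intro r h1 h2
  by_cases c0 : r < 16120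
  · exact allRange_spec e8Comm_7_16058 r (by omega) c0
  by_cases c1 : r < 16182
  · exact allRange_spec e8Comm_7_16120 r (by omega) c1
  by_cases c2 : r < 16244
  · exact allRange_spec e8Comm_7_16182 r (by omega) c2
  by_cases c3 : r < 16306
  · exact allRange_spec e8Comm_7_16244 r (by omega) c3
  by_cases c4 : r < 16368
  · exact allRange_spec e8Comm_7_16306 r (by omega) c4
  by_cases c5 : r < 16430
  · exact allRange_spec e8Comm_7_16368 r (by omega) c5
  by_cases c6 : r < 16492
  · exact allRange_spec e8Comm_7_16430 r (by omega) c6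
  by_cases c7 : r < 16554
  · exact allRange_spec e8Comm_7_16492 r (by omega) c7
  by_cases c8 : r < 16616
  · exact allRange_spec e8Comm_7_16554 r (by omega) c8
  by_cases c9 : r < 16678
  · exact allRange_spec e8Comm_7_16616 r (by omega) c9
  by_cases c10 : r < 16740
  · exact allRange_spec e8Comm_7_16678 r (by omega) c10
  by_cases c11 : r < 16802
  · exact allRange_spec e8Comm_7_16740 r (by omega) c11
  by_cases c12 : r < 16864
  · exact allRange_spec e8Comm_7_16802 r (by omega) c12
  by_cases c13 : r < 16926
  · exact allRange_spec e8Comm_7_16864 r (by omega) c13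
  by_cases c14 : r < 16988
  · exact allRange_spec e8Comm_7_16926 r (by omega) c14
  by_cases c15 : r < 17050
  · exact allRange_spec e8Comm_7_16988 r (by omega) c15
  by_cases c16 : r < 17112
  · exact allRange_spec e8Comm_7_17050 r (by omega) c16
  by_cases c17 : r < 17174
  · exact allRange_spec e8Comm_7_17112 r (by omega) c17
  by_cases c18 : r < 17236
  · exact allRange_spec e8Comm_7_17174 r (by omega) c18
  by_cases c19 : r < 17298
  · exact allRange_spec e8Comm_7_17236 r (by omega) c19
  by_cases c20 : r < 17360
  · exact allRange_spec e8Comm_7_17298 r (by omega) c20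
  by_cases c21 : r < 17422
  · exact allRange_spec e8Comm_7_17360 r (by omega) c21
  by_cases c22 : r < 17484
  · exact allRange_spec e8Comm_7_17422 r (by omega) c22
  by_cases c23 : r < 17546
  · exact allRange_spec e8Comm_7_17484 r (by omega) c23
  by_cases c24 : r < 17608
  · exact allRange_spec e8Comm_7_17546 r (by omega) c24
  by_cases c25 : r < 17670
  · exact allRange_spec e8Comm_7_17608 r (by omega) c25
  by_cases c26 : r < 17732
  · exact allRange_spec e8Comm_7_17670 r (by omega) c26
  by_cases c27 : r < 17794
  · exact allRange_spec e8Comm_7_17732 r (by omega) c27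
  by_cases c28 : r < 17856
  · exact allRange_spec e8Comm_7_17794 r (by omega) c28
  by_cases c29 : r < 17918
  · exact allRange_spec e8Comm_7_17856 r (by omega) c29
  by_cases c30 : r < 17980
  · exact allRange_spec e8Comm_7_17918 r (by omega) c30
  by_cases c31 : r < 18042
  · exact allRange_spec e8Comm_7_17980 r (by omega) c31
  by_cases c32 : r < 18104
  · exact allRange_spec e8Comm_7_18042 r (by omega) c32
  by_cases c33 : r < 18166
  · exact allRange_spec e8Comm_7_18104 r (by omega) c33
  by_cases c34 : r < 18228
  · exact allRange_spec e8Comm_7_18166 r (by omega) c34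
  by_cases c35 : r < 18290
  · exact allRange_spec e8Comm_7_18228 r (by omega) c35
  exact allRange_spec e8Comm_7_18290 r (by omega) h2

end Cfsg.Agent.Lib.Helper3.ChevM
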