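import Cfsg.Agent.Lib.Helper3.ChevData.E8Rel
import Cfsg.Agent.Lib.Helper3.ChevData.E8Wit
set_option autoImplicit false
set_option maxRecDepth 1000000
set_option Elab.async false

namespace Cfsg.Agent.Lib.Helper3.ChevM

theorem e8Comm_8_18352 : allRange 18352 18414 ((fun k => commOKk cdE8 reflE8 etaE8 witE8 (k / 240) (k % 240))) = true := by decide +kernel
theorem e8Comm_8_18414 : allRange 18414 18476 ((fun k => commOKk cdE8 reflE8 etaE8 witE8 (k / 240) (k % 240))) = true := by decide +kernel
theorem e8Comm_8_18476 : allRange 18476 18538 ((fun k => commOKk cdE8 reflE8 etaE8 witE8 (k / 240) (k % 240))) = true := by decide +kernel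
theorem e8Comm_8_18538 : allRange 18538 18600 ((fun k => commOKk cdE8 reflE8 etaE8 witE8 (k / 240) (k % 240))) = true := by decide +kernel
theorem e8Comm_8_18600 : allRange 18600 18662 ((fun k => commOKk cdE8 reflE8 etaE8 witE8 (k / 240) (k % 240))) = true := by decide +kernel
theorem e8Comm_8_18662 : allRange 18662 18724 ((fun k => commOKk cdE8 reflE8 etaE8 witE8 (k / 240) (k % 240))) = true := by decide +kernel
theorem e8Comm_8_18724 : allRange 18724 18786 ((fun k => commOKk cdE8 reflE8 etaE8 witE8 (k / 240) (k % 240))) = true := by decide +kernel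
theorem e8Comm_8_18786 : allRange 18786 18848 ((fun k => commOKk cdE8 reflE8 etaE8 witE8 (k / 240) (k % 240))) = true := by decide +kernel
theorem e8Comm_8_18848 : allRange 18848 18910 ((fun k => commOKk cdE8 reflE8 etaE8 witE8 (k / 240) (k % 240))) = true := by decide +kernel
theorem e8Comm_8_18910 : allRange 18910 18972 ((fun k => commOKk cdE8 reflE8 etaE8 witE8 (k / 240) (k % 240))) = true := by decide +kernel
theorem e8Comm_8_18972 : allRange 18972 19034 ((fun k => commOKk cdE8 reflE8 etaE8 witE8 (k / 240) (k % 240))) = true := by decide +kernel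
theorem e8Comm_8_19034 : allRange 19034 19096 ((fun k => commOKk cdE8 reflE8 etaE8 witE8 (k / 240) (k % 240))) = true := by decide +kernel
theorem e8Comm_8_19096 : allRange 19096 19158 ((fun k => commOKk cdE8 reflE8 etaE8 witE8 (k / 240) (k % 240))) = true := by decide +kernel
theorem e8Comm_8_19158 : allRange 19158 19220 ((fun k => commOKk cdE8 reflE8 etaE8 witE8 (k / 240) (k % 240))) = true := by decide +kernel
theorem e8Comm_8_19220 : allRange 19220 19282 ((fun k => commOKk cdE8 reflE8 etaE8 witE8 (k / 240) (k % 240))) = true := by decide +kernel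
theorem e8Comm_8_19282 : allRange 19282 19344 ((fun k => commOKk cdE8 reflE8 etaE8 witE8 (k / 240) (k % 240))) = true := by decide +kernel
theorem e8Comm_8_19344 : allRange 19344 19406 ((fun k => commOKk cdE8 reflE8 etaE8 witE8 (k / 240) (k % 240))) = true := by decide +kernel
theorem e8Comm_8_19406 : allRange 19406 19468 ((fun k => commOKk cdE8 reflE8 etaE8 witE8 (k / 240) (k % 240))) = true := by decide +kernel
theorem e8Comm_8_19468 : allRange 19468 19530 ((fun k => commOKk cdE8 reflE8 etaE8 witE8 (k / 240) (k % 240))) = true := by decide +kernel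
theorem e8Comm_8_19530 : allRange 19530 19592 ((fun k => commOKk cdE8 reflE8 etaE8 witE8 (k / 240) (k % 240))) = true := by decide +kernel
theorem e8Comm_8_19592 : allRange 19592 19654 ((fun k => commOKk cdE8 reflE8 etaE8 witE8 (k / 240) (k % 240))) = true := by decide +kernel
theorem e8Comm_8_19654 : allRange 19654 19716 ((fun k => commOKk cdE8 reflE8 etaE8 witE8 (k / 240) (k % 240))) = true := by decide +kernel
theorem e8Comm_8_19716 : allRange 19716 19778 ((fun k => commOKk cdE8 reflE8 etaE8 witE8 (k / 240) (k % 240))) = true := by decide +kernel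
theorem e8Comm_8_19778 : allRange 19778 19840 ((fun k => commOKk cdE8 reflE8 etaE8 witE8 (k / 240) (k % 240))) = true := by decide +kernel
theorem e8Comm_8_19840 : allRange 19840 19902 ((fun k => commOKk cdE8 reflE8 etaE8 witE8 (k / 240) (k % 240))) = true := by decide +kernel
theorem e8Comm_8_19902 : allRange 19902 19964 ((fun k => commOKk cdE8 reflE8 etaE8 witE8 (k / 240) (k % 240))) = true := by decide +kernel
theorem e8Comm_8_19964 : allRange 19964 20026 ((fun k => commOKk cdE8 reflE8 etaE8 witE8 (k / 240) (k % 240))) = true := by decide +kernel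
theorem e8Comm_8_20026 : allRange 20026 20088 ((fun k => commOKk cdE8 reflE8 etaE8 witE8 (k / 240) (k % 240))) = true := by decide +kernel
theorem e8Comm_8_20088 : allRange 20088 20150 ((fun k => commOKk cdE8 reflE8 etaE8 witE8 (k / 240) (k % 240))) = true := by decide +kernel
theorem e8Comm_8_20150 : allRange 20150 20212 ((fun k => commOKk cdE8 reflE8 etaE8 witE8 (k / 240) (k % 240))) = true := by decide +kernel
theorem e8Comm_8_20212 : allRange 20212 20274 ((fun k => commOKk cdE8 reflE8 etaE8 witE8 (k / 240) (k % 240))) = true := by decide +kernel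
theorem e8Comm_8_20274 : allRange 20274 20336 ((fun k => commOKk cdE8 reflE8 etaE8 witE8 (k / 240) (k % 240))) = true := by decide +kernel
theorem e8Comm_8_20336 : allRange 20336 20398 ((fun k => commOKk cdE8 reflE8 etaE8 witE8 (k / 240) (k % 240))) = true := by decide +kernel
theorem e8Comm_8_20398 : allRange 20398 20460 ((fun k => commOKk cdE8 reflE8 etaE8 witE8 (k / 240) (k % 240))) = true := by decide +kernel
theorem e8Comm_8_20460 : allRange 20460 20522 ((fun k => commOKk cdE8 reflE8 etaE8 witE8 (k / 240) (k % 240))) = true := by decide +kernel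
theorem e8Comm_8_20522 : allRange 20522 20584 ((fun k => commOKk cdE8 reflE8 etaE8 witE8 (k / 240) (k % 240))) = true := by decide +kernel
theorem e8Comm_8_20584 : allRange 20584 20646 ((fun k => commOKk cdE8 reflE8 etaE8 witE8 (k / 240) (k % 240))) = true := by decide +kernel

/-- Steps of the derivation of the commutator formula of type E8 (roots 18352 to 20645). -/
theorem e8Comm_8 : ∀ r, 18352 ≤ r → r < 20646 → ((fun k => commOKk cdE8 reflE8 etaE8 witE8 (k / 240) (k % 240))) r = true := by
  intro r h1 h2
  by_cases c0 : r < 18414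
  · exact allRange_spec e8Comm_8_18352 r (by omega) c0
  by_cases c1 : r < 18476
  · exact allRange_spec e8Comm_8_18414 r (by omega) c1
  by_cases c2 : r < 18538
  · exact allRange_spec e8Comm_8_18476 r (by omega) c2
  by_cases c3 : r < 18600
  · exact allRange_spec e8Comm_8_18538 r (by omega) c3
  by_cases c4 : r < 18662
  · exact allRange_spec e8Comm_8_18600 r (by omega) c4
  by_cases c5 : r < 18724
  · exact allRange_spec e8Comm_8_18662 r (by omega) c5
  by_cases c6 : r < 18786
  · exact allRange_spec e8Comm_8_18724 r (by omega) c6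
  by_cases c7 : r < 18848
  · exact allRange_spec e8Comm_8_18786 r (by omega) c7
  by_cases c8 : r < 18910
  · exact allRange_spec e8Comm_8_18848 r (by omega) c8
  by_cases c9 : r < 18972
  · exact allRange_spec e8Comm_8_18910 r (by omega) c9
  by_cases c10 : r < 19034
  · exact allRange_spec e8Comm_8_18972 r (by omega) c10
  by_cases c11 : r < 19096
  · exact allRange_spec e8Comm_8_19034 r (by omega) c11
  by_cases c12 : r < 19158
  · exact allRange_spec e8Comm_8_19096 r (by omega) c12
  by_cases c13 : r < 19220
  · exact allRange_spec e8Comm_8_19158 r (by omega) c13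
  by_cases c14 : r < 19282
  · exact allRange_spec e8Comm_8_19220 r (by omega) c14
  by_cases c15 : r < 19344
  · exact allRange_spec e8Comm_8_19282 r (by omega) c15
  by_cases c16 : r < 19406
  · exact allRange_spec e8Comm_8_19344 r (by omega) c16
  by_cases c17 : r < 19468
  · exact allRange_spec e8Comm_8_19406 r (by omega) c17
  by_cases c18 : r < 19530
  · exact allRange_spec e8Comm_8_19468 r (by omega) c18
  by_cases c19 : r < 19592
  · exact allRange_spec e8Comm_8_19530 r (by omega) c19
  by_cases c20 : r < 19654
  · exact allRange_spec e8Comm_8_19592 r (by omega) c20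
  by_cases c21 : r < 19716
  · exact allRange_spec e8Comm_8_19654 r (by omega) c21
  by_cases c22 : r < 19778
  · exact allRange_spec e8Comm_8_19716 r (by omega) c22
  by_cases c23 : r < 19840
  · exact allRange_spec e8Comm_8_19778 r (by omega) c23
  by_cases c24 : r < 19902
  · exact allRange_spec e8Comm_8_19840 r (by omega) c24
  by_cases c25 : r < 19964
  · exact allRange_spec e8Comm_8_19902 r (by omega) c25
  by_cases c26 : r < 20026
  · exact allRange_spec e8Comm_8_19964 r (by omega) c26
  by_cases c27 : r < 20088
  · exact allRange_spec e8Comm_8_20026 r (by omega) c27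
  by_cases c28 : r < 20150
  · exact allRange_spec e8Comm_8_20088 r (by omega) c28
  by_cases c29 : r < 20212
  · exact allRange_spec e8Comm_8_20150 r (by omega) c29
  by_cases c30 : r < 20274
  · exact allRange_spec e8Comm_8_20212 r (by omega) c30
  by_cases c31 : r < 20336
  · exact allRange_spec e8Comm_8_20274 r (by omega) c31
  by_cases c32 : r < 20398
  · exact allRange_spec e8Comm_8_20336 r (by omega) c32
  by_cases c33 : r < 20460
  · exact allRange_spec e8Comm_8_20398 r (by omega) c33
  by_cases c34 : r < 20522
  · exact allRange_spec e8Comm_8_20460 r (by omega) c34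
  by_cases c35 : r < 20584
  · exact allRange_spec e8Comm_8_20522 r (by omega) c35
  exact allRange_spec e8Comm_8_20584 r (by omega) h2

end Cfsg.Agent.Lib.Helper3.ChevM
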