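import Cfsg.Agent.Lib.Helper3.ChevData.E8Rel
import Cfsg.Agent.Lib.Helper3.ChevData.E8Wit
set_option autoImplicit false
set_option maxRecDepth 1000000
set_option Elab.async false

namespace Cfsg.Agent.Lib.Helper3.ChevM

theorem e8Comm_9_20646 : allRange 20646 20708 ((fun k => commOKk cdE8 reflE8 etaE8 witE8 (k / 240) (k % 240))) = true := by decide +kernel
theorem e8Comm_9_20708 : allRange 20708 20770 ((fun k => commOKk cdE8 reflE8 etaE8 witE8 (k / 240) (k % 240))) = true := by decide +kernel
theorem e8Comm_9_20770 : allRange 20770 20832 ((fun k => commOKk cdE8 reflE8 etaE8 witE8 (k / 240) (k % 240))) = true := by decide +kernel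
theorem e8Comm_9_20832 : allRange 20832 20894 ((fun k => commOKk cdE8 reflE8 etaE8 witE8 (k / 240) (k % 240))) = true := by decide +kernel
theorem e8Comm_9_20894 : allRange 20894 20956 ((fun k => commOKk cdE8 reflE8 etaE8 witE8 (k / 240) (k % 240))) = true := by decide +kernel
theorem e8Comm_9_20956 : allRange 20956 21018 ((fun k => commOKk cdE8 reflE8 etaE8 witE8 (k / 240) (k % 240))) = true := by decide +kernel
theorem e8Comm_9_21018 : allRange 21018 21080 ((fun k => commOKk cdE8 reflE8 etaE8 witE8 (k / 240) (k % 240))) = true := by decide +kernel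
theorem e8Comm_9_21080 : allRange 21080 21142 ((fun k => commOKk cdE8 reflE8 etaE8 witE8 (k / 240) (k % 240))) = true := by decide +kernel
theorem e8Comm_9_21142 : allRange 21142 21204 ((fun k => commOKk cdE8 reflE8 etaE8 witE8 (k / 240) (k % 240))) = true := by decide +kernel
theorem e8Comm_9_21204 : allRange 21204 21266 ((fun k => commOKk cdE8 reflE8 etaE8 witE8 (k / 240) (k % 240))) = true := by decide +kernel
theorem e8Comm_9_21266 : allRange 21266 21328 ((fun k => commOKk cdE8 reflE8 etaE8 witE8 (k / 240) (k % 240))) = true := by decide +kernel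
theorem e8Comm_9_21328 : allRange 21328 21390 ((fun k => commOKk cdE8 reflE8 etaE8 witE8 (k / 240) (k % 240))) = true := by decide +kernel
theorem e8Comm_9_21390 : allRange 21390 21452 ((fun k => commOKk cdE8 reflE8 etaE8 witE8 (k / 240) (k % 240))) = true := by decide +kernel
theorem e8Comm_9_21452 : allRange 21452 21514 ((fun k => commOKk cdE8 reflE8 etaE8 witE8 (k / 240) (k % 240))) = true := by decide +kernel
theorem e8Comm_9_21514 : allRange 21514 21576 ((fun k => commOKk cdE8 reflE8 etaE8 witE8 (k / 240) (k % 240))) = true := by decide +kernel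
theorem e8Comm_9_21576 : allRange 21576 21638 ((fun k => commOKk cdE8 reflE8 etaE8 witE8 (k / 240) (k % 240))) = true := by decide +kernel
theorem e8Comm_9_21638 : allRange 21638 21700 ((fun k => commOKk cdE8 reflE8 etaE8 witE8 (k / 240) (k % 240))) = true := by decide +kernel
theorem e8Comm_9_21700 : allRange 21700 21762 ((fun k => commOKk cdE8 reflE8 etaE8 witE8 (k / 240) (k % 240))) = true := by decide +kernel
theorem e8Comm_9_21762 : allRange 21762 21824 ((fun k => commOKk cdE8 reflE8 etaE8 witE8 (k / 240) (k % 240))) = true := by decide +kernel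
theorem e8Comm_9_21824 : allRange 21824 21886 ((fun k => commOKk cdE8 reflE8 etaE8 witE8 (k / 240) (k % 240))) = true := by decide +kernel
theorem e8Comm_9_21886 : allRange 21886 21948 ((fun k => commOKk cdE8 reflE8 etaE8 witE8 (k / 240) (k % 240))) = true := by decide +kernel
theorem e8Comm_9_21948 : allRange 21948 22010 ((fun k => commOKk cdE8 reflE8 etaE8 witE8 (k / 240) (k % 240))) = true := by decide +kernel
theorem e8Comm_9_22010 : allRange 22010 22072 ((fun k => commOKk cdE8 reflE8 etaE8 witE8 (k / 240) (k % 240))) = true := by decide +kernel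
theorem e8Comm_9_22072 : allRange 22072 22134 ((fun k => commOKk cdE8 reflE8 etaE8 witE8 (k / 240) (k % 240))) = true := by decide +kernel
theorem e8Comm_9_22134 : allRange 22134 22196 ((fun k => commOKk cdE8 reflE8 etaE8 witE8 (k / 240) (k % 240))) = true := by decide +kernel
theorem e8Comm_9_22196 : allRange 22196 22258 ((fun k => commOKk cdE8 reflE8 etaE8 witE8 (k / 240) (k % 240))) = true := by decide +kernel
theorem e8Comm_9_22258 : allRange 22258 22320 ((fun k => commOKk cdE8 reflE8 etaE8 witE8 (k / 240) (k % 240))) = true := by decide +kernel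
theorem e8Comm_9_22320 : allRange 22320 22382 ((fun k => commOKk cdE8 reflE8 etaE8 witE8 (k / 240) (k % 240))) = true := by decide +kernel
theorem e8Comm_9_22382 : allRange 22382 22444 ((fun k => commOKk cdE8 reflE8 etaE8 witE8 (k / 240) (k % 240))) = true := by decide +kernel
theorem e8Comm_9_22444 : allRange 22444 22506 ((fun k => commOKk cdE8 reflE8 etaE8 witE8 (k / 240) (k % 240))) = true := by decide +kernel
theorem e8Comm_9_22506 : allRange 22506 22568 ((fun k => commOKk cdE8 reflE8 etaE8 witE8 (k / 240) (k % 240))) = true := by decide +kernel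
theorem e8Comm_9_22568 : allRange 22568 22630 ((fun k => commOKk cdE8 reflE8 etaE8 witE8 (k / 240) (k % 240))) = true := by decide +kernel
theorem e8Comm_9_22630 : allRange 22630 22692 ((fun k => commOKk cdE8 reflE8 etaE8 witE8 (k / 240) (k % 240))) = true := by decide +kernel
theorem e8Comm_9_22692 : allRange 22692 22754 ((fun k => commOKk cdE8 reflE8 etaE8 witE8 (k / 240) (k % 240))) = true := by decide +kernel
theorem e8Comm_9_22754 : allRange 22754 22816 ((fun k => commOKk cdE8 reflE8 etaE8 witE8 (k / 240) (k % 240))) = true := by decide +kernel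
theorem e8Comm_9_22816 : allRange 22816 22878 ((fun k => commOKk cdE8 reflE8 etaE8 witE8 (k / 240) (k % 240))) = true := by decide +kernel
theorem e8Comm_9_22878 : allRange 22878 22940 ((fun k => commOKk cdE8 reflE8 etaE8 witE8 (k / 240) (k % 240))) = true := by decide +kernel

/-- Steps of the derivation of the commutator formula of type E8 (roots 20646 to 22939). -/
theorem e8Comm_9 : ∀ r, 20646 ≤ r → r < 22940 → ((fun k => commOKk cdE8 reflE8 etaE8 witE8 (k / 240) (k % 240))) r = true := by
  intro r h1 h2
  by_cases c0 : r < 20708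
  · exact allRange_spec e8Comm_9_20646 r (by omega) c0
  by_cases c1 : r < 20770
  · exact allRange_spec e8Comm_9_20708 r (by omega) c1
  by_cases c2 : r < 20832
  · exact allRange_spec e8Comm_9_20770 r (by omega) c2
  by_cases c3 : r < 20894
  · exact allRange_spec e8Comm_9_20832 r (by omega) c3
  by_cases c4 : r < 20956
  · exact allRange_spec e8Comm_9_20894 r (by omega) c4
  by_cases c5 : r < 21018
  · exact allRange_spec e8Comm_9_20956 r (by omega) c5
  by_cases c6 : r < 21080
  · exact allRange_spec e8Comm_9_21018 r (by omega) c6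
  by_cases c7 : r < 21142
  · exact allRange_spec e8Comm_9_21080 r (by omega) c7
  by_cases c8 : r < 21204
  · exact allRange_spec e8Comm_9_21142 r (by omega) c8
  by_cases c9 : r < 21266
  · exact allRange_spec e8Comm_9_21204 r (by omega) c9
  by_cases c10 : r < 21328
  · exact allRange_spec e8Comm_9_21266 r (by omega) c10
  by_cases c11 : r < 21390
  · exact allRange_spec e8Comm_9_21328 r (by omega) c11
  by_cases c12 : r < 21452
  · exact allRange_spec e8Comm_9_21390 r (by omega) c12
  by_cases c13 : r < 21514
  · exact allRange_spec e8Comm_9_21452 r (by omega) c13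
  by_cases c14 : r < 21576
  · exact allRange_spec e8Comm_9_21514 r (by omega) c14
  by_cases c15 : r < 21638
  · exact allRange_spec e8Comm_9_21576 r (by omega) c15
  by_cases c16 : r < 21700
  · exact allRange_spec e8Comm_9_21638 r (by omega) c16
  by_cases c17 : r < 21762
  · exact allRange_spec e8Comm_9_21700 r (by omega) c17
  by_cases c18 : r < 21824
  · exact allRange_spec e8Comm_9_21762 r (by omega) c18
  by_cases c19 : r < 21886
  · exact allRange_spec e8Comm_9_21824 r (by omega) c19
  by_cases c20 : r < 21948
  · exact allRange_spec e8Comm_9_21886 r (by omega) c20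
  by_cases c21 : r < 22010
  · exact allRange_spec e8Comm_9_21948 r (by omega) c21
  by_cases c22 : r < 22072
  · exact allRange_spec e8Comm_9_22010 r (by omega) c22
  by_cases c23 : r < 22134
  · exact allRange_spec e8Comm_9_22072 r (by omega) c23
  by_cases c24 : r < 22196
  · exact allRange_spec e8Comm_9_22134 r (by omega) c24
  by_cases c25 : r < 22258
  · exact allRange_spec e8Comm_9_22196 r (by omega) c25
  by_cases c26 : r < 22320
  · exact allRange_spec e8Comm_9_22258 r (by omega) c26
  by_cases c27 : r < 22382
  · exact allRange_spec e8Comm_9_22320 r (by omega) c27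
  by_cases c28 : r < 22444
  · exact allRange_spec e8Comm_9_22382 r (by omega) c28
  by_cases c29 : r < 22506
  · exact allRange_spec e8Comm_9_22444 r (by omega) c29
  by_cases c30 : r < 22568
  · exact allRange_spec e8Comm_9_22506 r (by omega) c30
  by_cases c31 : r < 22630
  · exact allRange_spec e8Comm_9_22568 r (by omega) c31
  by_cases c32 : r < 22692
  · exact allRange_spec e8Comm_9_22630 r (by omega) c32
  by_cases c33 : r < 22754
  · exact allRange_spec e8Comm_9_22692 r (by omega) c33
  by_cases c34 : r < 22816
  · exact allRange_spec e8Comm_9_22754 r (by omega) c34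
  by_cases c35 : r < 22878
  · exact allRange_spec e8Comm_9_22816 r (by omega) c35
  exact allRange_spec e8Comm_9_22878 r (by omega) h2

end Cfsg.Agent.Lib.Helper3.ChevM
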