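import Cfsg.Agent.Lib.Helper3.ChevData.E8Rel
import Cfsg.Agent.Lib.Helper3.ChevData.E8Wit
set_option autoImplicit false
set_option maxRecDepth 1000000
set_option Elab.async false

namespace Cfsg.Agent.Lib.Helper3.ChevM

theorem e8Comm_11_25234 : allRange 25234 25296 ((fun k => commOKk cdE8 reflE8 etaE8 witE8 (k / 240) (k % 240))) = true := by decide +kernel
theorem e8Comm_11_25296 : allRange 25296 25358 ((fun k => commOKk cdE8 reflE8 etaE8 witE8 (k / 240) (k % 240))) = true := by decide +kernel
theorem e8Comm_11_25358 : allRange 25358 25420 ((fun k => commOKk cdE8 reflE8 etaE8 witE8 (k / 240) (k % 240))) = true := by decide +kernel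
theorem e8Comm_11_25420 : allRange 25420 25482 ((fun k => commOKk cdE8 reflE8 etaE8 witE8 (k / 240) (k % 240))) = true := by decide +kernel
theorem e8Comm_11_25482 : allRange 25482 25544 ((fun k => commOKk cdE8 reflE8 etaE8 witE8 (k / 240) (k % 240))) = true := by decide +kernel
theorem e8Comm_11_25544 : allRange 25544 25606 ((fun k => commOKk cdE8 reflE8 etaE8 witE8 (k / 240) (k % 240))) = true := by decide +kernel
theorem e8Comm_11_25606 : allRange 25606 25668 ((fun k => commOKk cdE8 reflE8 etaE8 witE8 (k / 240) (k % 240))) = true := by decide +kernel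
theorem e8Comm_11_25668 : allRange 25668 25730 ((fun k => commOKk cdE8 reflE8 etaE8 witE8 (k / 240) (k % 240))) = true := by decide +kernel
theorem e8Comm_11_25730 : allRange 25730 25792 ((fun k => commOKk cdE8 reflE8 etaE8 witE8 (k / 240) (k % 240))) = true := by decide +kernel
theorem e8Comm_11_25792 : allRange 25792 25854 ((fun k => commOKk cdE8 reflE8 etaE8 witE8 (k / 240) (k % 240))) = true := by decide +kernel
theorem e8Comm_11_25854 : allRange 25854 25916 ((fun k => commOKk cdE8 reflE8 etaE8 witE8 (k / 240) (k % 240))) = true := by decide +kernel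
theorem e8Comm_11_25916 : allRange 25916 25978 ((fun k => commOKk cdE8 reflE8 etaE8 witE8 (k / 240) (k % 240))) = true := by decide +kernel
theorem e8Comm_11_25978 : allRange 25978 26040 ((fun k => commOKk cdE8 reflE8 etaE8 witE8 (k / 240) (k % 240))) = true := by decide +kernel
theorem e8Comm_11_26040 : allRange 26040 26102 ((fun k => commOKk cdE8 reflE8 etaE8 witE8 (k / 240) (k % 240))) = true := by decide +kernel
theorem e8Comm_11_26102 : allRange 26102 26164 ((fun k => commOKk cdE8 reflE8 etaE8 witE8 (k / 240) (k % 240))) = true := by decide +kernel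
theorem e8Comm_11_26164 : allRange 26164 26226 ((fun k => commOKk cdE8 reflE8 etaE8 witE8 (k / 240) (k % 240))) = true := by decide +kernel
theorem e8Comm_11_26226 : allRange 26226 26288 ((fun k => commOKk cdE8 reflE8 etaE8 witE8 (k / 240) (k % 240))) = true := by decide +kernel
theorem e8Comm_11_26288 : allRange 26288 26350 ((fun k => commOKk cdE8 reflE8 etaE8 witE8 (k / 240) (k % 240))) = true := by decide +kernel
theorem e8Comm_11_26350 : allRange 26350 26412 ((fun k => commOKk cdE8 reflE8 etaE8 witE8 (k / 240) (k % 240))) = true := by decide +kernel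
theorem e8Comm_11_26412 : allRange 26412 26474 ((fun k => commOKk cdE8 reflE8 etaE8 witE8 (k / 240) (k % 240))) = true := by decide +kernel
theorem e8Comm_11_26474 : allRange 26474 26536 ((fun k => commOKk cdE8 reflE8 etaE8 witE8 (k / 240) (k % 240))) = true := by decide +kernel
theorem e8Comm_11_26536 : allRange 26536 26598 ((fun k => commOKk cdE8 reflE8 etaE8 witE8 (k / 240) (k % 240))) = true := by decide +kernel
theorem e8Comm_11_26598 : allRange 26598 26660 ((fun k => commOKk cdE8 reflE8 etaE8 witE8 (k / 240) (k % 240))) = true := by decide +kernel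
theorem e8Comm_11_26660 : allRange 26660 26722 ((fun k => commOKk cdE8 reflE8 etaE8 witE8 (k / 240) (k % 240))) = true := by decide +kernel
theorem e8Comm_11_26722 : allRange 26722 26784 ((fun k => commOKk cdE8 reflE8 etaE8 witE8 (k / 240) (k % 240))) = true := by decide +kernel
theorem e8Comm_11_26784 : allRange 26784 26846 ((fun k => commOKk cdE8 reflE8 etaE8 witE8 (k / 240) (k % 240))) = true := by decide +kernel
theorem e8Comm_11_26846 : allRange 26846 26908 ((fun k => commOKk cdE8 reflE8 etaE8 witE8 (k / 240) (k % 240))) = true := by decide +kernel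
theorem e8Comm_11_26908 : allRange 26908 26970 ((fun k => commOKk cdE8 reflE8 etaE8 witE8 (k / 240) (k % 240))) = true := by decide +kernel
theorem e8Comm_11_26970 : allRange 26970 27032 ((fun k => commOKk cdE8 reflE8 etaE8 witE8 (k / 240) (k % 240))) = true := by decide +kernel
theorem e8Comm_11_27032 : allRange 27032 27094 ((fun k => commOKk cdE8 reflE8 etaE8 witE8 (k / 240) (k % 240))) = true := by decide +kernel
theorem e8Comm_11_27094 : allRange 27094 27156 ((fun k => commOKk cdE8 reflE8 etaE8 witE8 (k / 240) (k % 240))) = true := by decide +kernel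
theorem e8Comm_11_27156 : allRange 27156 27218 ((fun k => commOKk cdE8 reflE8 etaE8 witE8 (k / 240) (k % 240))) = true := by decide +kernel
theorem e8Comm_11_27218 : allRange 27218 27280 ((fun k => commOKk cdE8 reflE8 etaE8 witE8 (k / 240) (k % 240))) = true := by decide +kernel
theorem e8Comm_11_27280 : allRange 27280 27342 ((fun k => commOKk cdE8 reflE8 etaE8 witE8 (k / 240) (k % 240))) = true := by decide +kernel
theorem e8Comm_11_27342 : allRange 27342 27404 ((fun k => commOKk cdE8 reflE8 etaE8 witE8 (k / 240) (k % 240))) = true := by decide +kernel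
theorem e8Comm_11_27404 : allRange 27404 27466 ((fun k => commOKk cdE8 reflE8 etaE8 witE8 (k / 240) (k % 240))) = true := by decide +kernel
theorem e8Comm_11_27466 : allRange 27466 27528 ((fun k => commOKk cdE8 reflE8 etaE8 witE8 (k / 240) (k % 240))) = true := by decide +kernel

/-- Steps of the derivation of the commutator formula of type E8 (roots 25234 to 27527). -/
theorem e8Comm_11 : ∀ r, 25234 ≤ r → r < 27528 → ((fun k => commOKk cdE8 reflE8 etaE8 witE8 (k / 240) (k % 240))) r = true := by
  intro r h1 h2
  by_cases c0 : r < 25296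
  · exact allRange_spec e8Comm_11_25234 r (by omega) c0
  by_cases c1 : r < 25358
  · exact allRange_spec e8Comm_11_25296 r (by omega) c1
  by_cases c2 : r < 25420
  · exact allRange_spec e8Comm_11_25358 r (by omega) c2
  by_cases c3 : r < 25482
  · exact allRange_spec e8Comm_11_25420 r (by omega) c3
  by_cases c4 : r < 25544
  · exact allRange_spec e8Comm_11_25482 r (by omega) c4
  by_cases c5 : r < 25606
  · exact allRange_spec e8Comm_11_25544 r (by omega) c5
  by_cases c6 : r < 25668
  · exact allRange_spec e8Comm_11_25606 r (by omega) c6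
  by_cases c7 : r < 25730
  · exact allRange_spec e8Comm_11_25668 r (by omega) c7
  by_cases c8 : r < 25792
  · exact allRange_spec e8Comm_11_25730 r (by omega) c8
  by_cases c9 : r < 25854
  · exact allRange_spec e8Comm_11_25792 r (by omega) c9
  by_cases c10 : r < 25916
  · exact allRange_spec e8Comm_11_25854 r (by omega) c10
  by_cases c11 : r < 25978
  · exact allRange_spec e8Comm_11_25916 r (by omega) c11
  by_cases c12 : r < 26040
  · exact allRange_spec e8Comm_11_25978 r (by omega) c12
  by_cases c13 : r < 26102
  · exact allRange_spec e8Comm_11_26040 r (by omega) c13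
  by_cases c14 : r < 26164
  · exact allRange_spec e8Comm_11_26102 r (by omega) c14
  by_cases c15 : r < 26226
  · exact allRange_spec e8Comm_11_26164 r (by omega) c15
  by_cases c16 : r < 26288
  · exact allRange_spec e8Comm_11_26226 r (by omega) c16
  by_cases c17 : r < 26350
  · exact allRange_spec e8Comm_11_26288 r (by omega) c17
  by_cases c18 : r < 26412
  · exact allRange_spec e8Comm_11_26350 r (by omega) c18
  by_cases c19 : r < 26474
  · exact allRange_spec e8Comm_11_26412 r (by omega) c19
  by_cases c20 : r < 26536
  · exact allRange_spec e8Comm_11_26474 r (by omega) c20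
  by_cases c21 : r < 26598
  · exact allRange_spec e8Comm_11_26536 r (by omega) c21
  by_cases c22 : r < 26660
  · exact allRange_spec e8Comm_11_26598 r (by omega) c22
  by_cases c23 : r < 26722
  · exact allRange_spec e8Comm_11_26660 r (by omega) c23
  by_cases c24 : r < 26784
  · exact allRange_spec e8Comm_11_26722 r (by omega) c24
  by_cases c25 : r < 26846
  · exact allRange_spec e8Comm_11_26784 r (by omega) c25
  by_cases c26 : r < 26908
  · exact allRange_spec e8Comm_11_26846 r (by omega) c26
  by_cases c27 : r < 26970
  · exact allRange_spec e8Comm_11_26908 r (by omega) c27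
  by_cases c28 : r < 27032
  · exact allRange_spec e8Comm_11_26970 r (by omega) c28
  by_cases c29 : r < 27094
  · exact allRange_spec e8Comm_11_27032 r (by omega) c29
  by_cases c30 : r < 27156
  · exact allRange_spec e8Comm_11_27094 r (by omega) c30
  by_cases c31 : r < 27218
  · exact allRange_spec e8Comm_11_27156 r (by omega) c31
  by_cases c32 : r < 27280
  · exact allRange_spec e8Comm_11_27218 r (by omega) c32
  by_cases c33 : r < 27342
  · exact allRange_spec e8Comm_11_27280 r (by omega) c33
  by_cases c34 : r < 27404
  · exact allRange_spec e8Comm_11_27342 r (by omega) c34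
  by_cases c35 : r < 27466
  · exact allRange_spec e8Comm_11_27404 r (by omega) c35
  exact allRange_spec e8Comm_11_27466 r (by omega) h2

end Cfsg.Agent.Lib.Helper3.ChevM
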