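import Cfsg.Agent.Lib.Helper3.ChevData.E8Rel
import Cfsg.Agent.Lib.Helper3.ChevData.E8Wit
set_option autoImplicit false
set_option maxRecDepth 1000000
set_option Elab.async false

namespace Cfsg.Agent.Lib.Helper3.ChevM

theorem e8Comm_12_27528 : allRange 27528 27590 ((fun k => commOKk cdE8 reflE8 etaE8 witE8 (k / 240) (k % 240))) = true := by decide +kernel
theorem e8Comm_12_27590 : allRange 27590 27652 ((fun k => commOKk cdE8 reflE8 etaE8 witE8 (k / 240) (k % 240))) = true := by decide +kernel
theorem e8Comm_12_27652 : allRange 27652 27714 ((fun k => commOKk cdE8 reflE8 etaE8 witE8 (k / 240) (k % 240))) = true := by decide +kernel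
theorem e8Comm_12_27714 : allRange 27714 27776 ((fun k => commOKk cdE8 reflE8 etaE8 witE8 (k / 240) (k % 240))) = true := by decide +kernel
theorem e8Comm_12_27776 : allRange 27776 27838 ((fun k => commOKk cdE8 reflE8 etaE8 witE8 (k / 240) (k % 240))) = true := by decide +kernel
theorem e8Comm_12_27838 : allRange 27838 27900 ((fun k => commOKk cdE8 reflE8 etaE8 witE8 (k / 240) (k % 240))) = true := by decide +kernel
theorem e8Comm_12_27900 : allRange 27900 27962 ((fun k => commOKk cdE8 reflE8 etaE8 witE8 (k / 240) (k % 240))) = true := by decide +kernel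
theorem e8Comm_12_27962 : allRange 27962 28024 ((fun k => commOKk cdE8 reflE8 etaE8 witE8 (k / 240) (k % 240))) = true := by decide +kernel
theorem e8Comm_12_28024 : allRange 28024 28086 ((fun k => commOKk cdE8 reflE8 etaE8 witE8 (k / 240) (k % 240))) = true := by decide +kernel
theorem e8Comm_12_28086 : allRange 28086 28148 ((fun k => commOKk cdE8 reflE8 etaE8 witE8 (k / 240) (k % 240))) = true := by decide +kernel
theorem e8Comm_12_28148 : allRange 28148 28210 ((fun k => commOKk cdE8 reflE8 etaE8 witE8 (k / 240) (k % 240))) = true := by decide +kernel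
theorem e8Comm_12_28210 : allRange 28210 28272 ((fun k => commOKk cdE8 reflE8 etaE8 witE8 (k / 240) (k % 240))) = true := by decide +kernel
theorem e8Comm_12_28272 : allRange 28272 28334 ((fun k => commOKk cdE8 reflE8 etaE8 witE8 (k / 240) (k % 240))) = true := by decide +kernel
theorem e8Comm_12_28334 : allRange 28334 28396 ((fun k => commOKk cdE8 reflE8 etaE8 witE8 (k / 240) (k % 240))) = true := by decide +kernel
theorem e8Comm_12_28396 : allRange 28396 28458 ((fun k => commOKk cdE8 reflE8 etaE8 witE8 (k / 240) (k % 240))) = true := by decide +kernel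
theorem e8Comm_12_28458 : allRange 28458 28520 ((fun k => commOKk cdE8 reflE8 etaE8 witE8 (k / 240) (k % 240))) = true := by decide +kernel
theorem e8Comm_12_28520 : allRange 28520 28582 ((fun k => commOKk cdE8 reflE8 etaE8 witE8 (k / 240) (k % 240))) = true := by decide +kernel
theorem e8Comm_12_28582 : allRange 28582 28644 ((fun k => commOKk cdE8 reflE8 etaE8 witE8 (k / 240) (k % 240))) = true := by decide +kernel
theorem e8Comm_12_28644 : allRange 28644 28706 ((fun k => commOKk cdE8 reflE8 etaE8 witE8 (k / 240) (k % 240))) = true := by decide +kernel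
theorem e8Comm_12_28706 : allRange 28706 28768 ((fun k => commOKk cdE8 reflE8 etaE8 witE8 (k / 240) (k % 240))) = true := by decide +kernel
theorem e8Comm_12_28768 : allRange 28768 28830 ((fun k => commOKk cdE8 reflE8 etaE8 witE8 (k / 240) (k % 240))) = true := by decide +kernel
theorem e8Comm_12_28830 : allRange 28830 28892 ((fun k => commOKk cdE8 reflE8 etaE8 witE8 (k / 240) (k % 240))) = true := by decide +kernel
theorem e8Comm_12_28892 : allRange 28892 28954 ((fun k => commOKk cdE8 reflE8 etaE8 witE8 (k / 240) (k % 240))) = true := by decide +kernel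
theorem e8Comm_12_28954 : allRange 28954 29016 ((fun k => commOKk cdE8 reflE8 etaE8 witE8 (k / 240) (k % 240))) = true := by decide +kernel
theorem e8Comm_12_29016 : allRange 29016 29078 ((fun k => commOKk cdE8 reflE8 etaE8 witE8 (k / 240) (k % 240))) = true := by decide +kernel
theorem e8Comm_12_29078 : allRange 29078 29140 ((fun k => commOKk cdE8 reflE8 etaE8 witE8 (k / 240) (k % 240))) = true := by decide +kernel
theorem e8Comm_12_29140 : allRange 29140 29202 ((fun k => commOKk cdE8 reflE8 etaE8 witE8 (k / 240) (k % 240))) = true := by decide +kernel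
theorem e8Comm_12_29202 : allRange 29202 29264 ((fun k => commOKk cdE8 reflE8 etaE8 witE8 (k / 240) (k % 240))) = true := by decide +kernel
theorem e8Comm_12_29264 : allRange 29264 29326 ((fun k => commOKk cdE8 reflE8 etaE8 witE8 (k / 240) (k % 240))) = true := by decide +kernel
theorem e8Comm_12_29326 : allRange 29326 29388 ((fun k => commOKk cdE8 reflE8 etaE8 witE8 (k / 240) (k % 240))) = true := by decide +kernel
theorem e8Comm_12_29388 : allRange 29388 29450 ((fun k => commOKk cdE8 reflE8 etaE8 witE8 (k / 240) (k % 240))) = true := by decide +kernel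
theorem e8Comm_12_29450 : allRange 29450 29512 ((fun k => commOKk cdE8 reflE8 etaE8 witE8 (k / 240) (k % 240))) = true := by decide +kernel
theorem e8Comm_12_29512 : allRange 29512 29574 ((fun k => commOKk cdE8 reflE8 etaE8 witE8 (k / 240) (k % 240))) = true := by decide +kernel
theorem e8Comm_12_29574 : allRange 29574 29636 ((fun k => commOKk cdE8 reflE8 etaE8 witE8 (k / 240) (k % 240))) = true := by decide +kernel
theorem e8Comm_12_29636 : allRange 29636 29698 ((fun k => commOKk cdE8 reflE8 etaE8 witE8 (k / 240) (k % 240))) = true := by decide +kernel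
theorem e8Comm_12_29698 : allRange 29698 29760 ((fun k => commOKk cdE8 reflE8 etaE8 witE8 (k / 240) (k % 240))) = true := by decide +kernel
theorem e8Comm_12_29760 : allRange 29760 29822 ((fun k => commOKk cdE8 reflE8 etaE8 witE8 (k / 240) (k % 240))) = true := by decide +kernel

/-- Steps of the derivation of the commutator formula of type E8 (roots 27528 to 29821). -/
theorem e8Comm_12 : ∀ r, 27528 ≤ r → r < 29822 → ((fun k => commOKk cdE8 reflE8 etaE8 witE8 (k / 240) (k % 240))) r = true := by
  intro r h1 h2
  by_cases c0 : r < 27590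
  · exact allRange_spec e8Comm_12_27528 r (by omega) c0
  by_cases c1 : r < 27652
  · exact allRange_spec e8Comm_12_27590 r (by omega) c1
  by_cases c2 : r < 27714
  · exact allRange_spec e8Comm_12_27652 r (by omega) c2
  by_cases c3 : r < 27776
  · exact allRange_spec e8Comm_12_27714 r (by omega) c3
  by_cases c4 : r < 27838
  · exact allRange_spec e8Comm_12_27776 r (by omega) c4
  by_cases c5 : r < 27900
  · exact allRange_spec e8Comm_12_27838 r (by omega) c5
  by_cases c6 : r < 27962
  · exact allRange_spec e8Comm_12_27900 r (by omega) c6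
  by_cases c7 : r < 28024
  · exact allRange_spec e8Comm_12_27962 r (by omega) c7
  by_cases c8 : r < 28086
  · exact allRange_spec e8Comm_12_28024 r (by omega) c8
  by_cases c9 : r < 28148
  · exact allRange_spec e8Comm_12_28086 r (by omega) c9
  by_cases c10 : r < 28210
  · exact allRange_spec e8Comm_12_28148 r (by omega) c10
  by_cases c11 : r < 28272
  · exact allRange_spec e8Comm_12_28210 r (by omega) c11
  by_cases c12 : r < 28334
  · exact allRange_spec e8Comm_12_28272 r (by omega) c12
  by_cases c13 : r < 28396
  · exact allRange_spec e8Comm_12_28334 r (by omega) c13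
  by_cases c14 : r < 28458
  · exact allRange_spec e8Comm_12_28396 r (by omega) c14
  by_cases c15 : r < 28520
  · exact allRange_spec e8Comm_12_28458 r (by omega) c15
  by_cases c16 : r < 28582
  · exact allRange_spec e8Comm_12_28520 r (by omega) c16
  by_cases c17 : r < 28644
  · exact allRange_spec e8Comm_12_28582 r (by omega) c17
  by_cases c18 : r < 28706
  · exact allRange_spec e8Comm_12_28644 r (by omega) c18
  by_cases c19 : r < 28768
  · exact allRange_spec e8Comm_12_28706 r (by omega) c19
  by_cases c20 : r < 28830
  · exact allRange_spec e8Comm_12_28768 r (by omega) c20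
  by_cases c21 : r < 28892
  · exact allRange_spec e8Comm_12_28830 r (by omega) c21
  by_cases c22 : r < 28954
  · exact allRange_spec e8Comm_12_28892 r (by omega) c22
  by_cases c23 : r < 29016
  · exact allRange_spec e8Comm_12_28954 r (by omega) c23
  by_cases c24 : r < 29078
  · exact allRange_spec e8Comm_12_29016 r (by omega) c24
  by_cases c25 : r < 29140
  · exact allRange_spec e8Comm_12_29078 r (by omega) c25
  by_cases c26 : r < 29202
  · exact allRange_spec e8Comm_12_29140 r (by omega) c26
  by_cases c27 : r < 29264
  · exact allRange_spec e8Comm_12_29202 r (by omega) c27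
  by_cases c28 : r < 29326
  · exact allRange_spec e8Comm_12_29264 r (by omega) c28
  by_cases c29 : r < 29388
  · exact allRange_spec e8Comm_12_29326 r (by omega) c29
  by_cases c30 : r < 29450
  · exact allRange_spec e8Comm_12_29388 r (by omega) c30
  by_cases c31 : r < 29512
  · exact allRange_spec e8Comm_12_29450 r (by omega) c31
  by_cases c32 : r < 29574
  · exact allRange_spec e8Comm_12_29512 r (by omega) c32
  by_cases c33 : r < 29636
  · exact allRange_spec e8Comm_12_29574 r (by omega) c33
  by_cases c34 : r < 29698
  · exact allRange_spec e8Comm_12_29636 r (by omega) c34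
  by_cases c35 : r < 29760
  · exact allRange_spec e8Comm_12_29698 r (by omega) c35
  exact allRange_spec e8Comm_12_29760 r (by omega) h2

end Cfsg.Agent.Lib.Helper3.ChevM
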