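import Cfsg.Agent.Lib.Helper3.ChevData.E8Rel
import Cfsg.Agent.Lib.Helper3.ChevData.E8Wit
set_option autoImplicit false
set_option maxRecDepth 1000000
set_option Elab.async false

namespace Cfsg.Agent.Lib.Helper3.ChevM

theorem e8Comm_13_29822 : allRange 29822 29884 ((fun k => commOKk cdE8 reflE8 etaE8 witE8 (k / 240) (k % 240))) = true := by decide +kernel
theorem e8Comm_13_29884 : allRange 29884 29946 ((fun k => commOKk cdE8 reflE8 etaE8 witE8 (k / 240) (k % 240))) = true := by decide +kernel
theorem e8Comm_13_29946 : allRange 29946 30008 ((fun k => commOKk cdE8 reflE8 etaE8 witE8 (k / 240) (k % 240))) = true := by decide +kernel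
theorem e8Comm_13_30008 : allRange 30008 30070 ((fun k => commOKk cdE8 reflE8 etaE8 witE8 (k / 240) (k % 240))) = true := by decide +kernel
theorem e8Comm_13_30070 : allRange 30070 30132 ((fun k => commOKk cdE8 reflE8 etaE8 witE8 (k / 240) (k % 240))) = true := by decide +kernel
theorem e8Comm_13_30132 : allRange 30132 30194 ((fun k => commOKk cdE8 reflE8 etaE8 witE8 (k / 240) (k % 240))) = true := by decide +kernel
theorem e8Comm_13_30194 : allRange 30194 30256 ((fun k => commOKk cdE8 reflE8 etaE8 witE8 (k / 240) (k % 240))) = true := by decide +kernel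
theorem e8Comm_13_30256 : allRange 30256 30318 ((fun k => commOKk cdE8 reflE8 etaE8 witE8 (k / 240) (k % 240))) = true := by decide +kernel
theorem e8Comm_13_30318 : allRange 30318 30380 ((fun k => commOKk cdE8 reflE8 etaE8 witE8 (k / 240) (k % 240))) = true := by decide +kernel
theorem e8Comm_13_30380 : allRange 30380 30442 ((fun k => commOKk cdE8 reflE8 etaE8 witE8 (k / 240) (k % 240))) = true := by decide +kernel
theorem e8Comm_13_30442 : allRange 30442 30504 ((fun k => commOKk cdE8 reflE8 etaE8 witE8 (k / 240) (k % 240))) = true := by decide +kernel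
theorem e8Comm_13_30504 : allRange 30504 30566 ((fun k => commOKk cdE8 reflE8 etaE8 witE8 (k / 240) (k % 240))) = true := by decide +kernel
theorem e8Comm_13_30566 : allRange 30566 30628 ((fun k => commOKk cdE8 reflE8 etaE8 witE8 (k / 240) (k % 240))) = true := by decide +kernel
theorem e8Comm_13_30628 : allRange 30628 30690 ((fun k => commOKk cdE8 reflE8 etaE8 witE8 (k / 240) (k % 240))) = true := by decide +kernel
theorem e8Comm_13_30690 : allRange 30690 30752 ((fun k => commOKk cdE8 reflE8 etaE8 witE8 (k / 240) (k % 240))) = true := by decide +kernel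
theorem e8Comm_13_30752 : allRange 30752 30814 ((fun k => commOKk cdE8 reflE8 etaE8 witE8 (k / 240) (k % 240))) = true := by decide +kernel
theorem e8Comm_13_30814 : allRange 30814 30876 ((fun k => commOKk cdE8 reflE8 etaE8 witE8 (k / 240) (k % 240))) = true := by decide +kernel
theorem e8Comm_13_30876 : allRange 30876 30938 ((fun k => commOKk cdE8 reflE8 etaE8 witE8 (k / 240) (k % 240))) = true := by decide +kernel
theorem e8Comm_13_30938 : allRange 30938 31000 ((fun k => commOKk cdE8 reflE8 etaE8 witE8 (k / 240) (k % 240))) = true := by decide +kernel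
theorem e8Comm_13_31000 : allRange 31000 31062 ((fun k => commOKk cdE8 reflE8 etaE8 witE8 (k / 240) (k % 240))) = true := by decide +kernel
theorem e8Comm_13_31062 : allRange 31062 31124 ((fun k => commOKk cdE8 reflE8 etaE8 witE8 (k / 240) (k % 240))) = true := by decide +kernel
theorem e8Comm_13_31124 : allRange 31124 31186 ((fun k => commOKk cdE8 reflE8 etaE8 witE8 (k / 240) (k % 240))) = true := by decide +kernel
theorem e8Comm_13_31186 : allRange 31186 31248 ((fun k => commOKk cdE8 reflE8 etaE8 witE8 (k / 240) (k % 240))) = true := by decide +kernel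
theorem e8Comm_13_31248 : allRange 31248 31310 ((fun k => commOKk cdE8 reflE8 etaE8 witE8 (k / 240) (k % 240))) = true := by decide +kernel
theorem e8Comm_13_31310 : allRange 31310 31372 ((fun k => commOKk cdE8 reflE8 etaE8 witE8 (k / 240) (k % 240))) = true := by decide +kernel
theorem e8Comm_13_31372 : allRange 31372 31434 ((fun k => commOKk cdE8 reflE8 etaE8 witE8 (k / 240) (k % 240))) = true := by decide +kernel
theorem e8Comm_13_31434 : allRange 31434 31496 ((fun k => commOKk cdE8 reflE8 etaE8 witE8 (k / 240) (k % 240))) = true := by decide +kernel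
theorem e8Comm_13_31496 : allRange 31496 31558 ((fun k => commOKk cdE8 reflE8 etaE8 witE8 (k / 240) (k % 240))) = true := by decide +kernel
theorem e8Comm_13_31558 : allRange 31558 31620 ((fun k => commOKk cdE8 reflE8 etaE8 witE8 (k / 240) (k % 240))) = true := by decide +kernel
theorem e8Comm_13_31620 : allRange 31620 31682 ((fun k => commOKk cdE8 reflE8 etaE8 witE8 (k / 240) (k % 240))) = true := by decide +kernel
theorem e8Comm_13_31682 : allRange 31682 31744 ((fun k => commOKk cdE8 reflE8 etaE8 witE8 (k / 240) (k % 240))) = true := by decide +kernel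
theorem e8Comm_13_31744 : allRange 31744 31806 ((fun k => commOKk cdE8 reflE8 etaE8 witE8 (k / 240) (k % 240))) = true := by decide +kernel
theorem e8Comm_13_31806 : allRange 31806 31868 ((fun k => commOKk cdE8 reflE8 etaE8 witE8 (k / 240) (k % 240))) = true := by decide +kernel
theorem e8Comm_13_31868 : allRange 31868 31930 ((fun k => commOKk cdE8 reflE8 etaE8 witE8 (k / 240) (k % 240))) = true := by decide +kernel
theorem e8Comm_13_31930 : allRange 31930 31992 ((fun k => commOKk cdE8 reflE8 etaE8 witE8 (k / 240) (k % 240))) = true := by decide +kernel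
theorem e8Comm_13_31992 : allRange 31992 32054 ((fun k => commOKk cdE8 reflE8 etaE8 witE8 (k / 240) (k % 240))) = true := by decide +kernel
theorem e8Comm_13_32054 : allRange 32054 32116 ((fun k => commOKk cdE8 reflE8 etaE8 witE8 (k / 240) (k % 240))) = true := by decide +kernel

/-- Steps of the derivation of the commutator formula of type E8 (roots 29822 to 32115). -/
theorem e8Comm_13 : ∀ r, 29822 ≤ r → r < 32116 → ((fun k => commOKk cdE8 reflE8 etaE8 witE8 (k / 240) (k % 240))) r = true := by
  intro r h1 h2
  by_cases c0 : r < 29884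
  · exact allRange_spec e8Comm_13_29822 r (by omega) c0
  by_cases c1 : r < 29946
  · exact allRange_spec e8Comm_13_29884 r (by omega) c1
  by_cases c2 : r < 30008
  · exact allRange_spec e8Comm_13_29946 r (by omega) c2
  by_cases c3 : r < 30070
  · exact allRange_spec e8Comm_13_30008 r (by omega) c3
  by_cases c4 : r < 30132
  · exact allRange_spec e8Comm_13_30070 r (by omega) c4
  by_cases c5 : r < 30194
  · exact allRange_spec e8Comm_13_30132 r (by omega) c5
  by_cases c6 : r < 30256
  · exact allRange_spec e8Comm_13_30194 r (by omega) c6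
  by_cases c7 : r < 30318
  · exact allRange_spec e8Comm_13_30256 r (by omega) c7
  by_cases c8 : r < 30380
  · exact allRange_spec e8Comm_13_30318 r (by omega) c8
  by_cases c9 : r < 30442
  · exact allRange_spec e8Comm_13_30380 r (by omega) c9
  by_cases c10 : r < 30504
  · exact allRange_spec e8Comm_13_30442 r (by omega) c10
  by_cases c11 : r < 30566
  · exact allRange_spec e8Comm_13_30504 r (by omega) c11
  by_cases c12 : r < 30628
  · exact allRange_spec e8Comm_13_30566 r (by omega) c12
  by_cases c13 : r < 30690
  · exact allRange_spec e8Comm_13_30628 r (by omega) c13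
  by_cases c14 : r < 30752
  · exact allRange_spec e8Comm_13_30690 r (by omega) c14
  by_cases c15 : r < 30814
  · exact allRange_spec e8Comm_13_30752 r (by omega) c15
  by_cases c16 : r < 30876
  · exact allRange_spec e8Comm_13_30814 r (by omega) c16
  by_cases c17 : r < 30938
  · exact allRange_spec e8Comm_13_30876 r (by omega) c17
  by_cases c18 : r < 31000
  · exact allRange_spec e8Comm_13_30938 r (by omega) c18
  by_cases c19 : r < 31062
  · exact allRange_spec e8Comm_13_31000 r (by omega) c19
  by_cases c20 : r < 31124
  · exact allRange_spec e8Comm_13_31062 r (by omega) c20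
  by_cases c21 : r < 31186
  · exact allRange_spec e8Comm_13_31124 r (by omega) c21
  by_cases c22 : r < 31248
  · exact allRange_spec e8Comm_13_31186 r (by omega) c22
  by_cases c23 : r < 31310
  · exact allRange_spec e8Comm_13_31248 r (by omega) c23
  by_cases c24 : r < 31372
  · exact allRange_spec e8Comm_13_31310 r (by omega) c24
  by_cases c25 : r < 31434
  · exact allRange_spec e8Comm_13_31372 r (by omega) c25
  by_cases c26 : r < 31496
  · exact allRange_spec e8Comm_13_31434 r (by omega) c26
  by_cases c27 : r < 31558
  · exact allRange_spec e8Comm_13_31496 r (by omega) c27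
  by_cases c28 : r < 31620
  · exact allRange_spec e8Comm_13_31558 r (by omega) c28
  by_cases c29 : r < 31682
  · exact allRange_spec e8Comm_13_31620 r (by omega) c29
  by_cases c30 : r < 31744
  · exact allRange_spec e8Comm_13_31682 r (by omega) c30
  by_cases c31 : r < 31806
  · exact allRange_spec e8Comm_13_31744 r (by omega) c31
  by_cases c32 : r < 31868
  · exact allRange_spec e8Comm_13_31806 r (by omega) c32
  by_cases c33 : r < 31930
  · exact allRange_spec e8Comm_13_31868 r (by omega) c33
  by_cases c34 : r < 31992
  · exact allRange_spec e8Comm_13_31930 r (by omega) c34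
  by_cases c35 : r < 32054
  · exact allRange_spec e8Comm_13_31992 r (by omega) c35
  exact allRange_spec e8Comm_13_32054 r (by omega) h2

end Cfsg.Agent.Lib.Helper3.ChevM
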