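import Cfsg.Agent.Lib.Helper3.ChevData.E8Rel
import Cfsg.Agent.Lib.Helper3.ChevData.E8Wit
set_option autoImplicit false
set_option maxRecDepth 1000000
set_option Elab.async false

namespace Cfsg.Agent.Lib.Helper3.ChevM

theorem e8Comm_14_32116 : allRange 32116 32178 ((fun k => commOKk cdE8 reflE8 etaE8 witE8 (k / 240) (k % 240))) = true := by decide +kernel
theorem e8Comm_14_32178 : allRange 32178 32240 ((fun k => commOKk cdE8 reflE8 etaE8 witE8 (k / 240) (k % 240))) = true := by decide +kernel
theorem e8Comm_14_32240 : allRange 32240 32302 ((fun k => commOKk cdE8 reflE8 etaE8 witE8 (k / 240) (k % 240))) = true := by decide +kernel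
theorem e8Comm_14_32302 : allRange 32302 32364 ((fun k => commOKk cdE8 reflE8 etaE8 witE8 (k / 240) (k % 240))) = true := by decide +kernel
theorem e8Comm_14_32364 : allRange 32364 32426 ((fun k => commOKk cdE8 reflE8 etaE8 witE8 (k / 240) (k % 240))) = true := by decide +kernel
theorem e8Comm_14_32426 : allRange 32426 32488 ((fun k => commOKk cdE8 reflE8 etaE8 witE8 (k / 240) (k % 240))) = true := by decide +kernel
theorem e8Comm_14_32488 : allRange 32488 32550 ((fun k => commOKk cdE8 reflE8 etaE8 witE8 (k / 240) (k % 240))) = true := by decide +kernel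
theorem e8Comm_14_32550 : allRange 32550 32612 ((fun k => commOKk cdE8 reflE8 etaE8 witE8 (k / 240) (k % 240))) = true := by decide +kernel
theorem e8Comm_14_32612 : allRange 32612 32674 ((fun k => commOKk cdE8 reflE8 etaE8 witE8 (k / 240) (k % 240))) = true := by decide +kernel
theorem e8Comm_14_32674 : allRange 32674 32736 ((fun k => commOKk cdE8 reflE8 etaE8 witE8 (k / 240) (k % 240))) = true := by decide +kernel
theorem e8Comm_14_32736 : allRange 32736 32798 ((fun k => commOKk cdE8 reflE8 etaE8 witE8 (k / 240) (k % 240))) = true := by decide +kernel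
theorem e8Comm_14_32798 : allRange 32798 32860 ((fun k => commOKk cdE8 reflE8 etaE8 witE8 (k / 240) (k % 240))) = true := by decide +kernel
theorem e8Comm_14_32860 : allRange 32860 32922 ((fun k => commOKk cdE8 reflE8 etaE8 witE8 (k / 240) (k % 240))) = true := by decide +kernel
theorem e8Comm_14_32922 : allRange 32922 32984 ((fun k => commOKk cdE8 reflE8 etaE8 witE8 (k / 240) (k % 240))) = true := by decide +kernel
theorem e8Comm_14_32984 : allRange 32984 33046 ((fun k => commOKk cdE8 reflE8 etaE8 witE8 (k / 240) (k % 240))) = true := by decide +kernel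
theorem e8Comm_14_33046 : allRange 33046 33108 ((fun k => commOKk cdE8 reflE8 etaE8 witE8 (k / 240) (k % 240))) = true := by decide +kernel
theorem e8Comm_14_33108 : allRange 33108 33170 ((fun k => commOKk cdE8 reflE8 etaE8 witE8 (k / 240) (k % 240))) = true := by decide +kernel
theorem e8Comm_14_33170 : allRange 33170 33232 ((fun k => commOKk cdE8 reflE8 etaE8 witE8 (k / 240) (k % 240))) = true := by decide +kernel
theorem e8Comm_14_33232 : allRange 33232 33294 ((fun k => commOKk cdE8 reflE8 etaE8 witE8 (k / 240) (k % 240))) = true := by decide +kernel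
theorem e8Comm_14_33294 : allRange 33294 33356 ((fun k => commOKk cdE8 reflE8 etaE8 witE8 (k / 240) (k % 240))) = true := by decide +kernel
theorem e8Comm_14_33356 : allRange 33356 33418 ((fun k => commOKk cdE8 reflE8 etaE8 witE8 (k / 240) (k % 240))) = true := by decide +kernel
theorem e8Comm_14_33418 : allRange 33418 33480 ((fun k => commOKk cdE8 reflE8 etaE8 witE8 (k / 240) (k % 240))) = true := by decide +kernel
theorem e8Comm_14_33480 : allRange 33480 33542 ((fun k => commOKk cdE8 reflE8 etaE8 witE8 (k / 240) (k % 240))) = true := by decide +kernel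
theorem e8Comm_14_33542 : allRange 33542 33604 ((fun k => commOKk cdE8 reflE8 etaE8 witE8 (k / 240) (k % 240))) = true := by decide +kernel
theorem e8Comm_14_33604 : allRange 33604 33666 ((fun k => commOKk cdE8 reflE8 etaE8 witE8 (k / 240) (k % 240))) = true := by decide +kernel
theorem e8Comm_14_33666 : allRange 33666 33728 ((fun k => commOKk cdE8 reflE8 etaE8 witE8 (k / 240) (k % 240))) = true := by decide +kernel
theorem e8Comm_14_33728 : allRange 33728 33790 ((fun k => commOKk cdE8 reflE8 etaE8 witE8 (k / 240) (k % 240))) = true := by decide +kernel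
theorem e8Comm_14_33790 : allRange 33790 33852 ((fun k => commOKk cdE8 reflE8 etaE8 witE8 (k / 240) (k % 240))) = true := by decide +kernel
theorem e8Comm_14_33852 : allRange 33852 33914 ((fun k => commOKk cdE8 reflE8 etaE8 witE8 (k / 240) (k % 240))) = true := by decide +kernel
theorem e8Comm_14_33914 : allRange 33914 33976 ((fun k => commOKk cdE8 reflE8 etaE8 witE8 (k / 240) (k % 240))) = true := by decide +kernel
theorem e8Comm_14_33976 : allRange 33976 34038 ((fun k => commOKk cdE8 reflE8 etaE8 witE8 (k / 240) (k % 240))) = true := by decide +kernel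
theorem e8Comm_14_34038 : allRange 34038 34100 ((fun k => commOKk cdE8 reflE8 etaE8 witE8 (k / 240) (k % 240))) = true := by decide +kernel
theorem e8Comm_14_34100 : allRange 34100 34162 ((fun k => commOKk cdE8 reflE8 etaE8 witE8 (k / 240) (k % 240))) = true := by decide +kernel
theorem e8Comm_14_34162 : allRange 34162 34224 ((fun k => commOKk cdE8 reflE8 etaE8 witE8 (k / 240) (k % 240))) = true := by decide +kernel
theorem e8Comm_14_34224 : allRange 34224 34286 ((fun k => commOKk cdE8 reflE8 etaE8 witE8 (k / 240) (k % 240))) = true := by decide +kernel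
theorem e8Comm_14_34286 : allRange 34286 34348 ((fun k => commOKk cdE8 reflE8 etaE8 witE8 (k / 240) (k % 240))) = true := by decide +kernel
theorem e8Comm_14_34348 : allRange 34348 34410 ((fun k => commOKk cdE8 reflE8 etaE8 witE8 (k / 240) (k % 240))) = true := by decide +kernel

/-- Steps of the derivation of the commutator formula of type E8 (roots 32116 to 34409). -/
theorem e8Comm_14 : ∀ r, 32116 ≤ r → r < 34410 → ((fun k => commOKk cdE8 reflE8 etaE8 witE8 (k / 240) (k % 240))) r = true := by
  intro r h1 h2
  by_cases c0 : r < 32178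
  · exact allRange_spec e8Comm_14_32116 r (by omega) c0
  by_cases c1 : r < 32240
  · exact allRange_spec e8Comm_14_32178 r (by omega) c1
  by_cases c2 : r < 32302
  · exact allRange_spec e8Comm_14_32240 r (by omega) c2
  by_cases c3 : r < 32364
  · exact allRange_spec e8Comm_14_32302 r (by omega) c3
  by_cases c4 : r < 32426
  · exact allRange_spec e8Comm_14_32364 r (by omega) c4
  by_cases c5 : r < 32488
  · exact allRange_spec e8Comm_14_32426 r (by omega) c5
  by_cases c6 : r < 32550
  · exact allRange_spec e8Comm_14_32488 r (by omega) c6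
  by_cases c7 : r < 32612
  · exact allRange_spec e8Comm_14_32550 r (by omega) c7
  by_cases c8 : r < 32674
  · exact allRange_spec e8Comm_14_32612 r (by omega) c8
  by_cases c9 : r < 32736
  · exact allRange_spec e8Comm_14_32674 r (by omega) c9
  by_cases c10 : r < 32798
  · exact allRange_spec e8Comm_14_32736 r (by omega) c10
  by_cases c11 : r < 32860
  · exact allRange_spec e8Comm_14_32798 r (by omega) c11
  by_cases c12 : r < 32922
  · exact allRange_spec e8Comm_14_32860 r (by omega) c12
  by_cases c13 : r < 32984
  · exact allRange_spec e8Comm_14_32922 r (by omega) c13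
  by_cases c14 : r < 33046
  · exact allRange_spec e8Comm_14_32984 r (by omega) c14
  by_cases c15 : r < 33108
  · exact allRange_spec e8Comm_14_33046 r (by omega) c15
  by_cases c16 : r < 33170
  · exact allRange_spec e8Comm_14_33108 r (by omega) c16
  by_cases c17 : r < 33232
  · exact allRange_spec e8Comm_14_33170 r (by omega) c17
  by_cases c18 : r < 33294
  · exact allRange_spec e8Comm_14_33232 r (by omega) c18
  by_cases c19 : r < 33356
  · exact allRange_spec e8Comm_14_33294 r (by omega) c19
  by_cases c20 : r < 33418
  · exact allRange_spec e8Comm_14_33356 r (by omega) c20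
  by_cases c21 : r < 33480
  · exact allRange_spec e8Comm_14_33418 r (by omega) c21
  by_cases c22 : r < 33542
  · exact allRange_spec e8Comm_14_33480 r (by omega) c22
  by_cases c23 : r < 33604
  · exact allRange_spec e8Comm_14_33542 r (by omega) c23
  by_cases c24 : r < 33666
  · exact allRange_spec e8Comm_14_33604 r (by omega) c24
  by_cases c25 : r < 33728
  · exact allRange_spec e8Comm_14_33666 r (by omega) c25
  by_cases c26 : r < 33790
  · exact allRange_spec e8Comm_14_33728 r (by omega) c26
  by_cases c27 : r < 33852
  · exact allRange_spec e8Comm_14_33790 r (by omega) c27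
  by_cases c28 : r < 33914
  · exact allRange_spec e8Comm_14_33852 r (by omega) c28
  by_cases c29 : r < 33976
  · exact allRange_spec e8Comm_14_33914 r (by omega) c29
  by_cases c30 : r < 34038
  · exact allRange_spec e8Comm_14_33976 r (by omega) c30
  by_cases c31 : r < 34100
  · exact allRange_spec e8Comm_14_34038 r (by omega) c31
  by_cases c32 : r < 34162
  · exact allRange_spec e8Comm_14_34100 r (by omega) c32
  by_cases c33 : r < 34224
  · exact allRange_spec e8Comm_14_34162 r (by omega) c33
  by_cases c34 : r < 34286
  · exact allRange_spec e8Comm_14_34224 r (by omega) c34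
  by_cases c35 : r < 34348
  · exact allRange_spec e8Comm_14_34286 r (by omega) c35
  exact allRange_spec e8Comm_14_34348 r (by omega) h2

end Cfsg.Agent.Lib.Helper3.ChevM
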