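import Cfsg.Agent.Lib.Helper3.ChevData.E8Rel
import Cfsg.Agent.Lib.Helper3.ChevData.E8Wit
set_option autoImplicit false
set_option maxRecDepth 1000000
set_option Elab.async false

namespace Cfsg.Agent.Lib.Helper3.ChevM

theorem e8Comm_15_34410 : allRange 34410 34472 ((fun k => commOKk cdE8 reflE8 etaE8 witE8 (k / 240) (k % 240))) = true := by decide +kernel
theorem e8Comm_15_34472 : allRange 34472 34534 ((fun k => commOKk cdE8 reflE8 etaE8 witE8 (k / 240) (k % 240))) = true := by decide +kernel
theorem e8Comm_15_34534 : allRange 34534 34596 ((fun k => commOKk cdE8 reflE8 etaE8 witE8 (k / 240) (k % 240))) = true := by decide +kernel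
theorem e8Comm_15_34596 : allRange 34596 34658 ((fun k => commOKk cdE8 reflE8 etaE8 witE8 (k / 240) (k % 240))) = true := by decide +kernel
theorem e8Comm_15_34658 : allRange 34658 34720 ((fun k => commOKk cdE8 reflE8 etaE8 witE8 (k / 240) (k % 240))) = true := by decide +kernel
theorem e8Comm_15_34720 : allRange 34720 34782 ((fun k => commOKk cdE8 reflE8 etaE8 witE8 (k / 240) (k % 240))) = true := by decide +kernel
theorem e8Comm_15_34782 : allRange 34782 34844 ((fun k => commOKk cdE8 reflE8 etaE8 witE8 (k / 240) (k % 240))) = true := by decide +kernel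
theorem e8Comm_15_34844 : allRange 34844 34906 ((fun k => commOKk cdE8 reflE8 etaE8 witE8 (k / 240) (k % 240))) = true := by decide +kernel
theorem e8Comm_15_34906 : allRange 34906 34968 ((fun k => commOKk cdE8 reflE8 etaE8 witE8 (k / 240) (k % 240))) = true := by decide +kernel
theorem e8Comm_15_34968 : allRange 34968 35030 ((fun k => commOKk cdE8 reflE8 etaE8 witE8 (k / 240) (k % 240))) = true := by decide +kernel
theorem e8Comm_15_35030 : allRange 35030 35092 ((fun k => commOKk cdE8 reflE8 etaE8 witE8 (k / 240) (k % 240))) = true := by decide +kernel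
theorem e8Comm_15_35092 : allRange 35092 35154 ((fun k => commOKk cdE8 reflE8 etaE8 witE8 (k / 240) (k % 240))) = true := by decide +kernel
theorem e8Comm_15_35154 : allRange 35154 35216 ((fun k => commOKk cdE8 reflE8 etaE8 witE8 (k / 240) (k % 240))) = true := by decide +kernel
theorem e8Comm_15_35216 : allRange 35216 35278 ((fun k => commOKk cdE8 reflE8 etaE8 witE8 (k / 240) (k % 240))) = true := by decide +kernel
theorem e8Comm_15_35278 : allRange 35278 35340 ((fun k => commOKk cdE8 reflE8 etaE8 witE8 (k / 240) (k % 240))) = true := by decide +kernel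
theorem e8Comm_15_35340 : allRange 35340 35402 ((fun k => commOKk cdE8 reflE8 etaE8 witE8 (k / 240) (k % 240))) = true := by decide +kernel
theorem e8Comm_15_35402 : allRange 35402 35464 ((fun k => commOKk cdE8 reflE8 etaE8 witE8 (k / 240) (k % 240))) = true := by decide +kernel
theorem e8Comm_15_35464 : allRange 35464 35526 ((fun k => commOKk cdE8 reflE8 etaE8 witE8 (k / 240) (k % 240))) = true := by decide +kernel
theorem e8Comm_15_35526 : allRange 35526 35588 ((fun k => commOKk cdE8 reflE8 etaE8 witE8 (k / 240) (k % 240))) = true := by decide +kernel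
theorem e8Comm_15_35588 : allRange 35588 35650 ((fun k => commOKk cdE8 reflE8 etaE8 witE8 (k / 240) (k % 240))) = true := by decide +kernel
theorem e8Comm_15_35650 : allRange 35650 35712 ((fun k => commOKk cdE8 reflE8 etaE8 witE8 (k / 240) (k % 240))) = true := by decide +kernel
theorem e8Comm_15_35712 : allRange 35712 35774 ((fun k => commOKk cdE8 reflE8 etaE8 witE8 (k / 240) (k % 240))) = true := by decide +kernel
theorem e8Comm_15_35774 : allRange 35774 35836 ((fun k => commOKk cdE8 reflE8 etaE8 witE8 (k / 240) (k % 240))) = true := by decide +kernel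
theorem e8Comm_15_35836 : allRange 35836 35898 ((fun k => commOKk cdE8 reflE8 etaE8 witE8 (k / 240) (k % 240))) = true := by decide +kernel
theorem e8Comm_15_35898 : allRange 35898 35960 ((fun k => commOKk cdE8 reflE8 etaE8 witE8 (k / 240) (k % 240))) = true := by decide +kernel
theorem e8Comm_15_35960 : allRange 35960 36022 ((fun k => commOKk cdE8 reflE8 etaE8 witE8 (k / 240) (k % 240))) = true := by decide +kernel
theorem e8Comm_15_36022 : allRange 36022 36084 ((fun k => commOKk cdE8 reflE8 etaE8 witE8 (k / 240) (k % 240))) = true := by decide +kernel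
theorem e8Comm_15_36084 : allRange 36084 36146 ((fun k => commOKk cdE8 reflE8 etaE8 witE8 (k / 240) (k % 240))) = true := by decide +kernel
theorem e8Comm_15_36146 : allRange 36146 36208 ((fun k => commOKk cdE8 reflE8 etaE8 witE8 (k / 240) (k % 240))) = true := by decide +kernel
theorem e8Comm_15_36208 : allRange 36208 36270 ((fun k => commOKk cdE8 reflE8 etaE8 witE8 (k / 240) (k % 240))) = true := by decide +kernel
theorem e8Comm_15_36270 : allRange 36270 36332 ((fun k => commOKk cdE8 reflE8 etaE8 witE8 (k / 240) (k % 240))) = true := by decide +kernel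
theorem e8Comm_15_36332 : allRange 36332 36394 ((fun k => commOKk cdE8 reflE8 etaE8 witE8 (k / 240) (k % 240))) = true := by decide +kernel
theorem e8Comm_15_36394 : allRange 36394 36456 ((fun k => commOKk cdE8 reflE8 etaE8 witE8 (k / 240) (k % 240))) = true := by decide +kernel
theorem e8Comm_15_36456 : allRange 36456 36518 ((fun k => commOKk cdE8 reflE8 etaE8 witE8 (k / 240) (k % 240))) = true := by decide +kernel
theorem e8Comm_15_36518 : allRange 36518 36580 ((fun k => commOKk cdE8 reflE8 etaE8 witE8 (k / 240) (k % 240))) = true := by decide +kernel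
theorem e8Comm_15_36580 : allRange 36580 36642 ((fun k => commOKk cdE8 reflE8 etaE8 witE8 (k / 240) (k % 240))) = true := by decide +kernel
theorem e8Comm_15_36642 : allRange 36642 36704 ((fun k => commOKk cdE8 reflE8 etaE8 witE8 (k / 240) (k % 240))) = true := by decide +kernel

/-- Steps of the derivation of the commutator formula of type E8 (roots 34410 to 36703). -/
theorem e8Comm_15 : ∀ r, 34410 ≤ r → r < 36704 → ((fun k => commOKk cdE8 reflE8 etaE8 witE8 (k / 240) (k % 240))) r = true := by
  intro r h1 h2
  by_cases c0 : r < 34472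
  · exact allRange_spec e8Comm_15_34410 r (by omega) c0
  by_cases c1 : r < 34534
  · exact allRange_spec e8Comm_15_34472 r (by omega) c1
  by_cases c2 : r < 34596
  · exact allRange_spec e8Comm_15_34534 r (by omega) c2
  by_cases c3 : r < 34658
  · exact allRange_spec e8Comm_15_34596 r (by omega) c3
  by_cases c4 : r < 34720
  · exact allRange_spec e8Comm_15_34658 r (by omega) c4
  by_cases c5 : r < 34782
  · exact allRange_spec e8Comm_15_34720 r (by omega) c5
  by_cases c6 : r < 34844
  · exact allRange_spec e8Comm_15_34782 r (by omega) c6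
  by_cases c7 : r < 34906
  · exact allRange_spec e8Comm_15_34844 r (by omega) c7
  by_cases c8 : r < 34968
  · exact allRange_spec e8Comm_15_34906 r (by omega) c8
  by_cases c9 : r < 35030
  · exact allRange_spec e8Comm_15_34968 r (by omega) c9
  by_cases c10 : r < 35092
  · exact allRange_spec e8Comm_15_35030 r (by omega) c10
  by_cases c11 : r < 35154
  · exact allRange_spec e8Comm_15_35092 r (by omega) c11
  by_cases c12 : r < 35216
  · exact allRange_spec e8Comm_15_35154 r (by omega) c12
  by_cases c13 : r < 35278
  · exact allRange_spec e8Comm_15_35216 r (by omega) c13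
  by_cases c14 : r < 35340
  · exact allRange_spec e8Comm_15_35278 r (by omega) c14
  by_cases c15 : r < 35402
  · exact allRange_spec e8Comm_15_35340 r (by omega) c15
  by_cases c16 : r < 35464
  · exact allRange_spec e8Comm_15_35402 r (by omega) c16
  by_cases c17 : r < 35526
  · exact allRange_spec e8Comm_15_35464 r (by omega) c17
  by_cases c18 : r < 35588
  · exact allRange_spec e8Comm_15_35526 r (by omega) c18
  by_cases c19 : r < 35650
  · exact allRange_spec e8Comm_15_35588 r (by omega) c19
  by_cases c20 : r < 35712
  · exact allRange_spec e8Comm_15_35650 r (by omega) c20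
  by_cases c21 : r < 35774
  · exact allRange_spec e8Comm_15_35712 r (by omega) c21
  by_cases c22 : r < 35836
  · exact allRange_spec e8Comm_15_35774 r (by omega) c22
  by_cases c23 : r < 35898
  · exact allRange_spec e8Comm_15_35836 r (by omega) c23
  by_cases c24 : r < 35960
  · exact allRange_spec e8Comm_15_35898 r (by omega) c24
  by_cases c25 : r < 36022
  · exact allRange_spec e8Comm_15_35960 r (by omega) c25
  by_cases c26 : r < 36084
  · exact allRange_spec e8Comm_15_36022 r (by omega) c26
  by_cases c27 : r < 36146
  · exact allRange_spec e8Comm_15_36084 r (by omega) c27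
  by_cases c28 : r < 36208
  · exact allRange_spec e8Comm_15_36146 r (by omega) c28
  by_cases c29 : r < 36270
  · exact allRange_spec e8Comm_15_36208 r (by omega) c29
  by_cases c30 : r < 36332
  · exact allRange_spec e8Comm_15_36270 r (by omega) c30
  by_cases c31 : r < 36394
  · exact allRange_spec e8Comm_15_36332 r (by omega) c31
  by_cases c32 : r < 36456
  · exact allRange_spec e8Comm_15_36394 r (by omega) c32
  by_cases c33 : r < 36518
  · exact allRange_spec e8Comm_15_36456 r (by omega) c33
  by_cases c34 : r < 36580
  · exact allRange_spec e8Comm_15_36518 r (by omega) c34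
  by_cases c35 : r < 36642
  · exact allRange_spec e8Comm_15_36580 r (by omega) c35
  exact allRange_spec e8Comm_15_36642 r (by omega) h2

end Cfsg.Agent.Lib.Helper3.ChevM
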