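import Cfsg.Agent.Lib.Helper3.ChevData.E8Rel
import Cfsg.Agent.Lib.Helper3.ChevData.E8Wit
set_option autoImplicit false
set_option maxRecDepth 1000000
set_option Elab.async false

namespace Cfsg.Agent.Lib.Helper3.ChevM

theorem e8Comm_16_36704 : allRange 36704 36766 ((fun k => commOKk cdE8 reflE8 etaE8 witE8 (k / 240) (k % 240))) = true := by decide +kernel
theorem e8Comm_16_36766 : allRange 36766 36828 ((fun k => commOKk cdE8 reflE8 etaE8 witE8 (k / 240) (k % 240))) = true := by decide +kernel
theorem e8Comm_16_36828 : allRange 36828 36890 ((fun k => commOKk cdE8 reflE8 etaE8 witE8 (k / 240) (k % 240))) = true := by decide +kernel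
theorem e8Comm_16_36890 : allRange 36890 36952 ((fun k => commOKk cdE8 reflE8 etaE8 witE8 (k / 240) (k % 240))) = true := by decide +kernel
theorem e8Comm_16_36952 : allRange 36952 37014 ((fun k => commOKk cdE8 reflE8 etaE8 witE8 (k / 240) (k % 240))) = true := by decide +kernel
theorem e8Comm_16_37014 : allRange 37014 37076 ((fun k => commOKk cdE8 reflE8 etaE8 witE8 (k / 240) (k % 240))) = true := by decide +kernel
theorem e8Comm_16_37076 : allRange 37076 37138 ((fun k => commOKk cdE8 reflE8 etaE8 witE8 (k / 240) (k % 240))) = true := by decide +kernel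
theorem e8Comm_16_37138 : allRange 37138 37200 ((fun k => commOKk cdE8 reflE8 etaE8 witE8 (k / 240) (k % 240))) = true := by decide +kernel
theorem e8Comm_16_37200 : allRange 37200 37262 ((fun k => commOKk cdE8 reflE8 etaE8 witE8 (k / 240) (k % 240))) = true := by decide +kernel
theorem e8Comm_16_37262 : allRange 37262 37324 ((fun k => commOKk cdE8 reflE8 etaE8 witE8 (k / 240) (k % 240))) = true := by decide +kernel
theorem e8Comm_16_37324 : allRange 37324 37386 ((fun k => commOKk cdE8 reflE8 etaE8 witE8 (k / 240) (k % 240))) = true := by decide +kernel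
theorem e8Comm_16_37386 : allRange 37386 37448 ((fun k => commOKk cdE8 reflE8 etaE8 witE8 (k / 240) (k % 240))) = true := by decide +kernel
theorem e8Comm_16_37448 : allRange 37448 37510 ((fun k => commOKk cdE8 reflE8 etaE8 witE8 (k / 240) (k % 240))) = true := by decide +kernel
theorem e8Comm_16_37510 : allRange 37510 37572 ((fun k => commOKk cdE8 reflE8 etaE8 witE8 (k / 240) (k % 240))) = true := by decide +kernel
theorem e8Comm_16_37572 : allRange 37572 37634 ((fun k => commOKk cdE8 reflE8 etaE8 witE8 (k / 240) (k % 240))) = true := by decide +kernel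
theorem e8Comm_16_37634 : allRange 37634 37696 ((fun k => commOKk cdE8 reflE8 etaE8 witE8 (k / 240) (k % 240))) = true := by decide +kernel
theorem e8Comm_16_37696 : allRange 37696 37758 ((fun k => commOKk cdE8 reflE8 etaE8 witE8 (k / 240) (k % 240))) = true := by decide +kernel
theorem e8Comm_16_37758 : allRange 37758 37820 ((fun k => commOKk cdE8 reflE8 etaE8 witE8 (k / 240) (k % 240))) = true := by decide +kernel
theorem e8Comm_16_37820 : allRange 37820 37882 ((fun k => commOKk cdE8 reflE8 etaE8 witE8 (k / 240) (k % 240))) = true := by decide +kernel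
theorem e8Comm_16_37882 : allRange 37882 37944 ((fun k => commOKk cdE8 reflE8 etaE8 witE8 (k / 240) (k % 240))) = true := by decide +kernel
theorem e8Comm_16_37944 : allRange 37944 38006 ((fun k => commOKk cdE8 reflE8 etaE8 witE8 (k / 240) (k % 240))) = true := by decide +kernel
theorem e8Comm_16_38006 : allRange 38006 38068 ((fun k => commOKk cdE8 reflE8 etaE8 witE8 (k / 240) (k % 240))) = true := by decide +kernel
theorem e8Comm_16_38068 : allRange 38068 38130 ((fun k => commOKk cdE8 reflE8 etaE8 witE8 (k / 240) (k % 240))) = true := by decide +kernel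
theorem e8Comm_16_38130 : allRange 38130 38192 ((fun k => commOKk cdE8 reflE8 etaE8 witE8 (k / 240) (k % 240))) = true := by decide +kernel
theorem e8Comm_16_38192 : allRange 38192 38254 ((fun k => commOKk cdE8 reflE8 etaE8 witE8 (k / 240) (k % 240))) = true := by decide +kernel
theorem e8Comm_16_38254 : allRange 38254 38316 ((fun k => commOKk cdE8 reflE8 etaE8 witE8 (k / 240) (k % 240))) = true := by decide +kernel
theorem e8Comm_16_38316 : allRange 38316 38378 ((fun k => commOKk cdE8 reflE8 etaE8 witE8 (k / 240) (k % 240))) = true := by decide +kernel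
theorem e8Comm_16_38378 : allRange 38378 38440 ((fun k => commOKk cdE8 reflE8 etaE8 witE8 (k / 240) (k % 240))) = true := by decide +kernel
theorem e8Comm_16_38440 : allRange 38440 38502 ((fun k => commOKk cdE8 reflE8 etaE8 witE8 (k / 240) (k % 240))) = true := by decide +kernel
theorem e8Comm_16_38502 : allRange 38502 38564 ((fun k => commOKk cdE8 reflE8 etaE8 witE8 (k / 240) (k % 240))) = true := by decide +kernel
theorem e8Comm_16_38564 : allRange 38564 38626 ((fun k => commOKk cdE8 reflE8 etaE8 witE8 (k / 240) (k % 240))) = true := by decide +kernel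
theorem e8Comm_16_38626 : allRange 38626 38688 ((fun k => commOKk cdE8 reflE8 etaE8 witE8 (k / 240) (k % 240))) = true := by decide +kernel
theorem e8Comm_16_38688 : allRange 38688 38750 ((fun k => commOKk cdE8 reflE8 etaE8 witE8 (k / 240) (k % 240))) = true := by decide +kernel
theorem e8Comm_16_38750 : allRange 38750 38812 ((fun k => commOKk cdE8 reflE8 etaE8 witE8 (k / 240) (k % 240))) = true := by decide +kernel
theorem e8Comm_16_38812 : allRange 38812 38874 ((fun k => commOKk cdE8 reflE8 etaE8 witE8 (k / 240) (k % 240))) = true := by decide +kernel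
theorem e8Comm_16_38874 : allRange 38874 38936 ((fun k => commOKk cdE8 reflE8 etaE8 witE8 (k / 240) (k % 240))) = true := by decide +kernel
theorem e8Comm_16_38936 : allRange 38936 38998 ((fun k => commOKk cdE8 reflE8 etaE8 witE8 (k / 240) (k % 240))) = true := by decide +kernel

/-- Steps of the derivation of the commutator formula of type E8 (roots 36704 to 38997). -/
theorem e8Comm_16 : ∀ r, 36704 ≤ r → r < 38998 → ((fun k => commOKk cdE8 reflE8 etaE8 witE8 (k / 240) (k % 240))) r = true := by
  intro r h1 h2
  by_cases c0 : r < 36766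
  · exact allRange_spec e8Comm_16_36704 r (by omega) c0
  by_cases c1 : r < 36828
  · exact allRange_spec e8Comm_16_36766 r (by omega) c1
  by_cases c2 : r < 36890
  · exact allRange_spec e8Comm_16_36828 r (by omega) c2
  by_cases c3 : r < 36952
  · exact allRange_spec e8Comm_16_36890 r (by omega) c3
  by_cases c4 : r < 37014
  · exact allRange_spec e8Comm_16_36952 r (by omega) c4
  by_cases c5 : r < 37076
  · exact allRange_spec e8Comm_16_37014 r (by omega) c5
  by_cases c6 : r < 37138
  · exact allRange_spec e8Comm_16_37076 r (by omega) c6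
  by_cases c7 : r < 37200
  · exact allRange_spec e8Comm_16_37138 r (by omega) c7
  by_cases c8 : r < 37262
  · exact allRange_spec e8Comm_16_37200 r (by omega) c8
  by_cases c9 : r < 37324
  · exact allRange_spec e8Comm_16_37262 r (by omega) c9
  by_cases c10 : r < 37386
  · exact allRange_spec e8Comm_16_37324 r (by omega) c10
  by_cases c11 : r < 37448
  · exact allRange_spec e8Comm_16_37386 r (by omega) c11
  by_cases c12 : r < 37510
  · exact allRange_spec e8Comm_16_37448 r (by omega) c12
  by_cases c13 : r < 37572
  · exact allRange_spec e8Comm_16_37510 r (by omega) c13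
  by_cases c14 : r < 37634
  · exact allRange_spec e8Comm_16_37572 r (by omega) c14
  by_cases c15 : r < 37696
  · exact allRange_spec e8Comm_16_37634 r (by omega) c15
  by_cases c16 : r < 37758
  · exact allRange_spec e8Comm_16_37696 r (by omega) c16
  by_cases c17 : r < 37820
  · exact allRange_spec e8Comm_16_37758 r (by omega) c17
  by_cases c18 : r < 37882
  · exact allRange_spec e8Comm_16_37820 r (by omega) c18
  by_cases c19 : r < 37944
  · exact allRange_spec e8Comm_16_37882 r (by omega) c19
  by_cases c20 : r < 38006
  · exact allRange_spec e8Comm_16_37944 r (by omega) c20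
  by_cases c21 : r < 38068
  · exact allRange_spec e8Comm_16_38006 r (by omega) c21
  by_cases c22 : r < 38130
  · exact allRange_spec e8Comm_16_38068 r (by omega) c22
  by_cases c23 : r < 38192
  · exact allRange_spec e8Comm_16_38130 r (by omega) c23
  by_cases c24 : r < 38254
  · exact allRange_spec e8Comm_16_38192 r (by omega) c24
  by_cases c25 : r < 38316
  · exact allRange_spec e8Comm_16_38254 r (by omega) c25
  by_cases c26 : r < 38378
  · exact allRange_spec e8Comm_16_38316 r (by omega) c26
  by_cases c27 : r < 38440
  · exact allRange_spec e8Comm_16_38378 r (by omega) c27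
  by_cases c28 : r < 38502
  · exact allRange_spec e8Comm_16_38440 r (by omega) c28
  by_cases c29 : r < 38564
  · exact allRange_spec e8Comm_16_38502 r (by omega) c29
  by_cases c30 : r < 38626
  · exact allRange_spec e8Comm_16_38564 r (by omega) c30
  by_cases c31 : r < 38688
  · exact allRange_spec e8Comm_16_38626 r (by omega) c31
  by_cases c32 : r < 38750
  · exact allRange_spec e8Comm_16_38688 r (by omega) c32
  by_cases c33 : r < 38812
  · exact allRange_spec e8Comm_16_38750 r (by omega) c33
  by_cases c34 : r < 38874
  · exact allRange_spec e8Comm_16_38812 r (by omega) c34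
  by_cases c35 : r < 38936
  · exact allRange_spec e8Comm_16_38874 r (by omega) c35
  exact allRange_spec e8Comm_16_38936 r (by omega) h2

end Cfsg.Agent.Lib.Helper3.ChevM
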