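import Cfsg.Agent.Lib.Helper3.ChevData.E8Rel
import Cfsg.Agent.Lib.Helper3.ChevData.E8Wit
set_option autoImplicit false
set_option maxRecDepth 1000000
set_option Elab.async false

namespace Cfsg.Agent.Lib.Helper3.ChevM

theorem e8Comm_17_38998 : allRange 38998 39060 ((fun k => commOKk cdE8 reflE8 etaE8 witE8 (k / 240) (k % 240))) = true := by decide +kernel
theorem e8Comm_17_39060 : allRange 39060 39122 ((fun k => commOKk cdE8 reflE8 etaE8 witE8 (k / 240) (k % 240))) = true := by decide +kernel
theorem e8Comm_17_39122 : allRange 39122 39184 ((fun k => commOKk cdE8 reflE8 etaE8 witE8 (k / 240) (k % 240))) = true := by decide +kernel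
theorem e8Comm_17_39184 : allRange 39184 39246 ((fun k => commOKk cdE8 reflE8 etaE8 witE8 (k / 240) (k % 240))) = true := by decide +kernel
theorem e8Comm_17_39246 : allRange 39246 39308 ((fun k => commOKk cdE8 reflE8 etaE8 witE8 (k / 240) (k % 240))) = true := by decide +kernel
theorem e8Comm_17_39308 : allRange 39308 39370 ((fun k => commOKk cdE8 reflE8 etaE8 witE8 (k / 240) (k % 240))) = true := by decide +kernel
theorem e8Comm_17_39370 : allRange 39370 39432 ((fun k => commOKk cdE8 reflE8 etaE8 witE8 (k / 240) (k % 240))) = true := by decide +kernel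
theorem e8Comm_17_39432 : allRange 39432 39494 ((fun k => commOKk cdE8 reflE8 etaE8 witE8 (k / 240) (k % 240))) = true := by decide +kernel
theorem e8Comm_17_39494 : allRange 39494 39556 ((fun k => commOKk cdE8 reflE8 etaE8 witE8 (k / 240) (k % 240))) = true := by decide +kernel
theorem e8Comm_17_39556 : allRange 39556 39618 ((fun k => commOKk cdE8 reflE8 etaE8 witE8 (k / 240) (k % 240))) = true := by decide +kernel
theorem e8Comm_17_39618 : allRange 39618 39680 ((fun k => commOKk cdE8 reflE8 etaE8 witE8 (k / 240) (k % 240))) = true := by decide +kernel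
theorem e8Comm_17_39680 : allRange 39680 39742 ((fun k => commOKk cdE8 reflE8 etaE8 witE8 (k / 240) (k % 240))) = true := by decide +kernel
theorem e8Comm_17_39742 : allRange 39742 39804 ((fun k => commOKk cdE8 reflE8 etaE8 witE8 (k / 240) (k % 240))) = true := by decide +kernel
theorem e8Comm_17_39804 : allRange 39804 39866 ((fun k => commOKk cdE8 reflE8 etaE8 witE8 (k / 240) (k % 240))) = true := by decide +kernel
theorem e8Comm_17_39866 : allRange 39866 39928 ((fun k => commOKk cdE8 reflE8 etaE8 witE8 (k / 240) (k % 240))) = true := by decide +kernel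
theorem e8Comm_17_39928 : allRange 39928 39990 ((fun k => commOKk cdE8 reflE8 etaE8 witE8 (k / 240) (k % 240))) = true := by decide +kernel
theorem e8Comm_17_39990 : allRange 39990 40052 ((fun k => commOKk cdE8 reflE8 etaE8 witE8 (k / 240) (k % 240))) = true := by decide +kernel
theorem e8Comm_17_40052 : allRange 40052 40114 ((fun k => commOKk cdE8 reflE8 etaE8 witE8 (k / 240) (k % 240))) = true := by decide +kernel
theorem e8Comm_17_40114 : allRange 40114 40176 ((fun k => commOKk cdE8 reflE8 etaE8 witE8 (k / 240) (k % 240))) = true := by decide +kernel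
theorem e8Comm_17_40176 : allRange 40176 40238 ((fun k => commOKk cdE8 reflE8 etaE8 witE8 (k / 240) (k % 240))) = true := by decide +kernel
theorem e8Comm_17_40238 : allRange 40238 40300 ((fun k => commOKk cdE8 reflE8 etaE8 witE8 (k / 240) (k % 240))) = true := by decide +kernel
theorem e8Comm_17_40300 : allRange 40300 40362 ((fun k => commOKk cdE8 reflE8 etaE8 witE8 (k / 240) (k % 240))) = true := by decide +kernel
theorem e8Comm_17_40362 : allRange 40362 40424 ((fun k => commOKk cdE8 reflE8 etaE8 witE8 (k / 240) (k % 240))) = true := by decide +kernel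
theorem e8Comm_17_40424 : allRange 40424 40486 ((fun k => commOKk cdE8 reflE8 etaE8 witE8 (k / 240) (k % 240))) = true := by decide +kernel
theorem e8Comm_17_40486 : allRange 40486 40548 ((fun k => commOKk cdE8 reflE8 etaE8 witE8 (k / 240) (k % 240))) = true := by decide +kernel
theorem e8Comm_17_40548 : allRange 40548 40610 ((fun k => commOKk cdE8 reflE8 etaE8 witE8 (k / 240) (k % 240))) = true := by decide +kernel
theorem e8Comm_17_40610 : allRange 40610 40672 ((fun k => commOKk cdE8 reflE8 etaE8 witE8 (k / 240) (k % 240))) = true := by decide +kernel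
theorem e8Comm_17_40672 : allRange 40672 40734 ((fun k => commOKk cdE8 reflE8 etaE8 witE8 (k / 240) (k % 240))) = true := by decide +kernel
theorem e8Comm_17_40734 : allRange 40734 40796 ((fun k => commOKk cdE8 reflE8 etaE8 witE8 (k / 240) (k % 240))) = true := by decide +kernel
theorem e8Comm_17_40796 : allRange 40796 40858 ((fun k => commOKk cdE8 reflE8 etaE8 witE8 (k / 240) (k % 240))) = true := by decide +kernel
theorem e8Comm_17_40858 : allRange 40858 40920 ((fun k => commOKk cdE8 reflE8 etaE8 witE8 (k / 240) (k % 240))) = true := by decide +kernel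
theorem e8Comm_17_40920 : allRange 40920 40982 ((fun k => commOKk cdE8 reflE8 etaE8 witE8 (k / 240) (k % 240))) = true := by decide +kernel
theorem e8Comm_17_40982 : allRange 40982 41044 ((fun k => commOKk cdE8 reflE8 etaE8 witE8 (k / 240) (k % 240))) = true := by decide +kernel
theorem e8Comm_17_41044 : allRange 41044 41106 ((fun k => commOKk cdE8 reflE8 etaE8 witE8 (k / 240) (k % 240))) = true := by decide +kernel
theorem e8Comm_17_41106 : allRange 41106 41168 ((fun k => commOKk cdE8 reflE8 etaE8 witE8 (k / 240) (k % 240))) = true := by decide +kernel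
theorem e8Comm_17_41168 : allRange 41168 41230 ((fun k => commOKk cdE8 reflE8 etaE8 witE8 (k / 240) (k % 240))) = true := by decide +kernel
theorem e8Comm_17_41230 : allRange 41230 41292 ((fun k => commOKk cdE8 reflE8 etaE8 witE8 (k / 240) (k % 240))) = true := by decide +kernel

/-- Steps of the derivation of the commutator formula of type E8 (roots 38998 to 41291). -/
theorem e8Comm_17 : ∀ r, 38998 ≤ r → r < 41292 → ((fun k => commOKk cdE8 reflE8 etaE8 witE8 (k / 240) (k % 240))) r = true := by
  intro r h1 h2
  by_cases c0 : r < 39060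
  · exact allRange_spec e8Comm_17_38998 r (by omega) c0
  by_cases c1 : r < 39122
  · exact allRange_spec e8Comm_17_39060 r (by omega) c1
  by_cases c2 : r < 39184
  · exact allRange_spec e8Comm_17_39122 r (by omega) c2
  by_cases c3 : r < 39246
  · exact allRange_spec e8Comm_17_39184 r (by omega) c3
  by_cases c4 : r < 39308
  · exact allRange_spec e8Comm_17_39246 r (by omega) c4
  by_cases c5 : r < 39370
  · exact allRange_spec e8Comm_17_39308 r (by omega) c5
  by_cases c6 : r < 39432
  · exact allRange_spec e8Comm_17_39370 r (by omega) c6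
  by_cases c7 : r < 39494
  · exact allRange_spec e8Comm_17_39432 r (by omega) c7
  by_cases c8 : r < 39556
  · exact allRange_spec e8Comm_17_39494 r (by omega) c8
  by_cases c9 : r < 39618
  · exact allRange_spec e8Comm_17_39556 r (by omega) c9
  by_cases c10 : r < 39680
  · exact allRange_spec e8Comm_17_39618 r (by omega) c10
  by_cases c11 : r < 39742
  · exact allRange_spec e8Comm_17_39680 r (by omega) c11
  by_cases c12 : r < 39804
  · exact allRange_spec e8Comm_17_39742 r (by omega) c12
  by_cases c13 : r < 39866
  · exact allRange_spec e8Comm_17_39804 r (by omega) c13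
  by_cases c14 : r < 39928
  · exact allRange_spec e8Comm_17_39866 r (by omega) c14
  by_cases c15 : r < 39990
  · exact allRange_spec e8Comm_17_39928 r (by omega) c15
  by_cases c16 : r < 40052
  · exact allRange_spec e8Comm_17_39990 r (by omega) c16
  by_cases c17 : r < 40114
  · exact allRange_spec e8Comm_17_40052 r (by omega) c17
  by_cases c18 : r < 40176
  · exact allRange_spec e8Comm_17_40114 r (by omega) c18
  by_cases c19 : r < 40238
  · exact allRange_spec e8Comm_17_40176 r (by omega) c19
  by_cases c20 : r < 40300
  · exact allRange_spec e8Comm_17_40238 r (by omega) c20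
  by_cases c21 : r < 40362
  · exact allRange_spec e8Comm_17_40300 r (by omega) c21
  by_cases c22 : r < 40424
  · exact allRange_spec e8Comm_17_40362 r (by omega) c22
  by_cases c23 : r < 40486
  · exact allRange_spec e8Comm_17_40424 r (by omega) c23
  by_cases c24 : r < 40548
  · exact allRange_spec e8Comm_17_40486 r (by omega) c24
  by_cases c25 : r < 40610
  · exact allRange_spec e8Comm_17_40548 r (by omega) c25
  by_cases c26 : r < 40672
  · exact allRange_spec e8Comm_17_40610 r (by omega) c26
  by_cases c27 : r < 40734
  · exact allRange_spec e8Comm_17_40672 r (by omega) c27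
  by_cases c28 : r < 40796
  · exact allRange_spec e8Comm_17_40734 r (by omega) c28
  by_cases c29 : r < 40858
  · exact allRange_spec e8Comm_17_40796 r (by omega) c29
  by_cases c30 : r < 40920
  · exact allRange_spec e8Comm_17_40858 r (by omega) c30
  by_cases c31 : r < 40982
  · exact allRange_spec e8Comm_17_40920 r (by omega) c31
  by_cases c32 : r < 41044
  · exact allRange_spec e8Comm_17_40982 r (by omega) c32
  by_cases c33 : r < 41106
  · exact allRange_spec e8Comm_17_41044 r (by omega) c33
  by_cases c34 : r < 41168
  · exact allRange_spec e8Comm_17_41106 r (by omega) c34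
  by_cases c35 : r < 41230
  · exact allRange_spec e8Comm_17_41168 r (by omega) c35
  exact allRange_spec e8Comm_17_41230 r (by omega) h2

end Cfsg.Agent.Lib.Helper3.ChevM
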