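import Cfsg.Agent.Lib.Helper3.ChevData.E8Rel
import Cfsg.Agent.Lib.Helper3.ChevData.E8Wit
set_option autoImplicit false
set_option maxRecDepth 1000000
set_option Elab.async false

namespace Cfsg.Agent.Lib.Helper3.ChevM

theorem e8Comm_18_41292 : allRange 41292 41354 ((fun k => commOKk cdE8 reflE8 etaE8 witE8 (k / 240) (k % 240))) = true := by decide +kernel
theorem e8Comm_18_41354 : allRange 41354 41416 ((fun k => commOKk cdE8 reflE8 etaE8 witE8 (k / 240) (k % 240))) = true := by decide +kernel
theorem e8Comm_18_41416 : allRange 41416 41478 ((fun k => commOKk cdE8 reflE8 etaE8 witE8 (k / 240) (k % 240))) = true := by decide +kernel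
theorem e8Comm_18_41478 : allRange 41478 41540 ((fun k => commOKk cdE8 reflE8 etaE8 witE8 (k / 240) (k % 240))) = true := by decide +kernel
theorem e8Comm_18_41540 : allRange 41540 41602 ((fun k => commOKk cdE8 reflE8 etaE8 witE8 (k / 240) (k % 240))) = true := by decide +kernel
theorem e8Comm_18_41602 : allRange 41602 41664 ((fun k => commOKk cdE8 reflE8 etaE8 witE8 (k / 240) (k % 240))) = true := by decide +kernel
theorem e8Comm_18_41664 : allRange 41664 41726 ((fun k => commOKk cdE8 reflE8 etaE8 witE8 (k / 240) (k % 240))) = true := by decide +kernel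
theorem e8Comm_18_41726 : allRange 41726 41788 ((fun k => commOKk cdE8 reflE8 etaE8 witE8 (k / 240) (k % 240))) = true := by decide +kernel
theorem e8Comm_18_41788 : allRange 41788 41850 ((fun k => commOKk cdE8 reflE8 etaE8 witE8 (k / 240) (k % 240))) = true := by decide +kernel
theorem e8Comm_18_41850 : allRange 41850 41912 ((fun k => commOKk cdE8 reflE8 etaE8 witE8 (k / 240) (k % 240))) = true := by decide +kernel
theorem e8Comm_18_41912 : allRange 41912 41974 ((fun k => commOKk cdE8 reflE8 etaE8 witE8 (k / 240) (k % 240))) = true := by decide +kernel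
theorem e8Comm_18_41974 : allRange 41974 42036 ((fun k => commOKk cdE8 reflE8 etaE8 witE8 (k / 240) (k % 240))) = true := by decide +kernel
theorem e8Comm_18_42036 : allRange 42036 42098 ((fun k => commOKk cdE8 reflE8 etaE8 witE8 (k / 240) (k % 240))) = true := by decide +kernel
theorem e8Comm_18_42098 : allRange 42098 42160 ((fun k => commOKk cdE8 reflE8 etaE8 witE8 (k / 240) (k % 240))) = true := by decide +kernel
theorem e8Comm_18_42160 : allRange 42160 42222 ((fun k => commOKk cdE8 reflE8 etaE8 witE8 (k / 240) (k % 240))) = true := by decide +kernel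
theorem e8Comm_18_42222 : allRange 42222 42284 ((fun k => commOKk cdE8 reflE8 etaE8 witE8 (k / 240) (k % 240))) = true := by decide +kernel
theorem e8Comm_18_42284 : allRange 42284 42346 ((fun k => commOKk cdE8 reflE8 etaE8 witE8 (k / 240) (k % 240))) = true := by decide +kernel
theorem e8Comm_18_42346 : allRange 42346 42408 ((fun k => commOKk cdE8 reflE8 etaE8 witE8 (k / 240) (k % 240))) = true := by decide +kernel
theorem e8Comm_18_42408 : allRange 42408 42470 ((fun k => commOKk cdE8 reflE8 etaE8 witE8 (k / 240) (k % 240))) = true := by decide +kernel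
theorem e8Comm_18_42470 : allRange 42470 42532 ((fun k => commOKk cdE8 reflE8 etaE8 witE8 (k / 240) (k % 240))) = true := by decide +kernel
theorem e8Comm_18_42532 : allRange 42532 42594 ((fun k => commOKk cdE8 reflE8 etaE8 witE8 (k / 240) (k % 240))) = true := by decide +kernel
theorem e8Comm_18_42594 : allRange 42594 42656 ((fun k => commOKk cdE8 reflE8 etaE8 witE8 (k / 240) (k % 240))) = true := by decide +kernel
theorem e8Comm_18_42656 : allRange 42656 42718 ((fun k => commOKk cdE8 reflE8 etaE8 witE8 (k / 240) (k % 240))) = true := by decide +kernel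
theorem e8Comm_18_42718 : allRange 42718 42780 ((fun k => commOKk cdE8 reflE8 etaE8 witE8 (k / 240) (k % 240))) = true := by decide +kernel
theorem e8Comm_18_42780 : allRange 42780 42842 ((fun k => commOKk cdE8 reflE8 etaE8 witE8 (k / 240) (k % 240))) = true := by decide +kernel
theorem e8Comm_18_42842 : allRange 42842 42904 ((fun k => commOKk cdE8 reflE8 etaE8 witE8 (k / 240) (k % 240))) = true := by decide +kernel
theorem e8Comm_18_42904 : allRange 42904 42966 ((fun k => commOKk cdE8 reflE8 etaE8 witE8 (k / 240) (k % 240))) = true := by decide +kernel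
theorem e8Comm_18_42966 : allRange 42966 43028 ((fun k => commOKk cdE8 reflE8 etaE8 witE8 (k / 240) (k % 240))) = true := by decide +kernel
theorem e8Comm_18_43028 : allRange 43028 43090 ((fun k => commOKk cdE8 reflE8 etaE8 witE8 (k / 240) (k % 240))) = true := by decide +kernel
theorem e8Comm_18_43090 : allRange 43090 43152 ((fun k => commOKk cdE8 reflE8 etaE8 witE8 (k / 240) (k % 240))) = true := by decide +kernel
theorem e8Comm_18_43152 : allRange 43152 43214 ((fun k => commOKk cdE8 reflE8 etaE8 witE8 (k / 240) (k % 240))) = true := by decide +kernel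
theorem e8Comm_18_43214 : allRange 43214 43276 ((fun k => commOKk cdE8 reflE8 etaE8 witE8 (k / 240) (k % 240))) = true := by decide +kernel
theorem e8Comm_18_43276 : allRange 43276 43338 ((fun k => commOKk cdE8 reflE8 etaE8 witE8 (k / 240) (k % 240))) = true := by decide +kernel
theorem e8Comm_18_43338 : allRange 43338 43400 ((fun k => commOKk cdE8 reflE8 etaE8 witE8 (k / 240) (k % 240))) = true := by decide +kernel
theorem e8Comm_18_43400 : allRange 43400 43462 ((fun k => commOKk cdE8 reflE8 etaE8 witE8 (k / 240) (k % 240))) = true := by decide +kernel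
theorem e8Comm_18_43462 : allRange 43462 43524 ((fun k => commOKk cdE8 reflE8 etaE8 witE8 (k / 240) (k % 240))) = true := by decide +kernel
theorem e8Comm_18_43524 : allRange 43524 43586 ((fun k => commOKk cdE8 reflE8 etaE8 witE8 (k / 240) (k % 240))) = true := by decide +kernel

/-- Steps of the derivation of the commutator formula of type E8 (roots 41292 to 43585). -/
theorem e8Comm_18 : ∀ r, 41292 ≤ r → r < 43586 → ((fun k => commOKk cdE8 reflE8 etaE8 witE8 (k / 240) (k % 240))) r = true := by
  intro r h1 h2
  by_cases c0 : r < 41354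
  · exact allRange_spec e8Comm_18_41292 r (by omega) c0
  by_cases c1 : r < 41416
  · exact allRange_spec e8Comm_18_41354 r (by omega) c1
  by_cases c2 : r < 41478
  · exact allRange_spec e8Comm_18_41416 r (by omega) c2
  by_cases c3 : r < 41540
  · exact allRange_spec e8Comm_18_41478 r (by omega) c3
  by_cases c4 : r < 41602
  · exact allRange_spec e8Comm_18_41540 r (by omega) c4
  by_cases c5 : r < 41664
  · exact allRange_spec e8Comm_18_41602 r (by omega) c5
  by_cases c6 : r < 41726
  · exact allRange_spec e8Comm_18_41664 r (by omega) c6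
  by_cases c7 : r < 41788
  · exact allRange_spec e8Comm_18_41726 r (by omega) c7
  by_cases c8 : r < 41850
  · exact allRange_spec e8Comm_18_41788 r (by omega) c8
  by_cases c9 : r < 41912
  · exact allRange_spec e8Comm_18_41850 r (by omega) c9
  by_cases c10 : r < 41974
  · exact allRange_spec e8Comm_18_41912 r (by omega) c10
  by_cases c11 : r < 42036
  · exact allRange_spec e8Comm_18_41974 r (by omega) c11
  by_cases c12 : r < 42098
  · exact allRange_spec e8Comm_18_42036 r (by omega) c12
  by_cases c13 : r < 42160
  · exact allRange_spec e8Comm_18_42098 r (by omega) c13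
  by_cases c14 : r < 42222
  · exact allRange_spec e8Comm_18_42160 r (by omega) c14
  by_cases c15 : r < 42284
  · exact allRange_spec e8Comm_18_42222 r (by omega) c15
  by_cases c16 : r < 42346
  · exact allRange_spec e8Comm_18_42284 r (by omega) c16
  by_cases c17 : r < 42408
  · exact allRange_spec e8Comm_18_42346 r (by omega) c17
  by_cases c18 : r < 42470
  · exact allRange_spec e8Comm_18_42408 r (by omega) c18
  by_cases c19 : r < 42532
  · exact allRange_spec e8Comm_18_42470 r (by omega) c19
  by_cases c20 : r < 42594
  · exact allRange_spec e8Comm_18_42532 r (by omega) c20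
  by_cases c21 : r < 42656
  · exact allRange_spec e8Comm_18_42594 r (by omega) c21
  by_cases c22 : r < 42718
  · exact allRange_spec e8Comm_18_42656 r (by omega) c22
  by_cases c23 : r < 42780
  · exact allRange_spec e8Comm_18_42718 r (by omega) c23
  by_cases c24 : r < 42842
  · exact allRange_spec e8Comm_18_42780 r (by omega) c24
  by_cases c25 : r < 42904
  · exact allRange_spec e8Comm_18_42842 r (by omega) c25
  by_cases c26 : r < 42966
  · exact allRange_spec e8Comm_18_42904 r (by omega) c26
  by_cases c27 : r < 43028
  · exact allRange_spec e8Comm_18_42966 r (by omega) c27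
  by_cases c28 : r < 43090
  · exact allRange_spec e8Comm_18_43028 r (by omega) c28
  by_cases c29 : r < 43152
  · exact allRange_spec e8Comm_18_43090 r (by omega) c29
  by_cases c30 : r < 43214
  · exact allRange_spec e8Comm_18_43152 r (by omega) c30
  by_cases c31 : r < 43276
  · exact allRange_spec e8Comm_18_43214 r (by omega) c31
  by_cases c32 : r < 43338
  · exact allRange_spec e8Comm_18_43276 r (by omega) c32
  by_cases c33 : r < 43400
  · exact allRange_spec e8Comm_18_43338 r (by omega) c33
  by_cases c34 : r < 43462
  · exact allRange_spec e8Comm_18_43400 r (by omega) c34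
  by_cases c35 : r < 43524
  · exact allRange_spec e8Comm_18_43462 r (by omega) c35
  exact allRange_spec e8Comm_18_43524 r (by omega) h2

end Cfsg.Agent.Lib.Helper3.ChevM
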