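import Cfsg.Agent.Lib.Helper3.ChevData.E8Rel
import Cfsg.Agent.Lib.Helper3.ChevData.E8Wit
set_option autoImplicit false
set_option maxRecDepth 1000000
set_option Elab.async false

namespace Cfsg.Agent.Lib.Helper3.ChevM

theorem e8Comm_19_43586 : allRange 43586 43648 ((fun k => commOKk cdE8 reflE8 etaE8 witE8 (k / 240) (k % 240))) = true := by decide +kernel
theorem e8Comm_19_43648 : allRange 43648 43710 ((fun k => commOKk cdE8 reflE8 etaE8 witE8 (k / 240) (k % 240))) = true := by decide +kernel
theorem e8Comm_19_43710 : allRange 43710 43772 ((fun k => commOKk cdE8 reflE8 etaE8 witE8 (k / 240) (k % 240))) = true := by decide +kernel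
theorem e8Comm_19_43772 : allRange 43772 43834 ((fun k => commOKk cdE8 reflE8 etaE8 witE8 (k / 240) (k % 240))) = true := by decide +kernel
theorem e8Comm_19_43834 : allRange 43834 43896 ((fun k => commOKk cdE8 reflE8 etaE8 witE8 (k / 240) (k % 240))) = true := by decide +kernel
theorem e8Comm_19_43896 : allRange 43896 43958 ((fun k => commOKk cdE8 reflE8 etaE8 witE8 (k / 240) (k % 240))) = true := by decide +kernel
theorem e8Comm_19_43958 : allRange 43958 44020 ((fun k => commOKk cdE8 reflE8 etaE8 witE8 (k / 240) (k % 240))) = true := by decide +kernel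
theorem e8Comm_19_44020 : allRange 44020 44082 ((fun k => commOKk cdE8 reflE8 etaE8 witE8 (k / 240) (k % 240))) = true := by decide +kernel
theorem e8Comm_19_44082 : allRange 44082 44144 ((fun k => commOKk cdE8 reflE8 etaE8 witE8 (k / 240) (k % 240))) = true := by decide +kernel
theorem e8Comm_19_44144 : allRange 44144 44206 ((fun k => commOKk cdE8 reflE8 etaE8 witE8 (k / 240) (k % 240))) = true := by decide +kernel
theorem e8Comm_19_44206 : allRange 44206 44268 ((fun k => commOKk cdE8 reflE8 etaE8 witE8 (k / 240) (k % 240))) = true := by decide +kernel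
theorem e8Comm_19_44268 : allRange 44268 44330 ((fun k => commOKk cdE8 reflE8 etaE8 witE8 (k / 240) (k % 240))) = true := by decide +kernel
theorem e8Comm_19_44330 : allRange 44330 44392 ((fun k => commOKk cdE8 reflE8 etaE8 witE8 (k / 240) (k % 240))) = true := by decide +kernel
theorem e8Comm_19_44392 : allRange 44392 44454 ((fun k => commOKk cdE8 reflE8 etaE8 witE8 (k / 240) (k % 240))) = true := by decide +kernel
theorem e8Comm_19_44454 : allRange 44454 44516 ((fun k => commOKk cdE8 reflE8 etaE8 witE8 (k / 240) (k % 240))) = true := by decide +kernel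
theorem e8Comm_19_44516 : allRange 44516 44578 ((fun k => commOKk cdE8 reflE8 etaE8 witE8 (k / 240) (k % 240))) = true := by decide +kernel
theorem e8Comm_19_44578 : allRange 44578 44640 ((fun k => commOKk cdE8 reflE8 etaE8 witE8 (k / 240) (k % 240))) = true := by decide +kernel
theorem e8Comm_19_44640 : allRange 44640 44702 ((fun k => commOKk cdE8 reflE8 etaE8 witE8 (k / 240) (k % 240))) = true := by decide +kernel
theorem e8Comm_19_44702 : allRange 44702 44764 ((fun k => commOKk cdE8 reflE8 etaE8 witE8 (k / 240) (k % 240))) = true := by decide +kernel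
theorem e8Comm_19_44764 : allRange 44764 44826 ((fun k => commOKk cdE8 reflE8 etaE8 witE8 (k / 240) (k % 240))) = true := by decide +kernel
theorem e8Comm_19_44826 : allRange 44826 44888 ((fun k => commOKk cdE8 reflE8 etaE8 witE8 (k / 240) (k % 240))) = true := by decide +kernel
theorem e8Comm_19_44888 : allRange 44888 44950 ((fun k => commOKk cdE8 reflE8 etaE8 witE8 (k / 240) (k % 240))) = true := by decide +kernel
theorem e8Comm_19_44950 : allRange 44950 45012 ((fun k => commOKk cdE8 reflE8 etaE8 witE8 (k / 240) (k % 240))) = true := by decide +kernel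
theorem e8Comm_19_45012 : allRange 45012 45074 ((fun k => commOKk cdE8 reflE8 etaE8 witE8 (k / 240) (k % 240))) = true := by decide +kernel
theorem e8Comm_19_45074 : allRange 45074 45136 ((fun k => commOKk cdE8 reflE8 etaE8 witE8 (k / 240) (k % 240))) = true := by decide +kernel
theorem e8Comm_19_45136 : allRange 45136 45198 ((fun k => commOKk cdE8 reflE8 etaE8 witE8 (k / 240) (k % 240))) = true := by decide +kernel
theorem e8Comm_19_45198 : allRange 45198 45260 ((fun k => commOKk cdE8 reflE8 etaE8 witE8 (k / 240) (k % 240))) = true := by decide +kernel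
theorem e8Comm_19_45260 : allRange 45260 45322 ((fun k => commOKk cdE8 reflE8 etaE8 witE8 (k / 240) (k % 240))) = true := by decide +kernel
theorem e8Comm_19_45322 : allRange 45322 45384 ((fun k => commOKk cdE8 reflE8 etaE8 witE8 (k / 240) (k % 240))) = true := by decide +kernel
theorem e8Comm_19_45384 : allRange 45384 45446 ((fun k => commOKk cdE8 reflE8 etaE8 witE8 (k / 240) (k % 240))) = true := by decide +kernel
theorem e8Comm_19_45446 : allRange 45446 45508 ((fun k => commOKk cdE8 reflE8 etaE8 witE8 (k / 240) (k % 240))) = true := by decide +kernel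
theorem e8Comm_19_45508 : allRange 45508 45570 ((fun k => commOKk cdE8 reflE8 etaE8 witE8 (k / 240) (k % 240))) = true := by decide +kernel
theorem e8Comm_19_45570 : allRange 45570 45632 ((fun k => commOKk cdE8 reflE8 etaE8 witE8 (k / 240) (k % 240))) = true := by decide +kernel
theorem e8Comm_19_45632 : allRange 45632 45694 ((fun k => commOKk cdE8 reflE8 etaE8 witE8 (k / 240) (k % 240))) = true := by decide +kernel
theorem e8Comm_19_45694 : allRange 45694 45756 ((fun k => commOKk cdE8 reflE8 etaE8 witE8 (k / 240) (k % 240))) = true := by decide +kernel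
theorem e8Comm_19_45756 : allRange 45756 45818 ((fun k => commOKk cdE8 reflE8 etaE8 witE8 (k / 240) (k % 240))) = true := by decide +kernel
theorem e8Comm_19_45818 : allRange 45818 45880 ((fun k => commOKk cdE8 reflE8 etaE8 witE8 (k / 240) (k % 240))) = true := by decide +kernel

/-- Steps of the derivation of the commutator formula of type E8 (roots 43586 to 45879). -/
theorem e8Comm_19 : ∀ r, 43586 ≤ r → r < 45880 → ((fun k => commOKk cdE8 reflE8 etaE8 witE8 (k / 240) (k % 240))) r = true := by
  intro r h1 h2
  by_cases c0 : r < 43648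
  · exact allRange_spec e8Comm_19_43586 r (by omega) c0
  by_cases c1 : r < 43710
  · exact allRange_spec e8Comm_19_43648 r (by omega) c1
  by_cases c2 : r < 43772
  · exact allRange_spec e8Comm_19_43710 r (by omega) c2
  by_cases c3 : r < 43834
  · exact allRange_spec e8Comm_19_43772 r (by omega) c3
  by_cases c4 : r < 43896
  · exact allRange_spec e8Comm_19_43834 r (by omega) c4
  by_cases c5 : r < 43958
  · exact allRange_spec e8Comm_19_43896 r (by omega) c5
  by_cases c6 : r < 44020
  · exact allRange_spec e8Comm_19_43958 r (by omega) c6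
  by_cases c7 : r < 44082
  · exact allRange_spec e8Comm_19_44020 r (by omega) c7
  by_cases c8 : r < 44144
  · exact allRange_spec e8Comm_19_44082 r (by omega) c8
  by_cases c9 : r < 44206
  · exact allRange_spec e8Comm_19_44144 r (by omega) c9
  by_cases c10 : r < 44268
  · exact allRange_spec e8Comm_19_44206 r (by omega) c10
  by_cases c11 : r < 44330
  · exact allRange_spec e8Comm_19_44268 r (by omega) c11
  by_cases c12 : r < 44392
  · exact allRange_spec e8Comm_19_44330 r (by omega) c12
  by_cases c13 : r < 44454
  · exact allRange_spec e8Comm_19_44392 r (by omega) c13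
  by_cases c14 : r < 44516
  · exact allRange_spec e8Comm_19_44454 r (by omega) c14
  by_cases c15 : r < 44578
  · exact allRange_spec e8Comm_19_44516 r (by omega) c15
  by_cases c16 : r < 44640
  · exact allRange_spec e8Comm_19_44578 r (by omega) c16
  by_cases c17 : r < 44702
  · exact allRange_spec e8Comm_19_44640 r (by omega) c17
  by_cases c18 : r < 44764
  · exact allRange_spec e8Comm_19_44702 r (by omega) c18
  by_cases c19 : r < 44826
  · exact allRange_spec e8Comm_19_44764 r (by omega) c19
  by_cases c20 : r < 44888
  · exact allRange_spec e8Comm_19_44826 r (by omega) c20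
  by_cases c21 : r < 44950
  · exact allRange_spec e8Comm_19_44888 r (by omega) c21
  by_cases c22 : r < 45012
  · exact allRange_spec e8Comm_19_44950 r (by omega) c22
  by_cases c23 : r < 45074
  · exact allRange_spec e8Comm_19_45012 r (by omega) c23
  by_cases c24 : r < 45136
  · exact allRange_spec e8Comm_19_45074 r (by omega) c24
  by_cases c25 : r < 45198
  · exact allRange_spec e8Comm_19_45136 r (by omega) c25
  by_cases c26 : r < 45260
  · exact allRange_spec e8Comm_19_45198 r (by omega) c26
  by_cases c27 : r < 45322
  · exact allRange_spec e8Comm_19_45260 r (by omega) c27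
  by_cases c28 : r < 45384
  · exact allRange_spec e8Comm_19_45322 r (by omega) c28
  by_cases c29 : r < 45446
  · exact allRange_spec e8Comm_19_45384 r (by omega) c29
  by_cases c30 : r < 45508
  · exact allRange_spec e8Comm_19_45446 r (by omega) c30
  by_cases c31 : r < 45570
  · exact allRange_spec e8Comm_19_45508 r (by omega) c31
  by_cases c32 : r < 45632
  · exact allRange_spec e8Comm_19_45570 r (by omega) c32
  by_cases c33 : r < 45694
  · exact allRange_spec e8Comm_19_45632 r (by omega) c33
  by_cases c34 : r < 45756
  · exact allRange_spec e8Comm_19_45694 r (by omega) c34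
  by_cases c35 : r < 45818
  · exact allRange_spec e8Comm_19_45756 r (by omega) c35
  exact allRange_spec e8Comm_19_45818 r (by omega) h2

end Cfsg.Agent.Lib.Helper3.ChevM
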