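import Cfsg.Agent.Lib.Helper3.ChevData.E8Rel
import Cfsg.Agent.Lib.Helper3.ChevData.E8Wit
set_option autoImplicit false
set_option maxRecDepth 1000000
set_option Elab.async false

namespace Cfsg.Agent.Lib.Helper3.ChevM

theorem e8Comm_20_45880 : allRange 45880 45942 ((fun k => commOKk cdE8 reflE8 etaE8 witE8 (k / 240) (k % 240))) = true := by decide +kernel
theorem e8Comm_20_45942 : allRange 45942 46004 ((fun k => commOKk cdE8 reflE8 etaE8 witE8 (k / 240) (k % 240))) = true := by decide +kernel
theorem e8Comm_20_46004 : allRange 46004 46066 ((fun k => commOKk cdE8 reflE8 etaE8 witE8 (k / 240) (k % 240))) = true := by decide +kernel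
theorem e8Comm_20_46066 : allRange 46066 46128 ((fun k => commOKk cdE8 reflE8 etaE8 witE8 (k / 240) (k % 240))) = true := by decide +kernel
theorem e8Comm_20_46128 : allRange 46128 46190 ((fun k => commOKk cdE8 reflE8 etaE8 witE8 (k / 240) (k % 240))) = true := by decide +kernel
theorem e8Comm_20_46190 : allRange 46190 46252 ((fun k => commOKk cdE8 reflE8 etaE8 witE8 (k / 240) (k % 240))) = true := by decide +kernel
theorem e8Comm_20_46252 : allRange 46252 46314 ((fun k => commOKk cdE8 reflE8 etaE8 witE8 (k / 240) (k % 240))) = true := by decide +kernel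
theorem e8Comm_20_46314 : allRange 46314 46376 ((fun k => commOKk cdE8 reflE8 etaE8 witE8 (k / 240) (k % 240))) = true := by decide +kernel
theorem e8Comm_20_46376 : allRange 46376 46438 ((fun k => commOKk cdE8 reflE8 etaE8 witE8 (k / 240) (k % 240))) = true := by decide +kernel
theorem e8Comm_20_46438 : allRange 46438 46500 ((fun k => commOKk cdE8 reflE8 etaE8 witE8 (k / 240) (k % 240))) = true := by decide +kernel
theorem e8Comm_20_46500 : allRange 46500 46562 ((fun k => commOKk cdE8 reflE8 etaE8 witE8 (k / 240) (k % 240))) = true := by decide +kernel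
theorem e8Comm_20_46562 : allRange 46562 46624 ((fun k => commOKk cdE8 reflE8 etaE8 witE8 (k / 240) (k % 240))) = true := by decide +kernel
theorem e8Comm_20_46624 : allRange 46624 46686 ((fun k => commOKk cdE8 reflE8 etaE8 witE8 (k / 240) (k % 240))) = true := by decide +kernel
theorem e8Comm_20_46686 : allRange 46686 46748 ((fun k => commOKk cdE8 reflE8 etaE8 witE8 (k / 240) (k % 240))) = true := by decide +kernel
theorem e8Comm_20_46748 : allRange 46748 46810 ((fun k => commOKk cdE8 reflE8 etaE8 witE8 (k / 240) (k % 240))) = true := by decide +kernel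
theorem e8Comm_20_46810 : allRange 46810 46872 ((fun k => commOKk cdE8 reflE8 etaE8 witE8 (k / 240) (k % 240))) = true := by decide +kernel
theorem e8Comm_20_46872 : allRange 46872 46934 ((fun k => commOKk cdE8 reflE8 etaE8 witE8 (k / 240) (k % 240))) = true := by decide +kernel
theorem e8Comm_20_46934 : allRange 46934 46996 ((fun k => commOKk cdE8 reflE8 etaE8 witE8 (k / 240) (k % 240))) = true := by decide +kernel
theorem e8Comm_20_46996 : allRange 46996 47058 ((fun k => commOKk cdE8 reflE8 etaE8 witE8 (k / 240) (k % 240))) = true := by decide +kernel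
theorem e8Comm_20_47058 : allRange 47058 47120 ((fun k => commOKk cdE8 reflE8 etaE8 witE8 (k / 240) (k % 240))) = true := by decide +kernel
theorem e8Comm_20_47120 : allRange 47120 47182 ((fun k => commOKk cdE8 reflE8 etaE8 witE8 (k / 240) (k % 240))) = true := by decide +kernel
theorem e8Comm_20_47182 : allRange 47182 47244 ((fun k => commOKk cdE8 reflE8 etaE8 witE8 (k / 240) (k % 240))) = true := by decide +kernel
theorem e8Comm_20_47244 : allRange 47244 47306 ((fun k => commOKk cdE8 reflE8 etaE8 witE8 (k / 240) (k % 240))) = true := by decide +kernel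
theorem e8Comm_20_47306 : allRange 47306 47368 ((fun k => commOKk cdE8 reflE8 etaE8 witE8 (k / 240) (k % 240))) = true := by decide +kernel
theorem e8Comm_20_47368 : allRange 47368 47430 ((fun k => commOKk cdE8 reflE8 etaE8 witE8 (k / 240) (k % 240))) = true := by decide +kernel
theorem e8Comm_20_47430 : allRange 47430 47492 ((fun k => commOKk cdE8 reflE8 etaE8 witE8 (k / 240) (k % 240))) = true := by decide +kernel
theorem e8Comm_20_47492 : allRange 47492 47554 ((fun k => commOKk cdE8 reflE8 etaE8 witE8 (k / 240) (k % 240))) = true := by decide +kernel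
theorem e8Comm_20_47554 : allRange 47554 47616 ((fun k => commOKk cdE8 reflE8 etaE8 witE8 (k / 240) (k % 240))) = true := by decide +kernel
theorem e8Comm_20_47616 : allRange 47616 47678 ((fun k => commOKk cdE8 reflE8 etaE8 witE8 (k / 240) (k % 240))) = true := by decide +kernel
theorem e8Comm_20_47678 : allRange 47678 47740 ((fun k => commOKk cdE8 reflE8 etaE8 witE8 (k / 240) (k % 240))) = true := by decide +kernel
theorem e8Comm_20_47740 : allRange 47740 47802 ((fun k => commOKk cdE8 reflE8 etaE8 witE8 (k / 240) (k % 240))) = true := by decide +kernel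
theorem e8Comm_20_47802 : allRange 47802 47864 ((fun k => commOKk cdE8 reflE8 etaE8 witE8 (k / 240) (k % 240))) = true := by decide +kernel
theorem e8Comm_20_47864 : allRange 47864 47926 ((fun k => commOKk cdE8 reflE8 etaE8 witE8 (k / 240) (k % 240))) = true := by decide +kernel
theorem e8Comm_20_47926 : allRange 47926 47988 ((fun k => commOKk cdE8 reflE8 etaE8 witE8 (k / 240) (k % 240))) = true := by decide +kernel
theorem e8Comm_20_47988 : allRange 47988 48050 ((fun k => commOKk cdE8 reflE8 etaE8 witE8 (k / 240) (k % 240))) = true := by decide +kernel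
theorem e8Comm_20_48050 : allRange 48050 48112 ((fun k => commOKk cdE8 reflE8 etaE8 witE8 (k / 240) (k % 240))) = true := by decide +kernel
theorem e8Comm_20_48112 : allRange 48112 48174 ((fun k => commOKk cdE8 reflE8 etaE8 witE8 (k / 240) (k % 240))) = true := by decide +kernel

/-- Steps of the derivation of the commutator formula of type E8 (roots 45880 to 48173). -/
theorem e8Comm_20 : ∀ r, 45880 ≤ r → r < 48174 → ((fun k => commOKk cdE8 reflE8 etaE8 witE8 (k / 240) (k % 240))) r = true := by
  intro r h1 h2
  by_cases c0 : r < 45942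
  · exact allRange_spec e8Comm_20_45880 r (by omega) c0
  by_cases c1 : r < 46004
  · exact allRange_spec e8Comm_20_45942 r (by omega) c1
  by_cases c2 : r < 46066
  · exact allRange_spec e8Comm_20_46004 r (by omega) c2
  by_cases c3 : r < 46128
  · exact allRange_spec e8Comm_20_46066 r (by omega) c3
  by_cases c4 : r < 46190
  · exact allRange_spec e8Comm_20_46128 r (by omega) c4
  by_cases c5 : r < 46252
  · exact allRange_spec e8Comm_20_46190 r (by omega) c5
  by_cases c6 : r < 46314
  · exact allRange_spec e8Comm_20_46252 r (by omega) c6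
  by_cases c7 : r < 46376
  · exact allRange_spec e8Comm_20_46314 r (by omega) c7
  by_cases c8 : r < 46438
  · exact allRange_spec e8Comm_20_46376 r (by omega) c8
  by_cases c9 : r < 46500
  · exact allRange_spec e8Comm_20_46438 r (by omega) c9
  by_cases c10 : r < 46562
  · exact allRange_spec e8Comm_20_46500 r (by omega) c10
  by_cases c11 : r < 46624
  · exact allRange_spec e8Comm_20_46562 r (by omega) c11
  by_cases c12 : r < 46686
  · exact allRange_spec e8Comm_20_46624 r (by omega) c12
  by_cases c13 : r < 46748
  · exact allRange_spec e8Comm_20_46686 r (by omega) c13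
  by_cases c14 : r < 46810
  · exact allRange_spec e8Comm_20_46748 r (by omega) c14
  by_cases c15 : r < 46872
  · exact allRange_spec e8Comm_20_46810 r (by omega) c15
  by_cases c16 : r < 46934
  · exact allRange_spec e8Comm_20_46872 r (by omega) c16
  by_cases c17 : r < 46996
  · exact allRange_spec e8Comm_20_46934 r (by omega) c17
  by_cases c18 : r < 47058
  · exact allRange_spec e8Comm_20_46996 r (by omega) c18
  by_cases c19 : r < 47120
  · exact allRange_spec e8Comm_20_47058 r (by omega) c19
  by_cases c20 : r < 47182
  · exact allRange_spec e8Comm_20_47120 r (by omega) c20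
  by_cases c21 : r < 47244
  · exact allRange_spec e8Comm_20_47182 r (by omega) c21
  by_cases c22 : r < 47306
  · exact allRange_spec e8Comm_20_47244 r (by omega) c22
  by_cases c23 : r < 47368
  · exact allRange_spec e8Comm_20_47306 r (by omega) c23
  by_cases c24 : r < 47430
  · exact allRange_spec e8Comm_20_47368 r (by omega) c24
  by_cases c25 : r < 47492
  · exact allRange_spec e8Comm_20_47430 r (by omega) c25
  by_cases c26 : r < 47554
  · exact allRange_spec e8Comm_20_47492 r (by omega) c26
  by_cases c27 : r < 47616
  · exact allRange_spec e8Comm_20_47554 r (by omega) c27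
  by_cases c28 : r < 47678
  · exact allRange_spec e8Comm_20_47616 r (by omega) c28
  by_cases c29 : r < 47740
  · exact allRange_spec e8Comm_20_47678 r (by omega) c29
  by_cases c30 : r < 47802
  · exact allRange_spec e8Comm_20_47740 r (by omega) c30
  by_cases c31 : r < 47864
  · exact allRange_spec e8Comm_20_47802 r (by omega) c31
  by_cases c32 : r < 47926
  · exact allRange_spec e8Comm_20_47864 r (by omega) c32
  by_cases c33 : r < 47988
  · exact allRange_spec e8Comm_20_47926 r (by omega) c33
  by_cases c34 : r < 48050
  · exact allRange_spec e8Comm_20_47988 r (by omega) c34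
  by_cases c35 : r < 48112
  · exact allRange_spec e8Comm_20_48050 r (by omega) c35
  exact allRange_spec e8Comm_20_48112 r (by omega) h2

end Cfsg.Agent.Lib.Helper3.ChevM
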