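import Cfsg.Agent.Lib.Helper3.ChevData.E8Rel
import Cfsg.Agent.Lib.Helper3.ChevData.E8Wit
set_option autoImplicit false
set_option maxRecDepth 1000000
set_option Elab.async false

namespace Cfsg.Agent.Lib.Helper3.ChevM

theorem e8Comm_22_50468 : allRange 50468 50530 ((fun k => commOKk cdE8 reflE8 etaE8 witE8 (k / 240) (k % 240))) = true := by decide +kernel
theorem e8Comm_22_50530 : allRange 50530 50592 ((fun k => commOKk cdE8 reflE8 etaE8 witE8 (k / 240) (k % 240))) = true := by decide +kernel
theorem e8Comm_22_50592 : allRange 50592 50654 ((fun k => commOKk cdE8 reflE8 etaE8 witE8 (k / 240) (k % 240))) = true := by decide +kernel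
theorem e8Comm_22_50654 : allRange 50654 50716 ((fun k => commOKk cdE8 reflE8 etaE8 witE8 (k / 240) (k % 240))) = true := by decide +kernel
theorem e8Comm_22_50716 : allRange 50716 50778 ((fun k => commOKk cdE8 reflE8 etaE8 witE8 (k / 240) (k % 240))) = true := by decide +kernel
theorem e8Comm_22_50778 : allRange 50778 50840 ((fun k => commOKk cdE8 reflE8 etaE8 witE8 (k / 240) (k % 240))) = true := by decide +kernel
theorem e8Comm_22_50840 : allRange 50840 50902 ((fun k => commOKk cdE8 reflE8 etaE8 witE8 (k / 240) (k % 240))) = true := by decide +kernel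
theorem e8Comm_22_50902 : allRange 50902 50964 ((fun k => commOKk cdE8 reflE8 etaE8 witE8 (k / 240) (k % 240))) = true := by decide +kernel
theorem e8Comm_22_50964 : allRange 50964 51026 ((fun k => commOKk cdE8 reflE8 etaE8 witE8 (k / 240) (k % 240))) = true := by decide +kernel
theorem e8Comm_22_51026 : allRange 51026 51088 ((fun k => commOKk cdE8 reflE8 etaE8 witE8 (k / 240) (k % 240))) = true := by decide +kernel
theorem e8Comm_22_51088 : allRange 51088 51150 ((fun k => commOKk cdE8 reflE8 etaE8 witE8 (k / 240) (k % 240))) = true := by decide +kernel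
theorem e8Comm_22_51150 : allRange 51150 51212 ((fun k => commOKk cdE8 reflE8 etaE8 witE8 (k / 240) (k % 240))) = true := by decide +kernel
theorem e8Comm_22_51212 : allRange 51212 51274 ((fun k => commOKk cdE8 reflE8 etaE8 witE8 (k / 240) (k % 240))) = true := by decide +kernel
theorem e8Comm_22_51274 : allRange 51274 51336 ((fun k => commOKk cdE8 reflE8 etaE8 witE8 (k / 240) (k % 240))) = true := by decide +kernel
theorem e8Comm_22_51336 : allRange 51336 51398 ((fun k => commOKk cdE8 reflE8 etaE8 witE8 (k / 240) (k % 240))) = true := by decide +kernel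
theorem e8Comm_22_51398 : allRange 51398 51460 ((fun k => commOKk cdE8 reflE8 etaE8 witE8 (k / 240) (k % 240))) = true := by decide +kernel
theorem e8Comm_22_51460 : allRange 51460 51522 ((fun k => commOKk cdE8 reflE8 etaE8 witE8 (k / 240) (k % 240))) = true := by decide +kernel
theorem e8Comm_22_51522 : allRange 51522 51584 ((fun k => commOKk cdE8 reflE8 etaE8 witE8 (k / 240) (k % 240))) = true := by decide +kernel
theorem e8Comm_22_51584 : allRange 51584 51646 ((fun k => commOKk cdE8 reflE8 etaE8 witE8 (k / 240) (k % 240))) = true := by decide +kernel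
theorem e8Comm_22_51646 : allRange 51646 51708 ((fun k => commOKk cdE8 reflE8 etaE8 witE8 (k / 240) (k % 240))) = true := by decide +kernel
theorem e8Comm_22_51708 : allRange 51708 51770 ((fun k => commOKk cdE8 reflE8 etaE8 witE8 (k / 240) (k % 240))) = true := by decide +kernel
theorem e8Comm_22_51770 : allRange 51770 51832 ((fun k => commOKk cdE8 reflE8 etaE8 witE8 (k / 240) (k % 240))) = true := by decide +kernel
theorem e8Comm_22_51832 : allRange 51832 51894 ((fun k => commOKk cdE8 reflE8 etaE8 witE8 (k / 240) (k % 240))) = true := by decide +kernel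
theorem e8Comm_22_51894 : allRange 51894 51956 ((fun k => commOKk cdE8 reflE8 etaE8 witE8 (k / 240) (k % 240))) = true := by decide +kernel
theorem e8Comm_22_51956 : allRange 51956 52018 ((fun k => commOKk cdE8 reflE8 etaE8 witE8 (k / 240) (k % 240))) = true := by decide +kernel
theorem e8Comm_22_52018 : allRange 52018 52080 ((fun k => commOKk cdE8 reflE8 etaE8 witE8 (k / 240) (k % 240))) = true := by decide +kernel
theorem e8Comm_22_52080 : allRange 52080 52142 ((fun k => commOKk cdE8 reflE8 etaE8 witE8 (k / 240) (k % 240))) = true := by decide +kernel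
theorem e8Comm_22_52142 : allRange 52142 52204 ((fun k => commOKk cdE8 reflE8 etaE8 witE8 (k / 240) (k % 240))) = true := by decide +kernel
theorem e8Comm_22_52204 : allRange 52204 52266 ((fun k => commOKk cdE8 reflE8 etaE8 witE8 (k / 240) (k % 240))) = true := by decide +kernel
theorem e8Comm_22_52266 : allRange 52266 52328 ((fun k => commOKk cdE8 reflE8 etaE8 witE8 (k / 240) (k % 240))) = true := by decide +kernel
theorem e8Comm_22_52328 : allRange 52328 52390 ((fun k => commOKk cdE8 reflE8 etaE8 witE8 (k / 240) (k % 240))) = true := by decide +kernel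
theorem e8Comm_22_52390 : allRange 52390 52452 ((fun k => commOKk cdE8 reflE8 etaE8 witE8 (k / 240) (k % 240))) = true := by decide +kernel
theorem e8Comm_22_52452 : allRange 52452 52514 ((fun k => commOKk cdE8 reflE8 etaE8 witE8 (k / 240) (k % 240))) = true := by decide +kernel
theorem e8Comm_22_52514 : allRange 52514 52576 ((fun k => commOKk cdE8 reflE8 etaE8 witE8 (k / 240) (k % 240))) = true := by decide +kernel
theorem e8Comm_22_52576 : allRange 52576 52638 ((fun k => commOKk cdE8 reflE8 etaE8 witE8 (k / 240) (k % 240))) = true := by decide +kernel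
theorem e8Comm_22_52638 : allRange 52638 52700 ((fun k => commOKk cdE8 reflE8 etaE8 witE8 (k / 240) (k % 240))) = true := by decide +kernel
theorem e8Comm_22_52700 : allRange 52700 52762 ((fun k => commOKk cdE8 reflE8 etaE8 witE8 (k / 240) (k % 240))) = true := by decide +kernel

/-- Steps of the derivation of the commutator formula of type E8 (roots 50468 to 52761). -/
theorem e8Comm_22 : ∀ r, 50468 ≤ r → r < 52762 → ((fun k => commOKk cdE8 reflE8 etaE8 witE8 (k / 240) (k % 240))) r = true := by
  intro r h1 h2
  by_cases c0 : r < 50530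
  · exact allRange_spec e8Comm_22_50468 r (by omega) c0
  by_cases c1 : r < 50592
  · exact allRange_spec e8Comm_22_50530 r (by omega) c1
  by_cases c2 : r < 50654
  · exact allRange_spec e8Comm_22_50592 r (by omega) c2
  by_cases c3 : r < 50716
  · exact allRange_spec e8Comm_22_50654 r (by omega) c3
  by_cases c4 : r < 50778
  · exact allRange_spec e8Comm_22_50716 r (by omega) c4
  by_cases c5 : r < 50840
  · exact allRange_spec e8Comm_22_50778 r (by omega) c5
  by_cases c6 : r < 50902
  · exact allRange_spec e8Comm_22_50840 r (by omega) c6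
  by_cases c7 : r < 50964
  · exact allRange_spec e8Comm_22_50902 r (by omega) c7
  by_cases c8 : r < 51026
  · exact allRange_spec e8Comm_22_50964 r (by omega) c8
  by_cases c9 : r < 51088
  · exact allRange_spec e8Comm_22_51026 r (by omega) c9
  by_cases c10 : r < 51150
  · exact allRange_spec e8Comm_22_51088 r (by omega) c10
  by_cases c11 : r < 51212
  · exact allRange_spec e8Comm_22_51150 r (by omega) c11
  by_cases c12 : r < 51274
  · exact allRange_spec e8Comm_22_51212 r (by omega) c12
  by_cases c13 : r < 51336
  · exact allRange_spec e8Comm_22_51274 r (by omega) c13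
  by_cases c14 : r < 51398
  · exact allRange_spec e8Comm_22_51336 r (by omega) c14
  by_cases c15 : r < 51460
  · exact allRange_spec e8Comm_22_51398 r (by omega) c15
  by_cases c16 : r < 51522
  · exact allRange_spec e8Comm_22_51460 r (by omega) c16
  by_cases c17 : r < 51584
  · exact allRange_spec e8Comm_22_51522 r (by omega) c17
  by_cases c18 : r < 51646
  · exact allRange_spec e8Comm_22_51584 r (by omega) c18
  by_cases c19 : r < 51708
  · exact allRange_spec e8Comm_22_51646 r (by omega) c19
  by_cases c20 : r < 51770
  · exact allRange_spec e8Comm_22_51708 r (by omega) c20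
  by_cases c21 : r < 51832
  · exact allRange_spec e8Comm_22_51770 r (by omega) c21
  by_cases c22 : r < 51894
  · exact allRange_spec e8Comm_22_51832 r (by omega) c22
  by_cases c23 : r < 51956
  · exact allRange_spec e8Comm_22_51894 r (by omega) c23
  by_cases c24 : r < 52018
  · exact allRange_spec e8Comm_22_51956 r (by omega) c24
  by_cases c25 : r < 52080
  · exact allRange_spec e8Comm_22_52018 r (by omega) c25
  by_cases c26 : r < 52142
  · exact allRange_spec e8Comm_22_52080 r (by omega) c26
  by_cases c27 : r < 52204
  · exact allRange_spec e8Comm_22_52142 r (by omega) c27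
  by_cases c28 : r < 52266
  · exact allRange_spec e8Comm_22_52204 r (by omega) c28
  by_cases c29 : r < 52328
  · exact allRange_spec e8Comm_22_52266 r (by omega) c29
  by_cases c30 : r < 52390
  · exact allRange_spec e8Comm_22_52328 r (by omega) c30
  by_cases c31 : r < 52452
  · exact allRange_spec e8Comm_22_52390 r (by omega) c31
  by_cases c32 : r < 52514
  · exact allRange_spec e8Comm_22_52452 r (by omega) c32
  by_cases c33 : r < 52576
  · exact allRange_spec e8Comm_22_52514 r (by omega) c33
  by_cases c34 : r < 52638
  · exact allRange_spec e8Comm_22_52576 r (by omega) c34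
  by_cases c35 : r < 52700
  · exact allRange_spec e8Comm_22_52638 r (by omega) c35
  exact allRange_spec e8Comm_22_52700 r (by omega) h2

end Cfsg.Agent.Lib.Helper3.ChevM
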