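import Cfsg.Agent.Lib.Helper3.ChevData.E8Rel
import Cfsg.Agent.Lib.Helper3.ChevData.E8Wit
set_option autoImplicit false
set_option maxRecDepth 1000000
set_option Elab.async false

namespace Cfsg.Agent.Lib.Helper3.ChevM

theorem e8Comm_23_52762 : allRange 52762 52824 ((fun k => commOKk cdE8 reflE8 etaE8 witE8 (k / 240) (k % 240))) = true := by decide +kernel
theorem e8Comm_23_52824 : allRange 52824 52886 ((fun k => commOKk cdE8 reflE8 etaE8 witE8 (k / 240) (k % 240))) = true := by decide +kernel
theorem e8Comm_23_52886 : allRange 52886 52948 ((fun k => commOKk cdE8 reflE8 etaE8 witE8 (k / 240) (k % 240))) = true := by decide +kernel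
theorem e8Comm_23_52948 : allRange 52948 53010 ((fun k => commOKk cdE8 reflE8 etaE8 witE8 (k / 240) (k % 240))) = true := by decide +kernel
theorem e8Comm_23_53010 : allRange 53010 53072 ((fun k => commOKk cdE8 reflE8 etaE8 witE8 (k / 240) (k % 240))) = true := by decide +kernel
theorem e8Comm_23_53072 : allRange 53072 53134 ((fun k => commOKk cdE8 reflE8 etaE8 witE8 (k / 240) (k % 240))) = true := by decide +kernel
theorem e8Comm_23_53134 : allRange 53134 53196 ((fun k => commOKk cdE8 reflE8 etaE8 witE8 (k / 240) (k % 240))) = true := by decide +kernel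
theorem e8Comm_23_53196 : allRange 53196 53258 ((fun k => commOKk cdE8 reflE8 etaE8 witE8 (k / 240) (k % 240))) = true := by decide +kernel
theorem e8Comm_23_53258 : allRange 53258 53320 ((fun k => commOKk cdE8 reflE8 etaE8 witE8 (k / 240) (k % 240))) = true := by decide +kernel
theorem e8Comm_23_53320 : allRange 53320 53382 ((fun k => commOKk cdE8 reflE8 etaE8 witE8 (k / 240) (k % 240))) = true := by decide +kernel
theorem e8Comm_23_53382 : allRange 53382 53444 ((fun k => commOKk cdE8 reflE8 etaE8 witE8 (k / 240) (k % 240))) = true := by decide +kernel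
theorem e8Comm_23_53444 : allRange 53444 53506 ((fun k => commOKk cdE8 reflE8 etaE8 witE8 (k / 240) (k % 240))) = true := by decide +kernel
theorem e8Comm_23_53506 : allRange 53506 53568 ((fun k => commOKk cdE8 reflE8 etaE8 witE8 (k / 240) (k % 240))) = true := by decide +kernel
theorem e8Comm_23_53568 : allRange 53568 53630 ((fun k => commOKk cdE8 reflE8 etaE8 witE8 (k / 240) (k % 240))) = true := by decide +kernel
theorem e8Comm_23_53630 : allRange 53630 53692 ((fun k => commOKk cdE8 reflE8 etaE8 witE8 (k / 240) (k % 240))) = true := by decide +kernel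
theorem e8Comm_23_53692 : allRange 53692 53754 ((fun k => commOKk cdE8 reflE8 etaE8 witE8 (k / 240) (k % 240))) = true := by decide +kernel
theorem e8Comm_23_53754 : allRange 53754 53816 ((fun k => commOKk cdE8 reflE8 etaE8 witE8 (k / 240) (k % 240))) = true := by decide +kernel
theorem e8Comm_23_53816 : allRange 53816 53878 ((fun k => commOKk cdE8 reflE8 etaE8 witE8 (k / 240) (k % 240))) = true := by decide +kernel
theorem e8Comm_23_53878 : allRange 53878 53940 ((fun k => commOKk cdE8 reflE8 etaE8 witE8 (k / 240) (k % 240))) = true := by decide +kernel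
theorem e8Comm_23_53940 : allRange 53940 54002 ((fun k => commOKk cdE8 reflE8 etaE8 witE8 (k / 240) (k % 240))) = true := by decide +kernel
theorem e8Comm_23_54002 : allRange 54002 54064 ((fun k => commOKk cdE8 reflE8 etaE8 witE8 (k / 240) (k % 240))) = true := by decide +kernel
theorem e8Comm_23_54064 : allRange 54064 54126 ((fun k => commOKk cdE8 reflE8 etaE8 witE8 (k / 240) (k % 240))) = true := by decide +kernel
theorem e8Comm_23_54126 : allRange 54126 54188 ((fun k => commOKk cdE8 reflE8 etaE8 witE8 (k / 240) (k % 240))) = true := by decide +kernel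
theorem e8Comm_23_54188 : allRange 54188 54250 ((fun k => commOKk cdE8 reflE8 etaE8 witE8 (k / 240) (k % 240))) = true := by decide +kernel
theorem e8Comm_23_54250 : allRange 54250 54312 ((fun k => commOKk cdE8 reflE8 etaE8 witE8 (k / 240) (k % 240))) = true := by decide +kernel
theorem e8Comm_23_54312 : allRange 54312 54374 ((fun k => commOKk cdE8 reflE8 etaE8 witE8 (k / 240) (k % 240))) = true := by decide +kernel
theorem e8Comm_23_54374 : allRange 54374 54436 ((fun k => commOKk cdE8 reflE8 etaE8 witE8 (k / 240) (k % 240))) = true := by decide +kernel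
theorem e8Comm_23_54436 : allRange 54436 54498 ((fun k => commOKk cdE8 reflE8 etaE8 witE8 (k / 240) (k % 240))) = true := by decide +kernel
theorem e8Comm_23_54498 : allRange 54498 54560 ((fun k => commOKk cdE8 reflE8 etaE8 witE8 (k / 240) (k % 240))) = true := by decide +kernel
theorem e8Comm_23_54560 : allRange 54560 54622 ((fun k => commOKk cdE8 reflE8 etaE8 witE8 (k / 240) (k % 240))) = true := by decide +kernel
theorem e8Comm_23_54622 : allRange 54622 54684 ((fun k => commOKk cdE8 reflE8 etaE8 witE8 (k / 240) (k % 240))) = true := by decide +kernel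
theorem e8Comm_23_54684 : allRange 54684 54746 ((fun k => commOKk cdE8 reflE8 etaE8 witE8 (k / 240) (k % 240))) = true := by decide +kernel
theorem e8Comm_23_54746 : allRange 54746 54808 ((fun k => commOKk cdE8 reflE8 etaE8 witE8 (k / 240) (k % 240))) = true := by decide +kernel
theorem e8Comm_23_54808 : allRange 54808 54870 ((fun k => commOKk cdE8 reflE8 etaE8 witE8 (k / 240) (k % 240))) = true := by decide +kernel
theorem e8Comm_23_54870 : allRange 54870 54932 ((fun k => commOKk cdE8 reflE8 etaE8 witE8 (k / 240) (k % 240))) = true := by decide +kernel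
theorem e8Comm_23_54932 : allRange 54932 54994 ((fun k => commOKk cdE8 reflE8 etaE8 witE8 (k / 240) (k % 240))) = true := by decide +kernel
theorem e8Comm_23_54994 : allRange 54994 55056 ((fun k => commOKk cdE8 reflE8 etaE8 witE8 (k / 240) (k % 240))) = true := by decide +kernel

/-- Steps of the derivation of the commutator formula of type E8 (roots 52762 to 55055). -/
theorem e8Comm_23 : ∀ r, 52762 ≤ r → r < 55056 → ((fun k => commOKk cdE8 reflE8 etaE8 witE8 (k / 240) (k % 240))) r = true := by
  intro r h1 h2
  by_cases c0 : r < 52824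
  · exact allRange_spec e8Comm_23_52762 r (by omega) c0
  by_cases c1 : r < 52886
  · exact allRange_spec e8Comm_23_52824 r (by omega) c1
  by_cases c2 : r < 52948
  · exact allRange_spec e8Comm_23_52886 r (by omega) c2
  by_cases c3 : r < 53010
  · exact allRange_spec e8Comm_23_52948 r (by omega) c3
  by_cases c4 : r < 53072
  · exact allRange_spec e8Comm_23_53010 r (by omega) c4
  by_cases c5 : r < 53134
  · exact allRange_spec e8Comm_23_53072 r (by omega) c5
  by_cases c6 : r < 53196
  · exact allRange_spec e8Comm_23_53134 r (by omega) c6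
  by_cases c7 : r < 53258
  · exact allRange_spec e8Comm_23_53196 r (by omega) c7
  by_cases c8 : r < 53320
  · exact allRange_spec e8Comm_23_53258 r (by omega) c8
  by_cases c9 : r < 53382
  · exact allRange_spec e8Comm_23_53320 r (by omega) c9
  by_cases c10 : r < 53444
  · exact allRange_spec e8Comm_23_53382 r (by omega) c10
  by_cases c11 : r < 53506
  · exact allRange_spec e8Comm_23_53444 r (by omega) c11
  by_cases c12 : r < 53568
  · exact allRange_spec e8Comm_23_53506 r (by omega) c12
  by_cases c13 : r < 53630
  · exact allRange_spec e8Comm_23_53568 r (by omega) c13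
  by_cases c14 : r < 53692
  · exact allRange_spec e8Comm_23_53630 r (by omega) c14
  by_cases c15 : r < 53754
  · exact allRange_spec e8Comm_23_53692 r (by omega) c15
  by_cases c16 : r < 53816
  · exact allRange_spec e8Comm_23_53754 r (by omega) c16
  by_cases c17 : r < 53878
  · exact allRange_spec e8Comm_23_53816 r (by omega) c17
  by_cases c18 : r < 53940
  · exact allRange_spec e8Comm_23_53878 r (by omega) c18
  by_cases c19 : r < 54002
  · exact allRange_spec e8Comm_23_53940 r (by omega) c19
  by_cases c20 : r < 54064
  · exact allRange_spec e8Comm_23_54002 r (by omega) c20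
  by_cases c21 : r < 54126
  · exact allRange_spec e8Comm_23_54064 r (by omega) c21
  by_cases c22 : r < 54188
  · exact allRange_spec e8Comm_23_54126 r (by omega) c22
  by_cases c23 : r < 54250
  · exact allRange_spec e8Comm_23_54188 r (by omega) c23
  by_cases c24 : r < 54312
  · exact allRange_spec e8Comm_23_54250 r (by omega) c24
  by_cases c25 : r < 54374
  · exact allRange_spec e8Comm_23_54312 r (by omega) c25
  by_cases c26 : r < 54436
  · exact allRange_spec e8Comm_23_54374 r (by omega) c26
  by_cases c27 : r < 54498
  · exact allRange_spec e8Comm_23_54436 r (by omega) c27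
  by_cases c28 : r < 54560
  · exact allRange_spec e8Comm_23_54498 r (by omega) c28
  by_cases c29 : r < 54622
  · exact allRange_spec e8Comm_23_54560 r (by omega) c29
  by_cases c30 : r < 54684
  · exact allRange_spec e8Comm_23_54622 r (by omega) c30
  by_cases c31 : r < 54746
  · exact allRange_spec e8Comm_23_54684 r (by omega) c31
  by_cases c32 : r < 54808
  · exact allRange_spec e8Comm_23_54746 r (by omega) c32
  by_cases c33 : r < 54870
  · exact allRange_spec e8Comm_23_54808 r (by omega) c33
  by_cases c34 : r < 54932
  · exact allRange_spec e8Comm_23_54870 r (by omega) c34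
  by_cases c35 : r < 54994
  · exact allRange_spec e8Comm_23_54932 r (by omega) c35
  exact allRange_spec e8Comm_23_54994 r (by omega) h2

end Cfsg.Agent.Lib.Helper3.ChevM
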