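import Cfsg.Agent.Lib.Helper3.ChevData.E8Rel
import Cfsg.Agent.Lib.Helper3.ChevData.E8Wit
set_option autoImplicit false
set_option maxRecDepth 1000000
set_option Elab.async false

namespace Cfsg.Agent.Lib.Helper3.ChevM

theorem e8Comm_24_55056 : allRange 55056 55118 ((fun k => commOKk cdE8 reflE8 etaE8 witE8 (k / 240) (k % 240))) = true := by decide +kernel
theorem e8Comm_24_55118 : allRange 55118 55180 ((fun k => commOKk cdE8 reflE8 etaE8 witE8 (k / 240) (k % 240))) = true := by decide +kernel
theorem e8Comm_24_55180 : allRange 55180 55242 ((fun k => commOKk cdE8 reflE8 etaE8 witE8 (k / 240) (k % 240))) = true := by decide +kernel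
theorem e8Comm_24_55242 : allRange 55242 55304 ((fun k => commOKk cdE8 reflE8 etaE8 witE8 (k / 240) (k % 240))) = true := by decide +kernel
theorem e8Comm_24_55304 : allRange 55304 55366 ((fun k => commOKk cdE8 reflE8 etaE8 witE8 (k / 240) (k % 240))) = true := by decide +kernel
theorem e8Comm_24_55366 : allRange 55366 55428 ((fun k => commOKk cdE8 reflE8 etaE8 witE8 (k / 240) (k % 240))) = true := by decide +kernel
theorem e8Comm_24_55428 : allRange 55428 55490 ((fun k => commOKk cdE8 reflE8 etaE8 witE8 (k / 240) (k % 240))) = true := by decide +kernel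
theorem e8Comm_24_55490 : allRange 55490 55552 ((fun k => commOKk cdE8 reflE8 etaE8 witE8 (k / 240) (k % 240))) = true := by decide +kernel
theorem e8Comm_24_55552 : allRange 55552 55614 ((fun k => commOKk cdE8 reflE8 etaE8 witE8 (k / 240) (k % 240))) = true := by decide +kernel
theorem e8Comm_24_55614 : allRange 55614 55676 ((fun k => commOKk cdE8 reflE8 etaE8 witE8 (k / 240) (k % 240))) = true := by decide +kernel
theorem e8Comm_24_55676 : allRange 55676 55738 ((fun k => commOKk cdE8 reflE8 etaE8 witE8 (k / 240) (k % 240))) = true := by decide +kernel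
theorem e8Comm_24_55738 : allRange 55738 55800 ((fun k => commOKk cdE8 reflE8 etaE8 witE8 (k / 240) (k % 240))) = true := by decide +kernel
theorem e8Comm_24_55800 : allRange 55800 55862 ((fun k => commOKk cdE8 reflE8 etaE8 witE8 (k / 240) (k % 240))) = true := by decide +kernel
theorem e8Comm_24_55862 : allRange 55862 55924 ((fun k => commOKk cdE8 reflE8 etaE8 witE8 (k / 240) (k % 240))) = true := by decide +kernel
theorem e8Comm_24_55924 : allRange 55924 55986 ((fun k => commOKk cdE8 reflE8 etaE8 witE8 (k / 240) (k % 240))) = true := by decide +kernel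
theorem e8Comm_24_55986 : allRange 55986 56048 ((fun k => commOKk cdE8 reflE8 etaE8 witE8 (k / 240) (k % 240))) = true := by decide +kernel
theorem e8Comm_24_56048 : allRange 56048 56110 ((fun k => commOKk cdE8 reflE8 etaE8 witE8 (k / 240) (k % 240))) = true := by decide +kernel
theorem e8Comm_24_56110 : allRange 56110 56172 ((fun k => commOKk cdE8 reflE8 etaE8 witE8 (k / 240) (k % 240))) = true := by decide +kernel
theorem e8Comm_24_56172 : allRange 56172 56234 ((fun k => commOKk cdE8 reflE8 etaE8 witE8 (k / 240) (k % 240))) = true := by decide +kernel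
theorem e8Comm_24_56234 : allRange 56234 56296 ((fun k => commOKk cdE8 reflE8 etaE8 witE8 (k / 240) (k % 240))) = true := by decide +kernel
theorem e8Comm_24_56296 : allRange 56296 56358 ((fun k => commOKk cdE8 reflE8 etaE8 witE8 (k / 240) (k % 240))) = true := by decide +kernel
theorem e8Comm_24_56358 : allRange 56358 56420 ((fun k => commOKk cdE8 reflE8 etaE8 witE8 (k / 240) (k % 240))) = true := by decide +kernel
theorem e8Comm_24_56420 : allRange 56420 56482 ((fun k => commOKk cdE8 reflE8 etaE8 witE8 (k / 240) (k % 240))) = true := by decide +kernel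
theorem e8Comm_24_56482 : allRange 56482 56544 ((fun k => commOKk cdE8 reflE8 etaE8 witE8 (k / 240) (k % 240))) = true := by decide +kernel
theorem e8Comm_24_56544 : allRange 56544 56606 ((fun k => commOKk cdE8 reflE8 etaE8 witE8 (k / 240) (k % 240))) = true := by decide +kernel
theorem e8Comm_24_56606 : allRange 56606 56668 ((fun k => commOKk cdE8 reflE8 etaE8 witE8 (k / 240) (k % 240))) = true := by decide +kernel
theorem e8Comm_24_56668 : allRange 56668 56730 ((fun k => commOKk cdE8 reflE8 etaE8 witE8 (k / 240) (k % 240))) = true := by decide +kernel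
theorem e8Comm_24_56730 : allRange 56730 56792 ((fun k => commOKk cdE8 reflE8 etaE8 witE8 (k / 240) (k % 240))) = true := by decide +kernel
theorem e8Comm_24_56792 : allRange 56792 56854 ((fun k => commOKk cdE8 reflE8 etaE8 witE8 (k / 240) (k % 240))) = true := by decide +kernel
theorem e8Comm_24_56854 : allRange 56854 56916 ((fun k => commOKk cdE8 reflE8 etaE8 witE8 (k / 240) (k % 240))) = true := by decide +kernel
theorem e8Comm_24_56916 : allRange 56916 56978 ((fun k => commOKk cdE8 reflE8 etaE8 witE8 (k / 240) (k % 240))) = true := by decide +kernel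
theorem e8Comm_24_56978 : allRange 56978 57040 ((fun k => commOKk cdE8 reflE8 etaE8 witE8 (k / 240) (k % 240))) = true := by decide +kernel
theorem e8Comm_24_57040 : allRange 57040 57102 ((fun k => commOKk cdE8 reflE8 etaE8 witE8 (k / 240) (k % 240))) = true := by decide +kernel
theorem e8Comm_24_57102 : allRange 57102 57164 ((fun k => commOKk cdE8 reflE8 etaE8 witE8 (k / 240) (k % 240))) = true := by decide +kernel
theorem e8Comm_24_57164 : allRange 57164 57226 ((fun k => commOKk cdE8 reflE8 etaE8 witE8 (k / 240) (k % 240))) = true := by decide +kernel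
theorem e8Comm_24_57226 : allRange 57226 57288 ((fun k => commOKk cdE8 reflE8 etaE8 witE8 (k / 240) (k % 240))) = true := by decide +kernel
theorem e8Comm_24_57288 : allRange 57288 57350 ((fun k => commOKk cdE8 reflE8 etaE8 witE8 (k / 240) (k % 240))) = true := by decide +kernel

/-- Steps of the derivation of the commutator formula of type E8 (roots 55056 to 57349). -/
theorem e8Comm_24 : ∀ r, 55056 ≤ r → r < 57350 → ((fun k => commOKk cdE8 reflE8 etaE8 witE8 (k / 240) (k % 240))) r = true := by
  intro r h1 h2
  by_cases c0 : r < 55118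
  · exact allRange_spec e8Comm_24_55056 r (by omega) c0
  by_cases c1 : r < 55180
  · exact allRange_spec e8Comm_24_55118 r (by omega) c1
  by_cases c2 : r < 55242
  · exact allRange_spec e8Comm_24_55180 r (by omega) c2
  by_cases c3 : r < 55304
  · exact allRange_spec e8Comm_24_55242 r (by omega) c3
  by_cases c4 : r < 55366
  · exact allRange_spec e8Comm_24_55304 r (by omega) c4
  by_cases c5 : r < 55428
  · exact allRange_spec e8Comm_24_55366 r (by omega) c5
  by_cases c6 : r < 55490
  · exact allRange_spec e8Comm_24_55428 r (by omega) c6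
  by_cases c7 : r < 55552
  · exact allRange_spec e8Comm_24_55490 r (by omega) c7
  by_cases c8 : r < 55614
  · exact allRange_spec e8Comm_24_55552 r (by omega) c8
  by_cases c9 : r < 55676
  · exact allRange_spec e8Comm_24_55614 r (by omega) c9
  by_cases c10 : r < 55738
  · exact allRange_spec e8Comm_24_55676 r (by omega) c10
  by_cases c11 : r < 55800
  · exact allRange_spec e8Comm_24_55738 r (by omega) c11
  by_cases c12 : r < 55862
  · exact allRange_spec e8Comm_24_55800 r (by omega) c12
  by_cases c13 : r < 55924
  · exact allRange_spec e8Comm_24_55862 r (by omega) c13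
  by_cases c14 : r < 55986
  · exact allRange_spec e8Comm_24_55924 r (by omega) c14
  by_cases c15 : r < 56048
  · exact allRange_spec e8Comm_24_55986 r (by omega) c15
  by_cases c16 : r < 56110
  · exact allRange_spec e8Comm_24_56048 r (by omega) c16
  by_cases c17 : r < 56172
  · exact allRange_spec e8Comm_24_56110 r (by omega) c17
  by_cases c18 : r < 56234
  · exact allRange_spec e8Comm_24_56172 r (by omega) c18
  by_cases c19 : r < 56296
  · exact allRange_spec e8Comm_24_56234 r (by omega) c19
  by_cases c20 : r < 56358
  · exact allRange_spec e8Comm_24_56296 r (by omega) c20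
  by_cases c21 : r < 56420
  · exact allRange_spec e8Comm_24_56358 r (by omega) c21
  by_cases c22 : r < 56482
  · exact allRange_spec e8Comm_24_56420 r (by omega) c22
  by_cases c23 : r < 56544
  · exact allRange_spec e8Comm_24_56482 r (by omega) c23
  by_cases c24 : r < 56606
  · exact allRange_spec e8Comm_24_56544 r (by omega) c24
  by_cases c25 : r < 56668
  · exact allRange_spec e8Comm_24_56606 r (by omega) c25
  by_cases c26 : r < 56730
  · exact allRange_spec e8Comm_24_56668 r (by omega) c26
  by_cases c27 : r < 56792
  · exact allRange_spec e8Comm_24_56730 r (by omega) c27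
  by_cases c28 : r < 56854
  · exact allRange_spec e8Comm_24_56792 r (by omega) c28
  by_cases c29 : r < 56916
  · exact allRange_spec e8Comm_24_56854 r (by omega) c29
  by_cases c30 : r < 56978
  · exact allRange_spec e8Comm_24_56916 r (by omega) c30
  by_cases c31 : r < 57040
  · exact allRange_spec e8Comm_24_56978 r (by omega) c31
  by_cases c32 : r < 57102
  · exact allRange_spec e8Comm_24_57040 r (by omega) c32
  by_cases c33 : r < 57164
  · exact allRange_spec e8Comm_24_57102 r (by omega) c33
  by_cases c34 : r < 57226
  · exact allRange_spec e8Comm_24_57164 r (by omega) c34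
  by_cases c35 : r < 57288
  · exact allRange_spec e8Comm_24_57226 r (by omega) c35
  exact allRange_spec e8Comm_24_57288 r (by omega) h2

end Cfsg.Agent.Lib.Helper3.ChevM
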