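import Cfsg.Agent.Lib.Helper3.ChevData.E8Rel
import Cfsg.Agent.Lib.Helper3.ChevData.E8Wit
set_option autoImplicit false
set_option maxRecDepth 1000000
set_option Elab.async false

namespace Cfsg.Agent.Lib.Helper3.ChevM

theorem e8Comm_25_57350 : allRange 57350 57412 ((fun k => commOKk cdE8 reflE8 etaE8 witE8 (k / 240) (k % 240))) = true := by decide +kernel
theorem e8Comm_25_57412 : allRange 57412 57474 ((fun k => commOKk cdE8 reflE8 etaE8 witE8 (k / 240) (k % 240))) = true := by decide +kernel
theorem e8Comm_25_57474 : allRange 57474 57536 ((fun k => commOKk cdE8 reflE8 etaE8 witE8 (k / 240) (k % 240))) = true := by decide +kernel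
theorem e8Comm_25_57536 : allRange 57536 57598 ((fun k => commOKk cdE8 reflE8 etaE8 witE8 (k / 240) (k % 240))) = true := by decide +kernel
theorem e8Comm_25_57598 : allRange 57598 57600 ((fun k => commOKk cdE8 reflE8 etaE8 witE8 (k / 240) (k % 240))) = true := by decide +kernel

/-- Steps of the derivation of the commutator formula of type E8 (roots 57350 to 57599). -/
theorem e8Comm_25 : ∀ r, 57350 ≤ r → r < 57600 → ((fun k => commOKk cdE8 reflE8 etaE8 witE8 (k / 240) (k % 240))) r = true := by
  intro r h1 h2
  by_cases c0 : r < 57412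
  · exact allRange_spec e8Comm_25_57350 r (by omega) c0
  by_cases c1 : r < 57474
  · exact allRange_spec e8Comm_25_57412 r (by omega) c1
  by_cases c2 : r < 57536
  · exact allRange_spec e8Comm_25_57474 r (by omega) c2
  by_cases c3 : r < 57598
  · exact allRange_spec e8Comm_25_57536 r (by omega) c3
  exact allRange_spec e8Comm_25_57598 r (by omega) h2

end Cfsg.Agent.Lib.Helper3.ChevM
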