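import Cfsg.Agent.Lib.Helper3.ChevData.E8CommA
import Cfsg.Agent.Lib.Helper3.ChevData.E8CommB
import Cfsg.Agent.Lib.Helper3.ChevData.E8CommC
import Cfsg.Agent.Lib.Helper3.ChevData.E8CommD
import Cfsg.Agent.Lib.Helper3.ChevData.E8CommE
import Cfsg.Agent.Lib.Helper3.ChevData.E8CommF
import Cfsg.Agent.Lib.Helper3.ChevData.E8CommG
import Cfsg.Agent.Lib.Helper3.ChevData.E8CommH
import Cfsg.Agent.Lib.Helper3.ChevData.E8CommI
import Cfsg.Agent.Lib.Helper3.ChevData.E8CommJ
import Cfsg.Agent.Lib.Helper3.ChevData.E8CommK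
import Cfsg.Agent.Lib.Helper3.ChevData.E8CommL
import Cfsg.Agent.Lib.Helper3.ChevData.E8CommM
import Cfsg.Agent.Lib.Helper3.ChevData.E8CommN
import Cfsg.Agent.Lib.Helper3.ChevData.E8CommO
import Cfsg.Agent.Lib.Helper3.ChevData.E8CommP
import Cfsg.Agent.Lib.Helper3.ChevData.E8CommQ
import Cfsg.Agent.Lib.Helper3.ChevData.E8CommR
import Cfsg.Agent.Lib.Helper3.ChevData.E8CommS
import Cfsg.Agent.Lib.Helper3.ChevData.E8CommT
import Cfsg.Agent.Lib.Helper3.ChevData.E8CommU
import Cfsg.Agent.Lib.Helper3.ChevData.E8CommV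
import Cfsg.Agent.Lib.Helper3.ChevData.E8CommW
import Cfsg.Agent.Lib.Helper3.ChevData.E8CommX
import Cfsg.Agent.Lib.Helper3.ChevData.E8CommY
import Cfsg.Agent.Lib.Helper3.ChevData.E8CommZ
set_option autoImplicit false

namespace Cfsg.Agent.Lib.Helper3.ChevM

/-- Steps of the derivation of the commutator formula of type E8. -/
theorem e8Comm : ∀ r < 57600, ((fun k => commOKk cdE8 reflE8 etaE8 witE8 (k / 240) (k % 240))) r = true := by
  intro r hr
  by_cases h0 : r < 2294
  · exact e8Comm_0 r (by omega) h0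
  by_cases h1 : r < 4588
  · exact e8Comm_1 r (by omega) h1
  by_cases h2 : r < 6882
  · exact e8Comm_2 r (by omega) h2
  by_cases h3 : r < 9176
  · exact e8Comm_3 r (by omega) h3
  by_cases h4 : r < 11470
  · exact e8Comm_4 r (by omega) h4
  by_cases h5 : r < 13764
  · exact e8Comm_5 r (by omega) h5
  by_cases h6 : r < 16058
  · exact e8Comm_6 r (by omega) h6
  by_cases h7 : r < 18352
  · exact e8Comm_7 r (by omega) h7
  by_cases h8 : r < 20646
  · exact e8Comm_8 r (by omega) h8
  by_cases h9 : r < 22940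
  · exact e8Comm_9 r (by omega) h9
  by_cases h10 : r < 25234
  · exact e8Comm_10 r (by omega) h10
  by_cases h11 : r < 27528
  · exact e8Comm_11 r (by omega) h11
  by_cases h12 : r < 29822
  · exact e8Comm_12 r (by omega) h12
  by_cases h13 : r < 32116
  · exact e8Comm_13 r (by omega) h13
  by_cases h14 : r < 34410
  · exact e8Comm_14 r (by omega) h14
  by_cases h15 : r < 36704
  · exact e8Comm_15 r (by omega) h15
  by_cases h16 : r < 38998
  · exact e8Comm_16 r (by omega) h16
  by_cases h17 : r < 41292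
  · exact e8Comm_17 r (by omega) h17
  by_cases h18 : r < 43586
  · exact e8Comm_18 r (by omega) h18
  by_cases h19 : r < 45880
  · exact e8Comm_19 r (by omega) h19
  by_cases h20 : r < 48174
  · exact e8Comm_20 r (by omega) h20
  by_cases h21 : r < 50468
  · exact e8Comm_21 r (by omega) h21
  by_cases h22 : r < 52762
  · exact e8Comm_22 r (by omega) h22
  by_cases h23 : r < 55056
  · exact e8Comm_23 r (by omega) h23
  by_cases h24 : r < 57350
  · exact e8Comm_24 r (by omega) h24
  exact e8Comm_25 r (by omega) hr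

end Cfsg.Agent.Lib.Helper3.ChevM
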