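import Cfsg.Agent.Lib.Helper3.ChevData.E8Rel
import Cfsg.Agent.Lib.Helper3.ChevData.E8Wit
set_option autoImplicit false
set_option maxRecDepth 1000000
set_option Elab.async false

namespace Cfsg.Agent.Lib.Helper3.ChevM

theorem e8Comm_0_0 : allRange 0 62 ((fun k => commOKk cdE8 reflE8 etaE8 witE8 (k / 240) (k % 240))) = true := by decide +kernel
theorem e8Comm_0_62 : allRange 62 124 ((fun k => commOKk cdE8 reflE8 etaE8 witE8 (k / 240) (k % 240))) = true := by decide +kernel
theorem e8Comm_0_124 : allRange 124 186 ((fun k => commOKk cdE8 reflE8 etaE8 witE8 (k / 240) (k % 240))) = true := by decide +kernel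
theorem e8Comm_0_186 : allRange 186 248 ((fun k => commOKk cdE8 reflE8 etaE8 witE8 (k / 240) (k % 240))) = true := by decide +kernel
theorem e8Comm_0_248 : allRange 248 310 ((fun k => commOKk cdE8 reflE8 etaE8 witE8 (k / 240) (k % 240))) = true := by decide +kernel
theorem e8Comm_0_310 : allRange 310 372 ((fun k => commOKk cdE8 reflE8 etaE8 witE8 (k / 240) (k % 240))) = true := by decide +kernel
theorem e8Comm_0_372 : allRange 372 434 ((fun k => commOKk cdE8 reflE8 etaE8 witE8 (k / 240) (k % 240))) = true := by decide +kernel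
theorem e8Comm_0_434 : allRange 434 496 ((fun k => commOKk cdE8 reflE8 etaE8 witE8 (k / 240) (k % 240))) = true := by decide +kernel
theorem e8Comm_0_496 : allRange 496 558 ((fun k => commOKk cdE8 reflE8 etaE8 witE8 (k / 240) (k % 240))) = true := by decide +kernel
theorem e8Comm_0_558 : allRange 558 620 ((fun k => commOKk cdE8 reflE8 etaE8 witE8 (k / 240) (k % 240))) = true := by decide +kernel
theorem e8Comm_0_620 : allRange 620 682 ((fun k => commOKk cdE8 reflE8 etaE8 witE8 (k / 240) (k % 240))) = true := by decide +kernel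
theorem e8Comm_0_682 : allRange 682 744 ((fun k => commOKk cdE8 reflE8 etaE8 witE8 (k / 240) (k % 240))) = true := by decide +kernel
theorem e8Comm_0_744 : allRange 744 806 ((fun k => commOKk cdE8 reflE8 etaE8 witE8 (k / 240) (k % 240))) = true := by decide +kernel
theorem e8Comm_0_806 : allRange 806 868 ((fun k => commOKk cdE8 reflE8 etaE8 witE8 (k / 240) (k % 240))) = true := by decide +kernel
theorem e8Comm_0_868 : allRange 868 930 ((fun k => commOKk cdE8 reflE8 etaE8 witE8 (k / 240) (k % 240))) = true := by decide +kernel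
theorem e8Comm_0_930 : allRange 930 992 ((fun k => commOKk cdE8 reflE8 etaE8 witE8 (k / 240) (k % 240))) = true := by decide +kernel
theorem e8Comm_0_992 : allRange 992 1054 ((fun k => commOKk cdE8 reflE8 etaE8 witE8 (k / 240) (k % 240))) = true := by decide +kernel
theorem e8Comm_0_1054 : allRange 1054 1116 ((fun k => commOKk cdE8 reflE8 etaE8 witE8 (k / 240) (k % 240))) = true := by decide +kernel
theorem e8Comm_0_1116 : allRange 1116 1178 ((fun k => commOKk cdE8 reflE8 etaE8 witE8 (k / 240) (k % 240))) = true := by decide +kernel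
theorem e8Comm_0_1178 : allRange 1178 1240 ((fun k => commOKk cdE8 reflE8 etaE8 witE8 (k / 240) (k % 240))) = true := by decide +kernel
theorem e8Comm_0_1240 : allRange 1240 1302 ((fun k => commOKk cdE8 reflE8 etaE8 witE8 (k / 240) (k % 240))) = true := by decide +kernel
theorem e8Comm_0_1302 : allRange 1302 1364 ((fun k => commOKk cdE8 reflE8 etaE8 witE8 (k / 240) (k % 240))) = true := by decide +kernel
theorem e8Comm_0_1364 : allRange 1364 1426 ((fun k => commOKk cdE8 reflE8 etaE8 witE8 (k / 240) (k % 240))) = true := by decide +kernel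
theorem e8Comm_0_1426 : allRange 1426 1488 ((fun k => commOKk cdE8 reflE8 etaE8 witE8 (k / 240) (k % 240))) = true := by decide +kernel
theorem e8Comm_0_1488 : allRange 1488 1550 ((fun k => commOKk cdE8 reflE8 etaE8 witE8 (k / 240) (k % 240))) = true := by decide +kernel
theorem e8Comm_0_1550 : allRange 1550 1612 ((fun k => commOKk cdE8 reflE8 etaE8 witE8 (k / 240) (k % 240))) = true := by decide +kernel
theorem e8Comm_0_1612 : allRange 1612 1674 ((fun k => commOKk cdE8 reflE8 etaE8 witE8 (k / 240) (k % 240))) = true := by decide +kernel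
theorem e8Comm_0_1674 : allRange 1674 1736 ((fun k => commOKk cdE8 reflE8 etaE8 witE8 (k / 240) (k % 240))) = true := by decide +kernel
theorem e8Comm_0_1736 : allRange 1736 1798 ((fun k => commOKk cdE8 reflE8 etaE8 witE8 (k / 240) (k % 240))) = true := by decide +kernel
theorem e8Comm_0_1798 : allRange 1798 1860 ((fun k => commOKk cdE8 reflE8 etaE8 witE8 (k / 240) (k % 240))) = true := by decide +kernel
theorem e8Comm_0_1860 : allRange 1860 1922 ((fun k => commOKk cdE8 reflE8 etaE8 witE8 (k / 240) (k % 240))) = true := by decide +kernel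
theorem e8Comm_0_1922 : allRange 1922 1984 ((fun k => commOKk cdE8 reflE8 etaE8 witE8 (k / 240) (k % 240))) = true := by decide +kernel
theorem e8Comm_0_1984 : allRange 1984 2046 ((fun k => commOKk cdE8 reflE8 etaE8 witE8 (k / 240) (k % 240))) = true := by decide +kernel
theorem e8Comm_0_2046 : allRange 2046 2108 ((fun k => commOKk cdE8 reflE8 etaE8 witE8 (k / 240) (k % 240))) = true := by decide +kernel
theorem e8Comm_0_2108 : allRange 2108 2170 ((fun k => commOKk cdE8 reflE8 etaE8 witE8 (k / 240) (k % 240))) = true := by decide +kernel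
theorem e8Comm_0_2170 : allRange 2170 2232 ((fun k => commOKk cdE8 reflE8 etaE8 witE8 (k / 240) (k % 240))) = true := by decide +kernel
theorem e8Comm_0_2232 : allRange 2232 2294 ((fun k => commOKk cdE8 reflE8 etaE8 witE8 (k / 240) (k % 240))) = true := by decide +kernel

/-- Steps of the derivation of the commutator formula of type E8 (roots 0 to 2293). -/
theorem e8Comm_0 : ∀ r, 0 ≤ r → r < 2294 → ((fun k => commOKk cdE8 reflE8 etaE8 witE8 (k / 240) (k % 240))) r = true := by
  intro r h1 h2
  by_cases c0 : r < 62
  · exact allRange_spec e8Comm_0_0 r (by omega) c0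
  by_cases c1 : r < 124
  · exact allRange_spec e8Comm_0_62 r (by omega) c1
  by_cases c2 : r < 186
  · exact allRange_spec e8Comm_0_124 r (by omega) c2
  by_cases c3 : r < 248
  · exact allRange_spec e8Comm_0_186 r (by omega) c3
  by_cases c4 : r < 310
  · exact allRange_spec e8Comm_0_248 r (by omega) c4
  by_cases c5 : r < 372
  · exact allRange_spec e8Comm_0_310 r (by omega) c5
  by_cases c6 : r < 434
  · exact allRange_spec e8Comm_0_372 r (by omega) c6
  by_cases c7 : r < 496
  · exact allRange_spec e8Comm_0_434 r (by omega) c7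
  by_cases c8 : r < 558
  · exact allRange_spec e8Comm_0_496 r (by omega) c8
  by_cases c9 : r < 620
  · exact allRange_spec e8Comm_0_558 r (by omega) c9
  by_cases c10 : r < 682
  · exact allRange_spec e8Comm_0_620 r (by omega) c10
  by_cases c11 : r < 744
  · exact allRange_spec e8Comm_0_682 r (by omega) c11
  by_cases c12 : r < 806
  · exact allRange_spec e8Comm_0_744 r (by omega) c12
  by_cases c13 : r < 868
  · exact allRange_spec e8Comm_0_806 r (by omega) c13
  by_cases c14 : r < 930
  · exact allRange_spec e8Comm_0_868 r (by omega) c14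
  by_cases c15 : r < 992
  · exact allRange_spec e8Comm_0_930 r (by omega) c15
  by_cases c16 : r < 1054
  · exact allRange_spec e8Comm_0_992 r (by omega) c16
  by_cases c17 : r < 1116
  · exact allRange_spec e8Comm_0_1054 r (by omega) c17
  by_cases c18 : r < 1178
  · exact allRange_spec e8Comm_0_1116 r (by omega) c18
  by_cases c19 : r < 1240
  · exact allRange_spec e8Comm_0_1178 r (by omega) c19
  by_cases c20 : r < 1302
  · exact allRange_spec e8Comm_0_1240 r (by omega) c20
  by_cases c21 : r < 1364
  · exact allRange_spec e8Comm_0_1302 r (by omega) c21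
  by_cases c22 : r < 1426
  · exact allRange_spec e8Comm_0_1364 r (by omega) c22
  by_cases c23 : r < 1488
  · exact allRange_spec e8Comm_0_1426 r (by omega) c23
  by_cases c24 : r < 1550
  · exact allRange_spec e8Comm_0_1488 r (by omega) c24
  by_cases c25 : r < 1612
  · exact allRange_spec e8Comm_0_1550 r (by omega) c25
  by_cases c26 : r < 1674
  · exact allRange_spec e8Comm_0_1612 r (by omega) c26
  by_cases c27 : r < 1736
  · exact allRange_spec e8Comm_0_1674 r (by omega) c27
  by_cases c28 : r < 1798
  · exact allRange_spec e8Comm_0_1736 r (by omega) c28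
  by_cases c29 : r < 1860
  · exact allRange_spec e8Comm_0_1798 r (by omega) c29
  by_cases c30 : r < 1922
  · exact allRange_spec e8Comm_0_1860 r (by omega) c30
  by_cases c31 : r < 1984
  · exact allRange_spec e8Comm_0_1922 r (by omega) c31
  by_cases c32 : r < 2046
  · exact allRange_spec e8Comm_0_1984 r (by omega) c32
  by_cases c33 : r < 2108
  · exact allRange_spec e8Comm_0_2046 r (by omega) c33
  by_cases c34 : r < 2170
  · exact allRange_spec e8Comm_0_2108 r (by omega) c34
  by_cases c35 : r < 2232
  · exact allRange_spec e8Comm_0_2170 r (by omega) c35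
  exact allRange_spec e8Comm_0_2232 r (by omega) h2

end Cfsg.Agent.Lib.Helper3.ChevM
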