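import Cfsg.Agent.Lib.Helper3.ChevData.E8Comm
set_option autoImplicit false

namespace Cfsg.Agent.Lib.Helper3.ChevM

/-- The commutator data of type E8. -/
def commE8 : CommData cdE8 relE8 where
  wit := witE8
  ok := of_pairRange (m := 240) (n := 240) e8Comm

end Cfsg.Agent.Lib.Helper3.ChevM
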