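import Cfsg.Agent.Lib.Helper3.ChevData.E8Rel
import Cfsg.Agent.Lib.Helper3.ChevData.E8Wit
set_option autoImplicit false
set_option maxRecDepth 1000000
set_option Elab.async false

namespace Cfsg.Agent.Lib.Helper3.ChevM

theorem e8Comm_10_22940 : allRange 22940 23002 ((fun k => commOKk cdE8 reflE8 etaE8 witE8 (k / 240) (k % 240))) = true := by decide +kernel
theorem e8Comm_10_23002 : allRange 23002 23064 ((fun k => commOKk cdE8 reflE8 etaE8 witE8 (k / 240) (k % 240))) = true := by decide +kernel
theorem e8Comm_10_23064 : allRange 23064 23126 ((fun k => commOKk cdE8 reflE8 etaE8 witE8 (k / 240) (k % 240))) = true := by decide +kernel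
theorem e8Comm_10_23126 : allRange 23126 23188 ((fun k => commOKk cdE8 reflE8 etaE8 witE8 (k / 240) (k % 240))) = true := by decide +kernel
theorem e8Comm_10_23188 : allRange 23188 23250 ((fun k => commOKk cdE8 reflE8 etaE8 witE8 (k / 240) (k % 240))) = true := by decide +kernel
theorem e8Comm_10_23250 : allRange 23250 23312 ((fun k => commOKk cdE8 reflE8 etaE8 witE8 (k / 240) (k % 240))) = true := by decide +kernel
theorem e8Comm_10_23312 : allRange 23312 23374 ((fun k => commOKk cdE8 reflE8 etaE8 witE8 (k / 240) (k % 240))) = true := by decide +kernel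
theorem e8Comm_10_23374 : allRange 23374 23436 ((fun k => commOKk cdE8 reflE8 etaE8 witE8 (k / 240) (k % 240))) = true := by decide +kernel
theorem e8Comm_10_23436 : allRange 23436 23498 ((fun k => commOKk cdE8 reflE8 etaE8 witE8 (k / 240) (k % 240))) = true := by decide +kernel
theorem e8Comm_10_23498 : allRange 23498 23560 ((fun k => commOKk cdE8 reflE8 etaE8 witE8 (k / 240) (k % 240))) = true := by decide +kernel
theorem e8Comm_10_23560 : allRange 23560 23622 ((fun k => commOKk cdE8 reflE8 etaE8 witE8 (k / 240) (k % 240))) = true := by decide +kernel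
theorem e8Comm_10_23622 : allRange 23622 23684 ((fun k => commOKk cdE8 reflE8 etaE8 witE8 (k / 240) (k % 240))) = true := by decide +kernel
theorem e8Comm_10_23684 : allRange 23684 23746 ((fun k => commOKk cdE8 reflE8 etaE8 witE8 (k / 240) (k % 240))) = true := by decide +kernel
theorem e8Comm_10_23746 : allRange 23746 23808 ((fun k => commOKk cdE8 reflE8 etaE8 witE8 (k / 240) (k % 240))) = true := by decide +kernel
theorem e8Comm_10_23808 : allRange 23808 23870 ((fun k => commOKk cdE8 reflE8 etaE8 witE8 (k / 240) (k % 240))) = true := by decide +kernel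
theorem e8Comm_10_23870 : allRange 23870 23932 ((fun k => commOKk cdE8 reflE8 etaE8 witE8 (k / 240) (k % 240))) = true := by decide +kernel
theorem e8Comm_10_23932 : allRange 23932 23994 ((fun k => commOKk cdE8 reflE8 etaE8 witE8 (k / 240) (k % 240))) = true := by decide +kernel
theorem e8Comm_10_23994 : allRange 23994 24056 ((fun k => commOKk cdE8 reflE8 etaE8 witE8 (k / 240) (k % 240))) = true := by decide +kernel
theorem e8Comm_10_24056 : allRange 24056 24118 ((fun k => commOKk cdE8 reflE8 etaE8 witE8 (k / 240) (k % 240))) = true := by decide +kernel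
theorem e8Comm_10_24118 : allRange 24118 24180 ((fun k => commOKk cdE8 reflE8 etaE8 witE8 (k / 240) (k % 240))) = true := by decide +kernel
theorem e8Comm_10_24180 : allRange 24180 24242 ((fun k => commOKk cdE8 reflE8 etaE8 witE8 (k / 240) (k % 240))) = true := by decide +kernel
theorem e8Comm_10_24242 : allRange 24242 24304 ((fun k => commOKk cdE8 reflE8 etaE8 witE8 (k / 240) (k % 240))) = true := by decide +kernel
theorem e8Comm_10_24304 : allRange 24304 24366 ((fun k => commOKk cdE8 reflE8 etaE8 witE8 (k / 240) (k % 240))) = true := by decide +kernel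
theorem e8Comm_10_24366 : allRange 24366 24428 ((fun k => commOKk cdE8 reflE8 etaE8 witE8 (k / 240) (k % 240))) = true := by decide +kernel
theorem e8Comm_10_24428 : allRange 24428 24490 ((fun k => commOKk cdE8 reflE8 etaE8 witE8 (k / 240) (k % 240))) = true := by decide +kernel
theorem e8Comm_10_24490 : allRange 24490 24552 ((fun k => commOKk cdE8 reflE8 etaE8 witE8 (k / 240) (k % 240))) = true := by decide +kernel
theorem e8Comm_10_24552 : allRange 24552 24614 ((fun k => commOKk cdE8 reflE8 etaE8 witE8 (k / 240) (k % 240))) = true := by decide +kernel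
theorem e8Comm_10_24614 : allRange 24614 24676 ((fun k => commOKk cdE8 reflE8 etaE8 witE8 (k / 240) (k % 240))) = true := by decide +kernel
theorem e8Comm_10_24676 : allRange 24676 24738 ((fun k => commOKk cdE8 reflE8 etaE8 witE8 (k / 240) (k % 240))) = true := by decide +kernel
theorem e8Comm_10_24738 : allRange 24738 24800 ((fun k => commOKk cdE8 reflE8 etaE8 witE8 (k / 240) (k % 240))) = true := by decide +kernel
theorem e8Comm_10_24800 : allRange 24800 24862 ((fun k => commOKk cdE8 reflE8 etaE8 witE8 (k / 240) (k % 240))) = true := by decide +kernel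
theorem e8Comm_10_24862 : allRange 24862 24924 ((fun k => commOKk cdE8 reflE8 etaE8 witE8 (k / 240) (k % 240))) = true := by decide +kernel
theorem e8Comm_10_24924 : allRange 24924 24986 ((fun k => commOKk cdE8 reflE8 etaE8 witE8 (k / 240) (k % 240))) = true := by decide +kernel
theorem e8Comm_10_24986 : allRange 24986 25048 ((fun k => commOKk cdE8 reflE8 etaE8 witE8 (k / 240) (k % 240))) = true := by decide +kernel
theorem e8Comm_10_25048 : allRange 25048 25110 ((fun k => commOKk cdE8 reflE8 etaE8 witE8 (k / 240) (k % 240))) = true := by decide +kernel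
theorem e8Comm_10_25110 : allRange 25110 25172 ((fun k => commOKk cdE8 reflE8 etaE8 witE8 (k / 240) (k % 240))) = true := by decide +kernel
theorem e8Comm_10_25172 : allRange 25172 25234 ((fun k => commOKk cdE8 reflE8 etaE8 witE8 (k / 240) (k % 240))) = true := by decide +kernel

/-- Steps of the derivation of the commutator formula of type E8 (roots 22940 to 25233). -/
theorem e8Comm_10 : ∀ r, 22940 ≤ r → r < 25234 → ((fun k => commOKk cdE8 reflE8 etaE8 witE8 (k / 240) (k % 240))) r = true := by
  intro r h1 h2
  by_cases c0 : r < 23002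
  · exact allRange_spec e8Comm_10_22940 r (by omega) c0
  by_cases c1 : r < 23064
  · exact allRange_spec e8Comm_10_23002 r (by omega) c1
  by_cases c2 : r < 23126
  · exact allRange_spec e8Comm_10_23064 r (by omega) c2
  by_cases c3 : r < 23188
  · exact allRange_spec e8Comm_10_23126 r (by omega) c3
  by_cases c4 : r < 23250
  · exact allRange_spec e8Comm_10_23188 r (by omega) c4
  by_cases c5 : r < 23312
  · exact allRange_spec e8Comm_10_23250 r (by omega) c5
  by_cases c6 : r < 23374
  · exact allRange_spec e8Comm_10_23312 r (by omega) c6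
  by_cases c7 : r < 23436
  · exact allRange_spec e8Comm_10_23374 r (by omega) c7
  by_cases c8 : r < 23498
  · exact allRange_spec e8Comm_10_23436 r (by omega) c8
  by_cases c9 : r < 23560
  · exact allRange_spec e8Comm_10_23498 r (by omega) c9
  by_cases c10 : r < 23622
  · exact allRange_spec e8Comm_10_23560 r (by omega) c10
  by_cases c11 : r < 23684
  · exact allRange_spec e8Comm_10_23622 r (by omega) c11
  by_cases c12 : r < 23746
  · exact allRange_spec e8Comm_10_23684 r (by omega) c12
  by_cases c13 : r < 23808
  · exact allRange_spec e8Comm_10_23746 r (by omega) c13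
  by_cases c14 : r < 23870
  · exact allRange_spec e8Comm_10_23808 r (by omega) c14
  by_cases c15 : r < 23932
  · exact allRange_spec e8Comm_10_23870 r (by omega) c15
  by_cases c16 : r < 23994
  · exact allRange_spec e8Comm_10_23932 r (by omega) c16
  by_cases c17 : r < 24056
  · exact allRange_spec e8Comm_10_23994 r (by omega) c17
  by_cases c18 : r < 24118
  · exact allRange_spec e8Comm_10_24056 r (by omega) c18
  by_cases c19 : r < 24180
  · exact allRange_spec e8Comm_10_24118 r (by omega) c19
  by_cases c20 : r < 24242
  · exact allRange_spec e8Comm_10_24180 r (by omega) c20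
  by_cases c21 : r < 24304
  · exact allRange_spec e8Comm_10_24242 r (by omega) c21
  by_cases c22 : r < 24366
  · exact allRange_spec e8Comm_10_24304 r (by omega) c22
  by_cases c23 : r < 24428
  · exact allRange_spec e8Comm_10_24366 r (by omega) c23
  by_cases c24 : r < 24490
  · exact allRange_spec e8Comm_10_24428 r (by omega) c24
  by_cases c25 : r < 24552
  · exact allRange_spec e8Comm_10_24490 r (by omega) c25
  by_cases c26 : r < 24614
  · exact allRange_spec e8Comm_10_24552 r (by omega) c26
  by_cases c27 : r < 24676
  · exact allRange_spec e8Comm_10_24614 r (by omega) c27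
  by_cases c28 : r < 24738
  · exact allRange_spec e8Comm_10_24676 r (by omega) c28
  by_cases c29 : r < 24800
  · exact allRange_spec e8Comm_10_24738 r (by omega) c29
  by_cases c30 : r < 24862
  · exact allRange_spec e8Comm_10_24800 r (by omega) c30
  by_cases c31 : r < 24924
  · exact allRange_spec e8Comm_10_24862 r (by omega) c31
  by_cases c32 : r < 24986
  · exact allRange_spec e8Comm_10_24924 r (by omega) c32
  by_cases c33 : r < 25048
  · exact allRange_spec e8Comm_10_24986 r (by omega) c33
  by_cases c34 : r < 25110
  · exact allRange_spec e8Comm_10_25048 r (by omega) c34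
  by_cases c35 : r < 25172
  · exact allRange_spec e8Comm_10_25110 r (by omega) c35
  exact allRange_spec e8Comm_10_25172 r (by omega) h2

end Cfsg.Agent.Lib.Helper3.ChevM
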