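import Cfsg.Agent.Lib.Helper3.ChevData.E8Rel
import Cfsg.Agent.Lib.Helper3.ChevData.E8Wit
set_option autoImplicit false
set_option maxRecDepth 1000000
set_option Elab.async false

namespace Cfsg.Agent.Lib.Helper3.ChevM

theorem e8Comm_21_48174 : allRange 48174 48236 ((fun k => commOKk cdE8 reflE8 etaE8 witE8 (k / 240) (k % 240))) = true := by decide +kernel
theorem e8Comm_21_48236 : allRange 48236 48298 ((fun k => commOKk cdE8 reflE8 etaE8 witE8 (k / 240) (k % 240))) = true := by decide +kernel
theorem e8Comm_21_48298 : allRange 48298 48360 ((fun k => commOKk cdE8 reflE8 etaE8 witE8 (k / 240) (k % 240))) = true := by decide +kernel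
theorem e8Comm_21_48360 : allRange 48360 48422 ((fun k => commOKk cdE8 reflE8 etaE8 witE8 (k / 240) (k % 240))) = true := by decide +kernel
theorem e8Comm_21_48422 : allRange 48422 48484 ((fun k => commOKk cdE8 reflE8 etaE8 witE8 (k / 240) (k % 240))) = true := by decide +kernel
theorem e8Comm_21_48484 : allRange 48484 48546 ((fun k => commOKk cdE8 reflE8 etaE8 witE8 (k / 240) (k % 240))) = true := by decide +kernel
theorem e8Comm_21_48546 : allRange 48546 48608 ((fun k => commOKk cdE8 reflE8 etaE8 witE8 (k / 240) (k % 240))) = true := by decide +kernel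
theorem e8Comm_21_48608 : allRange 48608 48670 ((fun k => commOKk cdE8 reflE8 etaE8 witE8 (k / 240) (k % 240))) = true := by decide +kernel
theorem e8Comm_21_48670 : allRange 48670 48732 ((fun k => commOKk cdE8 reflE8 etaE8 witE8 (k / 240) (k % 240))) = true := by decide +kernel
theorem e8Comm_21_48732 : allRange 48732 48794 ((fun k => commOKk cdE8 reflE8 etaE8 witE8 (k / 240) (k % 240))) = true := by decide +kernel
theorem e8Comm_21_48794 : allRange 48794 48856 ((fun k => commOKk cdE8 reflE8 etaE8 witE8 (k / 240) (k % 240))) = true := by decide +kernel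
theorem e8Comm_21_48856 : allRange 48856 48918 ((fun k => commOKk cdE8 reflE8 etaE8 witE8 (k / 240) (k % 240))) = true := by decide +kernel
theorem e8Comm_21_48918 : allRange 48918 48980 ((fun k => commOKk cdE8 reflE8 etaE8 witE8 (k / 240) (k % 240))) = true := by decide +kernel
theorem e8Comm_21_48980 : allRange 48980 49042 ((fun k => commOKk cdE8 reflE8 etaE8 witE8 (k / 240) (k % 240))) = true := by decide +kernel
theorem e8Comm_21_49042 : allRange 49042 49104 ((fun k => commOKk cdE8 reflE8 etaE8 witE8 (k / 240) (k % 240))) = true := by decide +kernel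
theorem e8Comm_21_49104 : allRange 49104 49166 ((fun k => commOKk cdE8 reflE8 etaE8 witE8 (k / 240) (k % 240))) = true := by decide +kernel
theorem e8Comm_21_49166 : allRange 49166 49228 ((fun k => commOKk cdE8 reflE8 etaE8 witE8 (k / 240) (k % 240))) = true := by decide +kernel
theorem e8Comm_21_49228 : allRange 49228 49290 ((fun k => commOKk cdE8 reflE8 etaE8 witE8 (k / 240) (k % 240))) = true := by decide +kernel
theorem e8Comm_21_49290 : allRange 49290 49352 ((fun k => commOKk cdE8 reflE8 etaE8 witE8 (k / 240) (k % 240))) = true := by decide +kernel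
theorem e8Comm_21_49352 : allRange 49352 49414 ((fun k => commOKk cdE8 reflE8 etaE8 witE8 (k / 240) (k % 240))) = true := by decide +kernel
theorem e8Comm_21_49414 : allRange 49414 49476 ((fun k => commOKk cdE8 reflE8 etaE8 witE8 (k / 240) (k % 240))) = true := by decide +kernel
theorem e8Comm_21_49476 : allRange 49476 49538 ((fun k => commOKk cdE8 reflE8 etaE8 witE8 (k / 240) (k % 240))) = true := by decide +kernel
theorem e8Comm_21_49538 : allRange 49538 49600 ((fun k => commOKk cdE8 reflE8 etaE8 witE8 (k / 240) (k % 240))) = true := by decide +kernel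
theorem e8Comm_21_49600 : allRange 49600 49662 ((fun k => commOKk cdE8 reflE8 etaE8 witE8 (k / 240) (k % 240))) = true := by decide +kernel
theorem e8Comm_21_49662 : allRange 49662 49724 ((fun k => commOKk cdE8 reflE8 etaE8 witE8 (k / 240) (k % 240))) = true := by decide +kernel
theorem e8Comm_21_49724 : allRange 49724 49786 ((fun k => commOKk cdE8 reflE8 etaE8 witE8 (k / 240) (k % 240))) = true := by decide +kernel
theorem e8Comm_21_49786 : allRange 49786 49848 ((fun k => commOKk cdE8 reflE8 etaE8 witE8 (k / 240) (k % 240))) = true := by decide +kernel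
theorem e8Comm_21_49848 : allRange 49848 49910 ((fun k => commOKk cdE8 reflE8 etaE8 witE8 (k / 240) (k % 240))) = true := by decide +kernel
theorem e8Comm_21_49910 : allRange 49910 49972 ((fun k => commOKk cdE8 reflE8 etaE8 witE8 (k / 240) (k % 240))) = true := by decide +kernel
theorem e8Comm_21_49972 : allRange 49972 50034 ((fun k => commOKk cdE8 reflE8 etaE8 witE8 (k / 240) (k % 240))) = true := by decide +kernel
theorem e8Comm_21_50034 : allRange 50034 50096 ((fun k => commOKk cdE8 reflE8 etaE8 witE8 (k / 240) (k % 240))) = true := by decide +kernel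
theorem e8Comm_21_50096 : allRange 50096 50158 ((fun k => commOKk cdE8 reflE8 etaE8 witE8 (k / 240) (k % 240))) = true := by decide +kernel
theorem e8Comm_21_50158 : allRange 50158 50220 ((fun k => commOKk cdE8 reflE8 etaE8 witE8 (k / 240) (k % 240))) = true := by decide +kernel
theorem e8Comm_21_50220 : allRange 50220 50282 ((fun k => commOKk cdE8 reflE8 etaE8 witE8 (k / 240) (k % 240))) = true := by decide +kernel
theorem e8Comm_21_50282 : allRange 50282 50344 ((fun k => commOKk cdE8 reflE8 etaE8 witE8 (k / 240) (k % 240))) = true := by decide +kernel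
theorem e8Comm_21_50344 : allRange 50344 50406 ((fun k => commOKk cdE8 reflE8 etaE8 witE8 (k / 240) (k % 240))) = true := by decide +kernel
theorem e8Comm_21_50406 : allRange 50406 50468 ((fun k => commOKk cdE8 reflE8 etaE8 witE8 (k / 240) (k % 240))) = true := by decide +kernel

/-- Steps of the derivation of the commutator formula of type E8 (roots 48174 to 50467). -/
theorem e8Comm_21 : ∀ r, 48174 ≤ r → r < 50468 → ((fun k => commOKk cdE8 reflE8 etaE8 witE8 (k / 240) (k % 240))) r = true := by
  intro r h1 h2
  by_cases c0 : r < 48236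
  · exact allRange_spec e8Comm_21_48174 r (by omega) c0
  by_cases c1 : r < 48298
  · exact allRange_spec e8Comm_21_48236 r (by omega) c1
  by_cases c2 : r < 48360
  · exact allRange_spec e8Comm_21_48298 r (by omega) c2
  by_cases c3 : r < 48422
  · exact allRange_spec e8Comm_21_48360 r (by omega) c3
  by_cases c4 : r < 48484
  · exact allRange_spec e8Comm_21_48422 r (by omega) c4
  by_cases c5 : r < 48546
  · exact allRange_spec e8Comm_21_48484 r (by omega) c5
  by_cases c6 : r < 48608
  · exact allRange_spec e8Comm_21_48546 r (by omega) c6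
  by_cases c7 : r < 48670
  · exact allRange_spec e8Comm_21_48608 r (by omega) c7
  by_cases c8 : r < 48732
  · exact allRange_spec e8Comm_21_48670 r (by omega) c8
  by_cases c9 : r < 48794
  · exact allRange_spec e8Comm_21_48732 r (by omega) c9
  by_cases c10 : r < 48856
  · exact allRange_spec e8Comm_21_48794 r (by omega) c10
  by_cases c11 : r < 48918
  · exact allRange_spec e8Comm_21_48856 r (by omega) c11
  by_cases c12 : r < 48980
  · exact allRange_spec e8Comm_21_48918 r (by omega) c12
  by_cases c13 : r < 49042
  · exact allRange_spec e8Comm_21_48980 r (by omega) c13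
  by_cases c14 : r < 49104
  · exact allRange_spec e8Comm_21_49042 r (by omega) c14
  by_cases c15 : r < 49166
  · exact allRange_spec e8Comm_21_49104 r (by omega) c15
  by_cases c16 : r < 49228
  · exact allRange_spec e8Comm_21_49166 r (by omega) c16
  by_cases c17 : r < 49290
  · exact allRange_spec e8Comm_21_49228 r (by omega) c17
  by_cases c18 : r < 49352
  · exact allRange_spec e8Comm_21_49290 r (by omega) c18
  by_cases c19 : r < 49414
  · exact allRange_spec e8Comm_21_49352 r (by omega) c19
  by_cases c20 : r < 49476
  · exact allRange_spec e8Comm_21_49414 r (by omega) c20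
  by_cases c21 : r < 49538
  · exact allRange_spec e8Comm_21_49476 r (by omega) c21
  by_cases c22 : r < 49600
  · exact allRange_spec e8Comm_21_49538 r (by omega) c22
  by_cases c23 : r < 49662
  · exact allRange_spec e8Comm_21_49600 r (by omega) c23
  by_cases c24 : r < 49724
  · exact allRange_spec e8Comm_21_49662 r (by omega) c24
  by_cases c25 : r < 49786
  · exact allRange_spec e8Comm_21_49724 r (by omega) c25
  by_cases c26 : r < 49848
  · exact allRange_spec e8Comm_21_49786 r (by omega) c26
  by_cases c27 : r < 49910
  · exact allRange_spec e8Comm_21_49848 r (by omega) c27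
  by_cases c28 : r < 49972
  · exact allRange_spec e8Comm_21_49910 r (by omega) c28
  by_cases c29 : r < 50034
  · exact allRange_spec e8Comm_21_49972 r (by omega) c29
  by_cases c30 : r < 50096
  · exact allRange_spec e8Comm_21_50034 r (by omega) c30
  by_cases c31 : r < 50158
  · exact allRange_spec e8Comm_21_50096 r (by omega) c31
  by_cases c32 : r < 50220
  · exact allRange_spec e8Comm_21_50158 r (by omega) c32
  by_cases c33 : r < 50282
  · exact allRange_spec e8Comm_21_50220 r (by omega) c33
  by_cases c34 : r < 50344
  · exact allRange_spec e8Comm_21_50282 r (by omega) c34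
  by_cases c35 : r < 50406
  · exact allRange_spec e8Comm_21_50344 r (by omega) c35
  exact allRange_spec e8Comm_21_50406 r (by omega) h2

end Cfsg.Agent.Lib.Helper3.ChevM
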