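import Cfsg.Agent.Lib.Helper3.ChevData.E8Datum
import Cfsg.Agent.Lib.Helper3.ChevData.E8Tabs
import Cfsg.Agent.Lib.Helper3.ChevM7
set_option autoImplicit false
set_option maxRecDepth 1000000
set_option Elab.async false

namespace Cfsg.Agent.Lib.Helper3.ChevM

theorem e8Conj_0_0 : allRange 0 3 ((fun k => cdE8.checkConj (k / 240) (cdE8.cartI pairE8 (k / 240)) (reflE8 (k / 240)) (etaE8 (k / 240)) (k % 240))) = true := by decide +kernel
theorem e8Conj_0_3 : allRange 3 6 ((fun k => cdE8.checkConj (k / 240) (cdE8.cartI pairE8 (k / 240)) (reflE8 (k / 240)) (etaE8 (k / 240)) (k % 240))) = true := by decide +kernel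
theorem e8Conj_0_6 : allRange 6 9 ((fun k => cdE8.checkConj (k / 240) (cdE8.cartI pairE8 (k / 240)) (reflE8 (k / 240)) (etaE8 (k / 240)) (k % 240))) = true := by decide +kernel
theorem e8Conj_0_9 : allRange 9 12 ((fun k => cdE8.checkConj (k / 240) (cdE8.cartI pairE8 (k / 240)) (reflE8 (k / 240)) (etaE8 (k / 240)) (k % 240))) = true := by decide +kernel
theorem e8Conj_0_12 : allRange 12 15 ((fun k => cdE8.checkConj (k / 240) (cdE8.cartI pairE8 (k / 240)) (reflE8 (k / 240)) (etaE8 (k / 240)) (k % 240))) = true := by decide +kernel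
theorem e8Conj_0_15 : allRange 15 18 ((fun k => cdE8.checkConj (k / 240) (cdE8.cartI pairE8 (k / 240)) (reflE8 (k / 240)) (etaE8 (k / 240)) (k % 240))) = true := by decide +kernel
theorem e8Conj_0_18 : allRange 18 21 ((fun k => cdE8.checkConj (k / 240) (cdE8.cartI pairE8 (k / 240)) (reflE8 (k / 240)) (etaE8 (k / 240)) (k % 240))) = true := by decide +kernel
theorem e8Conj_0_21 : allRange 21 24 ((fun k => cdE8.checkConj (k / 240) (cdE8.cartI pairE8 (k / 240)) (reflE8 (k / 240)) (etaE8 (k / 240)) (k % 240))) = true := by decide +kernel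
theorem e8Conj_0_24 : allRange 24 27 ((fun k => cdE8.checkConj (k / 240) (cdE8.cartI pairE8 (k / 240)) (reflE8 (k / 240)) (etaE8 (k / 240)) (k % 240))) = true := by decide +kernel
theorem e8Conj_0_27 : allRange 27 30 ((fun k => cdE8.checkConj (k / 240) (cdE8.cartI pairE8 (k / 240)) (reflE8 (k / 240)) (etaE8 (k / 240)) (k % 240))) = true := by decide +kernel
theorem e8Conj_0_30 : allRange 30 33 ((fun k => cdE8.checkConj (k / 240) (cdE8.cartI pairE8 (k / 240)) (reflE8 (k / 240)) (etaE8 (k / 240)) (k % 240))) = true := by decide +kernel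
theorem e8Conj_0_33 : allRange 33 36 ((fun k => cdE8.checkConj (k / 240) (cdE8.cartI pairE8 (k / 240)) (reflE8 (k / 240)) (etaE8 (k / 240)) (k % 240))) = true := by decide +kernel
theorem e8Conj_0_36 : allRange 36 39 ((fun k => cdE8.checkConj (k / 240) (cdE8.cartI pairE8 (k / 240)) (reflE8 (k / 240)) (etaE8 (k / 240)) (k % 240))) = true := by decide +kernel
theorem e8Conj_0_39 : allRange 39 42 ((fun k => cdE8.checkConj (k / 240) (cdE8.cartI pairE8 (k / 240)) (reflE8 (k / 240)) (etaE8 (k / 240)) (k % 240))) = true := by decide +kernel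
theorem e8Conj_0_42 : allRange 42 45 ((fun k => cdE8.checkConj (k / 240) (cdE8.cartI pairE8 (k / 240)) (reflE8 (k / 240)) (etaE8 (k / 240)) (k % 240))) = true := by decide +kernel
theorem e8Conj_0_45 : allRange 45 48 ((fun k => cdE8.checkConj (k / 240) (cdE8.cartI pairE8 (k / 240)) (reflE8 (k / 240)) (etaE8 (k / 240)) (k % 240))) = true := by decide +kernel
theorem e8Conj_0_48 : allRange 48 51 ((fun k => cdE8.checkConj (k / 240) (cdE8.cartI pairE8 (k / 240)) (reflE8 (k / 240)) (etaE8 (k / 240)) (k % 240))) = true := by decide +kernel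
theorem e8Conj_0_51 : allRange 51 54 ((fun k => cdE8.checkConj (k / 240) (cdE8.cartI pairE8 (k / 240)) (reflE8 (k / 240)) (etaE8 (k / 240)) (k % 240))) = true := by decide +kernel
theorem e8Conj_0_54 : allRange 54 57 ((fun k => cdE8.checkConj (k / 240) (cdE8.cartI pairE8 (k / 240)) (reflE8 (k / 240)) (etaE8 (k / 240)) (k % 240))) = true := by decide +kernel
theorem e8Conj_0_57 : allRange 57 60 ((fun k => cdE8.checkConj (k / 240) (cdE8.cartI pairE8 (k / 240)) (reflE8 (k / 240)) (etaE8 (k / 240)) (k % 240))) = true := by decide +kernel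
theorem e8Conj_0_60 : allRange 60 63 ((fun k => cdE8.checkConj (k / 240) (cdE8.cartI pairE8 (k / 240)) (reflE8 (k / 240)) (etaE8 (k / 240)) (k % 240))) = true := by decide +kernel
theorem e8Conj_0_63 : allRange 63 66 ((fun k => cdE8.checkConj (k / 240) (cdE8.cartI pairE8 (k / 240)) (reflE8 (k / 240)) (etaE8 (k / 240)) (k % 240))) = true := by decide +kernel
theorem e8Conj_0_66 : allRange 66 69 ((fun k => cdE8.checkConj (k / 240) (cdE8.cartI pairE8 (k / 240)) (reflE8 (k / 240)) (etaE8 (k / 240)) (k % 240))) = true := by decide +kernel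
theorem e8Conj_0_69 : allRange 69 72 ((fun k => cdE8.checkConj (k / 240) (cdE8.cartI pairE8 (k / 240)) (reflE8 (k / 240)) (etaE8 (k / 240)) (k % 240))) = true := by decide +kernel
theorem e8Conj_0_72 : allRange 72 75 ((fun k => cdE8.checkConj (k / 240) (cdE8.cartI pairE8 (k / 240)) (reflE8 (k / 240)) (etaE8 (k / 240)) (k % 240))) = true := by decide +kernel
theorem e8Conj_0_75 : allRange 75 78 ((fun k => cdE8.checkConj (k / 240) (cdE8.cartI pairE8 (k / 240)) (reflE8 (k / 240)) (etaE8 (k / 240)) (k % 240))) = true := by decide +kernel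
theorem e8Conj_0_78 : allRange 78 81 ((fun k => cdE8.checkConj (k / 240) (cdE8.cartI pairE8 (k / 240)) (reflE8 (k / 240)) (etaE8 (k / 240)) (k % 240))) = true := by decide +kernel
theorem e8Conj_0_81 : allRange 81 84 ((fun k => cdE8.checkConj (k / 240) (cdE8.cartI pairE8 (k / 240)) (reflE8 (k / 240)) (etaE8 (k / 240)) (k % 240))) = true := by decide +kernel
theorem e8Conj_0_84 : allRange 84 87 ((fun k => cdE8.checkConj (k / 240) (cdE8.cartI pairE8 (k / 240)) (reflE8 (k / 240)) (etaE8 (k / 240)) (k % 240))) = true := by decide +kernel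
theorem e8Conj_0_87 : allRange 87 90 ((fun k => cdE8.checkConj (k / 240) (cdE8.cartI pairE8 (k / 240)) (reflE8 (k / 240)) (etaE8 (k / 240)) (k % 240))) = true := by decide +kernel
theorem e8Conj_0_90 : allRange 90 93 ((fun k => cdE8.checkConj (k / 240) (cdE8.cartI pairE8 (k / 240)) (reflE8 (k / 240)) (etaE8 (k / 240)) (k % 240))) = true := by decide +kernel
theorem e8Conj_0_93 : allRange 93 96 ((fun k => cdE8.checkConj (k / 240) (cdE8.cartI pairE8 (k / 240)) (reflE8 (k / 240)) (etaE8 (k / 240)) (k % 240))) = true := by decide +kernel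
theorem e8Conj_0_96 : allRange 96 99 ((fun k => cdE8.checkConj (k / 240) (cdE8.cartI pairE8 (k / 240)) (reflE8 (k / 240)) (etaE8 (k / 240)) (k % 240))) = true := by decide +kernel
theorem e8Conj_0_99 : allRange 99 102 ((fun k => cdE8.checkConj (k / 240) (cdE8.cartI pairE8 (k / 240)) (reflE8 (k / 240)) (etaE8 (k / 240)) (k % 240))) = true := by decide +kernel
theorem e8Conj_0_102 : allRange 102 105 ((fun k => cdE8.checkConj (k / 240) (cdE8.cartI pairE8 (k / 240)) (reflE8 (k / 240)) (etaE8 (k / 240)) (k % 240))) = true := by decide +kernel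
theorem e8Conj_0_105 : allRange 105 108 ((fun k => cdE8.checkConj (k / 240) (cdE8.cartI pairE8 (k / 240)) (reflE8 (k / 240)) (etaE8 (k / 240)) (k % 240))) = true := by decide +kernel
theorem e8Conj_0_108 : allRange 108 111 ((fun k => cdE8.checkConj (k / 240) (cdE8.cartI pairE8 (k / 240)) (reflE8 (k / 240)) (etaE8 (k / 240)) (k % 240))) = true := by decide +kernel
theorem e8Conj_0_111 : allRange 111 114 ((fun k => cdE8.checkConj (k / 240) (cdE8.cartI pairE8 (k / 240)) (reflE8 (k / 240)) (etaE8 (k / 240)) (k % 240))) = true := by decide +kernel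
theorem e8Conj_0_114 : allRange 114 117 ((fun k => cdE8.checkConj (k / 240) (cdE8.cartI pairE8 (k / 240)) (reflE8 (k / 240)) (etaE8 (k / 240)) (k % 240))) = true := by decide +kernel
theorem e8Conj_0_117 : allRange 117 120 ((fun k => cdE8.checkConj (k / 240) (cdE8.cartI pairE8 (k / 240)) (reflE8 (k / 240)) (etaE8 (k / 240)) (k % 240))) = true := by decide +kernel

/-- Conjugation of root elements by the `n_p` of type E8 (roots 0 to 119). -/
theorem e8Conj_0 : ∀ r, 0 ≤ r → r < 120 → ((fun k => cdE8.checkConj (k / 240) (cdE8.cartI pairE8 (k / 240)) (reflE8 (k / 240)) (etaE8 (k / 240)) (k % 240))) r = true := by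
  intro r h1 h2
  by_cases c0 : r < 3
  · exact allRange_spec e8Conj_0_0 r (by omega) c0
  by_cases c1 : r < 6
  · exact allRange_spec e8Conj_0_3 r (by omega) c1
  by_cases c2 : r < 9
  · exact allRange_spec e8Conj_0_6 r (by omega) c2
  by_cases c3 : r < 12
  · exact allRange_spec e8Conj_0_9 r (by omega) c3
  by_cases c4 : r < 15
  · exact allRange_spec e8Conj_0_12 r (by omega) c4
  by_cases c5 : r < 18
  · exact allRange_spec e8Conj_0_15 r (by omega) c5
  by_cases c6 : r < 21
  · exact allRange_spec e8Conj_0_18 r (by omega) c6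
  by_cases c7 : r < 24
  · exact allRange_spec e8Conj_0_21 r (by omega) c7
  by_cases c8 : r < 27
  · exact allRange_spec e8Conj_0_24 r (by omega) c8
  by_cases c9 : r < 30
  · exact allRange_spec e8Conj_0_27 r (by omega) c9
  by_cases c10 : r < 33
  · exact allRange_spec e8Conj_0_30 r (by omega) c10
  by_cases c11 : r < 36
  · exact allRange_spec e8Conj_0_33 r (by omega) c11
  by_cases c12 : r < 39
  · exact allRange_spec e8Conj_0_36 r (by omega) c12
  by_cases c13 : r < 42
  · exact allRange_spec e8Conj_0_39 r (by omega) c13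
  by_cases c14 : r < 45
  · exact allRange_spec e8Conj_0_42 r (by omega) c14
  by_cases c15 : r < 48
  · exact allRange_spec e8Conj_0_45 r (by omega) c15
  by_cases c16 : r < 51
  · exact allRange_spec e8Conj_0_48 r (by omega) c16
  by_cases c17 : r < 54
  · exact allRange_spec e8Conj_0_51 r (by omega) c17
  by_cases c18 : r < 57
  · exact allRange_spec e8Conj_0_54 r (by omega) c18
  by_cases c19 : r < 60
  · exact allRange_spec e8Conj_0_57 r (by omega) c19
  by_cases c20 : r < 63
  · exact allRange_spec e8Conj_0_60 r (by omega) c20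
  by_cases c21 : r < 66
  · exact allRange_spec e8Conj_0_63 r (by omega) c21
  by_cases c22 : r < 69
  · exact allRange_spec e8Conj_0_66 r (by omega) c22
  by_cases c23 : r < 72
  · exact allRange_spec e8Conj_0_69 r (by omega) c23
  by_cases c24 : r < 75
  · exact allRange_spec e8Conj_0_72 r (by omega) c24
  by_cases c25 : r < 78
  · exact allRange_spec e8Conj_0_75 r (by omega) c25
  by_cases c26 : r < 81
  · exact allRange_spec e8Conj_0_78 r (by omega) c26
  by_cases c27 : r < 84
  · exact allRange_spec e8Conj_0_81 r (by omega) c27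
  by_cases c28 : r < 87
  · exact allRange_spec e8Conj_0_84 r (by omega) c28
  by_cases c29 : r < 90
  · exact allRange_spec e8Conj_0_87 r (by omega) c29
  by_cases c30 : r < 93
  · exact allRange_spec e8Conj_0_90 r (by omega) c30
  by_cases c31 : r < 96
  · exact allRange_spec e8Conj_0_93 r (by omega) c31
  by_cases c32 : r < 99
  · exact allRange_spec e8Conj_0_96 r (by omega) c32
  by_cases c33 : r < 102
  · exact allRange_spec e8Conj_0_99 r (by omega) c33
  by_cases c34 : r < 105
  · exact allRange_spec e8Conj_0_102 r (by omega) c34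
  by_cases c35 : r < 108
  · exact allRange_spec e8Conj_0_105 r (by omega) c35
  by_cases c36 : r < 111
  · exact allRange_spec e8Conj_0_108 r (by omega) c36
  by_cases c37 : r < 114
  · exact allRange_spec e8Conj_0_111 r (by omega) c37
  by_cases c38 : r < 117
  · exact allRange_spec e8Conj_0_114 r (by omega) c38
  exact allRange_spec e8Conj_0_117 r (by omega) h2

end Cfsg.Agent.Lib.Helper3.ChevM
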