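import Cfsg.Agent.Lib.Helper3.ChevData.E8Datum
import Cfsg.Agent.Lib.Helper3.ChevData.E8Tabs
import Cfsg.Agent.Lib.Helper3.ChevM7
set_option autoImplicit false
set_option maxRecDepth 1000000
set_option Elab.async false

namespace Cfsg.Agent.Lib.Helper3.ChevM

theorem e8Conj_10_1200 : allRange 1200 1203 ((fun k => cdE8.checkConj (k / 240) (cdE8.cartI pairE8 (k / 240)) (reflE8 (k / 240)) (etaE8 (k / 240)) (k % 240))) = true := by decide +kernel
theorem e8Conj_10_1203 : allRange 1203 1206 ((fun k => cdE8.checkConj (k / 240) (cdE8.cartI pairE8 (k / 240)) (reflE8 (k / 240)) (etaE8 (k / 240)) (k % 240))) = true := by decide +kernel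
theorem e8Conj_10_1206 : allRange 1206 1209 ((fun k => cdE8.checkConj (k / 240) (cdE8.cartI pairE8 (k / 240)) (reflE8 (k / 240)) (etaE8 (k / 240)) (k % 240))) = true := by decide +kernel
theorem e8Conj_10_1209 : allRange 1209 1212 ((fun k => cdE8.checkConj (k / 240) (cdE8.cartI pairE8 (k / 240)) (reflE8 (k / 240)) (etaE8 (k / 240)) (k % 240))) = true := by decide +kernel
theorem e8Conj_10_1212 : allRange 1212 1215 ((fun k => cdE8.checkConj (k / 240) (cdE8.cartI pairE8 (k / 240)) (reflE8 (k / 240)) (etaE8 (k / 240)) (k % 240))) = true := by decide +kernel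
theorem e8Conj_10_1215 : allRange 1215 1218 ((fun k => cdE8.checkConj (k / 240) (cdE8.cartI pairE8 (k / 240)) (reflE8 (k / 240)) (etaE8 (k / 240)) (k % 240))) = true := by decide +kernel
theorem e8Conj_10_1218 : allRange 1218 1221 ((fun k => cdE8.checkConj (k / 240) (cdE8.cartI pairE8 (k / 240)) (reflE8 (k / 240)) (etaE8 (k / 240)) (k % 240))) = true := by decide +kernel
theorem e8Conj_10_1221 : allRange 1221 1224 ((fun k => cdE8.checkConj (k / 240) (cdE8.cartI pairE8 (k / 240)) (reflE8 (k / 240)) (etaE8 (k / 240)) (k % 240))) = true := by decide +kernel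
theorem e8Conj_10_1224 : allRange 1224 1227 ((fun k => cdE8.checkConj (k / 240) (cdE8.cartI pairE8 (k / 240)) (reflE8 (k / 240)) (etaE8 (k / 240)) (k % 240))) = true := by decide +kernel
theorem e8Conj_10_1227 : allRange 1227 1230 ((fun k => cdE8.checkConj (k / 240) (cdE8.cartI pairE8 (k / 240)) (reflE8 (k / 240)) (etaE8 (k / 240)) (k % 240))) = true := by decide +kernel
theorem e8Conj_10_1230 : allRange 1230 1233 ((fun k => cdE8.checkConj (k / 240) (cdE8.cartI pairE8 (k / 240)) (reflE8 (k / 240)) (etaE8 (k / 240)) (k % 240))) = true := by decide +kernel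
theorem e8Conj_10_1233 : allRange 1233 1236 ((fun k => cdE8.checkConj (k / 240) (cdE8.cartI pairE8 (k / 240)) (reflE8 (k / 240)) (etaE8 (k / 240)) (k % 240))) = true := by decide +kernel
theorem e8Conj_10_1236 : allRange 1236 1239 ((fun k => cdE8.checkConj (k / 240) (cdE8.cartI pairE8 (k / 240)) (reflE8 (k / 240)) (etaE8 (k / 240)) (k % 240))) = true := by decide +kernel
theorem e8Conj_10_1239 : allRange 1239 1242 ((fun k => cdE8.checkConj (k / 240) (cdE8.cartI pairE8 (k / 240)) (reflE8 (k / 240)) (etaE8 (k / 240)) (k % 240))) = true := by decide +kernel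
theorem e8Conj_10_1242 : allRange 1242 1245 ((fun k => cdE8.checkConj (k / 240) (cdE8.cartI pairE8 (k / 240)) (reflE8 (k / 240)) (etaE8 (k / 240)) (k % 240))) = true := by decide +kernel
theorem e8Conj_10_1245 : allRange 1245 1248 ((fun k => cdE8.checkConj (k / 240) (cdE8.cartI pairE8 (k / 240)) (reflE8 (k / 240)) (etaE8 (k / 240)) (k % 240))) = true := by decide +kernel
theorem e8Conj_10_1248 : allRange 1248 1251 ((fun k => cdE8.checkConj (k / 240) (cdE8.cartI pairE8 (k / 240)) (reflE8 (k / 240)) (etaE8 (k / 240)) (k % 240))) = true := by decide +kernel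
theorem e8Conj_10_1251 : allRange 1251 1254 ((fun k => cdE8.checkConj (k / 240) (cdE8.cartI pairE8 (k / 240)) (reflE8 (k / 240)) (etaE8 (k / 240)) (k % 240))) = true := by decide +kernel
theorem e8Conj_10_1254 : allRange 1254 1257 ((fun k => cdE8.checkConj (k / 240) (cdE8.cartI pairE8 (k / 240)) (reflE8 (k / 240)) (etaE8 (k / 240)) (k % 240))) = true := by decide +kernel
theorem e8Conj_10_1257 : allRange 1257 1260 ((fun k => cdE8.checkConj (k / 240) (cdE8.cartI pairE8 (k / 240)) (reflE8 (k / 240)) (etaE8 (k / 240)) (k % 240))) = true := by decide +kernel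
theorem e8Conj_10_1260 : allRange 1260 1263 ((fun k => cdE8.checkConj (k / 240) (cdE8.cartI pairE8 (k / 240)) (reflE8 (k / 240)) (etaE8 (k / 240)) (k % 240))) = true := by decide +kernel
theorem e8Conj_10_1263 : allRange 1263 1266 ((fun k => cdE8.checkConj (k / 240) (cdE8.cartI pairE8 (k / 240)) (reflE8 (k / 240)) (etaE8 (k / 240)) (k % 240))) = true := by decide +kernel
theorem e8Conj_10_1266 : allRange 1266 1269 ((fun k => cdE8.checkConj (k / 240) (cdE8.cartI pairE8 (k / 240)) (reflE8 (k / 240)) (etaE8 (k / 240)) (k % 240))) = true := by decide +kernel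
theorem e8Conj_10_1269 : allRange 1269 1272 ((fun k => cdE8.checkConj (k / 240) (cdE8.cartI pairE8 (k / 240)) (reflE8 (k / 240)) (etaE8 (k / 240)) (k % 240))) = true := by decide +kernel
theorem e8Conj_10_1272 : allRange 1272 1275 ((fun k => cdE8.checkConj (k / 240) (cdE8.cartI pairE8 (k / 240)) (reflE8 (k / 240)) (etaE8 (k / 240)) (k % 240))) = true := by decide +kernel
theorem e8Conj_10_1275 : allRange 1275 1278 ((fun k => cdE8.checkConj (k / 240) (cdE8.cartI pairE8 (k / 240)) (reflE8 (k / 240)) (etaE8 (k / 240)) (k % 240))) = true := by decide +kernel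
theorem e8Conj_10_1278 : allRange 1278 1281 ((fun k => cdE8.checkConj (k / 240) (cdE8.cartI pairE8 (k / 240)) (reflE8 (k / 240)) (etaE8 (k / 240)) (k % 240))) = true := by decide +kernel
theorem e8Conj_10_1281 : allRange 1281 1284 ((fun k => cdE8.checkConj (k / 240) (cdE8.cartI pairE8 (k / 240)) (reflE8 (k / 240)) (etaE8 (k / 240)) (k % 240))) = true := by decide +kernel
theorem e8Conj_10_1284 : allRange 1284 1287 ((fun k => cdE8.checkConj (k / 240) (cdE8.cartI pairE8 (k / 240)) (reflE8 (k / 240)) (etaE8 (k / 240)) (k % 240))) = true := by decide +kernel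
theorem e8Conj_10_1287 : allRange 1287 1290 ((fun k => cdE8.checkConj (k / 240) (cdE8.cartI pairE8 (k / 240)) (reflE8 (k / 240)) (etaE8 (k / 240)) (k % 240))) = true := by decide +kernel
theorem e8Conj_10_1290 : allRange 1290 1293 ((fun k => cdE8.checkConj (k / 240) (cdE8.cartI pairE8 (k / 240)) (reflE8 (k / 240)) (etaE8 (k / 240)) (k % 240))) = true := by decide +kernel
theorem e8Conj_10_1293 : allRange 1293 1296 ((fun k => cdE8.checkConj (k / 240) (cdE8.cartI pairE8 (k / 240)) (reflE8 (k / 240)) (etaE8 (k / 240)) (k % 240))) = true := by decide +kernel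
theorem e8Conj_10_1296 : allRange 1296 1299 ((fun k => cdE8.checkConj (k / 240) (cdE8.cartI pairE8 (k / 240)) (reflE8 (k / 240)) (etaE8 (k / 240)) (k % 240))) = true := by decide +kernel
theorem e8Conj_10_1299 : allRange 1299 1302 ((fun k => cdE8.checkConj (k / 240) (cdE8.cartI pairE8 (k / 240)) (reflE8 (k / 240)) (etaE8 (k / 240)) (k % 240))) = true := by decide +kernel
theorem e8Conj_10_1302 : allRange 1302 1305 ((fun k => cdE8.checkConj (k / 240) (cdE8.cartI pairE8 (k / 240)) (reflE8 (k / 240)) (etaE8 (k / 240)) (k % 240))) = true := by decide +kernel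
theorem e8Conj_10_1305 : allRange 1305 1308 ((fun k => cdE8.checkConj (k / 240) (cdE8.cartI pairE8 (k / 240)) (reflE8 (k / 240)) (etaE8 (k / 240)) (k % 240))) = true := by decide +kernel
theorem e8Conj_10_1308 : allRange 1308 1311 ((fun k => cdE8.checkConj (k / 240) (cdE8.cartI pairE8 (k / 240)) (reflE8 (k / 240)) (etaE8 (k / 240)) (k % 240))) = true := by decide +kernel
theorem e8Conj_10_1311 : allRange 1311 1314 ((fun k => cdE8.checkConj (k / 240) (cdE8.cartI pairE8 (k / 240)) (reflE8 (k / 240)) (etaE8 (k / 240)) (k % 240))) = true := by decide +kernel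
theorem e8Conj_10_1314 : allRange 1314 1317 ((fun k => cdE8.checkConj (k / 240) (cdE8.cartI pairE8 (k / 240)) (reflE8 (k / 240)) (etaE8 (k / 240)) (k % 240))) = true := by decide +kernel
theorem e8Conj_10_1317 : allRange 1317 1320 ((fun k => cdE8.checkConj (k / 240) (cdE8.cartI pairE8 (k / 240)) (reflE8 (k / 240)) (etaE8 (k / 240)) (k % 240))) = true := by decide +kernel

/-- Conjugation of root elements by the `n_p` of type E8 (roots 1200 to 1319). -/
theorem e8Conj_10 : ∀ r, 1200 ≤ r → r < 1320 → ((fun k => cdE8.checkConj (k / 240) (cdE8.cartI pairE8 (k / 240)) (reflE8 (k / 240)) (etaE8 (k / 240)) (k % 240))) r = true := by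
  intro r h1 h2
  by_cases c0 : r < 1203
  · exact allRange_spec e8Conj_10_1200 r (by omega) c0
  by_cases c1 : r < 1206
  · exact allRange_spec e8Conj_10_1203 r (by omega) c1
  by_cases c2 : r < 1209
  · exact allRange_spec e8Conj_10_1206 r (by omega) c2
  by_cases c3 : r < 1212
  · exact allRange_spec e8Conj_10_1209 r (by omega) c3
  by_cases c4 : r < 1215
  · exact allRange_spec e8Conj_10_1212 r (by omega) c4
  by_cases c5 : r < 1218
  · exact allRange_spec e8Conj_10_1215 r (by omega) c5
  by_cases c6 : r < 1221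
  · exact allRange_spec e8Conj_10_1218 r (by omega) c6
  by_cases c7 : r < 1224
  · exact allRange_spec e8Conj_10_1221 r (by omega) c7
  by_cases c8 : r < 1227
  · exact allRange_spec e8Conj_10_1224 r (by omega) c8
  by_cases c9 : r < 1230
  · exact allRange_spec e8Conj_10_1227 r (by omega) c9
  by_cases c10 : r < 1233
  · exact allRange_spec e8Conj_10_1230 r (by omega) c10
  by_cases c11 : r < 1236
  · exact allRange_spec e8Conj_10_1233 r (by omega) c11
  by_cases c12 : r < 1239
  · exact allRange_spec e8Conj_10_1236 r (by omega) c12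
  by_cases c13 : r < 1242
  · exact allRange_spec e8Conj_10_1239 r (by omega) c13
  by_cases c14 : r < 1245
  · exact allRange_spec e8Conj_10_1242 r (by omega) c14
  by_cases c15 : r < 1248
  · exact allRange_spec e8Conj_10_1245 r (by omega) c15
  by_cases c16 : r < 1251
  · exact allRange_spec e8Conj_10_1248 r (by omega) c16
  by_cases c17 : r < 1254
  · exact allRange_spec e8Conj_10_1251 r (by omega) c17
  by_cases c18 : r < 1257
  · exact allRange_spec e8Conj_10_1254 r (by omega) c18
  by_cases c19 : r < 1260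
  · exact allRange_spec e8Conj_10_1257 r (by omega) c19
  by_cases c20 : r < 1263
  · exact allRange_spec e8Conj_10_1260 r (by omega) c20
  by_cases c21 : r < 1266
  · exact allRange_spec e8Conj_10_1263 r (by omega) c21
  by_cases c22 : r < 1269
  · exact allRange_spec e8Conj_10_1266 r (by omega) c22
  by_cases c23 : r < 1272
  · exact allRange_spec e8Conj_10_1269 r (by omega) c23
  by_cases c24 : r < 1275
  · exact allRange_spec e8Conj_10_1272 r (by omega) c24
  by_cases c25 : r < 1278
  · exact allRange_spec e8Conj_10_1275 r (by omega) c25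
  by_cases c26 : r < 1281
  · exact allRange_spec e8Conj_10_1278 r (by omega) c26
  by_cases c27 : r < 1284
  · exact allRange_spec e8Conj_10_1281 r (by omega) c27
  by_cases c28 : r < 1287
  · exact allRange_spec e8Conj_10_1284 r (by omega) c28
  by_cases c29 : r < 1290
  · exact allRange_spec e8Conj_10_1287 r (by omega) c29
  by_cases c30 : r < 1293
  · exact allRange_spec e8Conj_10_1290 r (by omega) c30
  by_cases c31 : r < 1296
  · exact allRange_spec e8Conj_10_1293 r (by omega) c31
  by_cases c32 : r < 1299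
  · exact allRange_spec e8Conj_10_1296 r (by omega) c32
  by_cases c33 : r < 1302
  · exact allRange_spec e8Conj_10_1299 r (by omega) c33
  by_cases c34 : r < 1305
  · exact allRange_spec e8Conj_10_1302 r (by omega) c34
  by_cases c35 : r < 1308
  · exact allRange_spec e8Conj_10_1305 r (by omega) c35
  by_cases c36 : r < 1311
  · exact allRange_spec e8Conj_10_1308 r (by omega) c36
  by_cases c37 : r < 1314
  · exact allRange_spec e8Conj_10_1311 r (by omega) c37
  by_cases c38 : r < 1317
  · exact allRange_spec e8Conj_10_1314 r (by omega) c38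
  exact allRange_spec e8Conj_10_1317 r (by omega) h2

end Cfsg.Agent.Lib.Helper3.ChevM
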