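import Cfsg.Agent.Lib.Helper3.ChevData.E8Bn
import Cfsg.Agent.Lib.Helper3.ChevData.E8Sign
import Cfsg.Agent.Lib.Helper3.ChevData.E8Poin
import Cfsg.Agent.Lib.Helper3.Cox3
set_option autoImplicit false
set_option maxRecDepth 1000000
open Cfsg Cfsg.Lie

namespace Cfsg.Agent.Lib.Helper3.ChevM

/-- The orders of the products of two fundamental reflections of type E8. -/
theorem e8CoxOrd : ∀ i j : Fin cdE8.D.rank,
    wordOrdCheck cdE8.D relE8.refl [i.val, j.val] ((CoxeterMatrix.E₈ : CoxeterMatrix (Fin 8)) i j) = true := by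
  decide +kernel

/-- The order of the Coxeter group of type E8. -/
theorem e8CoxCard : Nat.card (CoxeterMatrix.E₈ : CoxeterMatrix (Fin 8)).Group = 696729600 := by
  refine (monoE8.card_coxeter bnE8.dec e8Sign (CoxeterMatrix.E₈) e8CoxOrd).trans ?_
  rw [e8Poin]
  rfl

/-- The order of the Coxeter element of type E8. -/
theorem e8CoxEl : orderOf ((List.finRange 8).map (CoxeterMatrix.E₈ : CoxeterMatrix (Fin 8)).simple).prod = 30 :=
  monoE8.orderOf_coxeter bnE8.dec e8Sign (CoxeterMatrix.E₈) e8CoxOrd (List.finRange 8) 30 (by decide +kernel)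

/-- The homomorphism from `N` onto the Coxeter group of type E8, with kernel `H`. -/
theorem e8WeylHom {F : Type*} [Field F] :
    ∃ φ : ↥(cdE8.D.monomialSubgroup F) →* (CoxeterMatrix.E₈ : CoxeterMatrix (Fin 8)).Group, Function.Surjective φ ∧
      φ.ker = (cdE8.D.diagonalSubgroup F).subgroupOf (cdE8.D.monomialSubgroup F) ∧
      ∀ (i : Fin 8) (g : ↥(cdE8.D.monomialSubgroup F)),
        ((g : GL cdE8.D.Idx F) : Matrix cdE8.D.Idx cdE8.D.Idx F) = cdE8.D.nMat F (cdE8.D.simple i.val) 1 →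
          φ g = (CoxeterMatrix.E₈ : CoxeterMatrix (Fin 8)).simple i := by
  obtain ⟨φ, h1, h2, h3⟩ := monoE8.exists_weylHom (F := F) bnE8.dec
  let e : monoE8.weyl ≃* (CoxeterMatrix.E₈ : CoxeterMatrix (Fin 8)).Group :=
    monoE8.coxEquiv bnE8.dec e8Sign (CoxeterMatrix.E₈) e8CoxOrd
  refine ⟨e.toMonoidHom.comp φ, e.surjective.comp h1, ?_, ?_⟩
  · rw [← h2]
    ext g
    rw [MonoidHom.mem_ker, MonoidHom.mem_ker, MonoidHom.comp_apply]
    exact (MulEquiv.map_eq_one_iff e)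
  · intro i g hg
    rw [MonoidHom.comp_apply, h3 i g hg]
    exact monoE8.coxEquiv_apply bnE8.dec e8Sign (CoxeterMatrix.E₈) e8CoxOrd i

end Cfsg.Agent.Lib.Helper3.ChevM
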