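import Cfsg.Agent.Lib.Helper3.Cox6
import Cfsg.Agent.Lib.Helper3.ChevData.E8Cox
set_option autoImplicit false
set_option maxRecDepth 1000000
open Cfsg Cfsg.Lie

namespace Cfsg.Agent.Lib.Helper3.ChevM

theorem e8CoxT1 : ∀ i < 8, ∀ s < 240, reflNegCheck cdE8.D relE8.refl i s = true := by
  decide +kernel

theorem e8CoxT2_0 : ((List.range 240).all fun r => (List.range 240).all fun s =>
    pairInvCheck relE8.pair relE8.refl 0 r s) = true := by
  decide +kernel

theorem e8CoxT2_1 : ((List.range 240).all fun r => (List.range 240).all fun s =>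
    pairInvCheck relE8.pair relE8.refl 1 r s) = true := by
  decide +kernel

theorem e8CoxT2_2 : ((List.range 240).all fun r => (List.range 240).all fun s =>
    pairInvCheck relE8.pair relE8.refl 2 r s) = true := by
  decide +kernel

theorem e8CoxT2_3 : ((List.range 240).all fun r => (List.range 240).all fun s =>
    pairInvCheck relE8.pair relE8.refl 3 r s) = true := by
  decide +kernel

theorem e8CoxT2_4 : ((List.range 240).all fun r => (List.range 240).all fun s =>
    pairInvCheck relE8.pair relE8.refl 4 r s) = true := by
  decide +kernel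

theorem e8CoxT2_5 : ((List.range 240).all fun r => (List.range 240).all fun s =>
    pairInvCheck relE8.pair relE8.refl 5 r s) = true := by
  decide +kernel

theorem e8CoxT2_6 : ((List.range 240).all fun r => (List.range 240).all fun s =>
    pairInvCheck relE8.pair relE8.refl 6 r s) = true := by
  decide +kernel

theorem e8CoxT2_7 : ((List.range 240).all fun r => (List.range 240).all fun s =>
    pairInvCheck relE8.pair relE8.refl 7 r s) = true := by
  decide +kernel

theorem e8CoxT2 : ∀ i < 8, ∀ r < 240, ∀ s < 240, pairInvCheck relE8.pair relE8.refl i r s = true := by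
  intro i hi
  interval_cases i
  · exact all_range2 _ _ e8CoxT2_0
  · exact all_range2 _ _ e8CoxT2_1
  · exact all_range2 _ _ e8CoxT2_2
  · exact all_range2 _ _ e8CoxT2_3
  · exact all_range2 _ _ e8CoxT2_4
  · exact all_range2 _ _ e8CoxT2_5
  · exact all_range2 _ _ e8CoxT2_6
  · exact all_range2 _ _ e8CoxT2_7

theorem e8CoxT3 : ∀ i < 8, ∀ j < 8, pairNegCheck cdE8.D relE8.pair i j = true := by
  decide +kernel

theorem e8CoxT4 : connCheck cdE8.D relE8.pair = true := by
  decide +kernel

theorem e8CoxNegW : negWordCheck cdE8.D relE8.refl (List.replicate 15 (List.range 8)).flatten = true := by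
  decide +kernel

end Cfsg.Agent.Lib.Helper3.ChevM
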