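import Cfsg.Prelude.Def_ChevE8
import Cfsg.Agent.Lib.Helper3.ChevData.E8Hd2
import Cfsg.Agent.Lib.Helper3.ChevL2
set_option autoImplicit false
set_option maxRecDepth 1000000
set_option Elab.async false

namespace Cfsg.Agent.Lib.Helper3.ChevM

theorem e8Cv_0_0 : allRange 0 240 (fun k => commVecCheck Cfsg.Lie.chevE8 vecE8 (k / 240) (k % 240)) = true := by decide +kernel
theorem e8Cv_0_240 : allRange 240 480 (fun k => commVecCheck Cfsg.Lie.chevE8 vecE8 (k / 240) (k % 240)) = true := by decide +kernel
theorem e8Cv_0_480 : allRange 480 720 (fun k => commVecCheck Cfsg.Lie.chevE8 vecE8 (k / 240) (k % 240)) = true := by decide +kernel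
theorem e8Cv_0_720 : allRange 720 960 (fun k => commVecCheck Cfsg.Lie.chevE8 vecE8 (k / 240) (k % 240)) = true := by decide +kernel
theorem e8Cv_0_960 : allRange 960 1200 (fun k => commVecCheck Cfsg.Lie.chevE8 vecE8 (k / 240) (k % 240)) = true := by decide +kernel
theorem e8Cv_0_1200 : allRange 1200 1440 (fun k => commVecCheck Cfsg.Lie.chevE8 vecE8 (k / 240) (k % 240)) = true := by decide +kernel
theorem e8Cv_0_1440 : allRange 1440 1680 (fun k => commVecCheck Cfsg.Lie.chevE8 vecE8 (k / 240) (k % 240)) = true := by decide +kernel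
theorem e8Cv_0_1680 : allRange 1680 1920 (fun k => commVecCheck Cfsg.Lie.chevE8 vecE8 (k / 240) (k % 240)) = true := by decide +kernel

/-- The roots of the commutator formula of type E8 are the expected combinations (roots 0 to 1919). -/
theorem e8Cv_0 : ∀ r, 0 ≤ r → r < 1920 → (fun k => commVecCheck Cfsg.Lie.chevE8 vecE8 (k / 240) (k % 240)) r = true := by
  intro r h1 h2
  by_cases c0 : r < 240
  · exact allRange_spec e8Cv_0_0 r (by omega) c0
  by_cases c1 : r < 480
  · exact allRange_spec e8Cv_0_240 r (by omega) c1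
  by_cases c2 : r < 720
  · exact allRange_spec e8Cv_0_480 r (by omega) c2
  by_cases c3 : r < 960
  · exact allRange_spec e8Cv_0_720 r (by omega) c3
  by_cases c4 : r < 1200
  · exact allRange_spec e8Cv_0_960 r (by omega) c4
  by_cases c5 : r < 1440
  · exact allRange_spec e8Cv_0_1200 r (by omega) c5
  by_cases c6 : r < 1680
  · exact allRange_spec e8Cv_0_1440 r (by omega) c6
  exact allRange_spec e8Cv_0_1680 r (by omega) h2

end Cfsg.Agent.Lib.Helper3.ChevM
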