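import Cfsg.Prelude.Def_ChevE8
import Cfsg.Agent.Lib.Helper3.ChevData.E8Hd2
import Cfsg.Agent.Lib.Helper3.ChevL2
set_option autoImplicit false
set_option maxRecDepth 1000000
set_option Elab.async false

namespace Cfsg.Agent.Lib.Helper3.ChevM

theorem e8Cv_10_19200 : allRange 19200 19440 (fun k => commVecCheck Cfsg.Lie.chevE8 vecE8 (k / 240) (k % 240)) = true := by decide +kernel
theorem e8Cv_10_19440 : allRange 19440 19680 (fun k => commVecCheck Cfsg.Lie.chevE8 vecE8 (k / 240) (k % 240)) = true := by decide +kernel
theorem e8Cv_10_19680 : allRange 19680 19920 (fun k => commVecCheck Cfsg.Lie.chevE8 vecE8 (k / 240) (k % 240)) = true := by decide +kernel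
theorem e8Cv_10_19920 : allRange 19920 20160 (fun k => commVecCheck Cfsg.Lie.chevE8 vecE8 (k / 240) (k % 240)) = true := by decide +kernel
theorem e8Cv_10_20160 : allRange 20160 20400 (fun k => commVecCheck Cfsg.Lie.chevE8 vecE8 (k / 240) (k % 240)) = true := by decide +kernel
theorem e8Cv_10_20400 : allRange 20400 20640 (fun k => commVecCheck Cfsg.Lie.chevE8 vecE8 (k / 240) (k % 240)) = true := by decide +kernel
theorem e8Cv_10_20640 : allRange 20640 20880 (fun k => commVecCheck Cfsg.Lie.chevE8 vecE8 (k / 240) (k % 240)) = true := by decide +kernel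
theorem e8Cv_10_20880 : allRange 20880 21120 (fun k => commVecCheck Cfsg.Lie.chevE8 vecE8 (k / 240) (k % 240)) = true := by decide +kernel

/-- The roots of the commutator formula of type E8 are the expected combinations (roots 19200 to 21119). -/
theorem e8Cv_10 : ∀ r, 19200 ≤ r → r < 21120 → (fun k => commVecCheck Cfsg.Lie.chevE8 vecE8 (k / 240) (k % 240)) r = true := by
  intro r h1 h2
  by_cases c0 : r < 19440
  · exact allRange_spec e8Cv_10_19200 r (by omega) c0
  by_cases c1 : r < 19680
  · exact allRange_spec e8Cv_10_19440 r (by omega) c1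
  by_cases c2 : r < 19920
  · exact allRange_spec e8Cv_10_19680 r (by omega) c2
  by_cases c3 : r < 20160
  · exact allRange_spec e8Cv_10_19920 r (by omega) c3
  by_cases c4 : r < 20400
  · exact allRange_spec e8Cv_10_20160 r (by omega) c4
  by_cases c5 : r < 20640
  · exact allRange_spec e8Cv_10_20400 r (by omega) c5
  by_cases c6 : r < 20880
  · exact allRange_spec e8Cv_10_20640 r (by omega) c6
  exact allRange_spec e8Cv_10_20880 r (by omega) h2

end Cfsg.Agent.Lib.Helper3.ChevM
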