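import Cfsg.Prelude.Def_ChevE8
import Cfsg.Agent.Lib.Helper3.ChevData.E8Hd2
import Cfsg.Agent.Lib.Helper3.ChevL2
set_option autoImplicit false
set_option maxRecDepth 1000000
set_option Elab.async false

namespace Cfsg.Agent.Lib.Helper3.ChevM

theorem e8Cv_21_40320 : allRange 40320 40560 (fun k => commVecCheck Cfsg.Lie.chevE8 vecE8 (k / 240) (k % 240)) = true := by decide +kernel
theorem e8Cv_21_40560 : allRange 40560 40800 (fun k => commVecCheck Cfsg.Lie.chevE8 vecE8 (k / 240) (k % 240)) = true := by decide +kernel
theorem e8Cv_21_40800 : allRange 40800 41040 (fun k => commVecCheck Cfsg.Lie.chevE8 vecE8 (k / 240) (k % 240)) = true := by decide +kernel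
theorem e8Cv_21_41040 : allRange 41040 41280 (fun k => commVecCheck Cfsg.Lie.chevE8 vecE8 (k / 240) (k % 240)) = true := by decide +kernel
theorem e8Cv_21_41280 : allRange 41280 41520 (fun k => commVecCheck Cfsg.Lie.chevE8 vecE8 (k / 240) (k % 240)) = true := by decide +kernel
theorem e8Cv_21_41520 : allRange 41520 41760 (fun k => commVecCheck Cfsg.Lie.chevE8 vecE8 (k / 240) (k % 240)) = true := by decide +kernel
theorem e8Cv_21_41760 : allRange 41760 42000 (fun k => commVecCheck Cfsg.Lie.chevE8 vecE8 (k / 240) (k % 240)) = true := by decide +kernel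
theorem e8Cv_21_42000 : allRange 42000 42240 (fun k => commVecCheck Cfsg.Lie.chevE8 vecE8 (k / 240) (k % 240)) = true := by decide +kernel

/-- The roots of the commutator formula of type E8 are the expected combinations (roots 40320 to 42239). -/
theorem e8Cv_21 : ∀ r, 40320 ≤ r → r < 42240 → (fun k => commVecCheck Cfsg.Lie.chevE8 vecE8 (k / 240) (k % 240)) r = true := by
  intro r h1 h2
  by_cases c0 : r < 40560
  · exact allRange_spec e8Cv_21_40320 r (by omega) c0
  by_cases c1 : r < 40800
  · exact allRange_spec e8Cv_21_40560 r (by omega) c1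
  by_cases c2 : r < 41040
  · exact allRange_spec e8Cv_21_40800 r (by omega) c2
  by_cases c3 : r < 41280
  · exact allRange_spec e8Cv_21_41040 r (by omega) c3
  by_cases c4 : r < 41520
  · exact allRange_spec e8Cv_21_41280 r (by omega) c4
  by_cases c5 : r < 41760
  · exact allRange_spec e8Cv_21_41520 r (by omega) c5
  by_cases c6 : r < 42000
  · exact allRange_spec e8Cv_21_41760 r (by omega) c6
  exact allRange_spec e8Cv_21_42000 r (by omega) h2

end Cfsg.Agent.Lib.Helper3.ChevM
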