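import Cfsg.Agent.Lib.Helper3.ChevData.E8Datum
import Cfsg.Agent.Lib.Helper3.ChevData.E8Tabs
import Cfsg.Agent.Lib.Helper3.ChevM7
set_option autoImplicit false
set_option maxRecDepth 1000000
set_option Elab.async false

namespace Cfsg.Agent.Lib.Helper3.ChevM

theorem e8Dx_0_0 : allRange 0 4 ((fun k => cdE8.checkDX (cdE8.expo pairE8 (Cfsg.Lie.chevE8.simple (k / 240))) (pairE8 (Cfsg.Lie.chevE8.simple (k / 240)) (k % 240)) (k % 240))) = true := by decide +kernel
theorem e8Dx_0_4 : allRange 4 8 ((fun k => cdE8.checkDX (cdE8.expo pairE8 (Cfsg.Lie.chevE8.simple (k / 240))) (pairE8 (Cfsg.Lie.chevE8.simple (k / 240)) (k % 240)) (k % 240))) = true := by decide +kernel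
theorem e8Dx_0_8 : allRange 8 12 ((fun k => cdE8.checkDX (cdE8.expo pairE8 (Cfsg.Lie.chevE8.simple (k / 240))) (pairE8 (Cfsg.Lie.chevE8.simple (k / 240)) (k % 240)) (k % 240))) = true := by decide +kernel
theorem e8Dx_0_12 : allRange 12 16 ((fun k => cdE8.checkDX (cdE8.expo pairE8 (Cfsg.Lie.chevE8.simple (k / 240))) (pairE8 (Cfsg.Lie.chevE8.simple (k / 240)) (k % 240)) (k % 240))) = true := by decide +kernel
theorem e8Dx_0_16 : allRange 16 20 ((fun k => cdE8.checkDX (cdE8.expo pairE8 (Cfsg.Lie.chevE8.simple (k / 240))) (pairE8 (Cfsg.Lie.chevE8.simple (k / 240)) (k % 240)) (k % 240))) = true := by decide +kernel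
theorem e8Dx_0_20 : allRange 20 24 ((fun k => cdE8.checkDX (cdE8.expo pairE8 (Cfsg.Lie.chevE8.simple (k / 240))) (pairE8 (Cfsg.Lie.chevE8.simple (k / 240)) (k % 240)) (k % 240))) = true := by decide +kernel
theorem e8Dx_0_24 : allRange 24 28 ((fun k => cdE8.checkDX (cdE8.expo pairE8 (Cfsg.Lie.chevE8.simple (k / 240))) (pairE8 (Cfsg.Lie.chevE8.simple (k / 240)) (k % 240)) (k % 240))) = true := by decide +kernel
theorem e8Dx_0_28 : allRange 28 32 ((fun k => cdE8.checkDX (cdE8.expo pairE8 (Cfsg.Lie.chevE8.simple (k / 240))) (pairE8 (Cfsg.Lie.chevE8.simple (k / 240)) (k % 240)) (k % 240))) = true := by decide +kernel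
theorem e8Dx_0_32 : allRange 32 36 ((fun k => cdE8.checkDX (cdE8.expo pairE8 (Cfsg.Lie.chevE8.simple (k / 240))) (pairE8 (Cfsg.Lie.chevE8.simple (k / 240)) (k % 240)) (k % 240))) = true := by decide +kernel
theorem e8Dx_0_36 : allRange 36 40 ((fun k => cdE8.checkDX (cdE8.expo pairE8 (Cfsg.Lie.chevE8.simple (k / 240))) (pairE8 (Cfsg.Lie.chevE8.simple (k / 240)) (k % 240)) (k % 240))) = true := by decide +kernel
theorem e8Dx_0_40 : allRange 40 44 ((fun k => cdE8.checkDX (cdE8.expo pairE8 (Cfsg.Lie.chevE8.simple (k / 240))) (pairE8 (Cfsg.Lie.chevE8.simple (k / 240)) (k % 240)) (k % 240))) = true := by decide +kernel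
theorem e8Dx_0_44 : allRange 44 48 ((fun k => cdE8.checkDX (cdE8.expo pairE8 (Cfsg.Lie.chevE8.simple (k / 240))) (pairE8 (Cfsg.Lie.chevE8.simple (k / 240)) (k % 240)) (k % 240))) = true := by decide +kernel
theorem e8Dx_0_48 : allRange 48 52 ((fun k => cdE8.checkDX (cdE8.expo pairE8 (Cfsg.Lie.chevE8.simple (k / 240))) (pairE8 (Cfsg.Lie.chevE8.simple (k / 240)) (k % 240)) (k % 240))) = true := by decide +kernel
theorem e8Dx_0_52 : allRange 52 56 ((fun k => cdE8.checkDX (cdE8.expo pairE8 (Cfsg.Lie.chevE8.simple (k / 240))) (pairE8 (Cfsg.Lie.chevE8.simple (k / 240)) (k % 240)) (k % 240))) = true := by decide +kernel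
theorem e8Dx_0_56 : allRange 56 60 ((fun k => cdE8.checkDX (cdE8.expo pairE8 (Cfsg.Lie.chevE8.simple (k / 240))) (pairE8 (Cfsg.Lie.chevE8.simple (k / 240)) (k % 240)) (k % 240))) = true := by decide +kernel
theorem e8Dx_0_60 : allRange 60 64 ((fun k => cdE8.checkDX (cdE8.expo pairE8 (Cfsg.Lie.chevE8.simple (k / 240))) (pairE8 (Cfsg.Lie.chevE8.simple (k / 240)) (k % 240)) (k % 240))) = true := by decide +kernel
theorem e8Dx_0_64 : allRange 64 68 ((fun k => cdE8.checkDX (cdE8.expo pairE8 (Cfsg.Lie.chevE8.simple (k / 240))) (pairE8 (Cfsg.Lie.chevE8.simple (k / 240)) (k % 240)) (k % 240))) = true := by decide +kernel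
theorem e8Dx_0_68 : allRange 68 72 ((fun k => cdE8.checkDX (cdE8.expo pairE8 (Cfsg.Lie.chevE8.simple (k / 240))) (pairE8 (Cfsg.Lie.chevE8.simple (k / 240)) (k % 240)) (k % 240))) = true := by decide +kernel
theorem e8Dx_0_72 : allRange 72 76 ((fun k => cdE8.checkDX (cdE8.expo pairE8 (Cfsg.Lie.chevE8.simple (k / 240))) (pairE8 (Cfsg.Lie.chevE8.simple (k / 240)) (k % 240)) (k % 240))) = true := by decide +kernel
theorem e8Dx_0_76 : allRange 76 80 ((fun k => cdE8.checkDX (cdE8.expo pairE8 (Cfsg.Lie.chevE8.simple (k / 240))) (pairE8 (Cfsg.Lie.chevE8.simple (k / 240)) (k % 240)) (k % 240))) = true := by decide +kernel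
theorem e8Dx_0_80 : allRange 80 84 ((fun k => cdE8.checkDX (cdE8.expo pairE8 (Cfsg.Lie.chevE8.simple (k / 240))) (pairE8 (Cfsg.Lie.chevE8.simple (k / 240)) (k % 240)) (k % 240))) = true := by decide +kernel
theorem e8Dx_0_84 : allRange 84 88 ((fun k => cdE8.checkDX (cdE8.expo pairE8 (Cfsg.Lie.chevE8.simple (k / 240))) (pairE8 (Cfsg.Lie.chevE8.simple (k / 240)) (k % 240)) (k % 240))) = true := by decide +kernel
theorem e8Dx_0_88 : allRange 88 92 ((fun k => cdE8.checkDX (cdE8.expo pairE8 (Cfsg.Lie.chevE8.simple (k / 240))) (pairE8 (Cfsg.Lie.chevE8.simple (k / 240)) (k % 240)) (k % 240))) = true := by decide +kernel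
theorem e8Dx_0_92 : allRange 92 96 ((fun k => cdE8.checkDX (cdE8.expo pairE8 (Cfsg.Lie.chevE8.simple (k / 240))) (pairE8 (Cfsg.Lie.chevE8.simple (k / 240)) (k % 240)) (k % 240))) = true := by decide +kernel
theorem e8Dx_0_96 : allRange 96 100 ((fun k => cdE8.checkDX (cdE8.expo pairE8 (Cfsg.Lie.chevE8.simple (k / 240))) (pairE8 (Cfsg.Lie.chevE8.simple (k / 240)) (k % 240)) (k % 240))) = true := by decide +kernel
theorem e8Dx_0_100 : allRange 100 104 ((fun k => cdE8.checkDX (cdE8.expo pairE8 (Cfsg.Lie.chevE8.simple (k / 240))) (pairE8 (Cfsg.Lie.chevE8.simple (k / 240)) (k % 240)) (k % 240))) = true := by decide +kernel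
theorem e8Dx_0_104 : allRange 104 108 ((fun k => cdE8.checkDX (cdE8.expo pairE8 (Cfsg.Lie.chevE8.simple (k / 240))) (pairE8 (Cfsg.Lie.chevE8.simple (k / 240)) (k % 240)) (k % 240))) = true := by decide +kernel
theorem e8Dx_0_108 : allRange 108 112 ((fun k => cdE8.checkDX (cdE8.expo pairE8 (Cfsg.Lie.chevE8.simple (k / 240))) (pairE8 (Cfsg.Lie.chevE8.simple (k / 240)) (k % 240)) (k % 240))) = true := by decide +kernel
theorem e8Dx_0_112 : allRange 112 116 ((fun k => cdE8.checkDX (cdE8.expo pairE8 (Cfsg.Lie.chevE8.simple (k / 240))) (pairE8 (Cfsg.Lie.chevE8.simple (k / 240)) (k % 240)) (k % 240))) = true := by decide +kernel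
theorem e8Dx_0_116 : allRange 116 120 ((fun k => cdE8.checkDX (cdE8.expo pairE8 (Cfsg.Lie.chevE8.simple (k / 240))) (pairE8 (Cfsg.Lie.chevE8.simple (k / 240)) (k % 240)) (k % 240))) = true := by decide +kernel
theorem e8Dx_0_120 : allRange 120 124 ((fun k => cdE8.checkDX (cdE8.expo pairE8 (Cfsg.Lie.chevE8.simple (k / 240))) (pairE8 (Cfsg.Lie.chevE8.simple (k / 240)) (k % 240)) (k % 240))) = true := by decide +kernel
theorem e8Dx_0_124 : allRange 124 128 ((fun k => cdE8.checkDX (cdE8.expo pairE8 (Cfsg.Lie.chevE8.simple (k / 240))) (pairE8 (Cfsg.Lie.chevE8.simple (k / 240)) (k % 240)) (k % 240))) = true := by decide +kernel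
theorem e8Dx_0_128 : allRange 128 132 ((fun k => cdE8.checkDX (cdE8.expo pairE8 (Cfsg.Lie.chevE8.simple (k / 240))) (pairE8 (Cfsg.Lie.chevE8.simple (k / 240)) (k % 240)) (k % 240))) = true := by decide +kernel
theorem e8Dx_0_132 : allRange 132 136 ((fun k => cdE8.checkDX (cdE8.expo pairE8 (Cfsg.Lie.chevE8.simple (k / 240))) (pairE8 (Cfsg.Lie.chevE8.simple (k / 240)) (k % 240)) (k % 240))) = true := by decide +kernel
theorem e8Dx_0_136 : allRange 136 140 ((fun k => cdE8.checkDX (cdE8.expo pairE8 (Cfsg.Lie.chevE8.simple (k / 240))) (pairE8 (Cfsg.Lie.chevE8.simple (k / 240)) (k % 240)) (k % 240))) = true := by decide +kernel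
theorem e8Dx_0_140 : allRange 140 144 ((fun k => cdE8.checkDX (cdE8.expo pairE8 (Cfsg.Lie.chevE8.simple (k / 240))) (pairE8 (Cfsg.Lie.chevE8.simple (k / 240)) (k % 240)) (k % 240))) = true := by decide +kernel
theorem e8Dx_0_144 : allRange 144 148 ((fun k => cdE8.checkDX (cdE8.expo pairE8 (Cfsg.Lie.chevE8.simple (k / 240))) (pairE8 (Cfsg.Lie.chevE8.simple (k / 240)) (k % 240)) (k % 240))) = true := by decide +kernel
theorem e8Dx_0_148 : allRange 148 152 ((fun k => cdE8.checkDX (cdE8.expo pairE8 (Cfsg.Lie.chevE8.simple (k / 240))) (pairE8 (Cfsg.Lie.chevE8.simple (k / 240)) (k % 240)) (k % 240))) = true := by decide +kernel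
theorem e8Dx_0_152 : allRange 152 156 ((fun k => cdE8.checkDX (cdE8.expo pairE8 (Cfsg.Lie.chevE8.simple (k / 240))) (pairE8 (Cfsg.Lie.chevE8.simple (k / 240)) (k % 240)) (k % 240))) = true := by decide +kernel
theorem e8Dx_0_156 : allRange 156 160 ((fun k => cdE8.checkDX (cdE8.expo pairE8 (Cfsg.Lie.chevE8.simple (k / 240))) (pairE8 (Cfsg.Lie.chevE8.simple (k / 240)) (k % 240)) (k % 240))) = true := by decide +kernel
theorem e8Dx_0_160 : allRange 160 164 ((fun k => cdE8.checkDX (cdE8.expo pairE8 (Cfsg.Lie.chevE8.simple (k / 240))) (pairE8 (Cfsg.Lie.chevE8.simple (k / 240)) (k % 240)) (k % 240))) = true := by decide +kernel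
theorem e8Dx_0_164 : allRange 164 168 ((fun k => cdE8.checkDX (cdE8.expo pairE8 (Cfsg.Lie.chevE8.simple (k / 240))) (pairE8 (Cfsg.Lie.chevE8.simple (k / 240)) (k % 240)) (k % 240))) = true := by decide +kernel
theorem e8Dx_0_168 : allRange 168 172 ((fun k => cdE8.checkDX (cdE8.expo pairE8 (Cfsg.Lie.chevE8.simple (k / 240))) (pairE8 (Cfsg.Lie.chevE8.simple (k / 240)) (k % 240)) (k % 240))) = true := by decide +kernel

/-- Conjugation of root elements by the `h_p(c)` of type E8 (roots 0 to 171). -/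
theorem e8Dx_0 : ∀ r, 0 ≤ r → r < 172 → ((fun k => cdE8.checkDX (cdE8.expo pairE8 (Cfsg.Lie.chevE8.simple (k / 240))) (pairE8 (Cfsg.Lie.chevE8.simple (k / 240)) (k % 240)) (k % 240))) r = true := by
  intro r h1 h2
  by_cases c0 : r < 4
  · exact allRange_spec e8Dx_0_0 r (by omega) c0
  by_cases c1 : r < 8
  · exact allRange_spec e8Dx_0_4 r (by omega) c1
  by_cases c2 : r < 12
  · exact allRange_spec e8Dx_0_8 r (by omega) c2
  by_cases c3 : r < 16
  · exact allRange_spec e8Dx_0_12 r (by omega) c3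
  by_cases c4 : r < 20
  · exact allRange_spec e8Dx_0_16 r (by omega) c4
  by_cases c5 : r < 24
  · exact allRange_spec e8Dx_0_20 r (by omega) c5
  by_cases c6 : r < 28
  · exact allRange_spec e8Dx_0_24 r (by omega) c6
  by_cases c7 : r < 32
  · exact allRange_spec e8Dx_0_28 r (by omega) c7
  by_cases c8 : r < 36
  · exact allRange_spec e8Dx_0_32 r (by omega) c8
  by_cases c9 : r < 40
  · exact allRange_spec e8Dx_0_36 r (by omega) c9
  by_cases c10 : r < 44
  · exact allRange_spec e8Dx_0_40 r (by omega) c10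
  by_cases c11 : r < 48
  · exact allRange_spec e8Dx_0_44 r (by omega) c11
  by_cases c12 : r < 52
  · exact allRange_spec e8Dx_0_48 r (by omega) c12
  by_cases c13 : r < 56
  · exact allRange_spec e8Dx_0_52 r (by omega) c13
  by_cases c14 : r < 60
  · exact allRange_spec e8Dx_0_56 r (by omega) c14
  by_cases c15 : r < 64
  · exact allRange_spec e8Dx_0_60 r (by omega) c15
  by_cases c16 : r < 68
  · exact allRange_spec e8Dx_0_64 r (by omega) c16
  by_cases c17 : r < 72
  · exact allRange_spec e8Dx_0_68 r (by omega) c17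
  by_cases c18 : r < 76
  · exact allRange_spec e8Dx_0_72 r (by omega) c18
  by_cases c19 : r < 80
  · exact allRange_spec e8Dx_0_76 r (by omega) c19
  by_cases c20 : r < 84
  · exact allRange_spec e8Dx_0_80 r (by omega) c20
  by_cases c21 : r < 88
  · exact allRange_spec e8Dx_0_84 r (by omega) c21
  by_cases c22 : r < 92
  · exact allRange_spec e8Dx_0_88 r (by omega) c22
  by_cases c23 : r < 96
  · exact allRange_spec e8Dx_0_92 r (by omega) c23
  by_cases c24 : r < 100
  · exact allRange_spec e8Dx_0_96 r (by omega) c24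
  by_cases c25 : r < 104
  · exact allRange_spec e8Dx_0_100 r (by omega) c25
  by_cases c26 : r < 108
  · exact allRange_spec e8Dx_0_104 r (by omega) c26
  by_cases c27 : r < 112
  · exact allRange_spec e8Dx_0_108 r (by omega) c27
  by_cases c28 : r < 116
  · exact allRange_spec e8Dx_0_112 r (by omega) c28
  by_cases c29 : r < 120
  · exact allRange_spec e8Dx_0_116 r (by omega) c29
  by_cases c30 : r < 124
  · exact allRange_spec e8Dx_0_120 r (by omega) c30
  by_cases c31 : r < 128
  · exact allRange_spec e8Dx_0_124 r (by omega) c31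
  by_cases c32 : r < 132
  · exact allRange_spec e8Dx_0_128 r (by omega) c32
  by_cases c33 : r < 136
  · exact allRange_spec e8Dx_0_132 r (by omega) c33
  by_cases c34 : r < 140
  · exact allRange_spec e8Dx_0_136 r (by omega) c34
  by_cases c35 : r < 144
  · exact allRange_spec e8Dx_0_140 r (by omega) c35
  by_cases c36 : r < 148
  · exact allRange_spec e8Dx_0_144 r (by omega) c36
  by_cases c37 : r < 152
  · exact allRange_spec e8Dx_0_148 r (by omega) c37
  by_cases c38 : r < 156
  · exact allRange_spec e8Dx_0_152 r (by omega) c38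
  by_cases c39 : r < 160
  · exact allRange_spec e8Dx_0_156 r (by omega) c39
  by_cases c40 : r < 164
  · exact allRange_spec e8Dx_0_160 r (by omega) c40
  by_cases c41 : r < 168
  · exact allRange_spec e8Dx_0_164 r (by omega) c41
  exact allRange_spec e8Dx_0_168 r (by omega) h2

end Cfsg.Agent.Lib.Helper3.ChevM
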