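import Cfsg.Agent.Lib.Helper3.ChevData.E8Datum
import Cfsg.Agent.Lib.Helper3.ChevData.E8Tabs
import Cfsg.Agent.Lib.Helper3.ChevM7
set_option autoImplicit false
set_option maxRecDepth 1000000
set_option Elab.async false

namespace Cfsg.Agent.Lib.Helper3.ChevM

theorem e8Dx_10_1720 : allRange 1720 1724 ((fun k => cdE8.checkDX (cdE8.expo pairE8 (Cfsg.Lie.chevE8.simple (k / 240))) (pairE8 (Cfsg.Lie.chevE8.simple (k / 240)) (k % 240)) (k % 240))) = true := by decide +kernel
theorem e8Dx_10_1724 : allRange 1724 1728 ((fun k => cdE8.checkDX (cdE8.expo pairE8 (Cfsg.Lie.chevE8.simple (k / 240))) (pairE8 (Cfsg.Lie.chevE8.simple (k / 240)) (k % 240)) (k % 240))) = true := by decide +kernel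
theorem e8Dx_10_1728 : allRange 1728 1732 ((fun k => cdE8.checkDX (cdE8.expo pairE8 (Cfsg.Lie.chevE8.simple (k / 240))) (pairE8 (Cfsg.Lie.chevE8.simple (k / 240)) (k % 240)) (k % 240))) = true := by decide +kernel
theorem e8Dx_10_1732 : allRange 1732 1736 ((fun k => cdE8.checkDX (cdE8.expo pairE8 (Cfsg.Lie.chevE8.simple (k / 240))) (pairE8 (Cfsg.Lie.chevE8.simple (k / 240)) (k % 240)) (k % 240))) = true := by decide +kernel
theorem e8Dx_10_1736 : allRange 1736 1740 ((fun k => cdE8.checkDX (cdE8.expo pairE8 (Cfsg.Lie.chevE8.simple (k / 240))) (pairE8 (Cfsg.Lie.chevE8.simple (k / 240)) (k % 240)) (k % 240))) = true := by decide +kernel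
theorem e8Dx_10_1740 : allRange 1740 1744 ((fun k => cdE8.checkDX (cdE8.expo pairE8 (Cfsg.Lie.chevE8.simple (k / 240))) (pairE8 (Cfsg.Lie.chevE8.simple (k / 240)) (k % 240)) (k % 240))) = true := by decide +kernel
theorem e8Dx_10_1744 : allRange 1744 1748 ((fun k => cdE8.checkDX (cdE8.expo pairE8 (Cfsg.Lie.chevE8.simple (k / 240))) (pairE8 (Cfsg.Lie.chevE8.simple (k / 240)) (k % 240)) (k % 240))) = true := by decide +kernel
theorem e8Dx_10_1748 : allRange 1748 1752 ((fun k => cdE8.checkDX (cdE8.expo pairE8 (Cfsg.Lie.chevE8.simple (k / 240))) (pairE8 (Cfsg.Lie.chevE8.simple (k / 240)) (k % 240)) (k % 240))) = true := by decide +kernel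
theorem e8Dx_10_1752 : allRange 1752 1756 ((fun k => cdE8.checkDX (cdE8.expo pairE8 (Cfsg.Lie.chevE8.simple (k / 240))) (pairE8 (Cfsg.Lie.chevE8.simple (k / 240)) (k % 240)) (k % 240))) = true := by decide +kernel
theorem e8Dx_10_1756 : allRange 1756 1760 ((fun k => cdE8.checkDX (cdE8.expo pairE8 (Cfsg.Lie.chevE8.simple (k / 240))) (pairE8 (Cfsg.Lie.chevE8.simple (k / 240)) (k % 240)) (k % 240))) = true := by decide +kernel
theorem e8Dx_10_1760 : allRange 1760 1764 ((fun k => cdE8.checkDX (cdE8.expo pairE8 (Cfsg.Lie.chevE8.simple (k / 240))) (pairE8 (Cfsg.Lie.chevE8.simple (k / 240)) (k % 240)) (k % 240))) = true := by decide +kernel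
theorem e8Dx_10_1764 : allRange 1764 1768 ((fun k => cdE8.checkDX (cdE8.expo pairE8 (Cfsg.Lie.chevE8.simple (k / 240))) (pairE8 (Cfsg.Lie.chevE8.simple (k / 240)) (k % 240)) (k % 240))) = true := by decide +kernel
theorem e8Dx_10_1768 : allRange 1768 1772 ((fun k => cdE8.checkDX (cdE8.expo pairE8 (Cfsg.Lie.chevE8.simple (k / 240))) (pairE8 (Cfsg.Lie.chevE8.simple (k / 240)) (k % 240)) (k % 240))) = true := by decide +kernel
theorem e8Dx_10_1772 : allRange 1772 1776 ((fun k => cdE8.checkDX (cdE8.expo pairE8 (Cfsg.Lie.chevE8.simple (k / 240))) (pairE8 (Cfsg.Lie.chevE8.simple (k / 240)) (k % 240)) (k % 240))) = true := by decide +kernel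
theorem e8Dx_10_1776 : allRange 1776 1780 ((fun k => cdE8.checkDX (cdE8.expo pairE8 (Cfsg.Lie.chevE8.simple (k / 240))) (pairE8 (Cfsg.Lie.chevE8.simple (k / 240)) (k % 240)) (k % 240))) = true := by decide +kernel
theorem e8Dx_10_1780 : allRange 1780 1784 ((fun k => cdE8.checkDX (cdE8.expo pairE8 (Cfsg.Lie.chevE8.simple (k / 240))) (pairE8 (Cfsg.Lie.chevE8.simple (k / 240)) (k % 240)) (k % 240))) = true := by decide +kernel
theorem e8Dx_10_1784 : allRange 1784 1788 ((fun k => cdE8.checkDX (cdE8.expo pairE8 (Cfsg.Lie.chevE8.simple (k / 240))) (pairE8 (Cfsg.Lie.chevE8.simple (k / 240)) (k % 240)) (k % 240))) = true := by decide +kernel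
theorem e8Dx_10_1788 : allRange 1788 1792 ((fun k => cdE8.checkDX (cdE8.expo pairE8 (Cfsg.Lie.chevE8.simple (k / 240))) (pairE8 (Cfsg.Lie.chevE8.simple (k / 240)) (k % 240)) (k % 240))) = true := by decide +kernel
theorem e8Dx_10_1792 : allRange 1792 1796 ((fun k => cdE8.checkDX (cdE8.expo pairE8 (Cfsg.Lie.chevE8.simple (k / 240))) (pairE8 (Cfsg.Lie.chevE8.simple (k / 240)) (k % 240)) (k % 240))) = true := by decide +kernel
theorem e8Dx_10_1796 : allRange 1796 1800 ((fun k => cdE8.checkDX (cdE8.expo pairE8 (Cfsg.Lie.chevE8.simple (k / 240))) (pairE8 (Cfsg.Lie.chevE8.simple (k / 240)) (k % 240)) (k % 240))) = true := by decide +kernel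
theorem e8Dx_10_1800 : allRange 1800 1804 ((fun k => cdE8.checkDX (cdE8.expo pairE8 (Cfsg.Lie.chevE8.simple (k / 240))) (pairE8 (Cfsg.Lie.chevE8.simple (k / 240)) (k % 240)) (k % 240))) = true := by decide +kernel
theorem e8Dx_10_1804 : allRange 1804 1808 ((fun k => cdE8.checkDX (cdE8.expo pairE8 (Cfsg.Lie.chevE8.simple (k / 240))) (pairE8 (Cfsg.Lie.chevE8.simple (k / 240)) (k % 240)) (k % 240))) = true := by decide +kernel
theorem e8Dx_10_1808 : allRange 1808 1812 ((fun k => cdE8.checkDX (cdE8.expo pairE8 (Cfsg.Lie.chevE8.simple (k / 240))) (pairE8 (Cfsg.Lie.chevE8.simple (k / 240)) (k % 240)) (k % 240))) = true := by decide +kernel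
theorem e8Dx_10_1812 : allRange 1812 1816 ((fun k => cdE8.checkDX (cdE8.expo pairE8 (Cfsg.Lie.chevE8.simple (k / 240))) (pairE8 (Cfsg.Lie.chevE8.simple (k / 240)) (k % 240)) (k % 240))) = true := by decide +kernel
theorem e8Dx_10_1816 : allRange 1816 1820 ((fun k => cdE8.checkDX (cdE8.expo pairE8 (Cfsg.Lie.chevE8.simple (k / 240))) (pairE8 (Cfsg.Lie.chevE8.simple (k / 240)) (k % 240)) (k % 240))) = true := by decide +kernel
theorem e8Dx_10_1820 : allRange 1820 1824 ((fun k => cdE8.checkDX (cdE8.expo pairE8 (Cfsg.Lie.chevE8.simple (k / 240))) (pairE8 (Cfsg.Lie.chevE8.simple (k / 240)) (k % 240)) (k % 240))) = true := by decide +kernel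
theorem e8Dx_10_1824 : allRange 1824 1828 ((fun k => cdE8.checkDX (cdE8.expo pairE8 (Cfsg.Lie.chevE8.simple (k / 240))) (pairE8 (Cfsg.Lie.chevE8.simple (k / 240)) (k % 240)) (k % 240))) = true := by decide +kernel
theorem e8Dx_10_1828 : allRange 1828 1832 ((fun k => cdE8.checkDX (cdE8.expo pairE8 (Cfsg.Lie.chevE8.simple (k / 240))) (pairE8 (Cfsg.Lie.chevE8.simple (k / 240)) (k % 240)) (k % 240))) = true := by decide +kernel
theorem e8Dx_10_1832 : allRange 1832 1836 ((fun k => cdE8.checkDX (cdE8.expo pairE8 (Cfsg.Lie.chevE8.simple (k / 240))) (pairE8 (Cfsg.Lie.chevE8.simple (k / 240)) (k % 240)) (k % 240))) = true := by decide +kernel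
theorem e8Dx_10_1836 : allRange 1836 1840 ((fun k => cdE8.checkDX (cdE8.expo pairE8 (Cfsg.Lie.chevE8.simple (k / 240))) (pairE8 (Cfsg.Lie.chevE8.simple (k / 240)) (k % 240)) (k % 240))) = true := by decide +kernel
theorem e8Dx_10_1840 : allRange 1840 1844 ((fun k => cdE8.checkDX (cdE8.expo pairE8 (Cfsg.Lie.chevE8.simple (k / 240))) (pairE8 (Cfsg.Lie.chevE8.simple (k / 240)) (k % 240)) (k % 240))) = true := by decide +kernel
theorem e8Dx_10_1844 : allRange 1844 1848 ((fun k => cdE8.checkDX (cdE8.expo pairE8 (Cfsg.Lie.chevE8.simple (k / 240))) (pairE8 (Cfsg.Lie.chevE8.simple (k / 240)) (k % 240)) (k % 240))) = true := by decide +kernel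
theorem e8Dx_10_1848 : allRange 1848 1852 ((fun k => cdE8.checkDX (cdE8.expo pairE8 (Cfsg.Lie.chevE8.simple (k / 240))) (pairE8 (Cfsg.Lie.chevE8.simple (k / 240)) (k % 240)) (k % 240))) = true := by decide +kernel
theorem e8Dx_10_1852 : allRange 1852 1856 ((fun k => cdE8.checkDX (cdE8.expo pairE8 (Cfsg.Lie.chevE8.simple (k / 240))) (pairE8 (Cfsg.Lie.chevE8.simple (k / 240)) (k % 240)) (k % 240))) = true := by decide +kernel
theorem e8Dx_10_1856 : allRange 1856 1860 ((fun k => cdE8.checkDX (cdE8.expo pairE8 (Cfsg.Lie.chevE8.simple (k / 240))) (pairE8 (Cfsg.Lie.chevE8.simple (k / 240)) (k % 240)) (k % 240))) = true := by decide +kernel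
theorem e8Dx_10_1860 : allRange 1860 1864 ((fun k => cdE8.checkDX (cdE8.expo pairE8 (Cfsg.Lie.chevE8.simple (k / 240))) (pairE8 (Cfsg.Lie.chevE8.simple (k / 240)) (k % 240)) (k % 240))) = true := by decide +kernel
theorem e8Dx_10_1864 : allRange 1864 1868 ((fun k => cdE8.checkDX (cdE8.expo pairE8 (Cfsg.Lie.chevE8.simple (k / 240))) (pairE8 (Cfsg.Lie.chevE8.simple (k / 240)) (k % 240)) (k % 240))) = true := by decide +kernel
theorem e8Dx_10_1868 : allRange 1868 1872 ((fun k => cdE8.checkDX (cdE8.expo pairE8 (Cfsg.Lie.chevE8.simple (k / 240))) (pairE8 (Cfsg.Lie.chevE8.simple (k / 240)) (k % 240)) (k % 240))) = true := by decide +kernel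
theorem e8Dx_10_1872 : allRange 1872 1876 ((fun k => cdE8.checkDX (cdE8.expo pairE8 (Cfsg.Lie.chevE8.simple (k / 240))) (pairE8 (Cfsg.Lie.chevE8.simple (k / 240)) (k % 240)) (k % 240))) = true := by decide +kernel
theorem e8Dx_10_1876 : allRange 1876 1880 ((fun k => cdE8.checkDX (cdE8.expo pairE8 (Cfsg.Lie.chevE8.simple (k / 240))) (pairE8 (Cfsg.Lie.chevE8.simple (k / 240)) (k % 240)) (k % 240))) = true := by decide +kernel
theorem e8Dx_10_1880 : allRange 1880 1884 ((fun k => cdE8.checkDX (cdE8.expo pairE8 (Cfsg.Lie.chevE8.simple (k / 240))) (pairE8 (Cfsg.Lie.chevE8.simple (k / 240)) (k % 240)) (k % 240))) = true := by decide +kernel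
theorem e8Dx_10_1884 : allRange 1884 1888 ((fun k => cdE8.checkDX (cdE8.expo pairE8 (Cfsg.Lie.chevE8.simple (k / 240))) (pairE8 (Cfsg.Lie.chevE8.simple (k / 240)) (k % 240)) (k % 240))) = true := by decide +kernel
theorem e8Dx_10_1888 : allRange 1888 1892 ((fun k => cdE8.checkDX (cdE8.expo pairE8 (Cfsg.Lie.chevE8.simple (k / 240))) (pairE8 (Cfsg.Lie.chevE8.simple (k / 240)) (k % 240)) (k % 240))) = true := by decide +kernel

/-- Conjugation of root elements by the `h_p(c)` of type E8 (roots 1720 to 1891). -/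
theorem e8Dx_10 : ∀ r, 1720 ≤ r → r < 1892 → ((fun k => cdE8.checkDX (cdE8.expo pairE8 (Cfsg.Lie.chevE8.simple (k / 240))) (pairE8 (Cfsg.Lie.chevE8.simple (k / 240)) (k % 240)) (k % 240))) r = true := by
  intro r h1 h2
  by_cases c0 : r < 1724
  · exact allRange_spec e8Dx_10_1720 r (by omega) c0
  by_cases c1 : r < 1728
  · exact allRange_spec e8Dx_10_1724 r (by omega) c1
  by_cases c2 : r < 1732
  · exact allRange_spec e8Dx_10_1728 r (by omega) c2
  by_cases c3 : r < 1736
  · exact allRange_spec e8Dx_10_1732 r (by omega) c3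
  by_cases c4 : r < 1740
  · exact allRange_spec e8Dx_10_1736 r (by omega) c4
  by_cases c5 : r < 1744
  · exact allRange_spec e8Dx_10_1740 r (by omega) c5
  by_cases c6 : r < 1748
  · exact allRange_spec e8Dx_10_1744 r (by omega) c6
  by_cases c7 : r < 1752
  · exact allRange_spec e8Dx_10_1748 r (by omega) c7
  by_cases c8 : r < 1756
  · exact allRange_spec e8Dx_10_1752 r (by omega) c8
  by_cases c9 : r < 1760
  · exact allRange_spec e8Dx_10_1756 r (by omega) c9
  by_cases c10 : r < 1764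
  · exact allRange_spec e8Dx_10_1760 r (by omega) c10
  by_cases c11 : r < 1768
  · exact allRange_spec e8Dx_10_1764 r (by omega) c11
  by_cases c12 : r < 1772
  · exact allRange_spec e8Dx_10_1768 r (by omega) c12
  by_cases c13 : r < 1776
  · exact allRange_spec e8Dx_10_1772 r (by omega) c13
  by_cases c14 : r < 1780
  · exact allRange_spec e8Dx_10_1776 r (by omega) c14
  by_cases c15 : r < 1784
  · exact allRange_spec e8Dx_10_1780 r (by omega) c15
  by_cases c16 : r < 1788
  · exact allRange_spec e8Dx_10_1784 r (by omega) c16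
  by_cases c17 : r < 1792
  · exact allRange_spec e8Dx_10_1788 r (by omega) c17
  by_cases c18 : r < 1796
  · exact allRange_spec e8Dx_10_1792 r (by omega) c18
  by_cases c19 : r < 1800
  · exact allRange_spec e8Dx_10_1796 r (by omega) c19
  by_cases c20 : r < 1804
  · exact allRange_spec e8Dx_10_1800 r (by omega) c20
  by_cases c21 : r < 1808
  · exact allRange_spec e8Dx_10_1804 r (by omega) c21
  by_cases c22 : r < 1812
  · exact allRange_spec e8Dx_10_1808 r (by omega) c22
  by_cases c23 : r < 1816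
  · exact allRange_spec e8Dx_10_1812 r (by omega) c23
  by_cases c24 : r < 1820
  · exact allRange_spec e8Dx_10_1816 r (by omega) c24
  by_cases c25 : r < 1824
  · exact allRange_spec e8Dx_10_1820 r (by omega) c25
  by_cases c26 : r < 1828
  · exact allRange_spec e8Dx_10_1824 r (by omega) c26
  by_cases c27 : r < 1832
  · exact allRange_spec e8Dx_10_1828 r (by omega) c27
  by_cases c28 : r < 1836
  · exact allRange_spec e8Dx_10_1832 r (by omega) c28
  by_cases c29 : r < 1840
  · exact allRange_spec e8Dx_10_1836 r (by omega) c29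
  by_cases c30 : r < 1844
  · exact allRange_spec e8Dx_10_1840 r (by omega) c30
  by_cases c31 : r < 1848
  · exact allRange_spec e8Dx_10_1844 r (by omega) c31
  by_cases c32 : r < 1852
  · exact allRange_spec e8Dx_10_1848 r (by omega) c32
  by_cases c33 : r < 1856
  · exact allRange_spec e8Dx_10_1852 r (by omega) c33
  by_cases c34 : r < 1860
  · exact allRange_spec e8Dx_10_1856 r (by omega) c34
  by_cases c35 : r < 1864
  · exact allRange_spec e8Dx_10_1860 r (by omega) c35
  by_cases c36 : r < 1868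
  · exact allRange_spec e8Dx_10_1864 r (by omega) c36
  by_cases c37 : r < 1872
  · exact allRange_spec e8Dx_10_1868 r (by omega) c37
  by_cases c38 : r < 1876
  · exact allRange_spec e8Dx_10_1872 r (by omega) c38
  by_cases c39 : r < 1880
  · exact allRange_spec e8Dx_10_1876 r (by omega) c39
  by_cases c40 : r < 1884
  · exact allRange_spec e8Dx_10_1880 r (by omega) c40
  by_cases c41 : r < 1888
  · exact allRange_spec e8Dx_10_1884 r (by omega) c41
  exact allRange_spec e8Dx_10_1888 r (by omega) h2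

end Cfsg.Agent.Lib.Helper3.ChevM
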