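import Cfsg.Agent.Lib.Helper3.ChevData.E8Datum
import Cfsg.Agent.Lib.Helper3.ChevData.E8Tabs
import Cfsg.Agent.Lib.Helper3.ChevM7
set_option autoImplicit false
set_option maxRecDepth 1000000
set_option Elab.async false

namespace Cfsg.Agent.Lib.Helper3.ChevM

theorem e8Eta_0_0 : allRange 0 53 ((fun k => etaCheck Cfsg.Lie.chevE8 etaE8 (k / 240) (k % 240))) = true := by decide +kernel
theorem e8Eta_0_53 : allRange 53 106 ((fun k => etaCheck Cfsg.Lie.chevE8 etaE8 (k / 240) (k % 240))) = true := by decide +kernel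
theorem e8Eta_0_106 : allRange 106 159 ((fun k => etaCheck Cfsg.Lie.chevE8 etaE8 (k / 240) (k % 240))) = true := by decide +kernel
theorem e8Eta_0_159 : allRange 159 212 ((fun k => etaCheck Cfsg.Lie.chevE8 etaE8 (k / 240) (k % 240))) = true := by decide +kernel
theorem e8Eta_0_212 : allRange 212 265 ((fun k => etaCheck Cfsg.Lie.chevE8 etaE8 (k / 240) (k % 240))) = true := by decide +kernel
theorem e8Eta_0_265 : allRange 265 318 ((fun k => etaCheck Cfsg.Lie.chevE8 etaE8 (k / 240) (k % 240))) = true := by decide +kernel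
theorem e8Eta_0_318 : allRange 318 371 ((fun k => etaCheck Cfsg.Lie.chevE8 etaE8 (k / 240) (k % 240))) = true := by decide +kernel
theorem e8Eta_0_371 : allRange 371 424 ((fun k => etaCheck Cfsg.Lie.chevE8 etaE8 (k / 240) (k % 240))) = true := by decide +kernel
theorem e8Eta_0_424 : allRange 424 477 ((fun k => etaCheck Cfsg.Lie.chevE8 etaE8 (k / 240) (k % 240))) = true := by decide +kernel
theorem e8Eta_0_477 : allRange 477 530 ((fun k => etaCheck Cfsg.Lie.chevE8 etaE8 (k / 240) (k % 240))) = true := by decide +kernel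
theorem e8Eta_0_530 : allRange 530 583 ((fun k => etaCheck Cfsg.Lie.chevE8 etaE8 (k / 240) (k % 240))) = true := by decide +kernel
theorem e8Eta_0_583 : allRange 583 636 ((fun k => etaCheck Cfsg.Lie.chevE8 etaE8 (k / 240) (k % 240))) = true := by decide +kernel
theorem e8Eta_0_636 : allRange 636 689 ((fun k => etaCheck Cfsg.Lie.chevE8 etaE8 (k / 240) (k % 240))) = true := by decide +kernel
theorem e8Eta_0_689 : allRange 689 742 ((fun k => etaCheck Cfsg.Lie.chevE8 etaE8 (k / 240) (k % 240))) = true := by decide +kernel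
theorem e8Eta_0_742 : allRange 742 795 ((fun k => etaCheck Cfsg.Lie.chevE8 etaE8 (k / 240) (k % 240))) = true := by decide +kernel
theorem e8Eta_0_795 : allRange 795 848 ((fun k => etaCheck Cfsg.Lie.chevE8 etaE8 (k / 240) (k % 240))) = true := by decide +kernel
theorem e8Eta_0_848 : allRange 848 901 ((fun k => etaCheck Cfsg.Lie.chevE8 etaE8 (k / 240) (k % 240))) = true := by decide +kernel
theorem e8Eta_0_901 : allRange 901 954 ((fun k => etaCheck Cfsg.Lie.chevE8 etaE8 (k / 240) (k % 240))) = true := by decide +kernel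
theorem e8Eta_0_954 : allRange 954 1007 ((fun k => etaCheck Cfsg.Lie.chevE8 etaE8 (k / 240) (k % 240))) = true := by decide +kernel
theorem e8Eta_0_1007 : allRange 1007 1060 ((fun k => etaCheck Cfsg.Lie.chevE8 etaE8 (k / 240) (k % 240))) = true := by decide +kernel
theorem e8Eta_0_1060 : allRange 1060 1113 ((fun k => etaCheck Cfsg.Lie.chevE8 etaE8 (k / 240) (k % 240))) = true := by decide +kernel
theorem e8Eta_0_1113 : allRange 1113 1166 ((fun k => etaCheck Cfsg.Lie.chevE8 etaE8 (k / 240) (k % 240))) = true := by decide +kernel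
theorem e8Eta_0_1166 : allRange 1166 1219 ((fun k => etaCheck Cfsg.Lie.chevE8 etaE8 (k / 240) (k % 240))) = true := by decide +kernel
theorem e8Eta_0_1219 : allRange 1219 1272 ((fun k => etaCheck Cfsg.Lie.chevE8 etaE8 (k / 240) (k % 240))) = true := by decide +kernel
theorem e8Eta_0_1272 : allRange 1272 1325 ((fun k => etaCheck Cfsg.Lie.chevE8 etaE8 (k / 240) (k % 240))) = true := by decide +kernel
theorem e8Eta_0_1325 : allRange 1325 1378 ((fun k => etaCheck Cfsg.Lie.chevE8 etaE8 (k / 240) (k % 240))) = true := by decide +kernel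
theorem e8Eta_0_1378 : allRange 1378 1431 ((fun k => etaCheck Cfsg.Lie.chevE8 etaE8 (k / 240) (k % 240))) = true := by decide +kernel
theorem e8Eta_0_1431 : allRange 1431 1484 ((fun k => etaCheck Cfsg.Lie.chevE8 etaE8 (k / 240) (k % 240))) = true := by decide +kernel
theorem e8Eta_0_1484 : allRange 1484 1537 ((fun k => etaCheck Cfsg.Lie.chevE8 etaE8 (k / 240) (k % 240))) = true := by decide +kernel
theorem e8Eta_0_1537 : allRange 1537 1590 ((fun k => etaCheck Cfsg.Lie.chevE8 etaE8 (k / 240) (k % 240))) = true := by decide +kernel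
theorem e8Eta_0_1590 : allRange 1590 1643 ((fun k => etaCheck Cfsg.Lie.chevE8 etaE8 (k / 240) (k % 240))) = true := by decide +kernel
theorem e8Eta_0_1643 : allRange 1643 1696 ((fun k => etaCheck Cfsg.Lie.chevE8 etaE8 (k / 240) (k % 240))) = true := by decide +kernel
theorem e8Eta_0_1696 : allRange 1696 1749 ((fun k => etaCheck Cfsg.Lie.chevE8 etaE8 (k / 240) (k % 240))) = true := by decide +kernel
theorem e8Eta_0_1749 : allRange 1749 1802 ((fun k => etaCheck Cfsg.Lie.chevE8 etaE8 (k / 240) (k % 240))) = true := by decide +kernel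
theorem e8Eta_0_1802 : allRange 1802 1855 ((fun k => etaCheck Cfsg.Lie.chevE8 etaE8 (k / 240) (k % 240))) = true := by decide +kernel
theorem e8Eta_0_1855 : allRange 1855 1908 ((fun k => etaCheck Cfsg.Lie.chevE8 etaE8 (k / 240) (k % 240))) = true := by decide +kernel
theorem e8Eta_0_1908 : allRange 1908 1920 ((fun k => etaCheck Cfsg.Lie.chevE8 etaE8 (k / 240) (k % 240))) = true := by decide +kernel

/-- Sign table of type E8 (roots 0 to 1919). -/
theorem e8Eta_0 : ∀ r, 0 ≤ r → r < 1920 → ((fun k => etaCheck Cfsg.Lie.chevE8 etaE8 (k / 240) (k % 240))) r = true := by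
  intro r h1 h2
  by_cases c0 : r < 53
  · exact allRange_spec e8Eta_0_0 r (by omega) c0
  by_cases c1 : r < 106
  · exact allRange_spec e8Eta_0_53 r (by omega) c1
  by_cases c2 : r < 159
  · exact allRange_spec e8Eta_0_106 r (by omega) c2
  by_cases c3 : r < 212
  · exact allRange_spec e8Eta_0_159 r (by omega) c3
  by_cases c4 : r < 265
  · exact allRange_spec e8Eta_0_212 r (by omega) c4
  by_cases c5 : r < 318
  · exact allRange_spec e8Eta_0_265 r (by omega) c5
  by_cases c6 : r < 371
  · exact allRange_spec e8Eta_0_318 r (by omega) c6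
  by_cases c7 : r < 424
  · exact allRange_spec e8Eta_0_371 r (by omega) c7
  by_cases c8 : r < 477
  · exact allRange_spec e8Eta_0_424 r (by omega) c8
  by_cases c9 : r < 530
  · exact allRange_spec e8Eta_0_477 r (by omega) c9
  by_cases c10 : r < 583
  · exact allRange_spec e8Eta_0_530 r (by omega) c10
  by_cases c11 : r < 636
  · exact allRange_spec e8Eta_0_583 r (by omega) c11
  by_cases c12 : r < 689
  · exact allRange_spec e8Eta_0_636 r (by omega) c12
  by_cases c13 : r < 742
  · exact allRange_spec e8Eta_0_689 r (by omega) c13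
  by_cases c14 : r < 795
  · exact allRange_spec e8Eta_0_742 r (by omega) c14
  by_cases c15 : r < 848
  · exact allRange_spec e8Eta_0_795 r (by omega) c15
  by_cases c16 : r < 901
  · exact allRange_spec e8Eta_0_848 r (by omega) c16
  by_cases c17 : r < 954
  · exact allRange_spec e8Eta_0_901 r (by omega) c17
  by_cases c18 : r < 1007
  · exact allRange_spec e8Eta_0_954 r (by omega) c18
  by_cases c19 : r < 1060
  · exact allRange_spec e8Eta_0_1007 r (by omega) c19
  by_cases c20 : r < 1113
  · exact allRange_spec e8Eta_0_1060 r (by omega) c20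
  by_cases c21 : r < 1166
  · exact allRange_spec e8Eta_0_1113 r (by omega) c21
  by_cases c22 : r < 1219
  · exact allRange_spec e8Eta_0_1166 r (by omega) c22
  by_cases c23 : r < 1272
  · exact allRange_spec e8Eta_0_1219 r (by omega) c23
  by_cases c24 : r < 1325
  · exact allRange_spec e8Eta_0_1272 r (by omega) c24
  by_cases c25 : r < 1378
  · exact allRange_spec e8Eta_0_1325 r (by omega) c25
  by_cases c26 : r < 1431
  · exact allRange_spec e8Eta_0_1378 r (by omega) c26
  by_cases c27 : r < 1484
  · exact allRange_spec e8Eta_0_1431 r (by omega) c27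
  by_cases c28 : r < 1537
  · exact allRange_spec e8Eta_0_1484 r (by omega) c28
  by_cases c29 : r < 1590
  · exact allRange_spec e8Eta_0_1537 r (by omega) c29
  by_cases c30 : r < 1643
  · exact allRange_spec e8Eta_0_1590 r (by omega) c30
  by_cases c31 : r < 1696
  · exact allRange_spec e8Eta_0_1643 r (by omega) c31
  by_cases c32 : r < 1749
  · exact allRange_spec e8Eta_0_1696 r (by omega) c32
  by_cases c33 : r < 1802
  · exact allRange_spec e8Eta_0_1749 r (by omega) c33
  by_cases c34 : r < 1855
  · exact allRange_spec e8Eta_0_1802 r (by omega) c34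
  by_cases c35 : r < 1908
  · exact allRange_spec e8Eta_0_1855 r (by omega) c35
  exact allRange_spec e8Eta_0_1908 r (by omega) h2

end Cfsg.Agent.Lib.Helper3.ChevM
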