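import Cfsg.Prelude.Def_ChevAutomorphisms
import Cfsg.Agent.Lib.Helper3.ChevGen1
import Cfsg.Agent.Lib.Helper3.ChevData.E8Mono
import Cfsg.Agent.Lib.Helper3.ChevData.E8Hdec
import Cfsg.Agent.Lib.Helper3.ChevData.E8CommData
set_option autoImplicit false
set_option maxRecDepth 1000000
open Cfsg Cfsg.Lie

namespace Cfsg.Agent.Lib.Helper3.ChevM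

/-- For each root of type E8 conjugate to the first fundamental root, a word of fundamental reflections mapping that root to it. -/
def wt0E8 (r : ℕ) : List ℕ :=
  (#[[7, 6, 5, 4, 3, 2, 1, 3, 4, 5, 6, 7, 0, 2, 3, 4, 5, 6, 1, 3, 4, 5, 2, 3, 4, 1, 3, 2, 0], [6, 5, 4, 3, 2, 1, 3, 4, 5, 6, 7, 0, 2, 3, 4, 5, 6, 1, 3, 4, 5, 2, 3, 4, 1, 3, 2, 0], [5, 4, 3, 2, 1, 3, 4, 5, 6, 7, 0, 2, 3, 4, 5, 6, 1, 3, 4, 5, 2, 3, 4, 1, 3, 2, 0], [4, 3, 2, 1, 3, 4, 5, 6, 7, 0, 2, 3, 4, 5, 6, 1, 3, 4, 5, 2, 3, 4, 1, 3, 2, 0], [3, 2, 1, 3, 4, 5, 6, 7, 0, 2, 3, 4, 5, 6, 1, 3, 4, 5, 2, 3, 4, 1, 3, 2, 0], [2, 1, 3, 4, 5, 6, 7, 0, 2, 3, 4, 5, 6, 1, 3, 4, 5, 2, 3, 4, 1, 3, 2, 0], [1, 3, 4, 5, 6, 7, 0, 2,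 3, 4, 5, 6, 1, 3, 4, 5, 2, 3, 4, 1, 3, 2, 0], [2, 3, 4, 5, 6, 7, 0, 2, 3, 4, 5, 6, 1, 3, 4, 5, 2, 3, 4, 1, 3, 2, 0], [3, 4, 5, 6, 7, 0, 2, 3, 4, 5, 6, 1, 3, 4, 5, 2, 3, 4, 1, 3, 2, 0], [4, 5, 6, 7, 0, 2, 3, 4, 5, 6, 1, 3, 4, 5, 2, 3, 4, 1, 3, 2, 0], [5, 6, 7, 0, 2, 3, 4, 5, 6, 1, 3, 4, 5, 2, 3, 4, 1, 3, 2, 0], [6, 7, 0, 2, 3, 4, 5, 6, 1, 3, 4, 5, 2, 3, 4, 1, 3, 2, 0], [7, 0, 2, 3, 4, 5, 6, 1, 3, 4, 5, 2, 3, 4, 1, 3, 2, 0], [0, 2, 3, 4, 5, 6, 1, 3, 4, 5, 2, 3, 4, 1, 3, 2, 0], [1, 3, 4, 5, 6, 7, 2, 3, 4, 5, 6, 1, 3, 4, 5, 2, 3, 4, 1, 3, 2, 0], [3, 4, 5, 6, 7, 2, 3, 4, 5, 6, 1, 3, 4, 5, 2, 3, 4, 1, 3, 2, 0], [4, 5, 6, 7, 2, 3, 4, 5, 6, 1, 3, 4, 5, 2, 3, 4, 1, 3, 2, 0], [5, 6,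 7, 2, 3, 4, 5, 6, 1, 3, 4, 5, 2, 3, 4, 1, 3, 2, 0], [6, 7, 2, 3, 4, 5, 6, 1, 3, 4, 5, 2, 3, 4, 1, 3, 2, 0], [7, 2, 3, 4, 5, 6, 1, 3, 4, 5, 2, 3, 4, 1, 3, 2, 0], [2, 3, 4, 5, 6, 1, 3, 4, 5, 2, 3, 4, 1, 3, 2, 0], [4, 5, 6, 7, 3, 4, 5, 6, 1, 3, 4, 5, 2, 3, 4, 1, 3, 2, 0], [5, 6, 7, 3, 4, 5, 6, 1, 3, 4, 5, 2, 3, 4, 1, 3, 2, 0], [6, 7, 3, 4, 5, 6, 1, 3, 4, 5, 2, 3, 4, 1, 3, 2, 0], [7, 3, 4, 5, 6, 1, 3, 4, 5, 2, 3, 4, 1, 3, 2, 0], [3, 4, 5, 6, 1, 3, 4, 5, 2, 3, 4, 1, 3, 2, 0], [5, 6, 7, 4, 5, 6, 1, 3, 4, 5, 2, 3, 4, 1, 3, 2, 0], [6, 7, 4, 5, 6, 1, 3, 4, 5, 2, 3, 4, 1, 3, 2, 0], [7, 4, 5, 6, 1, 3, 4, 5, 2, 3, 4, 1, 3, 2, 0], [4, 5, 6, 1, 3, 4, 5, 2, 3, 4, 1, 3, 2, 0], [6, 7, 5, 6,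 1, 3, 4, 5, 2, 3, 4, 1, 3, 2, 0], [7, 5, 6, 1, 3, 4, 5, 2, 3, 4, 1, 3, 2, 0], [5, 6, 1, 3, 4, 5, 2, 3, 4, 1, 3, 2, 0], [7, 6, 1, 3, 4, 5, 2, 3, 4, 1, 3, 2, 0], [6, 1, 3, 4, 5, 2, 3, 4, 1, 3, 2, 0], [1, 3, 4, 5, 2, 3, 4, 1, 3, 2, 0], [5, 6, 7, 4, 5, 6, 3, 4, 5, 2, 3, 4, 1, 3, 2, 0], [6, 7, 4, 5, 6, 3, 4, 5, 2, 3, 4, 1, 3, 2, 0], [7, 4, 5, 6, 3, 4, 5, 2, 3, 4, 1, 3, 2, 0], [4, 5, 6, 3, 4, 5, 2, 3, 4, 1, 3, 2, 0], [6, 7, 5, 6, 3, 4, 5, 2, 3, 4, 1, 3, 2, 0], [7, 5, 6, 3, 4, 5, 2, 3, 4, 1, 3, 2, 0], [5, 6, 3, 4, 5, 2, 3, 4, 1, 3, 2, 0], [7, 6, 3, 4, 5, 2, 3, 4, 1, 3, 2, 0], [6, 3, 4, 5, 2, 3, 4, 1, 3, 2, 0], [3, 4, 5, 2, 3, 4, 1, 3, 2, 0], [6, 7, 5, 6, 4, 5, 2, 3, 4, 1, 3, 2, 0],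 [7, 5, 6, 4, 5, 2, 3, 4, 1, 3, 2, 0], [5, 6, 4, 5, 2, 3, 4, 1, 3, 2, 0], [7, 6, 4, 5, 2, 3, 4, 1, 3, 2, 0], [6, 4, 5, 2, 3, 4, 1, 3, 2, 0], [4, 5, 2, 3, 4, 1, 3, 2, 0], [7, 6, 5, 2, 3, 4, 1, 3, 2, 0], [6, 5, 2, 3, 4, 1, 3, 2, 0], [5, 2, 3, 4, 1, 3, 2, 0], [2, 3, 4, 1, 3, 2, 0], [6, 7, 5, 6, 4, 5, 3, 4, 1, 3, 2, 0], [7, 5, 6, 4, 5, 3, 4, 1, 3, 2, 0], [5, 6, 4, 5, 3, 4, 1, 3, 2, 0], [7, 6, 4, 5, 3, 4, 1, 3, 2, 0], [6, 4, 5, 3, 4, 1, 3, 2, 0], [4, 5, 3, 4, 1, 3, 2, 0], [7, 6, 5, 3, 4, 1, 3, 2, 0], [6, 5, 3, 4, 1, 3, 2, 0], [5, 3, 4, 1, 3, 2, 0], [3, 4, 1, 3, 2, 0], [7, 6, 5, 4, 1, 3, 2, 0], [6, 5, 4, 1, 3, 2, 0], [5, 4, 1, 3, 2, 0], [4, 1, 3, 2, 0], [1, 3, 2, 0], [7, 6, 5, 4,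 3, 2, 0], [6, 5, 4, 3, 2, 0], [5, 4, 3, 2, 0], [4, 3, 2, 0], [3, 2, 0], [2, 0], [0], [6, 7, 5, 6, 4, 5, 3, 4, 1, 3, 0, 2, 0], [7, 5, 6, 4, 5, 3, 4, 1, 3, 0, 2, 0], [5, 6, 4, 5, 3, 4, 1, 3, 0, 2, 0], [7, 6, 4, 5, 3, 4, 1, 3, 0, 2, 0], [6, 4, 5, 3, 4, 1, 3, 0, 2, 0], [4, 5, 3, 4, 1, 3, 0, 2, 0], [7, 6, 5, 3, 4, 1, 3, 0, 2, 0], [6, 5, 3, 4, 1, 3, 0, 2, 0], [5, 3, 4, 1, 3, 0, 2, 0], [3, 4, 1, 3, 0, 2, 0], [7, 6, 5, 4, 1, 3, 0, 2, 0], [6, 5, 4, 1, 3, 0, 2, 0], [5, 4, 1, 3, 0, 2, 0], [4, 1, 3, 0, 2, 0], [1, 3, 0, 2, 0], [7, 6, 5, 4, 2, 1, 3, 0, 2, 0], [6, 5, 4, 2, 1, 3, 0, 2, 0], [5, 4, 2, 1, 3, 0, 2, 0], [4, 2, 1, 3, 0, 2, 0], [2, 1, 3, 0, 2, 0], [3, 2, 1, 3, 0, 2, 0], [7, 6, 5,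 4, 3, 0, 2, 0], [6, 5, 4, 3, 0, 2, 0], [5, 4, 3, 0, 2, 0], [4, 3, 0, 2, 0], [3, 0, 2, 0], [0, 2, 0], [7, 6, 5, 4, 2, 3, 0, 2, 0], [6, 5, 4, 2, 3, 0, 2, 0], [5, 4, 2, 3, 0, 2, 0], [4, 2, 3, 0, 2, 0], [2, 3, 0, 2, 0], [7, 6, 5, 3, 4, 2, 3, 0, 2, 0], [6, 5, 3, 4, 2, 3, 0, 2, 0], [5, 3, 4, 2, 3, 0, 2, 0], [3, 4, 2, 3, 0, 2, 0], [7, 6, 4, 5, 3, 4, 2, 3, 0, 2, 0], [6, 4, 5, 3, 4, 2, 3, 0, 2, 0], [4, 5, 3, 4, 2, 3, 0, 2, 0], [7, 5, 6, 4, 5, 3, 4, 2, 3, 0, 2, 0], [5, 6, 4, 5, 3, 4, 2, 3, 0, 2, 0], [6, 7, 5, 6, 4, 5, 3, 4, 2, 3, 0, 2, 0], [6, 7, 5, 6, 4, 5, 3, 4, 2, 3, 0, 2], [5, 6, 4, 5, 3, 4, 2, 3, 0, 2], [7, 5, 6, 4, 5, 3, 4, 2, 3, 0, 2], [4, 5, 3, 4, 2, 3, 0, 2], [6, 4, 5, 3, 4,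 2, 3, 0, 2], [7, 6, 4, 5, 3, 4, 2, 3, 0, 2], [3, 4, 2, 3, 0, 2], [5, 3, 4, 2, 3, 0, 2], [6, 5, 3, 4, 2, 3, 0, 2], [7, 6, 5, 3, 4, 2, 3, 0, 2], [2, 3, 0, 2], [4, 2, 3, 0, 2], [5, 4, 2, 3, 0, 2], [6, 5, 4, 2, 3, 0, 2], [7, 6, 5, 4, 2, 3, 0, 2], [0, 2], [3, 0, 2], [4, 3, 0, 2], [5, 4, 3, 0, 2], [6, 5, 4, 3, 0, 2], [7, 6, 5, 4, 3, 0, 2], [3, 2, 1, 3, 0, 2], [2, 1, 3, 0, 2], [4, 2, 1, 3, 0, 2], [5, 4, 2, 1, 3, 0, 2], [6, 5, 4, 2, 1, 3, 0, 2], [7, 6, 5, 4, 2, 1, 3, 0, 2], [1, 3, 0, 2], [4, 1, 3, 0, 2], [5, 4, 1, 3, 0, 2], [6, 5, 4, 1, 3, 0, 2], [7, 6, 5, 4, 1, 3, 0, 2], [3, 4, 1, 3, 0, 2], [5, 3, 4, 1, 3, 0, 2], [6, 5, 3, 4, 1, 3, 0, 2], [7, 6, 5, 3, 4, 1, 3, 0, 2], [4, 5, 3, 4,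 1, 3, 0, 2], [6, 4, 5, 3, 4, 1, 3, 0, 2], [7, 6, 4, 5, 3, 4, 1, 3, 0, 2], [5, 6, 4, 5, 3, 4, 1, 3, 0, 2], [7, 5, 6, 4, 5, 3, 4, 1, 3, 0, 2], [6, 7, 5, 6, 4, 5, 3, 4, 1, 3, 0, 2], [], [2], [3, 2], [4, 3, 2], [5, 4, 3, 2], [6, 5, 4, 3, 2], [7, 6, 5, 4, 3, 2], [1, 3, 2], [4, 1, 3, 2], [5, 4, 1, 3, 2], [6, 5, 4, 1, 3, 2], [7, 6, 5, 4, 1, 3, 2], [3, 4, 1, 3, 2], [5, 3, 4, 1, 3, 2], [6, 5, 3, 4, 1, 3, 2], [7, 6, 5, 3, 4, 1, 3, 2], [4, 5, 3, 4, 1, 3, 2], [6, 4, 5, 3, 4, 1, 3, 2], [7, 6, 4, 5, 3, 4, 1, 3, 2], [5, 6, 4, 5, 3, 4, 1, 3, 2], [7, 5, 6, 4, 5, 3, 4, 1, 3, 2], [6, 7, 5, 6, 4, 5, 3, 4, 1, 3, 2], [2, 3, 4, 1, 3, 2], [5, 2, 3, 4, 1, 3, 2], [6, 5, 2, 3, 4, 1, 3, 2], [7, 6, 5,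 2, 3, 4, 1, 3, 2], [4, 5, 2, 3, 4, 1, 3, 2], [6, 4, 5, 2, 3, 4, 1, 3, 2], [7, 6, 4, 5, 2, 3, 4, 1, 3, 2], [5, 6, 4, 5, 2, 3, 4, 1, 3, 2], [7, 5, 6, 4, 5, 2, 3, 4, 1, 3, 2], [6, 7, 5, 6, 4, 5, 2, 3, 4, 1, 3, 2], [3, 4, 5, 2, 3, 4, 1, 3, 2], [6, 3, 4, 5, 2, 3, 4, 1, 3, 2], [7, 6, 3, 4, 5, 2, 3, 4, 1, 3, 2], [5, 6, 3, 4, 5, 2, 3, 4, 1, 3, 2], [7, 5, 6, 3, 4, 5, 2, 3, 4, 1, 3, 2], [6, 7, 5, 6, 3, 4, 5, 2, 3, 4, 1, 3, 2], [4, 5, 6, 3, 4, 5, 2, 3, 4, 1, 3, 2], [7, 4, 5, 6, 3, 4, 5, 2, 3, 4, 1, 3, 2], [6, 7, 4, 5, 6, 3, 4, 5, 2, 3, 4, 1, 3, 2], [5, 6, 7, 4, 5, 6, 3, 4, 5, 2, 3, 4, 1, 3, 2], [1, 3, 4, 5, 2, 3, 4, 1, 3, 2], [6, 1, 3, 4, 5, 2, 3, 4, 1, 3, 2], [7, 6, 1, 3, 4, 5, 2, 3,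 4, 1, 3, 2], [5, 6, 1, 3, 4, 5, 2, 3, 4, 1, 3, 2], [7, 5, 6, 1, 3, 4, 5, 2, 3, 4, 1, 3, 2], [6, 7, 5, 6, 1, 3, 4, 5, 2, 3, 4, 1, 3, 2], [4, 5, 6, 1, 3, 4, 5, 2, 3, 4, 1, 3, 2], [7, 4, 5, 6, 1, 3, 4, 5, 2, 3, 4, 1, 3, 2], [6, 7, 4, 5, 6, 1, 3, 4, 5, 2, 3, 4, 1, 3, 2], [5, 6, 7, 4, 5, 6, 1, 3, 4, 5, 2, 3, 4, 1, 3, 2], [3, 4, 5, 6, 1, 3, 4, 5, 2, 3, 4, 1, 3, 2], [7, 3, 4, 5, 6, 1, 3, 4, 5, 2, 3, 4, 1, 3, 2], [6, 7, 3, 4, 5, 6, 1, 3, 4, 5, 2, 3, 4, 1, 3, 2], [5, 6, 7, 3, 4, 5, 6, 1, 3, 4, 5, 2, 3, 4, 1, 3, 2], [4, 5, 6, 7, 3, 4, 5, 6, 1, 3, 4, 5, 2, 3, 4, 1, 3, 2], [2, 3, 4, 5, 6, 1, 3, 4, 5, 2, 3, 4, 1, 3, 2], [7, 2, 3, 4, 5, 6, 1, 3, 4, 5, 2, 3, 4, 1, 3, 2], [6, 7, 2, 3, 4,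 5, 6, 1, 3, 4, 5, 2, 3, 4, 1, 3, 2], [5, 6, 7, 2, 3, 4, 5, 6, 1, 3, 4, 5, 2, 3, 4, 1, 3, 2], [4, 5, 6, 7, 2, 3, 4, 5, 6, 1, 3, 4, 5, 2, 3, 4, 1, 3, 2], [3, 4, 5, 6, 7, 2, 3, 4, 5, 6, 1, 3, 4, 5, 2, 3, 4, 1, 3, 2], [1, 3, 4, 5, 6, 7, 2, 3, 4, 5, 6, 1, 3, 4, 5, 2, 3, 4, 1, 3, 2], [0, 2, 3, 4, 5, 6, 1, 3, 4, 5, 2, 3, 4, 1, 3, 2], [7, 0, 2, 3, 4, 5, 6, 1, 3, 4, 5, 2, 3, 4, 1, 3, 2], [6, 7, 0, 2, 3, 4, 5, 6, 1, 3, 4, 5, 2, 3, 4, 1, 3, 2], [5, 6, 7, 0, 2, 3, 4, 5, 6, 1, 3, 4, 5, 2, 3, 4, 1, 3, 2], [4, 5, 6, 7, 0, 2, 3, 4, 5, 6, 1, 3, 4, 5, 2, 3, 4, 1, 3, 2], [3, 4, 5, 6, 7, 0, 2, 3, 4, 5, 6, 1, 3, 4, 5, 2, 3, 4, 1, 3, 2], [2, 3, 4, 5, 6, 7, 0, 2, 3, 4, 5, 6, 1, 3, 4, 5, 2, 3, 4,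 1, 3, 2], [1, 3, 4, 5, 6, 7, 0, 2, 3, 4, 5, 6, 1, 3, 4, 5, 2, 3, 4, 1, 3, 2], [2, 1, 3, 4, 5, 6, 7, 0, 2, 3, 4, 5, 6, 1, 3, 4, 5, 2, 3, 4, 1, 3, 2], [3, 2, 1, 3, 4, 5, 6, 7, 0, 2, 3, 4, 5, 6, 1, 3, 4, 5, 2, 3, 4, 1, 3, 2], [4, 3, 2, 1, 3, 4, 5, 6, 7, 0, 2, 3, 4, 5, 6, 1, 3, 4, 5, 2, 3, 4, 1, 3, 2], [5, 4, 3, 2, 1, 3, 4, 5, 6, 7, 0, 2, 3, 4, 5, 6, 1, 3, 4, 5, 2, 3, 4, 1, 3, 2], [6, 5, 4, 3, 2, 1, 3, 4, 5, 6, 7, 0, 2, 3, 4, 5, 6, 1, 3, 4, 5, 2, 3, 4, 1, 3, 2], [7, 6, 5, 4, 3, 2, 1, 3, 4, 5, 6, 7, 0, 2, 3, 4, 5, 6, 1, 3, 4, 5, 2, 3, 4, 1, 3, 2]] : Array (List ℕ)).getD r []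

/-- For each remaining root of type E8, two roots whose commutator it is, with the constant. -/
def abE8 (r : ℕ) : ℕ × ℕ × ℤ :=
  (#[(0, 0, 0), (0, 0, 0), (0, 0, 0), (0, 0, 0), (0, 0, 0), (0, 0, 0), (0, 0, 0), (0, 0, 0), (0, 0, 0), (0, 0, 0), (0, 0, 0), (0, 0, 0), (0, 0, 0), (0, 0, 0), (0, 0, 0), (0, 0, 0), (0, 0, 0), (0, 0, 0), (0, 0, 0), (0, 0, 0), (0, 0, 0), (0, 0, 0), (0, 0, 0), (0, 0, 0), (0, 0, 0), (0, 0, 0), (0, 0, 0), (0, 0, 0), (0, 0, 0), (0, 0, 0), (0, 0, 0), (0, 0, 0), (0, 0, 0), (0, 0, 0), (0, 0, 0), (0, 0, 0), (0, 0, 0), (0, 0, 0), (0, 0, 0), (0, 0, 0), (0, 0, 0), (0, 0, 0), (0, 0, 0), (0, 0, 0), (0, 0, 0), (0, 0, 0), (0, 0, 0), (0, 0, 0), (0, 0, 0), (0, 0, 0),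 (0, 0, 0), (0, 0, 0), (0, 0, 0), (0, 0, 0), (0, 0, 0), (0, 0, 0), (0, 0, 0), (0, 0, 0), (0, 0, 0), (0, 0, 0), (0, 0, 0), (0, 0, 0), (0, 0, 0), (0, 0, 0), (0, 0, 0), (0, 0, 0), (0, 0, 0), (0, 0, 0), (0, 0, 0), (0, 0, 0), (0, 0, 0), (0, 0, 0), (0, 0, 0), (0, 0, 0), (0, 0, 0), (0, 0, 0), (0, 0, 0), (0, 0, 0), (0, 0, 0), (0, 0, 0), (0, 0, 0), (0, 0, 0), (0, 0, 0), (0, 0, 0), (0, 0, 0), (0, 0, 0), (0, 0, 0), (0, 0, 0), (0, 0, 0), (0, 0, 0), (0, 0, 0), (0, 0, 0), (0, 0, 0), (0, 0, 0), (0, 0, 0), (0, 0, 0), (0, 0, 0), (0, 0, 0), (0, 0, 0), (0, 0, 0), (0, 0, 0), (0, 0, 0), (0, 0, 0), (0, 0, 0), (0, 0, 0), (0, 0, 0), (0, 0, 0), (0, 0, 0), (0, 0, 0), (0, 0, 0), (0, 0, 0), (0, 0, 0),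 (0, 0, 0), (0, 0, 0), (0, 0, 0), (0, 0, 0), (0, 0, 0), (0, 0, 0), (0, 0, 0), (0, 0, 0), (0, 0, 0), (0, 0, 0), (0, 0, 0), (0, 0, 0), (0, 0, 0), (0, 0, 0), (0, 0, 0), (0, 0, 0), (0, 0, 0), (0, 0, 0), (0, 0, 0), (0, 0, 0), (0, 0, 0), (0, 0, 0), (0, 0, 0), (0, 0, 0), (0, 0, 0), (0, 0, 0), (0, 0, 0), (0, 0, 0), (0, 0, 0), (0, 0, 0), (0, 0, 0), (0, 0, 0), (0, 0, 0), (0, 0, 0), (0, 0, 0), (0, 0, 0), (0, 0, 0), (0, 0, 0), (0, 0, 0), (0, 0, 0), (0, 0, 0), (0, 0, 0), (0, 0, 0), (0, 0, 0), (0, 0, 0), (0, 0, 0), (0, 0, 0), (0, 0, 0), (0, 0, 0), (0, 0, 0), (0, 0, 0), (0, 0, 0), (0, 0, 0), (0, 0, 0), (0, 0, 0), (0, 0, 0), (0, 0, 0), (0, 0, 0), (0, 0, 0), (0, 0, 0), (0, 0, 0), (0, 0, 0),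 (0, 0, 0), (0, 0, 0), (0, 0, 0), (0, 0, 0), (0, 0, 0), (0, 0, 0), (0, 0, 0), (0, 0, 0), (0, 0, 0), (0, 0, 0), (0, 0, 0), (0, 0, 0), (0, 0, 0), (0, 0, 0), (0, 0, 0), (0, 0, 0), (0, 0, 0), (0, 0, 0), (0, 0, 0), (0, 0, 0), (0, 0, 0), (0, 0, 0), (0, 0, 0), (0, 0, 0), (0, 0, 0), (0, 0, 0), (0, 0, 0), (0, 0, 0), (0, 0, 0), (0, 0, 0), (0, 0, 0), (0, 0, 0), (0, 0, 0), (0, 0, 0), (0, 0, 0), (0, 0, 0), (0, 0, 0), (0, 0, 0), (0, 0, 0), (0, 0, 0), (0, 0, 0), (0, 0, 0), (0, 0, 0), (0, 0, 0), (0, 0, 0), (0, 0, 0), (0, 0, 0), (0, 0, 0), (0, 0, 0), (0, 0, 0), (0, 0, 0), (0, 0, 0), (0, 0, 0), (0, 0, 0), (0, 0, 0), (0, 0, 0), (0, 0, 0), (0, 0, 0), (0, 0, 0), (0, 0, 0), (0, 0, 0), (0, 0, 0),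 (0, 0, 0), (0, 0, 0), (0, 0, 0), (0, 0, 0)] : Array (ℕ × ℕ × ℤ)).getD r (0, 0, 0)

/-- For each short fundamental root of type E8, a word mapping it to the first fundamental root. -/
def wsE8 (i : ℕ) : List ℕ :=
  (#[[], [2, 3, 0, 2, 1, 3], [2, 0], [2, 3, 0, 2], [2, 3, 4, 0, 2, 3], [2, 3, 4, 5, 0, 2, 3, 4], [2, 3, 4, 5, 6, 0, 2, 3, 4, 5], [2, 3, 4, 5, 6, 7, 0, 2, 3, 4, 5, 6]] : Array (List ℕ)).getD i []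

theorem e8Gen2 : ∀ r < 240, gen2Check cdE8.D relE8.refl 162 1 wt0E8 abE8 r = true := by
  decide +kernel

theorem e8GenWs : ∀ i < 8, cdE8.D.isLong (cdE8.D.simple i) = false →
    ((wsE8 i).all fun j => decide (j < 8)) = true ∧ reflW relE8.refl (wsE8 i) (cdE8.D.simple i) = 162 := by
  decide +kernel

end Cfsg.Agent.Lib.Helper3.ChevM
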