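import Cfsg.Prelude.Def_ChevE8
import Cfsg.Agent.Lib.Helper3.ChevData.E8Tabs
import Cfsg.Agent.Lib.Helper3.ChevG2
set_option autoImplicit false
set_option maxRecDepth 1000000
set_option Elab.async false

namespace Cfsg.Agent.Lib.Helper3.ChevM

theorem e8Hdec_0_0 : allRange 0 754 ((fun k => hdecCheck Cfsg.Lie.chevE8 pairE8 (k / 240) (k % 240))) = true := by decide +kernel
theorem e8Hdec_0_754 : allRange 754 1508 ((fun k => hdecCheck Cfsg.Lie.chevE8 pairE8 (k / 240) (k % 240))) = true := by decide +kernel
theorem e8Hdec_0_1508 : allRange 1508 2262 ((fun k => hdecCheck Cfsg.Lie.chevE8 pairE8 (k / 240) (k % 240))) = true := by decide +kernel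
theorem e8Hdec_0_2262 : allRange 2262 3016 ((fun k => hdecCheck Cfsg.Lie.chevE8 pairE8 (k / 240) (k % 240))) = true := by decide +kernel
theorem e8Hdec_0_3016 : allRange 3016 3770 ((fun k => hdecCheck Cfsg.Lie.chevE8 pairE8 (k / 240) (k % 240))) = true := by decide +kernel
theorem e8Hdec_0_3770 : allRange 3770 4524 ((fun k => hdecCheck Cfsg.Lie.chevE8 pairE8 (k / 240) (k % 240))) = true := by decide +kernel
theorem e8Hdec_0_4524 : allRange 4524 5278 ((fun k => hdecCheck Cfsg.Lie.chevE8 pairE8 (k / 240) (k % 240))) = true := by decide +kernel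
theorem e8Hdec_0_5278 : allRange 5278 6032 ((fun k => hdecCheck Cfsg.Lie.chevE8 pairE8 (k / 240) (k % 240))) = true := by decide +kernel
theorem e8Hdec_0_6032 : allRange 6032 6786 ((fun k => hdecCheck Cfsg.Lie.chevE8 pairE8 (k / 240) (k % 240))) = true := by decide +kernel
theorem e8Hdec_0_6786 : allRange 6786 7540 ((fun k => hdecCheck Cfsg.Lie.chevE8 pairE8 (k / 240) (k % 240))) = true := by decide +kernel
theorem e8Hdec_0_7540 : allRange 7540 8294 ((fun k => hdecCheck Cfsg.Lie.chevE8 pairE8 (k / 240) (k % 240))) = true := by decide +kernel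
theorem e8Hdec_0_8294 : allRange 8294 9048 ((fun k => hdecCheck Cfsg.Lie.chevE8 pairE8 (k / 240) (k % 240))) = true := by decide +kernel
theorem e8Hdec_0_9048 : allRange 9048 9802 ((fun k => hdecCheck Cfsg.Lie.chevE8 pairE8 (k / 240) (k % 240))) = true := by decide +kernel
theorem e8Hdec_0_9802 : allRange 9802 10556 ((fun k => hdecCheck Cfsg.Lie.chevE8 pairE8 (k / 240) (k % 240))) = true := by decide +kernel
theorem e8Hdec_0_10556 : allRange 10556 11310 ((fun k => hdecCheck Cfsg.Lie.chevE8 pairE8 (k / 240) (k % 240))) = true := by decide +kernel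
theorem e8Hdec_0_11310 : allRange 11310 12064 ((fun k => hdecCheck Cfsg.Lie.chevE8 pairE8 (k / 240) (k % 240))) = true := by decide +kernel
theorem e8Hdec_0_12064 : allRange 12064 12818 ((fun k => hdecCheck Cfsg.Lie.chevE8 pairE8 (k / 240) (k % 240))) = true := by decide +kernel
theorem e8Hdec_0_12818 : allRange 12818 13572 ((fun k => hdecCheck Cfsg.Lie.chevE8 pairE8 (k / 240) (k % 240))) = true := by decide +kernel
theorem e8Hdec_0_13572 : allRange 13572 14326 ((fun k => hdecCheck Cfsg.Lie.chevE8 pairE8 (k / 240) (k % 240))) = true := by decide +kernel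
theorem e8Hdec_0_14326 : allRange 14326 15080 ((fun k => hdecCheck Cfsg.Lie.chevE8 pairE8 (k / 240) (k % 240))) = true := by decide +kernel
theorem e8Hdec_0_15080 : allRange 15080 15834 ((fun k => hdecCheck Cfsg.Lie.chevE8 pairE8 (k / 240) (k % 240))) = true := by decide +kernel
theorem e8Hdec_0_15834 : allRange 15834 16588 ((fun k => hdecCheck Cfsg.Lie.chevE8 pairE8 (k / 240) (k % 240))) = true := by decide +kernel
theorem e8Hdec_0_16588 : allRange 16588 17342 ((fun k => hdecCheck Cfsg.Lie.chevE8 pairE8 (k / 240) (k % 240))) = true := by decide +kernel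
theorem e8Hdec_0_17342 : allRange 17342 18096 ((fun k => hdecCheck Cfsg.Lie.chevE8 pairE8 (k / 240) (k % 240))) = true := by decide +kernel
theorem e8Hdec_0_18096 : allRange 18096 18850 ((fun k => hdecCheck Cfsg.Lie.chevE8 pairE8 (k / 240) (k % 240))) = true := by decide +kernel
theorem e8Hdec_0_18850 : allRange 18850 19604 ((fun k => hdecCheck Cfsg.Lie.chevE8 pairE8 (k / 240) (k % 240))) = true := by decide +kernel
theorem e8Hdec_0_19604 : allRange 19604 20358 ((fun k => hdecCheck Cfsg.Lie.chevE8 pairE8 (k / 240) (k % 240))) = true := by decide +kernel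
theorem e8Hdec_0_20358 : allRange 20358 21112 ((fun k => hdecCheck Cfsg.Lie.chevE8 pairE8 (k / 240) (k % 240))) = true := by decide +kernel
theorem e8Hdec_0_21112 : allRange 21112 21866 ((fun k => hdecCheck Cfsg.Lie.chevE8 pairE8 (k / 240) (k % 240))) = true := by decide +kernel
theorem e8Hdec_0_21866 : allRange 21866 22620 ((fun k => hdecCheck Cfsg.Lie.chevE8 pairE8 (k / 240) (k % 240))) = true := by decide +kernel
theorem e8Hdec_0_22620 : allRange 22620 23374 ((fun k => hdecCheck Cfsg.Lie.chevE8 pairE8 (k / 240) (k % 240))) = true := by decide +kernel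
theorem e8Hdec_0_23374 : allRange 23374 24128 ((fun k => hdecCheck Cfsg.Lie.chevE8 pairE8 (k / 240) (k % 240))) = true := by decide +kernel
theorem e8Hdec_0_24128 : allRange 24128 24882 ((fun k => hdecCheck Cfsg.Lie.chevE8 pairE8 (k / 240) (k % 240))) = true := by decide +kernel
theorem e8Hdec_0_24882 : allRange 24882 25636 ((fun k => hdecCheck Cfsg.Lie.chevE8 pairE8 (k / 240) (k % 240))) = true := by decide +kernel
theorem e8Hdec_0_25636 : allRange 25636 26390 ((fun k => hdecCheck Cfsg.Lie.chevE8 pairE8 (k / 240) (k % 240))) = true := by decide +kernel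
theorem e8Hdec_0_26390 : allRange 26390 27144 ((fun k => hdecCheck Cfsg.Lie.chevE8 pairE8 (k / 240) (k % 240))) = true := by decide +kernel
theorem e8Hdec_0_27144 : allRange 27144 27898 ((fun k => hdecCheck Cfsg.Lie.chevE8 pairE8 (k / 240) (k % 240))) = true := by decide +kernel

/-- Decomposition of the coroots along the fundamental coroots of type E8 (roots 0 to 27897). -/
theorem e8Hdec_0 : ∀ r, 0 ≤ r → r < 27898 → ((fun k => hdecCheck Cfsg.Lie.chevE8 pairE8 (k / 240) (k % 240))) r = true := by
  intro r h1 h2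
  by_cases c0 : r < 754
  · exact allRange_spec e8Hdec_0_0 r (by omega) c0
  by_cases c1 : r < 1508
  · exact allRange_spec e8Hdec_0_754 r (by omega) c1
  by_cases c2 : r < 2262
  · exact allRange_spec e8Hdec_0_1508 r (by omega) c2
  by_cases c3 : r < 3016
  · exact allRange_spec e8Hdec_0_2262 r (by omega) c3
  by_cases c4 : r < 3770
  · exact allRange_spec e8Hdec_0_3016 r (by omega) c4
  by_cases c5 : r < 4524
  · exact allRange_spec e8Hdec_0_3770 r (by omega) c5
  by_cases c6 : r < 5278
  · exact allRange_spec e8Hdec_0_4524 r (by omega) c6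
  by_cases c7 : r < 6032
  · exact allRange_spec e8Hdec_0_5278 r (by omega) c7
  by_cases c8 : r < 6786
  · exact allRange_spec e8Hdec_0_6032 r (by omega) c8
  by_cases c9 : r < 7540
  · exact allRange_spec e8Hdec_0_6786 r (by omega) c9
  by_cases c10 : r < 8294
  · exact allRange_spec e8Hdec_0_7540 r (by omega) c10
  by_cases c11 : r < 9048
  · exact allRange_spec e8Hdec_0_8294 r (by omega) c11
  by_cases c12 : r < 9802
  · exact allRange_spec e8Hdec_0_9048 r (by omega) c12
  by_cases c13 : r < 10556
  · exact allRange_spec e8Hdec_0_9802 r (by omega) c13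
  by_cases c14 : r < 11310
  · exact allRange_spec e8Hdec_0_10556 r (by omega) c14
  by_cases c15 : r < 12064
  · exact allRange_spec e8Hdec_0_11310 r (by omega) c15
  by_cases c16 : r < 12818
  · exact allRange_spec e8Hdec_0_12064 r (by omega) c16
  by_cases c17 : r < 13572
  · exact allRange_spec e8Hdec_0_12818 r (by omega) c17
  by_cases c18 : r < 14326
  · exact allRange_spec e8Hdec_0_13572 r (by omega) c18
  by_cases c19 : r < 15080
  · exact allRange_spec e8Hdec_0_14326 r (by omega) c19
  by_cases c20 : r < 15834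
  · exact allRange_spec e8Hdec_0_15080 r (by omega) c20
  by_cases c21 : r < 16588
  · exact allRange_spec e8Hdec_0_15834 r (by omega) c21
  by_cases c22 : r < 17342
  · exact allRange_spec e8Hdec_0_16588 r (by omega) c22
  by_cases c23 : r < 18096
  · exact allRange_spec e8Hdec_0_17342 r (by omega) c23
  by_cases c24 : r < 18850
  · exact allRange_spec e8Hdec_0_18096 r (by omega) c24
  by_cases c25 : r < 19604
  · exact allRange_spec e8Hdec_0_18850 r (by omega) c25
  by_cases c26 : r < 20358
  · exact allRange_spec e8Hdec_0_19604 r (by omega) c26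
  by_cases c27 : r < 21112
  · exact allRange_spec e8Hdec_0_20358 r (by omega) c27
  by_cases c28 : r < 21866
  · exact allRange_spec e8Hdec_0_21112 r (by omega) c28
  by_cases c29 : r < 22620
  · exact allRange_spec e8Hdec_0_21866 r (by omega) c29
  by_cases c30 : r < 23374
  · exact allRange_spec e8Hdec_0_22620 r (by omega) c30
  by_cases c31 : r < 24128
  · exact allRange_spec e8Hdec_0_23374 r (by omega) c31
  by_cases c32 : r < 24882
  · exact allRange_spec e8Hdec_0_24128 r (by omega) c32
  by_cases c33 : r < 25636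
  · exact allRange_spec e8Hdec_0_24882 r (by omega) c33
  by_cases c34 : r < 26390
  · exact allRange_spec e8Hdec_0_25636 r (by omega) c34
  by_cases c35 : r < 27144
  · exact allRange_spec e8Hdec_0_26390 r (by omega) c35
  exact allRange_spec e8Hdec_0_27144 r (by omega) h2

end Cfsg.Agent.Lib.Helper3.ChevM
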