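import Cfsg.Agent.Lib.Helper3.ChevData.E8Datum
import Cfsg.Agent.Lib.Helper3.ChevData.E8Tabs
import Cfsg.Agent.Lib.Helper3.ChevM7
set_option autoImplicit false
set_option maxRecDepth 1000000
set_option Elab.async false

namespace Cfsg.Agent.Lib.Helper3.ChevM

theorem e8Nchk_0_0 : allRange 0 3 ((fun i => cdE8.checkN i (cdE8.cartI pairE8 i) (reflE8 i) (etaE8 i))) = true := by decide +kernel
theorem e8Nchk_0_3 : allRange 3 6 ((fun i => cdE8.checkN i (cdE8.cartI pairE8 i) (reflE8 i) (etaE8 i))) = true := by decide +kernel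
theorem e8Nchk_0_6 : allRange 6 8 ((fun i => cdE8.checkN i (cdE8.cartI pairE8 i) (reflE8 i) (etaE8 i))) = true := by decide +kernel

/-- Monomial form of the `n_p` of type E8 (roots 0 to 7). -/
theorem e8Nchk_0 : ∀ r, 0 ≤ r → r < 8 → ((fun i => cdE8.checkN i (cdE8.cartI pairE8 i) (reflE8 i) (etaE8 i))) r = true := by
  intro r h1 h2
  by_cases c0 : r < 3
  · exact allRange_spec e8Nchk_0_0 r (by omega) c0
  by_cases c1 : r < 6
  · exact allRange_spec e8Nchk_0_3 r (by omega) c1
  exact allRange_spec e8Nchk_0_6 r (by omega) h2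

end Cfsg.Agent.Lib.Helper3.ChevM
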