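import Cfsg.Agent.Lib.Helper3.ChevData.E8Datum
import Cfsg.Agent.Lib.Helper3.ChevData.E8Tabs
import Cfsg.Agent.Lib.Helper3.ChevM7
set_option autoImplicit false
set_option maxRecDepth 1000000
set_option Elab.async false

namespace Cfsg.Agent.Lib.Helper3.ChevM

theorem e8Nd_0_0 : allRange 0 5 ((fun k => cdE8.checkND (k / 8) (cdE8.cartI pairE8 (k / 8)) (reflE8 (k / 8)) (etaE8 (k / 8)) (cdE8.expo pairE8 (Cfsg.Lie.chevE8.simple (k % 8))) (cdE8.expo pairE8 (reflE8 (k / 8) (Cfsg.Lie.chevE8.simple (k % 8)))))) = true := by decide +kernel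
theorem e8Nd_0_5 : allRange 5 10 ((fun k => cdE8.checkND (k / 8) (cdE8.cartI pairE8 (k / 8)) (reflE8 (k / 8)) (etaE8 (k / 8)) (cdE8.expo pairE8 (Cfsg.Lie.chevE8.simple (k % 8))) (cdE8.expo pairE8 (reflE8 (k / 8) (Cfsg.Lie.chevE8.simple (k % 8)))))) = true := by decide +kernel
theorem e8Nd_0_10 : allRange 10 15 ((fun k => cdE8.checkND (k / 8) (cdE8.cartI pairE8 (k / 8)) (reflE8 (k / 8)) (etaE8 (k / 8)) (cdE8.expo pairE8 (Cfsg.Lie.chevE8.simple (k % 8))) (cdE8.expo pairE8 (reflE8 (k / 8) (Cfsg.Lie.chevE8.simple (k % 8)))))) = true := by decide +kernel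
theorem e8Nd_0_15 : allRange 15 20 ((fun k => cdE8.checkND (k / 8) (cdE8.cartI pairE8 (k / 8)) (reflE8 (k / 8)) (etaE8 (k / 8)) (cdE8.expo pairE8 (Cfsg.Lie.chevE8.simple (k % 8))) (cdE8.expo pairE8 (reflE8 (k / 8) (Cfsg.Lie.chevE8.simple (k % 8)))))) = true := by decide +kernel
theorem e8Nd_0_20 : allRange 20 25 ((fun k => cdE8.checkND (k / 8) (cdE8.cartI pairE8 (k / 8)) (reflE8 (k / 8)) (etaE8 (k / 8)) (cdE8.expo pairE8 (Cfsg.Lie.chevE8.simple (k % 8))) (cdE8.expo pairE8 (reflE8 (k / 8) (Cfsg.Lie.chevE8.simple (k % 8)))))) = true := by decide +kernel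
theorem e8Nd_0_25 : allRange 25 30 ((fun k => cdE8.checkND (k / 8) (cdE8.cartI pairE8 (k / 8)) (reflE8 (k / 8)) (etaE8 (k / 8)) (cdE8.expo pairE8 (Cfsg.Lie.chevE8.simple (k % 8))) (cdE8.expo pairE8 (reflE8 (k / 8) (Cfsg.Lie.chevE8.simple (k % 8)))))) = true := by decide +kernel
theorem e8Nd_0_30 : allRange 30 35 ((fun k => cdE8.checkND (k / 8) (cdE8.cartI pairE8 (k / 8)) (reflE8 (k / 8)) (etaE8 (k / 8)) (cdE8.expo pairE8 (Cfsg.Lie.chevE8.simple (k % 8))) (cdE8.expo pairE8 (reflE8 (k / 8) (Cfsg.Lie.chevE8.simple (k % 8)))))) = true := by decide +kernel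
theorem e8Nd_0_35 : allRange 35 40 ((fun k => cdE8.checkND (k / 8) (cdE8.cartI pairE8 (k / 8)) (reflE8 (k / 8)) (etaE8 (k / 8)) (cdE8.expo pairE8 (Cfsg.Lie.chevE8.simple (k % 8))) (cdE8.expo pairE8 (reflE8 (k / 8) (Cfsg.Lie.chevE8.simple (k % 8)))))) = true := by decide +kernel
theorem e8Nd_0_40 : allRange 40 45 ((fun k => cdE8.checkND (k / 8) (cdE8.cartI pairE8 (k / 8)) (reflE8 (k / 8)) (etaE8 (k / 8)) (cdE8.expo pairE8 (Cfsg.Lie.chevE8.simple (k % 8))) (cdE8.expo pairE8 (reflE8 (k / 8) (Cfsg.Lie.chevE8.simple (k % 8)))))) = true := by decide +kernel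
theorem e8Nd_0_45 : allRange 45 50 ((fun k => cdE8.checkND (k / 8) (cdE8.cartI pairE8 (k / 8)) (reflE8 (k / 8)) (etaE8 (k / 8)) (cdE8.expo pairE8 (Cfsg.Lie.chevE8.simple (k % 8))) (cdE8.expo pairE8 (reflE8 (k / 8) (Cfsg.Lie.chevE8.simple (k % 8)))))) = true := by decide +kernel
theorem e8Nd_0_50 : allRange 50 55 ((fun k => cdE8.checkND (k / 8) (cdE8.cartI pairE8 (k / 8)) (reflE8 (k / 8)) (etaE8 (k / 8)) (cdE8.expo pairE8 (Cfsg.Lie.chevE8.simple (k % 8))) (cdE8.expo pairE8 (reflE8 (k / 8) (Cfsg.Lie.chevE8.simple (k % 8)))))) = true := by decide +kernel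
theorem e8Nd_0_55 : allRange 55 60 ((fun k => cdE8.checkND (k / 8) (cdE8.cartI pairE8 (k / 8)) (reflE8 (k / 8)) (etaE8 (k / 8)) (cdE8.expo pairE8 (Cfsg.Lie.chevE8.simple (k % 8))) (cdE8.expo pairE8 (reflE8 (k / 8) (Cfsg.Lie.chevE8.simple (k % 8)))))) = true := by decide +kernel
theorem e8Nd_0_60 : allRange 60 64 ((fun k => cdE8.checkND (k / 8) (cdE8.cartI pairE8 (k / 8)) (reflE8 (k / 8)) (etaE8 (k / 8)) (cdE8.expo pairE8 (Cfsg.Lie.chevE8.simple (k % 8))) (cdE8.expo pairE8 (reflE8 (k / 8) (Cfsg.Lie.chevE8.simple (k % 8)))))) = true := by decide +kernel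

/-- Conjugation of the `h_p(c)` by the `n_p` of type E8 (roots 0 to 63). -/
theorem e8Nd_0 : ∀ r, 0 ≤ r → r < 64 → ((fun k => cdE8.checkND (k / 8) (cdE8.cartI pairE8 (k / 8)) (reflE8 (k / 8)) (etaE8 (k / 8)) (cdE8.expo pairE8 (Cfsg.Lie.chevE8.simple (k % 8))) (cdE8.expo pairE8 (reflE8 (k / 8) (Cfsg.Lie.chevE8.simple (k % 8)))))) r = true := by
  intro r h1 h2
  by_cases c0 : r < 5
  · exact allRange_spec e8Nd_0_0 r (by omega) c0
  by_cases c1 : r < 10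
  · exact allRange_spec e8Nd_0_5 r (by omega) c1
  by_cases c2 : r < 15
  · exact allRange_spec e8Nd_0_10 r (by omega) c2
  by_cases c3 : r < 20
  · exact allRange_spec e8Nd_0_15 r (by omega) c3
  by_cases c4 : r < 25
  · exact allRange_spec e8Nd_0_20 r (by omega) c4
  by_cases c5 : r < 30
  · exact allRange_spec e8Nd_0_25 r (by omega) c5
  by_cases c6 : r < 35
  · exact allRange_spec e8Nd_0_30 r (by omega) c6
  by_cases c7 : r < 40
  · exact allRange_spec e8Nd_0_35 r (by omega) c7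
  by_cases c8 : r < 45
  · exact allRange_spec e8Nd_0_40 r (by omega) c8
  by_cases c9 : r < 50
  · exact allRange_spec e8Nd_0_45 r (by omega) c9
  by_cases c10 : r < 55
  · exact allRange_spec e8Nd_0_50 r (by omega) c10
  by_cases c11 : r < 60
  · exact allRange_spec e8Nd_0_55 r (by omega) c11
  exact allRange_spec e8Nd_0_60 r (by omega) h2

end Cfsg.Agent.Lib.Helper3.ChevM
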