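import Cfsg.Agent.Lib.Helper3.ChevData.E8Datum
import Cfsg.Agent.Lib.Helper3.ChevG1
set_option autoImplicit false
set_option maxRecDepth 1000000
set_option Elab.async false

namespace Cfsg.Agent.Lib.Helper3.ChevM

theorem e8NegConj_0_0 : allRange 0 1 ((fun r => cdE8.checkNegConj r)) = true := by decide +kernel
theorem e8NegConj_0_1 : allRange 1 2 ((fun r => cdE8.checkNegConj r)) = true := by decide +kernel
theorem e8NegConj_0_2 : allRange 2 3 ((fun r => cdE8.checkNegConj r)) = true := by decide +kernel
theorem e8NegConj_0_3 : allRange 3 4 ((fun r => cdE8.checkNegConj r)) = true := by decide +kernel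
theorem e8NegConj_0_4 : allRange 4 5 ((fun r => cdE8.checkNegConj r)) = true := by decide +kernel
theorem e8NegConj_0_5 : allRange 5 6 ((fun r => cdE8.checkNegConj r)) = true := by decide +kernel
theorem e8NegConj_0_6 : allRange 6 7 ((fun r => cdE8.checkNegConj r)) = true := by decide +kernel
theorem e8NegConj_0_7 : allRange 7 8 ((fun r => cdE8.checkNegConj r)) = true := by decide +kernel
theorem e8NegConj_0_8 : allRange 8 9 ((fun r => cdE8.checkNegConj r)) = true := by decide +kernel
theorem e8NegConj_0_9 : allRange 9 10 ((fun r => cdE8.checkNegConj r)) = true := by decide +kernel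
theorem e8NegConj_0_10 : allRange 10 11 ((fun r => cdE8.checkNegConj r)) = true := by decide +kernel
theorem e8NegConj_0_11 : allRange 11 12 ((fun r => cdE8.checkNegConj r)) = true := by decide +kernel
theorem e8NegConj_0_12 : allRange 12 13 ((fun r => cdE8.checkNegConj r)) = true := by decide +kernel
theorem e8NegConj_0_13 : allRange 13 14 ((fun r => cdE8.checkNegConj r)) = true := by decide +kernel
theorem e8NegConj_0_14 : allRange 14 15 ((fun r => cdE8.checkNegConj r)) = true := by decide +kernel
theorem e8NegConj_0_15 : allRange 15 16 ((fun r => cdE8.checkNegConj r)) = true := by decide +kernel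
theorem e8NegConj_0_16 : allRange 16 17 ((fun r => cdE8.checkNegConj r)) = true := by decide +kernel
theorem e8NegConj_0_17 : allRange 17 18 ((fun r => cdE8.checkNegConj r)) = true := by decide +kernel
theorem e8NegConj_0_18 : allRange 18 19 ((fun r => cdE8.checkNegConj r)) = true := by decide +kernel
theorem e8NegConj_0_19 : allRange 19 20 ((fun r => cdE8.checkNegConj r)) = true := by decide +kernel
theorem e8NegConj_0_20 : allRange 20 21 ((fun r => cdE8.checkNegConj r)) = true := by decide +kernel
theorem e8NegConj_0_21 : allRange 21 22 ((fun r => cdE8.checkNegConj r)) = true := by decide +kernel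
theorem e8NegConj_0_22 : allRange 22 23 ((fun r => cdE8.checkNegConj r)) = true := by decide +kernel
theorem e8NegConj_0_23 : allRange 23 24 ((fun r => cdE8.checkNegConj r)) = true := by decide +kernel
theorem e8NegConj_0_24 : allRange 24 25 ((fun r => cdE8.checkNegConj r)) = true := by decide +kernel
theorem e8NegConj_0_25 : allRange 25 26 ((fun r => cdE8.checkNegConj r)) = true := by decide +kernel
theorem e8NegConj_0_26 : allRange 26 27 ((fun r => cdE8.checkNegConj r)) = true := by decide +kernel
theorem e8NegConj_0_27 : allRange 27 28 ((fun r => cdE8.checkNegConj r)) = true := by decide +kernel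
theorem e8NegConj_0_28 : allRange 28 29 ((fun r => cdE8.checkNegConj r)) = true := by decide +kernel
theorem e8NegConj_0_29 : allRange 29 30 ((fun r => cdE8.checkNegConj r)) = true := by decide +kernel
theorem e8NegConj_0_30 : allRange 30 31 ((fun r => cdE8.checkNegConj r)) = true := by decide +kernel
theorem e8NegConj_0_31 : allRange 31 32 ((fun r => cdE8.checkNegConj r)) = true := by decide +kernel
theorem e8NegConj_0_32 : allRange 32 33 ((fun r => cdE8.checkNegConj r)) = true := by decide +kernel
theorem e8NegConj_0_33 : allRange 33 34 ((fun r => cdE8.checkNegConj r)) = true := by decide +kernel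
theorem e8NegConj_0_34 : allRange 34 35 ((fun r => cdE8.checkNegConj r)) = true := by decide +kernel
theorem e8NegConj_0_35 : allRange 35 36 ((fun r => cdE8.checkNegConj r)) = true := by decide +kernel
theorem e8NegConj_0_36 : allRange 36 37 ((fun r => cdE8.checkNegConj r)) = true := by decide +kernel
theorem e8NegConj_0_37 : allRange 37 38 ((fun r => cdE8.checkNegConj r)) = true := by decide +kernel
theorem e8NegConj_0_38 : allRange 38 39 ((fun r => cdE8.checkNegConj r)) = true := by decide +kernel
theorem e8NegConj_0_39 : allRange 39 40 ((fun r => cdE8.checkNegConj r)) = true := by decide +kernel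
theorem e8NegConj_0_40 : allRange 40 41 ((fun r => cdE8.checkNegConj r)) = true := by decide +kernel
theorem e8NegConj_0_41 : allRange 41 42 ((fun r => cdE8.checkNegConj r)) = true := by decide +kernel
theorem e8NegConj_0_42 : allRange 42 43 ((fun r => cdE8.checkNegConj r)) = true := by decide +kernel
theorem e8NegConj_0_43 : allRange 43 44 ((fun r => cdE8.checkNegConj r)) = true := by decide +kernel
theorem e8NegConj_0_44 : allRange 44 45 ((fun r => cdE8.checkNegConj r)) = true := by decide +kernel
theorem e8NegConj_0_45 : allRange 45 46 ((fun r => cdE8.checkNegConj r)) = true := by decide +kernel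
theorem e8NegConj_0_46 : allRange 46 47 ((fun r => cdE8.checkNegConj r)) = true := by decide +kernel
theorem e8NegConj_0_47 : allRange 47 48 ((fun r => cdE8.checkNegConj r)) = true := by decide +kernel
theorem e8NegConj_0_48 : allRange 48 49 ((fun r => cdE8.checkNegConj r)) = true := by decide +kernel
theorem e8NegConj_0_49 : allRange 49 50 ((fun r => cdE8.checkNegConj r)) = true := by decide +kernel
theorem e8NegConj_0_50 : allRange 50 51 ((fun r => cdE8.checkNegConj r)) = true := by decide +kernel
theorem e8NegConj_0_51 : allRange 51 52 ((fun r => cdE8.checkNegConj r)) = true := by decide +kernel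
theorem e8NegConj_0_52 : allRange 52 53 ((fun r => cdE8.checkNegConj r)) = true := by decide +kernel
theorem e8NegConj_0_53 : allRange 53 54 ((fun r => cdE8.checkNegConj r)) = true := by decide +kernel
theorem e8NegConj_0_54 : allRange 54 55 ((fun r => cdE8.checkNegConj r)) = true := by decide +kernel
theorem e8NegConj_0_55 : allRange 55 56 ((fun r => cdE8.checkNegConj r)) = true := by decide +kernel
theorem e8NegConj_0_56 : allRange 56 57 ((fun r => cdE8.checkNegConj r)) = true := by decide +kernel
theorem e8NegConj_0_57 : allRange 57 58 ((fun r => cdE8.checkNegConj r)) = true := by decide +kernel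
theorem e8NegConj_0_58 : allRange 58 59 ((fun r => cdE8.checkNegConj r)) = true := by decide +kernel
theorem e8NegConj_0_59 : allRange 59 60 ((fun r => cdE8.checkNegConj r)) = true := by decide +kernel

/-- Conjugation of `x_r(t)` by `n_r` of type E8 (roots 0 to 59). -/
theorem e8NegConj_0 : ∀ r, 0 ≤ r → r < 60 → ((fun r => cdE8.checkNegConj r)) r = true := by
  intro r h1 h2
  by_cases c0 : r < 1
  · exact allRange_spec e8NegConj_0_0 r (by omega) c0
  by_cases c1 : r < 2
  · exact allRange_spec e8NegConj_0_1 r (by omega) c1
  by_cases c2 : r < 3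
  · exact allRange_spec e8NegConj_0_2 r (by omega) c2
  by_cases c3 : r < 4
  · exact allRange_spec e8NegConj_0_3 r (by omega) c3
  by_cases c4 : r < 5
  · exact allRange_spec e8NegConj_0_4 r (by omega) c4
  by_cases c5 : r < 6
  · exact allRange_spec e8NegConj_0_5 r (by omega) c5
  by_cases c6 : r < 7
  · exact allRange_spec e8NegConj_0_6 r (by omega) c6
  by_cases c7 : r < 8
  · exact allRange_spec e8NegConj_0_7 r (by omega) c7
  by_cases c8 : r < 9
  · exact allRange_spec e8NegConj_0_8 r (by omega) c8
  by_cases c9 : r < 10
  · exact allRange_spec e8NegConj_0_9 r (by omega) c9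
  by_cases c10 : r < 11
  · exact allRange_spec e8NegConj_0_10 r (by omega) c10
  by_cases c11 : r < 12
  · exact allRange_spec e8NegConj_0_11 r (by omega) c11
  by_cases c12 : r < 13
  · exact allRange_spec e8NegConj_0_12 r (by omega) c12
  by_cases c13 : r < 14
  · exact allRange_spec e8NegConj_0_13 r (by omega) c13
  by_cases c14 : r < 15
  · exact allRange_spec e8NegConj_0_14 r (by omega) c14
  by_cases c15 : r < 16
  · exact allRange_spec e8NegConj_0_15 r (by omega) c15
  by_cases c16 : r < 17
  · exact allRange_spec e8NegConj_0_16 r (by omega) c16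
  by_cases c17 : r < 18
  · exact allRange_spec e8NegConj_0_17 r (by omega) c17
  by_cases c18 : r < 19
  · exact allRange_spec e8NegConj_0_18 r (by omega) c18
  by_cases c19 : r < 20
  · exact allRange_spec e8NegConj_0_19 r (by omega) c19
  by_cases c20 : r < 21
  · exact allRange_spec e8NegConj_0_20 r (by omega) c20
  by_cases c21 : r < 22
  · exact allRange_spec e8NegConj_0_21 r (by omega) c21
  by_cases c22 : r < 23
  · exact allRange_spec e8NegConj_0_22 r (by omega) c22
  by_cases c23 : r < 24
  · exact allRange_spec e8NegConj_0_23 r (by omega) c23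
  by_cases c24 : r < 25
  · exact allRange_spec e8NegConj_0_24 r (by omega) c24
  by_cases c25 : r < 26
  · exact allRange_spec e8NegConj_0_25 r (by omega) c25
  by_cases c26 : r < 27
  · exact allRange_spec e8NegConj_0_26 r (by omega) c26
  by_cases c27 : r < 28
  · exact allRange_spec e8NegConj_0_27 r (by omega) c27
  by_cases c28 : r < 29
  · exact allRange_spec e8NegConj_0_28 r (by omega) c28
  by_cases c29 : r < 30
  · exact allRange_spec e8NegConj_0_29 r (by omega) c29
  by_cases c30 : r < 31
  · exact allRange_spec e8NegConj_0_30 r (by omega) c30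
  by_cases c31 : r < 32
  · exact allRange_spec e8NegConj_0_31 r (by omega) c31
  by_cases c32 : r < 33
  · exact allRange_spec e8NegConj_0_32 r (by omega) c32
  by_cases c33 : r < 34
  · exact allRange_spec e8NegConj_0_33 r (by omega) c33
  by_cases c34 : r < 35
  · exact allRange_spec e8NegConj_0_34 r (by omega) c34
  by_cases c35 : r < 36
  · exact allRange_spec e8NegConj_0_35 r (by omega) c35
  by_cases c36 : r < 37
  · exact allRange_spec e8NegConj_0_36 r (by omega) c36
  by_cases c37 : r < 38
  · exact allRange_spec e8NegConj_0_37 r (by omega) c37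
  by_cases c38 : r < 39
  · exact allRange_spec e8NegConj_0_38 r (by omega) c38
  by_cases c39 : r < 40
  · exact allRange_spec e8NegConj_0_39 r (by omega) c39
  by_cases c40 : r < 41
  · exact allRange_spec e8NegConj_0_40 r (by omega) c40
  by_cases c41 : r < 42
  · exact allRange_spec e8NegConj_0_41 r (by omega) c41
  by_cases c42 : r < 43
  · exact allRange_spec e8NegConj_0_42 r (by omega) c42
  by_cases c43 : r < 44
  · exact allRange_spec e8NegConj_0_43 r (by omega) c43
  by_cases c44 : r < 45
  · exact allRange_spec e8NegConj_0_44 r (by omega) c44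
  by_cases c45 : r < 46
  · exact allRange_spec e8NegConj_0_45 r (by omega) c45
  by_cases c46 : r < 47
  · exact allRange_spec e8NegConj_0_46 r (by omega) c46
  by_cases c47 : r < 48
  · exact allRange_spec e8NegConj_0_47 r (by omega) c47
  by_cases c48 : r < 49
  · exact allRange_spec e8NegConj_0_48 r (by omega) c48
  by_cases c49 : r < 50
  · exact allRange_spec e8NegConj_0_49 r (by omega) c49
  by_cases c50 : r < 51
  · exact allRange_spec e8NegConj_0_50 r (by omega) c50
  by_cases c51 : r < 52
  · exact allRange_spec e8NegConj_0_51 r (by omega) c51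
  by_cases c52 : r < 53
  · exact allRange_spec e8NegConj_0_52 r (by omega) c52
  by_cases c53 : r < 54
  · exact allRange_spec e8NegConj_0_53 r (by omega) c53
  by_cases c54 : r < 55
  · exact allRange_spec e8NegConj_0_54 r (by omega) c54
  by_cases c55 : r < 56
  · exact allRange_spec e8NegConj_0_55 r (by omega) c55
  by_cases c56 : r < 57
  · exact allRange_spec e8NegConj_0_56 r (by omega) c56
  by_cases c57 : r < 58
  · exact allRange_spec e8NegConj_0_57 r (by omega) c57
  by_cases c58 : r < 59
  · exact allRange_spec e8NegConj_0_58 r (by omega) c58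
  exact allRange_spec e8NegConj_0_59 r (by omega) h2

end Cfsg.Agent.Lib.Helper3.ChevM
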