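import Cfsg.Prelude.Def_ChevE8
import Cfsg.Agent.Lib.Helper3.ChevData.E8Tabs
import Cfsg.Agent.Lib.Helper3.ChevW2
set_option autoImplicit false
set_option maxRecDepth 1000000
set_option Elab.async false

namespace Cfsg.Agent.Lib.Helper3.ChevM

theorem e8NegRefl_0_0 : allRange 0 285 ((fun k => negReflCheck Cfsg.Lie.chevE8 reflE8 (k / 240) (k % 240))) = true := by decide +kernel
theorem e8NegRefl_0_285 : allRange 285 570 ((fun k => negReflCheck Cfsg.Lie.chevE8 reflE8 (k / 240) (k % 240))) = true := by decide +kernel
theorem e8NegRefl_0_570 : allRange 570 855 ((fun k => negReflCheck Cfsg.Lie.chevE8 reflE8 (k / 240) (k % 240))) = true := by decide +kernel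
theorem e8NegRefl_0_855 : allRange 855 1140 ((fun k => negReflCheck Cfsg.Lie.chevE8 reflE8 (k / 240) (k % 240))) = true := by decide +kernel
theorem e8NegRefl_0_1140 : allRange 1140 1425 ((fun k => negReflCheck Cfsg.Lie.chevE8 reflE8 (k / 240) (k % 240))) = true := by decide +kernel
theorem e8NegRefl_0_1425 : allRange 1425 1710 ((fun k => negReflCheck Cfsg.Lie.chevE8 reflE8 (k / 240) (k % 240))) = true := by decide +kernel
theorem e8NegRefl_0_1710 : allRange 1710 1920 ((fun k => negReflCheck Cfsg.Lie.chevE8 reflE8 (k / 240) (k % 240))) = true := by decide +kernel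

/-- The fundamental reflections of type E8 commute with the negation of roots (roots 0 to 1919). -/
theorem e8NegRefl_0 : ∀ r, 0 ≤ r → r < 1920 → ((fun k => negReflCheck Cfsg.Lie.chevE8 reflE8 (k / 240) (k % 240))) r = true := by
  intro r h1 h2
  by_cases c0 : r < 285
  · exact allRange_spec e8NegRefl_0_0 r (by omega) c0
  by_cases c1 : r < 570
  · exact allRange_spec e8NegRefl_0_285 r (by omega) c1
  by_cases c2 : r < 855
  · exact allRange_spec e8NegRefl_0_570 r (by omega) c2
  by_cases c3 : r < 1140
  · exact allRange_spec e8NegRefl_0_855 r (by omega) c3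
  by_cases c4 : r < 1425
  · exact allRange_spec e8NegRefl_0_1140 r (by omega) c4
  by_cases c5 : r < 1710
  · exact allRange_spec e8NegRefl_0_1425 r (by omega) c5
  exact allRange_spec e8NegRefl_0_1710 r (by omega) h2

end Cfsg.Agent.Lib.Helper3.ChevM
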