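import Cfsg.Agent.Lib.Helper3.ChevData.E8Datum
import Cfsg.Agent.Lib.Helper3.ChevG4
set_option autoImplicit false
set_option maxRecDepth 1000000
set_option Elab.async false

namespace Cfsg.Agent.Lib.Helper3.ChevM

theorem e8NegTri_0_0 : allRange 0 29 ((fun r => negTri cdE8 r)) = true := by decide +kernel
theorem e8NegTri_0_29 : allRange 29 58 ((fun r => negTri cdE8 r)) = true := by decide +kernel
theorem e8NegTri_0_58 : allRange 58 87 ((fun r => negTri cdE8 r)) = true := by decide +kernel
theorem e8NegTri_0_87 : allRange 87 116 ((fun r => negTri cdE8 r)) = true := by decide +kernel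
theorem e8NegTri_0_116 : allRange 116 145 ((fun r => negTri cdE8 r)) = true := by decide +kernel
theorem e8NegTri_0_145 : allRange 145 174 ((fun r => negTri cdE8 r)) = true := by decide +kernel
theorem e8NegTri_0_174 : allRange 174 203 ((fun r => negTri cdE8 r)) = true := by decide +kernel
theorem e8NegTri_0_203 : allRange 203 232 ((fun r => negTri cdE8 r)) = true := by decide +kernel
theorem e8NegTri_0_232 : allRange 232 240 ((fun r => negTri cdE8 r)) = true := by decide +kernel

/-- Triangularity of the negative root elements of type E8 (roots 0 to 239). -/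
theorem e8NegTri_0 : ∀ r, 0 ≤ r → r < 240 → ((fun r => negTri cdE8 r)) r = true := by
  intro r h1 h2
  by_cases c0 : r < 29
  · exact allRange_spec e8NegTri_0_0 r (by omega) c0
  by_cases c1 : r < 58
  · exact allRange_spec e8NegTri_0_29 r (by omega) c1
  by_cases c2 : r < 87
  · exact allRange_spec e8NegTri_0_58 r (by omega) c2
  by_cases c3 : r < 116
  · exact allRange_spec e8NegTri_0_87 r (by omega) c3
  by_cases c4 : r < 145
  · exact allRange_spec e8NegTri_0_116 r (by omega) c4
  by_cases c5 : r < 174
  · exact allRange_spec e8NegTri_0_145 r (by omega) c5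
  by_cases c6 : r < 203
  · exact allRange_spec e8NegTri_0_174 r (by omega) c6
  by_cases c7 : r < 232
  · exact allRange_spec e8NegTri_0_203 r (by omega) c7
  exact allRange_spec e8NegTri_0_232 r (by omega) h2

end Cfsg.Agent.Lib.Helper3.ChevM
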