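import Cfsg.Prelude.Def_ChevE8
import Cfsg.Agent.Lib.Helper3.ChevData.E8Tabs
import Cfsg.Agent.Lib.Helper3.ChevData.E8OrdTab
import Cfsg.Agent.Lib.Helper3.ChevO2
import Cfsg.Agent.Lib.Helper3.ChevData.E8Nw7Tab
set_option autoImplicit false
set_option maxRecDepth 1000000
set_option Elab.async false

namespace Cfsg.Agent.Lib.Helper3.ChevM

theorem e8Nw7_0_0 : allRange 0 3 ((fun a => decide (Nw Cfsg.Lie.chevE8 reflE8 (dlE87.getD a []) = nwE87.getD a 0))) = true := by decide +kernel
theorem e8Nw7_0_3 : allRange 3 6 ((fun a => decide (Nw Cfsg.Lie.chevE8 reflE8 (dlE87.getD a []) = nwE87.getD a 0))) = true := by decide +kernel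
theorem e8Nw7_0_6 : allRange 6 9 ((fun a => decide (Nw Cfsg.Lie.chevE8 reflE8 (dlE87.getD a []) = nwE87.getD a 0))) = true := by decide +kernel
theorem e8Nw7_0_9 : allRange 9 12 ((fun a => decide (Nw Cfsg.Lie.chevE8 reflE8 (dlE87.getD a []) = nwE87.getD a 0))) = true := by decide +kernel
theorem e8Nw7_0_12 : allRange 12 15 ((fun a => decide (Nw Cfsg.Lie.chevE8 reflE8 (dlE87.getD a []) = nwE87.getD a 0))) = true := by decide +kernel
theorem e8Nw7_0_15 : allRange 15 18 ((fun a => decide (Nw Cfsg.Lie.chevE8 reflE8 (dlE87.getD a []) = nwE87.getD a 0))) = true := by decide +kernel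
theorem e8Nw7_0_18 : allRange 18 21 ((fun a => decide (Nw Cfsg.Lie.chevE8 reflE8 (dlE87.getD a []) = nwE87.getD a 0))) = true := by decide +kernel
theorem e8Nw7_0_21 : allRange 21 24 ((fun a => decide (Nw Cfsg.Lie.chevE8 reflE8 (dlE87.getD a []) = nwE87.getD a 0))) = true := by decide +kernel

/-- The numbers of inversions of the representatives of step 7 of type E8 (roots 0 to 23). -/
theorem e8Nw7_0 : ∀ r, 0 ≤ r → r < 24 → ((fun a => decide (Nw Cfsg.Lie.chevE8 reflE8 (dlE87.getD a []) = nwE87.getD a 0))) r = true := by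
  intro r h1 h2
  by_cases c0 : r < 3
  · exact allRange_spec e8Nw7_0_0 r (by omega) c0
  by_cases c1 : r < 6
  · exact allRange_spec e8Nw7_0_3 r (by omega) c1
  by_cases c2 : r < 9
  · exact allRange_spec e8Nw7_0_6 r (by omega) c2
  by_cases c3 : r < 12
  · exact allRange_spec e8Nw7_0_9 r (by omega) c3
  by_cases c4 : r < 15
  · exact allRange_spec e8Nw7_0_12 r (by omega) c4
  by_cases c5 : r < 18
  · exact allRange_spec e8Nw7_0_15 r (by omega) c5
  by_cases c6 : r < 21
  · exact allRange_spec e8Nw7_0_18 r (by omega) c6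
  exact allRange_spec e8Nw7_0_21 r (by omega) h2

end Cfsg.Agent.Lib.Helper3.ChevM
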