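import Cfsg.Prelude.Def_ChevE8
import Cfsg.Agent.Lib.Helper3.ChevM4
import Cfsg.Agent.Lib.Helper3.ChevData.E8Cols
set_option autoImplicit false
set_option maxRecDepth 1000000
set_option Elab.async false

namespace Cfsg.Agent.Lib.Helper3.ChevM

theorem e8Ok_2_60 : allRange 60 61 (colsCheck Cfsg.Lie.chevE8 colsE8) = true := by decide +kernel
theorem e8Ok_2_61 : allRange 61 62 (colsCheck Cfsg.Lie.chevE8 colsE8) = true := by decide +kernel
theorem e8Ok_2_62 : allRange 62 63 (colsCheck Cfsg.Lie.chevE8 colsE8) = true := by decide +kernel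
theorem e8Ok_2_63 : allRange 63 64 (colsCheck Cfsg.Lie.chevE8 colsE8) = true := by decide +kernel
theorem e8Ok_2_64 : allRange 64 65 (colsCheck Cfsg.Lie.chevE8 colsE8) = true := by decide +kernel
theorem e8Ok_2_65 : allRange 65 66 (colsCheck Cfsg.Lie.chevE8 colsE8) = true := by decide +kernel
theorem e8Ok_2_66 : allRange 66 67 (colsCheck Cfsg.Lie.chevE8 colsE8) = true := by decide +kernel
theorem e8Ok_2_67 : allRange 67 68 (colsCheck Cfsg.Lie.chevE8 colsE8) = true := by decide +kernel
theorem e8Ok_2_68 : allRange 68 69 (colsCheck Cfsg.Lie.chevE8 colsE8) = true := by decide +kernel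
theorem e8Ok_2_69 : allRange 69 70 (colsCheck Cfsg.Lie.chevE8 colsE8) = true := by decide +kernel
theorem e8Ok_2_70 : allRange 70 71 (colsCheck Cfsg.Lie.chevE8 colsE8) = true := by decide +kernel
theorem e8Ok_2_71 : allRange 71 72 (colsCheck Cfsg.Lie.chevE8 colsE8) = true := by decide +kernel
theorem e8Ok_2_72 : allRange 72 73 (colsCheck Cfsg.Lie.chevE8 colsE8) = true := by decide +kernel
theorem e8Ok_2_73 : allRange 73 74 (colsCheck Cfsg.Lie.chevE8 colsE8) = true := by decide +kernel
theorem e8Ok_2_74 : allRange 74 75 (colsCheck Cfsg.Lie.chevE8 colsE8) = true := by decide +kernel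
theorem e8Ok_2_75 : allRange 75 76 (colsCheck Cfsg.Lie.chevE8 colsE8) = true := by decide +kernel
theorem e8Ok_2_76 : allRange 76 77 (colsCheck Cfsg.Lie.chevE8 colsE8) = true := by decide +kernel
theorem e8Ok_2_77 : allRange 77 78 (colsCheck Cfsg.Lie.chevE8 colsE8) = true := by decide +kernel
theorem e8Ok_2_78 : allRange 78 79 (colsCheck Cfsg.Lie.chevE8 colsE8) = true := by decide +kernel
theorem e8Ok_2_79 : allRange 79 80 (colsCheck Cfsg.Lie.chevE8 colsE8) = true := by decide +kernel
theorem e8Ok_2_80 : allRange 80 81 (colsCheck Cfsg.Lie.chevE8 colsE8) = true := by decide +kernel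
theorem e8Ok_2_81 : allRange 81 82 (colsCheck Cfsg.Lie.chevE8 colsE8) = true := by decide +kernel
theorem e8Ok_2_82 : allRange 82 83 (colsCheck Cfsg.Lie.chevE8 colsE8) = true := by decide +kernel
theorem e8Ok_2_83 : allRange 83 84 (colsCheck Cfsg.Lie.chevE8 colsE8) = true := by decide +kernel
theorem e8Ok_2_84 : allRange 84 85 (colsCheck Cfsg.Lie.chevE8 colsE8) = true := by decide +kernel
theorem e8Ok_2_85 : allRange 85 86 (colsCheck Cfsg.Lie.chevE8 colsE8) = true := by decide +kernel
theorem e8Ok_2_86 : allRange 86 87 (colsCheck Cfsg.Lie.chevE8 colsE8) = true := by decide +kernel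
theorem e8Ok_2_87 : allRange 87 88 (colsCheck Cfsg.Lie.chevE8 colsE8) = true := by decide +kernel
theorem e8Ok_2_88 : allRange 88 89 (colsCheck Cfsg.Lie.chevE8 colsE8) = true := by decide +kernel
theorem e8Ok_2_89 : allRange 89 90 (colsCheck Cfsg.Lie.chevE8 colsE8) = true := by decide +kernel

/-- The compiled columns of type E8 agree with the tables (roots 60 to 89). -/
theorem e8Ok_2 : ∀ r, 60 ≤ r → r < 90 → (colsCheck Cfsg.Lie.chevE8 colsE8) r = true := by
  intro r h1 h2
  by_cases c0 : r < 61
  · exact allRange_spec e8Ok_2_60 r (by omega) c0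
  by_cases c1 : r < 62
  · exact allRange_spec e8Ok_2_61 r (by omega) c1
  by_cases c2 : r < 63
  · exact allRange_spec e8Ok_2_62 r (by omega) c2
  by_cases c3 : r < 64
  · exact allRange_spec e8Ok_2_63 r (by omega) c3
  by_cases c4 : r < 65
  · exact allRange_spec e8Ok_2_64 r (by omega) c4
  by_cases c5 : r < 66
  · exact allRange_spec e8Ok_2_65 r (by omega) c5
  by_cases c6 : r < 67
  · exact allRange_spec e8Ok_2_66 r (by omega) c6
  by_cases c7 : r < 68
  · exact allRange_spec e8Ok_2_67 r (by omega) c7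
  by_cases c8 : r < 69
  · exact allRange_spec e8Ok_2_68 r (by omega) c8
  by_cases c9 : r < 70
  · exact allRange_spec e8Ok_2_69 r (by omega) c9
  by_cases c10 : r < 71
  · exact allRange_spec e8Ok_2_70 r (by omega) c10
  by_cases c11 : r < 72
  · exact allRange_spec e8Ok_2_71 r (by omega) c11
  by_cases c12 : r < 73
  · exact allRange_spec e8Ok_2_72 r (by omega) c12
  by_cases c13 : r < 74
  · exact allRange_spec e8Ok_2_73 r (by omega) c13
  by_cases c14 : r < 75
  · exact allRange_spec e8Ok_2_74 r (by omega) c14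
  by_cases c15 : r < 76
  · exact allRange_spec e8Ok_2_75 r (by omega) c15
  by_cases c16 : r < 77
  · exact allRange_spec e8Ok_2_76 r (by omega) c16
  by_cases c17 : r < 78
  · exact allRange_spec e8Ok_2_77 r (by omega) c17
  by_cases c18 : r < 79
  · exact allRange_spec e8Ok_2_78 r (by omega) c18
  by_cases c19 : r < 80
  · exact allRange_spec e8Ok_2_79 r (by omega) c19
  by_cases c20 : r < 81
  · exact allRange_spec e8Ok_2_80 r (by omega) c20
  by_cases c21 : r < 82
  · exact allRange_spec e8Ok_2_81 r (by omega) c21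
  by_cases c22 : r < 83
  · exact allRange_spec e8Ok_2_82 r (by omega) c22
  by_cases c23 : r < 84
  · exact allRange_spec e8Ok_2_83 r (by omega) c23
  by_cases c24 : r < 85
  · exact allRange_spec e8Ok_2_84 r (by omega) c24
  by_cases c25 : r < 86
  · exact allRange_spec e8Ok_2_85 r (by omega) c25
  by_cases c26 : r < 87
  · exact allRange_spec e8Ok_2_86 r (by omega) c26
  by_cases c27 : r < 88
  · exact allRange_spec e8Ok_2_87 r (by omega) c27
  by_cases c28 : r < 89
  · exact allRange_spec e8Ok_2_88 r (by omega) c28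
  exact allRange_spec e8Ok_2_89 r (by omega) h2

end Cfsg.Agent.Lib.Helper3.ChevM
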