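import Cfsg.Prelude.Def_ChevE8
import Cfsg.Agent.Lib.Helper3.ChevM4
import Cfsg.Agent.Lib.Helper3.ChevData.E8Cols
set_option autoImplicit false
set_option maxRecDepth 1000000
set_option Elab.async false

namespace Cfsg.Agent.Lib.Helper3.ChevM

theorem e8Ok_3_90 : allRange 90 91 (colsCheck Cfsg.Lie.chevE8 colsE8) = true := by decide +kernel
theorem e8Ok_3_91 : allRange 91 92 (colsCheck Cfsg.Lie.chevE8 colsE8) = true := by decide +kernel
theorem e8Ok_3_92 : allRange 92 93 (colsCheck Cfsg.Lie.chevE8 colsE8) = true := by decide +kernel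
theorem e8Ok_3_93 : allRange 93 94 (colsCheck Cfsg.Lie.chevE8 colsE8) = true := by decide +kernel
theorem e8Ok_3_94 : allRange 94 95 (colsCheck Cfsg.Lie.chevE8 colsE8) = true := by decide +kernel
theorem e8Ok_3_95 : allRange 95 96 (colsCheck Cfsg.Lie.chevE8 colsE8) = true := by decide +kernel
theorem e8Ok_3_96 : allRange 96 97 (colsCheck Cfsg.Lie.chevE8 colsE8) = true := by decide +kernel
theorem e8Ok_3_97 : allRange 97 98 (colsCheck Cfsg.Lie.chevE8 colsE8) = true := by decide +kernel
theorem e8Ok_3_98 : allRange 98 99 (colsCheck Cfsg.Lie.chevE8 colsE8) = true := by decide +kernel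
theorem e8Ok_3_99 : allRange 99 100 (colsCheck Cfsg.Lie.chevE8 colsE8) = true := by decide +kernel
theorem e8Ok_3_100 : allRange 100 101 (colsCheck Cfsg.Lie.chevE8 colsE8) = true := by decide +kernel
theorem e8Ok_3_101 : allRange 101 102 (colsCheck Cfsg.Lie.chevE8 colsE8) = true := by decide +kernel
theorem e8Ok_3_102 : allRange 102 103 (colsCheck Cfsg.Lie.chevE8 colsE8) = true := by decide +kernel
theorem e8Ok_3_103 : allRange 103 104 (colsCheck Cfsg.Lie.chevE8 colsE8) = true := by decide +kernel
theorem e8Ok_3_104 : allRange 104 105 (colsCheck Cfsg.Lie.chevE8 colsE8) = true := by decide +kernel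
theorem e8Ok_3_105 : allRange 105 106 (colsCheck Cfsg.Lie.chevE8 colsE8) = true := by decide +kernel
theorem e8Ok_3_106 : allRange 106 107 (colsCheck Cfsg.Lie.chevE8 colsE8) = true := by decide +kernel
theorem e8Ok_3_107 : allRange 107 108 (colsCheck Cfsg.Lie.chevE8 colsE8) = true := by decide +kernel
theorem e8Ok_3_108 : allRange 108 109 (colsCheck Cfsg.Lie.chevE8 colsE8) = true := by decide +kernel
theorem e8Ok_3_109 : allRange 109 110 (colsCheck Cfsg.Lie.chevE8 colsE8) = true := by decide +kernel
theorem e8Ok_3_110 : allRange 110 111 (colsCheck Cfsg.Lie.chevE8 colsE8) = true := by decide +kernel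
theorem e8Ok_3_111 : allRange 111 112 (colsCheck Cfsg.Lie.chevE8 colsE8) = true := by decide +kernel
theorem e8Ok_3_112 : allRange 112 113 (colsCheck Cfsg.Lie.chevE8 colsE8) = true := by decide +kernel
theorem e8Ok_3_113 : allRange 113 114 (colsCheck Cfsg.Lie.chevE8 colsE8) = true := by decide +kernel
theorem e8Ok_3_114 : allRange 114 115 (colsCheck Cfsg.Lie.chevE8 colsE8) = true := by decide +kernel
theorem e8Ok_3_115 : allRange 115 116 (colsCheck Cfsg.Lie.chevE8 colsE8) = true := by decide +kernel
theorem e8Ok_3_116 : allRange 116 117 (colsCheck Cfsg.Lie.chevE8 colsE8) = true := by decide +kernel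
theorem e8Ok_3_117 : allRange 117 118 (colsCheck Cfsg.Lie.chevE8 colsE8) = true := by decide +kernel
theorem e8Ok_3_118 : allRange 118 119 (colsCheck Cfsg.Lie.chevE8 colsE8) = true := by decide +kernel
theorem e8Ok_3_119 : allRange 119 120 (colsCheck Cfsg.Lie.chevE8 colsE8) = true := by decide +kernel

/-- The compiled columns of type E8 agree with the tables (roots 90 to 119). -/
theorem e8Ok_3 : ∀ r, 90 ≤ r → r < 120 → (colsCheck Cfsg.Lie.chevE8 colsE8) r = true := by
  intro r h1 h2
  by_cases c0 : r < 91
  · exact allRange_spec e8Ok_3_90 r (by omega) c0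
  by_cases c1 : r < 92
  · exact allRange_spec e8Ok_3_91 r (by omega) c1
  by_cases c2 : r < 93
  · exact allRange_spec e8Ok_3_92 r (by omega) c2
  by_cases c3 : r < 94
  · exact allRange_spec e8Ok_3_93 r (by omega) c3
  by_cases c4 : r < 95
  · exact allRange_spec e8Ok_3_94 r (by omega) c4
  by_cases c5 : r < 96
  · exact allRange_spec e8Ok_3_95 r (by omega) c5
  by_cases c6 : r < 97
  · exact allRange_spec e8Ok_3_96 r (by omega) c6
  by_cases c7 : r < 98
  · exact allRange_spec e8Ok_3_97 r (by omega) c7
  by_cases c8 : r < 99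
  · exact allRange_spec e8Ok_3_98 r (by omega) c8
  by_cases c9 : r < 100
  · exact allRange_spec e8Ok_3_99 r (by omega) c9
  by_cases c10 : r < 101
  · exact allRange_spec e8Ok_3_100 r (by omega) c10
  by_cases c11 : r < 102
  · exact allRange_spec e8Ok_3_101 r (by omega) c11
  by_cases c12 : r < 103
  · exact allRange_spec e8Ok_3_102 r (by omega) c12
  by_cases c13 : r < 104
  · exact allRange_spec e8Ok_3_103 r (by omega) c13
  by_cases c14 : r < 105
  · exact allRange_spec e8Ok_3_104 r (by omega) c14
  by_cases c15 : r < 106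
  · exact allRange_spec e8Ok_3_105 r (by omega) c15
  by_cases c16 : r < 107
  · exact allRange_spec e8Ok_3_106 r (by omega) c16
  by_cases c17 : r < 108
  · exact allRange_spec e8Ok_3_107 r (by omega) c17
  by_cases c18 : r < 109
  · exact allRange_spec e8Ok_3_108 r (by omega) c18
  by_cases c19 : r < 110
  · exact allRange_spec e8Ok_3_109 r (by omega) c19
  by_cases c20 : r < 111
  · exact allRange_spec e8Ok_3_110 r (by omega) c20
  by_cases c21 : r < 112
  · exact allRange_spec e8Ok_3_111 r (by omega) c21
  by_cases c22 : r < 113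
  · exact allRange_spec e8Ok_3_112 r (by omega) c22
  by_cases c23 : r < 114
  · exact allRange_spec e8Ok_3_113 r (by omega) c23
  by_cases c24 : r < 115
  · exact allRange_spec e8Ok_3_114 r (by omega) c24
  by_cases c25 : r < 116
  · exact allRange_spec e8Ok_3_115 r (by omega) c25
  by_cases c26 : r < 117
  · exact allRange_spec e8Ok_3_116 r (by omega) c26
  by_cases c27 : r < 118
  · exact allRange_spec e8Ok_3_117 r (by omega) c27
  by_cases c28 : r < 119
  · exact allRange_spec e8Ok_3_118 r (by omega) c28
  exact allRange_spec e8Ok_3_119 r (by omega) h2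

end Cfsg.Agent.Lib.Helper3.ChevM
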