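import Cfsg.Prelude.Def_ChevE8
import Cfsg.Agent.Lib.Helper3.ChevM4
import Cfsg.Agent.Lib.Helper3.ChevData.E8Cols
set_option autoImplicit false
set_option maxRecDepth 1000000
set_option Elab.async false

namespace Cfsg.Agent.Lib.Helper3.ChevM

theorem e8Ok_4_120 : allRange 120 121 (colsCheck Cfsg.Lie.chevE8 colsE8) = true := by decide +kernel
theorem e8Ok_4_121 : allRange 121 122 (colsCheck Cfsg.Lie.chevE8 colsE8) = true := by decide +kernel
theorem e8Ok_4_122 : allRange 122 123 (colsCheck Cfsg.Lie.chevE8 colsE8) = true := by decide +kernel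
theorem e8Ok_4_123 : allRange 123 124 (colsCheck Cfsg.Lie.chevE8 colsE8) = true := by decide +kernel
theorem e8Ok_4_124 : allRange 124 125 (colsCheck Cfsg.Lie.chevE8 colsE8) = true := by decide +kernel
theorem e8Ok_4_125 : allRange 125 126 (colsCheck Cfsg.Lie.chevE8 colsE8) = true := by decide +kernel
theorem e8Ok_4_126 : allRange 126 127 (colsCheck Cfsg.Lie.chevE8 colsE8) = true := by decide +kernel
theorem e8Ok_4_127 : allRange 127 128 (colsCheck Cfsg.Lie.chevE8 colsE8) = true := by decide +kernel
theorem e8Ok_4_128 : allRange 128 129 (colsCheck Cfsg.Lie.chevE8 colsE8) = true := by decide +kernel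
theorem e8Ok_4_129 : allRange 129 130 (colsCheck Cfsg.Lie.chevE8 colsE8) = true := by decide +kernel
theorem e8Ok_4_130 : allRange 130 131 (colsCheck Cfsg.Lie.chevE8 colsE8) = true := by decide +kernel
theorem e8Ok_4_131 : allRange 131 132 (colsCheck Cfsg.Lie.chevE8 colsE8) = true := by decide +kernel
theorem e8Ok_4_132 : allRange 132 133 (colsCheck Cfsg.Lie.chevE8 colsE8) = true := by decide +kernel
theorem e8Ok_4_133 : allRange 133 134 (colsCheck Cfsg.Lie.chevE8 colsE8) = true := by decide +kernel
theorem e8Ok_4_134 : allRange 134 135 (colsCheck Cfsg.Lie.chevE8 colsE8) = true := by decide +kernel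
theorem e8Ok_4_135 : allRange 135 136 (colsCheck Cfsg.Lie.chevE8 colsE8) = true := by decide +kernel
theorem e8Ok_4_136 : allRange 136 137 (colsCheck Cfsg.Lie.chevE8 colsE8) = true := by decide +kernel
theorem e8Ok_4_137 : allRange 137 138 (colsCheck Cfsg.Lie.chevE8 colsE8) = true := by decide +kernel
theorem e8Ok_4_138 : allRange 138 139 (colsCheck Cfsg.Lie.chevE8 colsE8) = true := by decide +kernel
theorem e8Ok_4_139 : allRange 139 140 (colsCheck Cfsg.Lie.chevE8 colsE8) = true := by decide +kernel
theorem e8Ok_4_140 : allRange 140 141 (colsCheck Cfsg.Lie.chevE8 colsE8) = true := by decide +kernel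
theorem e8Ok_4_141 : allRange 141 142 (colsCheck Cfsg.Lie.chevE8 colsE8) = true := by decide +kernel
theorem e8Ok_4_142 : allRange 142 143 (colsCheck Cfsg.Lie.chevE8 colsE8) = true := by decide +kernel
theorem e8Ok_4_143 : allRange 143 144 (colsCheck Cfsg.Lie.chevE8 colsE8) = true := by decide +kernel
theorem e8Ok_4_144 : allRange 144 145 (colsCheck Cfsg.Lie.chevE8 colsE8) = true := by decide +kernel
theorem e8Ok_4_145 : allRange 145 146 (colsCheck Cfsg.Lie.chevE8 colsE8) = true := by decide +kernel
theorem e8Ok_4_146 : allRange 146 147 (colsCheck Cfsg.Lie.chevE8 colsE8) = true := by decide +kernel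
theorem e8Ok_4_147 : allRange 147 148 (colsCheck Cfsg.Lie.chevE8 colsE8) = true := by decide +kernel
theorem e8Ok_4_148 : allRange 148 149 (colsCheck Cfsg.Lie.chevE8 colsE8) = true := by decide +kernel
theorem e8Ok_4_149 : allRange 149 150 (colsCheck Cfsg.Lie.chevE8 colsE8) = true := by decide +kernel

/-- The compiled columns of type E8 agree with the tables (roots 120 to 149). -/
theorem e8Ok_4 : ∀ r, 120 ≤ r → r < 150 → (colsCheck Cfsg.Lie.chevE8 colsE8) r = true := by
  intro r h1 h2
  by_cases c0 : r < 121
  · exact allRange_spec e8Ok_4_120 r (by omega) c0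
  by_cases c1 : r < 122
  · exact allRange_spec e8Ok_4_121 r (by omega) c1
  by_cases c2 : r < 123
  · exact allRange_spec e8Ok_4_122 r (by omega) c2
  by_cases c3 : r < 124
  · exact allRange_spec e8Ok_4_123 r (by omega) c3
  by_cases c4 : r < 125
  · exact allRange_spec e8Ok_4_124 r (by omega) c4
  by_cases c5 : r < 126
  · exact allRange_spec e8Ok_4_125 r (by omega) c5
  by_cases c6 : r < 127
  · exact allRange_spec e8Ok_4_126 r (by omega) c6
  by_cases c7 : r < 128
  · exact allRange_spec e8Ok_4_127 r (by omega) c7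
  by_cases c8 : r < 129
  · exact allRange_spec e8Ok_4_128 r (by omega) c8
  by_cases c9 : r < 130
  · exact allRange_spec e8Ok_4_129 r (by omega) c9
  by_cases c10 : r < 131
  · exact allRange_spec e8Ok_4_130 r (by omega) c10
  by_cases c11 : r < 132
  · exact allRange_spec e8Ok_4_131 r (by omega) c11
  by_cases c12 : r < 133
  · exact allRange_spec e8Ok_4_132 r (by omega) c12
  by_cases c13 : r < 134
  · exact allRange_spec e8Ok_4_133 r (by omega) c13
  by_cases c14 : r < 135
  · exact allRange_spec e8Ok_4_134 r (by omega) c14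
  by_cases c15 : r < 136
  · exact allRange_spec e8Ok_4_135 r (by omega) c15
  by_cases c16 : r < 137
  · exact allRange_spec e8Ok_4_136 r (by omega) c16
  by_cases c17 : r < 138
  · exact allRange_spec e8Ok_4_137 r (by omega) c17
  by_cases c18 : r < 139
  · exact allRange_spec e8Ok_4_138 r (by omega) c18
  by_cases c19 : r < 140
  · exact allRange_spec e8Ok_4_139 r (by omega) c19
  by_cases c20 : r < 141
  · exact allRange_spec e8Ok_4_140 r (by omega) c20
  by_cases c21 : r < 142
  · exact allRange_spec e8Ok_4_141 r (by omega) c21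
  by_cases c22 : r < 143
  · exact allRange_spec e8Ok_4_142 r (by omega) c22
  by_cases c23 : r < 144
  · exact allRange_spec e8Ok_4_143 r (by omega) c23
  by_cases c24 : r < 145
  · exact allRange_spec e8Ok_4_144 r (by omega) c24
  by_cases c25 : r < 146
  · exact allRange_spec e8Ok_4_145 r (by omega) c25
  by_cases c26 : r < 147
  · exact allRange_spec e8Ok_4_146 r (by omega) c26
  by_cases c27 : r < 148
  · exact allRange_spec e8Ok_4_147 r (by omega) c27
  by_cases c28 : r < 149
  · exact allRange_spec e8Ok_4_148 r (by omega) c28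
  exact allRange_spec e8Ok_4_149 r (by omega) h2

end Cfsg.Agent.Lib.Helper3.ChevM
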