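import Cfsg.Prelude.Def_ChevE8
import Cfsg.Agent.Lib.Helper3.ChevM4
import Cfsg.Agent.Lib.Helper3.ChevData.E8Cols
set_option autoImplicit false
set_option maxRecDepth 1000000
set_option Elab.async false

namespace Cfsg.Agent.Lib.Helper3.ChevM

theorem e8Ok_5_150 : allRange 150 151 (colsCheck Cfsg.Lie.chevE8 colsE8) = true := by decide +kernel
theorem e8Ok_5_151 : allRange 151 152 (colsCheck Cfsg.Lie.chevE8 colsE8) = true := by decide +kernel
theorem e8Ok_5_152 : allRange 152 153 (colsCheck Cfsg.Lie.chevE8 colsE8) = true := by decide +kernel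
theorem e8Ok_5_153 : allRange 153 154 (colsCheck Cfsg.Lie.chevE8 colsE8) = true := by decide +kernel
theorem e8Ok_5_154 : allRange 154 155 (colsCheck Cfsg.Lie.chevE8 colsE8) = true := by decide +kernel
theorem e8Ok_5_155 : allRange 155 156 (colsCheck Cfsg.Lie.chevE8 colsE8) = true := by decide +kernel
theorem e8Ok_5_156 : allRange 156 157 (colsCheck Cfsg.Lie.chevE8 colsE8) = true := by decide +kernel
theorem e8Ok_5_157 : allRange 157 158 (colsCheck Cfsg.Lie.chevE8 colsE8) = true := by decide +kernel
theorem e8Ok_5_158 : allRange 158 159 (colsCheck Cfsg.Lie.chevE8 colsE8) = true := by decide +kernel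
theorem e8Ok_5_159 : allRange 159 160 (colsCheck Cfsg.Lie.chevE8 colsE8) = true := by decide +kernel
theorem e8Ok_5_160 : allRange 160 161 (colsCheck Cfsg.Lie.chevE8 colsE8) = true := by decide +kernel
theorem e8Ok_5_161 : allRange 161 162 (colsCheck Cfsg.Lie.chevE8 colsE8) = true := by decide +kernel
theorem e8Ok_5_162 : allRange 162 163 (colsCheck Cfsg.Lie.chevE8 colsE8) = true := by decide +kernel
theorem e8Ok_5_163 : allRange 163 164 (colsCheck Cfsg.Lie.chevE8 colsE8) = true := by decide +kernel
theorem e8Ok_5_164 : allRange 164 165 (colsCheck Cfsg.Lie.chevE8 colsE8) = true := by decide +kernel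
theorem e8Ok_5_165 : allRange 165 166 (colsCheck Cfsg.Lie.chevE8 colsE8) = true := by decide +kernel
theorem e8Ok_5_166 : allRange 166 167 (colsCheck Cfsg.Lie.chevE8 colsE8) = true := by decide +kernel
theorem e8Ok_5_167 : allRange 167 168 (colsCheck Cfsg.Lie.chevE8 colsE8) = true := by decide +kernel
theorem e8Ok_5_168 : allRange 168 169 (colsCheck Cfsg.Lie.chevE8 colsE8) = true := by decide +kernel
theorem e8Ok_5_169 : allRange 169 170 (colsCheck Cfsg.Lie.chevE8 colsE8) = true := by decide +kernel
theorem e8Ok_5_170 : allRange 170 171 (colsCheck Cfsg.Lie.chevE8 colsE8) = true := by decide +kernel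
theorem e8Ok_5_171 : allRange 171 172 (colsCheck Cfsg.Lie.chevE8 colsE8) = true := by decide +kernel
theorem e8Ok_5_172 : allRange 172 173 (colsCheck Cfsg.Lie.chevE8 colsE8) = true := by decide +kernel
theorem e8Ok_5_173 : allRange 173 174 (colsCheck Cfsg.Lie.chevE8 colsE8) = true := by decide +kernel
theorem e8Ok_5_174 : allRange 174 175 (colsCheck Cfsg.Lie.chevE8 colsE8) = true := by decide +kernel
theorem e8Ok_5_175 : allRange 175 176 (colsCheck Cfsg.Lie.chevE8 colsE8) = true := by decide +kernel
theorem e8Ok_5_176 : allRange 176 177 (colsCheck Cfsg.Lie.chevE8 colsE8) = true := by decide +kernel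
theorem e8Ok_5_177 : allRange 177 178 (colsCheck Cfsg.Lie.chevE8 colsE8) = true := by decide +kernel
theorem e8Ok_5_178 : allRange 178 179 (colsCheck Cfsg.Lie.chevE8 colsE8) = true := by decide +kernel
theorem e8Ok_5_179 : allRange 179 180 (colsCheck Cfsg.Lie.chevE8 colsE8) = true := by decide +kernel

/-- The compiled columns of type E8 agree with the tables (roots 150 to 179). -/
theorem e8Ok_5 : ∀ r, 150 ≤ r → r < 180 → (colsCheck Cfsg.Lie.chevE8 colsE8) r = true := by
  intro r h1 h2
  by_cases c0 : r < 151
  · exact allRange_spec e8Ok_5_150 r (by omega) c0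
  by_cases c1 : r < 152
  · exact allRange_spec e8Ok_5_151 r (by omega) c1
  by_cases c2 : r < 153
  · exact allRange_spec e8Ok_5_152 r (by omega) c2
  by_cases c3 : r < 154
  · exact allRange_spec e8Ok_5_153 r (by omega) c3
  by_cases c4 : r < 155
  · exact allRange_spec e8Ok_5_154 r (by omega) c4
  by_cases c5 : r < 156
  · exact allRange_spec e8Ok_5_155 r (by omega) c5
  by_cases c6 : r < 157
  · exact allRange_spec e8Ok_5_156 r (by omega) c6
  by_cases c7 : r < 158
  · exact allRange_spec e8Ok_5_157 r (by omega) c7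
  by_cases c8 : r < 159
  · exact allRange_spec e8Ok_5_158 r (by omega) c8
  by_cases c9 : r < 160
  · exact allRange_spec e8Ok_5_159 r (by omega) c9
  by_cases c10 : r < 161
  · exact allRange_spec e8Ok_5_160 r (by omega) c10
  by_cases c11 : r < 162
  · exact allRange_spec e8Ok_5_161 r (by omega) c11
  by_cases c12 : r < 163
  · exact allRange_spec e8Ok_5_162 r (by omega) c12
  by_cases c13 : r < 164
  · exact allRange_spec e8Ok_5_163 r (by omega) c13
  by_cases c14 : r < 165
  · exact allRange_spec e8Ok_5_164 r (by omega) c14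
  by_cases c15 : r < 166
  · exact allRange_spec e8Ok_5_165 r (by omega) c15
  by_cases c16 : r < 167
  · exact allRange_spec e8Ok_5_166 r (by omega) c16
  by_cases c17 : r < 168
  · exact allRange_spec e8Ok_5_167 r (by omega) c17
  by_cases c18 : r < 169
  · exact allRange_spec e8Ok_5_168 r (by omega) c18
  by_cases c19 : r < 170
  · exact allRange_spec e8Ok_5_169 r (by omega) c19
  by_cases c20 : r < 171
  · exact allRange_spec e8Ok_5_170 r (by omega) c20
  by_cases c21 : r < 172
  · exact allRange_spec e8Ok_5_171 r (by omega) c21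
  by_cases c22 : r < 173
  · exact allRange_spec e8Ok_5_172 r (by omega) c22
  by_cases c23 : r < 174
  · exact allRange_spec e8Ok_5_173 r (by omega) c23
  by_cases c24 : r < 175
  · exact allRange_spec e8Ok_5_174 r (by omega) c24
  by_cases c25 : r < 176
  · exact allRange_spec e8Ok_5_175 r (by omega) c25
  by_cases c26 : r < 177
  · exact allRange_spec e8Ok_5_176 r (by omega) c26
  by_cases c27 : r < 178
  · exact allRange_spec e8Ok_5_177 r (by omega) c27
  by_cases c28 : r < 179
  · exact allRange_spec e8Ok_5_178 r (by omega) c28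
  exact allRange_spec e8Ok_5_179 r (by omega) h2

end Cfsg.Agent.Lib.Helper3.ChevM
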