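import Cfsg.Prelude.Def_ChevE8
import Cfsg.Agent.Lib.Helper3.ChevM4
import Cfsg.Agent.Lib.Helper3.ChevData.E8Cols
set_option autoImplicit false
set_option maxRecDepth 1000000
set_option Elab.async false

namespace Cfsg.Agent.Lib.Helper3.ChevM

theorem e8Ok_6_180 : allRange 180 181 (colsCheck Cfsg.Lie.chevE8 colsE8) = true := by decide +kernel
theorem e8Ok_6_181 : allRange 181 182 (colsCheck Cfsg.Lie.chevE8 colsE8) = true := by decide +kernel
theorem e8Ok_6_182 : allRange 182 183 (colsCheck Cfsg.Lie.chevE8 colsE8) = true := by decide +kernel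
theorem e8Ok_6_183 : allRange 183 184 (colsCheck Cfsg.Lie.chevE8 colsE8) = true := by decide +kernel
theorem e8Ok_6_184 : allRange 184 185 (colsCheck Cfsg.Lie.chevE8 colsE8) = true := by decide +kernel
theorem e8Ok_6_185 : allRange 185 186 (colsCheck Cfsg.Lie.chevE8 colsE8) = true := by decide +kernel
theorem e8Ok_6_186 : allRange 186 187 (colsCheck Cfsg.Lie.chevE8 colsE8) = true := by decide +kernel
theorem e8Ok_6_187 : allRange 187 188 (colsCheck Cfsg.Lie.chevE8 colsE8) = true := by decide +kernel
theorem e8Ok_6_188 : allRange 188 189 (colsCheck Cfsg.Lie.chevE8 colsE8) = true := by decide +kernel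
theorem e8Ok_6_189 : allRange 189 190 (colsCheck Cfsg.Lie.chevE8 colsE8) = true := by decide +kernel
theorem e8Ok_6_190 : allRange 190 191 (colsCheck Cfsg.Lie.chevE8 colsE8) = true := by decide +kernel
theorem e8Ok_6_191 : allRange 191 192 (colsCheck Cfsg.Lie.chevE8 colsE8) = true := by decide +kernel
theorem e8Ok_6_192 : allRange 192 193 (colsCheck Cfsg.Lie.chevE8 colsE8) = true := by decide +kernel
theorem e8Ok_6_193 : allRange 193 194 (colsCheck Cfsg.Lie.chevE8 colsE8) = true := by decide +kernel
theorem e8Ok_6_194 : allRange 194 195 (colsCheck Cfsg.Lie.chevE8 colsE8) = true := by decide +kernel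
theorem e8Ok_6_195 : allRange 195 196 (colsCheck Cfsg.Lie.chevE8 colsE8) = true := by decide +kernel
theorem e8Ok_6_196 : allRange 196 197 (colsCheck Cfsg.Lie.chevE8 colsE8) = true := by decide +kernel
theorem e8Ok_6_197 : allRange 197 198 (colsCheck Cfsg.Lie.chevE8 colsE8) = true := by decide +kernel
theorem e8Ok_6_198 : allRange 198 199 (colsCheck Cfsg.Lie.chevE8 colsE8) = true := by decide +kernel
theorem e8Ok_6_199 : allRange 199 200 (colsCheck Cfsg.Lie.chevE8 colsE8) = true := by decide +kernel
theorem e8Ok_6_200 : allRange 200 201 (colsCheck Cfsg.Lie.chevE8 colsE8) = true := by decide +kernel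
theorem e8Ok_6_201 : allRange 201 202 (colsCheck Cfsg.Lie.chevE8 colsE8) = true := by decide +kernel
theorem e8Ok_6_202 : allRange 202 203 (colsCheck Cfsg.Lie.chevE8 colsE8) = true := by decide +kernel
theorem e8Ok_6_203 : allRange 203 204 (colsCheck Cfsg.Lie.chevE8 colsE8) = true := by decide +kernel
theorem e8Ok_6_204 : allRange 204 205 (colsCheck Cfsg.Lie.chevE8 colsE8) = true := by decide +kernel
theorem e8Ok_6_205 : allRange 205 206 (colsCheck Cfsg.Lie.chevE8 colsE8) = true := by decide +kernel
theorem e8Ok_6_206 : allRange 206 207 (colsCheck Cfsg.Lie.chevE8 colsE8) = true := by decide +kernel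
theorem e8Ok_6_207 : allRange 207 208 (colsCheck Cfsg.Lie.chevE8 colsE8) = true := by decide +kernel
theorem e8Ok_6_208 : allRange 208 209 (colsCheck Cfsg.Lie.chevE8 colsE8) = true := by decide +kernel
theorem e8Ok_6_209 : allRange 209 210 (colsCheck Cfsg.Lie.chevE8 colsE8) = true := by decide +kernel

/-- The compiled columns of type E8 agree with the tables (roots 180 to 209). -/
theorem e8Ok_6 : ∀ r, 180 ≤ r → r < 210 → (colsCheck Cfsg.Lie.chevE8 colsE8) r = true := by
  intro r h1 h2
  by_cases c0 : r < 181
  · exact allRange_spec e8Ok_6_180 r (by omega) c0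
  by_cases c1 : r < 182
  · exact allRange_spec e8Ok_6_181 r (by omega) c1
  by_cases c2 : r < 183
  · exact allRange_spec e8Ok_6_182 r (by omega) c2
  by_cases c3 : r < 184
  · exact allRange_spec e8Ok_6_183 r (by omega) c3
  by_cases c4 : r < 185
  · exact allRange_spec e8Ok_6_184 r (by omega) c4
  by_cases c5 : r < 186
  · exact allRange_spec e8Ok_6_185 r (by omega) c5
  by_cases c6 : r < 187
  · exact allRange_spec e8Ok_6_186 r (by omega) c6
  by_cases c7 : r < 188
  · exact allRange_spec e8Ok_6_187 r (by omega) c7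
  by_cases c8 : r < 189
  · exact allRange_spec e8Ok_6_188 r (by omega) c8
  by_cases c9 : r < 190
  · exact allRange_spec e8Ok_6_189 r (by omega) c9
  by_cases c10 : r < 191
  · exact allRange_spec e8Ok_6_190 r (by omega) c10
  by_cases c11 : r < 192
  · exact allRange_spec e8Ok_6_191 r (by omega) c11
  by_cases c12 : r < 193
  · exact allRange_spec e8Ok_6_192 r (by omega) c12
  by_cases c13 : r < 194
  · exact allRange_spec e8Ok_6_193 r (by omega) c13
  by_cases c14 : r < 195
  · exact allRange_spec e8Ok_6_194 r (by omega) c14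
  by_cases c15 : r < 196
  · exact allRange_spec e8Ok_6_195 r (by omega) c15
  by_cases c16 : r < 197
  · exact allRange_spec e8Ok_6_196 r (by omega) c16
  by_cases c17 : r < 198
  · exact allRange_spec e8Ok_6_197 r (by omega) c17
  by_cases c18 : r < 199
  · exact allRange_spec e8Ok_6_198 r (by omega) c18
  by_cases c19 : r < 200
  · exact allRange_spec e8Ok_6_199 r (by omega) c19
  by_cases c20 : r < 201
  · exact allRange_spec e8Ok_6_200 r (by omega) c20
  by_cases c21 : r < 202
  · exact allRange_spec e8Ok_6_201 r (by omega) c21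
  by_cases c22 : r < 203
  · exact allRange_spec e8Ok_6_202 r (by omega) c22
  by_cases c23 : r < 204
  · exact allRange_spec e8Ok_6_203 r (by omega) c23
  by_cases c24 : r < 205
  · exact allRange_spec e8Ok_6_204 r (by omega) c24
  by_cases c25 : r < 206
  · exact allRange_spec e8Ok_6_205 r (by omega) c25
  by_cases c26 : r < 207
  · exact allRange_spec e8Ok_6_206 r (by omega) c26
  by_cases c27 : r < 208
  · exact allRange_spec e8Ok_6_207 r (by omega) c27
  by_cases c28 : r < 209
  · exact allRange_spec e8Ok_6_208 r (by omega) c28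
  exact allRange_spec e8Ok_6_209 r (by omega) h2

end Cfsg.Agent.Lib.Helper3.ChevM
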