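import Cfsg.Prelude.Def_ChevE8
import Cfsg.Agent.Lib.Helper3.ChevM4
import Cfsg.Agent.Lib.Helper3.ChevData.E8Cols
set_option autoImplicit false
set_option maxRecDepth 1000000
set_option Elab.async false

namespace Cfsg.Agent.Lib.Helper3.ChevM

theorem e8Ok_7_210 : allRange 210 211 (colsCheck Cfsg.Lie.chevE8 colsE8) = true := by decide +kernel
theorem e8Ok_7_211 : allRange 211 212 (colsCheck Cfsg.Lie.chevE8 colsE8) = true := by decide +kernel
theorem e8Ok_7_212 : allRange 212 213 (colsCheck Cfsg.Lie.chevE8 colsE8) = true := by decide +kernel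
theorem e8Ok_7_213 : allRange 213 214 (colsCheck Cfsg.Lie.chevE8 colsE8) = true := by decide +kernel
theorem e8Ok_7_214 : allRange 214 215 (colsCheck Cfsg.Lie.chevE8 colsE8) = true := by decide +kernel
theorem e8Ok_7_215 : allRange 215 216 (colsCheck Cfsg.Lie.chevE8 colsE8) = true := by decide +kernel
theorem e8Ok_7_216 : allRange 216 217 (colsCheck Cfsg.Lie.chevE8 colsE8) = true := by decide +kernel
theorem e8Ok_7_217 : allRange 217 218 (colsCheck Cfsg.Lie.chevE8 colsE8) = true := by decide +kernel
theorem e8Ok_7_218 : allRange 218 219 (colsCheck Cfsg.Lie.chevE8 colsE8) = true := by decide +kernel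
theorem e8Ok_7_219 : allRange 219 220 (colsCheck Cfsg.Lie.chevE8 colsE8) = true := by decide +kernel
theorem e8Ok_7_220 : allRange 220 221 (colsCheck Cfsg.Lie.chevE8 colsE8) = true := by decide +kernel
theorem e8Ok_7_221 : allRange 221 222 (colsCheck Cfsg.Lie.chevE8 colsE8) = true := by decide +kernel
theorem e8Ok_7_222 : allRange 222 223 (colsCheck Cfsg.Lie.chevE8 colsE8) = true := by decide +kernel
theorem e8Ok_7_223 : allRange 223 224 (colsCheck Cfsg.Lie.chevE8 colsE8) = true := by decide +kernel
theorem e8Ok_7_224 : allRange 224 225 (colsCheck Cfsg.Lie.chevE8 colsE8) = true := by decide +kernel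
theorem e8Ok_7_225 : allRange 225 226 (colsCheck Cfsg.Lie.chevE8 colsE8) = true := by decide +kernel
theorem e8Ok_7_226 : allRange 226 227 (colsCheck Cfsg.Lie.chevE8 colsE8) = true := by decide +kernel
theorem e8Ok_7_227 : allRange 227 228 (colsCheck Cfsg.Lie.chevE8 colsE8) = true := by decide +kernel
theorem e8Ok_7_228 : allRange 228 229 (colsCheck Cfsg.Lie.chevE8 colsE8) = true := by decide +kernel
theorem e8Ok_7_229 : allRange 229 230 (colsCheck Cfsg.Lie.chevE8 colsE8) = true := by decide +kernel
theorem e8Ok_7_230 : allRange 230 231 (colsCheck Cfsg.Lie.chevE8 colsE8) = true := by decide +kernel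
theorem e8Ok_7_231 : allRange 231 232 (colsCheck Cfsg.Lie.chevE8 colsE8) = true := by decide +kernel
theorem e8Ok_7_232 : allRange 232 233 (colsCheck Cfsg.Lie.chevE8 colsE8) = true := by decide +kernel
theorem e8Ok_7_233 : allRange 233 234 (colsCheck Cfsg.Lie.chevE8 colsE8) = true := by decide +kernel
theorem e8Ok_7_234 : allRange 234 235 (colsCheck Cfsg.Lie.chevE8 colsE8) = true := by decide +kernel
theorem e8Ok_7_235 : allRange 235 236 (colsCheck Cfsg.Lie.chevE8 colsE8) = true := by decide +kernel
theorem e8Ok_7_236 : allRange 236 237 (colsCheck Cfsg.Lie.chevE8 colsE8) = true := by decide +kernel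
theorem e8Ok_7_237 : allRange 237 238 (colsCheck Cfsg.Lie.chevE8 colsE8) = true := by decide +kernel
theorem e8Ok_7_238 : allRange 238 239 (colsCheck Cfsg.Lie.chevE8 colsE8) = true := by decide +kernel
theorem e8Ok_7_239 : allRange 239 240 (colsCheck Cfsg.Lie.chevE8 colsE8) = true := by decide +kernel

/-- The compiled columns of type E8 agree with the tables (roots 210 to 239). -/
theorem e8Ok_7 : ∀ r, 210 ≤ r → r < 240 → (colsCheck Cfsg.Lie.chevE8 colsE8) r = true := by
  intro r h1 h2
  by_cases c0 : r < 211
  · exact allRange_spec e8Ok_7_210 r (by omega) c0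
  by_cases c1 : r < 212
  · exact allRange_spec e8Ok_7_211 r (by omega) c1
  by_cases c2 : r < 213
  · exact allRange_spec e8Ok_7_212 r (by omega) c2
  by_cases c3 : r < 214
  · exact allRange_spec e8Ok_7_213 r (by omega) c3
  by_cases c4 : r < 215
  · exact allRange_spec e8Ok_7_214 r (by omega) c4
  by_cases c5 : r < 216
  · exact allRange_spec e8Ok_7_215 r (by omega) c5
  by_cases c6 : r < 217
  · exact allRange_spec e8Ok_7_216 r (by omega) c6
  by_cases c7 : r < 218
  · exact allRange_spec e8Ok_7_217 r (by omega) c7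
  by_cases c8 : r < 219
  · exact allRange_spec e8Ok_7_218 r (by omega) c8
  by_cases c9 : r < 220
  · exact allRange_spec e8Ok_7_219 r (by omega) c9
  by_cases c10 : r < 221
  · exact allRange_spec e8Ok_7_220 r (by omega) c10
  by_cases c11 : r < 222
  · exact allRange_spec e8Ok_7_221 r (by omega) c11
  by_cases c12 : r < 223
  · exact allRange_spec e8Ok_7_222 r (by omega) c12
  by_cases c13 : r < 224
  · exact allRange_spec e8Ok_7_223 r (by omega) c13
  by_cases c14 : r < 225
  · exact allRange_spec e8Ok_7_224 r (by omega) c14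
  by_cases c15 : r < 226
  · exact allRange_spec e8Ok_7_225 r (by omega) c15
  by_cases c16 : r < 227
  · exact allRange_spec e8Ok_7_226 r (by omega) c16
  by_cases c17 : r < 228
  · exact allRange_spec e8Ok_7_227 r (by omega) c17
  by_cases c18 : r < 229
  · exact allRange_spec e8Ok_7_228 r (by omega) c18
  by_cases c19 : r < 230
  · exact allRange_spec e8Ok_7_229 r (by omega) c19
  by_cases c20 : r < 231
  · exact allRange_spec e8Ok_7_230 r (by omega) c20
  by_cases c21 : r < 232
  · exact allRange_spec e8Ok_7_231 r (by omega) c21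
  by_cases c22 : r < 233
  · exact allRange_spec e8Ok_7_232 r (by omega) c22
  by_cases c23 : r < 234
  · exact allRange_spec e8Ok_7_233 r (by omega) c23
  by_cases c24 : r < 235
  · exact allRange_spec e8Ok_7_234 r (by omega) c24
  by_cases c25 : r < 236
  · exact allRange_spec e8Ok_7_235 r (by omega) c25
  by_cases c26 : r < 237
  · exact allRange_spec e8Ok_7_236 r (by omega) c26
  by_cases c27 : r < 238
  · exact allRange_spec e8Ok_7_237 r (by omega) c27
  by_cases c28 : r < 239
  · exact allRange_spec e8Ok_7_238 r (by omega) c28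
  exact allRange_spec e8Ok_7_239 r (by omega) h2

end Cfsg.Agent.Lib.Helper3.ChevM
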