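import Cfsg.Agent.Lib.Helper3.ChevData.E8OkA
import Cfsg.Agent.Lib.Helper3.ChevData.E8OkB
import Cfsg.Agent.Lib.Helper3.ChevData.E8OkC
import Cfsg.Agent.Lib.Helper3.ChevData.E8OkD
import Cfsg.Agent.Lib.Helper3.ChevData.E8OkE
import Cfsg.Agent.Lib.Helper3.ChevData.E8OkF
import Cfsg.Agent.Lib.Helper3.ChevData.E8OkG
import Cfsg.Agent.Lib.Helper3.ChevData.E8OkH
set_option autoImplicit false

namespace Cfsg.Agent.Lib.Helper3.ChevM

/-- The compiled columns of type E8 agree with the tables. -/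
theorem e8Ok : ∀ r < 240, (colsCheck Cfsg.Lie.chevE8 colsE8) r = true := by
  intro r hr
  by_cases h0 : r < 30
  · exact e8Ok_0 r (by omega) h0
  by_cases h1 : r < 60
  · exact e8Ok_1 r (by omega) h1
  by_cases h2 : r < 90
  · exact e8Ok_2 r (by omega) h2
  by_cases h3 : r < 120
  · exact e8Ok_3 r (by omega) h3
  by_cases h4 : r < 150
  · exact e8Ok_4 r (by omega) h4
  by_cases h5 : r < 180
  · exact e8Ok_5 r (by omega) h5
  by_cases h6 : r < 210
  · exact e8Ok_6 r (by omega) h6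
  exact e8Ok_7 r (by omega) hr

end Cfsg.Agent.Lib.Helper3.ChevM
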