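import Cfsg.Prelude.Def_ChevE8
import Cfsg.Agent.Lib.Helper3.ChevData.E8Tabs
import Cfsg.Agent.Lib.Helper3.ChevData.E8OrdTab
import Cfsg.Agent.Lib.Helper3.ChevO2
set_option autoImplicit false
set_option maxRecDepth 1000000
set_option Elab.async false

namespace Cfsg.Agent.Lib.Helper3.ChevM

theorem e8Or3_0_0 : allRange 0 10 ((fun a => repCheck Cfsg.Lie.chevE8 reflE8 3 dlE83 a)) = true := by decide +kernel

/-- The representatives of step 3 of type E8 keep the subsystem positive (roots 0 to 9). -/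
theorem e8Or3_0 : ∀ r, 0 ≤ r → r < 10 → ((fun a => repCheck Cfsg.Lie.chevE8 reflE8 3 dlE83 a)) r = true := by
  intro r h1 h2
  exact allRange_spec e8Or3_0_0 r (by omega) h2

end Cfsg.Agent.Lib.Helper3.ChevM
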