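import Cfsg.Prelude.Def_ChevE8
import Cfsg.Agent.Lib.Helper3.ChevData.E8Tabs
import Cfsg.Agent.Lib.Helper3.ChevData.E8OrdTab
import Cfsg.Agent.Lib.Helper3.ChevO2
set_option autoImplicit false
set_option maxRecDepth 1000000
set_option Elab.async false

namespace Cfsg.Agent.Lib.Helper3.ChevM

theorem e8Or7_0_0 : allRange 0 78 ((fun a => repCheck Cfsg.Lie.chevE8 reflE8 7 dlE87 a)) = true := by decide +kernel
theorem e8Or7_0_78 : allRange 78 156 ((fun a => repCheck Cfsg.Lie.chevE8 reflE8 7 dlE87 a)) = true := by decide +kernel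
theorem e8Or7_0_156 : allRange 156 234 ((fun a => repCheck Cfsg.Lie.chevE8 reflE8 7 dlE87 a)) = true := by decide +kernel
theorem e8Or7_0_234 : allRange 234 240 ((fun a => repCheck Cfsg.Lie.chevE8 reflE8 7 dlE87 a)) = true := by decide +kernel

/-- The representatives of step 7 of type E8 keep the subsystem positive (roots 0 to 239). -/
theorem e8Or7_0 : ∀ r, 0 ≤ r → r < 240 → ((fun a => repCheck Cfsg.Lie.chevE8 reflE8 7 dlE87 a)) r = true := by
  intro r h1 h2
  by_cases c0 : r < 78
  · exact allRange_spec e8Or7_0_0 r (by omega) c0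
  by_cases c1 : r < 156
  · exact allRange_spec e8Or7_0_78 r (by omega) c1
  by_cases c2 : r < 234
  · exact allRange_spec e8Or7_0_156 r (by omega) c2
  exact allRange_spec e8Or7_0_234 r (by omega) h2

end Cfsg.Agent.Lib.Helper3.ChevM
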