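import Cfsg.Prelude.Def_ChevE8
import Cfsg.Agent.Lib.Helper3.ChevData.E8Tabs
import Cfsg.Agent.Lib.Helper3.ChevData.E8OrdTab
import Cfsg.Agent.Lib.Helper3.ChevO2
set_option autoImplicit false
set_option maxRecDepth 1000000
set_option Elab.async false

namespace Cfsg.Agent.Lib.Helper3.ChevM

theorem e8Ot5_0_0 : allRange 0 74 ((fun p => stepCheck Cfsg.Lie.chevE8 reflE8 5 dlE85 nxtE85 (p / 6) (p % 6))) = true := by decide +kernel
theorem e8Ot5_0_74 : allRange 74 148 ((fun p => stepCheck Cfsg.Lie.chevE8 reflE8 5 dlE85 nxtE85 (p / 6) (p % 6))) = true := by decide +kernel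
theorem e8Ot5_0_148 : allRange 148 162 ((fun p => stepCheck Cfsg.Lie.chevE8 reflE8 5 dlE85 nxtE85 (p / 6) (p % 6))) = true := by decide +kernel

/-- Left multiplication of the representatives of step 5 of type E8 (roots 0 to 161). -/
theorem e8Ot5_0 : ∀ r, 0 ≤ r → r < 162 → ((fun p => stepCheck Cfsg.Lie.chevE8 reflE8 5 dlE85 nxtE85 (p / 6) (p % 6))) r = true := by
  intro r h1 h2
  by_cases c0 : r < 74
  · exact allRange_spec e8Ot5_0_0 r (by omega) c0
  by_cases c1 : r < 148
  · exact allRange_spec e8Ot5_0_74 r (by omega) c1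
  exact allRange_spec e8Ot5_0_148 r (by omega) h2

end Cfsg.Agent.Lib.Helper3.ChevM
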