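import Cfsg.Prelude.Def_ChevE8
import Cfsg.Agent.Lib.Helper3.ChevData.E8Tabs
import Cfsg.Agent.Lib.Helper3.ChevData.E8OrdTab
import Cfsg.Agent.Lib.Helper3.ChevO2
set_option autoImplicit false
set_option maxRecDepth 1000000
set_option Elab.async false

namespace Cfsg.Agent.Lib.Helper3.ChevM

theorem e8Ot6_0_0 : allRange 0 50 ((fun p => stepCheck Cfsg.Lie.chevE8 reflE8 6 dlE86 nxtE86 (p / 7) (p % 7))) = true := by decide +kernel
theorem e8Ot6_0_50 : allRange 50 100 ((fun p => stepCheck Cfsg.Lie.chevE8 reflE8 6 dlE86 nxtE86 (p / 7) (p % 7))) = true := by decide +kernel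
theorem e8Ot6_0_100 : allRange 100 150 ((fun p => stepCheck Cfsg.Lie.chevE8 reflE8 6 dlE86 nxtE86 (p / 7) (p % 7))) = true := by decide +kernel
theorem e8Ot6_0_150 : allRange 150 200 ((fun p => stepCheck Cfsg.Lie.chevE8 reflE8 6 dlE86 nxtE86 (p / 7) (p % 7))) = true := by decide +kernel
theorem e8Ot6_0_200 : allRange 200 250 ((fun p => stepCheck Cfsg.Lie.chevE8 reflE8 6 dlE86 nxtE86 (p / 7) (p % 7))) = true := by decide +kernel
theorem e8Ot6_0_250 : allRange 250 300 ((fun p => stepCheck Cfsg.Lie.chevE8 reflE8 6 dlE86 nxtE86 (p / 7) (p % 7))) = true := by decide +kernel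
theorem e8Ot6_0_300 : allRange 300 350 ((fun p => stepCheck Cfsg.Lie.chevE8 reflE8 6 dlE86 nxtE86 (p / 7) (p % 7))) = true := by decide +kernel
theorem e8Ot6_0_350 : allRange 350 392 ((fun p => stepCheck Cfsg.Lie.chevE8 reflE8 6 dlE86 nxtE86 (p / 7) (p % 7))) = true := by decide +kernel

/-- Left multiplication of the representatives of step 6 of type E8 (roots 0 to 391). -/
theorem e8Ot6_0 : ∀ r, 0 ≤ r → r < 392 → ((fun p => stepCheck Cfsg.Lie.chevE8 reflE8 6 dlE86 nxtE86 (p / 7) (p % 7))) r = true := by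
  intro r h1 h2
  by_cases c0 : r < 50
  · exact allRange_spec e8Ot6_0_0 r (by omega) c0
  by_cases c1 : r < 100
  · exact allRange_spec e8Ot6_0_50 r (by omega) c1
  by_cases c2 : r < 150
  · exact allRange_spec e8Ot6_0_100 r (by omega) c2
  by_cases c3 : r < 200
  · exact allRange_spec e8Ot6_0_150 r (by omega) c3
  by_cases c4 : r < 250
  · exact allRange_spec e8Ot6_0_200 r (by omega) c4
  by_cases c5 : r < 300
  · exact allRange_spec e8Ot6_0_250 r (by omega) c5
  by_cases c6 : r < 350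
  · exact allRange_spec e8Ot6_0_300 r (by omega) c6
  exact allRange_spec e8Ot6_0_350 r (by omega) h2

end Cfsg.Agent.Lib.Helper3.ChevM
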