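import Cfsg.Prelude.Def_ChevE8
import Cfsg.Agent.Lib.Helper3.ChevData.E8Tabs
import Cfsg.Agent.Lib.Helper3.ChevData.E8OrdTab
import Cfsg.Agent.Lib.Helper3.ChevO2
set_option autoImplicit false
set_option maxRecDepth 1000000
set_option Elab.async false

namespace Cfsg.Agent.Lib.Helper3.ChevM

theorem e8Ot7_0_0 : allRange 0 26 ((fun p => stepCheck Cfsg.Lie.chevE8 reflE8 7 dlE87 nxtE87 (p / 8) (p % 8))) = true := by decide +kernel
theorem e8Ot7_0_26 : allRange 26 52 ((fun p => stepCheck Cfsg.Lie.chevE8 reflE8 7 dlE87 nxtE87 (p / 8) (p % 8))) = true := by decide +kernel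
theorem e8Ot7_0_52 : allRange 52 78 ((fun p => stepCheck Cfsg.Lie.chevE8 reflE8 7 dlE87 nxtE87 (p / 8) (p % 8))) = true := by decide +kernel
theorem e8Ot7_0_78 : allRange 78 104 ((fun p => stepCheck Cfsg.Lie.chevE8 reflE8 7 dlE87 nxtE87 (p / 8) (p % 8))) = true := by decide +kernel
theorem e8Ot7_0_104 : allRange 104 130 ((fun p => stepCheck Cfsg.Lie.chevE8 reflE8 7 dlE87 nxtE87 (p / 8) (p % 8))) = true := by decide +kernel
theorem e8Ot7_0_130 : allRange 130 156 ((fun p => stepCheck Cfsg.Lie.chevE8 reflE8 7 dlE87 nxtE87 (p / 8) (p % 8))) = true := by decide +kernel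
theorem e8Ot7_0_156 : allRange 156 182 ((fun p => stepCheck Cfsg.Lie.chevE8 reflE8 7 dlE87 nxtE87 (p / 8) (p % 8))) = true := by decide +kernel
theorem e8Ot7_0_182 : allRange 182 208 ((fun p => stepCheck Cfsg.Lie.chevE8 reflE8 7 dlE87 nxtE87 (p / 8) (p % 8))) = true := by decide +kernel
theorem e8Ot7_0_208 : allRange 208 234 ((fun p => stepCheck Cfsg.Lie.chevE8 reflE8 7 dlE87 nxtE87 (p / 8) (p % 8))) = true := by decide +kernel
theorem e8Ot7_0_234 : allRange 234 260 ((fun p => stepCheck Cfsg.Lie.chevE8 reflE8 7 dlE87 nxtE87 (p / 8) (p % 8))) = true := by decide +kernel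
theorem e8Ot7_0_260 : allRange 260 286 ((fun p => stepCheck Cfsg.Lie.chevE8 reflE8 7 dlE87 nxtE87 (p / 8) (p % 8))) = true := by decide +kernel
theorem e8Ot7_0_286 : allRange 286 312 ((fun p => stepCheck Cfsg.Lie.chevE8 reflE8 7 dlE87 nxtE87 (p / 8) (p % 8))) = true := by decide +kernel
theorem e8Ot7_0_312 : allRange 312 338 ((fun p => stepCheck Cfsg.Lie.chevE8 reflE8 7 dlE87 nxtE87 (p / 8) (p % 8))) = true := by decide +kernel
theorem e8Ot7_0_338 : allRange 338 364 ((fun p => stepCheck Cfsg.Lie.chevE8 reflE8 7 dlE87 nxtE87 (p / 8) (p % 8))) = true := by decide +kernel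
theorem e8Ot7_0_364 : allRange 364 390 ((fun p => stepCheck Cfsg.Lie.chevE8 reflE8 7 dlE87 nxtE87 (p / 8) (p % 8))) = true := by decide +kernel
theorem e8Ot7_0_390 : allRange 390 416 ((fun p => stepCheck Cfsg.Lie.chevE8 reflE8 7 dlE87 nxtE87 (p / 8) (p % 8))) = true := by decide +kernel
theorem e8Ot7_0_416 : allRange 416 442 ((fun p => stepCheck Cfsg.Lie.chevE8 reflE8 7 dlE87 nxtE87 (p / 8) (p % 8))) = true := by decide +kernel
theorem e8Ot7_0_442 : allRange 442 468 ((fun p => stepCheck Cfsg.Lie.chevE8 reflE8 7 dlE87 nxtE87 (p / 8) (p % 8))) = true := by decide +kernel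
theorem e8Ot7_0_468 : allRange 468 494 ((fun p => stepCheck Cfsg.Lie.chevE8 reflE8 7 dlE87 nxtE87 (p / 8) (p % 8))) = true := by decide +kernel
theorem e8Ot7_0_494 : allRange 494 520 ((fun p => stepCheck Cfsg.Lie.chevE8 reflE8 7 dlE87 nxtE87 (p / 8) (p % 8))) = true := by decide +kernel
theorem e8Ot7_0_520 : allRange 520 546 ((fun p => stepCheck Cfsg.Lie.chevE8 reflE8 7 dlE87 nxtE87 (p / 8) (p % 8))) = true := by decide +kernel
theorem e8Ot7_0_546 : allRange 546 572 ((fun p => stepCheck Cfsg.Lie.chevE8 reflE8 7 dlE87 nxtE87 (p / 8) (p % 8))) = true := by decide +kernel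
theorem e8Ot7_0_572 : allRange 572 598 ((fun p => stepCheck Cfsg.Lie.chevE8 reflE8 7 dlE87 nxtE87 (p / 8) (p % 8))) = true := by decide +kernel
theorem e8Ot7_0_598 : allRange 598 624 ((fun p => stepCheck Cfsg.Lie.chevE8 reflE8 7 dlE87 nxtE87 (p / 8) (p % 8))) = true := by decide +kernel
theorem e8Ot7_0_624 : allRange 624 650 ((fun p => stepCheck Cfsg.Lie.chevE8 reflE8 7 dlE87 nxtE87 (p / 8) (p % 8))) = true := by decide +kernel
theorem e8Ot7_0_650 : allRange 650 676 ((fun p => stepCheck Cfsg.Lie.chevE8 reflE8 7 dlE87 nxtE87 (p / 8) (p % 8))) = true := by decide +kernel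
theorem e8Ot7_0_676 : allRange 676 702 ((fun p => stepCheck Cfsg.Lie.chevE8 reflE8 7 dlE87 nxtE87 (p / 8) (p % 8))) = true := by decide +kernel
theorem e8Ot7_0_702 : allRange 702 728 ((fun p => stepCheck Cfsg.Lie.chevE8 reflE8 7 dlE87 nxtE87 (p / 8) (p % 8))) = true := by decide +kernel
theorem e8Ot7_0_728 : allRange 728 754 ((fun p => stepCheck Cfsg.Lie.chevE8 reflE8 7 dlE87 nxtE87 (p / 8) (p % 8))) = true := by decide +kernel
theorem e8Ot7_0_754 : allRange 754 780 ((fun p => stepCheck Cfsg.Lie.chevE8 reflE8 7 dlE87 nxtE87 (p / 8) (p % 8))) = true := by decide +kernel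
theorem e8Ot7_0_780 : allRange 780 806 ((fun p => stepCheck Cfsg.Lie.chevE8 reflE8 7 dlE87 nxtE87 (p / 8) (p % 8))) = true := by decide +kernel
theorem e8Ot7_0_806 : allRange 806 832 ((fun p => stepCheck Cfsg.Lie.chevE8 reflE8 7 dlE87 nxtE87 (p / 8) (p % 8))) = true := by decide +kernel
theorem e8Ot7_0_832 : allRange 832 858 ((fun p => stepCheck Cfsg.Lie.chevE8 reflE8 7 dlE87 nxtE87 (p / 8) (p % 8))) = true := by decide +kernel
theorem e8Ot7_0_858 : allRange 858 884 ((fun p => stepCheck Cfsg.Lie.chevE8 reflE8 7 dlE87 nxtE87 (p / 8) (p % 8))) = true := by decide +kernel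
theorem e8Ot7_0_884 : allRange 884 910 ((fun p => stepCheck Cfsg.Lie.chevE8 reflE8 7 dlE87 nxtE87 (p / 8) (p % 8))) = true := by decide +kernel
theorem e8Ot7_0_910 : allRange 910 936 ((fun p => stepCheck Cfsg.Lie.chevE8 reflE8 7 dlE87 nxtE87 (p / 8) (p % 8))) = true := by decide +kernel
theorem e8Ot7_0_936 : allRange 936 962 ((fun p => stepCheck Cfsg.Lie.chevE8 reflE8 7 dlE87 nxtE87 (p / 8) (p % 8))) = true := by decide +kernel
theorem e8Ot7_0_962 : allRange 962 988 ((fun p => stepCheck Cfsg.Lie.chevE8 reflE8 7 dlE87 nxtE87 (p / 8) (p % 8))) = true := by decide +kernel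

/-- Left multiplication of the representatives of step 7 of type E8 (roots 0 to 987). -/
theorem e8Ot7_0 : ∀ r, 0 ≤ r → r < 988 → ((fun p => stepCheck Cfsg.Lie.chevE8 reflE8 7 dlE87 nxtE87 (p / 8) (p % 8))) r = true := by
  intro r h1 h2
  by_cases c0 : r < 26
  · exact allRange_spec e8Ot7_0_0 r (by omega) c0
  by_cases c1 : r < 52
  · exact allRange_spec e8Ot7_0_26 r (by omega) c1
  by_cases c2 : r < 78
  · exact allRange_spec e8Ot7_0_52 r (by omega) c2
  by_cases c3 : r < 104
  · exact allRange_spec e8Ot7_0_78 r (by omega) c3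
  by_cases c4 : r < 130
  · exact allRange_spec e8Ot7_0_104 r (by omega) c4
  by_cases c5 : r < 156
  · exact allRange_spec e8Ot7_0_130 r (by omega) c5
  by_cases c6 : r < 182
  · exact allRange_spec e8Ot7_0_156 r (by omega) c6
  by_cases c7 : r < 208
  · exact allRange_spec e8Ot7_0_182 r (by omega) c7
  by_cases c8 : r < 234
  · exact allRange_spec e8Ot7_0_208 r (by omega) c8
  by_cases c9 : r < 260
  · exact allRange_spec e8Ot7_0_234 r (by omega) c9
  by_cases c10 : r < 286
  · exact allRange_spec e8Ot7_0_260 r (by omega) c10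
  by_cases c11 : r < 312
  · exact allRange_spec e8Ot7_0_286 r (by omega) c11
  by_cases c12 : r < 338
  · exact allRange_spec e8Ot7_0_312 r (by omega) c12
  by_cases c13 : r < 364
  · exact allRange_spec e8Ot7_0_338 r (by omega) c13
  by_cases c14 : r < 390
  · exact allRange_spec e8Ot7_0_364 r (by omega) c14
  by_cases c15 : r < 416
  · exact allRange_spec e8Ot7_0_390 r (by omega) c15
  by_cases c16 : r < 442
  · exact allRange_spec e8Ot7_0_416 r (by omega) c16
  by_cases c17 : r < 468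
  · exact allRange_spec e8Ot7_0_442 r (by omega) c17
  by_cases c18 : r < 494
  · exact allRange_spec e8Ot7_0_468 r (by omega) c18
  by_cases c19 : r < 520
  · exact allRange_spec e8Ot7_0_494 r (by omega) c19
  by_cases c20 : r < 546
  · exact allRange_spec e8Ot7_0_520 r (by omega) c20
  by_cases c21 : r < 572
  · exact allRange_spec e8Ot7_0_546 r (by omega) c21
  by_cases c22 : r < 598
  · exact allRange_spec e8Ot7_0_572 r (by omega) c22
  by_cases c23 : r < 624
  · exact allRange_spec e8Ot7_0_598 r (by omega) c23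
  by_cases c24 : r < 650
  · exact allRange_spec e8Ot7_0_624 r (by omega) c24
  by_cases c25 : r < 676
  · exact allRange_spec e8Ot7_0_650 r (by omega) c25
  by_cases c26 : r < 702
  · exact allRange_spec e8Ot7_0_676 r (by omega) c26
  by_cases c27 : r < 728
  · exact allRange_spec e8Ot7_0_702 r (by omega) c27
  by_cases c28 : r < 754
  · exact allRange_spec e8Ot7_0_728 r (by omega) c28
  by_cases c29 : r < 780
  · exact allRange_spec e8Ot7_0_754 r (by omega) c29
  by_cases c30 : r < 806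
  · exact allRange_spec e8Ot7_0_780 r (by omega) c30
  by_cases c31 : r < 832
  · exact allRange_spec e8Ot7_0_806 r (by omega) c31
  by_cases c32 : r < 858
  · exact allRange_spec e8Ot7_0_832 r (by omega) c32
  by_cases c33 : r < 884
  · exact allRange_spec e8Ot7_0_858 r (by omega) c33
  by_cases c34 : r < 910
  · exact allRange_spec e8Ot7_0_884 r (by omega) c34
  by_cases c35 : r < 936
  · exact allRange_spec e8Ot7_0_910 r (by omega) c35
  by_cases c36 : r < 962
  · exact allRange_spec e8Ot7_0_936 r (by omega) c36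
  exact allRange_spec e8Ot7_0_962 r (by omega) h2

end Cfsg.Agent.Lib.Helper3.ChevM
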