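import Cfsg.Prelude.Def_ChevE8
import Cfsg.Agent.Lib.Helper3.ChevData.E8Tabs
import Cfsg.Agent.Lib.Helper3.ChevB1
set_option autoImplicit false
set_option maxRecDepth 1000000
set_option Elab.async false

namespace Cfsg.Agent.Lib.Helper3.ChevM

theorem e8ReflInv_0_0 : allRange 0 689 ((fun k => reflInvCheck reflE8 (k / 240) (k % 240))) = true := by decide +kernel
theorem e8ReflInv_0_689 : allRange 689 1378 ((fun k => reflInvCheck reflE8 (k / 240) (k % 240))) = true := by decide +kernel
theorem e8ReflInv_0_1378 : allRange 1378 1920 ((fun k => reflInvCheck reflE8 (k / 240) (k % 240))) = true := by decide +kernel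

/-- The fundamental reflections of type E8 are involutions on the roots (roots 0 to 1919). -/
theorem e8ReflInv_0 : ∀ r, 0 ≤ r → r < 1920 → ((fun k => reflInvCheck reflE8 (k / 240) (k % 240))) r = true := by
  intro r h1 h2
  by_cases c0 : r < 689
  · exact allRange_spec e8ReflInv_0_0 r (by omega) c0
  by_cases c1 : r < 1378
  · exact allRange_spec e8ReflInv_0_689 r (by omega) c1
  exact allRange_spec e8ReflInv_0_1378 r (by omega) h2

end Cfsg.Agent.Lib.Helper3.ChevM
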