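import Cfsg.Prelude.Def_ChevE8
import Cfsg.Agent.Lib.Helper3.ChevG1
set_option autoImplicit false
set_option maxRecDepth 1000000
set_option Elab.async false

namespace Cfsg.Agent.Lib.Helper3.ChevM

theorem e8Root_0_0 : allRange 0 68 ((fun r => rootCheck Cfsg.Lie.chevE8 r)) = true := by decide +kernel
theorem e8Root_0_68 : allRange 68 136 ((fun r => rootCheck Cfsg.Lie.chevE8 r)) = true := by decide +kernel
theorem e8Root_0_136 : allRange 136 204 ((fun r => rootCheck Cfsg.Lie.chevE8 r)) = true := by decide +kernel
theorem e8Root_0_204 : allRange 204 240 ((fun r => rootCheck Cfsg.Lie.chevE8 r)) = true := by decide +kernel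

/-- Signs of the roots of type E8 (roots 0 to 239). -/
theorem e8Root_0 : ∀ r, 0 ≤ r → r < 240 → ((fun r => rootCheck Cfsg.Lie.chevE8 r)) r = true := by
  intro r h1 h2
  by_cases c0 : r < 68
  · exact allRange_spec e8Root_0_0 r (by omega) c0
  by_cases c1 : r < 136
  · exact allRange_spec e8Root_0_68 r (by omega) c1
  by_cases c2 : r < 204
  · exact allRange_spec e8Root_0_136 r (by omega) c2
  exact allRange_spec e8Root_0_204 r (by omega) h2

end Cfsg.Agent.Lib.Helper3.ChevM
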