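import Cfsg.Prelude.Def_ChevE8
import Cfsg.Agent.Lib.Helper3.ChevData.E8Hd2
import Cfsg.Agent.Lib.Helper3.ChevData.E8Tabs
import Cfsg.Agent.Lib.Helper3.ChevL3
set_option autoImplicit false
set_option maxRecDepth 1000000
set_option Elab.async false

namespace Cfsg.Agent.Lib.Helper3.ChevM

theorem e8Rv_1_240 : allRange 240 300 (fun k => reflVecCheck Cfsg.Lie.chevE8 reflE8 vecE8 (k / 240) (k % 240)) = true := by decide +kernel
theorem e8Rv_1_300 : allRange 300 360 (fun k => reflVecCheck Cfsg.Lie.chevE8 reflE8 vecE8 (k / 240) (k % 240)) = true := by decide +kernel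
theorem e8Rv_1_360 : allRange 360 420 (fun k => reflVecCheck Cfsg.Lie.chevE8 reflE8 vecE8 (k / 240) (k % 240)) = true := by decide +kernel
theorem e8Rv_1_420 : allRange 420 480 (fun k => reflVecCheck Cfsg.Lie.chevE8 reflE8 vecE8 (k / 240) (k % 240)) = true := by decide +kernel

/-- The fundamental reflections of type E8 change one coefficient (roots 240 to 479). -/
theorem e8Rv_1 : ∀ r, 240 ≤ r → r < 480 → (fun k => reflVecCheck Cfsg.Lie.chevE8 reflE8 vecE8 (k / 240) (k % 240)) r = true := by
  intro r h1 h2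
  by_cases c0 : r < 300
  · exact allRange_spec e8Rv_1_240 r (by omega) c0
  by_cases c1 : r < 360
  · exact allRange_spec e8Rv_1_300 r (by omega) c1
  by_cases c2 : r < 420
  · exact allRange_spec e8Rv_1_360 r (by omega) c2
  exact allRange_spec e8Rv_1_420 r (by omega) h2

end Cfsg.Agent.Lib.Helper3.ChevM
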