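import Cfsg.Prelude.Def_ChevE8
import Cfsg.Agent.Lib.Helper3.ChevData.E8Hd2
import Cfsg.Agent.Lib.Helper3.ChevData.E8Tabs
import Cfsg.Agent.Lib.Helper3.ChevL3
set_option autoImplicit false
set_option maxRecDepth 1000000
set_option Elab.async false

namespace Cfsg.Agent.Lib.Helper3.ChevM

theorem e8Rv_2_480 : allRange 480 540 (fun k => reflVecCheck Cfsg.Lie.chevE8 reflE8 vecE8 (k / 240) (k % 240)) = true := by decide +kernel
theorem e8Rv_2_540 : allRange 540 600 (fun k => reflVecCheck Cfsg.Lie.chevE8 reflE8 vecE8 (k / 240) (k % 240)) = true := by decide +kernel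
theorem e8Rv_2_600 : allRange 600 660 (fun k => reflVecCheck Cfsg.Lie.chevE8 reflE8 vecE8 (k / 240) (k % 240)) = true := by decide +kernel
theorem e8Rv_2_660 : allRange 660 720 (fun k => reflVecCheck Cfsg.Lie.chevE8 reflE8 vecE8 (k / 240) (k % 240)) = true := by decide +kernel

/-- The fundamental reflections of type E8 change one coefficient (roots 480 to 719). -/
theorem e8Rv_2 : ∀ r, 480 ≤ r → r < 720 → (fun k => reflVecCheck Cfsg.Lie.chevE8 reflE8 vecE8 (k / 240) (k % 240)) r = true := by
  intro r h1 h2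
  by_cases c0 : r < 540
  · exact allRange_spec e8Rv_2_480 r (by omega) c0
  by_cases c1 : r < 600
  · exact allRange_spec e8Rv_2_540 r (by omega) c1
  by_cases c2 : r < 660
  · exact allRange_spec e8Rv_2_600 r (by omega) c2
  exact allRange_spec e8Rv_2_660 r (by omega) h2

end Cfsg.Agent.Lib.Helper3.ChevM
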