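import Cfsg.Prelude.Def_ChevE8
import Cfsg.Agent.Lib.Helper3.ChevData.E8Hd2
import Cfsg.Agent.Lib.Helper3.ChevData.E8Tabs
import Cfsg.Agent.Lib.Helper3.ChevL3
set_option autoImplicit false
set_option maxRecDepth 1000000
set_option Elab.async false

namespace Cfsg.Agent.Lib.Helper3.ChevM

theorem e8Rv_6_1440 : allRange 1440 1500 (fun k => reflVecCheck Cfsg.Lie.chevE8 reflE8 vecE8 (k / 240) (k % 240)) = true := by decide +kernel
theorem e8Rv_6_1500 : allRange 1500 1560 (fun k => reflVecCheck Cfsg.Lie.chevE8 reflE8 vecE8 (k / 240) (k % 240)) = true := by decide +kernel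
theorem e8Rv_6_1560 : allRange 1560 1620 (fun k => reflVecCheck Cfsg.Lie.chevE8 reflE8 vecE8 (k / 240) (k % 240)) = true := by decide +kernel
theorem e8Rv_6_1620 : allRange 1620 1680 (fun k => reflVecCheck Cfsg.Lie.chevE8 reflE8 vecE8 (k / 240) (k % 240)) = true := by decide +kernel

/-- The fundamental reflections of type E8 change one coefficient (roots 1440 to 1679). -/
theorem e8Rv_6 : ∀ r, 1440 ≤ r → r < 1680 → (fun k => reflVecCheck Cfsg.Lie.chevE8 reflE8 vecE8 (k / 240) (k % 240)) r = true := by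
  intro r h1 h2
  by_cases c0 : r < 1500
  · exact allRange_spec e8Rv_6_1440 r (by omega) c0
  by_cases c1 : r < 1560
  · exact allRange_spec e8Rv_6_1500 r (by omega) c1
  by_cases c2 : r < 1620
  · exact allRange_spec e8Rv_6_1560 r (by omega) c2
  exact allRange_spec e8Rv_6_1620 r (by omega) h2

end Cfsg.Agent.Lib.Helper3.ChevM
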