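import Cfsg.Prelude.Def_ChevE8
import Cfsg.Agent.Lib.Helper3.ChevData.E8Hd2
import Cfsg.Agent.Lib.Helper3.ChevData.E8Tabs
import Cfsg.Agent.Lib.Helper3.ChevL3
set_option autoImplicit false
set_option maxRecDepth 1000000
set_option Elab.async false

namespace Cfsg.Agent.Lib.Helper3.ChevM

theorem e8Rv_7_1680 : allRange 1680 1740 (fun k => reflVecCheck Cfsg.Lie.chevE8 reflE8 vecE8 (k / 240) (k % 240)) = true := by decide +kernel
theorem e8Rv_7_1740 : allRange 1740 1800 (fun k => reflVecCheck Cfsg.Lie.chevE8 reflE8 vecE8 (k / 240) (k % 240)) = true := by decide +kernel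
theorem e8Rv_7_1800 : allRange 1800 1860 (fun k => reflVecCheck Cfsg.Lie.chevE8 reflE8 vecE8 (k / 240) (k % 240)) = true := by decide +kernel
theorem e8Rv_7_1860 : allRange 1860 1920 (fun k => reflVecCheck Cfsg.Lie.chevE8 reflE8 vecE8 (k / 240) (k % 240)) = true := by decide +kernel

/-- The fundamental reflections of type E8 change one coefficient (roots 1680 to 1919). -/
theorem e8Rv_7 : ∀ r, 1680 ≤ r → r < 1920 → (fun k => reflVecCheck Cfsg.Lie.chevE8 reflE8 vecE8 (k / 240) (k % 240)) r = true := by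
  intro r h1 h2
  by_cases c0 : r < 1740
  · exact allRange_spec e8Rv_7_1680 r (by omega) c0
  by_cases c1 : r < 1800
  · exact allRange_spec e8Rv_7_1740 r (by omega) c1
  by_cases c2 : r < 1860
  · exact allRange_spec e8Rv_7_1800 r (by omega) c2
  exact allRange_spec e8Rv_7_1860 r (by omega) h2

end Cfsg.Agent.Lib.Helper3.ChevM
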