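import Cfsg.Agent.Lib.Helper3.ChevData.E8RvA
import Cfsg.Agent.Lib.Helper3.ChevData.E8RvB
import Cfsg.Agent.Lib.Helper3.ChevData.E8RvC
import Cfsg.Agent.Lib.Helper3.ChevData.E8RvD
import Cfsg.Agent.Lib.Helper3.ChevData.E8RvE
import Cfsg.Agent.Lib.Helper3.ChevData.E8RvF
import Cfsg.Agent.Lib.Helper3.ChevData.E8RvG
import Cfsg.Agent.Lib.Helper3.ChevData.E8RvH
set_option autoImplicit false

namespace Cfsg.Agent.Lib.Helper3.ChevM

/-- The fundamental reflections of type E8 change one coefficient. -/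
theorem e8Rv : ∀ r < 1920, (fun k => reflVecCheck Cfsg.Lie.chevE8 reflE8 vecE8 (k / 240) (k % 240)) r = true := by
  intro r hr
  by_cases h0 : r < 240
  · exact e8Rv_0 r (by omega) h0
  by_cases h1 : r < 480
  · exact e8Rv_1 r (by omega) h1
  by_cases h2 : r < 720
  · exact e8Rv_2 r (by omega) h2
  by_cases h3 : r < 960
  · exact e8Rv_3 r (by omega) h3
  by_cases h4 : r < 1200
  · exact e8Rv_4 r (by omega) h4
  by_cases h5 : r < 1440
  · exact e8Rv_5 r (by omega) h5
  by_cases h6 : r < 1680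
  · exact e8Rv_6 r (by omega) h6
  exact e8Rv_7 r (by omega) hr

end Cfsg.Agent.Lib.Helper3.ChevM
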