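import Cfsg.Prelude.Def_ChevE8
import Cfsg.Agent.Lib.Helper3.ChevData.E8Slct
import Cfsg.Agent.Lib.Helper3.ChevData.E8Slhd
import Cfsg.Agent.Lib.Helper3.StS3
set_option autoImplicit false
set_option maxRecDepth 1000000
set_option Elab.async false

namespace Cfsg.Agent.Lib.Helper3.ChevM
open Cfsg.Agent.Lib.Helper3.StS

theorem e8Slbase_0_0 : allRange 0 160 ((fun r => baseOK Cfsg.Lie.chevE8 sctE8 sbaseE8 r)) = true := by decide +kernel
theorem e8Slbase_0_160 : allRange 160 240 ((fun r => baseOK Cfsg.Lie.chevE8 sctE8 sbaseE8 r)) = true := by decide +kernel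

/-- The base decompositions of the roots of type E8 (roots 0 to 239). -/
theorem e8Slbase_0 : ∀ r, 0 ≤ r → r < 240 → ((fun r => baseOK Cfsg.Lie.chevE8 sctE8 sbaseE8 r)) r = true := by
  intro r h1 h2
  by_cases c0 : r < 160
  · exact allRange_spec e8Slbase_0_0 r (by omega) c0
  exact allRange_spec e8Slbase_0_160 r (by omega) h2

end Cfsg.Agent.Lib.Helper3.ChevM
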