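import Cfsg.Prelude.Def_ChevE8
import Cfsg.Agent.Lib.Helper3.ChevData.E8Slct
import Cfsg.Agent.Lib.Helper3.StS3
set_option autoImplicit false
set_option maxRecDepth 1000000
set_option Elab.async false

namespace Cfsg.Agent.Lib.Helper3.ChevM
open Cfsg.Agent.Lib.Helper3.StS

theorem e8Slctok_1_2442 : allRange 2442 2508 ((fun k => ctOK Cfsg.Lie.chevE8 sctE8 (k / 240) (k % 240))) = true := by decide +kernel
theorem e8Slctok_1_2508 : allRange 2508 2574 ((fun k => ctOK Cfsg.Lie.chevE8 sctE8 (k / 240) (k % 240))) = true := by decide +kernel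
theorem e8Slctok_1_2574 : allRange 2574 2640 ((fun k => ctOK Cfsg.Lie.chevE8 sctE8 (k / 240) (k % 240))) = true := by decide +kernel
theorem e8Slctok_1_2640 : allRange 2640 2706 ((fun k => ctOK Cfsg.Lie.chevE8 sctE8 (k / 240) (k % 240))) = true := by decide +kernel
theorem e8Slctok_1_2706 : allRange 2706 2772 ((fun k => ctOK Cfsg.Lie.chevE8 sctE8 (k / 240) (k % 240))) = true := by decide +kernel
theorem e8Slctok_1_2772 : allRange 2772 2838 ((fun k => ctOK Cfsg.Lie.chevE8 sctE8 (k / 240) (k % 240))) = true := by decide +kernel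
theorem e8Slctok_1_2838 : allRange 2838 2904 ((fun k => ctOK Cfsg.Lie.chevE8 sctE8 (k / 240) (k % 240))) = true := by decide +kernel
theorem e8Slctok_1_2904 : allRange 2904 2970 ((fun k => ctOK Cfsg.Lie.chevE8 sctE8 (k / 240) (k % 240))) = true := by decide +kernel
theorem e8Slctok_1_2970 : allRange 2970 3036 ((fun k => ctOK Cfsg.Lie.chevE8 sctE8 (k / 240) (k % 240))) = true := by decide +kernel
theorem e8Slctok_1_3036 : allRange 3036 3102 ((fun k => ctOK Cfsg.Lie.chevE8 sctE8 (k / 240) (k % 240))) = true := by decide +kernel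
theorem e8Slctok_1_3102 : allRange 3102 3168 ((fun k => ctOK Cfsg.Lie.chevE8 sctE8 (k / 240) (k % 240))) = true := by decide +kernel
theorem e8Slctok_1_3168 : allRange 3168 3234 ((fun k => ctOK Cfsg.Lie.chevE8 sctE8 (k / 240) (k % 240))) = true := by decide +kernel
theorem e8Slctok_1_3234 : allRange 3234 3300 ((fun k => ctOK Cfsg.Lie.chevE8 sctE8 (k / 240) (k % 240))) = true := by decide +kernel
theorem e8Slctok_1_3300 : allRange 3300 3366 ((fun k => ctOK Cfsg.Lie.chevE8 sctE8 (k / 240) (k % 240))) = true := by decide +kernel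
theorem e8Slctok_1_3366 : allRange 3366 3432 ((fun k => ctOK Cfsg.Lie.chevE8 sctE8 (k / 240) (k % 240))) = true := by decide +kernel
theorem e8Slctok_1_3432 : allRange 3432 3498 ((fun k => ctOK Cfsg.Lie.chevE8 sctE8 (k / 240) (k % 240))) = true := by decide +kernel
theorem e8Slctok_1_3498 : allRange 3498 3564 ((fun k => ctOK Cfsg.Lie.chevE8 sctE8 (k / 240) (k % 240))) = true := by decide +kernel
theorem e8Slctok_1_3564 : allRange 3564 3630 ((fun k => ctOK Cfsg.Lie.chevE8 sctE8 (k / 240) (k % 240))) = true := by decide +kernel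
theorem e8Slctok_1_3630 : allRange 3630 3696 ((fun k => ctOK Cfsg.Lie.chevE8 sctE8 (k / 240) (k % 240))) = true := by decide +kernel
theorem e8Slctok_1_3696 : allRange 3696 3762 ((fun k => ctOK Cfsg.Lie.chevE8 sctE8 (k / 240) (k % 240))) = true := by decide +kernel
theorem e8Slctok_1_3762 : allRange 3762 3828 ((fun k => ctOK Cfsg.Lie.chevE8 sctE8 (k / 240) (k % 240))) = true := by decide +kernel
theorem e8Slctok_1_3828 : allRange 3828 3894 ((fun k => ctOK Cfsg.Lie.chevE8 sctE8 (k / 240) (k % 240))) = true := by decide +kernel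
theorem e8Slctok_1_3894 : allRange 3894 3960 ((fun k => ctOK Cfsg.Lie.chevE8 sctE8 (k / 240) (k % 240))) = true := by decide +kernel
theorem e8Slctok_1_3960 : allRange 3960 4026 ((fun k => ctOK Cfsg.Lie.chevE8 sctE8 (k / 240) (k % 240))) = true := by decide +kernel
theorem e8Slctok_1_4026 : allRange 4026 4092 ((fun k => ctOK Cfsg.Lie.chevE8 sctE8 (k / 240) (k % 240))) = true := by decide +kernel
theorem e8Slctok_1_4092 : allRange 4092 4158 ((fun k => ctOK Cfsg.Lie.chevE8 sctE8 (k / 240) (k % 240))) = true := by decide +kernel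
theorem e8Slctok_1_4158 : allRange 4158 4224 ((fun k => ctOK Cfsg.Lie.chevE8 sctE8 (k / 240) (k % 240))) = true := by decide +kernel
theorem e8Slctok_1_4224 : allRange 4224 4290 ((fun k => ctOK Cfsg.Lie.chevE8 sctE8 (k / 240) (k % 240))) = true := by decide +kernel
theorem e8Slctok_1_4290 : allRange 4290 4356 ((fun k => ctOK Cfsg.Lie.chevE8 sctE8 (k / 240) (k % 240))) = true := by decide +kernel
theorem e8Slctok_1_4356 : allRange 4356 4422 ((fun k => ctOK Cfsg.Lie.chevE8 sctE8 (k / 240) (k % 240))) = true := by decide +kernel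
theorem e8Slctok_1_4422 : allRange 4422 4488 ((fun k => ctOK Cfsg.Lie.chevE8 sctE8 (k / 240) (k % 240))) = true := by decide +kernel
theorem e8Slctok_1_4488 : allRange 4488 4554 ((fun k => ctOK Cfsg.Lie.chevE8 sctE8 (k / 240) (k % 240))) = true := by decide +kernel
theorem e8Slctok_1_4554 : allRange 4554 4620 ((fun k => ctOK Cfsg.Lie.chevE8 sctE8 (k / 240) (k % 240))) = true := by decide +kernel
theorem e8Slctok_1_4620 : allRange 4620 4686 ((fun k => ctOK Cfsg.Lie.chevE8 sctE8 (k / 240) (k % 240))) = true := by decide +kernel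
theorem e8Slctok_1_4686 : allRange 4686 4752 ((fun k => ctOK Cfsg.Lie.chevE8 sctE8 (k / 240) (k % 240))) = true := by decide +kernel
theorem e8Slctok_1_4752 : allRange 4752 4818 ((fun k => ctOK Cfsg.Lie.chevE8 sctE8 (k / 240) (k % 240))) = true := by decide +kernel
theorem e8Slctok_1_4818 : allRange 4818 4884 ((fun k => ctOK Cfsg.Lie.chevE8 sctE8 (k / 240) (k % 240))) = true := by decide +kernel

/-- The compiled table of sums of roots of type E8 agrees with the terms of the commutator formula (roots 2442 to 4883). -/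
theorem e8Slctok_1 : ∀ r, 2442 ≤ r → r < 4884 → ((fun k => ctOK Cfsg.Lie.chevE8 sctE8 (k / 240) (k % 240))) r = true := by
  intro r h1 h2
  by_cases c0 : r < 2508
  · exact allRange_spec e8Slctok_1_2442 r (by omega) c0
  by_cases c1 : r < 2574
  · exact allRange_spec e8Slctok_1_2508 r (by omega) c1
  by_cases c2 : r < 2640
  · exact allRange_spec e8Slctok_1_2574 r (by omega) c2
  by_cases c3 : r < 2706
  · exact allRange_spec e8Slctok_1_2640 r (by omega) c3
  by_cases c4 : r < 2772
  · exact allRange_spec e8Slctok_1_2706 r (by omega) c4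
  by_cases c5 : r < 2838
  · exact allRange_spec e8Slctok_1_2772 r (by omega) c5
  by_cases c6 : r < 2904
  · exact allRange_spec e8Slctok_1_2838 r (by omega) c6
  by_cases c7 : r < 2970
  · exact allRange_spec e8Slctok_1_2904 r (by omega) c7
  by_cases c8 : r < 3036
  · exact allRange_spec e8Slctok_1_2970 r (by omega) c8
  by_cases c9 : r < 3102
  · exact allRange_spec e8Slctok_1_3036 r (by omega) c9
  by_cases c10 : r < 3168
  · exact allRange_spec e8Slctok_1_3102 r (by omega) c10
  by_cases c11 : r < 3234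
  · exact allRange_spec e8Slctok_1_3168 r (by omega) c11
  by_cases c12 : r < 3300
  · exact allRange_spec e8Slctok_1_3234 r (by omega) c12
  by_cases c13 : r < 3366
  · exact allRange_spec e8Slctok_1_3300 r (by omega) c13
  by_cases c14 : r < 3432
  · exact allRange_spec e8Slctok_1_3366 r (by omega) c14
  by_cases c15 : r < 3498
  · exact allRange_spec e8Slctok_1_3432 r (by omega) c15
  by_cases c16 : r < 3564
  · exact allRange_spec e8Slctok_1_3498 r (by omega) c16
  by_cases c17 : r < 3630
  · exact allRange_spec e8Slctok_1_3564 r (by omega) c17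
  by_cases c18 : r < 3696
  · exact allRange_spec e8Slctok_1_3630 r (by omega) c18
  by_cases c19 : r < 3762
  · exact allRange_spec e8Slctok_1_3696 r (by omega) c19
  by_cases c20 : r < 3828
  · exact allRange_spec e8Slctok_1_3762 r (by omega) c20
  by_cases c21 : r < 3894
  · exact allRange_spec e8Slctok_1_3828 r (by omega) c21
  by_cases c22 : r < 3960
  · exact allRange_spec e8Slctok_1_3894 r (by omega) c22
  by_cases c23 : r < 4026
  · exact allRange_spec e8Slctok_1_3960 r (by omega) c23
  by_cases c24 : r < 4092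
  · exact allRange_spec e8Slctok_1_4026 r (by omega) c24
  by_cases c25 : r < 4158
  · exact allRange_spec e8Slctok_1_4092 r (by omega) c25
  by_cases c26 : r < 4224
  · exact allRange_spec e8Slctok_1_4158 r (by omega) c26
  by_cases c27 : r < 4290
  · exact allRange_spec e8Slctok_1_4224 r (by omega) c27
  by_cases c28 : r < 4356
  · exact allRange_spec e8Slctok_1_4290 r (by omega) c28
  by_cases c29 : r < 4422
  · exact allRange_spec e8Slctok_1_4356 r (by omega) c29
  by_cases c30 : r < 4488
  · exact allRange_spec e8Slctok_1_4422 r (by omega) c30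
  by_cases c31 : r < 4554
  · exact allRange_spec e8Slctok_1_4488 r (by omega) c31
  by_cases c32 : r < 4620
  · exact allRange_spec e8Slctok_1_4554 r (by omega) c32
  by_cases c33 : r < 4686
  · exact allRange_spec e8Slctok_1_4620 r (by omega) c33
  by_cases c34 : r < 4752
  · exact allRange_spec e8Slctok_1_4686 r (by omega) c34
  by_cases c35 : r < 4818
  · exact allRange_spec e8Slctok_1_4752 r (by omega) c35
  exact allRange_spec e8Slctok_1_4818 r (by omega) h2

end Cfsg.Agent.Lib.Helper3.ChevM
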