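import Cfsg.Prelude.Def_ChevE8
import Cfsg.Agent.Lib.Helper3.ChevData.E8Slct
import Cfsg.Agent.Lib.Helper3.StS3
set_option autoImplicit false
set_option maxRecDepth 1000000
set_option Elab.async false

namespace Cfsg.Agent.Lib.Helper3.ChevM
open Cfsg.Agent.Lib.Helper3.StS

theorem e8Slctok_2_4884 : allRange 4884 4950 ((fun k => ctOK Cfsg.Lie.chevE8 sctE8 (k / 240) (k % 240))) = true := by decide +kernel
theorem e8Slctok_2_4950 : allRange 4950 5016 ((fun k => ctOK Cfsg.Lie.chevE8 sctE8 (k / 240) (k % 240))) = true := by decide +kernel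
theorem e8Slctok_2_5016 : allRange 5016 5082 ((fun k => ctOK Cfsg.Lie.chevE8 sctE8 (k / 240) (k % 240))) = true := by decide +kernel
theorem e8Slctok_2_5082 : allRange 5082 5148 ((fun k => ctOK Cfsg.Lie.chevE8 sctE8 (k / 240) (k % 240))) = true := by decide +kernel
theorem e8Slctok_2_5148 : allRange 5148 5214 ((fun k => ctOK Cfsg.Lie.chevE8 sctE8 (k / 240) (k % 240))) = true := by decide +kernel
theorem e8Slctok_2_5214 : allRange 5214 5280 ((fun k => ctOK Cfsg.Lie.chevE8 sctE8 (k / 240) (k % 240))) = true := by decide +kernel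
theorem e8Slctok_2_5280 : allRange 5280 5346 ((fun k => ctOK Cfsg.Lie.chevE8 sctE8 (k / 240) (k % 240))) = true := by decide +kernel
theorem e8Slctok_2_5346 : allRange 5346 5412 ((fun k => ctOK Cfsg.Lie.chevE8 sctE8 (k / 240) (k % 240))) = true := by decide +kernel
theorem e8Slctok_2_5412 : allRange 5412 5478 ((fun k => ctOK Cfsg.Lie.chevE8 sctE8 (k / 240) (k % 240))) = true := by decide +kernel
theorem e8Slctok_2_5478 : allRange 5478 5544 ((fun k => ctOK Cfsg.Lie.chevE8 sctE8 (k / 240) (k % 240))) = true := by decide +kernel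
theorem e8Slctok_2_5544 : allRange 5544 5610 ((fun k => ctOK Cfsg.Lie.chevE8 sctE8 (k / 240) (k % 240))) = true := by decide +kernel
theorem e8Slctok_2_5610 : allRange 5610 5676 ((fun k => ctOK Cfsg.Lie.chevE8 sctE8 (k / 240) (k % 240))) = true := by decide +kernel
theorem e8Slctok_2_5676 : allRange 5676 5742 ((fun k => ctOK Cfsg.Lie.chevE8 sctE8 (k / 240) (k % 240))) = true := by decide +kernel
theorem e8Slctok_2_5742 : allRange 5742 5808 ((fun k => ctOK Cfsg.Lie.chevE8 sctE8 (k / 240) (k % 240))) = true := by decide +kernel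
theorem e8Slctok_2_5808 : allRange 5808 5874 ((fun k => ctOK Cfsg.Lie.chevE8 sctE8 (k / 240) (k % 240))) = true := by decide +kernel
theorem e8Slctok_2_5874 : allRange 5874 5940 ((fun k => ctOK Cfsg.Lie.chevE8 sctE8 (k / 240) (k % 240))) = true := by decide +kernel
theorem e8Slctok_2_5940 : allRange 5940 6006 ((fun k => ctOK Cfsg.Lie.chevE8 sctE8 (k / 240) (k % 240))) = true := by decide +kernel
theorem e8Slctok_2_6006 : allRange 6006 6072 ((fun k => ctOK Cfsg.Lie.chevE8 sctE8 (k / 240) (k % 240))) = true := by decide +kernel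
theorem e8Slctok_2_6072 : allRange 6072 6138 ((fun k => ctOK Cfsg.Lie.chevE8 sctE8 (k / 240) (k % 240))) = true := by decide +kernel
theorem e8Slctok_2_6138 : allRange 6138 6204 ((fun k => ctOK Cfsg.Lie.chevE8 sctE8 (k / 240) (k % 240))) = true := by decide +kernel
theorem e8Slctok_2_6204 : allRange 6204 6270 ((fun k => ctOK Cfsg.Lie.chevE8 sctE8 (k / 240) (k % 240))) = true := by decide +kernel
theorem e8Slctok_2_6270 : allRange 6270 6336 ((fun k => ctOK Cfsg.Lie.chevE8 sctE8 (k / 240) (k % 240))) = true := by decide +kernel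
theorem e8Slctok_2_6336 : allRange 6336 6402 ((fun k => ctOK Cfsg.Lie.chevE8 sctE8 (k / 240) (k % 240))) = true := by decide +kernel
theorem e8Slctok_2_6402 : allRange 6402 6468 ((fun k => ctOK Cfsg.Lie.chevE8 sctE8 (k / 240) (k % 240))) = true := by decide +kernel
theorem e8Slctok_2_6468 : allRange 6468 6534 ((fun k => ctOK Cfsg.Lie.chevE8 sctE8 (k / 240) (k % 240))) = true := by decide +kernel
theorem e8Slctok_2_6534 : allRange 6534 6600 ((fun k => ctOK Cfsg.Lie.chevE8 sctE8 (k / 240) (k % 240))) = true := by decide +kernel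
theorem e8Slctok_2_6600 : allRange 6600 6666 ((fun k => ctOK Cfsg.Lie.chevE8 sctE8 (k / 240) (k % 240))) = true := by decide +kernel
theorem e8Slctok_2_6666 : allRange 6666 6732 ((fun k => ctOK Cfsg.Lie.chevE8 sctE8 (k / 240) (k % 240))) = true := by decide +kernel
theorem e8Slctok_2_6732 : allRange 6732 6798 ((fun k => ctOK Cfsg.Lie.chevE8 sctE8 (k / 240) (k % 240))) = true := by decide +kernel
theorem e8Slctok_2_6798 : allRange 6798 6864 ((fun k => ctOK Cfsg.Lie.chevE8 sctE8 (k / 240) (k % 240))) = true := by decide +kernel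
theorem e8Slctok_2_6864 : allRange 6864 6930 ((fun k => ctOK Cfsg.Lie.chevE8 sctE8 (k / 240) (k % 240))) = true := by decide +kernel
theorem e8Slctok_2_6930 : allRange 6930 6996 ((fun k => ctOK Cfsg.Lie.chevE8 sctE8 (k / 240) (k % 240))) = true := by decide +kernel
theorem e8Slctok_2_6996 : allRange 6996 7062 ((fun k => ctOK Cfsg.Lie.chevE8 sctE8 (k / 240) (k % 240))) = true := by decide +kernel
theorem e8Slctok_2_7062 : allRange 7062 7128 ((fun k => ctOK Cfsg.Lie.chevE8 sctE8 (k / 240) (k % 240))) = true := by decide +kernel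
theorem e8Slctok_2_7128 : allRange 7128 7194 ((fun k => ctOK Cfsg.Lie.chevE8 sctE8 (k / 240) (k % 240))) = true := by decide +kernel
theorem e8Slctok_2_7194 : allRange 7194 7260 ((fun k => ctOK Cfsg.Lie.chevE8 sctE8 (k / 240) (k % 240))) = true := by decide +kernel
theorem e8Slctok_2_7260 : allRange 7260 7326 ((fun k => ctOK Cfsg.Lie.chevE8 sctE8 (k / 240) (k % 240))) = true := by decide +kernel

/-- The compiled table of sums of roots of type E8 agrees with the terms of the commutator formula (roots 4884 to 7325). -/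
theorem e8Slctok_2 : ∀ r, 4884 ≤ r → r < 7326 → ((fun k => ctOK Cfsg.Lie.chevE8 sctE8 (k / 240) (k % 240))) r = true := by
  intro r h1 h2
  by_cases c0 : r < 4950
  · exact allRange_spec e8Slctok_2_4884 r (by omega) c0
  by_cases c1 : r < 5016
  · exact allRange_spec e8Slctok_2_4950 r (by omega) c1
  by_cases c2 : r < 5082
  · exact allRange_spec e8Slctok_2_5016 r (by omega) c2
  by_cases c3 : r < 5148
  · exact allRange_spec e8Slctok_2_5082 r (by omega) c3
  by_cases c4 : r < 5214
  · exact allRange_spec e8Slctok_2_5148 r (by omega) c4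
  by_cases c5 : r < 5280
  · exact allRange_spec e8Slctok_2_5214 r (by omega) c5
  by_cases c6 : r < 5346
  · exact allRange_spec e8Slctok_2_5280 r (by omega) c6
  by_cases c7 : r < 5412
  · exact allRange_spec e8Slctok_2_5346 r (by omega) c7
  by_cases c8 : r < 5478
  · exact allRange_spec e8Slctok_2_5412 r (by omega) c8
  by_cases c9 : r < 5544
  · exact allRange_spec e8Slctok_2_5478 r (by omega) c9
  by_cases c10 : r < 5610
  · exact allRange_spec e8Slctok_2_5544 r (by omega) c10
  by_cases c11 : r < 5676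
  · exact allRange_spec e8Slctok_2_5610 r (by omega) c11
  by_cases c12 : r < 5742
  · exact allRange_spec e8Slctok_2_5676 r (by omega) c12
  by_cases c13 : r < 5808
  · exact allRange_spec e8Slctok_2_5742 r (by omega) c13
  by_cases c14 : r < 5874
  · exact allRange_spec e8Slctok_2_5808 r (by omega) c14
  by_cases c15 : r < 5940
  · exact allRange_spec e8Slctok_2_5874 r (by omega) c15
  by_cases c16 : r < 6006
  · exact allRange_spec e8Slctok_2_5940 r (by omega) c16
  by_cases c17 : r < 6072
  · exact allRange_spec e8Slctok_2_6006 r (by omega) c17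
  by_cases c18 : r < 6138
  · exact allRange_spec e8Slctok_2_6072 r (by omega) c18
  by_cases c19 : r < 6204
  · exact allRange_spec e8Slctok_2_6138 r (by omega) c19
  by_cases c20 : r < 6270
  · exact allRange_spec e8Slctok_2_6204 r (by omega) c20
  by_cases c21 : r < 6336
  · exact allRange_spec e8Slctok_2_6270 r (by omega) c21
  by_cases c22 : r < 6402
  · exact allRange_spec e8Slctok_2_6336 r (by omega) c22
  by_cases c23 : r < 6468
  · exact allRange_spec e8Slctok_2_6402 r (by omega) c23
  by_cases c24 : r < 6534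
  · exact allRange_spec e8Slctok_2_6468 r (by omega) c24
  by_cases c25 : r < 6600
  · exact allRange_spec e8Slctok_2_6534 r (by omega) c25
  by_cases c26 : r < 6666
  · exact allRange_spec e8Slctok_2_6600 r (by omega) c26
  by_cases c27 : r < 6732
  · exact allRange_spec e8Slctok_2_6666 r (by omega) c27
  by_cases c28 : r < 6798
  · exact allRange_spec e8Slctok_2_6732 r (by omega) c28
  by_cases c29 : r < 6864
  · exact allRange_spec e8Slctok_2_6798 r (by omega) c29
  by_cases c30 : r < 6930
  · exact allRange_spec e8Slctok_2_6864 r (by omega) c30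
  by_cases c31 : r < 6996
  · exact allRange_spec e8Slctok_2_6930 r (by omega) c31
  by_cases c32 : r < 7062
  · exact allRange_spec e8Slctok_2_6996 r (by omega) c32
  by_cases c33 : r < 7128
  · exact allRange_spec e8Slctok_2_7062 r (by omega) c33
  by_cases c34 : r < 7194
  · exact allRange_spec e8Slctok_2_7128 r (by omega) c34
  by_cases c35 : r < 7260
  · exact allRange_spec e8Slctok_2_7194 r (by omega) c35
  exact allRange_spec e8Slctok_2_7260 r (by omega) h2

end Cfsg.Agent.Lib.Helper3.ChevM
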