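import Cfsg.Prelude.Def_ChevE8
import Cfsg.Agent.Lib.Helper3.ChevData.E8Slct
import Cfsg.Agent.Lib.Helper3.StS3
set_option autoImplicit false
set_option maxRecDepth 1000000
set_option Elab.async false

namespace Cfsg.Agent.Lib.Helper3.ChevM
open Cfsg.Agent.Lib.Helper3.StS

theorem e8Slctok_6_14652 : allRange 14652 14718 ((fun k => ctOK Cfsg.Lie.chevE8 sctE8 (k / 240) (k % 240))) = true := by decide +kernel
theorem e8Slctok_6_14718 : allRange 14718 14784 ((fun k => ctOK Cfsg.Lie.chevE8 sctE8 (k / 240) (k % 240))) = true := by decide +kernel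
theorem e8Slctok_6_14784 : allRange 14784 14850 ((fun k => ctOK Cfsg.Lie.chevE8 sctE8 (k / 240) (k % 240))) = true := by decide +kernel
theorem e8Slctok_6_14850 : allRange 14850 14916 ((fun k => ctOK Cfsg.Lie.chevE8 sctE8 (k / 240) (k % 240))) = true := by decide +kernel
theorem e8Slctok_6_14916 : allRange 14916 14982 ((fun k => ctOK Cfsg.Lie.chevE8 sctE8 (k / 240) (k % 240))) = true := by decide +kernel
theorem e8Slctok_6_14982 : allRange 14982 15048 ((fun k => ctOK Cfsg.Lie.chevE8 sctE8 (k / 240) (k % 240))) = true := by decide +kernel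
theorem e8Slctok_6_15048 : allRange 15048 15114 ((fun k => ctOK Cfsg.Lie.chevE8 sctE8 (k / 240) (k % 240))) = true := by decide +kernel
theorem e8Slctok_6_15114 : allRange 15114 15180 ((fun k => ctOK Cfsg.Lie.chevE8 sctE8 (k / 240) (k % 240))) = true := by decide +kernel
theorem e8Slctok_6_15180 : allRange 15180 15246 ((fun k => ctOK Cfsg.Lie.chevE8 sctE8 (k / 240) (k % 240))) = true := by decide +kernel
theorem e8Slctok_6_15246 : allRange 15246 15312 ((fun k => ctOK Cfsg.Lie.chevE8 sctE8 (k / 240) (k % 240))) = true := by decide +kernel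
theorem e8Slctok_6_15312 : allRange 15312 15378 ((fun k => ctOK Cfsg.Lie.chevE8 sctE8 (k / 240) (k % 240))) = true := by decide +kernel
theorem e8Slctok_6_15378 : allRange 15378 15444 ((fun k => ctOK Cfsg.Lie.chevE8 sctE8 (k / 240) (k % 240))) = true := by decide +kernel
theorem e8Slctok_6_15444 : allRange 15444 15510 ((fun k => ctOK Cfsg.Lie.chevE8 sctE8 (k / 240) (k % 240))) = true := by decide +kernel
theorem e8Slctok_6_15510 : allRange 15510 15576 ((fun k => ctOK Cfsg.Lie.chevE8 sctE8 (k / 240) (k % 240))) = true := by decide +kernel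
theorem e8Slctok_6_15576 : allRange 15576 15642 ((fun k => ctOK Cfsg.Lie.chevE8 sctE8 (k / 240) (k % 240))) = true := by decide +kernel
theorem e8Slctok_6_15642 : allRange 15642 15708 ((fun k => ctOK Cfsg.Lie.chevE8 sctE8 (k / 240) (k % 240))) = true := by decide +kernel
theorem e8Slctok_6_15708 : allRange 15708 15774 ((fun k => ctOK Cfsg.Lie.chevE8 sctE8 (k / 240) (k % 240))) = true := by decide +kernel
theorem e8Slctok_6_15774 : allRange 15774 15840 ((fun k => ctOK Cfsg.Lie.chevE8 sctE8 (k / 240) (k % 240))) = true := by decide +kernel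
theorem e8Slctok_6_15840 : allRange 15840 15906 ((fun k => ctOK Cfsg.Lie.chevE8 sctE8 (k / 240) (k % 240))) = true := by decide +kernel
theorem e8Slctok_6_15906 : allRange 15906 15972 ((fun k => ctOK Cfsg.Lie.chevE8 sctE8 (k / 240) (k % 240))) = true := by decide +kernel
theorem e8Slctok_6_15972 : allRange 15972 16038 ((fun k => ctOK Cfsg.Lie.chevE8 sctE8 (k / 240) (k % 240))) = true := by decide +kernel
theorem e8Slctok_6_16038 : allRange 16038 16104 ((fun k => ctOK Cfsg.Lie.chevE8 sctE8 (k / 240) (k % 240))) = true := by decide +kernel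
theorem e8Slctok_6_16104 : allRange 16104 16170 ((fun k => ctOK Cfsg.Lie.chevE8 sctE8 (k / 240) (k % 240))) = true := by decide +kernel
theorem e8Slctok_6_16170 : allRange 16170 16236 ((fun k => ctOK Cfsg.Lie.chevE8 sctE8 (k / 240) (k % 240))) = true := by decide +kernel
theorem e8Slctok_6_16236 : allRange 16236 16302 ((fun k => ctOK Cfsg.Lie.chevE8 sctE8 (k / 240) (k % 240))) = true := by decide +kernel
theorem e8Slctok_6_16302 : allRange 16302 16368 ((fun k => ctOK Cfsg.Lie.chevE8 sctE8 (k / 240) (k % 240))) = true := by decide +kernel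
theorem e8Slctok_6_16368 : allRange 16368 16434 ((fun k => ctOK Cfsg.Lie.chevE8 sctE8 (k / 240) (k % 240))) = true := by decide +kernel
theorem e8Slctok_6_16434 : allRange 16434 16500 ((fun k => ctOK Cfsg.Lie.chevE8 sctE8 (k / 240) (k % 240))) = true := by decide +kernel
theorem e8Slctok_6_16500 : allRange 16500 16566 ((fun k => ctOK Cfsg.Lie.chevE8 sctE8 (k / 240) (k % 240))) = true := by decide +kernel
theorem e8Slctok_6_16566 : allRange 16566 16632 ((fun k => ctOK Cfsg.Lie.chevE8 sctE8 (k / 240) (k % 240))) = true := by decide +kernel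
theorem e8Slctok_6_16632 : allRange 16632 16698 ((fun k => ctOK Cfsg.Lie.chevE8 sctE8 (k / 240) (k % 240))) = true := by decide +kernel
theorem e8Slctok_6_16698 : allRange 16698 16764 ((fun k => ctOK Cfsg.Lie.chevE8 sctE8 (k / 240) (k % 240))) = true := by decide +kernel
theorem e8Slctok_6_16764 : allRange 16764 16830 ((fun k => ctOK Cfsg.Lie.chevE8 sctE8 (k / 240) (k % 240))) = true := by decide +kernel
theorem e8Slctok_6_16830 : allRange 16830 16896 ((fun k => ctOK Cfsg.Lie.chevE8 sctE8 (k / 240) (k % 240))) = true := by decide +kernel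
theorem e8Slctok_6_16896 : allRange 16896 16962 ((fun k => ctOK Cfsg.Lie.chevE8 sctE8 (k / 240) (k % 240))) = true := by decide +kernel
theorem e8Slctok_6_16962 : allRange 16962 17028 ((fun k => ctOK Cfsg.Lie.chevE8 sctE8 (k / 240) (k % 240))) = true := by decide +kernel
theorem e8Slctok_6_17028 : allRange 17028 17094 ((fun k => ctOK Cfsg.Lie.chevE8 sctE8 (k / 240) (k % 240))) = true := by decide +kernel

/-- The compiled table of sums of roots of type E8 agrees with the terms of the commutator formula (roots 14652 to 17093). -/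
theorem e8Slctok_6 : ∀ r, 14652 ≤ r → r < 17094 → ((fun k => ctOK Cfsg.Lie.chevE8 sctE8 (k / 240) (k % 240))) r = true := by
  intro r h1 h2
  by_cases c0 : r < 14718
  · exact allRange_spec e8Slctok_6_14652 r (by omega) c0
  by_cases c1 : r < 14784
  · exact allRange_spec e8Slctok_6_14718 r (by omega) c1
  by_cases c2 : r < 14850
  · exact allRange_spec e8Slctok_6_14784 r (by omega) c2
  by_cases c3 : r < 14916
  · exact allRange_spec e8Slctok_6_14850 r (by omega) c3
  by_cases c4 : r < 14982
  · exact allRange_spec e8Slctok_6_14916 r (by omega) c4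
  by_cases c5 : r < 15048
  · exact allRange_spec e8Slctok_6_14982 r (by omega) c5
  by_cases c6 : r < 15114
  · exact allRange_spec e8Slctok_6_15048 r (by omega) c6
  by_cases c7 : r < 15180
  · exact allRange_spec e8Slctok_6_15114 r (by omega) c7
  by_cases c8 : r < 15246
  · exact allRange_spec e8Slctok_6_15180 r (by omega) c8
  by_cases c9 : r < 15312
  · exact allRange_spec e8Slctok_6_15246 r (by omega) c9
  by_cases c10 : r < 15378
  · exact allRange_spec e8Slctok_6_15312 r (by omega) c10
  by_cases c11 : r < 15444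
  · exact allRange_spec e8Slctok_6_15378 r (by omega) c11
  by_cases c12 : r < 15510
  · exact allRange_spec e8Slctok_6_15444 r (by omega) c12
  by_cases c13 : r < 15576
  · exact allRange_spec e8Slctok_6_15510 r (by omega) c13
  by_cases c14 : r < 15642
  · exact allRange_spec e8Slctok_6_15576 r (by omega) c14
  by_cases c15 : r < 15708
  · exact allRange_spec e8Slctok_6_15642 r (by omega) c15
  by_cases c16 : r < 15774
  · exact allRange_spec e8Slctok_6_15708 r (by omega) c16
  by_cases c17 : r < 15840
  · exact allRange_spec e8Slctok_6_15774 r (by omega) c17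
  by_cases c18 : r < 15906
  · exact allRange_spec e8Slctok_6_15840 r (by omega) c18
  by_cases c19 : r < 15972
  · exact allRange_spec e8Slctok_6_15906 r (by omega) c19
  by_cases c20 : r < 16038
  · exact allRange_spec e8Slctok_6_15972 r (by omega) c20
  by_cases c21 : r < 16104
  · exact allRange_spec e8Slctok_6_16038 r (by omega) c21
  by_cases c22 : r < 16170
  · exact allRange_spec e8Slctok_6_16104 r (by omega) c22
  by_cases c23 : r < 16236
  · exact allRange_spec e8Slctok_6_16170 r (by omega) c23
  by_cases c24 : r < 16302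
  · exact allRange_spec e8Slctok_6_16236 r (by omega) c24
  by_cases c25 : r < 16368
  · exact allRange_spec e8Slctok_6_16302 r (by omega) c25
  by_cases c26 : r < 16434
  · exact allRange_spec e8Slctok_6_16368 r (by omega) c26
  by_cases c27 : r < 16500
  · exact allRange_spec e8Slctok_6_16434 r (by omega) c27
  by_cases c28 : r < 16566
  · exact allRange_spec e8Slctok_6_16500 r (by omega) c28
  by_cases c29 : r < 16632
  · exact allRange_spec e8Slctok_6_16566 r (by omega) c29
  by_cases c30 : r < 16698
  · exact allRange_spec e8Slctok_6_16632 r (by omega) c30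
  by_cases c31 : r < 16764
  · exact allRange_spec e8Slctok_6_16698 r (by omega) c31
  by_cases c32 : r < 16830
  · exact allRange_spec e8Slctok_6_16764 r (by omega) c32
  by_cases c33 : r < 16896
  · exact allRange_spec e8Slctok_6_16830 r (by omega) c33
  by_cases c34 : r < 16962
  · exact allRange_spec e8Slctok_6_16896 r (by omega) c34
  by_cases c35 : r < 17028
  · exact allRange_spec e8Slctok_6_16962 r (by omega) c35
  exact allRange_spec e8Slctok_6_17028 r (by omega) h2

end Cfsg.Agent.Lib.Helper3.ChevM
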