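import Cfsg.Prelude.Def_ChevE8
import Cfsg.Agent.Lib.Helper3.ChevData.E8Slct
import Cfsg.Agent.Lib.Helper3.StS3
set_option autoImplicit false
set_option maxRecDepth 1000000
set_option Elab.async false

namespace Cfsg.Agent.Lib.Helper3.ChevM
open Cfsg.Agent.Lib.Helper3.StS

theorem e8Slctok_7_17094 : allRange 17094 17160 ((fun k => ctOK Cfsg.Lie.chevE8 sctE8 (k / 240) (k % 240))) = true := by decide +kernel
theorem e8Slctok_7_17160 : allRange 17160 17226 ((fun k => ctOK Cfsg.Lie.chevE8 sctE8 (k / 240) (k % 240))) = true := by decide +kernel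
theorem e8Slctok_7_17226 : allRange 17226 17292 ((fun k => ctOK Cfsg.Lie.chevE8 sctE8 (k / 240) (k % 240))) = true := by decide +kernel
theorem e8Slctok_7_17292 : allRange 17292 17358 ((fun k => ctOK Cfsg.Lie.chevE8 sctE8 (k / 240) (k % 240))) = true := by decide +kernel
theorem e8Slctok_7_17358 : allRange 17358 17424 ((fun k => ctOK Cfsg.Lie.chevE8 sctE8 (k / 240) (k % 240))) = true := by decide +kernel
theorem e8Slctok_7_17424 : allRange 17424 17490 ((fun k => ctOK Cfsg.Lie.chevE8 sctE8 (k / 240) (k % 240))) = true := by decide +kernel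
theorem e8Slctok_7_17490 : allRange 17490 17556 ((fun k => ctOK Cfsg.Lie.chevE8 sctE8 (k / 240) (k % 240))) = true := by decide +kernel
theorem e8Slctok_7_17556 : allRange 17556 17622 ((fun k => ctOK Cfsg.Lie.chevE8 sctE8 (k / 240) (k % 240))) = true := by decide +kernel
theorem e8Slctok_7_17622 : allRange 17622 17688 ((fun k => ctOK Cfsg.Lie.chevE8 sctE8 (k / 240) (k % 240))) = true := by decide +kernel
theorem e8Slctok_7_17688 : allRange 17688 17754 ((fun k => ctOK Cfsg.Lie.chevE8 sctE8 (k / 240) (k % 240))) = true := by decide +kernel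
theorem e8Slctok_7_17754 : allRange 17754 17820 ((fun k => ctOK Cfsg.Lie.chevE8 sctE8 (k / 240) (k % 240))) = true := by decide +kernel
theorem e8Slctok_7_17820 : allRange 17820 17886 ((fun k => ctOK Cfsg.Lie.chevE8 sctE8 (k / 240) (k % 240))) = true := by decide +kernel
theorem e8Slctok_7_17886 : allRange 17886 17952 ((fun k => ctOK Cfsg.Lie.chevE8 sctE8 (k / 240) (k % 240))) = true := by decide +kernel
theorem e8Slctok_7_17952 : allRange 17952 18018 ((fun k => ctOK Cfsg.Lie.chevE8 sctE8 (k / 240) (k % 240))) = true := by decide +kernel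
theorem e8Slctok_7_18018 : allRange 18018 18084 ((fun k => ctOK Cfsg.Lie.chevE8 sctE8 (k / 240) (k % 240))) = true := by decide +kernel
theorem e8Slctok_7_18084 : allRange 18084 18150 ((fun k => ctOK Cfsg.Lie.chevE8 sctE8 (k / 240) (k % 240))) = true := by decide +kernel
theorem e8Slctok_7_18150 : allRange 18150 18216 ((fun k => ctOK Cfsg.Lie.chevE8 sctE8 (k / 240) (k % 240))) = true := by decide +kernel
theorem e8Slctok_7_18216 : allRange 18216 18282 ((fun k => ctOK Cfsg.Lie.chevE8 sctE8 (k / 240) (k % 240))) = true := by decide +kernel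
theorem e8Slctok_7_18282 : allRange 18282 18348 ((fun k => ctOK Cfsg.Lie.chevE8 sctE8 (k / 240) (k % 240))) = true := by decide +kernel
theorem e8Slctok_7_18348 : allRange 18348 18414 ((fun k => ctOK Cfsg.Lie.chevE8 sctE8 (k / 240) (k % 240))) = true := by decide +kernel
theorem e8Slctok_7_18414 : allRange 18414 18480 ((fun k => ctOK Cfsg.Lie.chevE8 sctE8 (k / 240) (k % 240))) = true := by decide +kernel
theorem e8Slctok_7_18480 : allRange 18480 18546 ((fun k => ctOK Cfsg.Lie.chevE8 sctE8 (k / 240) (k % 240))) = true := by decide +kernel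
theorem e8Slctok_7_18546 : allRange 18546 18612 ((fun k => ctOK Cfsg.Lie.chevE8 sctE8 (k / 240) (k % 240))) = true := by decide +kernel
theorem e8Slctok_7_18612 : allRange 18612 18678 ((fun k => ctOK Cfsg.Lie.chevE8 sctE8 (k / 240) (k % 240))) = true := by decide +kernel
theorem e8Slctok_7_18678 : allRange 18678 18744 ((fun k => ctOK Cfsg.Lie.chevE8 sctE8 (k / 240) (k % 240))) = true := by decide +kernel
theorem e8Slctok_7_18744 : allRange 18744 18810 ((fun k => ctOK Cfsg.Lie.chevE8 sctE8 (k / 240) (k % 240))) = true := by decide +kernel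
theorem e8Slctok_7_18810 : allRange 18810 18876 ((fun k => ctOK Cfsg.Lie.chevE8 sctE8 (k / 240) (k % 240))) = true := by decide +kernel
theorem e8Slctok_7_18876 : allRange 18876 18942 ((fun k => ctOK Cfsg.Lie.chevE8 sctE8 (k / 240) (k % 240))) = true := by decide +kernel
theorem e8Slctok_7_18942 : allRange 18942 19008 ((fun k => ctOK Cfsg.Lie.chevE8 sctE8 (k / 240) (k % 240))) = true := by decide +kernel
theorem e8Slctok_7_19008 : allRange 19008 19074 ((fun k => ctOK Cfsg.Lie.chevE8 sctE8 (k / 240) (k % 240))) = true := by decide +kernel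
theorem e8Slctok_7_19074 : allRange 19074 19140 ((fun k => ctOK Cfsg.Lie.chevE8 sctE8 (k / 240) (k % 240))) = true := by decide +kernel
theorem e8Slctok_7_19140 : allRange 19140 19206 ((fun k => ctOK Cfsg.Lie.chevE8 sctE8 (k / 240) (k % 240))) = true := by decide +kernel
theorem e8Slctok_7_19206 : allRange 19206 19272 ((fun k => ctOK Cfsg.Lie.chevE8 sctE8 (k / 240) (k % 240))) = true := by decide +kernel
theorem e8Slctok_7_19272 : allRange 19272 19338 ((fun k => ctOK Cfsg.Lie.chevE8 sctE8 (k / 240) (k % 240))) = true := by decide +kernel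
theorem e8Slctok_7_19338 : allRange 19338 19404 ((fun k => ctOK Cfsg.Lie.chevE8 sctE8 (k / 240) (k % 240))) = true := by decide +kernel
theorem e8Slctok_7_19404 : allRange 19404 19470 ((fun k => ctOK Cfsg.Lie.chevE8 sctE8 (k / 240) (k % 240))) = true := by decide +kernel
theorem e8Slctok_7_19470 : allRange 19470 19536 ((fun k => ctOK Cfsg.Lie.chevE8 sctE8 (k / 240) (k % 240))) = true := by decide +kernel

/-- The compiled table of sums of roots of type E8 agrees with the terms of the commutator formula (roots 17094 to 19535). -/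
theorem e8Slctok_7 : ∀ r, 17094 ≤ r → r < 19536 → ((fun k => ctOK Cfsg.Lie.chevE8 sctE8 (k / 240) (k % 240))) r = true := by
  intro r h1 h2
  by_cases c0 : r < 17160
  · exact allRange_spec e8Slctok_7_17094 r (by omega) c0
  by_cases c1 : r < 17226
  · exact allRange_spec e8Slctok_7_17160 r (by omega) c1
  by_cases c2 : r < 17292
  · exact allRange_spec e8Slctok_7_17226 r (by omega) c2
  by_cases c3 : r < 17358
  · exact allRange_spec e8Slctok_7_17292 r (by omega) c3
  by_cases c4 : r < 17424
  · exact allRange_spec e8Slctok_7_17358 r (by omega) c4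
  by_cases c5 : r < 17490
  · exact allRange_spec e8Slctok_7_17424 r (by omega) c5
  by_cases c6 : r < 17556
  · exact allRange_spec e8Slctok_7_17490 r (by omega) c6
  by_cases c7 : r < 17622
  · exact allRange_spec e8Slctok_7_17556 r (by omega) c7
  by_cases c8 : r < 17688
  · exact allRange_spec e8Slctok_7_17622 r (by omega) c8
  by_cases c9 : r < 17754
  · exact allRange_spec e8Slctok_7_17688 r (by omega) c9
  by_cases c10 : r < 17820
  · exact allRange_spec e8Slctok_7_17754 r (by omega) c10
  by_cases c11 : r < 17886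
  · exact allRange_spec e8Slctok_7_17820 r (by omega) c11
  by_cases c12 : r < 17952
  · exact allRange_spec e8Slctok_7_17886 r (by omega) c12
  by_cases c13 : r < 18018
  · exact allRange_spec e8Slctok_7_17952 r (by omega) c13
  by_cases c14 : r < 18084
  · exact allRange_spec e8Slctok_7_18018 r (by omega) c14
  by_cases c15 : r < 18150
  · exact allRange_spec e8Slctok_7_18084 r (by omega) c15
  by_cases c16 : r < 18216
  · exact allRange_spec e8Slctok_7_18150 r (by omega) c16
  by_cases c17 : r < 18282
  · exact allRange_spec e8Slctok_7_18216 r (by omega) c17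
  by_cases c18 : r < 18348
  · exact allRange_spec e8Slctok_7_18282 r (by omega) c18
  by_cases c19 : r < 18414
  · exact allRange_spec e8Slctok_7_18348 r (by omega) c19
  by_cases c20 : r < 18480
  · exact allRange_spec e8Slctok_7_18414 r (by omega) c20
  by_cases c21 : r < 18546
  · exact allRange_spec e8Slctok_7_18480 r (by omega) c21
  by_cases c22 : r < 18612
  · exact allRange_spec e8Slctok_7_18546 r (by omega) c22
  by_cases c23 : r < 18678
  · exact allRange_spec e8Slctok_7_18612 r (by omega) c23
  by_cases c24 : r < 18744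
  · exact allRange_spec e8Slctok_7_18678 r (by omega) c24
  by_cases c25 : r < 18810
  · exact allRange_spec e8Slctok_7_18744 r (by omega) c25
  by_cases c26 : r < 18876
  · exact allRange_spec e8Slctok_7_18810 r (by omega) c26
  by_cases c27 : r < 18942
  · exact allRange_spec e8Slctok_7_18876 r (by omega) c27
  by_cases c28 : r < 19008
  · exact allRange_spec e8Slctok_7_18942 r (by omega) c28
  by_cases c29 : r < 19074
  · exact allRange_spec e8Slctok_7_19008 r (by omega) c29
  by_cases c30 : r < 19140
  · exact allRange_spec e8Slctok_7_19074 r (by omega) c30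
  by_cases c31 : r < 19206
  · exact allRange_spec e8Slctok_7_19140 r (by omega) c31
  by_cases c32 : r < 19272
  · exact allRange_spec e8Slctok_7_19206 r (by omega) c32
  by_cases c33 : r < 19338
  · exact allRange_spec e8Slctok_7_19272 r (by omega) c33
  by_cases c34 : r < 19404
  · exact allRange_spec e8Slctok_7_19338 r (by omega) c34
  by_cases c35 : r < 19470
  · exact allRange_spec e8Slctok_7_19404 r (by omega) c35
  exact allRange_spec e8Slctok_7_19470 r (by omega) h2

end Cfsg.Agent.Lib.Helper3.ChevM
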