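import Cfsg.Prelude.Def_ChevE8
import Cfsg.Agent.Lib.Helper3.ChevData.E8Slct
import Cfsg.Agent.Lib.Helper3.StS3
set_option autoImplicit false
set_option maxRecDepth 1000000
set_option Elab.async false

namespace Cfsg.Agent.Lib.Helper3.ChevM
open Cfsg.Agent.Lib.Helper3.StS

theorem e8Slctok_8_19536 : allRange 19536 19602 ((fun k => ctOK Cfsg.Lie.chevE8 sctE8 (k / 240) (k % 240))) = true := by decide +kernel
theorem e8Slctok_8_19602 : allRange 19602 19668 ((fun k => ctOK Cfsg.Lie.chevE8 sctE8 (k / 240) (k % 240))) = true := by decide +kernel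
theorem e8Slctok_8_19668 : allRange 19668 19734 ((fun k => ctOK Cfsg.Lie.chevE8 sctE8 (k / 240) (k % 240))) = true := by decide +kernel
theorem e8Slctok_8_19734 : allRange 19734 19800 ((fun k => ctOK Cfsg.Lie.chevE8 sctE8 (k / 240) (k % 240))) = true := by decide +kernel
theorem e8Slctok_8_19800 : allRange 19800 19866 ((fun k => ctOK Cfsg.Lie.chevE8 sctE8 (k / 240) (k % 240))) = true := by decide +kernel
theorem e8Slctok_8_19866 : allRange 19866 19932 ((fun k => ctOK Cfsg.Lie.chevE8 sctE8 (k / 240) (k % 240))) = true := by decide +kernel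
theorem e8Slctok_8_19932 : allRange 19932 19998 ((fun k => ctOK Cfsg.Lie.chevE8 sctE8 (k / 240) (k % 240))) = true := by decide +kernel
theorem e8Slctok_8_19998 : allRange 19998 20064 ((fun k => ctOK Cfsg.Lie.chevE8 sctE8 (k / 240) (k % 240))) = true := by decide +kernel
theorem e8Slctok_8_20064 : allRange 20064 20130 ((fun k => ctOK Cfsg.Lie.chevE8 sctE8 (k / 240) (k % 240))) = true := by decide +kernel
theorem e8Slctok_8_20130 : allRange 20130 20196 ((fun k => ctOK Cfsg.Lie.chevE8 sctE8 (k / 240) (k % 240))) = true := by decide +kernel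
theorem e8Slctok_8_20196 : allRange 20196 20262 ((fun k => ctOK Cfsg.Lie.chevE8 sctE8 (k / 240) (k % 240))) = true := by decide +kernel
theorem e8Slctok_8_20262 : allRange 20262 20328 ((fun k => ctOK Cfsg.Lie.chevE8 sctE8 (k / 240) (k % 240))) = true := by decide +kernel
theorem e8Slctok_8_20328 : allRange 20328 20394 ((fun k => ctOK Cfsg.Lie.chevE8 sctE8 (k / 240) (k % 240))) = true := by decide +kernel
theorem e8Slctok_8_20394 : allRange 20394 20460 ((fun k => ctOK Cfsg.Lie.chevE8 sctE8 (k / 240) (k % 240))) = true := by decide +kernel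
theorem e8Slctok_8_20460 : allRange 20460 20526 ((fun k => ctOK Cfsg.Lie.chevE8 sctE8 (k / 240) (k % 240))) = true := by decide +kernel
theorem e8Slctok_8_20526 : allRange 20526 20592 ((fun k => ctOK Cfsg.Lie.chevE8 sctE8 (k / 240) (k % 240))) = true := by decide +kernel
theorem e8Slctok_8_20592 : allRange 20592 20658 ((fun k => ctOK Cfsg.Lie.chevE8 sctE8 (k / 240) (k % 240))) = true := by decide +kernel
theorem e8Slctok_8_20658 : allRange 20658 20724 ((fun k => ctOK Cfsg.Lie.chevE8 sctE8 (k / 240) (k % 240))) = true := by decide +kernel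
theorem e8Slctok_8_20724 : allRange 20724 20790 ((fun k => ctOK Cfsg.Lie.chevE8 sctE8 (k / 240) (k % 240))) = true := by decide +kernel
theorem e8Slctok_8_20790 : allRange 20790 20856 ((fun k => ctOK Cfsg.Lie.chevE8 sctE8 (k / 240) (k % 240))) = true := by decide +kernel
theorem e8Slctok_8_20856 : allRange 20856 20922 ((fun k => ctOK Cfsg.Lie.chevE8 sctE8 (k / 240) (k % 240))) = true := by decide +kernel
theorem e8Slctok_8_20922 : allRange 20922 20988 ((fun k => ctOK Cfsg.Lie.chevE8 sctE8 (k / 240) (k % 240))) = true := by decide +kernel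
theorem e8Slctok_8_20988 : allRange 20988 21054 ((fun k => ctOK Cfsg.Lie.chevE8 sctE8 (k / 240) (k % 240))) = true := by decide +kernel
theorem e8Slctok_8_21054 : allRange 21054 21120 ((fun k => ctOK Cfsg.Lie.chevE8 sctE8 (k / 240) (k % 240))) = true := by decide +kernel
theorem e8Slctok_8_21120 : allRange 21120 21186 ((fun k => ctOK Cfsg.Lie.chevE8 sctE8 (k / 240) (k % 240))) = true := by decide +kernel
theorem e8Slctok_8_21186 : allRange 21186 21252 ((fun k => ctOK Cfsg.Lie.chevE8 sctE8 (k / 240) (k % 240))) = true := by decide +kernel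
theorem e8Slctok_8_21252 : allRange 21252 21318 ((fun k => ctOK Cfsg.Lie.chevE8 sctE8 (k / 240) (k % 240))) = true := by decide +kernel
theorem e8Slctok_8_21318 : allRange 21318 21384 ((fun k => ctOK Cfsg.Lie.chevE8 sctE8 (k / 240) (k % 240))) = true := by decide +kernel
theorem e8Slctok_8_21384 : allRange 21384 21450 ((fun k => ctOK Cfsg.Lie.chevE8 sctE8 (k / 240) (k % 240))) = true := by decide +kernel
theorem e8Slctok_8_21450 : allRange 21450 21516 ((fun k => ctOK Cfsg.Lie.chevE8 sctE8 (k / 240) (k % 240))) = true := by decide +kernel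
theorem e8Slctok_8_21516 : allRange 21516 21582 ((fun k => ctOK Cfsg.Lie.chevE8 sctE8 (k / 240) (k % 240))) = true := by decide +kernel
theorem e8Slctok_8_21582 : allRange 21582 21648 ((fun k => ctOK Cfsg.Lie.chevE8 sctE8 (k / 240) (k % 240))) = true := by decide +kernel
theorem e8Slctok_8_21648 : allRange 21648 21714 ((fun k => ctOK Cfsg.Lie.chevE8 sctE8 (k / 240) (k % 240))) = true := by decide +kernel
theorem e8Slctok_8_21714 : allRange 21714 21780 ((fun k => ctOK Cfsg.Lie.chevE8 sctE8 (k / 240) (k % 240))) = true := by decide +kernel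
theorem e8Slctok_8_21780 : allRange 21780 21846 ((fun k => ctOK Cfsg.Lie.chevE8 sctE8 (k / 240) (k % 240))) = true := by decide +kernel
theorem e8Slctok_8_21846 : allRange 21846 21912 ((fun k => ctOK Cfsg.Lie.chevE8 sctE8 (k / 240) (k % 240))) = true := by decide +kernel
theorem e8Slctok_8_21912 : allRange 21912 21978 ((fun k => ctOK Cfsg.Lie.chevE8 sctE8 (k / 240) (k % 240))) = true := by decide +kernel

/-- The compiled table of sums of roots of type E8 agrees with the terms of the commutator formula (roots 19536 to 21977). -/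
theorem e8Slctok_8 : ∀ r, 19536 ≤ r → r < 21978 → ((fun k => ctOK Cfsg.Lie.chevE8 sctE8 (k / 240) (k % 240))) r = true := by
  intro r h1 h2
  by_cases c0 : r < 19602
  · exact allRange_spec e8Slctok_8_19536 r (by omega) c0
  by_cases c1 : r < 19668
  · exact allRange_spec e8Slctok_8_19602 r (by omega) c1
  by_cases c2 : r < 19734
  · exact allRange_spec e8Slctok_8_19668 r (by omega) c2
  by_cases c3 : r < 19800
  · exact allRange_spec e8Slctok_8_19734 r (by omega) c3
  by_cases c4 : r < 19866
  · exact allRange_spec e8Slctok_8_19800 r (by omega) c4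
  by_cases c5 : r < 19932
  · exact allRange_spec e8Slctok_8_19866 r (by omega) c5
  by_cases c6 : r < 19998
  · exact allRange_spec e8Slctok_8_19932 r (by omega) c6
  by_cases c7 : r < 20064
  · exact allRange_spec e8Slctok_8_19998 r (by omega) c7
  by_cases c8 : r < 20130
  · exact allRange_spec e8Slctok_8_20064 r (by omega) c8
  by_cases c9 : r < 20196
  · exact allRange_spec e8Slctok_8_20130 r (by omega) c9
  by_cases c10 : r < 20262
  · exact allRange_spec e8Slctok_8_20196 r (by omega) c10
  by_cases c11 : r < 20328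
  · exact allRange_spec e8Slctok_8_20262 r (by omega) c11
  by_cases c12 : r < 20394
  · exact allRange_spec e8Slctok_8_20328 r (by omega) c12
  by_cases c13 : r < 20460
  · exact allRange_spec e8Slctok_8_20394 r (by omega) c13
  by_cases c14 : r < 20526
  · exact allRange_spec e8Slctok_8_20460 r (by omega) c14
  by_cases c15 : r < 20592
  · exact allRange_spec e8Slctok_8_20526 r (by omega) c15
  by_cases c16 : r < 20658
  · exact allRange_spec e8Slctok_8_20592 r (by omega) c16
  by_cases c17 : r < 20724
  · exact allRange_spec e8Slctok_8_20658 r (by omega) c17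
  by_cases c18 : r < 20790
  · exact allRange_spec e8Slctok_8_20724 r (by omega) c18
  by_cases c19 : r < 20856
  · exact allRange_spec e8Slctok_8_20790 r (by omega) c19
  by_cases c20 : r < 20922
  · exact allRange_spec e8Slctok_8_20856 r (by omega) c20
  by_cases c21 : r < 20988
  · exact allRange_spec e8Slctok_8_20922 r (by omega) c21
  by_cases c22 : r < 21054
  · exact allRange_spec e8Slctok_8_20988 r (by omega) c22
  by_cases c23 : r < 21120
  · exact allRange_spec e8Slctok_8_21054 r (by omega) c23
  by_cases c24 : r < 21186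
  · exact allRange_spec e8Slctok_8_21120 r (by omega) c24
  by_cases c25 : r < 21252
  · exact allRange_spec e8Slctok_8_21186 r (by omega) c25
  by_cases c26 : r < 21318
  · exact allRange_spec e8Slctok_8_21252 r (by omega) c26
  by_cases c27 : r < 21384
  · exact allRange_spec e8Slctok_8_21318 r (by omega) c27
  by_cases c28 : r < 21450
  · exact allRange_spec e8Slctok_8_21384 r (by omega) c28
  by_cases c29 : r < 21516
  · exact allRange_spec e8Slctok_8_21450 r (by omega) c29
  by_cases c30 : r < 21582
  · exact allRange_spec e8Slctok_8_21516 r (by omega) c30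
  by_cases c31 : r < 21648
  · exact allRange_spec e8Slctok_8_21582 r (by omega) c31
  by_cases c32 : r < 21714
  · exact allRange_spec e8Slctok_8_21648 r (by omega) c32
  by_cases c33 : r < 21780
  · exact allRange_spec e8Slctok_8_21714 r (by omega) c33
  by_cases c34 : r < 21846
  · exact allRange_spec e8Slctok_8_21780 r (by omega) c34
  by_cases c35 : r < 21912
  · exact allRange_spec e8Slctok_8_21846 r (by omega) c35
  exact allRange_spec e8Slctok_8_21912 r (by omega) h2

end Cfsg.Agent.Lib.Helper3.ChevM
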