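import Cfsg.Prelude.Def_ChevE8
import Cfsg.Agent.Lib.Helper3.ChevData.E8Slct
import Cfsg.Agent.Lib.Helper3.StS3
set_option autoImplicit false
set_option maxRecDepth 1000000
set_option Elab.async false

namespace Cfsg.Agent.Lib.Helper3.ChevM
open Cfsg.Agent.Lib.Helper3.StS

theorem e8Slctok_9_21978 : allRange 21978 22044 ((fun k => ctOK Cfsg.Lie.chevE8 sctE8 (k / 240) (k % 240))) = true := by decide +kernel
theorem e8Slctok_9_22044 : allRange 22044 22110 ((fun k => ctOK Cfsg.Lie.chevE8 sctE8 (k / 240) (k % 240))) = true := by decide +kernel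
theorem e8Slctok_9_22110 : allRange 22110 22176 ((fun k => ctOK Cfsg.Lie.chevE8 sctE8 (k / 240) (k % 240))) = true := by decide +kernel
theorem e8Slctok_9_22176 : allRange 22176 22242 ((fun k => ctOK Cfsg.Lie.chevE8 sctE8 (k / 240) (k % 240))) = true := by decide +kernel
theorem e8Slctok_9_22242 : allRange 22242 22308 ((fun k => ctOK Cfsg.Lie.chevE8 sctE8 (k / 240) (k % 240))) = true := by decide +kernel
theorem e8Slctok_9_22308 : allRange 22308 22374 ((fun k => ctOK Cfsg.Lie.chevE8 sctE8 (k / 240) (k % 240))) = true := by decide +kernel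
theorem e8Slctok_9_22374 : allRange 22374 22440 ((fun k => ctOK Cfsg.Lie.chevE8 sctE8 (k / 240) (k % 240))) = true := by decide +kernel
theorem e8Slctok_9_22440 : allRange 22440 22506 ((fun k => ctOK Cfsg.Lie.chevE8 sctE8 (k / 240) (k % 240))) = true := by decide +kernel
theorem e8Slctok_9_22506 : allRange 22506 22572 ((fun k => ctOK Cfsg.Lie.chevE8 sctE8 (k / 240) (k % 240))) = true := by decide +kernel
theorem e8Slctok_9_22572 : allRange 22572 22638 ((fun k => ctOK Cfsg.Lie.chevE8 sctE8 (k / 240) (k % 240))) = true := by decide +kernel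
theorem e8Slctok_9_22638 : allRange 22638 22704 ((fun k => ctOK Cfsg.Lie.chevE8 sctE8 (k / 240) (k % 240))) = true := by decide +kernel
theorem e8Slctok_9_22704 : allRange 22704 22770 ((fun k => ctOK Cfsg.Lie.chevE8 sctE8 (k / 240) (k % 240))) = true := by decide +kernel
theorem e8Slctok_9_22770 : allRange 22770 22836 ((fun k => ctOK Cfsg.Lie.chevE8 sctE8 (k / 240) (k % 240))) = true := by decide +kernel
theorem e8Slctok_9_22836 : allRange 22836 22902 ((fun k => ctOK Cfsg.Lie.chevE8 sctE8 (k / 240) (k % 240))) = true := by decide +kernel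
theorem e8Slctok_9_22902 : allRange 22902 22968 ((fun k => ctOK Cfsg.Lie.chevE8 sctE8 (k / 240) (k % 240))) = true := by decide +kernel
theorem e8Slctok_9_22968 : allRange 22968 23034 ((fun k => ctOK Cfsg.Lie.chevE8 sctE8 (k / 240) (k % 240))) = true := by decide +kernel
theorem e8Slctok_9_23034 : allRange 23034 23100 ((fun k => ctOK Cfsg.Lie.chevE8 sctE8 (k / 240) (k % 240))) = true := by decide +kernel
theorem e8Slctok_9_23100 : allRange 23100 23166 ((fun k => ctOK Cfsg.Lie.chevE8 sctE8 (k / 240) (k % 240))) = true := by decide +kernel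
theorem e8Slctok_9_23166 : allRange 23166 23232 ((fun k => ctOK Cfsg.Lie.chevE8 sctE8 (k / 240) (k % 240))) = true := by decide +kernel
theorem e8Slctok_9_23232 : allRange 23232 23298 ((fun k => ctOK Cfsg.Lie.chevE8 sctE8 (k / 240) (k % 240))) = true := by decide +kernel
theorem e8Slctok_9_23298 : allRange 23298 23364 ((fun k => ctOK Cfsg.Lie.chevE8 sctE8 (k / 240) (k % 240))) = true := by decide +kernel
theorem e8Slctok_9_23364 : allRange 23364 23430 ((fun k => ctOK Cfsg.Lie.chevE8 sctE8 (k / 240) (k % 240))) = true := by decide +kernel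
theorem e8Slctok_9_23430 : allRange 23430 23496 ((fun k => ctOK Cfsg.Lie.chevE8 sctE8 (k / 240) (k % 240))) = true := by decide +kernel
theorem e8Slctok_9_23496 : allRange 23496 23562 ((fun k => ctOK Cfsg.Lie.chevE8 sctE8 (k / 240) (k % 240))) = true := by decide +kernel
theorem e8Slctok_9_23562 : allRange 23562 23628 ((fun k => ctOK Cfsg.Lie.chevE8 sctE8 (k / 240) (k % 240))) = true := by decide +kernel
theorem e8Slctok_9_23628 : allRange 23628 23694 ((fun k => ctOK Cfsg.Lie.chevE8 sctE8 (k / 240) (k % 240))) = true := by decide +kernel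
theorem e8Slctok_9_23694 : allRange 23694 23760 ((fun k => ctOK Cfsg.Lie.chevE8 sctE8 (k / 240) (k % 240))) = true := by decide +kernel
theorem e8Slctok_9_23760 : allRange 23760 23826 ((fun k => ctOK Cfsg.Lie.chevE8 sctE8 (k / 240) (k % 240))) = true := by decide +kernel
theorem e8Slctok_9_23826 : allRange 23826 23892 ((fun k => ctOK Cfsg.Lie.chevE8 sctE8 (k / 240) (k % 240))) = true := by decide +kernel
theorem e8Slctok_9_23892 : allRange 23892 23958 ((fun k => ctOK Cfsg.Lie.chevE8 sctE8 (k / 240) (k % 240))) = true := by decide +kernel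
theorem e8Slctok_9_23958 : allRange 23958 24024 ((fun k => ctOK Cfsg.Lie.chevE8 sctE8 (k / 240) (k % 240))) = true := by decide +kernel
theorem e8Slctok_9_24024 : allRange 24024 24090 ((fun k => ctOK Cfsg.Lie.chevE8 sctE8 (k / 240) (k % 240))) = true := by decide +kernel
theorem e8Slctok_9_24090 : allRange 24090 24156 ((fun k => ctOK Cfsg.Lie.chevE8 sctE8 (k / 240) (k % 240))) = true := by decide +kernel
theorem e8Slctok_9_24156 : allRange 24156 24222 ((fun k => ctOK Cfsg.Lie.chevE8 sctE8 (k / 240) (k % 240))) = true := by decide +kernel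
theorem e8Slctok_9_24222 : allRange 24222 24288 ((fun k => ctOK Cfsg.Lie.chevE8 sctE8 (k / 240) (k % 240))) = true := by decide +kernel
theorem e8Slctok_9_24288 : allRange 24288 24354 ((fun k => ctOK Cfsg.Lie.chevE8 sctE8 (k / 240) (k % 240))) = true := by decide +kernel
theorem e8Slctok_9_24354 : allRange 24354 24420 ((fun k => ctOK Cfsg.Lie.chevE8 sctE8 (k / 240) (k % 240))) = true := by decide +kernel

/-- The compiled table of sums of roots of type E8 agrees with the terms of the commutator formula (roots 21978 to 24419). -/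
theorem e8Slctok_9 : ∀ r, 21978 ≤ r → r < 24420 → ((fun k => ctOK Cfsg.Lie.chevE8 sctE8 (k / 240) (k % 240))) r = true := by
  intro r h1 h2
  by_cases c0 : r < 22044
  · exact allRange_spec e8Slctok_9_21978 r (by omega) c0
  by_cases c1 : r < 22110
  · exact allRange_spec e8Slctok_9_22044 r (by omega) c1
  by_cases c2 : r < 22176
  · exact allRange_spec e8Slctok_9_22110 r (by omega) c2
  by_cases c3 : r < 22242
  · exact allRange_spec e8Slctok_9_22176 r (by omega) c3
  by_cases c4 : r < 22308
  · exact allRange_spec e8Slctok_9_22242 r (by omega) c4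
  by_cases c5 : r < 22374
  · exact allRange_spec e8Slctok_9_22308 r (by omega) c5
  by_cases c6 : r < 22440
  · exact allRange_spec e8Slctok_9_22374 r (by omega) c6
  by_cases c7 : r < 22506
  · exact allRange_spec e8Slctok_9_22440 r (by omega) c7
  by_cases c8 : r < 22572
  · exact allRange_spec e8Slctok_9_22506 r (by omega) c8
  by_cases c9 : r < 22638
  · exact allRange_spec e8Slctok_9_22572 r (by omega) c9
  by_cases c10 : r < 22704
  · exact allRange_spec e8Slctok_9_22638 r (by omega) c10
  by_cases c11 : r < 22770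
  · exact allRange_spec e8Slctok_9_22704 r (by omega) c11
  by_cases c12 : r < 22836
  · exact allRange_spec e8Slctok_9_22770 r (by omega) c12
  by_cases c13 : r < 22902
  · exact allRange_spec e8Slctok_9_22836 r (by omega) c13
  by_cases c14 : r < 22968
  · exact allRange_spec e8Slctok_9_22902 r (by omega) c14
  by_cases c15 : r < 23034
  · exact allRange_spec e8Slctok_9_22968 r (by omega) c15
  by_cases c16 : r < 23100
  · exact allRange_spec e8Slctok_9_23034 r (by omega) c16
  by_cases c17 : r < 23166
  · exact allRange_spec e8Slctok_9_23100 r (by omega) c17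
  by_cases c18 : r < 23232
  · exact allRange_spec e8Slctok_9_23166 r (by omega) c18
  by_cases c19 : r < 23298
  · exact allRange_spec e8Slctok_9_23232 r (by omega) c19
  by_cases c20 : r < 23364
  · exact allRange_spec e8Slctok_9_23298 r (by omega) c20
  by_cases c21 : r < 23430
  · exact allRange_spec e8Slctok_9_23364 r (by omega) c21
  by_cases c22 : r < 23496
  · exact allRange_spec e8Slctok_9_23430 r (by omega) c22
  by_cases c23 : r < 23562
  · exact allRange_spec e8Slctok_9_23496 r (by omega) c23
  by_cases c24 : r < 23628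
  · exact allRange_spec e8Slctok_9_23562 r (by omega) c24
  by_cases c25 : r < 23694
  · exact allRange_spec e8Slctok_9_23628 r (by omega) c25
  by_cases c26 : r < 23760
  · exact allRange_spec e8Slctok_9_23694 r (by omega) c26
  by_cases c27 : r < 23826
  · exact allRange_spec e8Slctok_9_23760 r (by omega) c27
  by_cases c28 : r < 23892
  · exact allRange_spec e8Slctok_9_23826 r (by omega) c28
  by_cases c29 : r < 23958
  · exact allRange_spec e8Slctok_9_23892 r (by omega) c29
  by_cases c30 : r < 24024
  · exact allRange_spec e8Slctok_9_23958 r (by omega) c30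
  by_cases c31 : r < 24090
  · exact allRange_spec e8Slctok_9_24024 r (by omega) c31
  by_cases c32 : r < 24156
  · exact allRange_spec e8Slctok_9_24090 r (by omega) c32
  by_cases c33 : r < 24222
  · exact allRange_spec e8Slctok_9_24156 r (by omega) c33
  by_cases c34 : r < 24288
  · exact allRange_spec e8Slctok_9_24222 r (by omega) c34
  by_cases c35 : r < 24354
  · exact allRange_spec e8Slctok_9_24288 r (by omega) c35
  exact allRange_spec e8Slctok_9_24354 r (by omega) h2

end Cfsg.Agent.Lib.Helper3.ChevM
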