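import Cfsg.Prelude.Def_ChevE8
import Cfsg.Agent.Lib.Helper3.ChevData.E8Slct
import Cfsg.Agent.Lib.Helper3.StS3
set_option autoImplicit false
set_option maxRecDepth 1000000
set_option Elab.async false

namespace Cfsg.Agent.Lib.Helper3.ChevM
open Cfsg.Agent.Lib.Helper3.StS

theorem e8Slctok_11_26862 : allRange 26862 26928 ((fun k => ctOK Cfsg.Lie.chevE8 sctE8 (k / 240) (k % 240))) = true := by decide +kernel
theorem e8Slctok_11_26928 : allRange 26928 26994 ((fun k => ctOK Cfsg.Lie.chevE8 sctE8 (k / 240) (k % 240))) = true := by decide +kernel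
theorem e8Slctok_11_26994 : allRange 26994 27060 ((fun k => ctOK Cfsg.Lie.chevE8 sctE8 (k / 240) (k % 240))) = true := by decide +kernel
theorem e8Slctok_11_27060 : allRange 27060 27126 ((fun k => ctOK Cfsg.Lie.chevE8 sctE8 (k / 240) (k % 240))) = true := by decide +kernel
theorem e8Slctok_11_27126 : allRange 27126 27192 ((fun k => ctOK Cfsg.Lie.chevE8 sctE8 (k / 240) (k % 240))) = true := by decide +kernel
theorem e8Slctok_11_27192 : allRange 27192 27258 ((fun k => ctOK Cfsg.Lie.chevE8 sctE8 (k / 240) (k % 240))) = true := by decide +kernel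
theorem e8Slctok_11_27258 : allRange 27258 27324 ((fun k => ctOK Cfsg.Lie.chevE8 sctE8 (k / 240) (k % 240))) = true := by decide +kernel
theorem e8Slctok_11_27324 : allRange 27324 27390 ((fun k => ctOK Cfsg.Lie.chevE8 sctE8 (k / 240) (k % 240))) = true := by decide +kernel
theorem e8Slctok_11_27390 : allRange 27390 27456 ((fun k => ctOK Cfsg.Lie.chevE8 sctE8 (k / 240) (k % 240))) = true := by decide +kernel
theorem e8Slctok_11_27456 : allRange 27456 27522 ((fun k => ctOK Cfsg.Lie.chevE8 sctE8 (k / 240) (k % 240))) = true := by decide +kernel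
theorem e8Slctok_11_27522 : allRange 27522 27588 ((fun k => ctOK Cfsg.Lie.chevE8 sctE8 (k / 240) (k % 240))) = true := by decide +kernel
theorem e8Slctok_11_27588 : allRange 27588 27654 ((fun k => ctOK Cfsg.Lie.chevE8 sctE8 (k / 240) (k % 240))) = true := by decide +kernel
theorem e8Slctok_11_27654 : allRange 27654 27720 ((fun k => ctOK Cfsg.Lie.chevE8 sctE8 (k / 240) (k % 240))) = true := by decide +kernel
theorem e8Slctok_11_27720 : allRange 27720 27786 ((fun k => ctOK Cfsg.Lie.chevE8 sctE8 (k / 240) (k % 240))) = true := by decide +kernel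
theorem e8Slctok_11_27786 : allRange 27786 27852 ((fun k => ctOK Cfsg.Lie.chevE8 sctE8 (k / 240) (k % 240))) = true := by decide +kernel
theorem e8Slctok_11_27852 : allRange 27852 27918 ((fun k => ctOK Cfsg.Lie.chevE8 sctE8 (k / 240) (k % 240))) = true := by decide +kernel
theorem e8Slctok_11_27918 : allRange 27918 27984 ((fun k => ctOK Cfsg.Lie.chevE8 sctE8 (k / 240) (k % 240))) = true := by decide +kernel
theorem e8Slctok_11_27984 : allRange 27984 28050 ((fun k => ctOK Cfsg.Lie.chevE8 sctE8 (k / 240) (k % 240))) = true := by decide +kernel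
theorem e8Slctok_11_28050 : allRange 28050 28116 ((fun k => ctOK Cfsg.Lie.chevE8 sctE8 (k / 240) (k % 240))) = true := by decide +kernel
theorem e8Slctok_11_28116 : allRange 28116 28182 ((fun k => ctOK Cfsg.Lie.chevE8 sctE8 (k / 240) (k % 240))) = true := by decide +kernel
theorem e8Slctok_11_28182 : allRange 28182 28248 ((fun k => ctOK Cfsg.Lie.chevE8 sctE8 (k / 240) (k % 240))) = true := by decide +kernel
theorem e8Slctok_11_28248 : allRange 28248 28314 ((fun k => ctOK Cfsg.Lie.chevE8 sctE8 (k / 240) (k % 240))) = true := by decide +kernel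
theorem e8Slctok_11_28314 : allRange 28314 28380 ((fun k => ctOK Cfsg.Lie.chevE8 sctE8 (k / 240) (k % 240))) = true := by decide +kernel
theorem e8Slctok_11_28380 : allRange 28380 28446 ((fun k => ctOK Cfsg.Lie.chevE8 sctE8 (k / 240) (k % 240))) = true := by decide +kernel
theorem e8Slctok_11_28446 : allRange 28446 28512 ((fun k => ctOK Cfsg.Lie.chevE8 sctE8 (k / 240) (k % 240))) = true := by decide +kernel
theorem e8Slctok_11_28512 : allRange 28512 28578 ((fun k => ctOK Cfsg.Lie.chevE8 sctE8 (k / 240) (k % 240))) = true := by decide +kernel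
theorem e8Slctok_11_28578 : allRange 28578 28644 ((fun k => ctOK Cfsg.Lie.chevE8 sctE8 (k / 240) (k % 240))) = true := by decide +kernel
theorem e8Slctok_11_28644 : allRange 28644 28710 ((fun k => ctOK Cfsg.Lie.chevE8 sctE8 (k / 240) (k % 240))) = true := by decide +kernel
theorem e8Slctok_11_28710 : allRange 28710 28776 ((fun k => ctOK Cfsg.Lie.chevE8 sctE8 (k / 240) (k % 240))) = true := by decide +kernel
theorem e8Slctok_11_28776 : allRange 28776 28842 ((fun k => ctOK Cfsg.Lie.chevE8 sctE8 (k / 240) (k % 240))) = true := by decide +kernel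
theorem e8Slctok_11_28842 : allRange 28842 28908 ((fun k => ctOK Cfsg.Lie.chevE8 sctE8 (k / 240) (k % 240))) = true := by decide +kernel
theorem e8Slctok_11_28908 : allRange 28908 28974 ((fun k => ctOK Cfsg.Lie.chevE8 sctE8 (k / 240) (k % 240))) = true := by decide +kernel
theorem e8Slctok_11_28974 : allRange 28974 29040 ((fun k => ctOK Cfsg.Lie.chevE8 sctE8 (k / 240) (k % 240))) = true := by decide +kernel
theorem e8Slctok_11_29040 : allRange 29040 29106 ((fun k => ctOK Cfsg.Lie.chevE8 sctE8 (k / 240) (k % 240))) = true := by decide +kernel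
theorem e8Slctok_11_29106 : allRange 29106 29172 ((fun k => ctOK Cfsg.Lie.chevE8 sctE8 (k / 240) (k % 240))) = true := by decide +kernel
theorem e8Slctok_11_29172 : allRange 29172 29238 ((fun k => ctOK Cfsg.Lie.chevE8 sctE8 (k / 240) (k % 240))) = true := by decide +kernel
theorem e8Slctok_11_29238 : allRange 29238 29304 ((fun k => ctOK Cfsg.Lie.chevE8 sctE8 (k / 240) (k % 240))) = true := by decide +kernel

/-- The compiled table of sums of roots of type E8 agrees with the terms of the commutator formula (roots 26862 to 29303). -/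
theorem e8Slctok_11 : ∀ r, 26862 ≤ r → r < 29304 → ((fun k => ctOK Cfsg.Lie.chevE8 sctE8 (k / 240) (k % 240))) r = true := by
  intro r h1 h2
  by_cases c0 : r < 26928
  · exact allRange_spec e8Slctok_11_26862 r (by omega) c0
  by_cases c1 : r < 26994
  · exact allRange_spec e8Slctok_11_26928 r (by omega) c1
  by_cases c2 : r < 27060
  · exact allRange_spec e8Slctok_11_26994 r (by omega) c2
  by_cases c3 : r < 27126
  · exact allRange_spec e8Slctok_11_27060 r (by omega) c3
  by_cases c4 : r < 27192
  · exact allRange_spec e8Slctok_11_27126 r (by omega) c4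
  by_cases c5 : r < 27258
  · exact allRange_spec e8Slctok_11_27192 r (by omega) c5
  by_cases c6 : r < 27324
  · exact allRange_spec e8Slctok_11_27258 r (by omega) c6
  by_cases c7 : r < 27390
  · exact allRange_spec e8Slctok_11_27324 r (by omega) c7
  by_cases c8 : r < 27456
  · exact allRange_spec e8Slctok_11_27390 r (by omega) c8
  by_cases c9 : r < 27522
  · exact allRange_spec e8Slctok_11_27456 r (by omega) c9
  by_cases c10 : r < 27588
  · exact allRange_spec e8Slctok_11_27522 r (by omega) c10
  by_cases c11 : r < 27654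
  · exact allRange_spec e8Slctok_11_27588 r (by omega) c11
  by_cases c12 : r < 27720
  · exact allRange_spec e8Slctok_11_27654 r (by omega) c12
  by_cases c13 : r < 27786
  · exact allRange_spec e8Slctok_11_27720 r (by omega) c13
  by_cases c14 : r < 27852
  · exact allRange_spec e8Slctok_11_27786 r (by omega) c14
  by_cases c15 : r < 27918
  · exact allRange_spec e8Slctok_11_27852 r (by omega) c15
  by_cases c16 : r < 27984
  · exact allRange_spec e8Slctok_11_27918 r (by omega) c16
  by_cases c17 : r < 28050
  · exact allRange_spec e8Slctok_11_27984 r (by omega) c17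
  by_cases c18 : r < 28116
  · exact allRange_spec e8Slctok_11_28050 r (by omega) c18
  by_cases c19 : r < 28182
  · exact allRange_spec e8Slctok_11_28116 r (by omega) c19
  by_cases c20 : r < 28248
  · exact allRange_spec e8Slctok_11_28182 r (by omega) c20
  by_cases c21 : r < 28314
  · exact allRange_spec e8Slctok_11_28248 r (by omega) c21
  by_cases c22 : r < 28380
  · exact allRange_spec e8Slctok_11_28314 r (by omega) c22
  by_cases c23 : r < 28446
  · exact allRange_spec e8Slctok_11_28380 r (by omega) c23
  by_cases c24 : r < 28512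
  · exact allRange_spec e8Slctok_11_28446 r (by omega) c24
  by_cases c25 : r < 28578
  · exact allRange_spec e8Slctok_11_28512 r (by omega) c25
  by_cases c26 : r < 28644
  · exact allRange_spec e8Slctok_11_28578 r (by omega) c26
  by_cases c27 : r < 28710
  · exact allRange_spec e8Slctok_11_28644 r (by omega) c27
  by_cases c28 : r < 28776
  · exact allRange_spec e8Slctok_11_28710 r (by omega) c28
  by_cases c29 : r < 28842
  · exact allRange_spec e8Slctok_11_28776 r (by omega) c29
  by_cases c30 : r < 28908
  · exact allRange_spec e8Slctok_11_28842 r (by omega) c30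
  by_cases c31 : r < 28974
  · exact allRange_spec e8Slctok_11_28908 r (by omega) c31
  by_cases c32 : r < 29040
  · exact allRange_spec e8Slctok_11_28974 r (by omega) c32
  by_cases c33 : r < 29106
  · exact allRange_spec e8Slctok_11_29040 r (by omega) c33
  by_cases c34 : r < 29172
  · exact allRange_spec e8Slctok_11_29106 r (by omega) c34
  by_cases c35 : r < 29238
  · exact allRange_spec e8Slctok_11_29172 r (by omega) c35
  exact allRange_spec e8Slctok_11_29238 r (by omega) h2

end Cfsg.Agent.Lib.Helper3.ChevM
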