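import Cfsg.Prelude.Def_ChevE8
import Cfsg.Agent.Lib.Helper3.ChevData.E8Slct
import Cfsg.Agent.Lib.Helper3.StS3
set_option autoImplicit false
set_option maxRecDepth 1000000
set_option Elab.async false

namespace Cfsg.Agent.Lib.Helper3.ChevM
open Cfsg.Agent.Lib.Helper3.StS

theorem e8Slctok_12_29304 : allRange 29304 29370 ((fun k => ctOK Cfsg.Lie.chevE8 sctE8 (k / 240) (k % 240))) = true := by decide +kernel
theorem e8Slctok_12_29370 : allRange 29370 29436 ((fun k => ctOK Cfsg.Lie.chevE8 sctE8 (k / 240) (k % 240))) = true := by decide +kernel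
theorem e8Slctok_12_29436 : allRange 29436 29502 ((fun k => ctOK Cfsg.Lie.chevE8 sctE8 (k / 240) (k % 240))) = true := by decide +kernel
theorem e8Slctok_12_29502 : allRange 29502 29568 ((fun k => ctOK Cfsg.Lie.chevE8 sctE8 (k / 240) (k % 240))) = true := by decide +kernel
theorem e8Slctok_12_29568 : allRange 29568 29634 ((fun k => ctOK Cfsg.Lie.chevE8 sctE8 (k / 240) (k % 240))) = true := by decide +kernel
theorem e8Slctok_12_29634 : allRange 29634 29700 ((fun k => ctOK Cfsg.Lie.chevE8 sctE8 (k / 240) (k % 240))) = true := by decide +kernel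
theorem e8Slctok_12_29700 : allRange 29700 29766 ((fun k => ctOK Cfsg.Lie.chevE8 sctE8 (k / 240) (k % 240))) = true := by decide +kernel
theorem e8Slctok_12_29766 : allRange 29766 29832 ((fun k => ctOK Cfsg.Lie.chevE8 sctE8 (k / 240) (k % 240))) = true := by decide +kernel
theorem e8Slctok_12_29832 : allRange 29832 29898 ((fun k => ctOK Cfsg.Lie.chevE8 sctE8 (k / 240) (k % 240))) = true := by decide +kernel
theorem e8Slctok_12_29898 : allRange 29898 29964 ((fun k => ctOK Cfsg.Lie.chevE8 sctE8 (k / 240) (k % 240))) = true := by decide +kernel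
theorem e8Slctok_12_29964 : allRange 29964 30030 ((fun k => ctOK Cfsg.Lie.chevE8 sctE8 (k / 240) (k % 240))) = true := by decide +kernel
theorem e8Slctok_12_30030 : allRange 30030 30096 ((fun k => ctOK Cfsg.Lie.chevE8 sctE8 (k / 240) (k % 240))) = true := by decide +kernel
theorem e8Slctok_12_30096 : allRange 30096 30162 ((fun k => ctOK Cfsg.Lie.chevE8 sctE8 (k / 240) (k % 240))) = true := by decide +kernel
theorem e8Slctok_12_30162 : allRange 30162 30228 ((fun k => ctOK Cfsg.Lie.chevE8 sctE8 (k / 240) (k % 240))) = true := by decide +kernel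
theorem e8Slctok_12_30228 : allRange 30228 30294 ((fun k => ctOK Cfsg.Lie.chevE8 sctE8 (k / 240) (k % 240))) = true := by decide +kernel
theorem e8Slctok_12_30294 : allRange 30294 30360 ((fun k => ctOK Cfsg.Lie.chevE8 sctE8 (k / 240) (k % 240))) = true := by decide +kernel
theorem e8Slctok_12_30360 : allRange 30360 30426 ((fun k => ctOK Cfsg.Lie.chevE8 sctE8 (k / 240) (k % 240))) = true := by decide +kernel
theorem e8Slctok_12_30426 : allRange 30426 30492 ((fun k => ctOK Cfsg.Lie.chevE8 sctE8 (k / 240) (k % 240))) = true := by decide +kernel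
theorem e8Slctok_12_30492 : allRange 30492 30558 ((fun k => ctOK Cfsg.Lie.chevE8 sctE8 (k / 240) (k % 240))) = true := by decide +kernel
theorem e8Slctok_12_30558 : allRange 30558 30624 ((fun k => ctOK Cfsg.Lie.chevE8 sctE8 (k / 240) (k % 240))) = true := by decide +kernel
theorem e8Slctok_12_30624 : allRange 30624 30690 ((fun k => ctOK Cfsg.Lie.chevE8 sctE8 (k / 240) (k % 240))) = true := by decide +kernel
theorem e8Slctok_12_30690 : allRange 30690 30756 ((fun k => ctOK Cfsg.Lie.chevE8 sctE8 (k / 240) (k % 240))) = true := by decide +kernel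
theorem e8Slctok_12_30756 : allRange 30756 30822 ((fun k => ctOK Cfsg.Lie.chevE8 sctE8 (k / 240) (k % 240))) = true := by decide +kernel
theorem e8Slctok_12_30822 : allRange 30822 30888 ((fun k => ctOK Cfsg.Lie.chevE8 sctE8 (k / 240) (k % 240))) = true := by decide +kernel
theorem e8Slctok_12_30888 : allRange 30888 30954 ((fun k => ctOK Cfsg.Lie.chevE8 sctE8 (k / 240) (k % 240))) = true := by decide +kernel
theorem e8Slctok_12_30954 : allRange 30954 31020 ((fun k => ctOK Cfsg.Lie.chevE8 sctE8 (k / 240) (k % 240))) = true := by decide +kernel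
theorem e8Slctok_12_31020 : allRange 31020 31086 ((fun k => ctOK Cfsg.Lie.chevE8 sctE8 (k / 240) (k % 240))) = true := by decide +kernel
theorem e8Slctok_12_31086 : allRange 31086 31152 ((fun k => ctOK Cfsg.Lie.chevE8 sctE8 (k / 240) (k % 240))) = true := by decide +kernel
theorem e8Slctok_12_31152 : allRange 31152 31218 ((fun k => ctOK Cfsg.Lie.chevE8 sctE8 (k / 240) (k % 240))) = true := by decide +kernel
theorem e8Slctok_12_31218 : allRange 31218 31284 ((fun k => ctOK Cfsg.Lie.chevE8 sctE8 (k / 240) (k % 240))) = true := by decide +kernel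
theorem e8Slctok_12_31284 : allRange 31284 31350 ((fun k => ctOK Cfsg.Lie.chevE8 sctE8 (k / 240) (k % 240))) = true := by decide +kernel
theorem e8Slctok_12_31350 : allRange 31350 31416 ((fun k => ctOK Cfsg.Lie.chevE8 sctE8 (k / 240) (k % 240))) = true := by decide +kernel
theorem e8Slctok_12_31416 : allRange 31416 31482 ((fun k => ctOK Cfsg.Lie.chevE8 sctE8 (k / 240) (k % 240))) = true := by decide +kernel
theorem e8Slctok_12_31482 : allRange 31482 31548 ((fun k => ctOK Cfsg.Lie.chevE8 sctE8 (k / 240) (k % 240))) = true := by decide +kernel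
theorem e8Slctok_12_31548 : allRange 31548 31614 ((fun k => ctOK Cfsg.Lie.chevE8 sctE8 (k / 240) (k % 240))) = true := by decide +kernel
theorem e8Slctok_12_31614 : allRange 31614 31680 ((fun k => ctOK Cfsg.Lie.chevE8 sctE8 (k / 240) (k % 240))) = true := by decide +kernel
theorem e8Slctok_12_31680 : allRange 31680 31746 ((fun k => ctOK Cfsg.Lie.chevE8 sctE8 (k / 240) (k % 240))) = true := by decide +kernel

/-- The compiled table of sums of roots of type E8 agrees with the terms of the commutator formula (roots 29304 to 31745). -/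
theorem e8Slctok_12 : ∀ r, 29304 ≤ r → r < 31746 → ((fun k => ctOK Cfsg.Lie.chevE8 sctE8 (k / 240) (k % 240))) r = true := by
  intro r h1 h2
  by_cases c0 : r < 29370
  · exact allRange_spec e8Slctok_12_29304 r (by omega) c0
  by_cases c1 : r < 29436
  · exact allRange_spec e8Slctok_12_29370 r (by omega) c1
  by_cases c2 : r < 29502
  · exact allRange_spec e8Slctok_12_29436 r (by omega) c2
  by_cases c3 : r < 29568
  · exact allRange_spec e8Slctok_12_29502 r (by omega) c3
  by_cases c4 : r < 29634
  · exact allRange_spec e8Slctok_12_29568 r (by omega) c4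
  by_cases c5 : r < 29700
  · exact allRange_spec e8Slctok_12_29634 r (by omega) c5
  by_cases c6 : r < 29766
  · exact allRange_spec e8Slctok_12_29700 r (by omega) c6
  by_cases c7 : r < 29832
  · exact allRange_spec e8Slctok_12_29766 r (by omega) c7
  by_cases c8 : r < 29898
  · exact allRange_spec e8Slctok_12_29832 r (by omega) c8
  by_cases c9 : r < 29964
  · exact allRange_spec e8Slctok_12_29898 r (by omega) c9
  by_cases c10 : r < 30030
  · exact allRange_spec e8Slctok_12_29964 r (by omega) c10
  by_cases c11 : r < 30096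
  · exact allRange_spec e8Slctok_12_30030 r (by omega) c11
  by_cases c12 : r < 30162
  · exact allRange_spec e8Slctok_12_30096 r (by omega) c12
  by_cases c13 : r < 30228
  · exact allRange_spec e8Slctok_12_30162 r (by omega) c13
  by_cases c14 : r < 30294
  · exact allRange_spec e8Slctok_12_30228 r (by omega) c14
  by_cases c15 : r < 30360
  · exact allRange_spec e8Slctok_12_30294 r (by omega) c15
  by_cases c16 : r < 30426
  · exact allRange_spec e8Slctok_12_30360 r (by omega) c16
  by_cases c17 : r < 30492
  · exact allRange_spec e8Slctok_12_30426 r (by omega) c17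
  by_cases c18 : r < 30558
  · exact allRange_spec e8Slctok_12_30492 r (by omega) c18
  by_cases c19 : r < 30624
  · exact allRange_spec e8Slctok_12_30558 r (by omega) c19
  by_cases c20 : r < 30690
  · exact allRange_spec e8Slctok_12_30624 r (by omega) c20
  by_cases c21 : r < 30756
  · exact allRange_spec e8Slctok_12_30690 r (by omega) c21
  by_cases c22 : r < 30822
  · exact allRange_spec e8Slctok_12_30756 r (by omega) c22
  by_cases c23 : r < 30888
  · exact allRange_spec e8Slctok_12_30822 r (by omega) c23
  by_cases c24 : r < 30954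
  · exact allRange_spec e8Slctok_12_30888 r (by omega) c24
  by_cases c25 : r < 31020
  · exact allRange_spec e8Slctok_12_30954 r (by omega) c25
  by_cases c26 : r < 31086
  · exact allRange_spec e8Slctok_12_31020 r (by omega) c26
  by_cases c27 : r < 31152
  · exact allRange_spec e8Slctok_12_31086 r (by omega) c27
  by_cases c28 : r < 31218
  · exact allRange_spec e8Slctok_12_31152 r (by omega) c28
  by_cases c29 : r < 31284
  · exact allRange_spec e8Slctok_12_31218 r (by omega) c29
  by_cases c30 : r < 31350
  · exact allRange_spec e8Slctok_12_31284 r (by omega) c30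
  by_cases c31 : r < 31416
  · exact allRange_spec e8Slctok_12_31350 r (by omega) c31
  by_cases c32 : r < 31482
  · exact allRange_spec e8Slctok_12_31416 r (by omega) c32
  by_cases c33 : r < 31548
  · exact allRange_spec e8Slctok_12_31482 r (by omega) c33
  by_cases c34 : r < 31614
  · exact allRange_spec e8Slctok_12_31548 r (by omega) c34
  by_cases c35 : r < 31680
  · exact allRange_spec e8Slctok_12_31614 r (by omega) c35
  exact allRange_spec e8Slctok_12_31680 r (by omega) h2

end Cfsg.Agent.Lib.Helper3.ChevM
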