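import Cfsg.Prelude.Def_ChevE8
import Cfsg.Agent.Lib.Helper3.ChevData.E8Slct
import Cfsg.Agent.Lib.Helper3.StS3
set_option autoImplicit false
set_option maxRecDepth 1000000
set_option Elab.async false

namespace Cfsg.Agent.Lib.Helper3.ChevM
open Cfsg.Agent.Lib.Helper3.StS

theorem e8Slctok_13_31746 : allRange 31746 31812 ((fun k => ctOK Cfsg.Lie.chevE8 sctE8 (k / 240) (k % 240))) = true := by decide +kernel
theorem e8Slctok_13_31812 : allRange 31812 31878 ((fun k => ctOK Cfsg.Lie.chevE8 sctE8 (k / 240) (k % 240))) = true := by decide +kernel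
theorem e8Slctok_13_31878 : allRange 31878 31944 ((fun k => ctOK Cfsg.Lie.chevE8 sctE8 (k / 240) (k % 240))) = true := by decide +kernel
theorem e8Slctok_13_31944 : allRange 31944 32010 ((fun k => ctOK Cfsg.Lie.chevE8 sctE8 (k / 240) (k % 240))) = true := by decide +kernel
theorem e8Slctok_13_32010 : allRange 32010 32076 ((fun k => ctOK Cfsg.Lie.chevE8 sctE8 (k / 240) (k % 240))) = true := by decide +kernel
theorem e8Slctok_13_32076 : allRange 32076 32142 ((fun k => ctOK Cfsg.Lie.chevE8 sctE8 (k / 240) (k % 240))) = true := by decide +kernel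
theorem e8Slctok_13_32142 : allRange 32142 32208 ((fun k => ctOK Cfsg.Lie.chevE8 sctE8 (k / 240) (k % 240))) = true := by decide +kernel
theorem e8Slctok_13_32208 : allRange 32208 32274 ((fun k => ctOK Cfsg.Lie.chevE8 sctE8 (k / 240) (k % 240))) = true := by decide +kernel
theorem e8Slctok_13_32274 : allRange 32274 32340 ((fun k => ctOK Cfsg.Lie.chevE8 sctE8 (k / 240) (k % 240))) = true := by decide +kernel
theorem e8Slctok_13_32340 : allRange 32340 32406 ((fun k => ctOK Cfsg.Lie.chevE8 sctE8 (k / 240) (k % 240))) = true := by decide +kernel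
theorem e8Slctok_13_32406 : allRange 32406 32472 ((fun k => ctOK Cfsg.Lie.chevE8 sctE8 (k / 240) (k % 240))) = true := by decide +kernel
theorem e8Slctok_13_32472 : allRange 32472 32538 ((fun k => ctOK Cfsg.Lie.chevE8 sctE8 (k / 240) (k % 240))) = true := by decide +kernel
theorem e8Slctok_13_32538 : allRange 32538 32604 ((fun k => ctOK Cfsg.Lie.chevE8 sctE8 (k / 240) (k % 240))) = true := by decide +kernel
theorem e8Slctok_13_32604 : allRange 32604 32670 ((fun k => ctOK Cfsg.Lie.chevE8 sctE8 (k / 240) (k % 240))) = true := by decide +kernel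
theorem e8Slctok_13_32670 : allRange 32670 32736 ((fun k => ctOK Cfsg.Lie.chevE8 sctE8 (k / 240) (k % 240))) = true := by decide +kernel
theorem e8Slctok_13_32736 : allRange 32736 32802 ((fun k => ctOK Cfsg.Lie.chevE8 sctE8 (k / 240) (k % 240))) = true := by decide +kernel
theorem e8Slctok_13_32802 : allRange 32802 32868 ((fun k => ctOK Cfsg.Lie.chevE8 sctE8 (k / 240) (k % 240))) = true := by decide +kernel
theorem e8Slctok_13_32868 : allRange 32868 32934 ((fun k => ctOK Cfsg.Lie.chevE8 sctE8 (k / 240) (k % 240))) = true := by decide +kernel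
theorem e8Slctok_13_32934 : allRange 32934 33000 ((fun k => ctOK Cfsg.Lie.chevE8 sctE8 (k / 240) (k % 240))) = true := by decide +kernel
theorem e8Slctok_13_33000 : allRange 33000 33066 ((fun k => ctOK Cfsg.Lie.chevE8 sctE8 (k / 240) (k % 240))) = true := by decide +kernel
theorem e8Slctok_13_33066 : allRange 33066 33132 ((fun k => ctOK Cfsg.Lie.chevE8 sctE8 (k / 240) (k % 240))) = true := by decide +kernel
theorem e8Slctok_13_33132 : allRange 33132 33198 ((fun k => ctOK Cfsg.Lie.chevE8 sctE8 (k / 240) (k % 240))) = true := by decide +kernel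
theorem e8Slctok_13_33198 : allRange 33198 33264 ((fun k => ctOK Cfsg.Lie.chevE8 sctE8 (k / 240) (k % 240))) = true := by decide +kernel
theorem e8Slctok_13_33264 : allRange 33264 33330 ((fun k => ctOK Cfsg.Lie.chevE8 sctE8 (k / 240) (k % 240))) = true := by decide +kernel
theorem e8Slctok_13_33330 : allRange 33330 33396 ((fun k => ctOK Cfsg.Lie.chevE8 sctE8 (k / 240) (k % 240))) = true := by decide +kernel
theorem e8Slctok_13_33396 : allRange 33396 33462 ((fun k => ctOK Cfsg.Lie.chevE8 sctE8 (k / 240) (k % 240))) = true := by decide +kernel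
theorem e8Slctok_13_33462 : allRange 33462 33528 ((fun k => ctOK Cfsg.Lie.chevE8 sctE8 (k / 240) (k % 240))) = true := by decide +kernel
theorem e8Slctok_13_33528 : allRange 33528 33594 ((fun k => ctOK Cfsg.Lie.chevE8 sctE8 (k / 240) (k % 240))) = true := by decide +kernel
theorem e8Slctok_13_33594 : allRange 33594 33660 ((fun k => ctOK Cfsg.Lie.chevE8 sctE8 (k / 240) (k % 240))) = true := by decide +kernel
theorem e8Slctok_13_33660 : allRange 33660 33726 ((fun k => ctOK Cfsg.Lie.chevE8 sctE8 (k / 240) (k % 240))) = true := by decide +kernel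
theorem e8Slctok_13_33726 : allRange 33726 33792 ((fun k => ctOK Cfsg.Lie.chevE8 sctE8 (k / 240) (k % 240))) = true := by decide +kernel
theorem e8Slctok_13_33792 : allRange 33792 33858 ((fun k => ctOK Cfsg.Lie.chevE8 sctE8 (k / 240) (k % 240))) = true := by decide +kernel
theorem e8Slctok_13_33858 : allRange 33858 33924 ((fun k => ctOK Cfsg.Lie.chevE8 sctE8 (k / 240) (k % 240))) = true := by decide +kernel
theorem e8Slctok_13_33924 : allRange 33924 33990 ((fun k => ctOK Cfsg.Lie.chevE8 sctE8 (k / 240) (k % 240))) = true := by decide +kernel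
theorem e8Slctok_13_33990 : allRange 33990 34056 ((fun k => ctOK Cfsg.Lie.chevE8 sctE8 (k / 240) (k % 240))) = true := by decide +kernel
theorem e8Slctok_13_34056 : allRange 34056 34122 ((fun k => ctOK Cfsg.Lie.chevE8 sctE8 (k / 240) (k % 240))) = true := by decide +kernel
theorem e8Slctok_13_34122 : allRange 34122 34188 ((fun k => ctOK Cfsg.Lie.chevE8 sctE8 (k / 240) (k % 240))) = true := by decide +kernel

/-- The compiled table of sums of roots of type E8 agrees with the terms of the commutator formula (roots 31746 to 34187). -/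
theorem e8Slctok_13 : ∀ r, 31746 ≤ r → r < 34188 → ((fun k => ctOK Cfsg.Lie.chevE8 sctE8 (k / 240) (k % 240))) r = true := by
  intro r h1 h2
  by_cases c0 : r < 31812
  · exact allRange_spec e8Slctok_13_31746 r (by omega) c0
  by_cases c1 : r < 31878
  · exact allRange_spec e8Slctok_13_31812 r (by omega) c1
  by_cases c2 : r < 31944
  · exact allRange_spec e8Slctok_13_31878 r (by omega) c2
  by_cases c3 : r < 32010
  · exact allRange_spec e8Slctok_13_31944 r (by omega) c3
  by_cases c4 : r < 32076
  · exact allRange_spec e8Slctok_13_32010 r (by omega) c4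
  by_cases c5 : r < 32142
  · exact allRange_spec e8Slctok_13_32076 r (by omega) c5
  by_cases c6 : r < 32208
  · exact allRange_spec e8Slctok_13_32142 r (by omega) c6
  by_cases c7 : r < 32274
  · exact allRange_spec e8Slctok_13_32208 r (by omega) c7
  by_cases c8 : r < 32340
  · exact allRange_spec e8Slctok_13_32274 r (by omega) c8
  by_cases c9 : r < 32406
  · exact allRange_spec e8Slctok_13_32340 r (by omega) c9
  by_cases c10 : r < 32472
  · exact allRange_spec e8Slctok_13_32406 r (by omega) c10
  by_cases c11 : r < 32538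
  · exact allRange_spec e8Slctok_13_32472 r (by omega) c11
  by_cases c12 : r < 32604
  · exact allRange_spec e8Slctok_13_32538 r (by omega) c12
  by_cases c13 : r < 32670
  · exact allRange_spec e8Slctok_13_32604 r (by omega) c13
  by_cases c14 : r < 32736
  · exact allRange_spec e8Slctok_13_32670 r (by omega) c14
  by_cases c15 : r < 32802
  · exact allRange_spec e8Slctok_13_32736 r (by omega) c15
  by_cases c16 : r < 32868
  · exact allRange_spec e8Slctok_13_32802 r (by omega) c16
  by_cases c17 : r < 32934
  · exact allRange_spec e8Slctok_13_32868 r (by omega) c17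
  by_cases c18 : r < 33000
  · exact allRange_spec e8Slctok_13_32934 r (by omega) c18
  by_cases c19 : r < 33066
  · exact allRange_spec e8Slctok_13_33000 r (by omega) c19
  by_cases c20 : r < 33132
  · exact allRange_spec e8Slctok_13_33066 r (by omega) c20
  by_cases c21 : r < 33198
  · exact allRange_spec e8Slctok_13_33132 r (by omega) c21
  by_cases c22 : r < 33264
  · exact allRange_spec e8Slctok_13_33198 r (by omega) c22
  by_cases c23 : r < 33330
  · exact allRange_spec e8Slctok_13_33264 r (by omega) c23
  by_cases c24 : r < 33396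
  · exact allRange_spec e8Slctok_13_33330 r (by omega) c24
  by_cases c25 : r < 33462
  · exact allRange_spec e8Slctok_13_33396 r (by omega) c25
  by_cases c26 : r < 33528
  · exact allRange_spec e8Slctok_13_33462 r (by omega) c26
  by_cases c27 : r < 33594
  · exact allRange_spec e8Slctok_13_33528 r (by omega) c27
  by_cases c28 : r < 33660
  · exact allRange_spec e8Slctok_13_33594 r (by omega) c28
  by_cases c29 : r < 33726
  · exact allRange_spec e8Slctok_13_33660 r (by omega) c29
  by_cases c30 : r < 33792
  · exact allRange_spec e8Slctok_13_33726 r (by omega) c30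
  by_cases c31 : r < 33858
  · exact allRange_spec e8Slctok_13_33792 r (by omega) c31
  by_cases c32 : r < 33924
  · exact allRange_spec e8Slctok_13_33858 r (by omega) c32
  by_cases c33 : r < 33990
  · exact allRange_spec e8Slctok_13_33924 r (by omega) c33
  by_cases c34 : r < 34056
  · exact allRange_spec e8Slctok_13_33990 r (by omega) c34
  by_cases c35 : r < 34122
  · exact allRange_spec e8Slctok_13_34056 r (by omega) c35
  exact allRange_spec e8Slctok_13_34122 r (by omega) h2

end Cfsg.Agent.Lib.Helper3.ChevM
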