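import Cfsg.Prelude.Def_ChevE8
import Cfsg.Agent.Lib.Helper3.ChevData.E8Slct
import Cfsg.Agent.Lib.Helper3.StS3
set_option autoImplicit false
set_option maxRecDepth 1000000
set_option Elab.async false

namespace Cfsg.Agent.Lib.Helper3.ChevM
open Cfsg.Agent.Lib.Helper3.StS

theorem e8Slctok_14_34188 : allRange 34188 34254 ((fun k => ctOK Cfsg.Lie.chevE8 sctE8 (k / 240) (k % 240))) = true := by decide +kernel
theorem e8Slctok_14_34254 : allRange 34254 34320 ((fun k => ctOK Cfsg.Lie.chevE8 sctE8 (k / 240) (k % 240))) = true := by decide +kernel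
theorem e8Slctok_14_34320 : allRange 34320 34386 ((fun k => ctOK Cfsg.Lie.chevE8 sctE8 (k / 240) (k % 240))) = true := by decide +kernel
theorem e8Slctok_14_34386 : allRange 34386 34452 ((fun k => ctOK Cfsg.Lie.chevE8 sctE8 (k / 240) (k % 240))) = true := by decide +kernel
theorem e8Slctok_14_34452 : allRange 34452 34518 ((fun k => ctOK Cfsg.Lie.chevE8 sctE8 (k / 240) (k % 240))) = true := by decide +kernel
theorem e8Slctok_14_34518 : allRange 34518 34584 ((fun k => ctOK Cfsg.Lie.chevE8 sctE8 (k / 240) (k % 240))) = true := by decide +kernel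
theorem e8Slctok_14_34584 : allRange 34584 34650 ((fun k => ctOK Cfsg.Lie.chevE8 sctE8 (k / 240) (k % 240))) = true := by decide +kernel
theorem e8Slctok_14_34650 : allRange 34650 34716 ((fun k => ctOK Cfsg.Lie.chevE8 sctE8 (k / 240) (k % 240))) = true := by decide +kernel
theorem e8Slctok_14_34716 : allRange 34716 34782 ((fun k => ctOK Cfsg.Lie.chevE8 sctE8 (k / 240) (k % 240))) = true := by decide +kernel
theorem e8Slctok_14_34782 : allRange 34782 34848 ((fun k => ctOK Cfsg.Lie.chevE8 sctE8 (k / 240) (k % 240))) = true := by decide +kernel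
theorem e8Slctok_14_34848 : allRange 34848 34914 ((fun k => ctOK Cfsg.Lie.chevE8 sctE8 (k / 240) (k % 240))) = true := by decide +kernel
theorem e8Slctok_14_34914 : allRange 34914 34980 ((fun k => ctOK Cfsg.Lie.chevE8 sctE8 (k / 240) (k % 240))) = true := by decide +kernel
theorem e8Slctok_14_34980 : allRange 34980 35046 ((fun k => ctOK Cfsg.Lie.chevE8 sctE8 (k / 240) (k % 240))) = true := by decide +kernel
theorem e8Slctok_14_35046 : allRange 35046 35112 ((fun k => ctOK Cfsg.Lie.chevE8 sctE8 (k / 240) (k % 240))) = true := by decide +kernel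
theorem e8Slctok_14_35112 : allRange 35112 35178 ((fun k => ctOK Cfsg.Lie.chevE8 sctE8 (k / 240) (k % 240))) = true := by decide +kernel
theorem e8Slctok_14_35178 : allRange 35178 35244 ((fun k => ctOK Cfsg.Lie.chevE8 sctE8 (k / 240) (k % 240))) = true := by decide +kernel
theorem e8Slctok_14_35244 : allRange 35244 35310 ((fun k => ctOK Cfsg.Lie.chevE8 sctE8 (k / 240) (k % 240))) = true := by decide +kernel
theorem e8Slctok_14_35310 : allRange 35310 35376 ((fun k => ctOK Cfsg.Lie.chevE8 sctE8 (k / 240) (k % 240))) = true := by decide +kernel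
theorem e8Slctok_14_35376 : allRange 35376 35442 ((fun k => ctOK Cfsg.Lie.chevE8 sctE8 (k / 240) (k % 240))) = true := by decide +kernel
theorem e8Slctok_14_35442 : allRange 35442 35508 ((fun k => ctOK Cfsg.Lie.chevE8 sctE8 (k / 240) (k % 240))) = true := by decide +kernel
theorem e8Slctok_14_35508 : allRange 35508 35574 ((fun k => ctOK Cfsg.Lie.chevE8 sctE8 (k / 240) (k % 240))) = true := by decide +kernel
theorem e8Slctok_14_35574 : allRange 35574 35640 ((fun k => ctOK Cfsg.Lie.chevE8 sctE8 (k / 240) (k % 240))) = true := by decide +kernel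
theorem e8Slctok_14_35640 : allRange 35640 35706 ((fun k => ctOK Cfsg.Lie.chevE8 sctE8 (k / 240) (k % 240))) = true := by decide +kernel
theorem e8Slctok_14_35706 : allRange 35706 35772 ((fun k => ctOK Cfsg.Lie.chevE8 sctE8 (k / 240) (k % 240))) = true := by decide +kernel
theorem e8Slctok_14_35772 : allRange 35772 35838 ((fun k => ctOK Cfsg.Lie.chevE8 sctE8 (k / 240) (k % 240))) = true := by decide +kernel
theorem e8Slctok_14_35838 : allRange 35838 35904 ((fun k => ctOK Cfsg.Lie.chevE8 sctE8 (k / 240) (k % 240))) = true := by decide +kernel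
theorem e8Slctok_14_35904 : allRange 35904 35970 ((fun k => ctOK Cfsg.Lie.chevE8 sctE8 (k / 240) (k % 240))) = true := by decide +kernel
theorem e8Slctok_14_35970 : allRange 35970 36036 ((fun k => ctOK Cfsg.Lie.chevE8 sctE8 (k / 240) (k % 240))) = true := by decide +kernel
theorem e8Slctok_14_36036 : allRange 36036 36102 ((fun k => ctOK Cfsg.Lie.chevE8 sctE8 (k / 240) (k % 240))) = true := by decide +kernel
theorem e8Slctok_14_36102 : allRange 36102 36168 ((fun k => ctOK Cfsg.Lie.chevE8 sctE8 (k / 240) (k % 240))) = true := by decide +kernel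
theorem e8Slctok_14_36168 : allRange 36168 36234 ((fun k => ctOK Cfsg.Lie.chevE8 sctE8 (k / 240) (k % 240))) = true := by decide +kernel
theorem e8Slctok_14_36234 : allRange 36234 36300 ((fun k => ctOK Cfsg.Lie.chevE8 sctE8 (k / 240) (k % 240))) = true := by decide +kernel
theorem e8Slctok_14_36300 : allRange 36300 36366 ((fun k => ctOK Cfsg.Lie.chevE8 sctE8 (k / 240) (k % 240))) = true := by decide +kernel
theorem e8Slctok_14_36366 : allRange 36366 36432 ((fun k => ctOK Cfsg.Lie.chevE8 sctE8 (k / 240) (k % 240))) = true := by decide +kernel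
theorem e8Slctok_14_36432 : allRange 36432 36498 ((fun k => ctOK Cfsg.Lie.chevE8 sctE8 (k / 240) (k % 240))) = true := by decide +kernel
theorem e8Slctok_14_36498 : allRange 36498 36564 ((fun k => ctOK Cfsg.Lie.chevE8 sctE8 (k / 240) (k % 240))) = true := by decide +kernel
theorem e8Slctok_14_36564 : allRange 36564 36630 ((fun k => ctOK Cfsg.Lie.chevE8 sctE8 (k / 240) (k % 240))) = true := by decide +kernel

/-- The compiled table of sums of roots of type E8 agrees with the terms of the commutator formula (roots 34188 to 36629). -/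
theorem e8Slctok_14 : ∀ r, 34188 ≤ r → r < 36630 → ((fun k => ctOK Cfsg.Lie.chevE8 sctE8 (k / 240) (k % 240))) r = true := by
  intro r h1 h2
  by_cases c0 : r < 34254
  · exact allRange_spec e8Slctok_14_34188 r (by omega) c0
  by_cases c1 : r < 34320
  · exact allRange_spec e8Slctok_14_34254 r (by omega) c1
  by_cases c2 : r < 34386
  · exact allRange_spec e8Slctok_14_34320 r (by omega) c2
  by_cases c3 : r < 34452
  · exact allRange_spec e8Slctok_14_34386 r (by omega) c3
  by_cases c4 : r < 34518
  · exact allRange_spec e8Slctok_14_34452 r (by omega) c4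
  by_cases c5 : r < 34584
  · exact allRange_spec e8Slctok_14_34518 r (by omega) c5
  by_cases c6 : r < 34650
  · exact allRange_spec e8Slctok_14_34584 r (by omega) c6
  by_cases c7 : r < 34716
  · exact allRange_spec e8Slctok_14_34650 r (by omega) c7
  by_cases c8 : r < 34782
  · exact allRange_spec e8Slctok_14_34716 r (by omega) c8
  by_cases c9 : r < 34848
  · exact allRange_spec e8Slctok_14_34782 r (by omega) c9
  by_cases c10 : r < 34914
  · exact allRange_spec e8Slctok_14_34848 r (by omega) c10
  by_cases c11 : r < 34980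
  · exact allRange_spec e8Slctok_14_34914 r (by omega) c11
  by_cases c12 : r < 35046
  · exact allRange_spec e8Slctok_14_34980 r (by omega) c12
  by_cases c13 : r < 35112
  · exact allRange_spec e8Slctok_14_35046 r (by omega) c13
  by_cases c14 : r < 35178
  · exact allRange_spec e8Slctok_14_35112 r (by omega) c14
  by_cases c15 : r < 35244
  · exact allRange_spec e8Slctok_14_35178 r (by omega) c15
  by_cases c16 : r < 35310
  · exact allRange_spec e8Slctok_14_35244 r (by omega) c16
  by_cases c17 : r < 35376
  · exact allRange_spec e8Slctok_14_35310 r (by omega) c17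
  by_cases c18 : r < 35442
  · exact allRange_spec e8Slctok_14_35376 r (by omega) c18
  by_cases c19 : r < 35508
  · exact allRange_spec e8Slctok_14_35442 r (by omega) c19
  by_cases c20 : r < 35574
  · exact allRange_spec e8Slctok_14_35508 r (by omega) c20
  by_cases c21 : r < 35640
  · exact allRange_spec e8Slctok_14_35574 r (by omega) c21
  by_cases c22 : r < 35706
  · exact allRange_spec e8Slctok_14_35640 r (by omega) c22
  by_cases c23 : r < 35772
  · exact allRange_spec e8Slctok_14_35706 r (by omega) c23
  by_cases c24 : r < 35838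
  · exact allRange_spec e8Slctok_14_35772 r (by omega) c24
  by_cases c25 : r < 35904
  · exact allRange_spec e8Slctok_14_35838 r (by omega) c25
  by_cases c26 : r < 35970
  · exact allRange_spec e8Slctok_14_35904 r (by omega) c26
  by_cases c27 : r < 36036
  · exact allRange_spec e8Slctok_14_35970 r (by omega) c27
  by_cases c28 : r < 36102
  · exact allRange_spec e8Slctok_14_36036 r (by omega) c28
  by_cases c29 : r < 36168
  · exact allRange_spec e8Slctok_14_36102 r (by omega) c29
  by_cases c30 : r < 36234
  · exact allRange_spec e8Slctok_14_36168 r (by omega) c30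
  by_cases c31 : r < 36300
  · exact allRange_spec e8Slctok_14_36234 r (by omega) c31
  by_cases c32 : r < 36366
  · exact allRange_spec e8Slctok_14_36300 r (by omega) c32
  by_cases c33 : r < 36432
  · exact allRange_spec e8Slctok_14_36366 r (by omega) c33
  by_cases c34 : r < 36498
  · exact allRange_spec e8Slctok_14_36432 r (by omega) c34
  by_cases c35 : r < 36564
  · exact allRange_spec e8Slctok_14_36498 r (by omega) c35
  exact allRange_spec e8Slctok_14_36564 r (by omega) h2

end Cfsg.Agent.Lib.Helper3.ChevM
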