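import Cfsg.Prelude.Def_ChevE8
import Cfsg.Agent.Lib.Helper3.ChevData.E8Slct
import Cfsg.Agent.Lib.Helper3.StS3
set_option autoImplicit false
set_option maxRecDepth 1000000
set_option Elab.async false

namespace Cfsg.Agent.Lib.Helper3.ChevM
open Cfsg.Agent.Lib.Helper3.StS

theorem e8Slctok_15_36630 : allRange 36630 36696 ((fun k => ctOK Cfsg.Lie.chevE8 sctE8 (k / 240) (k % 240))) = true := by decide +kernel
theorem e8Slctok_15_36696 : allRange 36696 36762 ((fun k => ctOK Cfsg.Lie.chevE8 sctE8 (k / 240) (k % 240))) = true := by decide +kernel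
theorem e8Slctok_15_36762 : allRange 36762 36828 ((fun k => ctOK Cfsg.Lie.chevE8 sctE8 (k / 240) (k % 240))) = true := by decide +kernel
theorem e8Slctok_15_36828 : allRange 36828 36894 ((fun k => ctOK Cfsg.Lie.chevE8 sctE8 (k / 240) (k % 240))) = true := by decide +kernel
theorem e8Slctok_15_36894 : allRange 36894 36960 ((fun k => ctOK Cfsg.Lie.chevE8 sctE8 (k / 240) (k % 240))) = true := by decide +kernel
theorem e8Slctok_15_36960 : allRange 36960 37026 ((fun k => ctOK Cfsg.Lie.chevE8 sctE8 (k / 240) (k % 240))) = true := by decide +kernel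
theorem e8Slctok_15_37026 : allRange 37026 37092 ((fun k => ctOK Cfsg.Lie.chevE8 sctE8 (k / 240) (k % 240))) = true := by decide +kernel
theorem e8Slctok_15_37092 : allRange 37092 37158 ((fun k => ctOK Cfsg.Lie.chevE8 sctE8 (k / 240) (k % 240))) = true := by decide +kernel
theorem e8Slctok_15_37158 : allRange 37158 37224 ((fun k => ctOK Cfsg.Lie.chevE8 sctE8 (k / 240) (k % 240))) = true := by decide +kernel
theorem e8Slctok_15_37224 : allRange 37224 37290 ((fun k => ctOK Cfsg.Lie.chevE8 sctE8 (k / 240) (k % 240))) = true := by decide +kernel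
theorem e8Slctok_15_37290 : allRange 37290 37356 ((fun k => ctOK Cfsg.Lie.chevE8 sctE8 (k / 240) (k % 240))) = true := by decide +kernel
theorem e8Slctok_15_37356 : allRange 37356 37422 ((fun k => ctOK Cfsg.Lie.chevE8 sctE8 (k / 240) (k % 240))) = true := by decide +kernel
theorem e8Slctok_15_37422 : allRange 37422 37488 ((fun k => ctOK Cfsg.Lie.chevE8 sctE8 (k / 240) (k % 240))) = true := by decide +kernel
theorem e8Slctok_15_37488 : allRange 37488 37554 ((fun k => ctOK Cfsg.Lie.chevE8 sctE8 (k / 240) (k % 240))) = true := by decide +kernel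
theorem e8Slctok_15_37554 : allRange 37554 37620 ((fun k => ctOK Cfsg.Lie.chevE8 sctE8 (k / 240) (k % 240))) = true := by decide +kernel
theorem e8Slctok_15_37620 : allRange 37620 37686 ((fun k => ctOK Cfsg.Lie.chevE8 sctE8 (k / 240) (k % 240))) = true := by decide +kernel
theorem e8Slctok_15_37686 : allRange 37686 37752 ((fun k => ctOK Cfsg.Lie.chevE8 sctE8 (k / 240) (k % 240))) = true := by decide +kernel
theorem e8Slctok_15_37752 : allRange 37752 37818 ((fun k => ctOK Cfsg.Lie.chevE8 sctE8 (k / 240) (k % 240))) = true := by decide +kernel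
theorem e8Slctok_15_37818 : allRange 37818 37884 ((fun k => ctOK Cfsg.Lie.chevE8 sctE8 (k / 240) (k % 240))) = true := by decide +kernel
theorem e8Slctok_15_37884 : allRange 37884 37950 ((fun k => ctOK Cfsg.Lie.chevE8 sctE8 (k / 240) (k % 240))) = true := by decide +kernel
theorem e8Slctok_15_37950 : allRange 37950 38016 ((fun k => ctOK Cfsg.Lie.chevE8 sctE8 (k / 240) (k % 240))) = true := by decide +kernel
theorem e8Slctok_15_38016 : allRange 38016 38082 ((fun k => ctOK Cfsg.Lie.chevE8 sctE8 (k / 240) (k % 240))) = true := by decide +kernel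
theorem e8Slctok_15_38082 : allRange 38082 38148 ((fun k => ctOK Cfsg.Lie.chevE8 sctE8 (k / 240) (k % 240))) = true := by decide +kernel
theorem e8Slctok_15_38148 : allRange 38148 38214 ((fun k => ctOK Cfsg.Lie.chevE8 sctE8 (k / 240) (k % 240))) = true := by decide +kernel
theorem e8Slctok_15_38214 : allRange 38214 38280 ((fun k => ctOK Cfsg.Lie.chevE8 sctE8 (k / 240) (k % 240))) = true := by decide +kernel
theorem e8Slctok_15_38280 : allRange 38280 38346 ((fun k => ctOK Cfsg.Lie.chevE8 sctE8 (k / 240) (k % 240))) = true := by decide +kernel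
theorem e8Slctok_15_38346 : allRange 38346 38412 ((fun k => ctOK Cfsg.Lie.chevE8 sctE8 (k / 240) (k % 240))) = true := by decide +kernel
theorem e8Slctok_15_38412 : allRange 38412 38478 ((fun k => ctOK Cfsg.Lie.chevE8 sctE8 (k / 240) (k % 240))) = true := by decide +kernel
theorem e8Slctok_15_38478 : allRange 38478 38544 ((fun k => ctOK Cfsg.Lie.chevE8 sctE8 (k / 240) (k % 240))) = true := by decide +kernel
theorem e8Slctok_15_38544 : allRange 38544 38610 ((fun k => ctOK Cfsg.Lie.chevE8 sctE8 (k / 240) (k % 240))) = true := by decide +kernel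
theorem e8Slctok_15_38610 : allRange 38610 38676 ((fun k => ctOK Cfsg.Lie.chevE8 sctE8 (k / 240) (k % 240))) = true := by decide +kernel
theorem e8Slctok_15_38676 : allRange 38676 38742 ((fun k => ctOK Cfsg.Lie.chevE8 sctE8 (k / 240) (k % 240))) = true := by decide +kernel
theorem e8Slctok_15_38742 : allRange 38742 38808 ((fun k => ctOK Cfsg.Lie.chevE8 sctE8 (k / 240) (k % 240))) = true := by decide +kernel
theorem e8Slctok_15_38808 : allRange 38808 38874 ((fun k => ctOK Cfsg.Lie.chevE8 sctE8 (k / 240) (k % 240))) = true := by decide +kernel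
theorem e8Slctok_15_38874 : allRange 38874 38940 ((fun k => ctOK Cfsg.Lie.chevE8 sctE8 (k / 240) (k % 240))) = true := by decide +kernel
theorem e8Slctok_15_38940 : allRange 38940 39006 ((fun k => ctOK Cfsg.Lie.chevE8 sctE8 (k / 240) (k % 240))) = true := by decide +kernel
theorem e8Slctok_15_39006 : allRange 39006 39072 ((fun k => ctOK Cfsg.Lie.chevE8 sctE8 (k / 240) (k % 240))) = true := by decide +kernel

/-- The compiled table of sums of roots of type E8 agrees with the terms of the commutator formula (roots 36630 to 39071). -/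
theorem e8Slctok_15 : ∀ r, 36630 ≤ r → r < 39072 → ((fun k => ctOK Cfsg.Lie.chevE8 sctE8 (k / 240) (k % 240))) r = true := by
  intro r h1 h2
  by_cases c0 : r < 36696
  · exact allRange_spec e8Slctok_15_36630 r (by omega) c0
  by_cases c1 : r < 36762
  · exact allRange_spec e8Slctok_15_36696 r (by omega) c1
  by_cases c2 : r < 36828
  · exact allRange_spec e8Slctok_15_36762 r (by omega) c2
  by_cases c3 : r < 36894
  · exact allRange_spec e8Slctok_15_36828 r (by omega) c3
  by_cases c4 : r < 36960
  · exact allRange_spec e8Slctok_15_36894 r (by omega) c4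
  by_cases c5 : r < 37026
  · exact allRange_spec e8Slctok_15_36960 r (by omega) c5
  by_cases c6 : r < 37092
  · exact allRange_spec e8Slctok_15_37026 r (by omega) c6
  by_cases c7 : r < 37158
  · exact allRange_spec e8Slctok_15_37092 r (by omega) c7
  by_cases c8 : r < 37224
  · exact allRange_spec e8Slctok_15_37158 r (by omega) c8
  by_cases c9 : r < 37290
  · exact allRange_spec e8Slctok_15_37224 r (by omega) c9
  by_cases c10 : r < 37356
  · exact allRange_spec e8Slctok_15_37290 r (by omega) c10
  by_cases c11 : r < 37422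
  · exact allRange_spec e8Slctok_15_37356 r (by omega) c11
  by_cases c12 : r < 37488
  · exact allRange_spec e8Slctok_15_37422 r (by omega) c12
  by_cases c13 : r < 37554
  · exact allRange_spec e8Slctok_15_37488 r (by omega) c13
  by_cases c14 : r < 37620
  · exact allRange_spec e8Slctok_15_37554 r (by omega) c14
  by_cases c15 : r < 37686
  · exact allRange_spec e8Slctok_15_37620 r (by omega) c15
  by_cases c16 : r < 37752
  · exact allRange_spec e8Slctok_15_37686 r (by omega) c16
  by_cases c17 : r < 37818
  · exact allRange_spec e8Slctok_15_37752 r (by omega) c17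
  by_cases c18 : r < 37884
  · exact allRange_spec e8Slctok_15_37818 r (by omega) c18
  by_cases c19 : r < 37950
  · exact allRange_spec e8Slctok_15_37884 r (by omega) c19
  by_cases c20 : r < 38016
  · exact allRange_spec e8Slctok_15_37950 r (by omega) c20
  by_cases c21 : r < 38082
  · exact allRange_spec e8Slctok_15_38016 r (by omega) c21
  by_cases c22 : r < 38148
  · exact allRange_spec e8Slctok_15_38082 r (by omega) c22
  by_cases c23 : r < 38214
  · exact allRange_spec e8Slctok_15_38148 r (by omega) c23
  by_cases c24 : r < 38280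
  · exact allRange_spec e8Slctok_15_38214 r (by omega) c24
  by_cases c25 : r < 38346
  · exact allRange_spec e8Slctok_15_38280 r (by omega) c25
  by_cases c26 : r < 38412
  · exact allRange_spec e8Slctok_15_38346 r (by omega) c26
  by_cases c27 : r < 38478
  · exact allRange_spec e8Slctok_15_38412 r (by omega) c27
  by_cases c28 : r < 38544
  · exact allRange_spec e8Slctok_15_38478 r (by omega) c28
  by_cases c29 : r < 38610
  · exact allRange_spec e8Slctok_15_38544 r (by omega) c29
  by_cases c30 : r < 38676
  · exact allRange_spec e8Slctok_15_38610 r (by omega) c30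
  by_cases c31 : r < 38742
  · exact allRange_spec e8Slctok_15_38676 r (by omega) c31
  by_cases c32 : r < 38808
  · exact allRange_spec e8Slctok_15_38742 r (by omega) c32
  by_cases c33 : r < 38874
  · exact allRange_spec e8Slctok_15_38808 r (by omega) c33
  by_cases c34 : r < 38940
  · exact allRange_spec e8Slctok_15_38874 r (by omega) c34
  by_cases c35 : r < 39006
  · exact allRange_spec e8Slctok_15_38940 r (by omega) c35
  exact allRange_spec e8Slctok_15_39006 r (by omega) h2

end Cfsg.Agent.Lib.Helper3.ChevM
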