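import Cfsg.Prelude.Def_ChevE8
import Cfsg.Agent.Lib.Helper3.ChevData.E8Slct
import Cfsg.Agent.Lib.Helper3.StS3
set_option autoImplicit false
set_option maxRecDepth 1000000
set_option Elab.async false

namespace Cfsg.Agent.Lib.Helper3.ChevM
open Cfsg.Agent.Lib.Helper3.StS

theorem e8Slctok_16_39072 : allRange 39072 39138 ((fun k => ctOK Cfsg.Lie.chevE8 sctE8 (k / 240) (k % 240))) = true := by decide +kernel
theorem e8Slctok_16_39138 : allRange 39138 39204 ((fun k => ctOK Cfsg.Lie.chevE8 sctE8 (k / 240) (k % 240))) = true := by decide +kernel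
theorem e8Slctok_16_39204 : allRange 39204 39270 ((fun k => ctOK Cfsg.Lie.chevE8 sctE8 (k / 240) (k % 240))) = true := by decide +kernel
theorem e8Slctok_16_39270 : allRange 39270 39336 ((fun k => ctOK Cfsg.Lie.chevE8 sctE8 (k / 240) (k % 240))) = true := by decide +kernel
theorem e8Slctok_16_39336 : allRange 39336 39402 ((fun k => ctOK Cfsg.Lie.chevE8 sctE8 (k / 240) (k % 240))) = true := by decide +kernel
theorem e8Slctok_16_39402 : allRange 39402 39468 ((fun k => ctOK Cfsg.Lie.chevE8 sctE8 (k / 240) (k % 240))) = true := by decide +kernel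
theorem e8Slctok_16_39468 : allRange 39468 39534 ((fun k => ctOK Cfsg.Lie.chevE8 sctE8 (k / 240) (k % 240))) = true := by decide +kernel
theorem e8Slctok_16_39534 : allRange 39534 39600 ((fun k => ctOK Cfsg.Lie.chevE8 sctE8 (k / 240) (k % 240))) = true := by decide +kernel
theorem e8Slctok_16_39600 : allRange 39600 39666 ((fun k => ctOK Cfsg.Lie.chevE8 sctE8 (k / 240) (k % 240))) = true := by decide +kernel
theorem e8Slctok_16_39666 : allRange 39666 39732 ((fun k => ctOK Cfsg.Lie.chevE8 sctE8 (k / 240) (k % 240))) = true := by decide +kernel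
theorem e8Slctok_16_39732 : allRange 39732 39798 ((fun k => ctOK Cfsg.Lie.chevE8 sctE8 (k / 240) (k % 240))) = true := by decide +kernel
theorem e8Slctok_16_39798 : allRange 39798 39864 ((fun k => ctOK Cfsg.Lie.chevE8 sctE8 (k / 240) (k % 240))) = true := by decide +kernel
theorem e8Slctok_16_39864 : allRange 39864 39930 ((fun k => ctOK Cfsg.Lie.chevE8 sctE8 (k / 240) (k % 240))) = true := by decide +kernel
theorem e8Slctok_16_39930 : allRange 39930 39996 ((fun k => ctOK Cfsg.Lie.chevE8 sctE8 (k / 240) (k % 240))) = true := by decide +kernel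
theorem e8Slctok_16_39996 : allRange 39996 40062 ((fun k => ctOK Cfsg.Lie.chevE8 sctE8 (k / 240) (k % 240))) = true := by decide +kernel
theorem e8Slctok_16_40062 : allRange 40062 40128 ((fun k => ctOK Cfsg.Lie.chevE8 sctE8 (k / 240) (k % 240))) = true := by decide +kernel
theorem e8Slctok_16_40128 : allRange 40128 40194 ((fun k => ctOK Cfsg.Lie.chevE8 sctE8 (k / 240) (k % 240))) = true := by decide +kernel
theorem e8Slctok_16_40194 : allRange 40194 40260 ((fun k => ctOK Cfsg.Lie.chevE8 sctE8 (k / 240) (k % 240))) = true := by decide +kernel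
theorem e8Slctok_16_40260 : allRange 40260 40326 ((fun k => ctOK Cfsg.Lie.chevE8 sctE8 (k / 240) (k % 240))) = true := by decide +kernel
theorem e8Slctok_16_40326 : allRange 40326 40392 ((fun k => ctOK Cfsg.Lie.chevE8 sctE8 (k / 240) (k % 240))) = true := by decide +kernel
theorem e8Slctok_16_40392 : allRange 40392 40458 ((fun k => ctOK Cfsg.Lie.chevE8 sctE8 (k / 240) (k % 240))) = true := by decide +kernel
theorem e8Slctok_16_40458 : allRange 40458 40524 ((fun k => ctOK Cfsg.Lie.chevE8 sctE8 (k / 240) (k % 240))) = true := by decide +kernel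
theorem e8Slctok_16_40524 : allRange 40524 40590 ((fun k => ctOK Cfsg.Lie.chevE8 sctE8 (k / 240) (k % 240))) = true := by decide +kernel
theorem e8Slctok_16_40590 : allRange 40590 40656 ((fun k => ctOK Cfsg.Lie.chevE8 sctE8 (k / 240) (k % 240))) = true := by decide +kernel
theorem e8Slctok_16_40656 : allRange 40656 40722 ((fun k => ctOK Cfsg.Lie.chevE8 sctE8 (k / 240) (k % 240))) = true := by decide +kernel
theorem e8Slctok_16_40722 : allRange 40722 40788 ((fun k => ctOK Cfsg.Lie.chevE8 sctE8 (k / 240) (k % 240))) = true := by decide +kernel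
theorem e8Slctok_16_40788 : allRange 40788 40854 ((fun k => ctOK Cfsg.Lie.chevE8 sctE8 (k / 240) (k % 240))) = true := by decide +kernel
theorem e8Slctok_16_40854 : allRange 40854 40920 ((fun k => ctOK Cfsg.Lie.chevE8 sctE8 (k / 240) (k % 240))) = true := by decide +kernel
theorem e8Slctok_16_40920 : allRange 40920 40986 ((fun k => ctOK Cfsg.Lie.chevE8 sctE8 (k / 240) (k % 240))) = true := by decide +kernel
theorem e8Slctok_16_40986 : allRange 40986 41052 ((fun k => ctOK Cfsg.Lie.chevE8 sctE8 (k / 240) (k % 240))) = true := by decide +kernel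
theorem e8Slctok_16_41052 : allRange 41052 41118 ((fun k => ctOK Cfsg.Lie.chevE8 sctE8 (k / 240) (k % 240))) = true := by decide +kernel
theorem e8Slctok_16_41118 : allRange 41118 41184 ((fun k => ctOK Cfsg.Lie.chevE8 sctE8 (k / 240) (k % 240))) = true := by decide +kernel
theorem e8Slctok_16_41184 : allRange 41184 41250 ((fun k => ctOK Cfsg.Lie.chevE8 sctE8 (k / 240) (k % 240))) = true := by decide +kernel
theorem e8Slctok_16_41250 : allRange 41250 41316 ((fun k => ctOK Cfsg.Lie.chevE8 sctE8 (k / 240) (k % 240))) = true := by decide +kernel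
theorem e8Slctok_16_41316 : allRange 41316 41382 ((fun k => ctOK Cfsg.Lie.chevE8 sctE8 (k / 240) (k % 240))) = true := by decide +kernel
theorem e8Slctok_16_41382 : allRange 41382 41448 ((fun k => ctOK Cfsg.Lie.chevE8 sctE8 (k / 240) (k % 240))) = true := by decide +kernel
theorem e8Slctok_16_41448 : allRange 41448 41514 ((fun k => ctOK Cfsg.Lie.chevE8 sctE8 (k / 240) (k % 240))) = true := by decide +kernel

/-- The compiled table of sums of roots of type E8 agrees with the terms of the commutator formula (roots 39072 to 41513). -/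
theorem e8Slctok_16 : ∀ r, 39072 ≤ r → r < 41514 → ((fun k => ctOK Cfsg.Lie.chevE8 sctE8 (k / 240) (k % 240))) r = true := by
  intro r h1 h2
  by_cases c0 : r < 39138
  · exact allRange_spec e8Slctok_16_39072 r (by omega) c0
  by_cases c1 : r < 39204
  · exact allRange_spec e8Slctok_16_39138 r (by omega) c1
  by_cases c2 : r < 39270
  · exact allRange_spec e8Slctok_16_39204 r (by omega) c2
  by_cases c3 : r < 39336
  · exact allRange_spec e8Slctok_16_39270 r (by omega) c3
  by_cases c4 : r < 39402
  · exact allRange_spec e8Slctok_16_39336 r (by omega) c4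
  by_cases c5 : r < 39468
  · exact allRange_spec e8Slctok_16_39402 r (by omega) c5
  by_cases c6 : r < 39534
  · exact allRange_spec e8Slctok_16_39468 r (by omega) c6
  by_cases c7 : r < 39600
  · exact allRange_spec e8Slctok_16_39534 r (by omega) c7
  by_cases c8 : r < 39666
  · exact allRange_spec e8Slctok_16_39600 r (by omega) c8
  by_cases c9 : r < 39732
  · exact allRange_spec e8Slctok_16_39666 r (by omega) c9
  by_cases c10 : r < 39798
  · exact allRange_spec e8Slctok_16_39732 r (by omega) c10
  by_cases c11 : r < 39864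
  · exact allRange_spec e8Slctok_16_39798 r (by omega) c11
  by_cases c12 : r < 39930
  · exact allRange_spec e8Slctok_16_39864 r (by omega) c12
  by_cases c13 : r < 39996
  · exact allRange_spec e8Slctok_16_39930 r (by omega) c13
  by_cases c14 : r < 40062
  · exact allRange_spec e8Slctok_16_39996 r (by omega) c14
  by_cases c15 : r < 40128
  · exact allRange_spec e8Slctok_16_40062 r (by omega) c15
  by_cases c16 : r < 40194
  · exact allRange_spec e8Slctok_16_40128 r (by omega) c16
  by_cases c17 : r < 40260
  · exact allRange_spec e8Slctok_16_40194 r (by omega) c17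
  by_cases c18 : r < 40326
  · exact allRange_spec e8Slctok_16_40260 r (by omega) c18
  by_cases c19 : r < 40392
  · exact allRange_spec e8Slctok_16_40326 r (by omega) c19
  by_cases c20 : r < 40458
  · exact allRange_spec e8Slctok_16_40392 r (by omega) c20
  by_cases c21 : r < 40524
  · exact allRange_spec e8Slctok_16_40458 r (by omega) c21
  by_cases c22 : r < 40590
  · exact allRange_spec e8Slctok_16_40524 r (by omega) c22
  by_cases c23 : r < 40656
  · exact allRange_spec e8Slctok_16_40590 r (by omega) c23
  by_cases c24 : r < 40722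
  · exact allRange_spec e8Slctok_16_40656 r (by omega) c24
  by_cases c25 : r < 40788
  · exact allRange_spec e8Slctok_16_40722 r (by omega) c25
  by_cases c26 : r < 40854
  · exact allRange_spec e8Slctok_16_40788 r (by omega) c26
  by_cases c27 : r < 40920
  · exact allRange_spec e8Slctok_16_40854 r (by omega) c27
  by_cases c28 : r < 40986
  · exact allRange_spec e8Slctok_16_40920 r (by omega) c28
  by_cases c29 : r < 41052
  · exact allRange_spec e8Slctok_16_40986 r (by omega) c29
  by_cases c30 : r < 41118
  · exact allRange_spec e8Slctok_16_41052 r (by omega) c30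
  by_cases c31 : r < 41184
  · exact allRange_spec e8Slctok_16_41118 r (by omega) c31
  by_cases c32 : r < 41250
  · exact allRange_spec e8Slctok_16_41184 r (by omega) c32
  by_cases c33 : r < 41316
  · exact allRange_spec e8Slctok_16_41250 r (by omega) c33
  by_cases c34 : r < 41382
  · exact allRange_spec e8Slctok_16_41316 r (by omega) c34
  by_cases c35 : r < 41448
  · exact allRange_spec e8Slctok_16_41382 r (by omega) c35
  exact allRange_spec e8Slctok_16_41448 r (by omega) h2

end Cfsg.Agent.Lib.Helper3.ChevM
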