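import Cfsg.Prelude.Def_ChevE8
import Cfsg.Agent.Lib.Helper3.ChevData.E8Slct
import Cfsg.Agent.Lib.Helper3.StS3
set_option autoImplicit false
set_option maxRecDepth 1000000
set_option Elab.async false

namespace Cfsg.Agent.Lib.Helper3.ChevM
open Cfsg.Agent.Lib.Helper3.StS

theorem e8Slctok_17_41514 : allRange 41514 41580 ((fun k => ctOK Cfsg.Lie.chevE8 sctE8 (k / 240) (k % 240))) = true := by decide +kernel
theorem e8Slctok_17_41580 : allRange 41580 41646 ((fun k => ctOK Cfsg.Lie.chevE8 sctE8 (k / 240) (k % 240))) = true := by decide +kernel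
theorem e8Slctok_17_41646 : allRange 41646 41712 ((fun k => ctOK Cfsg.Lie.chevE8 sctE8 (k / 240) (k % 240))) = true := by decide +kernel
theorem e8Slctok_17_41712 : allRange 41712 41778 ((fun k => ctOK Cfsg.Lie.chevE8 sctE8 (k / 240) (k % 240))) = true := by decide +kernel
theorem e8Slctok_17_41778 : allRange 41778 41844 ((fun k => ctOK Cfsg.Lie.chevE8 sctE8 (k / 240) (k % 240))) = true := by decide +kernel
theorem e8Slctok_17_41844 : allRange 41844 41910 ((fun k => ctOK Cfsg.Lie.chevE8 sctE8 (k / 240) (k % 240))) = true := by decide +kernel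
theorem e8Slctok_17_41910 : allRange 41910 41976 ((fun k => ctOK Cfsg.Lie.chevE8 sctE8 (k / 240) (k % 240))) = true := by decide +kernel
theorem e8Slctok_17_41976 : allRange 41976 42042 ((fun k => ctOK Cfsg.Lie.chevE8 sctE8 (k / 240) (k % 240))) = true := by decide +kernel
theorem e8Slctok_17_42042 : allRange 42042 42108 ((fun k => ctOK Cfsg.Lie.chevE8 sctE8 (k / 240) (k % 240))) = true := by decide +kernel
theorem e8Slctok_17_42108 : allRange 42108 42174 ((fun k => ctOK Cfsg.Lie.chevE8 sctE8 (k / 240) (k % 240))) = true := by decide +kernel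
theorem e8Slctok_17_42174 : allRange 42174 42240 ((fun k => ctOK Cfsg.Lie.chevE8 sctE8 (k / 240) (k % 240))) = true := by decide +kernel
theorem e8Slctok_17_42240 : allRange 42240 42306 ((fun k => ctOK Cfsg.Lie.chevE8 sctE8 (k / 240) (k % 240))) = true := by decide +kernel
theorem e8Slctok_17_42306 : allRange 42306 42372 ((fun k => ctOK Cfsg.Lie.chevE8 sctE8 (k / 240) (k % 240))) = true := by decide +kernel
theorem e8Slctok_17_42372 : allRange 42372 42438 ((fun k => ctOK Cfsg.Lie.chevE8 sctE8 (k / 240) (k % 240))) = true := by decide +kernel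
theorem e8Slctok_17_42438 : allRange 42438 42504 ((fun k => ctOK Cfsg.Lie.chevE8 sctE8 (k / 240) (k % 240))) = true := by decide +kernel
theorem e8Slctok_17_42504 : allRange 42504 42570 ((fun k => ctOK Cfsg.Lie.chevE8 sctE8 (k / 240) (k % 240))) = true := by decide +kernel
theorem e8Slctok_17_42570 : allRange 42570 42636 ((fun k => ctOK Cfsg.Lie.chevE8 sctE8 (k / 240) (k % 240))) = true := by decide +kernel
theorem e8Slctok_17_42636 : allRange 42636 42702 ((fun k => ctOK Cfsg.Lie.chevE8 sctE8 (k / 240) (k % 240))) = true := by decide +kernel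
theorem e8Slctok_17_42702 : allRange 42702 42768 ((fun k => ctOK Cfsg.Lie.chevE8 sctE8 (k / 240) (k % 240))) = true := by decide +kernel
theorem e8Slctok_17_42768 : allRange 42768 42834 ((fun k => ctOK Cfsg.Lie.chevE8 sctE8 (k / 240) (k % 240))) = true := by decide +kernel
theorem e8Slctok_17_42834 : allRange 42834 42900 ((fun k => ctOK Cfsg.Lie.chevE8 sctE8 (k / 240) (k % 240))) = true := by decide +kernel
theorem e8Slctok_17_42900 : allRange 42900 42966 ((fun k => ctOK Cfsg.Lie.chevE8 sctE8 (k / 240) (k % 240))) = true := by decide +kernel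
theorem e8Slctok_17_42966 : allRange 42966 43032 ((fun k => ctOK Cfsg.Lie.chevE8 sctE8 (k / 240) (k % 240))) = true := by decide +kernel
theorem e8Slctok_17_43032 : allRange 43032 43098 ((fun k => ctOK Cfsg.Lie.chevE8 sctE8 (k / 240) (k % 240))) = true := by decide +kernel
theorem e8Slctok_17_43098 : allRange 43098 43164 ((fun k => ctOK Cfsg.Lie.chevE8 sctE8 (k / 240) (k % 240))) = true := by decide +kernel
theorem e8Slctok_17_43164 : allRange 43164 43230 ((fun k => ctOK Cfsg.Lie.chevE8 sctE8 (k / 240) (k % 240))) = true := by decide +kernel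
theorem e8Slctok_17_43230 : allRange 43230 43296 ((fun k => ctOK Cfsg.Lie.chevE8 sctE8 (k / 240) (k % 240))) = true := by decide +kernel
theorem e8Slctok_17_43296 : allRange 43296 43362 ((fun k => ctOK Cfsg.Lie.chevE8 sctE8 (k / 240) (k % 240))) = true := by decide +kernel
theorem e8Slctok_17_43362 : allRange 43362 43428 ((fun k => ctOK Cfsg.Lie.chevE8 sctE8 (k / 240) (k % 240))) = true := by decide +kernel
theorem e8Slctok_17_43428 : allRange 43428 43494 ((fun k => ctOK Cfsg.Lie.chevE8 sctE8 (k / 240) (k % 240))) = true := by decide +kernel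
theorem e8Slctok_17_43494 : allRange 43494 43560 ((fun k => ctOK Cfsg.Lie.chevE8 sctE8 (k / 240) (k % 240))) = true := by decide +kernel
theorem e8Slctok_17_43560 : allRange 43560 43626 ((fun k => ctOK Cfsg.Lie.chevE8 sctE8 (k / 240) (k % 240))) = true := by decide +kernel
theorem e8Slctok_17_43626 : allRange 43626 43692 ((fun k => ctOK Cfsg.Lie.chevE8 sctE8 (k / 240) (k % 240))) = true := by decide +kernel
theorem e8Slctok_17_43692 : allRange 43692 43758 ((fun k => ctOK Cfsg.Lie.chevE8 sctE8 (k / 240) (k % 240))) = true := by decide +kernel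
theorem e8Slctok_17_43758 : allRange 43758 43824 ((fun k => ctOK Cfsg.Lie.chevE8 sctE8 (k / 240) (k % 240))) = true := by decide +kernel
theorem e8Slctok_17_43824 : allRange 43824 43890 ((fun k => ctOK Cfsg.Lie.chevE8 sctE8 (k / 240) (k % 240))) = true := by decide +kernel
theorem e8Slctok_17_43890 : allRange 43890 43956 ((fun k => ctOK Cfsg.Lie.chevE8 sctE8 (k / 240) (k % 240))) = true := by decide +kernel

/-- The compiled table of sums of roots of type E8 agrees with the terms of the commutator formula (roots 41514 to 43955). -/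
theorem e8Slctok_17 : ∀ r, 41514 ≤ r → r < 43956 → ((fun k => ctOK Cfsg.Lie.chevE8 sctE8 (k / 240) (k % 240))) r = true := by
  intro r h1 h2
  by_cases c0 : r < 41580
  · exact allRange_spec e8Slctok_17_41514 r (by omega) c0
  by_cases c1 : r < 41646
  · exact allRange_spec e8Slctok_17_41580 r (by omega) c1
  by_cases c2 : r < 41712
  · exact allRange_spec e8Slctok_17_41646 r (by omega) c2
  by_cases c3 : r < 41778
  · exact allRange_spec e8Slctok_17_41712 r (by omega) c3
  by_cases c4 : r < 41844
  · exact allRange_spec e8Slctok_17_41778 r (by omega) c4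
  by_cases c5 : r < 41910
  · exact allRange_spec e8Slctok_17_41844 r (by omega) c5
  by_cases c6 : r < 41976
  · exact allRange_spec e8Slctok_17_41910 r (by omega) c6
  by_cases c7 : r < 42042
  · exact allRange_spec e8Slctok_17_41976 r (by omega) c7
  by_cases c8 : r < 42108
  · exact allRange_spec e8Slctok_17_42042 r (by omega) c8
  by_cases c9 : r < 42174
  · exact allRange_spec e8Slctok_17_42108 r (by omega) c9
  by_cases c10 : r < 42240
  · exact allRange_spec e8Slctok_17_42174 r (by omega) c10
  by_cases c11 : r < 42306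
  · exact allRange_spec e8Slctok_17_42240 r (by omega) c11
  by_cases c12 : r < 42372
  · exact allRange_spec e8Slctok_17_42306 r (by omega) c12
  by_cases c13 : r < 42438
  · exact allRange_spec e8Slctok_17_42372 r (by omega) c13
  by_cases c14 : r < 42504
  · exact allRange_spec e8Slctok_17_42438 r (by omega) c14
  by_cases c15 : r < 42570
  · exact allRange_spec e8Slctok_17_42504 r (by omega) c15
  by_cases c16 : r < 42636
  · exact allRange_spec e8Slctok_17_42570 r (by omega) c16
  by_cases c17 : r < 42702
  · exact allRange_spec e8Slctok_17_42636 r (by omega) c17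
  by_cases c18 : r < 42768
  · exact allRange_spec e8Slctok_17_42702 r (by omega) c18
  by_cases c19 : r < 42834
  · exact allRange_spec e8Slctok_17_42768 r (by omega) c19
  by_cases c20 : r < 42900
  · exact allRange_spec e8Slctok_17_42834 r (by omega) c20
  by_cases c21 : r < 42966
  · exact allRange_spec e8Slctok_17_42900 r (by omega) c21
  by_cases c22 : r < 43032
  · exact allRange_spec e8Slctok_17_42966 r (by omega) c22
  by_cases c23 : r < 43098
  · exact allRange_spec e8Slctok_17_43032 r (by omega) c23
  by_cases c24 : r < 43164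
  · exact allRange_spec e8Slctok_17_43098 r (by omega) c24
  by_cases c25 : r < 43230
  · exact allRange_spec e8Slctok_17_43164 r (by omega) c25
  by_cases c26 : r < 43296
  · exact allRange_spec e8Slctok_17_43230 r (by omega) c26
  by_cases c27 : r < 43362
  · exact allRange_spec e8Slctok_17_43296 r (by omega) c27
  by_cases c28 : r < 43428
  · exact allRange_spec e8Slctok_17_43362 r (by omega) c28
  by_cases c29 : r < 43494
  · exact allRange_spec e8Slctok_17_43428 r (by omega) c29
  by_cases c30 : r < 43560
  · exact allRange_spec e8Slctok_17_43494 r (by omega) c30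
  by_cases c31 : r < 43626
  · exact allRange_spec e8Slctok_17_43560 r (by omega) c31
  by_cases c32 : r < 43692
  · exact allRange_spec e8Slctok_17_43626 r (by omega) c32
  by_cases c33 : r < 43758
  · exact allRange_spec e8Slctok_17_43692 r (by omega) c33
  by_cases c34 : r < 43824
  · exact allRange_spec e8Slctok_17_43758 r (by omega) c34
  by_cases c35 : r < 43890
  · exact allRange_spec e8Slctok_17_43824 r (by omega) c35
  exact allRange_spec e8Slctok_17_43890 r (by omega) h2

end Cfsg.Agent.Lib.Helper3.ChevM
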