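import Cfsg.Prelude.Def_ChevE8
import Cfsg.Agent.Lib.Helper3.ChevData.E8Slct
import Cfsg.Agent.Lib.Helper3.StS3
set_option autoImplicit false
set_option maxRecDepth 1000000
set_option Elab.async false

namespace Cfsg.Agent.Lib.Helper3.ChevM
open Cfsg.Agent.Lib.Helper3.StS

theorem e8Slctok_18_43956 : allRange 43956 44022 ((fun k => ctOK Cfsg.Lie.chevE8 sctE8 (k / 240) (k % 240))) = true := by decide +kernel
theorem e8Slctok_18_44022 : allRange 44022 44088 ((fun k => ctOK Cfsg.Lie.chevE8 sctE8 (k / 240) (k % 240))) = true := by decide +kernel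
theorem e8Slctok_18_44088 : allRange 44088 44154 ((fun k => ctOK Cfsg.Lie.chevE8 sctE8 (k / 240) (k % 240))) = true := by decide +kernel
theorem e8Slctok_18_44154 : allRange 44154 44220 ((fun k => ctOK Cfsg.Lie.chevE8 sctE8 (k / 240) (k % 240))) = true := by decide +kernel
theorem e8Slctok_18_44220 : allRange 44220 44286 ((fun k => ctOK Cfsg.Lie.chevE8 sctE8 (k / 240) (k % 240))) = true := by decide +kernel
theorem e8Slctok_18_44286 : allRange 44286 44352 ((fun k => ctOK Cfsg.Lie.chevE8 sctE8 (k / 240) (k % 240))) = true := by decide +kernel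
theorem e8Slctok_18_44352 : allRange 44352 44418 ((fun k => ctOK Cfsg.Lie.chevE8 sctE8 (k / 240) (k % 240))) = true := by decide +kernel
theorem e8Slctok_18_44418 : allRange 44418 44484 ((fun k => ctOK Cfsg.Lie.chevE8 sctE8 (k / 240) (k % 240))) = true := by decide +kernel
theorem e8Slctok_18_44484 : allRange 44484 44550 ((fun k => ctOK Cfsg.Lie.chevE8 sctE8 (k / 240) (k % 240))) = true := by decide +kernel
theorem e8Slctok_18_44550 : allRange 44550 44616 ((fun k => ctOK Cfsg.Lie.chevE8 sctE8 (k / 240) (k % 240))) = true := by decide +kernel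
theorem e8Slctok_18_44616 : allRange 44616 44682 ((fun k => ctOK Cfsg.Lie.chevE8 sctE8 (k / 240) (k % 240))) = true := by decide +kernel
theorem e8Slctok_18_44682 : allRange 44682 44748 ((fun k => ctOK Cfsg.Lie.chevE8 sctE8 (k / 240) (k % 240))) = true := by decide +kernel
theorem e8Slctok_18_44748 : allRange 44748 44814 ((fun k => ctOK Cfsg.Lie.chevE8 sctE8 (k / 240) (k % 240))) = true := by decide +kernel
theorem e8Slctok_18_44814 : allRange 44814 44880 ((fun k => ctOK Cfsg.Lie.chevE8 sctE8 (k / 240) (k % 240))) = true := by decide +kernel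
theorem e8Slctok_18_44880 : allRange 44880 44946 ((fun k => ctOK Cfsg.Lie.chevE8 sctE8 (k / 240) (k % 240))) = true := by decide +kernel
theorem e8Slctok_18_44946 : allRange 44946 45012 ((fun k => ctOK Cfsg.Lie.chevE8 sctE8 (k / 240) (k % 240))) = true := by decide +kernel
theorem e8Slctok_18_45012 : allRange 45012 45078 ((fun k => ctOK Cfsg.Lie.chevE8 sctE8 (k / 240) (k % 240))) = true := by decide +kernel
theorem e8Slctok_18_45078 : allRange 45078 45144 ((fun k => ctOK Cfsg.Lie.chevE8 sctE8 (k / 240) (k % 240))) = true := by decide +kernel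
theorem e8Slctok_18_45144 : allRange 45144 45210 ((fun k => ctOK Cfsg.Lie.chevE8 sctE8 (k / 240) (k % 240))) = true := by decide +kernel
theorem e8Slctok_18_45210 : allRange 45210 45276 ((fun k => ctOK Cfsg.Lie.chevE8 sctE8 (k / 240) (k % 240))) = true := by decide +kernel
theorem e8Slctok_18_45276 : allRange 45276 45342 ((fun k => ctOK Cfsg.Lie.chevE8 sctE8 (k / 240) (k % 240))) = true := by decide +kernel
theorem e8Slctok_18_45342 : allRange 45342 45408 ((fun k => ctOK Cfsg.Lie.chevE8 sctE8 (k / 240) (k % 240))) = true := by decide +kernel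
theorem e8Slctok_18_45408 : allRange 45408 45474 ((fun k => ctOK Cfsg.Lie.chevE8 sctE8 (k / 240) (k % 240))) = true := by decide +kernel
theorem e8Slctok_18_45474 : allRange 45474 45540 ((fun k => ctOK Cfsg.Lie.chevE8 sctE8 (k / 240) (k % 240))) = true := by decide +kernel
theorem e8Slctok_18_45540 : allRange 45540 45606 ((fun k => ctOK Cfsg.Lie.chevE8 sctE8 (k / 240) (k % 240))) = true := by decide +kernel
theorem e8Slctok_18_45606 : allRange 45606 45672 ((fun k => ctOK Cfsg.Lie.chevE8 sctE8 (k / 240) (k % 240))) = true := by decide +kernel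
theorem e8Slctok_18_45672 : allRange 45672 45738 ((fun k => ctOK Cfsg.Lie.chevE8 sctE8 (k / 240) (k % 240))) = true := by decide +kernel
theorem e8Slctok_18_45738 : allRange 45738 45804 ((fun k => ctOK Cfsg.Lie.chevE8 sctE8 (k / 240) (k % 240))) = true := by decide +kernel
theorem e8Slctok_18_45804 : allRange 45804 45870 ((fun k => ctOK Cfsg.Lie.chevE8 sctE8 (k / 240) (k % 240))) = true := by decide +kernel
theorem e8Slctok_18_45870 : allRange 45870 45936 ((fun k => ctOK Cfsg.Lie.chevE8 sctE8 (k / 240) (k % 240))) = true := by decide +kernel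
theorem e8Slctok_18_45936 : allRange 45936 46002 ((fun k => ctOK Cfsg.Lie.chevE8 sctE8 (k / 240) (k % 240))) = true := by decide +kernel
theorem e8Slctok_18_46002 : allRange 46002 46068 ((fun k => ctOK Cfsg.Lie.chevE8 sctE8 (k / 240) (k % 240))) = true := by decide +kernel
theorem e8Slctok_18_46068 : allRange 46068 46134 ((fun k => ctOK Cfsg.Lie.chevE8 sctE8 (k / 240) (k % 240))) = true := by decide +kernel
theorem e8Slctok_18_46134 : allRange 46134 46200 ((fun k => ctOK Cfsg.Lie.chevE8 sctE8 (k / 240) (k % 240))) = true := by decide +kernel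
theorem e8Slctok_18_46200 : allRange 46200 46266 ((fun k => ctOK Cfsg.Lie.chevE8 sctE8 (k / 240) (k % 240))) = true := by decide +kernel
theorem e8Slctok_18_46266 : allRange 46266 46332 ((fun k => ctOK Cfsg.Lie.chevE8 sctE8 (k / 240) (k % 240))) = true := by decide +kernel
theorem e8Slctok_18_46332 : allRange 46332 46398 ((fun k => ctOK Cfsg.Lie.chevE8 sctE8 (k / 240) (k % 240))) = true := by decide +kernel

/-- The compiled table of sums of roots of type E8 agrees with the terms of the commutator formula (roots 43956 to 46397). -/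
theorem e8Slctok_18 : ∀ r, 43956 ≤ r → r < 46398 → ((fun k => ctOK Cfsg.Lie.chevE8 sctE8 (k / 240) (k % 240))) r = true := by
  intro r h1 h2
  by_cases c0 : r < 44022
  · exact allRange_spec e8Slctok_18_43956 r (by omega) c0
  by_cases c1 : r < 44088
  · exact allRange_spec e8Slctok_18_44022 r (by omega) c1
  by_cases c2 : r < 44154
  · exact allRange_spec e8Slctok_18_44088 r (by omega) c2
  by_cases c3 : r < 44220
  · exact allRange_spec e8Slctok_18_44154 r (by omega) c3
  by_cases c4 : r < 44286
  · exact allRange_spec e8Slctok_18_44220 r (by omega) c4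
  by_cases c5 : r < 44352
  · exact allRange_spec e8Slctok_18_44286 r (by omega) c5
  by_cases c6 : r < 44418
  · exact allRange_spec e8Slctok_18_44352 r (by omega) c6
  by_cases c7 : r < 44484
  · exact allRange_spec e8Slctok_18_44418 r (by omega) c7
  by_cases c8 : r < 44550
  · exact allRange_spec e8Slctok_18_44484 r (by omega) c8
  by_cases c9 : r < 44616
  · exact allRange_spec e8Slctok_18_44550 r (by omega) c9
  by_cases c10 : r < 44682
  · exact allRange_spec e8Slctok_18_44616 r (by omega) c10
  by_cases c11 : r < 44748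
  · exact allRange_spec e8Slctok_18_44682 r (by omega) c11
  by_cases c12 : r < 44814
  · exact allRange_spec e8Slctok_18_44748 r (by omega) c12
  by_cases c13 : r < 44880
  · exact allRange_spec e8Slctok_18_44814 r (by omega) c13
  by_cases c14 : r < 44946
  · exact allRange_spec e8Slctok_18_44880 r (by omega) c14
  by_cases c15 : r < 45012
  · exact allRange_spec e8Slctok_18_44946 r (by omega) c15
  by_cases c16 : r < 45078
  · exact allRange_spec e8Slctok_18_45012 r (by omega) c16
  by_cases c17 : r < 45144
  · exact allRange_spec e8Slctok_18_45078 r (by omega) c17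
  by_cases c18 : r < 45210
  · exact allRange_spec e8Slctok_18_45144 r (by omega) c18
  by_cases c19 : r < 45276
  · exact allRange_spec e8Slctok_18_45210 r (by omega) c19
  by_cases c20 : r < 45342
  · exact allRange_spec e8Slctok_18_45276 r (by omega) c20
  by_cases c21 : r < 45408
  · exact allRange_spec e8Slctok_18_45342 r (by omega) c21
  by_cases c22 : r < 45474
  · exact allRange_spec e8Slctok_18_45408 r (by omega) c22
  by_cases c23 : r < 45540
  · exact allRange_spec e8Slctok_18_45474 r (by omega) c23
  by_cases c24 : r < 45606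
  · exact allRange_spec e8Slctok_18_45540 r (by omega) c24
  by_cases c25 : r < 45672
  · exact allRange_spec e8Slctok_18_45606 r (by omega) c25
  by_cases c26 : r < 45738
  · exact allRange_spec e8Slctok_18_45672 r (by omega) c26
  by_cases c27 : r < 45804
  · exact allRange_spec e8Slctok_18_45738 r (by omega) c27
  by_cases c28 : r < 45870
  · exact allRange_spec e8Slctok_18_45804 r (by omega) c28
  by_cases c29 : r < 45936
  · exact allRange_spec e8Slctok_18_45870 r (by omega) c29
  by_cases c30 : r < 46002
  · exact allRange_spec e8Slctok_18_45936 r (by omega) c30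
  by_cases c31 : r < 46068
  · exact allRange_spec e8Slctok_18_46002 r (by omega) c31
  by_cases c32 : r < 46134
  · exact allRange_spec e8Slctok_18_46068 r (by omega) c32
  by_cases c33 : r < 46200
  · exact allRange_spec e8Slctok_18_46134 r (by omega) c33
  by_cases c34 : r < 46266
  · exact allRange_spec e8Slctok_18_46200 r (by omega) c34
  by_cases c35 : r < 46332
  · exact allRange_spec e8Slctok_18_46266 r (by omega) c35
  exact allRange_spec e8Slctok_18_46332 r (by omega) h2

end Cfsg.Agent.Lib.Helper3.ChevM
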