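import Cfsg.Prelude.Def_ChevE8
import Cfsg.Agent.Lib.Helper3.ChevData.E8Slct
import Cfsg.Agent.Lib.Helper3.StS3
set_option autoImplicit false
set_option maxRecDepth 1000000
set_option Elab.async false

namespace Cfsg.Agent.Lib.Helper3.ChevM
open Cfsg.Agent.Lib.Helper3.StS

theorem e8Slctok_19_46398 : allRange 46398 46464 ((fun k => ctOK Cfsg.Lie.chevE8 sctE8 (k / 240) (k % 240))) = true := by decide +kernel
theorem e8Slctok_19_46464 : allRange 46464 46530 ((fun k => ctOK Cfsg.Lie.chevE8 sctE8 (k / 240) (k % 240))) = true := by decide +kernel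
theorem e8Slctok_19_46530 : allRange 46530 46596 ((fun k => ctOK Cfsg.Lie.chevE8 sctE8 (k / 240) (k % 240))) = true := by decide +kernel
theorem e8Slctok_19_46596 : allRange 46596 46662 ((fun k => ctOK Cfsg.Lie.chevE8 sctE8 (k / 240) (k % 240))) = true := by decide +kernel
theorem e8Slctok_19_46662 : allRange 46662 46728 ((fun k => ctOK Cfsg.Lie.chevE8 sctE8 (k / 240) (k % 240))) = true := by decide +kernel
theorem e8Slctok_19_46728 : allRange 46728 46794 ((fun k => ctOK Cfsg.Lie.chevE8 sctE8 (k / 240) (k % 240))) = true := by decide +kernel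
theorem e8Slctok_19_46794 : allRange 46794 46860 ((fun k => ctOK Cfsg.Lie.chevE8 sctE8 (k / 240) (k % 240))) = true := by decide +kernel
theorem e8Slctok_19_46860 : allRange 46860 46926 ((fun k => ctOK Cfsg.Lie.chevE8 sctE8 (k / 240) (k % 240))) = true := by decide +kernel
theorem e8Slctok_19_46926 : allRange 46926 46992 ((fun k => ctOK Cfsg.Lie.chevE8 sctE8 (k / 240) (k % 240))) = true := by decide +kernel
theorem e8Slctok_19_46992 : allRange 46992 47058 ((fun k => ctOK Cfsg.Lie.chevE8 sctE8 (k / 240) (k % 240))) = true := by decide +kernel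
theorem e8Slctok_19_47058 : allRange 47058 47124 ((fun k => ctOK Cfsg.Lie.chevE8 sctE8 (k / 240) (k % 240))) = true := by decide +kernel
theorem e8Slctok_19_47124 : allRange 47124 47190 ((fun k => ctOK Cfsg.Lie.chevE8 sctE8 (k / 240) (k % 240))) = true := by decide +kernel
theorem e8Slctok_19_47190 : allRange 47190 47256 ((fun k => ctOK Cfsg.Lie.chevE8 sctE8 (k / 240) (k % 240))) = true := by decide +kernel
theorem e8Slctok_19_47256 : allRange 47256 47322 ((fun k => ctOK Cfsg.Lie.chevE8 sctE8 (k / 240) (k % 240))) = true := by decide +kernel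
theorem e8Slctok_19_47322 : allRange 47322 47388 ((fun k => ctOK Cfsg.Lie.chevE8 sctE8 (k / 240) (k % 240))) = true := by decide +kernel
theorem e8Slctok_19_47388 : allRange 47388 47454 ((fun k => ctOK Cfsg.Lie.chevE8 sctE8 (k / 240) (k % 240))) = true := by decide +kernel
theorem e8Slctok_19_47454 : allRange 47454 47520 ((fun k => ctOK Cfsg.Lie.chevE8 sctE8 (k / 240) (k % 240))) = true := by decide +kernel
theorem e8Slctok_19_47520 : allRange 47520 47586 ((fun k => ctOK Cfsg.Lie.chevE8 sctE8 (k / 240) (k % 240))) = true := by decide +kernel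
theorem e8Slctok_19_47586 : allRange 47586 47652 ((fun k => ctOK Cfsg.Lie.chevE8 sctE8 (k / 240) (k % 240))) = true := by decide +kernel
theorem e8Slctok_19_47652 : allRange 47652 47718 ((fun k => ctOK Cfsg.Lie.chevE8 sctE8 (k / 240) (k % 240))) = true := by decide +kernel
theorem e8Slctok_19_47718 : allRange 47718 47784 ((fun k => ctOK Cfsg.Lie.chevE8 sctE8 (k / 240) (k % 240))) = true := by decide +kernel
theorem e8Slctok_19_47784 : allRange 47784 47850 ((fun k => ctOK Cfsg.Lie.chevE8 sctE8 (k / 240) (k % 240))) = true := by decide +kernel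
theorem e8Slctok_19_47850 : allRange 47850 47916 ((fun k => ctOK Cfsg.Lie.chevE8 sctE8 (k / 240) (k % 240))) = true := by decide +kernel
theorem e8Slctok_19_47916 : allRange 47916 47982 ((fun k => ctOK Cfsg.Lie.chevE8 sctE8 (k / 240) (k % 240))) = true := by decide +kernel
theorem e8Slctok_19_47982 : allRange 47982 48048 ((fun k => ctOK Cfsg.Lie.chevE8 sctE8 (k / 240) (k % 240))) = true := by decide +kernel
theorem e8Slctok_19_48048 : allRange 48048 48114 ((fun k => ctOK Cfsg.Lie.chevE8 sctE8 (k / 240) (k % 240))) = true := by decide +kernel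
theorem e8Slctok_19_48114 : allRange 48114 48180 ((fun k => ctOK Cfsg.Lie.chevE8 sctE8 (k / 240) (k % 240))) = true := by decide +kernel
theorem e8Slctok_19_48180 : allRange 48180 48246 ((fun k => ctOK Cfsg.Lie.chevE8 sctE8 (k / 240) (k % 240))) = true := by decide +kernel
theorem e8Slctok_19_48246 : allRange 48246 48312 ((fun k => ctOK Cfsg.Lie.chevE8 sctE8 (k / 240) (k % 240))) = true := by decide +kernel
theorem e8Slctok_19_48312 : allRange 48312 48378 ((fun k => ctOK Cfsg.Lie.chevE8 sctE8 (k / 240) (k % 240))) = true := by decide +kernel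
theorem e8Slctok_19_48378 : allRange 48378 48444 ((fun k => ctOK Cfsg.Lie.chevE8 sctE8 (k / 240) (k % 240))) = true := by decide +kernel
theorem e8Slctok_19_48444 : allRange 48444 48510 ((fun k => ctOK Cfsg.Lie.chevE8 sctE8 (k / 240) (k % 240))) = true := by decide +kernel
theorem e8Slctok_19_48510 : allRange 48510 48576 ((fun k => ctOK Cfsg.Lie.chevE8 sctE8 (k / 240) (k % 240))) = true := by decide +kernel
theorem e8Slctok_19_48576 : allRange 48576 48642 ((fun k => ctOK Cfsg.Lie.chevE8 sctE8 (k / 240) (k % 240))) = true := by decide +kernel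
theorem e8Slctok_19_48642 : allRange 48642 48708 ((fun k => ctOK Cfsg.Lie.chevE8 sctE8 (k / 240) (k % 240))) = true := by decide +kernel
theorem e8Slctok_19_48708 : allRange 48708 48774 ((fun k => ctOK Cfsg.Lie.chevE8 sctE8 (k / 240) (k % 240))) = true := by decide +kernel
theorem e8Slctok_19_48774 : allRange 48774 48840 ((fun k => ctOK Cfsg.Lie.chevE8 sctE8 (k / 240) (k % 240))) = true := by decide +kernel

/-- The compiled table of sums of roots of type E8 agrees with the terms of the commutator formula (roots 46398 to 48839). -/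
theorem e8Slctok_19 : ∀ r, 46398 ≤ r → r < 48840 → ((fun k => ctOK Cfsg.Lie.chevE8 sctE8 (k / 240) (k % 240))) r = true := by
  intro r h1 h2
  by_cases c0 : r < 46464
  · exact allRange_spec e8Slctok_19_46398 r (by omega) c0
  by_cases c1 : r < 46530
  · exact allRange_spec e8Slctok_19_46464 r (by omega) c1
  by_cases c2 : r < 46596
  · exact allRange_spec e8Slctok_19_46530 r (by omega) c2
  by_cases c3 : r < 46662
  · exact allRange_spec e8Slctok_19_46596 r (by omega) c3
  by_cases c4 : r < 46728
  · exact allRange_spec e8Slctok_19_46662 r (by omega) c4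
  by_cases c5 : r < 46794
  · exact allRange_spec e8Slctok_19_46728 r (by omega) c5
  by_cases c6 : r < 46860
  · exact allRange_spec e8Slctok_19_46794 r (by omega) c6
  by_cases c7 : r < 46926
  · exact allRange_spec e8Slctok_19_46860 r (by omega) c7
  by_cases c8 : r < 46992
  · exact allRange_spec e8Slctok_19_46926 r (by omega) c8
  by_cases c9 : r < 47058
  · exact allRange_spec e8Slctok_19_46992 r (by omega) c9
  by_cases c10 : r < 47124
  · exact allRange_spec e8Slctok_19_47058 r (by omega) c10
  by_cases c11 : r < 47190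
  · exact allRange_spec e8Slctok_19_47124 r (by omega) c11
  by_cases c12 : r < 47256
  · exact allRange_spec e8Slctok_19_47190 r (by omega) c12
  by_cases c13 : r < 47322
  · exact allRange_spec e8Slctok_19_47256 r (by omega) c13
  by_cases c14 : r < 47388
  · exact allRange_spec e8Slctok_19_47322 r (by omega) c14
  by_cases c15 : r < 47454
  · exact allRange_spec e8Slctok_19_47388 r (by omega) c15
  by_cases c16 : r < 47520
  · exact allRange_spec e8Slctok_19_47454 r (by omega) c16
  by_cases c17 : r < 47586
  · exact allRange_spec e8Slctok_19_47520 r (by omega) c17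
  by_cases c18 : r < 47652
  · exact allRange_spec e8Slctok_19_47586 r (by omega) c18
  by_cases c19 : r < 47718
  · exact allRange_spec e8Slctok_19_47652 r (by omega) c19
  by_cases c20 : r < 47784
  · exact allRange_spec e8Slctok_19_47718 r (by omega) c20
  by_cases c21 : r < 47850
  · exact allRange_spec e8Slctok_19_47784 r (by omega) c21
  by_cases c22 : r < 47916
  · exact allRange_spec e8Slctok_19_47850 r (by omega) c22
  by_cases c23 : r < 47982
  · exact allRange_spec e8Slctok_19_47916 r (by omega) c23
  by_cases c24 : r < 48048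
  · exact allRange_spec e8Slctok_19_47982 r (by omega) c24
  by_cases c25 : r < 48114
  · exact allRange_spec e8Slctok_19_48048 r (by omega) c25
  by_cases c26 : r < 48180
  · exact allRange_spec e8Slctok_19_48114 r (by omega) c26
  by_cases c27 : r < 48246
  · exact allRange_spec e8Slctok_19_48180 r (by omega) c27
  by_cases c28 : r < 48312
  · exact allRange_spec e8Slctok_19_48246 r (by omega) c28
  by_cases c29 : r < 48378
  · exact allRange_spec e8Slctok_19_48312 r (by omega) c29
  by_cases c30 : r < 48444
  · exact allRange_spec e8Slctok_19_48378 r (by omega) c30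
  by_cases c31 : r < 48510
  · exact allRange_spec e8Slctok_19_48444 r (by omega) c31
  by_cases c32 : r < 48576
  · exact allRange_spec e8Slctok_19_48510 r (by omega) c32
  by_cases c33 : r < 48642
  · exact allRange_spec e8Slctok_19_48576 r (by omega) c33
  by_cases c34 : r < 48708
  · exact allRange_spec e8Slctok_19_48642 r (by omega) c34
  by_cases c35 : r < 48774
  · exact allRange_spec e8Slctok_19_48708 r (by omega) c35
  exact allRange_spec e8Slctok_19_48774 r (by omega) h2

end Cfsg.Agent.Lib.Helper3.ChevM
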