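import Cfsg.Prelude.Def_ChevE8
import Cfsg.Agent.Lib.Helper3.ChevData.E8Slct
import Cfsg.Agent.Lib.Helper3.StS3
set_option autoImplicit false
set_option maxRecDepth 1000000
set_option Elab.async false

namespace Cfsg.Agent.Lib.Helper3.ChevM
open Cfsg.Agent.Lib.Helper3.StS

theorem e8Slctok_20_48840 : allRange 48840 48906 ((fun k => ctOK Cfsg.Lie.chevE8 sctE8 (k / 240) (k % 240))) = true := by decide +kernel
theorem e8Slctok_20_48906 : allRange 48906 48972 ((fun k => ctOK Cfsg.Lie.chevE8 sctE8 (k / 240) (k % 240))) = true := by decide +kernel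
theorem e8Slctok_20_48972 : allRange 48972 49038 ((fun k => ctOK Cfsg.Lie.chevE8 sctE8 (k / 240) (k % 240))) = true := by decide +kernel
theorem e8Slctok_20_49038 : allRange 49038 49104 ((fun k => ctOK Cfsg.Lie.chevE8 sctE8 (k / 240) (k % 240))) = true := by decide +kernel
theorem e8Slctok_20_49104 : allRange 49104 49170 ((fun k => ctOK Cfsg.Lie.chevE8 sctE8 (k / 240) (k % 240))) = true := by decide +kernel
theorem e8Slctok_20_49170 : allRange 49170 49236 ((fun k => ctOK Cfsg.Lie.chevE8 sctE8 (k / 240) (k % 240))) = true := by decide +kernel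
theorem e8Slctok_20_49236 : allRange 49236 49302 ((fun k => ctOK Cfsg.Lie.chevE8 sctE8 (k / 240) (k % 240))) = true := by decide +kernel
theorem e8Slctok_20_49302 : allRange 49302 49368 ((fun k => ctOK Cfsg.Lie.chevE8 sctE8 (k / 240) (k % 240))) = true := by decide +kernel
theorem e8Slctok_20_49368 : allRange 49368 49434 ((fun k => ctOK Cfsg.Lie.chevE8 sctE8 (k / 240) (k % 240))) = true := by decide +kernel
theorem e8Slctok_20_49434 : allRange 49434 49500 ((fun k => ctOK Cfsg.Lie.chevE8 sctE8 (k / 240) (k % 240))) = true := by decide +kernel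
theorem e8Slctok_20_49500 : allRange 49500 49566 ((fun k => ctOK Cfsg.Lie.chevE8 sctE8 (k / 240) (k % 240))) = true := by decide +kernel
theorem e8Slctok_20_49566 : allRange 49566 49632 ((fun k => ctOK Cfsg.Lie.chevE8 sctE8 (k / 240) (k % 240))) = true := by decide +kernel
theorem e8Slctok_20_49632 : allRange 49632 49698 ((fun k => ctOK Cfsg.Lie.chevE8 sctE8 (k / 240) (k % 240))) = true := by decide +kernel
theorem e8Slctok_20_49698 : allRange 49698 49764 ((fun k => ctOK Cfsg.Lie.chevE8 sctE8 (k / 240) (k % 240))) = true := by decide +kernel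
theorem e8Slctok_20_49764 : allRange 49764 49830 ((fun k => ctOK Cfsg.Lie.chevE8 sctE8 (k / 240) (k % 240))) = true := by decide +kernel
theorem e8Slctok_20_49830 : allRange 49830 49896 ((fun k => ctOK Cfsg.Lie.chevE8 sctE8 (k / 240) (k % 240))) = true := by decide +kernel
theorem e8Slctok_20_49896 : allRange 49896 49962 ((fun k => ctOK Cfsg.Lie.chevE8 sctE8 (k / 240) (k % 240))) = true := by decide +kernel
theorem e8Slctok_20_49962 : allRange 49962 50028 ((fun k => ctOK Cfsg.Lie.chevE8 sctE8 (k / 240) (k % 240))) = true := by decide +kernel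
theorem e8Slctok_20_50028 : allRange 50028 50094 ((fun k => ctOK Cfsg.Lie.chevE8 sctE8 (k / 240) (k % 240))) = true := by decide +kernel
theorem e8Slctok_20_50094 : allRange 50094 50160 ((fun k => ctOK Cfsg.Lie.chevE8 sctE8 (k / 240) (k % 240))) = true := by decide +kernel
theorem e8Slctok_20_50160 : allRange 50160 50226 ((fun k => ctOK Cfsg.Lie.chevE8 sctE8 (k / 240) (k % 240))) = true := by decide +kernel
theorem e8Slctok_20_50226 : allRange 50226 50292 ((fun k => ctOK Cfsg.Lie.chevE8 sctE8 (k / 240) (k % 240))) = true := by decide +kernel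
theorem e8Slctok_20_50292 : allRange 50292 50358 ((fun k => ctOK Cfsg.Lie.chevE8 sctE8 (k / 240) (k % 240))) = true := by decide +kernel
theorem e8Slctok_20_50358 : allRange 50358 50424 ((fun k => ctOK Cfsg.Lie.chevE8 sctE8 (k / 240) (k % 240))) = true := by decide +kernel
theorem e8Slctok_20_50424 : allRange 50424 50490 ((fun k => ctOK Cfsg.Lie.chevE8 sctE8 (k / 240) (k % 240))) = true := by decide +kernel
theorem e8Slctok_20_50490 : allRange 50490 50556 ((fun k => ctOK Cfsg.Lie.chevE8 sctE8 (k / 240) (k % 240))) = true := by decide +kernel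
theorem e8Slctok_20_50556 : allRange 50556 50622 ((fun k => ctOK Cfsg.Lie.chevE8 sctE8 (k / 240) (k % 240))) = true := by decide +kernel
theorem e8Slctok_20_50622 : allRange 50622 50688 ((fun k => ctOK Cfsg.Lie.chevE8 sctE8 (k / 240) (k % 240))) = true := by decide +kernel
theorem e8Slctok_20_50688 : allRange 50688 50754 ((fun k => ctOK Cfsg.Lie.chevE8 sctE8 (k / 240) (k % 240))) = true := by decide +kernel
theorem e8Slctok_20_50754 : allRange 50754 50820 ((fun k => ctOK Cfsg.Lie.chevE8 sctE8 (k / 240) (k % 240))) = true := by decide +kernel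
theorem e8Slctok_20_50820 : allRange 50820 50886 ((fun k => ctOK Cfsg.Lie.chevE8 sctE8 (k / 240) (k % 240))) = true := by decide +kernel
theorem e8Slctok_20_50886 : allRange 50886 50952 ((fun k => ctOK Cfsg.Lie.chevE8 sctE8 (k / 240) (k % 240))) = true := by decide +kernel
theorem e8Slctok_20_50952 : allRange 50952 51018 ((fun k => ctOK Cfsg.Lie.chevE8 sctE8 (k / 240) (k % 240))) = true := by decide +kernel
theorem e8Slctok_20_51018 : allRange 51018 51084 ((fun k => ctOK Cfsg.Lie.chevE8 sctE8 (k / 240) (k % 240))) = true := by decide +kernel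
theorem e8Slctok_20_51084 : allRange 51084 51150 ((fun k => ctOK Cfsg.Lie.chevE8 sctE8 (k / 240) (k % 240))) = true := by decide +kernel
theorem e8Slctok_20_51150 : allRange 51150 51216 ((fun k => ctOK Cfsg.Lie.chevE8 sctE8 (k / 240) (k % 240))) = true := by decide +kernel
theorem e8Slctok_20_51216 : allRange 51216 51282 ((fun k => ctOK Cfsg.Lie.chevE8 sctE8 (k / 240) (k % 240))) = true := by decide +kernel

/-- The compiled table of sums of roots of type E8 agrees with the terms of the commutator formula (roots 48840 to 51281). -/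
theorem e8Slctok_20 : ∀ r, 48840 ≤ r → r < 51282 → ((fun k => ctOK Cfsg.Lie.chevE8 sctE8 (k / 240) (k % 240))) r = true := by
  intro r h1 h2
  by_cases c0 : r < 48906
  · exact allRange_spec e8Slctok_20_48840 r (by omega) c0
  by_cases c1 : r < 48972
  · exact allRange_spec e8Slctok_20_48906 r (by omega) c1
  by_cases c2 : r < 49038
  · exact allRange_spec e8Slctok_20_48972 r (by omega) c2
  by_cases c3 : r < 49104
  · exact allRange_spec e8Slctok_20_49038 r (by omega) c3
  by_cases c4 : r < 49170
  · exact allRange_spec e8Slctok_20_49104 r (by omega) c4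
  by_cases c5 : r < 49236
  · exact allRange_spec e8Slctok_20_49170 r (by omega) c5
  by_cases c6 : r < 49302
  · exact allRange_spec e8Slctok_20_49236 r (by omega) c6
  by_cases c7 : r < 49368
  · exact allRange_spec e8Slctok_20_49302 r (by omega) c7
  by_cases c8 : r < 49434
  · exact allRange_spec e8Slctok_20_49368 r (by omega) c8
  by_cases c9 : r < 49500
  · exact allRange_spec e8Slctok_20_49434 r (by omega) c9
  by_cases c10 : r < 49566
  · exact allRange_spec e8Slctok_20_49500 r (by omega) c10
  by_cases c11 : r < 49632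
  · exact allRange_spec e8Slctok_20_49566 r (by omega) c11
  by_cases c12 : r < 49698
  · exact allRange_spec e8Slctok_20_49632 r (by omega) c12
  by_cases c13 : r < 49764
  · exact allRange_spec e8Slctok_20_49698 r (by omega) c13
  by_cases c14 : r < 49830
  · exact allRange_spec e8Slctok_20_49764 r (by omega) c14
  by_cases c15 : r < 49896
  · exact allRange_spec e8Slctok_20_49830 r (by omega) c15
  by_cases c16 : r < 49962
  · exact allRange_spec e8Slctok_20_49896 r (by omega) c16
  by_cases c17 : r < 50028
  · exact allRange_spec e8Slctok_20_49962 r (by omega) c17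
  by_cases c18 : r < 50094
  · exact allRange_spec e8Slctok_20_50028 r (by omega) c18
  by_cases c19 : r < 50160
  · exact allRange_spec e8Slctok_20_50094 r (by omega) c19
  by_cases c20 : r < 50226
  · exact allRange_spec e8Slctok_20_50160 r (by omega) c20
  by_cases c21 : r < 50292
  · exact allRange_spec e8Slctok_20_50226 r (by omega) c21
  by_cases c22 : r < 50358
  · exact allRange_spec e8Slctok_20_50292 r (by omega) c22
  by_cases c23 : r < 50424
  · exact allRange_spec e8Slctok_20_50358 r (by omega) c23
  by_cases c24 : r < 50490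
  · exact allRange_spec e8Slctok_20_50424 r (by omega) c24
  by_cases c25 : r < 50556
  · exact allRange_spec e8Slctok_20_50490 r (by omega) c25
  by_cases c26 : r < 50622
  · exact allRange_spec e8Slctok_20_50556 r (by omega) c26
  by_cases c27 : r < 50688
  · exact allRange_spec e8Slctok_20_50622 r (by omega) c27
  by_cases c28 : r < 50754
  · exact allRange_spec e8Slctok_20_50688 r (by omega) c28
  by_cases c29 : r < 50820
  · exact allRange_spec e8Slctok_20_50754 r (by omega) c29
  by_cases c30 : r < 50886
  · exact allRange_spec e8Slctok_20_50820 r (by omega) c30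
  by_cases c31 : r < 50952
  · exact allRange_spec e8Slctok_20_50886 r (by omega) c31
  by_cases c32 : r < 51018
  · exact allRange_spec e8Slctok_20_50952 r (by omega) c32
  by_cases c33 : r < 51084
  · exact allRange_spec e8Slctok_20_51018 r (by omega) c33
  by_cases c34 : r < 51150
  · exact allRange_spec e8Slctok_20_51084 r (by omega) c34
  by_cases c35 : r < 51216
  · exact allRange_spec e8Slctok_20_51150 r (by omega) c35
  exact allRange_spec e8Slctok_20_51216 r (by omega) h2

end Cfsg.Agent.Lib.Helper3.ChevM
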