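import Cfsg.Prelude.Def_ChevE8
import Cfsg.Agent.Lib.Helper3.ChevData.E8Slct
import Cfsg.Agent.Lib.Helper3.StS3
set_option autoImplicit false
set_option maxRecDepth 1000000
set_option Elab.async false

namespace Cfsg.Agent.Lib.Helper3.ChevM
open Cfsg.Agent.Lib.Helper3.StS

theorem e8Slctok_22_53724 : allRange 53724 53790 ((fun k => ctOK Cfsg.Lie.chevE8 sctE8 (k / 240) (k % 240))) = true := by decide +kernel
theorem e8Slctok_22_53790 : allRange 53790 53856 ((fun k => ctOK Cfsg.Lie.chevE8 sctE8 (k / 240) (k % 240))) = true := by decide +kernel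
theorem e8Slctok_22_53856 : allRange 53856 53922 ((fun k => ctOK Cfsg.Lie.chevE8 sctE8 (k / 240) (k % 240))) = true := by decide +kernel
theorem e8Slctok_22_53922 : allRange 53922 53988 ((fun k => ctOK Cfsg.Lie.chevE8 sctE8 (k / 240) (k % 240))) = true := by decide +kernel
theorem e8Slctok_22_53988 : allRange 53988 54054 ((fun k => ctOK Cfsg.Lie.chevE8 sctE8 (k / 240) (k % 240))) = true := by decide +kernel
theorem e8Slctok_22_54054 : allRange 54054 54120 ((fun k => ctOK Cfsg.Lie.chevE8 sctE8 (k / 240) (k % 240))) = true := by decide +kernel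
theorem e8Slctok_22_54120 : allRange 54120 54186 ((fun k => ctOK Cfsg.Lie.chevE8 sctE8 (k / 240) (k % 240))) = true := by decide +kernel
theorem e8Slctok_22_54186 : allRange 54186 54252 ((fun k => ctOK Cfsg.Lie.chevE8 sctE8 (k / 240) (k % 240))) = true := by decide +kernel
theorem e8Slctok_22_54252 : allRange 54252 54318 ((fun k => ctOK Cfsg.Lie.chevE8 sctE8 (k / 240) (k % 240))) = true := by decide +kernel
theorem e8Slctok_22_54318 : allRange 54318 54384 ((fun k => ctOK Cfsg.Lie.chevE8 sctE8 (k / 240) (k % 240))) = true := by decide +kernel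
theorem e8Slctok_22_54384 : allRange 54384 54450 ((fun k => ctOK Cfsg.Lie.chevE8 sctE8 (k / 240) (k % 240))) = true := by decide +kernel
theorem e8Slctok_22_54450 : allRange 54450 54516 ((fun k => ctOK Cfsg.Lie.chevE8 sctE8 (k / 240) (k % 240))) = true := by decide +kernel
theorem e8Slctok_22_54516 : allRange 54516 54582 ((fun k => ctOK Cfsg.Lie.chevE8 sctE8 (k / 240) (k % 240))) = true := by decide +kernel
theorem e8Slctok_22_54582 : allRange 54582 54648 ((fun k => ctOK Cfsg.Lie.chevE8 sctE8 (k / 240) (k % 240))) = true := by decide +kernel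
theorem e8Slctok_22_54648 : allRange 54648 54714 ((fun k => ctOK Cfsg.Lie.chevE8 sctE8 (k / 240) (k % 240))) = true := by decide +kernel
theorem e8Slctok_22_54714 : allRange 54714 54780 ((fun k => ctOK Cfsg.Lie.chevE8 sctE8 (k / 240) (k % 240))) = true := by decide +kernel
theorem e8Slctok_22_54780 : allRange 54780 54846 ((fun k => ctOK Cfsg.Lie.chevE8 sctE8 (k / 240) (k % 240))) = true := by decide +kernel
theorem e8Slctok_22_54846 : allRange 54846 54912 ((fun k => ctOK Cfsg.Lie.chevE8 sctE8 (k / 240) (k % 240))) = true := by decide +kernel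
theorem e8Slctok_22_54912 : allRange 54912 54978 ((fun k => ctOK Cfsg.Lie.chevE8 sctE8 (k / 240) (k % 240))) = true := by decide +kernel
theorem e8Slctok_22_54978 : allRange 54978 55044 ((fun k => ctOK Cfsg.Lie.chevE8 sctE8 (k / 240) (k % 240))) = true := by decide +kernel
theorem e8Slctok_22_55044 : allRange 55044 55110 ((fun k => ctOK Cfsg.Lie.chevE8 sctE8 (k / 240) (k % 240))) = true := by decide +kernel
theorem e8Slctok_22_55110 : allRange 55110 55176 ((fun k => ctOK Cfsg.Lie.chevE8 sctE8 (k / 240) (k % 240))) = true := by decide +kernel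
theorem e8Slctok_22_55176 : allRange 55176 55242 ((fun k => ctOK Cfsg.Lie.chevE8 sctE8 (k / 240) (k % 240))) = true := by decide +kernel
theorem e8Slctok_22_55242 : allRange 55242 55308 ((fun k => ctOK Cfsg.Lie.chevE8 sctE8 (k / 240) (k % 240))) = true := by decide +kernel
theorem e8Slctok_22_55308 : allRange 55308 55374 ((fun k => ctOK Cfsg.Lie.chevE8 sctE8 (k / 240) (k % 240))) = true := by decide +kernel
theorem e8Slctok_22_55374 : allRange 55374 55440 ((fun k => ctOK Cfsg.Lie.chevE8 sctE8 (k / 240) (k % 240))) = true := by decide +kernel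
theorem e8Slctok_22_55440 : allRange 55440 55506 ((fun k => ctOK Cfsg.Lie.chevE8 sctE8 (k / 240) (k % 240))) = true := by decide +kernel
theorem e8Slctok_22_55506 : allRange 55506 55572 ((fun k => ctOK Cfsg.Lie.chevE8 sctE8 (k / 240) (k % 240))) = true := by decide +kernel
theorem e8Slctok_22_55572 : allRange 55572 55638 ((fun k => ctOK Cfsg.Lie.chevE8 sctE8 (k / 240) (k % 240))) = true := by decide +kernel
theorem e8Slctok_22_55638 : allRange 55638 55704 ((fun k => ctOK Cfsg.Lie.chevE8 sctE8 (k / 240) (k % 240))) = true := by decide +kernel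
theorem e8Slctok_22_55704 : allRange 55704 55770 ((fun k => ctOK Cfsg.Lie.chevE8 sctE8 (k / 240) (k % 240))) = true := by decide +kernel
theorem e8Slctok_22_55770 : allRange 55770 55836 ((fun k => ctOK Cfsg.Lie.chevE8 sctE8 (k / 240) (k % 240))) = true := by decide +kernel
theorem e8Slctok_22_55836 : allRange 55836 55902 ((fun k => ctOK Cfsg.Lie.chevE8 sctE8 (k / 240) (k % 240))) = true := by decide +kernel
theorem e8Slctok_22_55902 : allRange 55902 55968 ((fun k => ctOK Cfsg.Lie.chevE8 sctE8 (k / 240) (k % 240))) = true := by decide +kernel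
theorem e8Slctok_22_55968 : allRange 55968 56034 ((fun k => ctOK Cfsg.Lie.chevE8 sctE8 (k / 240) (k % 240))) = true := by decide +kernel
theorem e8Slctok_22_56034 : allRange 56034 56100 ((fun k => ctOK Cfsg.Lie.chevE8 sctE8 (k / 240) (k % 240))) = true := by decide +kernel
theorem e8Slctok_22_56100 : allRange 56100 56166 ((fun k => ctOK Cfsg.Lie.chevE8 sctE8 (k / 240) (k % 240))) = true := by decide +kernel

/-- The compiled table of sums of roots of type E8 agrees with the terms of the commutator formula (roots 53724 to 56165). -/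
theorem e8Slctok_22 : ∀ r, 53724 ≤ r → r < 56166 → ((fun k => ctOK Cfsg.Lie.chevE8 sctE8 (k / 240) (k % 240))) r = true := by
  intro r h1 h2
  by_cases c0 : r < 53790
  · exact allRange_spec e8Slctok_22_53724 r (by omega) c0
  by_cases c1 : r < 53856
  · exact allRange_spec e8Slctok_22_53790 r (by omega) c1
  by_cases c2 : r < 53922
  · exact allRange_spec e8Slctok_22_53856 r (by omega) c2
  by_cases c3 : r < 53988
  · exact allRange_spec e8Slctok_22_53922 r (by omega) c3
  by_cases c4 : r < 54054
  · exact allRange_spec e8Slctok_22_53988 r (by omega) c4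
  by_cases c5 : r < 54120
  · exact allRange_spec e8Slctok_22_54054 r (by omega) c5
  by_cases c6 : r < 54186
  · exact allRange_spec e8Slctok_22_54120 r (by omega) c6
  by_cases c7 : r < 54252
  · exact allRange_spec e8Slctok_22_54186 r (by omega) c7
  by_cases c8 : r < 54318
  · exact allRange_spec e8Slctok_22_54252 r (by omega) c8
  by_cases c9 : r < 54384
  · exact allRange_spec e8Slctok_22_54318 r (by omega) c9
  by_cases c10 : r < 54450
  · exact allRange_spec e8Slctok_22_54384 r (by omega) c10
  by_cases c11 : r < 54516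
  · exact allRange_spec e8Slctok_22_54450 r (by omega) c11
  by_cases c12 : r < 54582
  · exact allRange_spec e8Slctok_22_54516 r (by omega) c12
  by_cases c13 : r < 54648
  · exact allRange_spec e8Slctok_22_54582 r (by omega) c13
  by_cases c14 : r < 54714
  · exact allRange_spec e8Slctok_22_54648 r (by omega) c14
  by_cases c15 : r < 54780
  · exact allRange_spec e8Slctok_22_54714 r (by omega) c15
  by_cases c16 : r < 54846
  · exact allRange_spec e8Slctok_22_54780 r (by omega) c16
  by_cases c17 : r < 54912
  · exact allRange_spec e8Slctok_22_54846 r (by omega) c17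
  by_cases c18 : r < 54978
  · exact allRange_spec e8Slctok_22_54912 r (by omega) c18
  by_cases c19 : r < 55044
  · exact allRange_spec e8Slctok_22_54978 r (by omega) c19
  by_cases c20 : r < 55110
  · exact allRange_spec e8Slctok_22_55044 r (by omega) c20
  by_cases c21 : r < 55176
  · exact allRange_spec e8Slctok_22_55110 r (by omega) c21
  by_cases c22 : r < 55242
  · exact allRange_spec e8Slctok_22_55176 r (by omega) c22
  by_cases c23 : r < 55308
  · exact allRange_spec e8Slctok_22_55242 r (by omega) c23
  by_cases c24 : r < 55374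
  · exact allRange_spec e8Slctok_22_55308 r (by omega) c24
  by_cases c25 : r < 55440
  · exact allRange_spec e8Slctok_22_55374 r (by omega) c25
  by_cases c26 : r < 55506
  · exact allRange_spec e8Slctok_22_55440 r (by omega) c26
  by_cases c27 : r < 55572
  · exact allRange_spec e8Slctok_22_55506 r (by omega) c27
  by_cases c28 : r < 55638
  · exact allRange_spec e8Slctok_22_55572 r (by omega) c28
  by_cases c29 : r < 55704
  · exact allRange_spec e8Slctok_22_55638 r (by omega) c29
  by_cases c30 : r < 55770
  · exact allRange_spec e8Slctok_22_55704 r (by omega) c30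
  by_cases c31 : r < 55836
  · exact allRange_spec e8Slctok_22_55770 r (by omega) c31
  by_cases c32 : r < 55902
  · exact allRange_spec e8Slctok_22_55836 r (by omega) c32
  by_cases c33 : r < 55968
  · exact allRange_spec e8Slctok_22_55902 r (by omega) c33
  by_cases c34 : r < 56034
  · exact allRange_spec e8Slctok_22_55968 r (by omega) c34
  by_cases c35 : r < 56100
  · exact allRange_spec e8Slctok_22_56034 r (by omega) c35
  exact allRange_spec e8Slctok_22_56100 r (by omega) h2

end Cfsg.Agent.Lib.Helper3.ChevM
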