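import Cfsg.Prelude.Def_ChevE8
import Cfsg.Agent.Lib.Helper3.ChevData.E8Slct
import Cfsg.Agent.Lib.Helper3.StS3
set_option autoImplicit false
set_option maxRecDepth 1000000
set_option Elab.async false

namespace Cfsg.Agent.Lib.Helper3.ChevM
open Cfsg.Agent.Lib.Helper3.StS

theorem e8Slctok_23_56166 : allRange 56166 56232 ((fun k => ctOK Cfsg.Lie.chevE8 sctE8 (k / 240) (k % 240))) = true := by decide +kernel
theorem e8Slctok_23_56232 : allRange 56232 56298 ((fun k => ctOK Cfsg.Lie.chevE8 sctE8 (k / 240) (k % 240))) = true := by decide +kernel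
theorem e8Slctok_23_56298 : allRange 56298 56364 ((fun k => ctOK Cfsg.Lie.chevE8 sctE8 (k / 240) (k % 240))) = true := by decide +kernel
theorem e8Slctok_23_56364 : allRange 56364 56430 ((fun k => ctOK Cfsg.Lie.chevE8 sctE8 (k / 240) (k % 240))) = true := by decide +kernel
theorem e8Slctok_23_56430 : allRange 56430 56496 ((fun k => ctOK Cfsg.Lie.chevE8 sctE8 (k / 240) (k % 240))) = true := by decide +kernel
theorem e8Slctok_23_56496 : allRange 56496 56562 ((fun k => ctOK Cfsg.Lie.chevE8 sctE8 (k / 240) (k % 240))) = true := by decide +kernel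
theorem e8Slctok_23_56562 : allRange 56562 56628 ((fun k => ctOK Cfsg.Lie.chevE8 sctE8 (k / 240) (k % 240))) = true := by decide +kernel
theorem e8Slctok_23_56628 : allRange 56628 56694 ((fun k => ctOK Cfsg.Lie.chevE8 sctE8 (k / 240) (k % 240))) = true := by decide +kernel
theorem e8Slctok_23_56694 : allRange 56694 56760 ((fun k => ctOK Cfsg.Lie.chevE8 sctE8 (k / 240) (k % 240))) = true := by decide +kernel
theorem e8Slctok_23_56760 : allRange 56760 56826 ((fun k => ctOK Cfsg.Lie.chevE8 sctE8 (k / 240) (k % 240))) = true := by decide +kernel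
theorem e8Slctok_23_56826 : allRange 56826 56892 ((fun k => ctOK Cfsg.Lie.chevE8 sctE8 (k / 240) (k % 240))) = true := by decide +kernel
theorem e8Slctok_23_56892 : allRange 56892 56958 ((fun k => ctOK Cfsg.Lie.chevE8 sctE8 (k / 240) (k % 240))) = true := by decide +kernel
theorem e8Slctok_23_56958 : allRange 56958 57024 ((fun k => ctOK Cfsg.Lie.chevE8 sctE8 (k / 240) (k % 240))) = true := by decide +kernel
theorem e8Slctok_23_57024 : allRange 57024 57090 ((fun k => ctOK Cfsg.Lie.chevE8 sctE8 (k / 240) (k % 240))) = true := by decide +kernel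
theorem e8Slctok_23_57090 : allRange 57090 57156 ((fun k => ctOK Cfsg.Lie.chevE8 sctE8 (k / 240) (k % 240))) = true := by decide +kernel
theorem e8Slctok_23_57156 : allRange 57156 57222 ((fun k => ctOK Cfsg.Lie.chevE8 sctE8 (k / 240) (k % 240))) = true := by decide +kernel
theorem e8Slctok_23_57222 : allRange 57222 57288 ((fun k => ctOK Cfsg.Lie.chevE8 sctE8 (k / 240) (k % 240))) = true := by decide +kernel
theorem e8Slctok_23_57288 : allRange 57288 57354 ((fun k => ctOK Cfsg.Lie.chevE8 sctE8 (k / 240) (k % 240))) = true := by decide +kernel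
theorem e8Slctok_23_57354 : allRange 57354 57420 ((fun k => ctOK Cfsg.Lie.chevE8 sctE8 (k / 240) (k % 240))) = true := by decide +kernel
theorem e8Slctok_23_57420 : allRange 57420 57486 ((fun k => ctOK Cfsg.Lie.chevE8 sctE8 (k / 240) (k % 240))) = true := by decide +kernel
theorem e8Slctok_23_57486 : allRange 57486 57552 ((fun k => ctOK Cfsg.Lie.chevE8 sctE8 (k / 240) (k % 240))) = true := by decide +kernel
theorem e8Slctok_23_57552 : allRange 57552 57600 ((fun k => ctOK Cfsg.Lie.chevE8 sctE8 (k / 240) (k % 240))) = true := by decide +kernel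

/-- The compiled table of sums of roots of type E8 agrees with the terms of the commutator formula (roots 56166 to 57599). -/
theorem e8Slctok_23 : ∀ r, 56166 ≤ r → r < 57600 → ((fun k => ctOK Cfsg.Lie.chevE8 sctE8 (k / 240) (k % 240))) r = true := by
  intro r h1 h2
  by_cases c0 : r < 56232
  · exact allRange_spec e8Slctok_23_56166 r (by omega) c0
  by_cases c1 : r < 56298
  · exact allRange_spec e8Slctok_23_56232 r (by omega) c1
  by_cases c2 : r < 56364
  · exact allRange_spec e8Slctok_23_56298 r (by omega) c2
  by_cases c3 : r < 56430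
  · exact allRange_spec e8Slctok_23_56364 r (by omega) c3
  by_cases c4 : r < 56496
  · exact allRange_spec e8Slctok_23_56430 r (by omega) c4
  by_cases c5 : r < 56562
  · exact allRange_spec e8Slctok_23_56496 r (by omega) c5
  by_cases c6 : r < 56628
  · exact allRange_spec e8Slctok_23_56562 r (by omega) c6
  by_cases c7 : r < 56694
  · exact allRange_spec e8Slctok_23_56628 r (by omega) c7
  by_cases c8 : r < 56760
  · exact allRange_spec e8Slctok_23_56694 r (by omega) c8
  by_cases c9 : r < 56826
  · exact allRange_spec e8Slctok_23_56760 r (by omega) c9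
  by_cases c10 : r < 56892
  · exact allRange_spec e8Slctok_23_56826 r (by omega) c10
  by_cases c11 : r < 56958
  · exact allRange_spec e8Slctok_23_56892 r (by omega) c11
  by_cases c12 : r < 57024
  · exact allRange_spec e8Slctok_23_56958 r (by omega) c12
  by_cases c13 : r < 57090
  · exact allRange_spec e8Slctok_23_57024 r (by omega) c13
  by_cases c14 : r < 57156
  · exact allRange_spec e8Slctok_23_57090 r (by omega) c14
  by_cases c15 : r < 57222
  · exact allRange_spec e8Slctok_23_57156 r (by omega) c15
  by_cases c16 : r < 57288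
  · exact allRange_spec e8Slctok_23_57222 r (by omega) c16
  by_cases c17 : r < 57354
  · exact allRange_spec e8Slctok_23_57288 r (by omega) c17
  by_cases c18 : r < 57420
  · exact allRange_spec e8Slctok_23_57354 r (by omega) c18
  by_cases c19 : r < 57486
  · exact allRange_spec e8Slctok_23_57420 r (by omega) c19
  by_cases c20 : r < 57552
  · exact allRange_spec e8Slctok_23_57486 r (by omega) c20
  exact allRange_spec e8Slctok_23_57552 r (by omega) h2

end Cfsg.Agent.Lib.Helper3.ChevM
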