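import Cfsg.Agent.Lib.Helper3.ChevData.E8SlctokA
import Cfsg.Agent.Lib.Helper3.ChevData.E8SlctokB
import Cfsg.Agent.Lib.Helper3.ChevData.E8SlctokC
import Cfsg.Agent.Lib.Helper3.ChevData.E8SlctokD
import Cfsg.Agent.Lib.Helper3.ChevData.E8SlctokE
import Cfsg.Agent.Lib.Helper3.ChevData.E8SlctokF
import Cfsg.Agent.Lib.Helper3.ChevData.E8SlctokG
import Cfsg.Agent.Lib.Helper3.ChevData.E8SlctokH
import Cfsg.Agent.Lib.Helper3.ChevData.E8SlctokI
import Cfsg.Agent.Lib.Helper3.ChevData.E8SlctokJ
import Cfsg.Agent.Lib.Helper3.ChevData.E8SlctokK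
import Cfsg.Agent.Lib.Helper3.ChevData.E8SlctokL
import Cfsg.Agent.Lib.Helper3.ChevData.E8SlctokM
import Cfsg.Agent.Lib.Helper3.ChevData.E8SlctokN
import Cfsg.Agent.Lib.Helper3.ChevData.E8SlctokO
import Cfsg.Agent.Lib.Helper3.ChevData.E8SlctokP
import Cfsg.Agent.Lib.Helper3.ChevData.E8SlctokQ
import Cfsg.Agent.Lib.Helper3.ChevData.E8SlctokR
import Cfsg.Agent.Lib.Helper3.ChevData.E8SlctokS
import Cfsg.Agent.Lib.Helper3.ChevData.E8SlctokT
import Cfsg.Agent.Lib.Helper3.ChevData.E8SlctokU
import Cfsg.Agent.Lib.Helper3.ChevData.E8SlctokV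
import Cfsg.Agent.Lib.Helper3.ChevData.E8SlctokW
import Cfsg.Agent.Lib.Helper3.ChevData.E8SlctokX
set_option autoImplicit false

namespace Cfsg.Agent.Lib.Helper3.ChevM
open Cfsg.Agent.Lib.Helper3.StS

/-- The compiled table of sums of roots of type E8 agrees with the terms of the commutator formula. -/
theorem e8Slctok : ∀ r < 57600, ((fun k => ctOK Cfsg.Lie.chevE8 sctE8 (k / 240) (k % 240))) r = true := by
  intro r hr
  by_cases h0 : r < 2442
  · exact e8Slctok_0 r (by omega) h0
  by_cases h1 : r < 4884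
  · exact e8Slctok_1 r (by omega) h1
  by_cases h2 : r < 7326
  · exact e8Slctok_2 r (by omega) h2
  by_cases h3 : r < 9768
  · exact e8Slctok_3 r (by omega) h3
  by_cases h4 : r < 12210
  · exact e8Slctok_4 r (by omega) h4
  by_cases h5 : r < 14652
  · exact e8Slctok_5 r (by omega) h5
  by_cases h6 : r < 17094
  · exact e8Slctok_6 r (by omega) h6
  by_cases h7 : r < 19536
  · exact e8Slctok_7 r (by omega) h7
  by_cases h8 : r < 21978
  · exact e8Slctok_8 r (by omega) h8
  by_cases h9 : r < 24420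
  · exact e8Slctok_9 r (by omega) h9
  by_cases h10 : r < 26862
  · exact e8Slctok_10 r (by omega) h10
  by_cases h11 : r < 29304
  · exact e8Slctok_11 r (by omega) h11
  by_cases h12 : r < 31746
  · exact e8Slctok_12 r (by omega) h12
  by_cases h13 : r < 34188
  · exact e8Slctok_13 r (by omega) h13
  by_cases h14 : r < 36630
  · exact e8Slctok_14 r (by omega) h14
  by_cases h15 : r < 39072
  · exact e8Slctok_15 r (by omega) h15
  by_cases h16 : r < 41514
  · exact e8Slctok_16 r (by omega) h16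
  by_cases h17 : r < 43956
  · exact e8Slctok_17 r (by omega) h17
  by_cases h18 : r < 46398
  · exact e8Slctok_18 r (by omega) h18
  by_cases h19 : r < 48840
  · exact e8Slctok_19 r (by omega) h19
  by_cases h20 : r < 51282
  · exact e8Slctok_20 r (by omega) h20
  by_cases h21 : r < 53724
  · exact e8Slctok_21 r (by omega) h21
  by_cases h22 : r < 56166
  · exact e8Slctok_22 r (by omega) h22
  exact e8Slctok_23 r (by omega) hr

end Cfsg.Agent.Lib.Helper3.ChevM
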