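import Cfsg.Prelude.Def_ChevE8
import Cfsg.Agent.Lib.Helper3.ChevData.E8Slct
import Cfsg.Agent.Lib.Helper3.StS3
set_option autoImplicit false
set_option maxRecDepth 1000000
set_option Elab.async false

namespace Cfsg.Agent.Lib.Helper3.ChevM
open Cfsg.Agent.Lib.Helper3.StS

theorem e8Slctok_10_24420 : allRange 24420 24486 ((fun k => ctOK Cfsg.Lie.chevE8 sctE8 (k / 240) (k % 240))) = true := by decide +kernel
theorem e8Slctok_10_24486 : allRange 24486 24552 ((fun k => ctOK Cfsg.Lie.chevE8 sctE8 (k / 240) (k % 240))) = true := by decide +kernel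
theorem e8Slctok_10_24552 : allRange 24552 24618 ((fun k => ctOK Cfsg.Lie.chevE8 sctE8 (k / 240) (k % 240))) = true := by decide +kernel
theorem e8Slctok_10_24618 : allRange 24618 24684 ((fun k => ctOK Cfsg.Lie.chevE8 sctE8 (k / 240) (k % 240))) = true := by decide +kernel
theorem e8Slctok_10_24684 : allRange 24684 24750 ((fun k => ctOK Cfsg.Lie.chevE8 sctE8 (k / 240) (k % 240))) = true := by decide +kernel
theorem e8Slctok_10_24750 : allRange 24750 24816 ((fun k => ctOK Cfsg.Lie.chevE8 sctE8 (k / 240) (k % 240))) = true := by decide +kernel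
theorem e8Slctok_10_24816 : allRange 24816 24882 ((fun k => ctOK Cfsg.Lie.chevE8 sctE8 (k / 240) (k % 240))) = true := by decide +kernel
theorem e8Slctok_10_24882 : allRange 24882 24948 ((fun k => ctOK Cfsg.Lie.chevE8 sctE8 (k / 240) (k % 240))) = true := by decide +kernel
theorem e8Slctok_10_24948 : allRange 24948 25014 ((fun k => ctOK Cfsg.Lie.chevE8 sctE8 (k / 240) (k % 240))) = true := by decide +kernel
theorem e8Slctok_10_25014 : allRange 25014 25080 ((fun k => ctOK Cfsg.Lie.chevE8 sctE8 (k / 240) (k % 240))) = true := by decide +kernel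
theorem e8Slctok_10_25080 : allRange 25080 25146 ((fun k => ctOK Cfsg.Lie.chevE8 sctE8 (k / 240) (k % 240))) = true := by decide +kernel
theorem e8Slctok_10_25146 : allRange 25146 25212 ((fun k => ctOK Cfsg.Lie.chevE8 sctE8 (k / 240) (k % 240))) = true := by decide +kernel
theorem e8Slctok_10_25212 : allRange 25212 25278 ((fun k => ctOK Cfsg.Lie.chevE8 sctE8 (k / 240) (k % 240))) = true := by decide +kernel
theorem e8Slctok_10_25278 : allRange 25278 25344 ((fun k => ctOK Cfsg.Lie.chevE8 sctE8 (k / 240) (k % 240))) = true := by decide +kernel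
theorem e8Slctok_10_25344 : allRange 25344 25410 ((fun k => ctOK Cfsg.Lie.chevE8 sctE8 (k / 240) (k % 240))) = true := by decide +kernel
theorem e8Slctok_10_25410 : allRange 25410 25476 ((fun k => ctOK Cfsg.Lie.chevE8 sctE8 (k / 240) (k % 240))) = true := by decide +kernel
theorem e8Slctok_10_25476 : allRange 25476 25542 ((fun k => ctOK Cfsg.Lie.chevE8 sctE8 (k / 240) (k % 240))) = true := by decide +kernel
theorem e8Slctok_10_25542 : allRange 25542 25608 ((fun k => ctOK Cfsg.Lie.chevE8 sctE8 (k / 240) (k % 240))) = true := by decide +kernel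
theorem e8Slctok_10_25608 : allRange 25608 25674 ((fun k => ctOK Cfsg.Lie.chevE8 sctE8 (k / 240) (k % 240))) = true := by decide +kernel
theorem e8Slctok_10_25674 : allRange 25674 25740 ((fun k => ctOK Cfsg.Lie.chevE8 sctE8 (k / 240) (k % 240))) = true := by decide +kernel
theorem e8Slctok_10_25740 : allRange 25740 25806 ((fun k => ctOK Cfsg.Lie.chevE8 sctE8 (k / 240) (k % 240))) = true := by decide +kernel
theorem e8Slctok_10_25806 : allRange 25806 25872 ((fun k => ctOK Cfsg.Lie.chevE8 sctE8 (k / 240) (k % 240))) = true := by decide +kernel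
theorem e8Slctok_10_25872 : allRange 25872 25938 ((fun k => ctOK Cfsg.Lie.chevE8 sctE8 (k / 240) (k % 240))) = true := by decide +kernel
theorem e8Slctok_10_25938 : allRange 25938 26004 ((fun k => ctOK Cfsg.Lie.chevE8 sctE8 (k / 240) (k % 240))) = true := by decide +kernel
theorem e8Slctok_10_26004 : allRange 26004 26070 ((fun k => ctOK Cfsg.Lie.chevE8 sctE8 (k / 240) (k % 240))) = true := by decide +kernel
theorem e8Slctok_10_26070 : allRange 26070 26136 ((fun k => ctOK Cfsg.Lie.chevE8 sctE8 (k / 240) (k % 240))) = true := by decide +kernel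
theorem e8Slctok_10_26136 : allRange 26136 26202 ((fun k => ctOK Cfsg.Lie.chevE8 sctE8 (k / 240) (k % 240))) = true := by decide +kernel
theorem e8Slctok_10_26202 : allRange 26202 26268 ((fun k => ctOK Cfsg.Lie.chevE8 sctE8 (k / 240) (k % 240))) = true := by decide +kernel
theorem e8Slctok_10_26268 : allRange 26268 26334 ((fun k => ctOK Cfsg.Lie.chevE8 sctE8 (k / 240) (k % 240))) = true := by decide +kernel
theorem e8Slctok_10_26334 : allRange 26334 26400 ((fun k => ctOK Cfsg.Lie.chevE8 sctE8 (k / 240) (k % 240))) = true := by decide +kernel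
theorem e8Slctok_10_26400 : allRange 26400 26466 ((fun k => ctOK Cfsg.Lie.chevE8 sctE8 (k / 240) (k % 240))) = true := by decide +kernel
theorem e8Slctok_10_26466 : allRange 26466 26532 ((fun k => ctOK Cfsg.Lie.chevE8 sctE8 (k / 240) (k % 240))) = true := by decide +kernel
theorem e8Slctok_10_26532 : allRange 26532 26598 ((fun k => ctOK Cfsg.Lie.chevE8 sctE8 (k / 240) (k % 240))) = true := by decide +kernel
theorem e8Slctok_10_26598 : allRange 26598 26664 ((fun k => ctOK Cfsg.Lie.chevE8 sctE8 (k / 240) (k % 240))) = true := by decide +kernel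
theorem e8Slctok_10_26664 : allRange 26664 26730 ((fun k => ctOK Cfsg.Lie.chevE8 sctE8 (k / 240) (k % 240))) = true := by decide +kernel
theorem e8Slctok_10_26730 : allRange 26730 26796 ((fun k => ctOK Cfsg.Lie.chevE8 sctE8 (k / 240) (k % 240))) = true := by decide +kernel
theorem e8Slctok_10_26796 : allRange 26796 26862 ((fun k => ctOK Cfsg.Lie.chevE8 sctE8 (k / 240) (k % 240))) = true := by decide +kernel

/-- The compiled table of sums of roots of type E8 agrees with the terms of the commutator formula (roots 24420 to 26861). -/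
theorem e8Slctok_10 : ∀ r, 24420 ≤ r → r < 26862 → ((fun k => ctOK Cfsg.Lie.chevE8 sctE8 (k / 240) (k % 240))) r = true := by
  intro r h1 h2
  by_cases c0 : r < 24486
  · exact allRange_spec e8Slctok_10_24420 r (by omega) c0
  by_cases c1 : r < 24552
  · exact allRange_spec e8Slctok_10_24486 r (by omega) c1
  by_cases c2 : r < 24618
  · exact allRange_spec e8Slctok_10_24552 r (by omega) c2
  by_cases c3 : r < 24684
  · exact allRange_spec e8Slctok_10_24618 r (by omega) c3
  by_cases c4 : r < 24750
  · exact allRange_spec e8Slctok_10_24684 r (by omega) c4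
  by_cases c5 : r < 24816
  · exact allRange_spec e8Slctok_10_24750 r (by omega) c5
  by_cases c6 : r < 24882
  · exact allRange_spec e8Slctok_10_24816 r (by omega) c6
  by_cases c7 : r < 24948
  · exact allRange_spec e8Slctok_10_24882 r (by omega) c7
  by_cases c8 : r < 25014
  · exact allRange_spec e8Slctok_10_24948 r (by omega) c8
  by_cases c9 : r < 25080
  · exact allRange_spec e8Slctok_10_25014 r (by omega) c9
  by_cases c10 : r < 25146
  · exact allRange_spec e8Slctok_10_25080 r (by omega) c10
  by_cases c11 : r < 25212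
  · exact allRange_spec e8Slctok_10_25146 r (by omega) c11
  by_cases c12 : r < 25278
  · exact allRange_spec e8Slctok_10_25212 r (by omega) c12
  by_cases c13 : r < 25344
  · exact allRange_spec e8Slctok_10_25278 r (by omega) c13
  by_cases c14 : r < 25410
  · exact allRange_spec e8Slctok_10_25344 r (by omega) c14
  by_cases c15 : r < 25476
  · exact allRange_spec e8Slctok_10_25410 r (by omega) c15
  by_cases c16 : r < 25542
  · exact allRange_spec e8Slctok_10_25476 r (by omega) c16
  by_cases c17 : r < 25608
  · exact allRange_spec e8Slctok_10_25542 r (by omega) c17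
  by_cases c18 : r < 25674
  · exact allRange_spec e8Slctok_10_25608 r (by omega) c18
  by_cases c19 : r < 25740
  · exact allRange_spec e8Slctok_10_25674 r (by omega) c19
  by_cases c20 : r < 25806
  · exact allRange_spec e8Slctok_10_25740 r (by omega) c20
  by_cases c21 : r < 25872
  · exact allRange_spec e8Slctok_10_25806 r (by omega) c21
  by_cases c22 : r < 25938
  · exact allRange_spec e8Slctok_10_25872 r (by omega) c22
  by_cases c23 : r < 26004
  · exact allRange_spec e8Slctok_10_25938 r (by omega) c23
  by_cases c24 : r < 26070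
  · exact allRange_spec e8Slctok_10_26004 r (by omega) c24
  by_cases c25 : r < 26136
  · exact allRange_spec e8Slctok_10_26070 r (by omega) c25
  by_cases c26 : r < 26202
  · exact allRange_spec e8Slctok_10_26136 r (by omega) c26
  by_cases c27 : r < 26268
  · exact allRange_spec e8Slctok_10_26202 r (by omega) c27
  by_cases c28 : r < 26334
  · exact allRange_spec e8Slctok_10_26268 r (by omega) c28
  by_cases c29 : r < 26400
  · exact allRange_spec e8Slctok_10_26334 r (by omega) c29
  by_cases c30 : r < 26466
  · exact allRange_spec e8Slctok_10_26400 r (by omega) c30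
  by_cases c31 : r < 26532
  · exact allRange_spec e8Slctok_10_26466 r (by omega) c31
  by_cases c32 : r < 26598
  · exact allRange_spec e8Slctok_10_26532 r (by omega) c32
  by_cases c33 : r < 26664
  · exact allRange_spec e8Slctok_10_26598 r (by omega) c33
  by_cases c34 : r < 26730
  · exact allRange_spec e8Slctok_10_26664 r (by omega) c34
  by_cases c35 : r < 26796
  · exact allRange_spec e8Slctok_10_26730 r (by omega) c35
  exact allRange_spec e8Slctok_10_26796 r (by omega) h2

end Cfsg.Agent.Lib.Helper3.ChevM
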