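import Cfsg.Prelude.Def_ChevE8
import Cfsg.Agent.Lib.Helper3.ChevData.E8Slct
import Cfsg.Agent.Lib.Helper3.StS3
set_option autoImplicit false
set_option maxRecDepth 1000000
set_option Elab.async false

namespace Cfsg.Agent.Lib.Helper3.ChevM
open Cfsg.Agent.Lib.Helper3.StS

theorem e8Slctok_21_51282 : allRange 51282 51348 ((fun k => ctOK Cfsg.Lie.chevE8 sctE8 (k / 240) (k % 240))) = true := by decide +kernel
theorem e8Slctok_21_51348 : allRange 51348 51414 ((fun k => ctOK Cfsg.Lie.chevE8 sctE8 (k / 240) (k % 240))) = true := by decide +kernel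
theorem e8Slctok_21_51414 : allRange 51414 51480 ((fun k => ctOK Cfsg.Lie.chevE8 sctE8 (k / 240) (k % 240))) = true := by decide +kernel
theorem e8Slctok_21_51480 : allRange 51480 51546 ((fun k => ctOK Cfsg.Lie.chevE8 sctE8 (k / 240) (k % 240))) = true := by decide +kernel
theorem e8Slctok_21_51546 : allRange 51546 51612 ((fun k => ctOK Cfsg.Lie.chevE8 sctE8 (k / 240) (k % 240))) = true := by decide +kernel
theorem e8Slctok_21_51612 : allRange 51612 51678 ((fun k => ctOK Cfsg.Lie.chevE8 sctE8 (k / 240) (k % 240))) = true := by decide +kernel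
theorem e8Slctok_21_51678 : allRange 51678 51744 ((fun k => ctOK Cfsg.Lie.chevE8 sctE8 (k / 240) (k % 240))) = true := by decide +kernel
theorem e8Slctok_21_51744 : allRange 51744 51810 ((fun k => ctOK Cfsg.Lie.chevE8 sctE8 (k / 240) (k % 240))) = true := by decide +kernel
theorem e8Slctok_21_51810 : allRange 51810 51876 ((fun k => ctOK Cfsg.Lie.chevE8 sctE8 (k / 240) (k % 240))) = true := by decide +kernel
theorem e8Slctok_21_51876 : allRange 51876 51942 ((fun k => ctOK Cfsg.Lie.chevE8 sctE8 (k / 240) (k % 240))) = true := by decide +kernel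
theorem e8Slctok_21_51942 : allRange 51942 52008 ((fun k => ctOK Cfsg.Lie.chevE8 sctE8 (k / 240) (k % 240))) = true := by decide +kernel
theorem e8Slctok_21_52008 : allRange 52008 52074 ((fun k => ctOK Cfsg.Lie.chevE8 sctE8 (k / 240) (k % 240))) = true := by decide +kernel
theorem e8Slctok_21_52074 : allRange 52074 52140 ((fun k => ctOK Cfsg.Lie.chevE8 sctE8 (k / 240) (k % 240))) = true := by decide +kernel
theorem e8Slctok_21_52140 : allRange 52140 52206 ((fun k => ctOK Cfsg.Lie.chevE8 sctE8 (k / 240) (k % 240))) = true := by decide +kernel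
theorem e8Slctok_21_52206 : allRange 52206 52272 ((fun k => ctOK Cfsg.Lie.chevE8 sctE8 (k / 240) (k % 240))) = true := by decide +kernel
theorem e8Slctok_21_52272 : allRange 52272 52338 ((fun k => ctOK Cfsg.Lie.chevE8 sctE8 (k / 240) (k % 240))) = true := by decide +kernel
theorem e8Slctok_21_52338 : allRange 52338 52404 ((fun k => ctOK Cfsg.Lie.chevE8 sctE8 (k / 240) (k % 240))) = true := by decide +kernel
theorem e8Slctok_21_52404 : allRange 52404 52470 ((fun k => ctOK Cfsg.Lie.chevE8 sctE8 (k / 240) (k % 240))) = true := by decide +kernel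
theorem e8Slctok_21_52470 : allRange 52470 52536 ((fun k => ctOK Cfsg.Lie.chevE8 sctE8 (k / 240) (k % 240))) = true := by decide +kernel
theorem e8Slctok_21_52536 : allRange 52536 52602 ((fun k => ctOK Cfsg.Lie.chevE8 sctE8 (k / 240) (k % 240))) = true := by decide +kernel
theorem e8Slctok_21_52602 : allRange 52602 52668 ((fun k => ctOK Cfsg.Lie.chevE8 sctE8 (k / 240) (k % 240))) = true := by decide +kernel
theorem e8Slctok_21_52668 : allRange 52668 52734 ((fun k => ctOK Cfsg.Lie.chevE8 sctE8 (k / 240) (k % 240))) = true := by decide +kernel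
theorem e8Slctok_21_52734 : allRange 52734 52800 ((fun k => ctOK Cfsg.Lie.chevE8 sctE8 (k / 240) (k % 240))) = true := by decide +kernel
theorem e8Slctok_21_52800 : allRange 52800 52866 ((fun k => ctOK Cfsg.Lie.chevE8 sctE8 (k / 240) (k % 240))) = true := by decide +kernel
theorem e8Slctok_21_52866 : allRange 52866 52932 ((fun k => ctOK Cfsg.Lie.chevE8 sctE8 (k / 240) (k % 240))) = true := by decide +kernel
theorem e8Slctok_21_52932 : allRange 52932 52998 ((fun k => ctOK Cfsg.Lie.chevE8 sctE8 (k / 240) (k % 240))) = true := by decide +kernel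
theorem e8Slctok_21_52998 : allRange 52998 53064 ((fun k => ctOK Cfsg.Lie.chevE8 sctE8 (k / 240) (k % 240))) = true := by decide +kernel
theorem e8Slctok_21_53064 : allRange 53064 53130 ((fun k => ctOK Cfsg.Lie.chevE8 sctE8 (k / 240) (k % 240))) = true := by decide +kernel
theorem e8Slctok_21_53130 : allRange 53130 53196 ((fun k => ctOK Cfsg.Lie.chevE8 sctE8 (k / 240) (k % 240))) = true := by decide +kernel
theorem e8Slctok_21_53196 : allRange 53196 53262 ((fun k => ctOK Cfsg.Lie.chevE8 sctE8 (k / 240) (k % 240))) = true := by decide +kernel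
theorem e8Slctok_21_53262 : allRange 53262 53328 ((fun k => ctOK Cfsg.Lie.chevE8 sctE8 (k / 240) (k % 240))) = true := by decide +kernel
theorem e8Slctok_21_53328 : allRange 53328 53394 ((fun k => ctOK Cfsg.Lie.chevE8 sctE8 (k / 240) (k % 240))) = true := by decide +kernel
theorem e8Slctok_21_53394 : allRange 53394 53460 ((fun k => ctOK Cfsg.Lie.chevE8 sctE8 (k / 240) (k % 240))) = true := by decide +kernel
theorem e8Slctok_21_53460 : allRange 53460 53526 ((fun k => ctOK Cfsg.Lie.chevE8 sctE8 (k / 240) (k % 240))) = true := by decide +kernel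
theorem e8Slctok_21_53526 : allRange 53526 53592 ((fun k => ctOK Cfsg.Lie.chevE8 sctE8 (k / 240) (k % 240))) = true := by decide +kernel
theorem e8Slctok_21_53592 : allRange 53592 53658 ((fun k => ctOK Cfsg.Lie.chevE8 sctE8 (k / 240) (k % 240))) = true := by decide +kernel
theorem e8Slctok_21_53658 : allRange 53658 53724 ((fun k => ctOK Cfsg.Lie.chevE8 sctE8 (k / 240) (k % 240))) = true := by decide +kernel

/-- The compiled table of sums of roots of type E8 agrees with the terms of the commutator formula (roots 51282 to 53723). -/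
theorem e8Slctok_21 : ∀ r, 51282 ≤ r → r < 53724 → ((fun k => ctOK Cfsg.Lie.chevE8 sctE8 (k / 240) (k % 240))) r = true := by
  intro r h1 h2
  by_cases c0 : r < 51348
  · exact allRange_spec e8Slctok_21_51282 r (by omega) c0
  by_cases c1 : r < 51414
  · exact allRange_spec e8Slctok_21_51348 r (by omega) c1
  by_cases c2 : r < 51480
  · exact allRange_spec e8Slctok_21_51414 r (by omega) c2
  by_cases c3 : r < 51546
  · exact allRange_spec e8Slctok_21_51480 r (by omega) c3
  by_cases c4 : r < 51612
  · exact allRange_spec e8Slctok_21_51546 r (by omega) c4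
  by_cases c5 : r < 51678
  · exact allRange_spec e8Slctok_21_51612 r (by omega) c5
  by_cases c6 : r < 51744
  · exact allRange_spec e8Slctok_21_51678 r (by omega) c6
  by_cases c7 : r < 51810
  · exact allRange_spec e8Slctok_21_51744 r (by omega) c7
  by_cases c8 : r < 51876
  · exact allRange_spec e8Slctok_21_51810 r (by omega) c8
  by_cases c9 : r < 51942
  · exact allRange_spec e8Slctok_21_51876 r (by omega) c9
  by_cases c10 : r < 52008
  · exact allRange_spec e8Slctok_21_51942 r (by omega) c10
  by_cases c11 : r < 52074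
  · exact allRange_spec e8Slctok_21_52008 r (by omega) c11
  by_cases c12 : r < 52140
  · exact allRange_spec e8Slctok_21_52074 r (by omega) c12
  by_cases c13 : r < 52206
  · exact allRange_spec e8Slctok_21_52140 r (by omega) c13
  by_cases c14 : r < 52272
  · exact allRange_spec e8Slctok_21_52206 r (by omega) c14
  by_cases c15 : r < 52338
  · exact allRange_spec e8Slctok_21_52272 r (by omega) c15
  by_cases c16 : r < 52404
  · exact allRange_spec e8Slctok_21_52338 r (by omega) c16
  by_cases c17 : r < 52470
  · exact allRange_spec e8Slctok_21_52404 r (by omega) c17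
  by_cases c18 : r < 52536
  · exact allRange_spec e8Slctok_21_52470 r (by omega) c18
  by_cases c19 : r < 52602
  · exact allRange_spec e8Slctok_21_52536 r (by omega) c19
  by_cases c20 : r < 52668
  · exact allRange_spec e8Slctok_21_52602 r (by omega) c20
  by_cases c21 : r < 52734
  · exact allRange_spec e8Slctok_21_52668 r (by omega) c21
  by_cases c22 : r < 52800
  · exact allRange_spec e8Slctok_21_52734 r (by omega) c22
  by_cases c23 : r < 52866
  · exact allRange_spec e8Slctok_21_52800 r (by omega) c23
  by_cases c24 : r < 52932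
  · exact allRange_spec e8Slctok_21_52866 r (by omega) c24
  by_cases c25 : r < 52998
  · exact allRange_spec e8Slctok_21_52932 r (by omega) c25
  by_cases c26 : r < 53064
  · exact allRange_spec e8Slctok_21_52998 r (by omega) c26
  by_cases c27 : r < 53130
  · exact allRange_spec e8Slctok_21_53064 r (by omega) c27
  by_cases c28 : r < 53196
  · exact allRange_spec e8Slctok_21_53130 r (by omega) c28
  by_cases c29 : r < 53262
  · exact allRange_spec e8Slctok_21_53196 r (by omega) c29
  by_cases c30 : r < 53328
  · exact allRange_spec e8Slctok_21_53262 r (by omega) c30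
  by_cases c31 : r < 53394
  · exact allRange_spec e8Slctok_21_53328 r (by omega) c31
  by_cases c32 : r < 53460
  · exact allRange_spec e8Slctok_21_53394 r (by omega) c32
  by_cases c33 : r < 53526
  · exact allRange_spec e8Slctok_21_53460 r (by omega) c33
  by_cases c34 : r < 53592
  · exact allRange_spec e8Slctok_21_53526 r (by omega) c34
  by_cases c35 : r < 53658
  · exact allRange_spec e8Slctok_21_53592 r (by omega) c35
  exact allRange_spec e8Slctok_21_53658 r (by omega) h2

end Cfsg.Agent.Lib.Helper3.ChevM
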