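import Cfsg.Prelude.Def_ChevE8
import Cfsg.Agent.Lib.Helper3.ChevData.E8Slct
import Cfsg.Agent.Lib.Helper3.ChevData.E8Slnb
import Cfsg.Agent.Lib.Helper3.StS3
set_option autoImplicit false
set_option maxRecDepth 1000000
set_option Elab.async false

namespace Cfsg.Agent.Lib.Helper3.ChevM
open Cfsg.Agent.Lib.Helper3.StS

theorem e8Sldec_1_5920 : allRange 5920 6080 ((fun k => decOK Cfsg.Lie.chevE8 sctE8 snbE8 (k / 240) (k % 240))) = true := by decide +kernel
theorem e8Sldec_1_6080 : allRange 6080 6240 ((fun k => decOK Cfsg.Lie.chevE8 sctE8 snbE8 (k / 240) (k % 240))) = true := by decide +kernel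
theorem e8Sldec_1_6240 : allRange 6240 6400 ((fun k => decOK Cfsg.Lie.chevE8 sctE8 snbE8 (k / 240) (k % 240))) = true := by decide +kernel
theorem e8Sldec_1_6400 : allRange 6400 6560 ((fun k => decOK Cfsg.Lie.chevE8 sctE8 snbE8 (k / 240) (k % 240))) = true := by decide +kernel
theorem e8Sldec_1_6560 : allRange 6560 6720 ((fun k => decOK Cfsg.Lie.chevE8 sctE8 snbE8 (k / 240) (k % 240))) = true := by decide +kernel
theorem e8Sldec_1_6720 : allRange 6720 6880 ((fun k => decOK Cfsg.Lie.chevE8 sctE8 snbE8 (k / 240) (k % 240))) = true := by decide +kernel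
theorem e8Sldec_1_6880 : allRange 6880 7040 ((fun k => decOK Cfsg.Lie.chevE8 sctE8 snbE8 (k / 240) (k % 240))) = true := by decide +kernel
theorem e8Sldec_1_7040 : allRange 7040 7200 ((fun k => decOK Cfsg.Lie.chevE8 sctE8 snbE8 (k / 240) (k % 240))) = true := by decide +kernel
theorem e8Sldec_1_7200 : allRange 7200 7360 ((fun k => decOK Cfsg.Lie.chevE8 sctE8 snbE8 (k / 240) (k % 240))) = true := by decide +kernel
theorem e8Sldec_1_7360 : allRange 7360 7520 ((fun k => decOK Cfsg.Lie.chevE8 sctE8 snbE8 (k / 240) (k % 240))) = true := by decide +kernel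
theorem e8Sldec_1_7520 : allRange 7520 7680 ((fun k => decOK Cfsg.Lie.chevE8 sctE8 snbE8 (k / 240) (k % 240))) = true := by decide +kernel
theorem e8Sldec_1_7680 : allRange 7680 7840 ((fun k => decOK Cfsg.Lie.chevE8 sctE8 snbE8 (k / 240) (k % 240))) = true := by decide +kernel
theorem e8Sldec_1_7840 : allRange 7840 8000 ((fun k => decOK Cfsg.Lie.chevE8 sctE8 snbE8 (k / 240) (k % 240))) = true := by decide +kernel
theorem e8Sldec_1_8000 : allRange 8000 8160 ((fun k => decOK Cfsg.Lie.chevE8 sctE8 snbE8 (k / 240) (k % 240))) = true := by decide +kernel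
theorem e8Sldec_1_8160 : allRange 8160 8320 ((fun k => decOK Cfsg.Lie.chevE8 sctE8 snbE8 (k / 240) (k % 240))) = true := by decide +kernel
theorem e8Sldec_1_8320 : allRange 8320 8480 ((fun k => decOK Cfsg.Lie.chevE8 sctE8 snbE8 (k / 240) (k % 240))) = true := by decide +kernel
theorem e8Sldec_1_8480 : allRange 8480 8640 ((fun k => decOK Cfsg.Lie.chevE8 sctE8 snbE8 (k / 240) (k % 240))) = true := by decide +kernel
theorem e8Sldec_1_8640 : allRange 8640 8800 ((fun k => decOK Cfsg.Lie.chevE8 sctE8 snbE8 (k / 240) (k % 240))) = true := by decide +kernel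
theorem e8Sldec_1_8800 : allRange 8800 8960 ((fun k => decOK Cfsg.Lie.chevE8 sctE8 snbE8 (k / 240) (k % 240))) = true := by decide +kernel
theorem e8Sldec_1_8960 : allRange 8960 9120 ((fun k => decOK Cfsg.Lie.chevE8 sctE8 snbE8 (k / 240) (k % 240))) = true := by decide +kernel
theorem e8Sldec_1_9120 : allRange 9120 9280 ((fun k => decOK Cfsg.Lie.chevE8 sctE8 snbE8 (k / 240) (k % 240))) = true := by decide +kernel
theorem e8Sldec_1_9280 : allRange 9280 9440 ((fun k => decOK Cfsg.Lie.chevE8 sctE8 snbE8 (k / 240) (k % 240))) = true := by decide +kernel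
theorem e8Sldec_1_9440 : allRange 9440 9600 ((fun k => decOK Cfsg.Lie.chevE8 sctE8 snbE8 (k / 240) (k % 240))) = true := by decide +kernel
theorem e8Sldec_1_9600 : allRange 9600 9760 ((fun k => decOK Cfsg.Lie.chevE8 sctE8 snbE8 (k / 240) (k % 240))) = true := by decide +kernel
theorem e8Sldec_1_9760 : allRange 9760 9920 ((fun k => decOK Cfsg.Lie.chevE8 sctE8 snbE8 (k / 240) (k % 240))) = true := by decide +kernel
theorem e8Sldec_1_9920 : allRange 9920 10080 ((fun k => decOK Cfsg.Lie.chevE8 sctE8 snbE8 (k / 240) (k % 240))) = true := by decide +kernel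
theorem e8Sldec_1_10080 : allRange 10080 10240 ((fun k => decOK Cfsg.Lie.chevE8 sctE8 snbE8 (k / 240) (k % 240))) = true := by decide +kernel
theorem e8Sldec_1_10240 : allRange 10240 10400 ((fun k => decOK Cfsg.Lie.chevE8 sctE8 snbE8 (k / 240) (k % 240))) = true := by decide +kernel
theorem e8Sldec_1_10400 : allRange 10400 10560 ((fun k => decOK Cfsg.Lie.chevE8 sctE8 snbE8 (k / 240) (k % 240))) = true := by decide +kernel
theorem e8Sldec_1_10560 : allRange 10560 10720 ((fun k => decOK Cfsg.Lie.chevE8 sctE8 snbE8 (k / 240) (k % 240))) = true := by decide +kernel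
theorem e8Sldec_1_10720 : allRange 10720 10880 ((fun k => decOK Cfsg.Lie.chevE8 sctE8 snbE8 (k / 240) (k % 240))) = true := by decide +kernel
theorem e8Sldec_1_10880 : allRange 10880 11040 ((fun k => decOK Cfsg.Lie.chevE8 sctE8 snbE8 (k / 240) (k % 240))) = true := by decide +kernel
theorem e8Sldec_1_11040 : allRange 11040 11200 ((fun k => decOK Cfsg.Lie.chevE8 sctE8 snbE8 (k / 240) (k % 240))) = true := by decide +kernel
theorem e8Sldec_1_11200 : allRange 11200 11360 ((fun k => decOK Cfsg.Lie.chevE8 sctE8 snbE8 (k / 240) (k % 240))) = true := by decide +kernel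
theorem e8Sldec_1_11360 : allRange 11360 11520 ((fun k => decOK Cfsg.Lie.chevE8 sctE8 snbE8 (k / 240) (k % 240))) = true := by decide +kernel
theorem e8Sldec_1_11520 : allRange 11520 11680 ((fun k => decOK Cfsg.Lie.chevE8 sctE8 snbE8 (k / 240) (k % 240))) = true := by decide +kernel
theorem e8Sldec_1_11680 : allRange 11680 11840 ((fun k => decOK Cfsg.Lie.chevE8 sctE8 snbE8 (k / 240) (k % 240))) = true := by decide +kernel

/-- Decompositions of the roots of type E8: linked decompositions (roots 5920 to 11839). -/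
theorem e8Sldec_1 : ∀ r, 5920 ≤ r → r < 11840 → ((fun k => decOK Cfsg.Lie.chevE8 sctE8 snbE8 (k / 240) (k % 240))) r = true := by
  intro r h1 h2
  by_cases c0 : r < 6080
  · exact allRange_spec e8Sldec_1_5920 r (by omega) c0
  by_cases c1 : r < 6240
  · exact allRange_spec e8Sldec_1_6080 r (by omega) c1
  by_cases c2 : r < 6400
  · exact allRange_spec e8Sldec_1_6240 r (by omega) c2
  by_cases c3 : r < 6560
  · exact allRange_spec e8Sldec_1_6400 r (by omega) c3
  by_cases c4 : r < 6720
  · exact allRange_spec e8Sldec_1_6560 r (by omega) c4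
  by_cases c5 : r < 6880
  · exact allRange_spec e8Sldec_1_6720 r (by omega) c5
  by_cases c6 : r < 7040
  · exact allRange_spec e8Sldec_1_6880 r (by omega) c6
  by_cases c7 : r < 7200
  · exact allRange_spec e8Sldec_1_7040 r (by omega) c7
  by_cases c8 : r < 7360
  · exact allRange_spec e8Sldec_1_7200 r (by omega) c8
  by_cases c9 : r < 7520
  · exact allRange_spec e8Sldec_1_7360 r (by omega) c9
  by_cases c10 : r < 7680
  · exact allRange_spec e8Sldec_1_7520 r (by omega) c10
  by_cases c11 : r < 7840
  · exact allRange_spec e8Sldec_1_7680 r (by omega) c11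
  by_cases c12 : r < 8000
  · exact allRange_spec e8Sldec_1_7840 r (by omega) c12
  by_cases c13 : r < 8160
  · exact allRange_spec e8Sldec_1_8000 r (by omega) c13
  by_cases c14 : r < 8320
  · exact allRange_spec e8Sldec_1_8160 r (by omega) c14
  by_cases c15 : r < 8480
  · exact allRange_spec e8Sldec_1_8320 r (by omega) c15
  by_cases c16 : r < 8640
  · exact allRange_spec e8Sldec_1_8480 r (by omega) c16
  by_cases c17 : r < 8800
  · exact allRange_spec e8Sldec_1_8640 r (by omega) c17
  by_cases c18 : r < 8960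
  · exact allRange_spec e8Sldec_1_8800 r (by omega) c18
  by_cases c19 : r < 9120
  · exact allRange_spec e8Sldec_1_8960 r (by omega) c19
  by_cases c20 : r < 9280
  · exact allRange_spec e8Sldec_1_9120 r (by omega) c20
  by_cases c21 : r < 9440
  · exact allRange_spec e8Sldec_1_9280 r (by omega) c21
  by_cases c22 : r < 9600
  · exact allRange_spec e8Sldec_1_9440 r (by omega) c22
  by_cases c23 : r < 9760
  · exact allRange_spec e8Sldec_1_9600 r (by omega) c23
  by_cases c24 : r < 9920
  · exact allRange_spec e8Sldec_1_9760 r (by omega) c24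
  by_cases c25 : r < 10080
  · exact allRange_spec e8Sldec_1_9920 r (by omega) c25
  by_cases c26 : r < 10240
  · exact allRange_spec e8Sldec_1_10080 r (by omega) c26
  by_cases c27 : r < 10400
  · exact allRange_spec e8Sldec_1_10240 r (by omega) c27
  by_cases c28 : r < 10560
  · exact allRange_spec e8Sldec_1_10400 r (by omega) c28
  by_cases c29 : r < 10720
  · exact allRange_spec e8Sldec_1_10560 r (by omega) c29
  by_cases c30 : r < 10880
  · exact allRange_spec e8Sldec_1_10720 r (by omega) c30
  by_cases c31 : r < 11040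
  · exact allRange_spec e8Sldec_1_10880 r (by omega) c31
  by_cases c32 : r < 11200
  · exact allRange_spec e8Sldec_1_11040 r (by omega) c32
  by_cases c33 : r < 11360
  · exact allRange_spec e8Sldec_1_11200 r (by omega) c33
  by_cases c34 : r < 11520
  · exact allRange_spec e8Sldec_1_11360 r (by omega) c34
  by_cases c35 : r < 11680
  · exact allRange_spec e8Sldec_1_11520 r (by omega) c35
  exact allRange_spec e8Sldec_1_11680 r (by omega) h2

end Cfsg.Agent.Lib.Helper3.ChevM
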