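import Cfsg.Prelude.Def_ChevE8
import Cfsg.Agent.Lib.Helper3.ChevData.E8Slct
import Cfsg.Agent.Lib.Helper3.ChevData.E8Slnb
import Cfsg.Agent.Lib.Helper3.StS3
set_option autoImplicit false
set_option maxRecDepth 1000000
set_option Elab.async false

namespace Cfsg.Agent.Lib.Helper3.ChevM
open Cfsg.Agent.Lib.Helper3.StS

theorem e8Sldec_6_35520 : allRange 35520 35680 ((fun k => decOK Cfsg.Lie.chevE8 sctE8 snbE8 (k / 240) (k % 240))) = true := by decide +kernel
theorem e8Sldec_6_35680 : allRange 35680 35840 ((fun k => decOK Cfsg.Lie.chevE8 sctE8 snbE8 (k / 240) (k % 240))) = true := by decide +kernel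
theorem e8Sldec_6_35840 : allRange 35840 36000 ((fun k => decOK Cfsg.Lie.chevE8 sctE8 snbE8 (k / 240) (k % 240))) = true := by decide +kernel
theorem e8Sldec_6_36000 : allRange 36000 36160 ((fun k => decOK Cfsg.Lie.chevE8 sctE8 snbE8 (k / 240) (k % 240))) = true := by decide +kernel
theorem e8Sldec_6_36160 : allRange 36160 36320 ((fun k => decOK Cfsg.Lie.chevE8 sctE8 snbE8 (k / 240) (k % 240))) = true := by decide +kernel
theorem e8Sldec_6_36320 : allRange 36320 36480 ((fun k => decOK Cfsg.Lie.chevE8 sctE8 snbE8 (k / 240) (k % 240))) = true := by decide +kernel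
theorem e8Sldec_6_36480 : allRange 36480 36640 ((fun k => decOK Cfsg.Lie.chevE8 sctE8 snbE8 (k / 240) (k % 240))) = true := by decide +kernel
theorem e8Sldec_6_36640 : allRange 36640 36800 ((fun k => decOK Cfsg.Lie.chevE8 sctE8 snbE8 (k / 240) (k % 240))) = true := by decide +kernel
theorem e8Sldec_6_36800 : allRange 36800 36960 ((fun k => decOK Cfsg.Lie.chevE8 sctE8 snbE8 (k / 240) (k % 240))) = true := by decide +kernel
theorem e8Sldec_6_36960 : allRange 36960 37120 ((fun k => decOK Cfsg.Lie.chevE8 sctE8 snbE8 (k / 240) (k % 240))) = true := by decide +kernel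
theorem e8Sldec_6_37120 : allRange 37120 37280 ((fun k => decOK Cfsg.Lie.chevE8 sctE8 snbE8 (k / 240) (k % 240))) = true := by decide +kernel
theorem e8Sldec_6_37280 : allRange 37280 37440 ((fun k => decOK Cfsg.Lie.chevE8 sctE8 snbE8 (k / 240) (k % 240))) = true := by decide +kernel
theorem e8Sldec_6_37440 : allRange 37440 37600 ((fun k => decOK Cfsg.Lie.chevE8 sctE8 snbE8 (k / 240) (k % 240))) = true := by decide +kernel
theorem e8Sldec_6_37600 : allRange 37600 37760 ((fun k => decOK Cfsg.Lie.chevE8 sctE8 snbE8 (k / 240) (k % 240))) = true := by decide +kernel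
theorem e8Sldec_6_37760 : allRange 37760 37920 ((fun k => decOK Cfsg.Lie.chevE8 sctE8 snbE8 (k / 240) (k % 240))) = true := by decide +kernel
theorem e8Sldec_6_37920 : allRange 37920 38080 ((fun k => decOK Cfsg.Lie.chevE8 sctE8 snbE8 (k / 240) (k % 240))) = true := by decide +kernel
theorem e8Sldec_6_38080 : allRange 38080 38240 ((fun k => decOK Cfsg.Lie.chevE8 sctE8 snbE8 (k / 240) (k % 240))) = true := by decide +kernel
theorem e8Sldec_6_38240 : allRange 38240 38400 ((fun k => decOK Cfsg.Lie.chevE8 sctE8 snbE8 (k / 240) (k % 240))) = true := by decide +kernel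
theorem e8Sldec_6_38400 : allRange 38400 38560 ((fun k => decOK Cfsg.Lie.chevE8 sctE8 snbE8 (k / 240) (k % 240))) = true := by decide +kernel
theorem e8Sldec_6_38560 : allRange 38560 38720 ((fun k => decOK Cfsg.Lie.chevE8 sctE8 snbE8 (k / 240) (k % 240))) = true := by decide +kernel
theorem e8Sldec_6_38720 : allRange 38720 38880 ((fun k => decOK Cfsg.Lie.chevE8 sctE8 snbE8 (k / 240) (k % 240))) = true := by decide +kernel
theorem e8Sldec_6_38880 : allRange 38880 39040 ((fun k => decOK Cfsg.Lie.chevE8 sctE8 snbE8 (k / 240) (k % 240))) = true := by decide +kernel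
theorem e8Sldec_6_39040 : allRange 39040 39200 ((fun k => decOK Cfsg.Lie.chevE8 sctE8 snbE8 (k / 240) (k % 240))) = true := by decide +kernel
theorem e8Sldec_6_39200 : allRange 39200 39360 ((fun k => decOK Cfsg.Lie.chevE8 sctE8 snbE8 (k / 240) (k % 240))) = true := by decide +kernel
theorem e8Sldec_6_39360 : allRange 39360 39520 ((fun k => decOK Cfsg.Lie.chevE8 sctE8 snbE8 (k / 240) (k % 240))) = true := by decide +kernel
theorem e8Sldec_6_39520 : allRange 39520 39680 ((fun k => decOK Cfsg.Lie.chevE8 sctE8 snbE8 (k / 240) (k % 240))) = true := by decide +kernel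
theorem e8Sldec_6_39680 : allRange 39680 39840 ((fun k => decOK Cfsg.Lie.chevE8 sctE8 snbE8 (k / 240) (k % 240))) = true := by decide +kernel
theorem e8Sldec_6_39840 : allRange 39840 40000 ((fun k => decOK Cfsg.Lie.chevE8 sctE8 snbE8 (k / 240) (k % 240))) = true := by decide +kernel
theorem e8Sldec_6_40000 : allRange 40000 40160 ((fun k => decOK Cfsg.Lie.chevE8 sctE8 snbE8 (k / 240) (k % 240))) = true := by decide +kernel
theorem e8Sldec_6_40160 : allRange 40160 40320 ((fun k => decOK Cfsg.Lie.chevE8 sctE8 snbE8 (k / 240) (k % 240))) = true := by decide +kernel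
theorem e8Sldec_6_40320 : allRange 40320 40480 ((fun k => decOK Cfsg.Lie.chevE8 sctE8 snbE8 (k / 240) (k % 240))) = true := by decide +kernel
theorem e8Sldec_6_40480 : allRange 40480 40640 ((fun k => decOK Cfsg.Lie.chevE8 sctE8 snbE8 (k / 240) (k % 240))) = true := by decide +kernel
theorem e8Sldec_6_40640 : allRange 40640 40800 ((fun k => decOK Cfsg.Lie.chevE8 sctE8 snbE8 (k / 240) (k % 240))) = true := by decide +kernel
theorem e8Sldec_6_40800 : allRange 40800 40960 ((fun k => decOK Cfsg.Lie.chevE8 sctE8 snbE8 (k / 240) (k % 240))) = true := by decide +kernel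
theorem e8Sldec_6_40960 : allRange 40960 41120 ((fun k => decOK Cfsg.Lie.chevE8 sctE8 snbE8 (k / 240) (k % 240))) = true := by decide +kernel
theorem e8Sldec_6_41120 : allRange 41120 41280 ((fun k => decOK Cfsg.Lie.chevE8 sctE8 snbE8 (k / 240) (k % 240))) = true := by decide +kernel
theorem e8Sldec_6_41280 : allRange 41280 41440 ((fun k => decOK Cfsg.Lie.chevE8 sctE8 snbE8 (k / 240) (k % 240))) = true := by decide +kernel

/-- Decompositions of the roots of type E8: linked decompositions (roots 35520 to 41439). -/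
theorem e8Sldec_6 : ∀ r, 35520 ≤ r → r < 41440 → ((fun k => decOK Cfsg.Lie.chevE8 sctE8 snbE8 (k / 240) (k % 240))) r = true := by
  intro r h1 h2
  by_cases c0 : r < 35680
  · exact allRange_spec e8Sldec_6_35520 r (by omega) c0
  by_cases c1 : r < 35840
  · exact allRange_spec e8Sldec_6_35680 r (by omega) c1
  by_cases c2 : r < 36000
  · exact allRange_spec e8Sldec_6_35840 r (by omega) c2
  by_cases c3 : r < 36160
  · exact allRange_spec e8Sldec_6_36000 r (by omega) c3
  by_cases c4 : r < 36320
  · exact allRange_spec e8Sldec_6_36160 r (by omega) c4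
  by_cases c5 : r < 36480
  · exact allRange_spec e8Sldec_6_36320 r (by omega) c5
  by_cases c6 : r < 36640
  · exact allRange_spec e8Sldec_6_36480 r (by omega) c6
  by_cases c7 : r < 36800
  · exact allRange_spec e8Sldec_6_36640 r (by omega) c7
  by_cases c8 : r < 36960
  · exact allRange_spec e8Sldec_6_36800 r (by omega) c8
  by_cases c9 : r < 37120
  · exact allRange_spec e8Sldec_6_36960 r (by omega) c9
  by_cases c10 : r < 37280
  · exact allRange_spec e8Sldec_6_37120 r (by omega) c10
  by_cases c11 : r < 37440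
  · exact allRange_spec e8Sldec_6_37280 r (by omega) c11
  by_cases c12 : r < 37600
  · exact allRange_spec e8Sldec_6_37440 r (by omega) c12
  by_cases c13 : r < 37760
  · exact allRange_spec e8Sldec_6_37600 r (by omega) c13
  by_cases c14 : r < 37920
  · exact allRange_spec e8Sldec_6_37760 r (by omega) c14
  by_cases c15 : r < 38080
  · exact allRange_spec e8Sldec_6_37920 r (by omega) c15
  by_cases c16 : r < 38240
  · exact allRange_spec e8Sldec_6_38080 r (by omega) c16
  by_cases c17 : r < 38400
  · exact allRange_spec e8Sldec_6_38240 r (by omega) c17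
  by_cases c18 : r < 38560
  · exact allRange_spec e8Sldec_6_38400 r (by omega) c18
  by_cases c19 : r < 38720
  · exact allRange_spec e8Sldec_6_38560 r (by omega) c19
  by_cases c20 : r < 38880
  · exact allRange_spec e8Sldec_6_38720 r (by omega) c20
  by_cases c21 : r < 39040
  · exact allRange_spec e8Sldec_6_38880 r (by omega) c21
  by_cases c22 : r < 39200
  · exact allRange_spec e8Sldec_6_39040 r (by omega) c22
  by_cases c23 : r < 39360
  · exact allRange_spec e8Sldec_6_39200 r (by omega) c23
  by_cases c24 : r < 39520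
  · exact allRange_spec e8Sldec_6_39360 r (by omega) c24
  by_cases c25 : r < 39680
  · exact allRange_spec e8Sldec_6_39520 r (by omega) c25
  by_cases c26 : r < 39840
  · exact allRange_spec e8Sldec_6_39680 r (by omega) c26
  by_cases c27 : r < 40000
  · exact allRange_spec e8Sldec_6_39840 r (by omega) c27
  by_cases c28 : r < 40160
  · exact allRange_spec e8Sldec_6_40000 r (by omega) c28
  by_cases c29 : r < 40320
  · exact allRange_spec e8Sldec_6_40160 r (by omega) c29
  by_cases c30 : r < 40480
  · exact allRange_spec e8Sldec_6_40320 r (by omega) c30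
  by_cases c31 : r < 40640
  · exact allRange_spec e8Sldec_6_40480 r (by omega) c31
  by_cases c32 : r < 40800
  · exact allRange_spec e8Sldec_6_40640 r (by omega) c32
  by_cases c33 : r < 40960
  · exact allRange_spec e8Sldec_6_40800 r (by omega) c33
  by_cases c34 : r < 41120
  · exact allRange_spec e8Sldec_6_40960 r (by omega) c34
  by_cases c35 : r < 41280
  · exact allRange_spec e8Sldec_6_41120 r (by omega) c35
  exact allRange_spec e8Sldec_6_41280 r (by omega) h2

end Cfsg.Agent.Lib.Helper3.ChevM
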