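import Cfsg.Agent.Lib.Helper3.ChevData.E8SldecA
import Cfsg.Agent.Lib.Helper3.ChevData.E8SldecB
import Cfsg.Agent.Lib.Helper3.ChevData.E8SldecC
import Cfsg.Agent.Lib.Helper3.ChevData.E8SldecD
import Cfsg.Agent.Lib.Helper3.ChevData.E8SldecE
import Cfsg.Agent.Lib.Helper3.ChevData.E8SldecF
import Cfsg.Agent.Lib.Helper3.ChevData.E8SldecG
import Cfsg.Agent.Lib.Helper3.ChevData.E8SldecH
import Cfsg.Agent.Lib.Helper3.ChevData.E8SldecI
import Cfsg.Agent.Lib.Helper3.ChevData.E8SldecJ
set_option autoImplicit false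

namespace Cfsg.Agent.Lib.Helper3.ChevM
open Cfsg.Agent.Lib.Helper3.StS

/-- Decompositions of the roots of type E8: linked decompositions. -/
theorem e8Sldec : ∀ r < 57600, ((fun k => decOK Cfsg.Lie.chevE8 sctE8 snbE8 (k / 240) (k % 240))) r = true := by
  intro r hr
  by_cases h0 : r < 5920
  · exact e8Sldec_0 r (by omega) h0
  by_cases h1 : r < 11840
  · exact e8Sldec_1 r (by omega) h1
  by_cases h2 : r < 17760
  · exact e8Sldec_2 r (by omega) h2
  by_cases h3 : r < 23680
  · exact e8Sldec_3 r (by omega) h3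
  by_cases h4 : r < 29600
  · exact e8Sldec_4 r (by omega) h4
  by_cases h5 : r < 35520
  · exact e8Sldec_5 r (by omega) h5
  by_cases h6 : r < 41440
  · exact e8Sldec_6 r (by omega) h6
  by_cases h7 : r < 47360
  · exact e8Sldec_7 r (by omega) h7
  by_cases h8 : r < 53280
  · exact e8Sldec_8 r (by omega) h8
  exact e8Sldec_9 r (by omega) hr

end Cfsg.Agent.Lib.Helper3.ChevM
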