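import Cfsg.Prelude.Def_ChevE8
import Cfsg.Agent.Lib.Helper3.ChevData.E8Slct
import Cfsg.Agent.Lib.Helper3.ChevData.E8Slnb
import Cfsg.Agent.Lib.Helper3.ChevData.E8Slhd
import Cfsg.Agent.Lib.Helper3.StS3
set_option autoImplicit false
set_option maxRecDepth 1000000
set_option Elab.async false

namespace Cfsg.Agent.Lib.Helper3.ChevM
open Cfsg.Agent.Lib.Helper3.StS

theorem e8Slhop_2_11840 : allRange 11840 12000 ((fun k => hopOK Cfsg.Lie.chevE8 sctE8 snbE8 sbaseE8 shsE8 sdistE8 (k / 240) (k % 240))) = true := by decide +kernel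
theorem e8Slhop_2_12000 : allRange 12000 12160 ((fun k => hopOK Cfsg.Lie.chevE8 sctE8 snbE8 sbaseE8 shsE8 sdistE8 (k / 240) (k % 240))) = true := by decide +kernel
theorem e8Slhop_2_12160 : allRange 12160 12320 ((fun k => hopOK Cfsg.Lie.chevE8 sctE8 snbE8 sbaseE8 shsE8 sdistE8 (k / 240) (k % 240))) = true := by decide +kernel
theorem e8Slhop_2_12320 : allRange 12320 12480 ((fun k => hopOK Cfsg.Lie.chevE8 sctE8 snbE8 sbaseE8 shsE8 sdistE8 (k / 240) (k % 240))) = true := by decide +kernel
theorem e8Slhop_2_12480 : allRange 12480 12640 ((fun k => hopOK Cfsg.Lie.chevE8 sctE8 snbE8 sbaseE8 shsE8 sdistE8 (k / 240) (k % 240))) = true := by decide +kernel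
theorem e8Slhop_2_12640 : allRange 12640 12800 ((fun k => hopOK Cfsg.Lie.chevE8 sctE8 snbE8 sbaseE8 shsE8 sdistE8 (k / 240) (k % 240))) = true := by decide +kernel
theorem e8Slhop_2_12800 : allRange 12800 12960 ((fun k => hopOK Cfsg.Lie.chevE8 sctE8 snbE8 sbaseE8 shsE8 sdistE8 (k / 240) (k % 240))) = true := by decide +kernel
theorem e8Slhop_2_12960 : allRange 12960 13120 ((fun k => hopOK Cfsg.Lie.chevE8 sctE8 snbE8 sbaseE8 shsE8 sdistE8 (k / 240) (k % 240))) = true := by decide +kernel
theorem e8Slhop_2_13120 : allRange 13120 13280 ((fun k => hopOK Cfsg.Lie.chevE8 sctE8 snbE8 sbaseE8 shsE8 sdistE8 (k / 240) (k % 240))) = true := by decide +kernel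
theorem e8Slhop_2_13280 : allRange 13280 13440 ((fun k => hopOK Cfsg.Lie.chevE8 sctE8 snbE8 sbaseE8 shsE8 sdistE8 (k / 240) (k % 240))) = true := by decide +kernel
theorem e8Slhop_2_13440 : allRange 13440 13600 ((fun k => hopOK Cfsg.Lie.chevE8 sctE8 snbE8 sbaseE8 shsE8 sdistE8 (k / 240) (k % 240))) = true := by decide +kernel
theorem e8Slhop_2_13600 : allRange 13600 13760 ((fun k => hopOK Cfsg.Lie.chevE8 sctE8 snbE8 sbaseE8 shsE8 sdistE8 (k / 240) (k % 240))) = true := by decide +kernel
theorem e8Slhop_2_13760 : allRange 13760 13920 ((fun k => hopOK Cfsg.Lie.chevE8 sctE8 snbE8 sbaseE8 shsE8 sdistE8 (k / 240) (k % 240))) = true := by decide +kernel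
theorem e8Slhop_2_13920 : allRange 13920 14080 ((fun k => hopOK Cfsg.Lie.chevE8 sctE8 snbE8 sbaseE8 shsE8 sdistE8 (k / 240) (k % 240))) = true := by decide +kernel
theorem e8Slhop_2_14080 : allRange 14080 14240 ((fun k => hopOK Cfsg.Lie.chevE8 sctE8 snbE8 sbaseE8 shsE8 sdistE8 (k / 240) (k % 240))) = true := by decide +kernel
theorem e8Slhop_2_14240 : allRange 14240 14400 ((fun k => hopOK Cfsg.Lie.chevE8 sctE8 snbE8 sbaseE8 shsE8 sdistE8 (k / 240) (k % 240))) = true := by decide +kernel
theorem e8Slhop_2_14400 : allRange 14400 14560 ((fun k => hopOK Cfsg.Lie.chevE8 sctE8 snbE8 sbaseE8 shsE8 sdistE8 (k / 240) (k % 240))) = true := by decide +kernel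
theorem e8Slhop_2_14560 : allRange 14560 14720 ((fun k => hopOK Cfsg.Lie.chevE8 sctE8 snbE8 sbaseE8 shsE8 sdistE8 (k / 240) (k % 240))) = true := by decide +kernel
theorem e8Slhop_2_14720 : allRange 14720 14880 ((fun k => hopOK Cfsg.Lie.chevE8 sctE8 snbE8 sbaseE8 shsE8 sdistE8 (k / 240) (k % 240))) = true := by decide +kernel
theorem e8Slhop_2_14880 : allRange 14880 15040 ((fun k => hopOK Cfsg.Lie.chevE8 sctE8 snbE8 sbaseE8 shsE8 sdistE8 (k / 240) (k % 240))) = true := by decide +kernel
theorem e8Slhop_2_15040 : allRange 15040 15200 ((fun k => hopOK Cfsg.Lie.chevE8 sctE8 snbE8 sbaseE8 shsE8 sdistE8 (k / 240) (k % 240))) = true := by decide +kernel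
theorem e8Slhop_2_15200 : allRange 15200 15360 ((fun k => hopOK Cfsg.Lie.chevE8 sctE8 snbE8 sbaseE8 shsE8 sdistE8 (k / 240) (k % 240))) = true := by decide +kernel
theorem e8Slhop_2_15360 : allRange 15360 15520 ((fun k => hopOK Cfsg.Lie.chevE8 sctE8 snbE8 sbaseE8 shsE8 sdistE8 (k / 240) (k % 240))) = true := by decide +kernel
theorem e8Slhop_2_15520 : allRange 15520 15680 ((fun k => hopOK Cfsg.Lie.chevE8 sctE8 snbE8 sbaseE8 shsE8 sdistE8 (k / 240) (k % 240))) = true := by decide +kernel
theorem e8Slhop_2_15680 : allRange 15680 15840 ((fun k => hopOK Cfsg.Lie.chevE8 sctE8 snbE8 sbaseE8 shsE8 sdistE8 (k / 240) (k % 240))) = true := by decide +kernel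
theorem e8Slhop_2_15840 : allRange 15840 16000 ((fun k => hopOK Cfsg.Lie.chevE8 sctE8 snbE8 sbaseE8 shsE8 sdistE8 (k / 240) (k % 240))) = true := by decide +kernel
theorem e8Slhop_2_16000 : allRange 16000 16160 ((fun k => hopOK Cfsg.Lie.chevE8 sctE8 snbE8 sbaseE8 shsE8 sdistE8 (k / 240) (k % 240))) = true := by decide +kernel
theorem e8Slhop_2_16160 : allRange 16160 16320 ((fun k => hopOK Cfsg.Lie.chevE8 sctE8 snbE8 sbaseE8 shsE8 sdistE8 (k / 240) (k % 240))) = true := by decide +kernel
theorem e8Slhop_2_16320 : allRange 16320 16480 ((fun k => hopOK Cfsg.Lie.chevE8 sctE8 snbE8 sbaseE8 shsE8 sdistE8 (k / 240) (k % 240))) = true := by decide +kernel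
theorem e8Slhop_2_16480 : allRange 16480 16640 ((fun k => hopOK Cfsg.Lie.chevE8 sctE8 snbE8 sbaseE8 shsE8 sdistE8 (k / 240) (k % 240))) = true := by decide +kernel
theorem e8Slhop_2_16640 : allRange 16640 16800 ((fun k => hopOK Cfsg.Lie.chevE8 sctE8 snbE8 sbaseE8 shsE8 sdistE8 (k / 240) (k % 240))) = true := by decide +kernel
theorem e8Slhop_2_16800 : allRange 16800 16960 ((fun k => hopOK Cfsg.Lie.chevE8 sctE8 snbE8 sbaseE8 shsE8 sdistE8 (k / 240) (k % 240))) = true := by decide +kernel
theorem e8Slhop_2_16960 : allRange 16960 17120 ((fun k => hopOK Cfsg.Lie.chevE8 sctE8 snbE8 sbaseE8 shsE8 sdistE8 (k / 240) (k % 240))) = true := by decide +kernel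
theorem e8Slhop_2_17120 : allRange 17120 17280 ((fun k => hopOK Cfsg.Lie.chevE8 sctE8 snbE8 sbaseE8 shsE8 sdistE8 (k / 240) (k % 240))) = true := by decide +kernel
theorem e8Slhop_2_17280 : allRange 17280 17440 ((fun k => hopOK Cfsg.Lie.chevE8 sctE8 snbE8 sbaseE8 shsE8 sdistE8 (k / 240) (k % 240))) = true := by decide +kernel
theorem e8Slhop_2_17440 : allRange 17440 17600 ((fun k => hopOK Cfsg.Lie.chevE8 sctE8 snbE8 sbaseE8 shsE8 sdistE8 (k / 240) (k % 240))) = true := by decide +kernel
theorem e8Slhop_2_17600 : allRange 17600 17760 ((fun k => hopOK Cfsg.Lie.chevE8 sctE8 snbE8 sbaseE8 shsE8 sdistE8 (k / 240) (k % 240))) = true := by decide +kernel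

/-- Decompositions of the roots of type E8: paths to the base decompositions (roots 11840 to 17759). -/
theorem e8Slhop_2 : ∀ r, 11840 ≤ r → r < 17760 → ((fun k => hopOK Cfsg.Lie.chevE8 sctE8 snbE8 sbaseE8 shsE8 sdistE8 (k / 240) (k % 240))) r = true := by
  intro r h1 h2
  by_cases c0 : r < 12000
  · exact allRange_spec e8Slhop_2_11840 r (by omega) c0
  by_cases c1 : r < 12160
  · exact allRange_spec e8Slhop_2_12000 r (by omega) c1
  by_cases c2 : r < 12320
  · exact allRange_spec e8Slhop_2_12160 r (by omega) c2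
  by_cases c3 : r < 12480
  · exact allRange_spec e8Slhop_2_12320 r (by omega) c3
  by_cases c4 : r < 12640
  · exact allRange_spec e8Slhop_2_12480 r (by omega) c4
  by_cases c5 : r < 12800
  · exact allRange_spec e8Slhop_2_12640 r (by omega) c5
  by_cases c6 : r < 12960
  · exact allRange_spec e8Slhop_2_12800 r (by omega) c6
  by_cases c7 : r < 13120
  · exact allRange_spec e8Slhop_2_12960 r (by omega) c7
  by_cases c8 : r < 13280
  · exact allRange_spec e8Slhop_2_13120 r (by omega) c8
  by_cases c9 : r < 13440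
  · exact allRange_spec e8Slhop_2_13280 r (by omega) c9
  by_cases c10 : r < 13600
  · exact allRange_spec e8Slhop_2_13440 r (by omega) c10
  by_cases c11 : r < 13760
  · exact allRange_spec e8Slhop_2_13600 r (by omega) c11
  by_cases c12 : r < 13920
  · exact allRange_spec e8Slhop_2_13760 r (by omega) c12
  by_cases c13 : r < 14080
  · exact allRange_spec e8Slhop_2_13920 r (by omega) c13
  by_cases c14 : r < 14240
  · exact allRange_spec e8Slhop_2_14080 r (by omega) c14
  by_cases c15 : r < 14400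
  · exact allRange_spec e8Slhop_2_14240 r (by omega) c15
  by_cases c16 : r < 14560
  · exact allRange_spec e8Slhop_2_14400 r (by omega) c16
  by_cases c17 : r < 14720
  · exact allRange_spec e8Slhop_2_14560 r (by omega) c17
  by_cases c18 : r < 14880
  · exact allRange_spec e8Slhop_2_14720 r (by omega) c18
  by_cases c19 : r < 15040
  · exact allRange_spec e8Slhop_2_14880 r (by omega) c19
  by_cases c20 : r < 15200
  · exact allRange_spec e8Slhop_2_15040 r (by omega) c20
  by_cases c21 : r < 15360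
  · exact allRange_spec e8Slhop_2_15200 r (by omega) c21
  by_cases c22 : r < 15520
  · exact allRange_spec e8Slhop_2_15360 r (by omega) c22
  by_cases c23 : r < 15680
  · exact allRange_spec e8Slhop_2_15520 r (by omega) c23
  by_cases c24 : r < 15840
  · exact allRange_spec e8Slhop_2_15680 r (by omega) c24
  by_cases c25 : r < 16000
  · exact allRange_spec e8Slhop_2_15840 r (by omega) c25
  by_cases c26 : r < 16160
  · exact allRange_spec e8Slhop_2_16000 r (by omega) c26
  by_cases c27 : r < 16320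
  · exact allRange_spec e8Slhop_2_16160 r (by omega) c27
  by_cases c28 : r < 16480
  · exact allRange_spec e8Slhop_2_16320 r (by omega) c28
  by_cases c29 : r < 16640
  · exact allRange_spec e8Slhop_2_16480 r (by omega) c29
  by_cases c30 : r < 16800
  · exact allRange_spec e8Slhop_2_16640 r (by omega) c30
  by_cases c31 : r < 16960
  · exact allRange_spec e8Slhop_2_16800 r (by omega) c31
  by_cases c32 : r < 17120
  · exact allRange_spec e8Slhop_2_16960 r (by omega) c32
  by_cases c33 : r < 17280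
  · exact allRange_spec e8Slhop_2_17120 r (by omega) c33
  by_cases c34 : r < 17440
  · exact allRange_spec e8Slhop_2_17280 r (by omega) c34
  by_cases c35 : r < 17600
  · exact allRange_spec e8Slhop_2_17440 r (by omega) c35
  exact allRange_spec e8Slhop_2_17600 r (by omega) h2

end Cfsg.Agent.Lib.Helper3.ChevM
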