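import Cfsg.Prelude.Def_ChevE8
import Cfsg.Agent.Lib.Helper3.ChevData.E8Slct
import Cfsg.Agent.Lib.Helper3.ChevData.E8Slnb
import Cfsg.Agent.Lib.Helper3.ChevData.E8Slhd
import Cfsg.Agent.Lib.Helper3.StS3
set_option autoImplicit false
set_option maxRecDepth 1000000
set_option Elab.async false

namespace Cfsg.Agent.Lib.Helper3.ChevM
open Cfsg.Agent.Lib.Helper3.StS

theorem e8Slhop_3_17760 : allRange 17760 17920 ((fun k => hopOK Cfsg.Lie.chevE8 sctE8 snbE8 sbaseE8 shsE8 sdistE8 (k / 240) (k % 240))) = true := by decide +kernel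
theorem e8Slhop_3_17920 : allRange 17920 18080 ((fun k => hopOK Cfsg.Lie.chevE8 sctE8 snbE8 sbaseE8 shsE8 sdistE8 (k / 240) (k % 240))) = true := by decide +kernel
theorem e8Slhop_3_18080 : allRange 18080 18240 ((fun k => hopOK Cfsg.Lie.chevE8 sctE8 snbE8 sbaseE8 shsE8 sdistE8 (k / 240) (k % 240))) = true := by decide +kernel
theorem e8Slhop_3_18240 : allRange 18240 18400 ((fun k => hopOK Cfsg.Lie.chevE8 sctE8 snbE8 sbaseE8 shsE8 sdistE8 (k / 240) (k % 240))) = true := by decide +kernel
theorem e8Slhop_3_18400 : allRange 18400 18560 ((fun k => hopOK Cfsg.Lie.chevE8 sctE8 snbE8 sbaseE8 shsE8 sdistE8 (k / 240) (k % 240))) = true := by decide +kernel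
theorem e8Slhop_3_18560 : allRange 18560 18720 ((fun k => hopOK Cfsg.Lie.chevE8 sctE8 snbE8 sbaseE8 shsE8 sdistE8 (k / 240) (k % 240))) = true := by decide +kernel
theorem e8Slhop_3_18720 : allRange 18720 18880 ((fun k => hopOK Cfsg.Lie.chevE8 sctE8 snbE8 sbaseE8 shsE8 sdistE8 (k / 240) (k % 240))) = true := by decide +kernel
theorem e8Slhop_3_18880 : allRange 18880 19040 ((fun k => hopOK Cfsg.Lie.chevE8 sctE8 snbE8 sbaseE8 shsE8 sdistE8 (k / 240) (k % 240))) = true := by decide +kernel
theorem e8Slhop_3_19040 : allRange 19040 19200 ((fun k => hopOK Cfsg.Lie.chevE8 sctE8 snbE8 sbaseE8 shsE8 sdistE8 (k / 240) (k % 240))) = true := by decide +kernel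
theorem e8Slhop_3_19200 : allRange 19200 19360 ((fun k => hopOK Cfsg.Lie.chevE8 sctE8 snbE8 sbaseE8 shsE8 sdistE8 (k / 240) (k % 240))) = true := by decide +kernel
theorem e8Slhop_3_19360 : allRange 19360 19520 ((fun k => hopOK Cfsg.Lie.chevE8 sctE8 snbE8 sbaseE8 shsE8 sdistE8 (k / 240) (k % 240))) = true := by decide +kernel
theorem e8Slhop_3_19520 : allRange 19520 19680 ((fun k => hopOK Cfsg.Lie.chevE8 sctE8 snbE8 sbaseE8 shsE8 sdistE8 (k / 240) (k % 240))) = true := by decide +kernel
theorem e8Slhop_3_19680 : allRange 19680 19840 ((fun k => hopOK Cfsg.Lie.chevE8 sctE8 snbE8 sbaseE8 shsE8 sdistE8 (k / 240) (k % 240))) = true := by decide +kernel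
theorem e8Slhop_3_19840 : allRange 19840 20000 ((fun k => hopOK Cfsg.Lie.chevE8 sctE8 snbE8 sbaseE8 shsE8 sdistE8 (k / 240) (k % 240))) = true := by decide +kernel
theorem e8Slhop_3_20000 : allRange 20000 20160 ((fun k => hopOK Cfsg.Lie.chevE8 sctE8 snbE8 sbaseE8 shsE8 sdistE8 (k / 240) (k % 240))) = true := by decide +kernel
theorem e8Slhop_3_20160 : allRange 20160 20320 ((fun k => hopOK Cfsg.Lie.chevE8 sctE8 snbE8 sbaseE8 shsE8 sdistE8 (k / 240) (k % 240))) = true := by decide +kernel
theorem e8Slhop_3_20320 : allRange 20320 20480 ((fun k => hopOK Cfsg.Lie.chevE8 sctE8 snbE8 sbaseE8 shsE8 sdistE8 (k / 240) (k % 240))) = true := by decide +kernel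
theorem e8Slhop_3_20480 : allRange 20480 20640 ((fun k => hopOK Cfsg.Lie.chevE8 sctE8 snbE8 sbaseE8 shsE8 sdistE8 (k / 240) (k % 240))) = true := by decide +kernel
theorem e8Slhop_3_20640 : allRange 20640 20800 ((fun k => hopOK Cfsg.Lie.chevE8 sctE8 snbE8 sbaseE8 shsE8 sdistE8 (k / 240) (k % 240))) = true := by decide +kernel
theorem e8Slhop_3_20800 : allRange 20800 20960 ((fun k => hopOK Cfsg.Lie.chevE8 sctE8 snbE8 sbaseE8 shsE8 sdistE8 (k / 240) (k % 240))) = true := by decide +kernel
theorem e8Slhop_3_20960 : allRange 20960 21120 ((fun k => hopOK Cfsg.Lie.chevE8 sctE8 snbE8 sbaseE8 shsE8 sdistE8 (k / 240) (k % 240))) = true := by decide +kernel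
theorem e8Slhop_3_21120 : allRange 21120 21280 ((fun k => hopOK Cfsg.Lie.chevE8 sctE8 snbE8 sbaseE8 shsE8 sdistE8 (k / 240) (k % 240))) = true := by decide +kernel
theorem e8Slhop_3_21280 : allRange 21280 21440 ((fun k => hopOK Cfsg.Lie.chevE8 sctE8 snbE8 sbaseE8 shsE8 sdistE8 (k / 240) (k % 240))) = true := by decide +kernel
theorem e8Slhop_3_21440 : allRange 21440 21600 ((fun k => hopOK Cfsg.Lie.chevE8 sctE8 snbE8 sbaseE8 shsE8 sdistE8 (k / 240) (k % 240))) = true := by decide +kernel
theorem e8Slhop_3_21600 : allRange 21600 21760 ((fun k => hopOK Cfsg.Lie.chevE8 sctE8 snbE8 sbaseE8 shsE8 sdistE8 (k / 240) (k % 240))) = true := by decide +kernel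
theorem e8Slhop_3_21760 : allRange 21760 21920 ((fun k => hopOK Cfsg.Lie.chevE8 sctE8 snbE8 sbaseE8 shsE8 sdistE8 (k / 240) (k % 240))) = true := by decide +kernel
theorem e8Slhop_3_21920 : allRange 21920 22080 ((fun k => hopOK Cfsg.Lie.chevE8 sctE8 snbE8 sbaseE8 shsE8 sdistE8 (k / 240) (k % 240))) = true := by decide +kernel
theorem e8Slhop_3_22080 : allRange 22080 22240 ((fun k => hopOK Cfsg.Lie.chevE8 sctE8 snbE8 sbaseE8 shsE8 sdistE8 (k / 240) (k % 240))) = true := by decide +kernel
theorem e8Slhop_3_22240 : allRange 22240 22400 ((fun k => hopOK Cfsg.Lie.chevE8 sctE8 snbE8 sbaseE8 shsE8 sdistE8 (k / 240) (k % 240))) = true := by decide +kernel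
theorem e8Slhop_3_22400 : allRange 22400 22560 ((fun k => hopOK Cfsg.Lie.chevE8 sctE8 snbE8 sbaseE8 shsE8 sdistE8 (k / 240) (k % 240))) = true := by decide +kernel
theorem e8Slhop_3_22560 : allRange 22560 22720 ((fun k => hopOK Cfsg.Lie.chevE8 sctE8 snbE8 sbaseE8 shsE8 sdistE8 (k / 240) (k % 240))) = true := by decide +kernel
theorem e8Slhop_3_22720 : allRange 22720 22880 ((fun k => hopOK Cfsg.Lie.chevE8 sctE8 snbE8 sbaseE8 shsE8 sdistE8 (k / 240) (k % 240))) = true := by decide +kernel
theorem e8Slhop_3_22880 : allRange 22880 23040 ((fun k => hopOK Cfsg.Lie.chevE8 sctE8 snbE8 sbaseE8 shsE8 sdistE8 (k / 240) (k % 240))) = true := by decide +kernel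
theorem e8Slhop_3_23040 : allRange 23040 23200 ((fun k => hopOK Cfsg.Lie.chevE8 sctE8 snbE8 sbaseE8 shsE8 sdistE8 (k / 240) (k % 240))) = true := by decide +kernel
theorem e8Slhop_3_23200 : allRange 23200 23360 ((fun k => hopOK Cfsg.Lie.chevE8 sctE8 snbE8 sbaseE8 shsE8 sdistE8 (k / 240) (k % 240))) = true := by decide +kernel
theorem e8Slhop_3_23360 : allRange 23360 23520 ((fun k => hopOK Cfsg.Lie.chevE8 sctE8 snbE8 sbaseE8 shsE8 sdistE8 (k / 240) (k % 240))) = true := by decide +kernel
theorem e8Slhop_3_23520 : allRange 23520 23680 ((fun k => hopOK Cfsg.Lie.chevE8 sctE8 snbE8 sbaseE8 shsE8 sdistE8 (k / 240) (k % 240))) = true := by decide +kernel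

/-- Decompositions of the roots of type E8: paths to the base decompositions (roots 17760 to 23679). -/
theorem e8Slhop_3 : ∀ r, 17760 ≤ r → r < 23680 → ((fun k => hopOK Cfsg.Lie.chevE8 sctE8 snbE8 sbaseE8 shsE8 sdistE8 (k / 240) (k % 240))) r = true := by
  intro r h1 h2
  by_cases c0 : r < 17920
  · exact allRange_spec e8Slhop_3_17760 r (by omega) c0
  by_cases c1 : r < 18080
  · exact allRange_spec e8Slhop_3_17920 r (by omega) c1
  by_cases c2 : r < 18240
  · exact allRange_spec e8Slhop_3_18080 r (by omega) c2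
  by_cases c3 : r < 18400
  · exact allRange_spec e8Slhop_3_18240 r (by omega) c3
  by_cases c4 : r < 18560
  · exact allRange_spec e8Slhop_3_18400 r (by omega) c4
  by_cases c5 : r < 18720
  · exact allRange_spec e8Slhop_3_18560 r (by omega) c5
  by_cases c6 : r < 18880
  · exact allRange_spec e8Slhop_3_18720 r (by omega) c6
  by_cases c7 : r < 19040
  · exact allRange_spec e8Slhop_3_18880 r (by omega) c7
  by_cases c8 : r < 19200
  · exact allRange_spec e8Slhop_3_19040 r (by omega) c8
  by_cases c9 : r < 19360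
  · exact allRange_spec e8Slhop_3_19200 r (by omega) c9
  by_cases c10 : r < 19520
  · exact allRange_spec e8Slhop_3_19360 r (by omega) c10
  by_cases c11 : r < 19680
  · exact allRange_spec e8Slhop_3_19520 r (by omega) c11
  by_cases c12 : r < 19840
  · exact allRange_spec e8Slhop_3_19680 r (by omega) c12
  by_cases c13 : r < 20000
  · exact allRange_spec e8Slhop_3_19840 r (by omega) c13
  by_cases c14 : r < 20160
  · exact allRange_spec e8Slhop_3_20000 r (by omega) c14
  by_cases c15 : r < 20320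
  · exact allRange_spec e8Slhop_3_20160 r (by omega) c15
  by_cases c16 : r < 20480
  · exact allRange_spec e8Slhop_3_20320 r (by omega) c16
  by_cases c17 : r < 20640
  · exact allRange_spec e8Slhop_3_20480 r (by omega) c17
  by_cases c18 : r < 20800
  · exact allRange_spec e8Slhop_3_20640 r (by omega) c18
  by_cases c19 : r < 20960
  · exact allRange_spec e8Slhop_3_20800 r (by omega) c19
  by_cases c20 : r < 21120
  · exact allRange_spec e8Slhop_3_20960 r (by omega) c20
  by_cases c21 : r < 21280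
  · exact allRange_spec e8Slhop_3_21120 r (by omega) c21
  by_cases c22 : r < 21440
  · exact allRange_spec e8Slhop_3_21280 r (by omega) c22
  by_cases c23 : r < 21600
  · exact allRange_spec e8Slhop_3_21440 r (by omega) c23
  by_cases c24 : r < 21760
  · exact allRange_spec e8Slhop_3_21600 r (by omega) c24
  by_cases c25 : r < 21920
  · exact allRange_spec e8Slhop_3_21760 r (by omega) c25
  by_cases c26 : r < 22080
  · exact allRange_spec e8Slhop_3_21920 r (by omega) c26
  by_cases c27 : r < 22240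
  · exact allRange_spec e8Slhop_3_22080 r (by omega) c27
  by_cases c28 : r < 22400
  · exact allRange_spec e8Slhop_3_22240 r (by omega) c28
  by_cases c29 : r < 22560
  · exact allRange_spec e8Slhop_3_22400 r (by omega) c29
  by_cases c30 : r < 22720
  · exact allRange_spec e8Slhop_3_22560 r (by omega) c30
  by_cases c31 : r < 22880
  · exact allRange_spec e8Slhop_3_22720 r (by omega) c31
  by_cases c32 : r < 23040
  · exact allRange_spec e8Slhop_3_22880 r (by omega) c32
  by_cases c33 : r < 23200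
  · exact allRange_spec e8Slhop_3_23040 r (by omega) c33
  by_cases c34 : r < 23360
  · exact allRange_spec e8Slhop_3_23200 r (by omega) c34
  by_cases c35 : r < 23520
  · exact allRange_spec e8Slhop_3_23360 r (by omega) c35
  exact allRange_spec e8Slhop_3_23520 r (by omega) h2

end Cfsg.Agent.Lib.Helper3.ChevM
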