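import Cfsg.Prelude.Def_ChevE8
import Cfsg.Agent.Lib.Helper3.ChevData.E8Slct
import Cfsg.Agent.Lib.Helper3.ChevData.E8Slnb
import Cfsg.Agent.Lib.Helper3.ChevData.E8Slhd
import Cfsg.Agent.Lib.Helper3.StS3
set_option autoImplicit false
set_option maxRecDepth 1000000
set_option Elab.async false

namespace Cfsg.Agent.Lib.Helper3.ChevM
open Cfsg.Agent.Lib.Helper3.StS

theorem e8Slhop_7_41440 : allRange 41440 41600 ((fun k => hopOK Cfsg.Lie.chevE8 sctE8 snbE8 sbaseE8 shsE8 sdistE8 (k / 240) (k % 240))) = true := by decide +kernel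
theorem e8Slhop_7_41600 : allRange 41600 41760 ((fun k => hopOK Cfsg.Lie.chevE8 sctE8 snbE8 sbaseE8 shsE8 sdistE8 (k / 240) (k % 240))) = true := by decide +kernel
theorem e8Slhop_7_41760 : allRange 41760 41920 ((fun k => hopOK Cfsg.Lie.chevE8 sctE8 snbE8 sbaseE8 shsE8 sdistE8 (k / 240) (k % 240))) = true := by decide +kernel
theorem e8Slhop_7_41920 : allRange 41920 42080 ((fun k => hopOK Cfsg.Lie.chevE8 sctE8 snbE8 sbaseE8 shsE8 sdistE8 (k / 240) (k % 240))) = true := by decide +kernel
theorem e8Slhop_7_42080 : allRange 42080 42240 ((fun k => hopOK Cfsg.Lie.chevE8 sctE8 snbE8 sbaseE8 shsE8 sdistE8 (k / 240) (k % 240))) = true := by decide +kernel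
theorem e8Slhop_7_42240 : allRange 42240 42400 ((fun k => hopOK Cfsg.Lie.chevE8 sctE8 snbE8 sbaseE8 shsE8 sdistE8 (k / 240) (k % 240))) = true := by decide +kernel
theorem e8Slhop_7_42400 : allRange 42400 42560 ((fun k => hopOK Cfsg.Lie.chevE8 sctE8 snbE8 sbaseE8 shsE8 sdistE8 (k / 240) (k % 240))) = true := by decide +kernel
theorem e8Slhop_7_42560 : allRange 42560 42720 ((fun k => hopOK Cfsg.Lie.chevE8 sctE8 snbE8 sbaseE8 shsE8 sdistE8 (k / 240) (k % 240))) = true := by decide +kernel
theorem e8Slhop_7_42720 : allRange 42720 42880 ((fun k => hopOK Cfsg.Lie.chevE8 sctE8 snbE8 sbaseE8 shsE8 sdistE8 (k / 240) (k % 240))) = true := by decide +kernel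
theorem e8Slhop_7_42880 : allRange 42880 43040 ((fun k => hopOK Cfsg.Lie.chevE8 sctE8 snbE8 sbaseE8 shsE8 sdistE8 (k / 240) (k % 240))) = true := by decide +kernel
theorem e8Slhop_7_43040 : allRange 43040 43200 ((fun k => hopOK Cfsg.Lie.chevE8 sctE8 snbE8 sbaseE8 shsE8 sdistE8 (k / 240) (k % 240))) = true := by decide +kernel
theorem e8Slhop_7_43200 : allRange 43200 43360 ((fun k => hopOK Cfsg.Lie.chevE8 sctE8 snbE8 sbaseE8 shsE8 sdistE8 (k / 240) (k % 240))) = true := by decide +kernel
theorem e8Slhop_7_43360 : allRange 43360 43520 ((fun k => hopOK Cfsg.Lie.chevE8 sctE8 snbE8 sbaseE8 shsE8 sdistE8 (k / 240) (k % 240))) = true := by decide +kernel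
theorem e8Slhop_7_43520 : allRange 43520 43680 ((fun k => hopOK Cfsg.Lie.chevE8 sctE8 snbE8 sbaseE8 shsE8 sdistE8 (k / 240) (k % 240))) = true := by decide +kernel
theorem e8Slhop_7_43680 : allRange 43680 43840 ((fun k => hopOK Cfsg.Lie.chevE8 sctE8 snbE8 sbaseE8 shsE8 sdistE8 (k / 240) (k % 240))) = true := by decide +kernel
theorem e8Slhop_7_43840 : allRange 43840 44000 ((fun k => hopOK Cfsg.Lie.chevE8 sctE8 snbE8 sbaseE8 shsE8 sdistE8 (k / 240) (k % 240))) = true := by decide +kernel
theorem e8Slhop_7_44000 : allRange 44000 44160 ((fun k => hopOK Cfsg.Lie.chevE8 sctE8 snbE8 sbaseE8 shsE8 sdistE8 (k / 240) (k % 240))) = true := by decide +kernel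
theorem e8Slhop_7_44160 : allRange 44160 44320 ((fun k => hopOK Cfsg.Lie.chevE8 sctE8 snbE8 sbaseE8 shsE8 sdistE8 (k / 240) (k % 240))) = true := by decide +kernel
theorem e8Slhop_7_44320 : allRange 44320 44480 ((fun k => hopOK Cfsg.Lie.chevE8 sctE8 snbE8 sbaseE8 shsE8 sdistE8 (k / 240) (k % 240))) = true := by decide +kernel
theorem e8Slhop_7_44480 : allRange 44480 44640 ((fun k => hopOK Cfsg.Lie.chevE8 sctE8 snbE8 sbaseE8 shsE8 sdistE8 (k / 240) (k % 240))) = true := by decide +kernel
theorem e8Slhop_7_44640 : allRange 44640 44800 ((fun k => hopOK Cfsg.Lie.chevE8 sctE8 snbE8 sbaseE8 shsE8 sdistE8 (k / 240) (k % 240))) = true := by decide +kernel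
theorem e8Slhop_7_44800 : allRange 44800 44960 ((fun k => hopOK Cfsg.Lie.chevE8 sctE8 snbE8 sbaseE8 shsE8 sdistE8 (k / 240) (k % 240))) = true := by decide +kernel
theorem e8Slhop_7_44960 : allRange 44960 45120 ((fun k => hopOK Cfsg.Lie.chevE8 sctE8 snbE8 sbaseE8 shsE8 sdistE8 (k / 240) (k % 240))) = true := by decide +kernel
theorem e8Slhop_7_45120 : allRange 45120 45280 ((fun k => hopOK Cfsg.Lie.chevE8 sctE8 snbE8 sbaseE8 shsE8 sdistE8 (k / 240) (k % 240))) = true := by decide +kernel
theorem e8Slhop_7_45280 : allRange 45280 45440 ((fun k => hopOK Cfsg.Lie.chevE8 sctE8 snbE8 sbaseE8 shsE8 sdistE8 (k / 240) (k % 240))) = true := by decide +kernel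
theorem e8Slhop_7_45440 : allRange 45440 45600 ((fun k => hopOK Cfsg.Lie.chevE8 sctE8 snbE8 sbaseE8 shsE8 sdistE8 (k / 240) (k % 240))) = true := by decide +kernel
theorem e8Slhop_7_45600 : allRange 45600 45760 ((fun k => hopOK Cfsg.Lie.chevE8 sctE8 snbE8 sbaseE8 shsE8 sdistE8 (k / 240) (k % 240))) = true := by decide +kernel
theorem e8Slhop_7_45760 : allRange 45760 45920 ((fun k => hopOK Cfsg.Lie.chevE8 sctE8 snbE8 sbaseE8 shsE8 sdistE8 (k / 240) (k % 240))) = true := by decide +kernel
theorem e8Slhop_7_45920 : allRange 45920 46080 ((fun k => hopOK Cfsg.Lie.chevE8 sctE8 snbE8 sbaseE8 shsE8 sdistE8 (k / 240) (k % 240))) = true := by decide +kernel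
theorem e8Slhop_7_46080 : allRange 46080 46240 ((fun k => hopOK Cfsg.Lie.chevE8 sctE8 snbE8 sbaseE8 shsE8 sdistE8 (k / 240) (k % 240))) = true := by decide +kernel
theorem e8Slhop_7_46240 : allRange 46240 46400 ((fun k => hopOK Cfsg.Lie.chevE8 sctE8 snbE8 sbaseE8 shsE8 sdistE8 (k / 240) (k % 240))) = true := by decide +kernel
theorem e8Slhop_7_46400 : allRange 46400 46560 ((fun k => hopOK Cfsg.Lie.chevE8 sctE8 snbE8 sbaseE8 shsE8 sdistE8 (k / 240) (k % 240))) = true := by decide +kernel
theorem e8Slhop_7_46560 : allRange 46560 46720 ((fun k => hopOK Cfsg.Lie.chevE8 sctE8 snbE8 sbaseE8 shsE8 sdistE8 (k / 240) (k % 240))) = true := by decide +kernel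
theorem e8Slhop_7_46720 : allRange 46720 46880 ((fun k => hopOK Cfsg.Lie.chevE8 sctE8 snbE8 sbaseE8 shsE8 sdistE8 (k / 240) (k % 240))) = true := by decide +kernel
theorem e8Slhop_7_46880 : allRange 46880 47040 ((fun k => hopOK Cfsg.Lie.chevE8 sctE8 snbE8 sbaseE8 shsE8 sdistE8 (k / 240) (k % 240))) = true := by decide +kernel
theorem e8Slhop_7_47040 : allRange 47040 47200 ((fun k => hopOK Cfsg.Lie.chevE8 sctE8 snbE8 sbaseE8 shsE8 sdistE8 (k / 240) (k % 240))) = true := by decide +kernel
theorem e8Slhop_7_47200 : allRange 47200 47360 ((fun k => hopOK Cfsg.Lie.chevE8 sctE8 snbE8 sbaseE8 shsE8 sdistE8 (k / 240) (k % 240))) = true := by decide +kernel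

/-- Decompositions of the roots of type E8: paths to the base decompositions (roots 41440 to 47359). -/
theorem e8Slhop_7 : ∀ r, 41440 ≤ r → r < 47360 → ((fun k => hopOK Cfsg.Lie.chevE8 sctE8 snbE8 sbaseE8 shsE8 sdistE8 (k / 240) (k % 240))) r = true := by
  intro r h1 h2
  by_cases c0 : r < 41600
  · exact allRange_spec e8Slhop_7_41440 r (by omega) c0
  by_cases c1 : r < 41760
  · exact allRange_spec e8Slhop_7_41600 r (by omega) c1
  by_cases c2 : r < 41920
  · exact allRange_spec e8Slhop_7_41760 r (by omega) c2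
  by_cases c3 : r < 42080
  · exact allRange_spec e8Slhop_7_41920 r (by omega) c3
  by_cases c4 : r < 42240
  · exact allRange_spec e8Slhop_7_42080 r (by omega) c4
  by_cases c5 : r < 42400
  · exact allRange_spec e8Slhop_7_42240 r (by omega) c5
  by_cases c6 : r < 42560
  · exact allRange_spec e8Slhop_7_42400 r (by omega) c6
  by_cases c7 : r < 42720
  · exact allRange_spec e8Slhop_7_42560 r (by omega) c7
  by_cases c8 : r < 42880
  · exact allRange_spec e8Slhop_7_42720 r (by omega) c8
  by_cases c9 : r < 43040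
  · exact allRange_spec e8Slhop_7_42880 r (by omega) c9
  by_cases c10 : r < 43200
  · exact allRange_spec e8Slhop_7_43040 r (by omega) c10
  by_cases c11 : r < 43360
  · exact allRange_spec e8Slhop_7_43200 r (by omega) c11
  by_cases c12 : r < 43520
  · exact allRange_spec e8Slhop_7_43360 r (by omega) c12
  by_cases c13 : r < 43680
  · exact allRange_spec e8Slhop_7_43520 r (by omega) c13
  by_cases c14 : r < 43840
  · exact allRange_spec e8Slhop_7_43680 r (by omega) c14
  by_cases c15 : r < 44000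
  · exact allRange_spec e8Slhop_7_43840 r (by omega) c15
  by_cases c16 : r < 44160
  · exact allRange_spec e8Slhop_7_44000 r (by omega) c16
  by_cases c17 : r < 44320
  · exact allRange_spec e8Slhop_7_44160 r (by omega) c17
  by_cases c18 : r < 44480
  · exact allRange_spec e8Slhop_7_44320 r (by omega) c18
  by_cases c19 : r < 44640
  · exact allRange_spec e8Slhop_7_44480 r (by omega) c19
  by_cases c20 : r < 44800
  · exact allRange_spec e8Slhop_7_44640 r (by omega) c20
  by_cases c21 : r < 44960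
  · exact allRange_spec e8Slhop_7_44800 r (by omega) c21
  by_cases c22 : r < 45120
  · exact allRange_spec e8Slhop_7_44960 r (by omega) c22
  by_cases c23 : r < 45280
  · exact allRange_spec e8Slhop_7_45120 r (by omega) c23
  by_cases c24 : r < 45440
  · exact allRange_spec e8Slhop_7_45280 r (by omega) c24
  by_cases c25 : r < 45600
  · exact allRange_spec e8Slhop_7_45440 r (by omega) c25
  by_cases c26 : r < 45760
  · exact allRange_spec e8Slhop_7_45600 r (by omega) c26
  by_cases c27 : r < 45920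
  · exact allRange_spec e8Slhop_7_45760 r (by omega) c27
  by_cases c28 : r < 46080
  · exact allRange_spec e8Slhop_7_45920 r (by omega) c28
  by_cases c29 : r < 46240
  · exact allRange_spec e8Slhop_7_46080 r (by omega) c29
  by_cases c30 : r < 46400
  · exact allRange_spec e8Slhop_7_46240 r (by omega) c30
  by_cases c31 : r < 46560
  · exact allRange_spec e8Slhop_7_46400 r (by omega) c31
  by_cases c32 : r < 46720
  · exact allRange_spec e8Slhop_7_46560 r (by omega) c32
  by_cases c33 : r < 46880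
  · exact allRange_spec e8Slhop_7_46720 r (by omega) c33
  by_cases c34 : r < 47040
  · exact allRange_spec e8Slhop_7_46880 r (by omega) c34
  by_cases c35 : r < 47200
  · exact allRange_spec e8Slhop_7_47040 r (by omega) c35
  exact allRange_spec e8Slhop_7_47200 r (by omega) h2

end Cfsg.Agent.Lib.Helper3.ChevM
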