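import Cfsg.Prelude.Def_ChevE8
import Cfsg.Agent.Lib.Helper3.ChevData.E8Slct
import Cfsg.Agent.Lib.Helper3.ChevData.E8Slwa
import Cfsg.Agent.Lib.Helper3.StS3
set_option autoImplicit false
set_option maxRecDepth 1000000
set_option Elab.async false

namespace Cfsg.Agent.Lib.Helper3.ChevM
open Cfsg.Agent.Lib.Helper3.StS

theorem e8Sllema_4_23680 : allRange 23680 23840 ((fun k => lemAOK Cfsg.Lie.chevE8 sctE8 swaE8 (k / 240) (k % 240))) = true := by decide +kernel
theorem e8Sllema_4_23840 : allRange 23840 24000 ((fun k => lemAOK Cfsg.Lie.chevE8 sctE8 swaE8 (k / 240) (k % 240))) = true := by decide +kernel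
theorem e8Sllema_4_24000 : allRange 24000 24160 ((fun k => lemAOK Cfsg.Lie.chevE8 sctE8 swaE8 (k / 240) (k % 240))) = true := by decide +kernel
theorem e8Sllema_4_24160 : allRange 24160 24320 ((fun k => lemAOK Cfsg.Lie.chevE8 sctE8 swaE8 (k / 240) (k % 240))) = true := by decide +kernel
theorem e8Sllema_4_24320 : allRange 24320 24480 ((fun k => lemAOK Cfsg.Lie.chevE8 sctE8 swaE8 (k / 240) (k % 240))) = true := by decide +kernel
theorem e8Sllema_4_24480 : allRange 24480 24640 ((fun k => lemAOK Cfsg.Lie.chevE8 sctE8 swaE8 (k / 240) (k % 240))) = true := by decide +kernel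
theorem e8Sllema_4_24640 : allRange 24640 24800 ((fun k => lemAOK Cfsg.Lie.chevE8 sctE8 swaE8 (k / 240) (k % 240))) = true := by decide +kernel
theorem e8Sllema_4_24800 : allRange 24800 24960 ((fun k => lemAOK Cfsg.Lie.chevE8 sctE8 swaE8 (k / 240) (k % 240))) = true := by decide +kernel
theorem e8Sllema_4_24960 : allRange 24960 25120 ((fun k => lemAOK Cfsg.Lie.chevE8 sctE8 swaE8 (k / 240) (k % 240))) = true := by decide +kernel
theorem e8Sllema_4_25120 : allRange 25120 25280 ((fun k => lemAOK Cfsg.Lie.chevE8 sctE8 swaE8 (k / 240) (k % 240))) = true := by decide +kernel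
theorem e8Sllema_4_25280 : allRange 25280 25440 ((fun k => lemAOK Cfsg.Lie.chevE8 sctE8 swaE8 (k / 240) (k % 240))) = true := by decide +kernel
theorem e8Sllema_4_25440 : allRange 25440 25600 ((fun k => lemAOK Cfsg.Lie.chevE8 sctE8 swaE8 (k / 240) (k % 240))) = true := by decide +kernel
theorem e8Sllema_4_25600 : allRange 25600 25760 ((fun k => lemAOK Cfsg.Lie.chevE8 sctE8 swaE8 (k / 240) (k % 240))) = true := by decide +kernel
theorem e8Sllema_4_25760 : allRange 25760 25920 ((fun k => lemAOK Cfsg.Lie.chevE8 sctE8 swaE8 (k / 240) (k % 240))) = true := by decide +kernel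
theorem e8Sllema_4_25920 : allRange 25920 26080 ((fun k => lemAOK Cfsg.Lie.chevE8 sctE8 swaE8 (k / 240) (k % 240))) = true := by decide +kernel
theorem e8Sllema_4_26080 : allRange 26080 26240 ((fun k => lemAOK Cfsg.Lie.chevE8 sctE8 swaE8 (k / 240) (k % 240))) = true := by decide +kernel
theorem e8Sllema_4_26240 : allRange 26240 26400 ((fun k => lemAOK Cfsg.Lie.chevE8 sctE8 swaE8 (k / 240) (k % 240))) = true := by decide +kernel
theorem e8Sllema_4_26400 : allRange 26400 26560 ((fun k => lemAOK Cfsg.Lie.chevE8 sctE8 swaE8 (k / 240) (k % 240))) = true := by decide +kernel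
theorem e8Sllema_4_26560 : allRange 26560 26720 ((fun k => lemAOK Cfsg.Lie.chevE8 sctE8 swaE8 (k / 240) (k % 240))) = true := by decide +kernel
theorem e8Sllema_4_26720 : allRange 26720 26880 ((fun k => lemAOK Cfsg.Lie.chevE8 sctE8 swaE8 (k / 240) (k % 240))) = true := by decide +kernel
theorem e8Sllema_4_26880 : allRange 26880 27040 ((fun k => lemAOK Cfsg.Lie.chevE8 sctE8 swaE8 (k / 240) (k % 240))) = true := by decide +kernel
theorem e8Sllema_4_27040 : allRange 27040 27200 ((fun k => lemAOK Cfsg.Lie.chevE8 sctE8 swaE8 (k / 240) (k % 240))) = true := by decide +kernel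
theorem e8Sllema_4_27200 : allRange 27200 27360 ((fun k => lemAOK Cfsg.Lie.chevE8 sctE8 swaE8 (k / 240) (k % 240))) = true := by decide +kernel
theorem e8Sllema_4_27360 : allRange 27360 27520 ((fun k => lemAOK Cfsg.Lie.chevE8 sctE8 swaE8 (k / 240) (k % 240))) = true := by decide +kernel
theorem e8Sllema_4_27520 : allRange 27520 27680 ((fun k => lemAOK Cfsg.Lie.chevE8 sctE8 swaE8 (k / 240) (k % 240))) = true := by decide +kernel
theorem e8Sllema_4_27680 : allRange 27680 27840 ((fun k => lemAOK Cfsg.Lie.chevE8 sctE8 swaE8 (k / 240) (k % 240))) = true := by decide +kernel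
theorem e8Sllema_4_27840 : allRange 27840 28000 ((fun k => lemAOK Cfsg.Lie.chevE8 sctE8 swaE8 (k / 240) (k % 240))) = true := by decide +kernel
theorem e8Sllema_4_28000 : allRange 28000 28160 ((fun k => lemAOK Cfsg.Lie.chevE8 sctE8 swaE8 (k / 240) (k % 240))) = true := by decide +kernel
theorem e8Sllema_4_28160 : allRange 28160 28320 ((fun k => lemAOK Cfsg.Lie.chevE8 sctE8 swaE8 (k / 240) (k % 240))) = true := by decide +kernel
theorem e8Sllema_4_28320 : allRange 28320 28480 ((fun k => lemAOK Cfsg.Lie.chevE8 sctE8 swaE8 (k / 240) (k % 240))) = true := by decide +kernel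
theorem e8Sllema_4_28480 : allRange 28480 28640 ((fun k => lemAOK Cfsg.Lie.chevE8 sctE8 swaE8 (k / 240) (k % 240))) = true := by decide +kernel
theorem e8Sllema_4_28640 : allRange 28640 28800 ((fun k => lemAOK Cfsg.Lie.chevE8 sctE8 swaE8 (k / 240) (k % 240))) = true := by decide +kernel
theorem e8Sllema_4_28800 : allRange 28800 28960 ((fun k => lemAOK Cfsg.Lie.chevE8 sctE8 swaE8 (k / 240) (k % 240))) = true := by decide +kernel
theorem e8Sllema_4_28960 : allRange 28960 29120 ((fun k => lemAOK Cfsg.Lie.chevE8 sctE8 swaE8 (k / 240) (k % 240))) = true := by decide +kernel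
theorem e8Sllema_4_29120 : allRange 29120 29280 ((fun k => lemAOK Cfsg.Lie.chevE8 sctE8 swaE8 (k / 240) (k % 240))) = true := by decide +kernel
theorem e8Sllema_4_29280 : allRange 29280 29440 ((fun k => lemAOK Cfsg.Lie.chevE8 sctE8 swaE8 (k / 240) (k % 240))) = true := by decide +kernel
theorem e8Sllema_4_29440 : allRange 29440 29600 ((fun k => lemAOK Cfsg.Lie.chevE8 sctE8 swaE8 (k / 240) (k % 240))) = true := by decide +kernel

/-- Commuting roots of type E8: decompositions commuting with the second root (roots 23680 to 29599). -/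
theorem e8Sllema_4 : ∀ r, 23680 ≤ r → r < 29600 → ((fun k => lemAOK Cfsg.Lie.chevE8 sctE8 swaE8 (k / 240) (k % 240))) r = true := by
  intro r h1 h2
  by_cases c0 : r < 23840
  · exact allRange_spec e8Sllema_4_23680 r (by omega) c0
  by_cases c1 : r < 24000
  · exact allRange_spec e8Sllema_4_23840 r (by omega) c1
  by_cases c2 : r < 24160
  · exact allRange_spec e8Sllema_4_24000 r (by omega) c2
  by_cases c3 : r < 24320
  · exact allRange_spec e8Sllema_4_24160 r (by omega) c3
  by_cases c4 : r < 24480
  · exact allRange_spec e8Sllema_4_24320 r (by omega) c4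
  by_cases c5 : r < 24640
  · exact allRange_spec e8Sllema_4_24480 r (by omega) c5
  by_cases c6 : r < 24800
  · exact allRange_spec e8Sllema_4_24640 r (by omega) c6
  by_cases c7 : r < 24960
  · exact allRange_spec e8Sllema_4_24800 r (by omega) c7
  by_cases c8 : r < 25120
  · exact allRange_spec e8Sllema_4_24960 r (by omega) c8
  by_cases c9 : r < 25280
  · exact allRange_spec e8Sllema_4_25120 r (by omega) c9
  by_cases c10 : r < 25440
  · exact allRange_spec e8Sllema_4_25280 r (by omega) c10
  by_cases c11 : r < 25600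
  · exact allRange_spec e8Sllema_4_25440 r (by omega) c11
  by_cases c12 : r < 25760
  · exact allRange_spec e8Sllema_4_25600 r (by omega) c12
  by_cases c13 : r < 25920
  · exact allRange_spec e8Sllema_4_25760 r (by omega) c13
  by_cases c14 : r < 26080
  · exact allRange_spec e8Sllema_4_25920 r (by omega) c14
  by_cases c15 : r < 26240
  · exact allRange_spec e8Sllema_4_26080 r (by omega) c15
  by_cases c16 : r < 26400
  · exact allRange_spec e8Sllema_4_26240 r (by omega) c16
  by_cases c17 : r < 26560
  · exact allRange_spec e8Sllema_4_26400 r (by omega) c17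
  by_cases c18 : r < 26720
  · exact allRange_spec e8Sllema_4_26560 r (by omega) c18
  by_cases c19 : r < 26880
  · exact allRange_spec e8Sllema_4_26720 r (by omega) c19
  by_cases c20 : r < 27040
  · exact allRange_spec e8Sllema_4_26880 r (by omega) c20
  by_cases c21 : r < 27200
  · exact allRange_spec e8Sllema_4_27040 r (by omega) c21
  by_cases c22 : r < 27360
  · exact allRange_spec e8Sllema_4_27200 r (by omega) c22
  by_cases c23 : r < 27520
  · exact allRange_spec e8Sllema_4_27360 r (by omega) c23
  by_cases c24 : r < 27680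
  · exact allRange_spec e8Sllema_4_27520 r (by omega) c24
  by_cases c25 : r < 27840
  · exact allRange_spec e8Sllema_4_27680 r (by omega) c25
  by_cases c26 : r < 28000
  · exact allRange_spec e8Sllema_4_27840 r (by omega) c26
  by_cases c27 : r < 28160
  · exact allRange_spec e8Sllema_4_28000 r (by omega) c27
  by_cases c28 : r < 28320
  · exact allRange_spec e8Sllema_4_28160 r (by omega) c28
  by_cases c29 : r < 28480
  · exact allRange_spec e8Sllema_4_28320 r (by omega) c29
  by_cases c30 : r < 28640
  · exact allRange_spec e8Sllema_4_28480 r (by omega) c30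
  by_cases c31 : r < 28800
  · exact allRange_spec e8Sllema_4_28640 r (by omega) c31
  by_cases c32 : r < 28960
  · exact allRange_spec e8Sllema_4_28800 r (by omega) c32
  by_cases c33 : r < 29120
  · exact allRange_spec e8Sllema_4_28960 r (by omega) c33
  by_cases c34 : r < 29280
  · exact allRange_spec e8Sllema_4_29120 r (by omega) c34
  by_cases c35 : r < 29440
  · exact allRange_spec e8Sllema_4_29280 r (by omega) c35
  exact allRange_spec e8Sllema_4_29440 r (by omega) h2

end Cfsg.Agent.Lib.Helper3.ChevM
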