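import Cfsg.Prelude.Def_ChevE8
import Cfsg.Agent.Lib.Helper3.ChevData.E8Slct
import Cfsg.Agent.Lib.Helper3.ChevData.E8Slwa
import Cfsg.Agent.Lib.Helper3.StS3
set_option autoImplicit false
set_option maxRecDepth 1000000
set_option Elab.async false

namespace Cfsg.Agent.Lib.Helper3.ChevM
open Cfsg.Agent.Lib.Helper3.StS

theorem e8Sllema_9_53280 : allRange 53280 53440 ((fun k => lemAOK Cfsg.Lie.chevE8 sctE8 swaE8 (k / 240) (k % 240))) = true := by decide +kernel
theorem e8Sllema_9_53440 : allRange 53440 53600 ((fun k => lemAOK Cfsg.Lie.chevE8 sctE8 swaE8 (k / 240) (k % 240))) = true := by decide +kernel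
theorem e8Sllema_9_53600 : allRange 53600 53760 ((fun k => lemAOK Cfsg.Lie.chevE8 sctE8 swaE8 (k / 240) (k % 240))) = true := by decide +kernel
theorem e8Sllema_9_53760 : allRange 53760 53920 ((fun k => lemAOK Cfsg.Lie.chevE8 sctE8 swaE8 (k / 240) (k % 240))) = true := by decide +kernel
theorem e8Sllema_9_53920 : allRange 53920 54080 ((fun k => lemAOK Cfsg.Lie.chevE8 sctE8 swaE8 (k / 240) (k % 240))) = true := by decide +kernel
theorem e8Sllema_9_54080 : allRange 54080 54240 ((fun k => lemAOK Cfsg.Lie.chevE8 sctE8 swaE8 (k / 240) (k % 240))) = true := by decide +kernel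
theorem e8Sllema_9_54240 : allRange 54240 54400 ((fun k => lemAOK Cfsg.Lie.chevE8 sctE8 swaE8 (k / 240) (k % 240))) = true := by decide +kernel
theorem e8Sllema_9_54400 : allRange 54400 54560 ((fun k => lemAOK Cfsg.Lie.chevE8 sctE8 swaE8 (k / 240) (k % 240))) = true := by decide +kernel
theorem e8Sllema_9_54560 : allRange 54560 54720 ((fun k => lemAOK Cfsg.Lie.chevE8 sctE8 swaE8 (k / 240) (k % 240))) = true := by decide +kernel
theorem e8Sllema_9_54720 : allRange 54720 54880 ((fun k => lemAOK Cfsg.Lie.chevE8 sctE8 swaE8 (k / 240) (k % 240))) = true := by decide +kernel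
theorem e8Sllema_9_54880 : allRange 54880 55040 ((fun k => lemAOK Cfsg.Lie.chevE8 sctE8 swaE8 (k / 240) (k % 240))) = true := by decide +kernel
theorem e8Sllema_9_55040 : allRange 55040 55200 ((fun k => lemAOK Cfsg.Lie.chevE8 sctE8 swaE8 (k / 240) (k % 240))) = true := by decide +kernel
theorem e8Sllema_9_55200 : allRange 55200 55360 ((fun k => lemAOK Cfsg.Lie.chevE8 sctE8 swaE8 (k / 240) (k % 240))) = true := by decide +kernel
theorem e8Sllema_9_55360 : allRange 55360 55520 ((fun k => lemAOK Cfsg.Lie.chevE8 sctE8 swaE8 (k / 240) (k % 240))) = true := by decide +kernel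
theorem e8Sllema_9_55520 : allRange 55520 55680 ((fun k => lemAOK Cfsg.Lie.chevE8 sctE8 swaE8 (k / 240) (k % 240))) = true := by decide +kernel
theorem e8Sllema_9_55680 : allRange 55680 55840 ((fun k => lemAOK Cfsg.Lie.chevE8 sctE8 swaE8 (k / 240) (k % 240))) = true := by decide +kernel
theorem e8Sllema_9_55840 : allRange 55840 56000 ((fun k => lemAOK Cfsg.Lie.chevE8 sctE8 swaE8 (k / 240) (k % 240))) = true := by decide +kernel
theorem e8Sllema_9_56000 : allRange 56000 56160 ((fun k => lemAOK Cfsg.Lie.chevE8 sctE8 swaE8 (k / 240) (k % 240))) = true := by decide +kernel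
theorem e8Sllema_9_56160 : allRange 56160 56320 ((fun k => lemAOK Cfsg.Lie.chevE8 sctE8 swaE8 (k / 240) (k % 240))) = true := by decide +kernel
theorem e8Sllema_9_56320 : allRange 56320 56480 ((fun k => lemAOK Cfsg.Lie.chevE8 sctE8 swaE8 (k / 240) (k % 240))) = true := by decide +kernel
theorem e8Sllema_9_56480 : allRange 56480 56640 ((fun k => lemAOK Cfsg.Lie.chevE8 sctE8 swaE8 (k / 240) (k % 240))) = true := by decide +kernel
theorem e8Sllema_9_56640 : allRange 56640 56800 ((fun k => lemAOK Cfsg.Lie.chevE8 sctE8 swaE8 (k / 240) (k % 240))) = true := by decide +kernel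
theorem e8Sllema_9_56800 : allRange 56800 56960 ((fun k => lemAOK Cfsg.Lie.chevE8 sctE8 swaE8 (k / 240) (k % 240))) = true := by decide +kernel
theorem e8Sllema_9_56960 : allRange 56960 57120 ((fun k => lemAOK Cfsg.Lie.chevE8 sctE8 swaE8 (k / 240) (k % 240))) = true := by decide +kernel
theorem e8Sllema_9_57120 : allRange 57120 57280 ((fun k => lemAOK Cfsg.Lie.chevE8 sctE8 swaE8 (k / 240) (k % 240))) = true := by decide +kernel
theorem e8Sllema_9_57280 : allRange 57280 57440 ((fun k => lemAOK Cfsg.Lie.chevE8 sctE8 swaE8 (k / 240) (k % 240))) = true := by decide +kernel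
theorem e8Sllema_9_57440 : allRange 57440 57600 ((fun k => lemAOK Cfsg.Lie.chevE8 sctE8 swaE8 (k / 240) (k % 240))) = true := by decide +kernel

/-- Commuting roots of type E8: decompositions commuting with the second root (roots 53280 to 57599). -/
theorem e8Sllema_9 : ∀ r, 53280 ≤ r → r < 57600 → ((fun k => lemAOK Cfsg.Lie.chevE8 sctE8 swaE8 (k / 240) (k % 240))) r = true := by
  intro r h1 h2
  by_cases c0 : r < 53440
  · exact allRange_spec e8Sllema_9_53280 r (by omega) c0
  by_cases c1 : r < 53600
  · exact allRange_spec e8Sllema_9_53440 r (by omega) c1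
  by_cases c2 : r < 53760
  · exact allRange_spec e8Sllema_9_53600 r (by omega) c2
  by_cases c3 : r < 53920
  · exact allRange_spec e8Sllema_9_53760 r (by omega) c3
  by_cases c4 : r < 54080
  · exact allRange_spec e8Sllema_9_53920 r (by omega) c4
  by_cases c5 : r < 54240
  · exact allRange_spec e8Sllema_9_54080 r (by omega) c5
  by_cases c6 : r < 54400
  · exact allRange_spec e8Sllema_9_54240 r (by omega) c6
  by_cases c7 : r < 54560
  · exact allRange_spec e8Sllema_9_54400 r (by omega) c7
  by_cases c8 : r < 54720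
  · exact allRange_spec e8Sllema_9_54560 r (by omega) c8
  by_cases c9 : r < 54880
  · exact allRange_spec e8Sllema_9_54720 r (by omega) c9
  by_cases c10 : r < 55040
  · exact allRange_spec e8Sllema_9_54880 r (by omega) c10
  by_cases c11 : r < 55200
  · exact allRange_spec e8Sllema_9_55040 r (by omega) c11
  by_cases c12 : r < 55360
  · exact allRange_spec e8Sllema_9_55200 r (by omega) c12
  by_cases c13 : r < 55520
  · exact allRange_spec e8Sllema_9_55360 r (by omega) c13
  by_cases c14 : r < 55680
  · exact allRange_spec e8Sllema_9_55520 r (by omega) c14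
  by_cases c15 : r < 55840
  · exact allRange_spec e8Sllema_9_55680 r (by omega) c15
  by_cases c16 : r < 56000
  · exact allRange_spec e8Sllema_9_55840 r (by omega) c16
  by_cases c17 : r < 56160
  · exact allRange_spec e8Sllema_9_56000 r (by omega) c17
  by_cases c18 : r < 56320
  · exact allRange_spec e8Sllema_9_56160 r (by omega) c18
  by_cases c19 : r < 56480
  · exact allRange_spec e8Sllema_9_56320 r (by omega) c19
  by_cases c20 : r < 56640
  · exact allRange_spec e8Sllema_9_56480 r (by omega) c20
  by_cases c21 : r < 56800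
  · exact allRange_spec e8Sllema_9_56640 r (by omega) c21
  by_cases c22 : r < 56960
  · exact allRange_spec e8Sllema_9_56800 r (by omega) c22
  by_cases c23 : r < 57120
  · exact allRange_spec e8Sllema_9_56960 r (by omega) c23
  by_cases c24 : r < 57280
  · exact allRange_spec e8Sllema_9_57120 r (by omega) c24
  by_cases c25 : r < 57440
  · exact allRange_spec e8Sllema_9_57280 r (by omega) c25
  exact allRange_spec e8Sllema_9_57440 r (by omega) h2

end Cfsg.Agent.Lib.Helper3.ChevM
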