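import Cfsg.Prelude.Def_ChevE8
import Cfsg.Agent.Lib.Helper3.ChevData.E8Slct
import Cfsg.Agent.Lib.Helper3.StS3
set_option autoImplicit false
set_option maxRecDepth 1000000
set_option Elab.async false

namespace Cfsg.Agent.Lib.Helper3.ChevM
open Cfsg.Agent.Lib.Helper3.StS

theorem e8Slshape_5_29600 : allRange 29600 29760 ((fun k => shapeOK Cfsg.Lie.chevE8 sctE8 (k / 240) (k % 240))) = true := by decide +kernel
theorem e8Slshape_5_29760 : allRange 29760 29920 ((fun k => shapeOK Cfsg.Lie.chevE8 sctE8 (k / 240) (k % 240))) = true := by decide +kernel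
theorem e8Slshape_5_29920 : allRange 29920 30080 ((fun k => shapeOK Cfsg.Lie.chevE8 sctE8 (k / 240) (k % 240))) = true := by decide +kernel
theorem e8Slshape_5_30080 : allRange 30080 30240 ((fun k => shapeOK Cfsg.Lie.chevE8 sctE8 (k / 240) (k % 240))) = true := by decide +kernel
theorem e8Slshape_5_30240 : allRange 30240 30400 ((fun k => shapeOK Cfsg.Lie.chevE8 sctE8 (k / 240) (k % 240))) = true := by decide +kernel
theorem e8Slshape_5_30400 : allRange 30400 30560 ((fun k => shapeOK Cfsg.Lie.chevE8 sctE8 (k / 240) (k % 240))) = true := by decide +kernel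
theorem e8Slshape_5_30560 : allRange 30560 30720 ((fun k => shapeOK Cfsg.Lie.chevE8 sctE8 (k / 240) (k % 240))) = true := by decide +kernel
theorem e8Slshape_5_30720 : allRange 30720 30880 ((fun k => shapeOK Cfsg.Lie.chevE8 sctE8 (k / 240) (k % 240))) = true := by decide +kernel
theorem e8Slshape_5_30880 : allRange 30880 31040 ((fun k => shapeOK Cfsg.Lie.chevE8 sctE8 (k / 240) (k % 240))) = true := by decide +kernel
theorem e8Slshape_5_31040 : allRange 31040 31200 ((fun k => shapeOK Cfsg.Lie.chevE8 sctE8 (k / 240) (k % 240))) = true := by decide +kernel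
theorem e8Slshape_5_31200 : allRange 31200 31360 ((fun k => shapeOK Cfsg.Lie.chevE8 sctE8 (k / 240) (k % 240))) = true := by decide +kernel
theorem e8Slshape_5_31360 : allRange 31360 31520 ((fun k => shapeOK Cfsg.Lie.chevE8 sctE8 (k / 240) (k % 240))) = true := by decide +kernel
theorem e8Slshape_5_31520 : allRange 31520 31680 ((fun k => shapeOK Cfsg.Lie.chevE8 sctE8 (k / 240) (k % 240))) = true := by decide +kernel
theorem e8Slshape_5_31680 : allRange 31680 31840 ((fun k => shapeOK Cfsg.Lie.chevE8 sctE8 (k / 240) (k % 240))) = true := by decide +kernel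
theorem e8Slshape_5_31840 : allRange 31840 32000 ((fun k => shapeOK Cfsg.Lie.chevE8 sctE8 (k / 240) (k % 240))) = true := by decide +kernel
theorem e8Slshape_5_32000 : allRange 32000 32160 ((fun k => shapeOK Cfsg.Lie.chevE8 sctE8 (k / 240) (k % 240))) = true := by decide +kernel
theorem e8Slshape_5_32160 : allRange 32160 32320 ((fun k => shapeOK Cfsg.Lie.chevE8 sctE8 (k / 240) (k % 240))) = true := by decide +kernel
theorem e8Slshape_5_32320 : allRange 32320 32480 ((fun k => shapeOK Cfsg.Lie.chevE8 sctE8 (k / 240) (k % 240))) = true := by decide +kernel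
theorem e8Slshape_5_32480 : allRange 32480 32640 ((fun k => shapeOK Cfsg.Lie.chevE8 sctE8 (k / 240) (k % 240))) = true := by decide +kernel
theorem e8Slshape_5_32640 : allRange 32640 32800 ((fun k => shapeOK Cfsg.Lie.chevE8 sctE8 (k / 240) (k % 240))) = true := by decide +kernel
theorem e8Slshape_5_32800 : allRange 32800 32960 ((fun k => shapeOK Cfsg.Lie.chevE8 sctE8 (k / 240) (k % 240))) = true := by decide +kernel
theorem e8Slshape_5_32960 : allRange 32960 33120 ((fun k => shapeOK Cfsg.Lie.chevE8 sctE8 (k / 240) (k % 240))) = true := by decide +kernel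
theorem e8Slshape_5_33120 : allRange 33120 33280 ((fun k => shapeOK Cfsg.Lie.chevE8 sctE8 (k / 240) (k % 240))) = true := by decide +kernel
theorem e8Slshape_5_33280 : allRange 33280 33440 ((fun k => shapeOK Cfsg.Lie.chevE8 sctE8 (k / 240) (k % 240))) = true := by decide +kernel
theorem e8Slshape_5_33440 : allRange 33440 33600 ((fun k => shapeOK Cfsg.Lie.chevE8 sctE8 (k / 240) (k % 240))) = true := by decide +kernel
theorem e8Slshape_5_33600 : allRange 33600 33760 ((fun k => shapeOK Cfsg.Lie.chevE8 sctE8 (k / 240) (k % 240))) = true := by decide +kernel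
theorem e8Slshape_5_33760 : allRange 33760 33920 ((fun k => shapeOK Cfsg.Lie.chevE8 sctE8 (k / 240) (k % 240))) = true := by decide +kernel
theorem e8Slshape_5_33920 : allRange 33920 34080 ((fun k => shapeOK Cfsg.Lie.chevE8 sctE8 (k / 240) (k % 240))) = true := by decide +kernel
theorem e8Slshape_5_34080 : allRange 34080 34240 ((fun k => shapeOK Cfsg.Lie.chevE8 sctE8 (k / 240) (k % 240))) = true := by decide +kernel
theorem e8Slshape_5_34240 : allRange 34240 34400 ((fun k => shapeOK Cfsg.Lie.chevE8 sctE8 (k / 240) (k % 240))) = true := by decide +kernel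
theorem e8Slshape_5_34400 : allRange 34400 34560 ((fun k => shapeOK Cfsg.Lie.chevE8 sctE8 (k / 240) (k % 240))) = true := by decide +kernel
theorem e8Slshape_5_34560 : allRange 34560 34720 ((fun k => shapeOK Cfsg.Lie.chevE8 sctE8 (k / 240) (k % 240))) = true := by decide +kernel
theorem e8Slshape_5_34720 : allRange 34720 34880 ((fun k => shapeOK Cfsg.Lie.chevE8 sctE8 (k / 240) (k % 240))) = true := by decide +kernel
theorem e8Slshape_5_34880 : allRange 34880 35040 ((fun k => shapeOK Cfsg.Lie.chevE8 sctE8 (k / 240) (k % 240))) = true := by decide +kernel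
theorem e8Slshape_5_35040 : allRange 35040 35200 ((fun k => shapeOK Cfsg.Lie.chevE8 sctE8 (k / 240) (k % 240))) = true := by decide +kernel
theorem e8Slshape_5_35200 : allRange 35200 35360 ((fun k => shapeOK Cfsg.Lie.chevE8 sctE8 (k / 240) (k % 240))) = true := by decide +kernel
theorem e8Slshape_5_35360 : allRange 35360 35520 ((fun k => shapeOK Cfsg.Lie.chevE8 sctE8 (k / 240) (k % 240))) = true := by decide +kernel

/-- Pairs of roots of type E8: the shape of the commutator formula (roots 29600 to 35519). -/
theorem e8Slshape_5 : ∀ r, 29600 ≤ r → r < 35520 → ((fun k => shapeOK Cfsg.Lie.chevE8 sctE8 (k / 240) (k % 240))) r = true := by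
  intro r h1 h2
  by_cases c0 : r < 29760
  · exact allRange_spec e8Slshape_5_29600 r (by omega) c0
  by_cases c1 : r < 29920
  · exact allRange_spec e8Slshape_5_29760 r (by omega) c1
  by_cases c2 : r < 30080
  · exact allRange_spec e8Slshape_5_29920 r (by omega) c2
  by_cases c3 : r < 30240
  · exact allRange_spec e8Slshape_5_30080 r (by omega) c3
  by_cases c4 : r < 30400
  · exact allRange_spec e8Slshape_5_30240 r (by omega) c4
  by_cases c5 : r < 30560
  · exact allRange_spec e8Slshape_5_30400 r (by omega) c5
  by_cases c6 : r < 30720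
  · exact allRange_spec e8Slshape_5_30560 r (by omega) c6
  by_cases c7 : r < 30880
  · exact allRange_spec e8Slshape_5_30720 r (by omega) c7
  by_cases c8 : r < 31040
  · exact allRange_spec e8Slshape_5_30880 r (by omega) c8
  by_cases c9 : r < 31200
  · exact allRange_spec e8Slshape_5_31040 r (by omega) c9
  by_cases c10 : r < 31360
  · exact allRange_spec e8Slshape_5_31200 r (by omega) c10
  by_cases c11 : r < 31520
  · exact allRange_spec e8Slshape_5_31360 r (by omega) c11
  by_cases c12 : r < 31680
  · exact allRange_spec e8Slshape_5_31520 r (by omega) c12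
  by_cases c13 : r < 31840
  · exact allRange_spec e8Slshape_5_31680 r (by omega) c13
  by_cases c14 : r < 32000
  · exact allRange_spec e8Slshape_5_31840 r (by omega) c14
  by_cases c15 : r < 32160
  · exact allRange_spec e8Slshape_5_32000 r (by omega) c15
  by_cases c16 : r < 32320
  · exact allRange_spec e8Slshape_5_32160 r (by omega) c16
  by_cases c17 : r < 32480
  · exact allRange_spec e8Slshape_5_32320 r (by omega) c17
  by_cases c18 : r < 32640
  · exact allRange_spec e8Slshape_5_32480 r (by omega) c18
  by_cases c19 : r < 32800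
  · exact allRange_spec e8Slshape_5_32640 r (by omega) c19
  by_cases c20 : r < 32960
  · exact allRange_spec e8Slshape_5_32800 r (by omega) c20
  by_cases c21 : r < 33120
  · exact allRange_spec e8Slshape_5_32960 r (by omega) c21
  by_cases c22 : r < 33280
  · exact allRange_spec e8Slshape_5_33120 r (by omega) c22
  by_cases c23 : r < 33440
  · exact allRange_spec e8Slshape_5_33280 r (by omega) c23
  by_cases c24 : r < 33600
  · exact allRange_spec e8Slshape_5_33440 r (by omega) c24
  by_cases c25 : r < 33760
  · exact allRange_spec e8Slshape_5_33600 r (by omega) c25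
  by_cases c26 : r < 33920
  · exact allRange_spec e8Slshape_5_33760 r (by omega) c26
  by_cases c27 : r < 34080
  · exact allRange_spec e8Slshape_5_33920 r (by omega) c27
  by_cases c28 : r < 34240
  · exact allRange_spec e8Slshape_5_34080 r (by omega) c28
  by_cases c29 : r < 34400
  · exact allRange_spec e8Slshape_5_34240 r (by omega) c29
  by_cases c30 : r < 34560
  · exact allRange_spec e8Slshape_5_34400 r (by omega) c30
  by_cases c31 : r < 34720
  · exact allRange_spec e8Slshape_5_34560 r (by omega) c31
  by_cases c32 : r < 34880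
  · exact allRange_spec e8Slshape_5_34720 r (by omega) c32
  by_cases c33 : r < 35040
  · exact allRange_spec e8Slshape_5_34880 r (by omega) c33
  by_cases c34 : r < 35200
  · exact allRange_spec e8Slshape_5_35040 r (by omega) c34
  by_cases c35 : r < 35360
  · exact allRange_spec e8Slshape_5_35200 r (by omega) c35
  exact allRange_spec e8Slshape_5_35360 r (by omega) h2

end Cfsg.Agent.Lib.Helper3.ChevM
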