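import Cfsg.Prelude.Def_ChevE8
import Cfsg.Agent.Lib.Helper3.ChevData.E8Slct
import Cfsg.Agent.Lib.Helper3.StS3
set_option autoImplicit false
set_option maxRecDepth 1000000
set_option Elab.async false

namespace Cfsg.Agent.Lib.Helper3.ChevM
open Cfsg.Agent.Lib.Helper3.StS

theorem e8Slshape_8_47360 : allRange 47360 47520 ((fun k => shapeOK Cfsg.Lie.chevE8 sctE8 (k / 240) (k % 240))) = true := by decide +kernel
theorem e8Slshape_8_47520 : allRange 47520 47680 ((fun k => shapeOK Cfsg.Lie.chevE8 sctE8 (k / 240) (k % 240))) = true := by decide +kernel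
theorem e8Slshape_8_47680 : allRange 47680 47840 ((fun k => shapeOK Cfsg.Lie.chevE8 sctE8 (k / 240) (k % 240))) = true := by decide +kernel
theorem e8Slshape_8_47840 : allRange 47840 48000 ((fun k => shapeOK Cfsg.Lie.chevE8 sctE8 (k / 240) (k % 240))) = true := by decide +kernel
theorem e8Slshape_8_48000 : allRange 48000 48160 ((fun k => shapeOK Cfsg.Lie.chevE8 sctE8 (k / 240) (k % 240))) = true := by decide +kernel
theorem e8Slshape_8_48160 : allRange 48160 48320 ((fun k => shapeOK Cfsg.Lie.chevE8 sctE8 (k / 240) (k % 240))) = true := by decide +kernel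
theorem e8Slshape_8_48320 : allRange 48320 48480 ((fun k => shapeOK Cfsg.Lie.chevE8 sctE8 (k / 240) (k % 240))) = true := by decide +kernel
theorem e8Slshape_8_48480 : allRange 48480 48640 ((fun k => shapeOK Cfsg.Lie.chevE8 sctE8 (k / 240) (k % 240))) = true := by decide +kernel
theorem e8Slshape_8_48640 : allRange 48640 48800 ((fun k => shapeOK Cfsg.Lie.chevE8 sctE8 (k / 240) (k % 240))) = true := by decide +kernel
theorem e8Slshape_8_48800 : allRange 48800 48960 ((fun k => shapeOK Cfsg.Lie.chevE8 sctE8 (k / 240) (k % 240))) = true := by decide +kernel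
theorem e8Slshape_8_48960 : allRange 48960 49120 ((fun k => shapeOK Cfsg.Lie.chevE8 sctE8 (k / 240) (k % 240))) = true := by decide +kernel
theorem e8Slshape_8_49120 : allRange 49120 49280 ((fun k => shapeOK Cfsg.Lie.chevE8 sctE8 (k / 240) (k % 240))) = true := by decide +kernel
theorem e8Slshape_8_49280 : allRange 49280 49440 ((fun k => shapeOK Cfsg.Lie.chevE8 sctE8 (k / 240) (k % 240))) = true := by decide +kernel
theorem e8Slshape_8_49440 : allRange 49440 49600 ((fun k => shapeOK Cfsg.Lie.chevE8 sctE8 (k / 240) (k % 240))) = true := by decide +kernel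
theorem e8Slshape_8_49600 : allRange 49600 49760 ((fun k => shapeOK Cfsg.Lie.chevE8 sctE8 (k / 240) (k % 240))) = true := by decide +kernel
theorem e8Slshape_8_49760 : allRange 49760 49920 ((fun k => shapeOK Cfsg.Lie.chevE8 sctE8 (k / 240) (k % 240))) = true := by decide +kernel
theorem e8Slshape_8_49920 : allRange 49920 50080 ((fun k => shapeOK Cfsg.Lie.chevE8 sctE8 (k / 240) (k % 240))) = true := by decide +kernel
theorem e8Slshape_8_50080 : allRange 50080 50240 ((fun k => shapeOK Cfsg.Lie.chevE8 sctE8 (k / 240) (k % 240))) = true := by decide +kernel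
theorem e8Slshape_8_50240 : allRange 50240 50400 ((fun k => shapeOK Cfsg.Lie.chevE8 sctE8 (k / 240) (k % 240))) = true := by decide +kernel
theorem e8Slshape_8_50400 : allRange 50400 50560 ((fun k => shapeOK Cfsg.Lie.chevE8 sctE8 (k / 240) (k % 240))) = true := by decide +kernel
theorem e8Slshape_8_50560 : allRange 50560 50720 ((fun k => shapeOK Cfsg.Lie.chevE8 sctE8 (k / 240) (k % 240))) = true := by decide +kernel
theorem e8Slshape_8_50720 : allRange 50720 50880 ((fun k => shapeOK Cfsg.Lie.chevE8 sctE8 (k / 240) (k % 240))) = true := by decide +kernel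
theorem e8Slshape_8_50880 : allRange 50880 51040 ((fun k => shapeOK Cfsg.Lie.chevE8 sctE8 (k / 240) (k % 240))) = true := by decide +kernel
theorem e8Slshape_8_51040 : allRange 51040 51200 ((fun k => shapeOK Cfsg.Lie.chevE8 sctE8 (k / 240) (k % 240))) = true := by decide +kernel
theorem e8Slshape_8_51200 : allRange 51200 51360 ((fun k => shapeOK Cfsg.Lie.chevE8 sctE8 (k / 240) (k % 240))) = true := by decide +kernel
theorem e8Slshape_8_51360 : allRange 51360 51520 ((fun k => shapeOK Cfsg.Lie.chevE8 sctE8 (k / 240) (k % 240))) = true := by decide +kernel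
theorem e8Slshape_8_51520 : allRange 51520 51680 ((fun k => shapeOK Cfsg.Lie.chevE8 sctE8 (k / 240) (k % 240))) = true := by decide +kernel
theorem e8Slshape_8_51680 : allRange 51680 51840 ((fun k => shapeOK Cfsg.Lie.chevE8 sctE8 (k / 240) (k % 240))) = true := by decide +kernel
theorem e8Slshape_8_51840 : allRange 51840 52000 ((fun k => shapeOK Cfsg.Lie.chevE8 sctE8 (k / 240) (k % 240))) = true := by decide +kernel
theorem e8Slshape_8_52000 : allRange 52000 52160 ((fun k => shapeOK Cfsg.Lie.chevE8 sctE8 (k / 240) (k % 240))) = true := by decide +kernel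
theorem e8Slshape_8_52160 : allRange 52160 52320 ((fun k => shapeOK Cfsg.Lie.chevE8 sctE8 (k / 240) (k % 240))) = true := by decide +kernel
theorem e8Slshape_8_52320 : allRange 52320 52480 ((fun k => shapeOK Cfsg.Lie.chevE8 sctE8 (k / 240) (k % 240))) = true := by decide +kernel
theorem e8Slshape_8_52480 : allRange 52480 52640 ((fun k => shapeOK Cfsg.Lie.chevE8 sctE8 (k / 240) (k % 240))) = true := by decide +kernel
theorem e8Slshape_8_52640 : allRange 52640 52800 ((fun k => shapeOK Cfsg.Lie.chevE8 sctE8 (k / 240) (k % 240))) = true := by decide +kernel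
theorem e8Slshape_8_52800 : allRange 52800 52960 ((fun k => shapeOK Cfsg.Lie.chevE8 sctE8 (k / 240) (k % 240))) = true := by decide +kernel
theorem e8Slshape_8_52960 : allRange 52960 53120 ((fun k => shapeOK Cfsg.Lie.chevE8 sctE8 (k / 240) (k % 240))) = true := by decide +kernel
theorem e8Slshape_8_53120 : allRange 53120 53280 ((fun k => shapeOK Cfsg.Lie.chevE8 sctE8 (k / 240) (k % 240))) = true := by decide +kernel

/-- Pairs of roots of type E8: the shape of the commutator formula (roots 47360 to 53279). -/
theorem e8Slshape_8 : ∀ r, 47360 ≤ r → r < 53280 → ((fun k => shapeOK Cfsg.Lie.chevE8 sctE8 (k / 240) (k % 240))) r = true := by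
  intro r h1 h2
  by_cases c0 : r < 47520
  · exact allRange_spec e8Slshape_8_47360 r (by omega) c0
  by_cases c1 : r < 47680
  · exact allRange_spec e8Slshape_8_47520 r (by omega) c1
  by_cases c2 : r < 47840
  · exact allRange_spec e8Slshape_8_47680 r (by omega) c2
  by_cases c3 : r < 48000
  · exact allRange_spec e8Slshape_8_47840 r (by omega) c3
  by_cases c4 : r < 48160
  · exact allRange_spec e8Slshape_8_48000 r (by omega) c4
  by_cases c5 : r < 48320
  · exact allRange_spec e8Slshape_8_48160 r (by omega) c5
  by_cases c6 : r < 48480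
  · exact allRange_spec e8Slshape_8_48320 r (by omega) c6
  by_cases c7 : r < 48640
  · exact allRange_spec e8Slshape_8_48480 r (by omega) c7
  by_cases c8 : r < 48800
  · exact allRange_spec e8Slshape_8_48640 r (by omega) c8
  by_cases c9 : r < 48960
  · exact allRange_spec e8Slshape_8_48800 r (by omega) c9
  by_cases c10 : r < 49120
  · exact allRange_spec e8Slshape_8_48960 r (by omega) c10
  by_cases c11 : r < 49280
  · exact allRange_spec e8Slshape_8_49120 r (by omega) c11
  by_cases c12 : r < 49440
  · exact allRange_spec e8Slshape_8_49280 r (by omega) c12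
  by_cases c13 : r < 49600
  · exact allRange_spec e8Slshape_8_49440 r (by omega) c13
  by_cases c14 : r < 49760
  · exact allRange_spec e8Slshape_8_49600 r (by omega) c14
  by_cases c15 : r < 49920
  · exact allRange_spec e8Slshape_8_49760 r (by omega) c15
  by_cases c16 : r < 50080
  · exact allRange_spec e8Slshape_8_49920 r (by omega) c16
  by_cases c17 : r < 50240
  · exact allRange_spec e8Slshape_8_50080 r (by omega) c17
  by_cases c18 : r < 50400
  · exact allRange_spec e8Slshape_8_50240 r (by omega) c18
  by_cases c19 : r < 50560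
  · exact allRange_spec e8Slshape_8_50400 r (by omega) c19
  by_cases c20 : r < 50720
  · exact allRange_spec e8Slshape_8_50560 r (by omega) c20
  by_cases c21 : r < 50880
  · exact allRange_spec e8Slshape_8_50720 r (by omega) c21
  by_cases c22 : r < 51040
  · exact allRange_spec e8Slshape_8_50880 r (by omega) c22
  by_cases c23 : r < 51200
  · exact allRange_spec e8Slshape_8_51040 r (by omega) c23
  by_cases c24 : r < 51360
  · exact allRange_spec e8Slshape_8_51200 r (by omega) c24
  by_cases c25 : r < 51520
  · exact allRange_spec e8Slshape_8_51360 r (by omega) c25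
  by_cases c26 : r < 51680
  · exact allRange_spec e8Slshape_8_51520 r (by omega) c26
  by_cases c27 : r < 51840
  · exact allRange_spec e8Slshape_8_51680 r (by omega) c27
  by_cases c28 : r < 52000
  · exact allRange_spec e8Slshape_8_51840 r (by omega) c28
  by_cases c29 : r < 52160
  · exact allRange_spec e8Slshape_8_52000 r (by omega) c29
  by_cases c30 : r < 52320
  · exact allRange_spec e8Slshape_8_52160 r (by omega) c30
  by_cases c31 : r < 52480
  · exact allRange_spec e8Slshape_8_52320 r (by omega) c31
  by_cases c32 : r < 52640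
  · exact allRange_spec e8Slshape_8_52480 r (by omega) c32
  by_cases c33 : r < 52800
  · exact allRange_spec e8Slshape_8_52640 r (by omega) c33
  by_cases c34 : r < 52960
  · exact allRange_spec e8Slshape_8_52800 r (by omega) c34
  by_cases c35 : r < 53120
  · exact allRange_spec e8Slshape_8_52960 r (by omega) c35
  exact allRange_spec e8Slshape_8_53120 r (by omega) h2

end Cfsg.Agent.Lib.Helper3.ChevM
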