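import Cfsg.Prelude.Def_ChevE8
import Cfsg.Agent.Lib.Helper3.ChevData.E8Slct
import Cfsg.Agent.Lib.Helper3.StS3
set_option autoImplicit false
set_option maxRecDepth 1000000
set_option Elab.async false

namespace Cfsg.Agent.Lib.Helper3.ChevM
open Cfsg.Agent.Lib.Helper3.StS

theorem e8Slshape_0_0 : allRange 0 160 ((fun k => shapeOK Cfsg.Lie.chevE8 sctE8 (k / 240) (k % 240))) = true := by decide +kernel
theorem e8Slshape_0_160 : allRange 160 320 ((fun k => shapeOK Cfsg.Lie.chevE8 sctE8 (k / 240) (k % 240))) = true := by decide +kernel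
theorem e8Slshape_0_320 : allRange 320 480 ((fun k => shapeOK Cfsg.Lie.chevE8 sctE8 (k / 240) (k % 240))) = true := by decide +kernel
theorem e8Slshape_0_480 : allRange 480 640 ((fun k => shapeOK Cfsg.Lie.chevE8 sctE8 (k / 240) (k % 240))) = true := by decide +kernel
theorem e8Slshape_0_640 : allRange 640 800 ((fun k => shapeOK Cfsg.Lie.chevE8 sctE8 (k / 240) (k % 240))) = true := by decide +kernel
theorem e8Slshape_0_800 : allRange 800 960 ((fun k => shapeOK Cfsg.Lie.chevE8 sctE8 (k / 240) (k % 240))) = true := by decide +kernel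
theorem e8Slshape_0_960 : allRange 960 1120 ((fun k => shapeOK Cfsg.Lie.chevE8 sctE8 (k / 240) (k % 240))) = true := by decide +kernel
theorem e8Slshape_0_1120 : allRange 1120 1280 ((fun k => shapeOK Cfsg.Lie.chevE8 sctE8 (k / 240) (k % 240))) = true := by decide +kernel
theorem e8Slshape_0_1280 : allRange 1280 1440 ((fun k => shapeOK Cfsg.Lie.chevE8 sctE8 (k / 240) (k % 240))) = true := by decide +kernel
theorem e8Slshape_0_1440 : allRange 1440 1600 ((fun k => shapeOK Cfsg.Lie.chevE8 sctE8 (k / 240) (k % 240))) = true := by decide +kernel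
theorem e8Slshape_0_1600 : allRange 1600 1760 ((fun k => shapeOK Cfsg.Lie.chevE8 sctE8 (k / 240) (k % 240))) = true := by decide +kernel
theorem e8Slshape_0_1760 : allRange 1760 1920 ((fun k => shapeOK Cfsg.Lie.chevE8 sctE8 (k / 240) (k % 240))) = true := by decide +kernel
theorem e8Slshape_0_1920 : allRange 1920 2080 ((fun k => shapeOK Cfsg.Lie.chevE8 sctE8 (k / 240) (k % 240))) = true := by decide +kernel
theorem e8Slshape_0_2080 : allRange 2080 2240 ((fun k => shapeOK Cfsg.Lie.chevE8 sctE8 (k / 240) (k % 240))) = true := by decide +kernel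
theorem e8Slshape_0_2240 : allRange 2240 2400 ((fun k => shapeOK Cfsg.Lie.chevE8 sctE8 (k / 240) (k % 240))) = true := by decide +kernel
theorem e8Slshape_0_2400 : allRange 2400 2560 ((fun k => shapeOK Cfsg.Lie.chevE8 sctE8 (k / 240) (k % 240))) = true := by decide +kernel
theorem e8Slshape_0_2560 : allRange 2560 2720 ((fun k => shapeOK Cfsg.Lie.chevE8 sctE8 (k / 240) (k % 240))) = true := by decide +kernel
theorem e8Slshape_0_2720 : allRange 2720 2880 ((fun k => shapeOK Cfsg.Lie.chevE8 sctE8 (k / 240) (k % 240))) = true := by decide +kernel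
theorem e8Slshape_0_2880 : allRange 2880 3040 ((fun k => shapeOK Cfsg.Lie.chevE8 sctE8 (k / 240) (k % 240))) = true := by decide +kernel
theorem e8Slshape_0_3040 : allRange 3040 3200 ((fun k => shapeOK Cfsg.Lie.chevE8 sctE8 (k / 240) (k % 240))) = true := by decide +kernel
theorem e8Slshape_0_3200 : allRange 3200 3360 ((fun k => shapeOK Cfsg.Lie.chevE8 sctE8 (k / 240) (k % 240))) = true := by decide +kernel
theorem e8Slshape_0_3360 : allRange 3360 3520 ((fun k => shapeOK Cfsg.Lie.chevE8 sctE8 (k / 240) (k % 240))) = true := by decide +kernel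
theorem e8Slshape_0_3520 : allRange 3520 3680 ((fun k => shapeOK Cfsg.Lie.chevE8 sctE8 (k / 240) (k % 240))) = true := by decide +kernel
theorem e8Slshape_0_3680 : allRange 3680 3840 ((fun k => shapeOK Cfsg.Lie.chevE8 sctE8 (k / 240) (k % 240))) = true := by decide +kernel
theorem e8Slshape_0_3840 : allRange 3840 4000 ((fun k => shapeOK Cfsg.Lie.chevE8 sctE8 (k / 240) (k % 240))) = true := by decide +kernel
theorem e8Slshape_0_4000 : allRange 4000 4160 ((fun k => shapeOK Cfsg.Lie.chevE8 sctE8 (k / 240) (k % 240))) = true := by decide +kernel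
theorem e8Slshape_0_4160 : allRange 4160 4320 ((fun k => shapeOK Cfsg.Lie.chevE8 sctE8 (k / 240) (k % 240))) = true := by decide +kernel
theorem e8Slshape_0_4320 : allRange 4320 4480 ((fun k => shapeOK Cfsg.Lie.chevE8 sctE8 (k / 240) (k % 240))) = true := by decide +kernel
theorem e8Slshape_0_4480 : allRange 4480 4640 ((fun k => shapeOK Cfsg.Lie.chevE8 sctE8 (k / 240) (k % 240))) = true := by decide +kernel
theorem e8Slshape_0_4640 : allRange 4640 4800 ((fun k => shapeOK Cfsg.Lie.chevE8 sctE8 (k / 240) (k % 240))) = true := by decide +kernel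
theorem e8Slshape_0_4800 : allRange 4800 4960 ((fun k => shapeOK Cfsg.Lie.chevE8 sctE8 (k / 240) (k % 240))) = true := by decide +kernel
theorem e8Slshape_0_4960 : allRange 4960 5120 ((fun k => shapeOK Cfsg.Lie.chevE8 sctE8 (k / 240) (k % 240))) = true := by decide +kernel
theorem e8Slshape_0_5120 : allRange 5120 5280 ((fun k => shapeOK Cfsg.Lie.chevE8 sctE8 (k / 240) (k % 240))) = true := by decide +kernel
theorem e8Slshape_0_5280 : allRange 5280 5440 ((fun k => shapeOK Cfsg.Lie.chevE8 sctE8 (k / 240) (k % 240))) = true := by decide +kernel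
theorem e8Slshape_0_5440 : allRange 5440 5600 ((fun k => shapeOK Cfsg.Lie.chevE8 sctE8 (k / 240) (k % 240))) = true := by decide +kernel
theorem e8Slshape_0_5600 : allRange 5600 5760 ((fun k => shapeOK Cfsg.Lie.chevE8 sctE8 (k / 240) (k % 240))) = true := by decide +kernel
theorem e8Slshape_0_5760 : allRange 5760 5920 ((fun k => shapeOK Cfsg.Lie.chevE8 sctE8 (k / 240) (k % 240))) = true := by decide +kernel

/-- Pairs of roots of type E8: the shape of the commutator formula (roots 0 to 5919). -/
theorem e8Slshape_0 : ∀ r, 0 ≤ r → r < 5920 → ((fun k => shapeOK Cfsg.Lie.chevE8 sctE8 (k / 240) (k % 240))) r = true := by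
  intro r h1 h2
  by_cases c0 : r < 160
  · exact allRange_spec e8Slshape_0_0 r (by omega) c0
  by_cases c1 : r < 320
  · exact allRange_spec e8Slshape_0_160 r (by omega) c1
  by_cases c2 : r < 480
  · exact allRange_spec e8Slshape_0_320 r (by omega) c2
  by_cases c3 : r < 640
  · exact allRange_spec e8Slshape_0_480 r (by omega) c3
  by_cases c4 : r < 800
  · exact allRange_spec e8Slshape_0_640 r (by omega) c4
  by_cases c5 : r < 960
  · exact allRange_spec e8Slshape_0_800 r (by omega) c5
  by_cases c6 : r < 1120
  · exact allRange_spec e8Slshape_0_960 r (by omega) c6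
  by_cases c7 : r < 1280
  · exact allRange_spec e8Slshape_0_1120 r (by omega) c7
  by_cases c8 : r < 1440
  · exact allRange_spec e8Slshape_0_1280 r (by omega) c8
  by_cases c9 : r < 1600
  · exact allRange_spec e8Slshape_0_1440 r (by omega) c9
  by_cases c10 : r < 1760
  · exact allRange_spec e8Slshape_0_1600 r (by omega) c10
  by_cases c11 : r < 1920
  · exact allRange_spec e8Slshape_0_1760 r (by omega) c11
  by_cases c12 : r < 2080
  · exact allRange_spec e8Slshape_0_1920 r (by omega) c12
  by_cases c13 : r < 2240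
  · exact allRange_spec e8Slshape_0_2080 r (by omega) c13
  by_cases c14 : r < 2400
  · exact allRange_spec e8Slshape_0_2240 r (by omega) c14
  by_cases c15 : r < 2560
  · exact allRange_spec e8Slshape_0_2400 r (by omega) c15
  by_cases c16 : r < 2720
  · exact allRange_spec e8Slshape_0_2560 r (by omega) c16
  by_cases c17 : r < 2880
  · exact allRange_spec e8Slshape_0_2720 r (by omega) c17
  by_cases c18 : r < 3040
  · exact allRange_spec e8Slshape_0_2880 r (by omega) c18
  by_cases c19 : r < 3200
  · exact allRange_spec e8Slshape_0_3040 r (by omega) c19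
  by_cases c20 : r < 3360
  · exact allRange_spec e8Slshape_0_3200 r (by omega) c20
  by_cases c21 : r < 3520
  · exact allRange_spec e8Slshape_0_3360 r (by omega) c21
  by_cases c22 : r < 3680
  · exact allRange_spec e8Slshape_0_3520 r (by omega) c22
  by_cases c23 : r < 3840
  · exact allRange_spec e8Slshape_0_3680 r (by omega) c23
  by_cases c24 : r < 4000
  · exact allRange_spec e8Slshape_0_3840 r (by omega) c24
  by_cases c25 : r < 4160
  · exact allRange_spec e8Slshape_0_4000 r (by omega) c25
  by_cases c26 : r < 4320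
  · exact allRange_spec e8Slshape_0_4160 r (by omega) c26
  by_cases c27 : r < 4480
  · exact allRange_spec e8Slshape_0_4320 r (by omega) c27
  by_cases c28 : r < 4640
  · exact allRange_spec e8Slshape_0_4480 r (by omega) c28
  by_cases c29 : r < 4800
  · exact allRange_spec e8Slshape_0_4640 r (by omega) c29
  by_cases c30 : r < 4960
  · exact allRange_spec e8Slshape_0_4800 r (by omega) c30
  by_cases c31 : r < 5120
  · exact allRange_spec e8Slshape_0_4960 r (by omega) c31
  by_cases c32 : r < 5280
  · exact allRange_spec e8Slshape_0_5120 r (by omega) c32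
  by_cases c33 : r < 5440
  · exact allRange_spec e8Slshape_0_5280 r (by omega) c33
  by_cases c34 : r < 5600
  · exact allRange_spec e8Slshape_0_5440 r (by omega) c34
  by_cases c35 : r < 5760
  · exact allRange_spec e8Slshape_0_5600 r (by omega) c35
  exact allRange_spec e8Slshape_0_5760 r (by omega) h2

end Cfsg.Agent.Lib.Helper3.ChevM
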