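import Cfsg.Agent.Lib.Helper3.ChevM7
import Cfsg.Agent.Lib.Helper3.ChevData.E8Slctok
import Cfsg.Agent.Lib.Helper3.ChevData.E8Sllema
import Cfsg.Agent.Lib.Helper3.ChevData.E8Sldec
import Cfsg.Agent.Lib.Helper3.ChevData.E8Slhop
import Cfsg.Agent.Lib.Helper3.ChevData.E8Slshape
import Cfsg.Agent.Lib.Helper3.ChevData.E8Slbase
set_option autoImplicit false
set_option maxRecDepth 1000000

namespace Cfsg.Agent.Lib.Helper3.ChevM
open Cfsg.Agent.Lib.Helper3.StS

/-- The table checks for the splitting of the central extensions of the Steinberg group of type E8 over an arbitrary field. -/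
def slHypE8 : SLHyp Cfsg.Lie.chevE8 where
  ct := sctE8
  wa := swaE8
  nb := snbE8
  base := sbaseE8
  hs := shsE8
  dist := sdistE8
  hct := of_pairRange (m := 240) (n := 240) e8Slctok
  hA := of_pairRange (m := 240) (n := 240) e8Sllema
  hdec := of_pairRange (m := 240) (n := 240) e8Sldec
  hhop := of_pairRange (m := 240) (n := 240) e8Slhop
  hbase := e8Slbase
  hshape := of_pairRange (m := 240) (n := 240) e8Slshape

end Cfsg.Agent.Lib.Helper3.ChevM
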