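import Cfsg.Prelude.Def_ChevE8
set_option autoImplicit false
set_option maxRecDepth 1000000

namespace Cfsg.Agent.Lib.Helper3.ChevM

/-- For each root of type E8, a word of fundamental reflections and a fundamental root, all in the support of the root. -/
def srwE8 (r : ℕ) : List ℕ × ℕ :=
  (#[([7, 6, 5, 4, 3, 2, 1, 3, 4, 5, 6, 7, 0, 2, 3, 4, 5, 6, 1, 3, 4, 5, 2, 3, 4, 1, 3, 2, 0], 0), ([6, 5, 4, 3, 2, 1, 3, 4, 5, 6, 7, 0, 2, 3, 4, 5, 6, 1, 3, 4, 5, 2, 3, 4, 1, 3, 2, 0], 0), ([5, 4, 3, 2, 1, 3, 4, 5, 6, 7, 0, 2, 3, 4, 5, 6, 1, 3, 4, 5, 2, 3, 4, 1, 3, 2, 0], 0), ([4, 3, 2, 1, 3, 4, 5, 6, 7, 0, 2, 3, 4, 5, 6, 1, 3, 4, 5, 2, 3, 4, 1, 3, 2, 0], 0), ([3, 2, 1, 3,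 4, 5, 6, 7, 0, 2, 3, 4, 5, 6, 1, 3, 4, 5, 2, 3, 4, 1, 3, 2, 0], 0), ([2, 1, 3, 4, 5, 6, 7, 0, 2, 3, 4, 5, 6, 1, 3, 4, 5, 2, 3, 4, 1, 3, 2, 0], 0), ([1, 3, 4, 5, 6, 7, 0, 2, 3, 4, 5, 6, 1, 3, 4, 5, 2, 3, 4, 1, 3, 2, 0], 0), ([2, 3, 4, 5, 6, 7, 0, 2, 3, 4, 5, 6, 1, 3, 4, 5, 2, 3, 4, 1, 3, 2, 0], 0), ([3, 4, 5, 6, 7, 0, 2, 3, 4, 5, 6, 1, 3, 4, 5, 2, 3, 4, 1, 3, 2, 0], 0), ([4, 5, 6, 7, 0, 2, 3, 4, 5, 6, 1, 3, 4, 5, 2, 3, 4, 1, 3, 2, 0], 0), ([5, 6, 7, 0, 2, 3, 4, 5, 6, 1, 3, 4, 5, 2, 3, 4, 1, 3, 2, 0], 0), ([6, 7, 0, 2, 3, 4, 5, 6, 1, 3, 4, 5, 2, 3, 4, 1, 3, 2, 0], 0), ([7, 0, 2, 3, 4, 5, 6, 1, 3, 4, 5, 2, 3, 4, 1, 3, 2, 0], 0), ([0, 2, 3, 4, 5, 6, 1, 3, 4, 5,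 2, 3, 4, 1, 3, 2, 0], 0), ([1, 3, 4, 5, 6, 7, 2, 3, 4, 5, 6, 1, 3, 4, 5, 2, 3, 4, 1, 3, 2, 0], 0), ([3, 4, 5, 6, 7, 2, 3, 4, 5, 6, 1, 3, 4, 5, 2, 3, 4, 1, 3, 2, 0], 0), ([4, 5, 6, 7, 2, 3, 4, 5, 6, 1, 3, 4, 5, 2, 3, 4, 1, 3, 2, 0], 0), ([5, 6, 7, 2, 3, 4, 5, 6, 1, 3, 4, 5, 2, 3, 4, 1, 3, 2, 0], 0), ([6, 7, 2, 3, 4, 5, 6, 1, 3, 4, 5, 2, 3, 4, 1, 3, 2, 0], 0), ([7, 2, 3, 4, 5, 6, 1, 3, 4, 5, 2, 3, 4, 1, 3, 2, 0], 0), ([2, 3, 4, 5, 6, 1, 3, 4, 5, 2, 3, 4, 1, 3, 2, 0], 0), ([4, 5, 6, 7, 3, 4, 5, 6, 1, 3, 4, 5, 2, 3, 4, 1, 3, 2, 0], 0), ([5, 6, 7, 3, 4, 5, 6, 1, 3, 4, 5, 2, 3, 4, 1, 3, 2, 0], 0), ([6, 7, 3, 4, 5, 6, 1, 3, 4, 5, 2, 3, 4, 1, 3, 2, 0], 0), ([7, 3,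 4, 5, 6, 1, 3, 4, 5, 2, 3, 4, 1, 3, 2, 0], 0), ([3, 4, 5, 6, 1, 3, 4, 5, 2, 3, 4, 1, 3, 2, 0], 0), ([5, 6, 7, 4, 5, 6, 1, 3, 4, 5, 2, 3, 4, 1, 3, 2, 0], 0), ([6, 7, 4, 5, 6, 1, 3, 4, 5, 2, 3, 4, 1, 3, 2, 0], 0), ([7, 4, 5, 6, 1, 3, 4, 5, 2, 3, 4, 1, 3, 2, 0], 0), ([4, 5, 6, 1, 3, 4, 5, 2, 3, 4, 1, 3, 2, 0], 0), ([6, 7, 5, 6, 1, 3, 4, 5, 2, 3, 4, 1, 3, 2, 0], 0), ([7, 5, 6, 1, 3, 4, 5, 2, 3, 4, 1, 3, 2, 0], 0), ([5, 6, 1, 3, 4, 5, 2, 3, 4, 1, 3, 2, 0], 0), ([7, 6, 1, 3, 4, 5, 2, 3, 4, 1, 3, 2, 0], 0), ([6, 1, 3, 4, 5, 2, 3, 4, 1, 3, 2, 0], 0), ([1, 3, 4, 5, 2, 3, 4, 1, 3, 2, 0], 0), ([5, 6, 7, 4, 5, 6, 3, 4, 5, 2, 3, 4, 1, 3, 2, 0], 0), ([6, 7, 4, 5, 6, 3, 4,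 5, 2, 3, 4, 1, 3, 2, 0], 0), ([7, 4, 5, 6, 3, 4, 5, 2, 3, 4, 1, 3, 2, 0], 0), ([4, 5, 6, 3, 4, 5, 2, 3, 4, 1, 3, 2, 0], 0), ([6, 7, 5, 6, 3, 4, 5, 2, 3, 4, 1, 3, 2, 0], 0), ([7, 5, 6, 3, 4, 5, 2, 3, 4, 1, 3, 2, 0], 0), ([5, 6, 3, 4, 5, 2, 3, 4, 1, 3, 2, 0], 0), ([7, 6, 3, 4, 5, 2, 3, 4, 1, 3, 2, 0], 0), ([6, 3, 4, 5, 2, 3, 4, 1, 3, 2, 0], 0), ([3, 4, 5, 2, 3, 4, 1, 3, 2, 0], 0), ([6, 7, 5, 6, 4, 5, 2, 3, 4, 1, 3, 2, 0], 0), ([7, 5, 6, 4, 5, 2, 3, 4, 1, 3, 2, 0], 0), ([5, 6, 4, 5, 2, 3, 4, 1, 3, 2, 0], 0), ([7, 6, 4, 5, 2, 3, 4, 1, 3, 2, 0], 0), ([6, 4, 5, 2, 3, 4, 1, 3, 2, 0], 0), ([4, 5, 2, 3, 4, 1, 3, 2, 0], 0), ([7, 6, 5, 2, 3, 4, 1, 3, 2, 0], 0), ([6, 5,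 2, 3, 4, 1, 3, 2, 0], 0), ([5, 2, 3, 4, 1, 3, 2, 0], 0), ([2, 3, 4, 1, 3, 2, 0], 0), ([6, 7, 5, 6, 4, 5, 3, 4, 1, 3, 2, 0], 0), ([7, 5, 6, 4, 5, 3, 4, 1, 3, 2, 0], 0), ([5, 6, 4, 5, 3, 4, 1, 3, 2, 0], 0), ([7, 6, 4, 5, 3, 4, 1, 3, 2, 0], 0), ([6, 4, 5, 3, 4, 1, 3, 2, 0], 0), ([4, 5, 3, 4, 1, 3, 2, 0], 0), ([7, 6, 5, 3, 4, 1, 3, 2, 0], 0), ([6, 5, 3, 4, 1, 3, 2, 0], 0), ([5, 3, 4, 1, 3, 2, 0], 0), ([3, 4, 1, 3, 2, 0], 0), ([7, 6, 5, 4, 1, 3, 2, 0], 0), ([6, 5, 4, 1, 3, 2, 0], 0), ([5, 4, 1, 3, 2, 0], 0), ([4, 1, 3, 2, 0], 0), ([1, 3, 2, 0], 0), ([7, 6, 5, 4, 3, 2, 0], 0), ([6, 5, 4, 3, 2, 0], 0), ([5, 4, 3, 2, 0], 0), ([4, 3, 2, 0], 0), ([3, 2, 0], 0), ([2,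 0], 0), ([0], 0), ([6, 7, 5, 6, 4, 5, 3, 4, 2, 3, 1], 1), ([7, 5, 6, 4, 5, 3, 4, 2, 3, 1], 1), ([5, 6, 4, 5, 3, 4, 2, 3, 1], 1), ([7, 6, 4, 5, 3, 4, 2, 3, 1], 1), ([6, 4, 5, 3, 4, 2, 3, 1], 1), ([4, 5, 3, 4, 2, 3, 1], 1), ([7, 6, 5, 3, 4, 2, 3, 1], 1), ([6, 5, 3, 4, 2, 3, 1], 1), ([5, 3, 4, 2, 3, 1], 1), ([3, 4, 2, 3, 1], 1), ([7, 6, 5, 4, 2, 3, 1], 1), ([6, 5, 4, 2, 3, 1], 1), ([5, 4, 2, 3, 1], 1), ([4, 2, 3, 1], 1), ([2, 3, 1], 1), ([7, 6, 5, 4, 3, 1], 1), ([6, 5, 4, 3, 1], 1), ([5, 4, 3, 1], 1), ([4, 3, 1], 1), ([3, 1], 1), ([1], 1), ([7, 6, 5, 4, 3, 2], 2), ([6, 5, 4, 3, 2], 2), ([5, 4, 3, 2], 2), ([4, 3, 2], 2), ([3, 2], 2), ([2], 2), ([7, 6, 5, 4, 3],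 3), ([6, 5, 4, 3], 3), ([5, 4, 3], 3), ([4, 3], 3), ([3], 3), ([7, 6, 5, 4], 4), ([6, 5, 4], 4), ([5, 4], 4), ([4], 4), ([7, 6, 5], 5), ([6, 5], 5), ([5], 5), ([7, 6], 6), ([6], 6), ([7], 7), ([], 7), ([], 6), ([7], 6), ([], 5), ([6], 5), ([7, 6], 5), ([], 4), ([5], 4), ([6, 5], 4), ([7, 6, 5], 4), ([], 3), ([4], 3), ([5, 4], 3), ([6, 5, 4], 3), ([7, 6, 5, 4], 3), ([], 2), ([3], 2), ([4, 3], 2), ([5, 4, 3], 2), ([6, 5, 4, 3], 2), ([7, 6, 5, 4, 3], 2), ([], 1), ([3], 1), ([4, 3], 1), ([5, 4, 3], 1), ([6, 5, 4, 3], 1), ([7, 6, 5, 4, 3], 1), ([2, 3], 1), ([4, 2, 3], 1), ([5, 4, 2, 3], 1), ([6, 5, 4, 2, 3], 1), ([7, 6, 5, 4, 2, 3], 1), ([3, 4, 2, 3], 1), ([5, 3,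 4, 2, 3], 1), ([6, 5, 3, 4, 2, 3], 1), ([7, 6, 5, 3, 4, 2, 3], 1), ([4, 5, 3, 4, 2, 3], 1), ([6, 4, 5, 3, 4, 2, 3], 1), ([7, 6, 4, 5, 3, 4, 2, 3], 1), ([5, 6, 4, 5, 3, 4, 2, 3], 1), ([7, 5, 6, 4, 5, 3, 4, 2, 3], 1), ([6, 7, 5, 6, 4, 5, 3, 4, 2, 3], 1), ([], 0), ([2], 0), ([3, 2], 0), ([4, 3, 2], 0), ([5, 4, 3, 2], 0), ([6, 5, 4, 3, 2], 0), ([7, 6, 5, 4, 3, 2], 0), ([1, 3, 2], 0), ([4, 1, 3, 2], 0), ([5, 4, 1, 3, 2], 0), ([6, 5, 4, 1, 3, 2], 0), ([7, 6, 5, 4, 1, 3, 2], 0), ([3, 4, 1, 3, 2], 0), ([5, 3, 4, 1, 3, 2], 0), ([6, 5, 3, 4, 1, 3, 2], 0), ([7, 6, 5, 3, 4, 1, 3, 2], 0), ([4, 5, 3, 4, 1, 3, 2], 0), ([6, 4, 5, 3, 4, 1, 3, 2], 0), ([7, 6, 4, 5, 3, 4, 1,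 3, 2], 0), ([5, 6, 4, 5, 3, 4, 1, 3, 2], 0), ([7, 5, 6, 4, 5, 3, 4, 1, 3, 2], 0), ([6, 7, 5, 6, 4, 5, 3, 4, 1, 3, 2], 0), ([2, 3, 4, 1, 3, 2], 0), ([5, 2, 3, 4, 1, 3, 2], 0), ([6, 5, 2, 3, 4, 1, 3, 2], 0), ([7, 6, 5, 2, 3, 4, 1, 3, 2], 0), ([4, 5, 2, 3, 4, 1, 3, 2], 0), ([6, 4, 5, 2, 3, 4, 1, 3, 2], 0), ([7, 6, 4, 5, 2, 3, 4, 1, 3, 2], 0), ([5, 6, 4, 5, 2, 3, 4, 1, 3, 2], 0), ([7, 5, 6, 4, 5, 2, 3, 4, 1, 3, 2], 0), ([6, 7, 5, 6, 4, 5, 2, 3, 4, 1, 3, 2], 0), ([3, 4, 5, 2, 3, 4, 1, 3, 2], 0), ([6, 3, 4, 5, 2, 3, 4, 1, 3, 2], 0), ([7, 6, 3, 4, 5, 2, 3, 4, 1, 3, 2], 0), ([5, 6, 3, 4, 5, 2, 3, 4, 1, 3, 2], 0), ([7, 5, 6, 3, 4, 5, 2, 3, 4, 1, 3, 2], 0), ([6, 7, 5,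 6, 3, 4, 5, 2, 3, 4, 1, 3, 2], 0), ([4, 5, 6, 3, 4, 5, 2, 3, 4, 1, 3, 2], 0), ([7, 4, 5, 6, 3, 4, 5, 2, 3, 4, 1, 3, 2], 0), ([6, 7, 4, 5, 6, 3, 4, 5, 2, 3, 4, 1, 3, 2], 0), ([5, 6, 7, 4, 5, 6, 3, 4, 5, 2, 3, 4, 1, 3, 2], 0), ([1, 3, 4, 5, 2, 3, 4, 1, 3, 2], 0), ([6, 1, 3, 4, 5, 2, 3, 4, 1, 3, 2], 0), ([7, 6, 1, 3, 4, 5, 2, 3, 4, 1, 3, 2], 0), ([5, 6, 1, 3, 4, 5, 2, 3, 4, 1, 3, 2], 0), ([7, 5, 6, 1, 3, 4, 5, 2, 3, 4, 1, 3, 2], 0), ([6, 7, 5, 6, 1, 3, 4, 5, 2, 3, 4, 1, 3, 2], 0), ([4, 5, 6, 1, 3, 4, 5, 2, 3, 4, 1, 3, 2], 0), ([7, 4, 5, 6, 1, 3, 4, 5, 2, 3, 4, 1, 3, 2], 0), ([6, 7, 4, 5, 6, 1, 3, 4, 5, 2, 3, 4, 1, 3, 2], 0), ([5, 6, 7, 4, 5, 6, 1, 3, 4, 5, 2,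 3, 4, 1, 3, 2], 0), ([3, 4, 5, 6, 1, 3, 4, 5, 2, 3, 4, 1, 3, 2], 0), ([7, 3, 4, 5, 6, 1, 3, 4, 5, 2, 3, 4, 1, 3, 2], 0), ([6, 7, 3, 4, 5, 6, 1, 3, 4, 5, 2, 3, 4, 1, 3, 2], 0), ([5, 6, 7, 3, 4, 5, 6, 1, 3, 4, 5, 2, 3, 4, 1, 3, 2], 0), ([4, 5, 6, 7, 3, 4, 5, 6, 1, 3, 4, 5, 2, 3, 4, 1, 3, 2], 0), ([2, 3, 4, 5, 6, 1, 3, 4, 5, 2, 3, 4, 1, 3, 2], 0), ([7, 2, 3, 4, 5, 6, 1, 3, 4, 5, 2, 3, 4, 1, 3, 2], 0), ([6, 7, 2, 3, 4, 5, 6, 1, 3, 4, 5, 2, 3, 4, 1, 3, 2], 0), ([5, 6, 7, 2, 3, 4, 5, 6, 1, 3, 4, 5, 2, 3, 4, 1, 3, 2], 0), ([4, 5, 6, 7, 2, 3, 4, 5, 6, 1, 3, 4, 5, 2, 3, 4, 1, 3, 2], 0), ([3, 4, 5, 6, 7, 2, 3, 4, 5, 6, 1, 3, 4, 5, 2, 3, 4, 1, 3, 2], 0), ([1, 3, 4, 5,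 6, 7, 2, 3, 4, 5, 6, 1, 3, 4, 5, 2, 3, 4, 1, 3, 2], 0), ([0, 2, 3, 4, 5, 6, 1, 3, 4, 5, 2, 3, 4, 1, 3, 2], 0), ([7, 0, 2, 3, 4, 5, 6, 1, 3, 4, 5, 2, 3, 4, 1, 3, 2], 0), ([6, 7, 0, 2, 3, 4, 5, 6, 1, 3, 4, 5, 2, 3, 4, 1, 3, 2], 0), ([5, 6, 7, 0, 2, 3, 4, 5, 6, 1, 3, 4, 5, 2, 3, 4, 1, 3, 2], 0), ([4, 5, 6, 7, 0, 2, 3, 4, 5, 6, 1, 3, 4, 5, 2, 3, 4, 1, 3, 2], 0), ([3, 4, 5, 6, 7, 0, 2, 3, 4, 5, 6, 1, 3, 4, 5, 2, 3, 4, 1, 3, 2], 0), ([2, 3, 4, 5, 6, 7, 0, 2, 3, 4, 5, 6, 1, 3, 4, 5, 2, 3, 4, 1, 3, 2], 0), ([1, 3, 4, 5, 6, 7, 0, 2, 3, 4, 5, 6, 1, 3, 4, 5, 2, 3, 4, 1, 3, 2], 0), ([2, 1, 3, 4, 5, 6, 7, 0, 2, 3, 4, 5, 6, 1, 3, 4, 5, 2, 3, 4, 1, 3, 2], 0), ([3, 2, 1, 3,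 4, 5, 6, 7, 0, 2, 3, 4, 5, 6, 1, 3, 4, 5, 2, 3, 4, 1, 3, 2], 0), ([4, 3, 2, 1, 3, 4, 5, 6, 7, 0, 2, 3, 4, 5, 6, 1, 3, 4, 5, 2, 3, 4, 1, 3, 2], 0), ([5, 4, 3, 2, 1, 3, 4, 5, 6, 7, 0, 2, 3, 4, 5, 6, 1, 3, 4, 5, 2, 3, 4, 1, 3, 2], 0), ([6, 5, 4, 3, 2, 1, 3, 4, 5, 6, 7, 0, 2, 3, 4, 5, 6, 1, 3, 4, 5, 2, 3, 4, 1, 3, 2], 0), ([7, 6, 5, 4, 3, 2, 1, 3, 4, 5, 6, 7, 0, 2, 3, 4, 5, 6, 1, 3, 4, 5, 2, 3, 4, 1, 3, 2], 0)] : Array (List ℕ × ℕ)).getD r ([], 0)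

end Cfsg.Agent.Lib.Helper3.ChevM
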