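import Cfsg.Prelude.Def_ChevE8
import Cfsg.Agent.Lib.Helper3.ChevData.E8Tabs
import Cfsg.Agent.Lib.Helper3.ChevData.E8Srw
import Cfsg.Agent.Lib.Helper3.ChevG6
set_option autoImplicit false
set_option maxRecDepth 1000000
set_option Elab.async false

namespace Cfsg.Agent.Lib.Helper3.ChevM

theorem e8Srwc_0_0 : allRange 0 53 ((fun r => suppWordCheck Cfsg.Lie.chevE8 reflE8 srwE8 r)) = true := by decide +kernel
theorem e8Srwc_0_53 : allRange 53 106 ((fun r => suppWordCheck Cfsg.Lie.chevE8 reflE8 srwE8 r)) = true := by decide +kernel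
theorem e8Srwc_0_106 : allRange 106 159 ((fun r => suppWordCheck Cfsg.Lie.chevE8 reflE8 srwE8 r)) = true := by decide +kernel
theorem e8Srwc_0_159 : allRange 159 212 ((fun r => suppWordCheck Cfsg.Lie.chevE8 reflE8 srwE8 r)) = true := by decide +kernel
theorem e8Srwc_0_212 : allRange 212 240 ((fun r => suppWordCheck Cfsg.Lie.chevE8 reflE8 srwE8 r)) = true := by decide +kernel

/-- Every root of type E8 is conjugate to a fundamental root inside its support (roots 0 to 239). -/
theorem e8Srwc_0 : ∀ r, 0 ≤ r → r < 240 → ((fun r => suppWordCheck Cfsg.Lie.chevE8 reflE8 srwE8 r)) r = true := by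
  intro r h1 h2
  by_cases c0 : r < 53
  · exact allRange_spec e8Srwc_0_0 r (by omega) c0
  by_cases c1 : r < 106
  · exact allRange_spec e8Srwc_0_53 r (by omega) c1
  by_cases c2 : r < 159
  · exact allRange_spec e8Srwc_0_106 r (by omega) c2
  by_cases c3 : r < 212
  · exact allRange_spec e8Srwc_0_159 r (by omega) c3
  exact allRange_spec e8Srwc_0_212 r (by omega) h2

end Cfsg.Agent.Lib.Helper3.ChevM
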