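import Cfsg.Agent.Lib.Helper3.ChevData.E8Datum
import Cfsg.Agent.Lib.Helper3.StB4
set_option autoImplicit false
set_option maxRecDepth 1000000
set_option Elab.async false

namespace Cfsg.Agent.Lib.Helper3.ChevM
open Cfsg.Agent.Lib.Helper3.StB

theorem e8Theta_1_24 : allRange 24 25 ((fun r => thetaCheck cdE8 r)) = true := by decide +kernel
theorem e8Theta_1_25 : allRange 25 26 ((fun r => thetaCheck cdE8 r)) = true := by decide +kernel
theorem e8Theta_1_26 : allRange 26 27 ((fun r => thetaCheck cdE8 r)) = true := by decide +kernel
theorem e8Theta_1_27 : allRange 27 28 ((fun r => thetaCheck cdE8 r)) = true := by decide +kernel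
theorem e8Theta_1_28 : allRange 28 29 ((fun r => thetaCheck cdE8 r)) = true := by decide +kernel
theorem e8Theta_1_29 : allRange 29 30 ((fun r => thetaCheck cdE8 r)) = true := by decide +kernel
theorem e8Theta_1_30 : allRange 30 31 ((fun r => thetaCheck cdE8 r)) = true := by decide +kernel
theorem e8Theta_1_31 : allRange 31 32 ((fun r => thetaCheck cdE8 r)) = true := by decide +kernel
theorem e8Theta_1_32 : allRange 32 33 ((fun r => thetaCheck cdE8 r)) = true := by decide +kernel
theorem e8Theta_1_33 : allRange 33 34 ((fun r => thetaCheck cdE8 r)) = true := by decide +kernel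
theorem e8Theta_1_34 : allRange 34 35 ((fun r => thetaCheck cdE8 r)) = true := by decide +kernel
theorem e8Theta_1_35 : allRange 35 36 ((fun r => thetaCheck cdE8 r)) = true := by decide +kernel
theorem e8Theta_1_36 : allRange 36 37 ((fun r => thetaCheck cdE8 r)) = true := by decide +kernel
theorem e8Theta_1_37 : allRange 37 38 ((fun r => thetaCheck cdE8 r)) = true := by decide +kernel
theorem e8Theta_1_38 : allRange 38 39 ((fun r => thetaCheck cdE8 r)) = true := by decide +kernel
theorem e8Theta_1_39 : allRange 39 40 ((fun r => thetaCheck cdE8 r)) = true := by decide +kernel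
theorem e8Theta_1_40 : allRange 40 41 ((fun r => thetaCheck cdE8 r)) = true := by decide +kernel
theorem e8Theta_1_41 : allRange 41 42 ((fun r => thetaCheck cdE8 r)) = true := by decide +kernel
theorem e8Theta_1_42 : allRange 42 43 ((fun r => thetaCheck cdE8 r)) = true := by decide +kernel
theorem e8Theta_1_43 : allRange 43 44 ((fun r => thetaCheck cdE8 r)) = true := by decide +kernel
theorem e8Theta_1_44 : allRange 44 45 ((fun r => thetaCheck cdE8 r)) = true := by decide +kernel
theorem e8Theta_1_45 : allRange 45 46 ((fun r => thetaCheck cdE8 r)) = true := by decide +kernel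
theorem e8Theta_1_46 : allRange 46 47 ((fun r => thetaCheck cdE8 r)) = true := by decide +kernel
theorem e8Theta_1_47 : allRange 47 48 ((fun r => thetaCheck cdE8 r)) = true := by decide +kernel

/-- The permutation matrix exchanging opposite roots of type E8 conjugates root elements to root elements (roots 24 to 47). -/
theorem e8Theta_1 : ∀ r, 24 ≤ r → r < 48 → ((fun r => thetaCheck cdE8 r)) r = true := by
  intro r h1 h2
  by_cases c0 : r < 25
  · exact allRange_spec e8Theta_1_24 r (by omega) c0
  by_cases c1 : r < 26
  · exact allRange_spec e8Theta_1_25 r (by omega) c1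
  by_cases c2 : r < 27
  · exact allRange_spec e8Theta_1_26 r (by omega) c2
  by_cases c3 : r < 28
  · exact allRange_spec e8Theta_1_27 r (by omega) c3
  by_cases c4 : r < 29
  · exact allRange_spec e8Theta_1_28 r (by omega) c4
  by_cases c5 : r < 30
  · exact allRange_spec e8Theta_1_29 r (by omega) c5
  by_cases c6 : r < 31
  · exact allRange_spec e8Theta_1_30 r (by omega) c6
  by_cases c7 : r < 32
  · exact allRange_spec e8Theta_1_31 r (by omega) c7
  by_cases c8 : r < 33
  · exact allRange_spec e8Theta_1_32 r (by omega) c8
  by_cases c9 : r < 34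
  · exact allRange_spec e8Theta_1_33 r (by omega) c9
  by_cases c10 : r < 35
  · exact allRange_spec e8Theta_1_34 r (by omega) c10
  by_cases c11 : r < 36
  · exact allRange_spec e8Theta_1_35 r (by omega) c11
  by_cases c12 : r < 37
  · exact allRange_spec e8Theta_1_36 r (by omega) c12
  by_cases c13 : r < 38
  · exact allRange_spec e8Theta_1_37 r (by omega) c13
  by_cases c14 : r < 39
  · exact allRange_spec e8Theta_1_38 r (by omega) c14
  by_cases c15 : r < 40
  · exact allRange_spec e8Theta_1_39 r (by omega) c15
  by_cases c16 : r < 41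
  · exact allRange_spec e8Theta_1_40 r (by omega) c16
  by_cases c17 : r < 42
  · exact allRange_spec e8Theta_1_41 r (by omega) c17
  by_cases c18 : r < 43
  · exact allRange_spec e8Theta_1_42 r (by omega) c18
  by_cases c19 : r < 44
  · exact allRange_spec e8Theta_1_43 r (by omega) c19
  by_cases c20 : r < 45
  · exact allRange_spec e8Theta_1_44 r (by omega) c20
  by_cases c21 : r < 46
  · exact allRange_spec e8Theta_1_45 r (by omega) c21
  by_cases c22 : r < 47
  · exact allRange_spec e8Theta_1_46 r (by omega) c22
  exact allRange_spec e8Theta_1_47 r (by omega) h2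

end Cfsg.Agent.Lib.Helper3.ChevM
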