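import Cfsg.Agent.Lib.Helper3.ChevData.E8Datum
import Cfsg.Agent.Lib.Helper3.StB4
set_option autoImplicit false
set_option maxRecDepth 1000000
set_option Elab.async false

namespace Cfsg.Agent.Lib.Helper3.ChevM
open Cfsg.Agent.Lib.Helper3.StB

theorem e8Theta_2_48 : allRange 48 49 ((fun r => thetaCheck cdE8 r)) = true := by decide +kernel
theorem e8Theta_2_49 : allRange 49 50 ((fun r => thetaCheck cdE8 r)) = true := by decide +kernel
theorem e8Theta_2_50 : allRange 50 51 ((fun r => thetaCheck cdE8 r)) = true := by decide +kernel
theorem e8Theta_2_51 : allRange 51 52 ((fun r => thetaCheck cdE8 r)) = true := by decide +kernel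
theorem e8Theta_2_52 : allRange 52 53 ((fun r => thetaCheck cdE8 r)) = true := by decide +kernel
theorem e8Theta_2_53 : allRange 53 54 ((fun r => thetaCheck cdE8 r)) = true := by decide +kernel
theorem e8Theta_2_54 : allRange 54 55 ((fun r => thetaCheck cdE8 r)) = true := by decide +kernel
theorem e8Theta_2_55 : allRange 55 56 ((fun r => thetaCheck cdE8 r)) = true := by decide +kernel
theorem e8Theta_2_56 : allRange 56 57 ((fun r => thetaCheck cdE8 r)) = true := by decide +kernel
theorem e8Theta_2_57 : allRange 57 58 ((fun r => thetaCheck cdE8 r)) = true := by decide +kernel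
theorem e8Theta_2_58 : allRange 58 59 ((fun r => thetaCheck cdE8 r)) = true := by decide +kernel
theorem e8Theta_2_59 : allRange 59 60 ((fun r => thetaCheck cdE8 r)) = true := by decide +kernel
theorem e8Theta_2_60 : allRange 60 61 ((fun r => thetaCheck cdE8 r)) = true := by decide +kernel
theorem e8Theta_2_61 : allRange 61 62 ((fun r => thetaCheck cdE8 r)) = true := by decide +kernel
theorem e8Theta_2_62 : allRange 62 63 ((fun r => thetaCheck cdE8 r)) = true := by decide +kernel
theorem e8Theta_2_63 : allRange 63 64 ((fun r => thetaCheck cdE8 r)) = true := by decide +kernel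
theorem e8Theta_2_64 : allRange 64 65 ((fun r => thetaCheck cdE8 r)) = true := by decide +kernel
theorem e8Theta_2_65 : allRange 65 66 ((fun r => thetaCheck cdE8 r)) = true := by decide +kernel
theorem e8Theta_2_66 : allRange 66 67 ((fun r => thetaCheck cdE8 r)) = true := by decide +kernel
theorem e8Theta_2_67 : allRange 67 68 ((fun r => thetaCheck cdE8 r)) = true := by decide +kernel
theorem e8Theta_2_68 : allRange 68 69 ((fun r => thetaCheck cdE8 r)) = true := by decide +kernel
theorem e8Theta_2_69 : allRange 69 70 ((fun r => thetaCheck cdE8 r)) = true := by decide +kernel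
theorem e8Theta_2_70 : allRange 70 71 ((fun r => thetaCheck cdE8 r)) = true := by decide +kernel
theorem e8Theta_2_71 : allRange 71 72 ((fun r => thetaCheck cdE8 r)) = true := by decide +kernel

/-- The permutation matrix exchanging opposite roots of type E8 conjugates root elements to root elements (roots 48 to 71). -/
theorem e8Theta_2 : ∀ r, 48 ≤ r → r < 72 → ((fun r => thetaCheck cdE8 r)) r = true := by
  intro r h1 h2
  by_cases c0 : r < 49
  · exact allRange_spec e8Theta_2_48 r (by omega) c0
  by_cases c1 : r < 50
  · exact allRange_spec e8Theta_2_49 r (by omega) c1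
  by_cases c2 : r < 51
  · exact allRange_spec e8Theta_2_50 r (by omega) c2
  by_cases c3 : r < 52
  · exact allRange_spec e8Theta_2_51 r (by omega) c3
  by_cases c4 : r < 53
  · exact allRange_spec e8Theta_2_52 r (by omega) c4
  by_cases c5 : r < 54
  · exact allRange_spec e8Theta_2_53 r (by omega) c5
  by_cases c6 : r < 55
  · exact allRange_spec e8Theta_2_54 r (by omega) c6
  by_cases c7 : r < 56
  · exact allRange_spec e8Theta_2_55 r (by omega) c7
  by_cases c8 : r < 57
  · exact allRange_spec e8Theta_2_56 r (by omega) c8
  by_cases c9 : r < 58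
  · exact allRange_spec e8Theta_2_57 r (by omega) c9
  by_cases c10 : r < 59
  · exact allRange_spec e8Theta_2_58 r (by omega) c10
  by_cases c11 : r < 60
  · exact allRange_spec e8Theta_2_59 r (by omega) c11
  by_cases c12 : r < 61
  · exact allRange_spec e8Theta_2_60 r (by omega) c12
  by_cases c13 : r < 62
  · exact allRange_spec e8Theta_2_61 r (by omega) c13
  by_cases c14 : r < 63
  · exact allRange_spec e8Theta_2_62 r (by omega) c14
  by_cases c15 : r < 64
  · exact allRange_spec e8Theta_2_63 r (by omega) c15
  by_cases c16 : r < 65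
  · exact allRange_spec e8Theta_2_64 r (by omega) c16
  by_cases c17 : r < 66
  · exact allRange_spec e8Theta_2_65 r (by omega) c17
  by_cases c18 : r < 67
  · exact allRange_spec e8Theta_2_66 r (by omega) c18
  by_cases c19 : r < 68
  · exact allRange_spec e8Theta_2_67 r (by omega) c19
  by_cases c20 : r < 69
  · exact allRange_spec e8Theta_2_68 r (by omega) c20
  by_cases c21 : r < 70
  · exact allRange_spec e8Theta_2_69 r (by omega) c21
  by_cases c22 : r < 71
  · exact allRange_spec e8Theta_2_70 r (by omega) c22
  exact allRange_spec e8Theta_2_71 r (by omega) h2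

end Cfsg.Agent.Lib.Helper3.ChevM
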