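import Cfsg.Agent.Lib.Helper3.ChevData.E8Datum
import Cfsg.Agent.Lib.Helper3.StB4
set_option autoImplicit false
set_option maxRecDepth 1000000
set_option Elab.async false

namespace Cfsg.Agent.Lib.Helper3.ChevM
open Cfsg.Agent.Lib.Helper3.StB

theorem e8Theta_3_72 : allRange 72 73 ((fun r => thetaCheck cdE8 r)) = true := by decide +kernel
theorem e8Theta_3_73 : allRange 73 74 ((fun r => thetaCheck cdE8 r)) = true := by decide +kernel
theorem e8Theta_3_74 : allRange 74 75 ((fun r => thetaCheck cdE8 r)) = true := by decide +kernel
theorem e8Theta_3_75 : allRange 75 76 ((fun r => thetaCheck cdE8 r)) = true := by decide +kernel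
theorem e8Theta_3_76 : allRange 76 77 ((fun r => thetaCheck cdE8 r)) = true := by decide +kernel
theorem e8Theta_3_77 : allRange 77 78 ((fun r => thetaCheck cdE8 r)) = true := by decide +kernel
theorem e8Theta_3_78 : allRange 78 79 ((fun r => thetaCheck cdE8 r)) = true := by decide +kernel
theorem e8Theta_3_79 : allRange 79 80 ((fun r => thetaCheck cdE8 r)) = true := by decide +kernel
theorem e8Theta_3_80 : allRange 80 81 ((fun r => thetaCheck cdE8 r)) = true := by decide +kernel
theorem e8Theta_3_81 : allRange 81 82 ((fun r => thetaCheck cdE8 r)) = true := by decide +kernel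
theorem e8Theta_3_82 : allRange 82 83 ((fun r => thetaCheck cdE8 r)) = true := by decide +kernel
theorem e8Theta_3_83 : allRange 83 84 ((fun r => thetaCheck cdE8 r)) = true := by decide +kernel
theorem e8Theta_3_84 : allRange 84 85 ((fun r => thetaCheck cdE8 r)) = true := by decide +kernel
theorem e8Theta_3_85 : allRange 85 86 ((fun r => thetaCheck cdE8 r)) = true := by decide +kernel
theorem e8Theta_3_86 : allRange 86 87 ((fun r => thetaCheck cdE8 r)) = true := by decide +kernel
theorem e8Theta_3_87 : allRange 87 88 ((fun r => thetaCheck cdE8 r)) = true := by decide +kernel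
theorem e8Theta_3_88 : allRange 88 89 ((fun r => thetaCheck cdE8 r)) = true := by decide +kernel
theorem e8Theta_3_89 : allRange 89 90 ((fun r => thetaCheck cdE8 r)) = true := by decide +kernel
theorem e8Theta_3_90 : allRange 90 91 ((fun r => thetaCheck cdE8 r)) = true := by decide +kernel
theorem e8Theta_3_91 : allRange 91 92 ((fun r => thetaCheck cdE8 r)) = true := by decide +kernel
theorem e8Theta_3_92 : allRange 92 93 ((fun r => thetaCheck cdE8 r)) = true := by decide +kernel
theorem e8Theta_3_93 : allRange 93 94 ((fun r => thetaCheck cdE8 r)) = true := by decide +kernel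
theorem e8Theta_3_94 : allRange 94 95 ((fun r => thetaCheck cdE8 r)) = true := by decide +kernel
theorem e8Theta_3_95 : allRange 95 96 ((fun r => thetaCheck cdE8 r)) = true := by decide +kernel

/-- The permutation matrix exchanging opposite roots of type E8 conjugates root elements to root elements (roots 72 to 95). -/
theorem e8Theta_3 : ∀ r, 72 ≤ r → r < 96 → ((fun r => thetaCheck cdE8 r)) r = true := by
  intro r h1 h2
  by_cases c0 : r < 73
  · exact allRange_spec e8Theta_3_72 r (by omega) c0
  by_cases c1 : r < 74
  · exact allRange_spec e8Theta_3_73 r (by omega) c1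
  by_cases c2 : r < 75
  · exact allRange_spec e8Theta_3_74 r (by omega) c2
  by_cases c3 : r < 76
  · exact allRange_spec e8Theta_3_75 r (by omega) c3
  by_cases c4 : r < 77
  · exact allRange_spec e8Theta_3_76 r (by omega) c4
  by_cases c5 : r < 78
  · exact allRange_spec e8Theta_3_77 r (by omega) c5
  by_cases c6 : r < 79
  · exact allRange_spec e8Theta_3_78 r (by omega) c6
  by_cases c7 : r < 80
  · exact allRange_spec e8Theta_3_79 r (by omega) c7
  by_cases c8 : r < 81
  · exact allRange_spec e8Theta_3_80 r (by omega) c8
  by_cases c9 : r < 82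
  · exact allRange_spec e8Theta_3_81 r (by omega) c9
  by_cases c10 : r < 83
  · exact allRange_spec e8Theta_3_82 r (by omega) c10
  by_cases c11 : r < 84
  · exact allRange_spec e8Theta_3_83 r (by omega) c11
  by_cases c12 : r < 85
  · exact allRange_spec e8Theta_3_84 r (by omega) c12
  by_cases c13 : r < 86
  · exact allRange_spec e8Theta_3_85 r (by omega) c13
  by_cases c14 : r < 87
  · exact allRange_spec e8Theta_3_86 r (by omega) c14
  by_cases c15 : r < 88
  · exact allRange_spec e8Theta_3_87 r (by omega) c15
  by_cases c16 : r < 89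
  · exact allRange_spec e8Theta_3_88 r (by omega) c16
  by_cases c17 : r < 90
  · exact allRange_spec e8Theta_3_89 r (by omega) c17
  by_cases c18 : r < 91
  · exact allRange_spec e8Theta_3_90 r (by omega) c18
  by_cases c19 : r < 92
  · exact allRange_spec e8Theta_3_91 r (by omega) c19
  by_cases c20 : r < 93
  · exact allRange_spec e8Theta_3_92 r (by omega) c20
  by_cases c21 : r < 94
  · exact allRange_spec e8Theta_3_93 r (by omega) c21
  by_cases c22 : r < 95
  · exact allRange_spec e8Theta_3_94 r (by omega) c22
  exact allRange_spec e8Theta_3_95 r (by omega) h2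

end Cfsg.Agent.Lib.Helper3.ChevM
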