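import Cfsg.Agent.Lib.Helper3.ChevData.E8Datum
import Cfsg.Agent.Lib.Helper3.StB4
set_option autoImplicit false
set_option maxRecDepth 1000000
set_option Elab.async false

namespace Cfsg.Agent.Lib.Helper3.ChevM
open Cfsg.Agent.Lib.Helper3.StB

theorem e8Theta_4_96 : allRange 96 97 ((fun r => thetaCheck cdE8 r)) = true := by decide +kernel
theorem e8Theta_4_97 : allRange 97 98 ((fun r => thetaCheck cdE8 r)) = true := by decide +kernel
theorem e8Theta_4_98 : allRange 98 99 ((fun r => thetaCheck cdE8 r)) = true := by decide +kernel
theorem e8Theta_4_99 : allRange 99 100 ((fun r => thetaCheck cdE8 r)) = true := by decide +kernel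
theorem e8Theta_4_100 : allRange 100 101 ((fun r => thetaCheck cdE8 r)) = true := by decide +kernel
theorem e8Theta_4_101 : allRange 101 102 ((fun r => thetaCheck cdE8 r)) = true := by decide +kernel
theorem e8Theta_4_102 : allRange 102 103 ((fun r => thetaCheck cdE8 r)) = true := by decide +kernel
theorem e8Theta_4_103 : allRange 103 104 ((fun r => thetaCheck cdE8 r)) = true := by decide +kernel
theorem e8Theta_4_104 : allRange 104 105 ((fun r => thetaCheck cdE8 r)) = true := by decide +kernel
theorem e8Theta_4_105 : allRange 105 106 ((fun r => thetaCheck cdE8 r)) = true := by decide +kernel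
theorem e8Theta_4_106 : allRange 106 107 ((fun r => thetaCheck cdE8 r)) = true := by decide +kernel
theorem e8Theta_4_107 : allRange 107 108 ((fun r => thetaCheck cdE8 r)) = true := by decide +kernel
theorem e8Theta_4_108 : allRange 108 109 ((fun r => thetaCheck cdE8 r)) = true := by decide +kernel
theorem e8Theta_4_109 : allRange 109 110 ((fun r => thetaCheck cdE8 r)) = true := by decide +kernel
theorem e8Theta_4_110 : allRange 110 111 ((fun r => thetaCheck cdE8 r)) = true := by decide +kernel
theorem e8Theta_4_111 : allRange 111 112 ((fun r => thetaCheck cdE8 r)) = true := by decide +kernel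
theorem e8Theta_4_112 : allRange 112 113 ((fun r => thetaCheck cdE8 r)) = true := by decide +kernel
theorem e8Theta_4_113 : allRange 113 114 ((fun r => thetaCheck cdE8 r)) = true := by decide +kernel
theorem e8Theta_4_114 : allRange 114 115 ((fun r => thetaCheck cdE8 r)) = true := by decide +kernel
theorem e8Theta_4_115 : allRange 115 116 ((fun r => thetaCheck cdE8 r)) = true := by decide +kernel
theorem e8Theta_4_116 : allRange 116 117 ((fun r => thetaCheck cdE8 r)) = true := by decide +kernel
theorem e8Theta_4_117 : allRange 117 118 ((fun r => thetaCheck cdE8 r)) = true := by decide +kernel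
theorem e8Theta_4_118 : allRange 118 119 ((fun r => thetaCheck cdE8 r)) = true := by decide +kernel
theorem e8Theta_4_119 : allRange 119 120 ((fun r => thetaCheck cdE8 r)) = true := by decide +kernel

/-- The permutation matrix exchanging opposite roots of type E8 conjugates root elements to root elements (roots 96 to 119). -/
theorem e8Theta_4 : ∀ r, 96 ≤ r → r < 120 → ((fun r => thetaCheck cdE8 r)) r = true := by
  intro r h1 h2
  by_cases c0 : r < 97
  · exact allRange_spec e8Theta_4_96 r (by omega) c0
  by_cases c1 : r < 98
  · exact allRange_spec e8Theta_4_97 r (by omega) c1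
  by_cases c2 : r < 99
  · exact allRange_spec e8Theta_4_98 r (by omega) c2
  by_cases c3 : r < 100
  · exact allRange_spec e8Theta_4_99 r (by omega) c3
  by_cases c4 : r < 101
  · exact allRange_spec e8Theta_4_100 r (by omega) c4
  by_cases c5 : r < 102
  · exact allRange_spec e8Theta_4_101 r (by omega) c5
  by_cases c6 : r < 103
  · exact allRange_spec e8Theta_4_102 r (by omega) c6
  by_cases c7 : r < 104
  · exact allRange_spec e8Theta_4_103 r (by omega) c7
  by_cases c8 : r < 105
  · exact allRange_spec e8Theta_4_104 r (by omega) c8
  by_cases c9 : r < 106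
  · exact allRange_spec e8Theta_4_105 r (by omega) c9
  by_cases c10 : r < 107
  · exact allRange_spec e8Theta_4_106 r (by omega) c10
  by_cases c11 : r < 108
  · exact allRange_spec e8Theta_4_107 r (by omega) c11
  by_cases c12 : r < 109
  · exact allRange_spec e8Theta_4_108 r (by omega) c12
  by_cases c13 : r < 110
  · exact allRange_spec e8Theta_4_109 r (by omega) c13
  by_cases c14 : r < 111
  · exact allRange_spec e8Theta_4_110 r (by omega) c14
  by_cases c15 : r < 112
  · exact allRange_spec e8Theta_4_111 r (by omega) c15
  by_cases c16 : r < 113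
  · exact allRange_spec e8Theta_4_112 r (by omega) c16
  by_cases c17 : r < 114
  · exact allRange_spec e8Theta_4_113 r (by omega) c17
  by_cases c18 : r < 115
  · exact allRange_spec e8Theta_4_114 r (by omega) c18
  by_cases c19 : r < 116
  · exact allRange_spec e8Theta_4_115 r (by omega) c19
  by_cases c20 : r < 117
  · exact allRange_spec e8Theta_4_116 r (by omega) c20
  by_cases c21 : r < 118
  · exact allRange_spec e8Theta_4_117 r (by omega) c21
  by_cases c22 : r < 119
  · exact allRange_spec e8Theta_4_118 r (by omega) c22
  exact allRange_spec e8Theta_4_119 r (by omega) h2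

end Cfsg.Agent.Lib.Helper3.ChevM
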