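import Cfsg.Agent.Lib.Helper3.ChevData.E8Datum
import Cfsg.Agent.Lib.Helper3.StB4
set_option autoImplicit false
set_option maxRecDepth 1000000
set_option Elab.async false

namespace Cfsg.Agent.Lib.Helper3.ChevM
open Cfsg.Agent.Lib.Helper3.StB

theorem e8Theta_5_120 : allRange 120 121 ((fun r => thetaCheck cdE8 r)) = true := by decide +kernel
theorem e8Theta_5_121 : allRange 121 122 ((fun r => thetaCheck cdE8 r)) = true := by decide +kernel
theorem e8Theta_5_122 : allRange 122 123 ((fun r => thetaCheck cdE8 r)) = true := by decide +kernel
theorem e8Theta_5_123 : allRange 123 124 ((fun r => thetaCheck cdE8 r)) = true := by decide +kernel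
theorem e8Theta_5_124 : allRange 124 125 ((fun r => thetaCheck cdE8 r)) = true := by decide +kernel
theorem e8Theta_5_125 : allRange 125 126 ((fun r => thetaCheck cdE8 r)) = true := by decide +kernel
theorem e8Theta_5_126 : allRange 126 127 ((fun r => thetaCheck cdE8 r)) = true := by decide +kernel
theorem e8Theta_5_127 : allRange 127 128 ((fun r => thetaCheck cdE8 r)) = true := by decide +kernel
theorem e8Theta_5_128 : allRange 128 129 ((fun r => thetaCheck cdE8 r)) = true := by decide +kernel
theorem e8Theta_5_129 : allRange 129 130 ((fun r => thetaCheck cdE8 r)) = true := by decide +kernel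
theorem e8Theta_5_130 : allRange 130 131 ((fun r => thetaCheck cdE8 r)) = true := by decide +kernel
theorem e8Theta_5_131 : allRange 131 132 ((fun r => thetaCheck cdE8 r)) = true := by decide +kernel
theorem e8Theta_5_132 : allRange 132 133 ((fun r => thetaCheck cdE8 r)) = true := by decide +kernel
theorem e8Theta_5_133 : allRange 133 134 ((fun r => thetaCheck cdE8 r)) = true := by decide +kernel
theorem e8Theta_5_134 : allRange 134 135 ((fun r => thetaCheck cdE8 r)) = true := by decide +kernel
theorem e8Theta_5_135 : allRange 135 136 ((fun r => thetaCheck cdE8 r)) = true := by decide +kernel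
theorem e8Theta_5_136 : allRange 136 137 ((fun r => thetaCheck cdE8 r)) = true := by decide +kernel
theorem e8Theta_5_137 : allRange 137 138 ((fun r => thetaCheck cdE8 r)) = true := by decide +kernel
theorem e8Theta_5_138 : allRange 138 139 ((fun r => thetaCheck cdE8 r)) = true := by decide +kernel
theorem e8Theta_5_139 : allRange 139 140 ((fun r => thetaCheck cdE8 r)) = true := by decide +kernel
theorem e8Theta_5_140 : allRange 140 141 ((fun r => thetaCheck cdE8 r)) = true := by decide +kernel
theorem e8Theta_5_141 : allRange 141 142 ((fun r => thetaCheck cdE8 r)) = true := by decide +kernel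
theorem e8Theta_5_142 : allRange 142 143 ((fun r => thetaCheck cdE8 r)) = true := by decide +kernel
theorem e8Theta_5_143 : allRange 143 144 ((fun r => thetaCheck cdE8 r)) = true := by decide +kernel

/-- The permutation matrix exchanging opposite roots of type E8 conjugates root elements to root elements (roots 120 to 143). -/
theorem e8Theta_5 : ∀ r, 120 ≤ r → r < 144 → ((fun r => thetaCheck cdE8 r)) r = true := by
  intro r h1 h2
  by_cases c0 : r < 121
  · exact allRange_spec e8Theta_5_120 r (by omega) c0
  by_cases c1 : r < 122
  · exact allRange_spec e8Theta_5_121 r (by omega) c1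
  by_cases c2 : r < 123
  · exact allRange_spec e8Theta_5_122 r (by omega) c2
  by_cases c3 : r < 124
  · exact allRange_spec e8Theta_5_123 r (by omega) c3
  by_cases c4 : r < 125
  · exact allRange_spec e8Theta_5_124 r (by omega) c4
  by_cases c5 : r < 126
  · exact allRange_spec e8Theta_5_125 r (by omega) c5
  by_cases c6 : r < 127
  · exact allRange_spec e8Theta_5_126 r (by omega) c6
  by_cases c7 : r < 128
  · exact allRange_spec e8Theta_5_127 r (by omega) c7
  by_cases c8 : r < 129
  · exact allRange_spec e8Theta_5_128 r (by omega) c8
  by_cases c9 : r < 130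
  · exact allRange_spec e8Theta_5_129 r (by omega) c9
  by_cases c10 : r < 131
  · exact allRange_spec e8Theta_5_130 r (by omega) c10
  by_cases c11 : r < 132
  · exact allRange_spec e8Theta_5_131 r (by omega) c11
  by_cases c12 : r < 133
  · exact allRange_spec e8Theta_5_132 r (by omega) c12
  by_cases c13 : r < 134
  · exact allRange_spec e8Theta_5_133 r (by omega) c13
  by_cases c14 : r < 135
  · exact allRange_spec e8Theta_5_134 r (by omega) c14
  by_cases c15 : r < 136
  · exact allRange_spec e8Theta_5_135 r (by omega) c15
  by_cases c16 : r < 137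
  · exact allRange_spec e8Theta_5_136 r (by omega) c16
  by_cases c17 : r < 138
  · exact allRange_spec e8Theta_5_137 r (by omega) c17
  by_cases c18 : r < 139
  · exact allRange_spec e8Theta_5_138 r (by omega) c18
  by_cases c19 : r < 140
  · exact allRange_spec e8Theta_5_139 r (by omega) c19
  by_cases c20 : r < 141
  · exact allRange_spec e8Theta_5_140 r (by omega) c20
  by_cases c21 : r < 142
  · exact allRange_spec e8Theta_5_141 r (by omega) c21
  by_cases c22 : r < 143
  · exact allRange_spec e8Theta_5_142 r (by omega) c22
  exact allRange_spec e8Theta_5_143 r (by omega) h2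

end Cfsg.Agent.Lib.Helper3.ChevM
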