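import Cfsg.Agent.Lib.Helper3.ChevData.E8Datum
import Cfsg.Agent.Lib.Helper3.StB4
set_option autoImplicit false
set_option maxRecDepth 1000000
set_option Elab.async false

namespace Cfsg.Agent.Lib.Helper3.ChevM
open Cfsg.Agent.Lib.Helper3.StB

theorem e8Theta_6_144 : allRange 144 145 ((fun r => thetaCheck cdE8 r)) = true := by decide +kernel
theorem e8Theta_6_145 : allRange 145 146 ((fun r => thetaCheck cdE8 r)) = true := by decide +kernel
theorem e8Theta_6_146 : allRange 146 147 ((fun r => thetaCheck cdE8 r)) = true := by decide +kernel
theorem e8Theta_6_147 : allRange 147 148 ((fun r => thetaCheck cdE8 r)) = true := by decide +kernel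
theorem e8Theta_6_148 : allRange 148 149 ((fun r => thetaCheck cdE8 r)) = true := by decide +kernel
theorem e8Theta_6_149 : allRange 149 150 ((fun r => thetaCheck cdE8 r)) = true := by decide +kernel
theorem e8Theta_6_150 : allRange 150 151 ((fun r => thetaCheck cdE8 r)) = true := by decide +kernel
theorem e8Theta_6_151 : allRange 151 152 ((fun r => thetaCheck cdE8 r)) = true := by decide +kernel
theorem e8Theta_6_152 : allRange 152 153 ((fun r => thetaCheck cdE8 r)) = true := by decide +kernel
theorem e8Theta_6_153 : allRange 153 154 ((fun r => thetaCheck cdE8 r)) = true := by decide +kernel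
theorem e8Theta_6_154 : allRange 154 155 ((fun r => thetaCheck cdE8 r)) = true := by decide +kernel
theorem e8Theta_6_155 : allRange 155 156 ((fun r => thetaCheck cdE8 r)) = true := by decide +kernel
theorem e8Theta_6_156 : allRange 156 157 ((fun r => thetaCheck cdE8 r)) = true := by decide +kernel
theorem e8Theta_6_157 : allRange 157 158 ((fun r => thetaCheck cdE8 r)) = true := by decide +kernel
theorem e8Theta_6_158 : allRange 158 159 ((fun r => thetaCheck cdE8 r)) = true := by decide +kernel
theorem e8Theta_6_159 : allRange 159 160 ((fun r => thetaCheck cdE8 r)) = true := by decide +kernel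
theorem e8Theta_6_160 : allRange 160 161 ((fun r => thetaCheck cdE8 r)) = true := by decide +kernel
theorem e8Theta_6_161 : allRange 161 162 ((fun r => thetaCheck cdE8 r)) = true := by decide +kernel
theorem e8Theta_6_162 : allRange 162 163 ((fun r => thetaCheck cdE8 r)) = true := by decide +kernel
theorem e8Theta_6_163 : allRange 163 164 ((fun r => thetaCheck cdE8 r)) = true := by decide +kernel
theorem e8Theta_6_164 : allRange 164 165 ((fun r => thetaCheck cdE8 r)) = true := by decide +kernel
theorem e8Theta_6_165 : allRange 165 166 ((fun r => thetaCheck cdE8 r)) = true := by decide +kernel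
theorem e8Theta_6_166 : allRange 166 167 ((fun r => thetaCheck cdE8 r)) = true := by decide +kernel
theorem e8Theta_6_167 : allRange 167 168 ((fun r => thetaCheck cdE8 r)) = true := by decide +kernel

/-- The permutation matrix exchanging opposite roots of type E8 conjugates root elements to root elements (roots 144 to 167). -/
theorem e8Theta_6 : ∀ r, 144 ≤ r → r < 168 → ((fun r => thetaCheck cdE8 r)) r = true := by
  intro r h1 h2
  by_cases c0 : r < 145
  · exact allRange_spec e8Theta_6_144 r (by omega) c0
  by_cases c1 : r < 146
  · exact allRange_spec e8Theta_6_145 r (by omega) c1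
  by_cases c2 : r < 147
  · exact allRange_spec e8Theta_6_146 r (by omega) c2
  by_cases c3 : r < 148
  · exact allRange_spec e8Theta_6_147 r (by omega) c3
  by_cases c4 : r < 149
  · exact allRange_spec e8Theta_6_148 r (by omega) c4
  by_cases c5 : r < 150
  · exact allRange_spec e8Theta_6_149 r (by omega) c5
  by_cases c6 : r < 151
  · exact allRange_spec e8Theta_6_150 r (by omega) c6
  by_cases c7 : r < 152
  · exact allRange_spec e8Theta_6_151 r (by omega) c7
  by_cases c8 : r < 153
  · exact allRange_spec e8Theta_6_152 r (by omega) c8
  by_cases c9 : r < 154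
  · exact allRange_spec e8Theta_6_153 r (by omega) c9
  by_cases c10 : r < 155
  · exact allRange_spec e8Theta_6_154 r (by omega) c10
  by_cases c11 : r < 156
  · exact allRange_spec e8Theta_6_155 r (by omega) c11
  by_cases c12 : r < 157
  · exact allRange_spec e8Theta_6_156 r (by omega) c12
  by_cases c13 : r < 158
  · exact allRange_spec e8Theta_6_157 r (by omega) c13
  by_cases c14 : r < 159
  · exact allRange_spec e8Theta_6_158 r (by omega) c14
  by_cases c15 : r < 160
  · exact allRange_spec e8Theta_6_159 r (by omega) c15
  by_cases c16 : r < 161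
  · exact allRange_spec e8Theta_6_160 r (by omega) c16
  by_cases c17 : r < 162
  · exact allRange_spec e8Theta_6_161 r (by omega) c17
  by_cases c18 : r < 163
  · exact allRange_spec e8Theta_6_162 r (by omega) c18
  by_cases c19 : r < 164
  · exact allRange_spec e8Theta_6_163 r (by omega) c19
  by_cases c20 : r < 165
  · exact allRange_spec e8Theta_6_164 r (by omega) c20
  by_cases c21 : r < 166
  · exact allRange_spec e8Theta_6_165 r (by omega) c21
  by_cases c22 : r < 167
  · exact allRange_spec e8Theta_6_166 r (by omega) c22
  exact allRange_spec e8Theta_6_167 r (by omega) h2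

end Cfsg.Agent.Lib.Helper3.ChevM
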