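import Cfsg.Agent.Lib.Helper3.ChevData.E8Datum
import Cfsg.Agent.Lib.Helper3.StB4
set_option autoImplicit false
set_option maxRecDepth 1000000
set_option Elab.async false

namespace Cfsg.Agent.Lib.Helper3.ChevM
open Cfsg.Agent.Lib.Helper3.StB

theorem e8Theta_7_168 : allRange 168 169 ((fun r => thetaCheck cdE8 r)) = true := by decide +kernel
theorem e8Theta_7_169 : allRange 169 170 ((fun r => thetaCheck cdE8 r)) = true := by decide +kernel
theorem e8Theta_7_170 : allRange 170 171 ((fun r => thetaCheck cdE8 r)) = true := by decide +kernel
theorem e8Theta_7_171 : allRange 171 172 ((fun r => thetaCheck cdE8 r)) = true := by decide +kernel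
theorem e8Theta_7_172 : allRange 172 173 ((fun r => thetaCheck cdE8 r)) = true := by decide +kernel
theorem e8Theta_7_173 : allRange 173 174 ((fun r => thetaCheck cdE8 r)) = true := by decide +kernel
theorem e8Theta_7_174 : allRange 174 175 ((fun r => thetaCheck cdE8 r)) = true := by decide +kernel
theorem e8Theta_7_175 : allRange 175 176 ((fun r => thetaCheck cdE8 r)) = true := by decide +kernel
theorem e8Theta_7_176 : allRange 176 177 ((fun r => thetaCheck cdE8 r)) = true := by decide +kernel
theorem e8Theta_7_177 : allRange 177 178 ((fun r => thetaCheck cdE8 r)) = true := by decide +kernel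
theorem e8Theta_7_178 : allRange 178 179 ((fun r => thetaCheck cdE8 r)) = true := by decide +kernel
theorem e8Theta_7_179 : allRange 179 180 ((fun r => thetaCheck cdE8 r)) = true := by decide +kernel
theorem e8Theta_7_180 : allRange 180 181 ((fun r => thetaCheck cdE8 r)) = true := by decide +kernel
theorem e8Theta_7_181 : allRange 181 182 ((fun r => thetaCheck cdE8 r)) = true := by decide +kernel
theorem e8Theta_7_182 : allRange 182 183 ((fun r => thetaCheck cdE8 r)) = true := by decide +kernel
theorem e8Theta_7_183 : allRange 183 184 ((fun r => thetaCheck cdE8 r)) = true := by decide +kernel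
theorem e8Theta_7_184 : allRange 184 185 ((fun r => thetaCheck cdE8 r)) = true := by decide +kernel
theorem e8Theta_7_185 : allRange 185 186 ((fun r => thetaCheck cdE8 r)) = true := by decide +kernel
theorem e8Theta_7_186 : allRange 186 187 ((fun r => thetaCheck cdE8 r)) = true := by decide +kernel
theorem e8Theta_7_187 : allRange 187 188 ((fun r => thetaCheck cdE8 r)) = true := by decide +kernel
theorem e8Theta_7_188 : allRange 188 189 ((fun r => thetaCheck cdE8 r)) = true := by decide +kernel
theorem e8Theta_7_189 : allRange 189 190 ((fun r => thetaCheck cdE8 r)) = true := by decide +kernel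
theorem e8Theta_7_190 : allRange 190 191 ((fun r => thetaCheck cdE8 r)) = true := by decide +kernel
theorem e8Theta_7_191 : allRange 191 192 ((fun r => thetaCheck cdE8 r)) = true := by decide +kernel

/-- The permutation matrix exchanging opposite roots of type E8 conjugates root elements to root elements (roots 168 to 191). -/
theorem e8Theta_7 : ∀ r, 168 ≤ r → r < 192 → ((fun r => thetaCheck cdE8 r)) r = true := by
  intro r h1 h2
  by_cases c0 : r < 169
  · exact allRange_spec e8Theta_7_168 r (by omega) c0
  by_cases c1 : r < 170
  · exact allRange_spec e8Theta_7_169 r (by omega) c1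
  by_cases c2 : r < 171
  · exact allRange_spec e8Theta_7_170 r (by omega) c2
  by_cases c3 : r < 172
  · exact allRange_spec e8Theta_7_171 r (by omega) c3
  by_cases c4 : r < 173
  · exact allRange_spec e8Theta_7_172 r (by omega) c4
  by_cases c5 : r < 174
  · exact allRange_spec e8Theta_7_173 r (by omega) c5
  by_cases c6 : r < 175
  · exact allRange_spec e8Theta_7_174 r (by omega) c6
  by_cases c7 : r < 176
  · exact allRange_spec e8Theta_7_175 r (by omega) c7
  by_cases c8 : r < 177
  · exact allRange_spec e8Theta_7_176 r (by omega) c8
  by_cases c9 : r < 178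
  · exact allRange_spec e8Theta_7_177 r (by omega) c9
  by_cases c10 : r < 179
  · exact allRange_spec e8Theta_7_178 r (by omega) c10
  by_cases c11 : r < 180
  · exact allRange_spec e8Theta_7_179 r (by omega) c11
  by_cases c12 : r < 181
  · exact allRange_spec e8Theta_7_180 r (by omega) c12
  by_cases c13 : r < 182
  · exact allRange_spec e8Theta_7_181 r (by omega) c13
  by_cases c14 : r < 183
  · exact allRange_spec e8Theta_7_182 r (by omega) c14
  by_cases c15 : r < 184
  · exact allRange_spec e8Theta_7_183 r (by omega) c15
  by_cases c16 : r < 185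
  · exact allRange_spec e8Theta_7_184 r (by omega) c16
  by_cases c17 : r < 186
  · exact allRange_spec e8Theta_7_185 r (by omega) c17
  by_cases c18 : r < 187
  · exact allRange_spec e8Theta_7_186 r (by omega) c18
  by_cases c19 : r < 188
  · exact allRange_spec e8Theta_7_187 r (by omega) c19
  by_cases c20 : r < 189
  · exact allRange_spec e8Theta_7_188 r (by omega) c20
  by_cases c21 : r < 190
  · exact allRange_spec e8Theta_7_189 r (by omega) c21
  by_cases c22 : r < 191
  · exact allRange_spec e8Theta_7_190 r (by omega) c22
  exact allRange_spec e8Theta_7_191 r (by omega) h2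

end Cfsg.Agent.Lib.Helper3.ChevM
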