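import Cfsg.Agent.Lib.Helper3.ChevData.E8Datum
import Cfsg.Agent.Lib.Helper3.StB4
set_option autoImplicit false
set_option maxRecDepth 1000000
set_option Elab.async false

namespace Cfsg.Agent.Lib.Helper3.ChevM
open Cfsg.Agent.Lib.Helper3.StB

theorem e8Theta_8_192 : allRange 192 193 ((fun r => thetaCheck cdE8 r)) = true := by decide +kernel
theorem e8Theta_8_193 : allRange 193 194 ((fun r => thetaCheck cdE8 r)) = true := by decide +kernel
theorem e8Theta_8_194 : allRange 194 195 ((fun r => thetaCheck cdE8 r)) = true := by decide +kernel
theorem e8Theta_8_195 : allRange 195 196 ((fun r => thetaCheck cdE8 r)) = true := by decide +kernel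
theorem e8Theta_8_196 : allRange 196 197 ((fun r => thetaCheck cdE8 r)) = true := by decide +kernel
theorem e8Theta_8_197 : allRange 197 198 ((fun r => thetaCheck cdE8 r)) = true := by decide +kernel
theorem e8Theta_8_198 : allRange 198 199 ((fun r => thetaCheck cdE8 r)) = true := by decide +kernel
theorem e8Theta_8_199 : allRange 199 200 ((fun r => thetaCheck cdE8 r)) = true := by decide +kernel
theorem e8Theta_8_200 : allRange 200 201 ((fun r => thetaCheck cdE8 r)) = true := by decide +kernel
theorem e8Theta_8_201 : allRange 201 202 ((fun r => thetaCheck cdE8 r)) = true := by decide +kernel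
theorem e8Theta_8_202 : allRange 202 203 ((fun r => thetaCheck cdE8 r)) = true := by decide +kernel
theorem e8Theta_8_203 : allRange 203 204 ((fun r => thetaCheck cdE8 r)) = true := by decide +kernel
theorem e8Theta_8_204 : allRange 204 205 ((fun r => thetaCheck cdE8 r)) = true := by decide +kernel
theorem e8Theta_8_205 : allRange 205 206 ((fun r => thetaCheck cdE8 r)) = true := by decide +kernel
theorem e8Theta_8_206 : allRange 206 207 ((fun r => thetaCheck cdE8 r)) = true := by decide +kernel
theorem e8Theta_8_207 : allRange 207 208 ((fun r => thetaCheck cdE8 r)) = true := by decide +kernel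
theorem e8Theta_8_208 : allRange 208 209 ((fun r => thetaCheck cdE8 r)) = true := by decide +kernel
theorem e8Theta_8_209 : allRange 209 210 ((fun r => thetaCheck cdE8 r)) = true := by decide +kernel
theorem e8Theta_8_210 : allRange 210 211 ((fun r => thetaCheck cdE8 r)) = true := by decide +kernel
theorem e8Theta_8_211 : allRange 211 212 ((fun r => thetaCheck cdE8 r)) = true := by decide +kernel
theorem e8Theta_8_212 : allRange 212 213 ((fun r => thetaCheck cdE8 r)) = true := by decide +kernel
theorem e8Theta_8_213 : allRange 213 214 ((fun r => thetaCheck cdE8 r)) = true := by decide +kernel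
theorem e8Theta_8_214 : allRange 214 215 ((fun r => thetaCheck cdE8 r)) = true := by decide +kernel
theorem e8Theta_8_215 : allRange 215 216 ((fun r => thetaCheck cdE8 r)) = true := by decide +kernel

/-- The permutation matrix exchanging opposite roots of type E8 conjugates root elements to root elements (roots 192 to 215). -/
theorem e8Theta_8 : ∀ r, 192 ≤ r → r < 216 → ((fun r => thetaCheck cdE8 r)) r = true := by
  intro r h1 h2
  by_cases c0 : r < 193
  · exact allRange_spec e8Theta_8_192 r (by omega) c0
  by_cases c1 : r < 194
  · exact allRange_spec e8Theta_8_193 r (by omega) c1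
  by_cases c2 : r < 195
  · exact allRange_spec e8Theta_8_194 r (by omega) c2
  by_cases c3 : r < 196
  · exact allRange_spec e8Theta_8_195 r (by omega) c3
  by_cases c4 : r < 197
  · exact allRange_spec e8Theta_8_196 r (by omega) c4
  by_cases c5 : r < 198
  · exact allRange_spec e8Theta_8_197 r (by omega) c5
  by_cases c6 : r < 199
  · exact allRange_spec e8Theta_8_198 r (by omega) c6
  by_cases c7 : r < 200
  · exact allRange_spec e8Theta_8_199 r (by omega) c7
  by_cases c8 : r < 201
  · exact allRange_spec e8Theta_8_200 r (by omega) c8
  by_cases c9 : r < 202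
  · exact allRange_spec e8Theta_8_201 r (by omega) c9
  by_cases c10 : r < 203
  · exact allRange_spec e8Theta_8_202 r (by omega) c10
  by_cases c11 : r < 204
  · exact allRange_spec e8Theta_8_203 r (by omega) c11
  by_cases c12 : r < 205
  · exact allRange_spec e8Theta_8_204 r (by omega) c12
  by_cases c13 : r < 206
  · exact allRange_spec e8Theta_8_205 r (by omega) c13
  by_cases c14 : r < 207
  · exact allRange_spec e8Theta_8_206 r (by omega) c14
  by_cases c15 : r < 208
  · exact allRange_spec e8Theta_8_207 r (by omega) c15
  by_cases c16 : r < 209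
  · exact allRange_spec e8Theta_8_208 r (by omega) c16
  by_cases c17 : r < 210
  · exact allRange_spec e8Theta_8_209 r (by omega) c17
  by_cases c18 : r < 211
  · exact allRange_spec e8Theta_8_210 r (by omega) c18
  by_cases c19 : r < 212
  · exact allRange_spec e8Theta_8_211 r (by omega) c19
  by_cases c20 : r < 213
  · exact allRange_spec e8Theta_8_212 r (by omega) c20
  by_cases c21 : r < 214
  · exact allRange_spec e8Theta_8_213 r (by omega) c21
  by_cases c22 : r < 215
  · exact allRange_spec e8Theta_8_214 r (by omega) c22
  exact allRange_spec e8Theta_8_215 r (by omega) h2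

end Cfsg.Agent.Lib.Helper3.ChevM
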