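import Cfsg.Agent.Lib.Helper3.ChevData.E8Datum
import Cfsg.Agent.Lib.Helper3.StB4
set_option autoImplicit false
set_option maxRecDepth 1000000
set_option Elab.async false

namespace Cfsg.Agent.Lib.Helper3.ChevM
open Cfsg.Agent.Lib.Helper3.StB

theorem e8Theta_9_216 : allRange 216 217 ((fun r => thetaCheck cdE8 r)) = true := by decide +kernel
theorem e8Theta_9_217 : allRange 217 218 ((fun r => thetaCheck cdE8 r)) = true := by decide +kernel
theorem e8Theta_9_218 : allRange 218 219 ((fun r => thetaCheck cdE8 r)) = true := by decide +kernel
theorem e8Theta_9_219 : allRange 219 220 ((fun r => thetaCheck cdE8 r)) = true := by decide +kernel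
theorem e8Theta_9_220 : allRange 220 221 ((fun r => thetaCheck cdE8 r)) = true := by decide +kernel
theorem e8Theta_9_221 : allRange 221 222 ((fun r => thetaCheck cdE8 r)) = true := by decide +kernel
theorem e8Theta_9_222 : allRange 222 223 ((fun r => thetaCheck cdE8 r)) = true := by decide +kernel
theorem e8Theta_9_223 : allRange 223 224 ((fun r => thetaCheck cdE8 r)) = true := by decide +kernel
theorem e8Theta_9_224 : allRange 224 225 ((fun r => thetaCheck cdE8 r)) = true := by decide +kernel
theorem e8Theta_9_225 : allRange 225 226 ((fun r => thetaCheck cdE8 r)) = true := by decide +kernel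
theorem e8Theta_9_226 : allRange 226 227 ((fun r => thetaCheck cdE8 r)) = true := by decide +kernel
theorem e8Theta_9_227 : allRange 227 228 ((fun r => thetaCheck cdE8 r)) = true := by decide +kernel
theorem e8Theta_9_228 : allRange 228 229 ((fun r => thetaCheck cdE8 r)) = true := by decide +kernel
theorem e8Theta_9_229 : allRange 229 230 ((fun r => thetaCheck cdE8 r)) = true := by decide +kernel
theorem e8Theta_9_230 : allRange 230 231 ((fun r => thetaCheck cdE8 r)) = true := by decide +kernel
theorem e8Theta_9_231 : allRange 231 232 ((fun r => thetaCheck cdE8 r)) = true := by decide +kernel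
theorem e8Theta_9_232 : allRange 232 233 ((fun r => thetaCheck cdE8 r)) = true := by decide +kernel
theorem e8Theta_9_233 : allRange 233 234 ((fun r => thetaCheck cdE8 r)) = true := by decide +kernel
theorem e8Theta_9_234 : allRange 234 235 ((fun r => thetaCheck cdE8 r)) = true := by decide +kernel
theorem e8Theta_9_235 : allRange 235 236 ((fun r => thetaCheck cdE8 r)) = true := by decide +kernel
theorem e8Theta_9_236 : allRange 236 237 ((fun r => thetaCheck cdE8 r)) = true := by decide +kernel
theorem e8Theta_9_237 : allRange 237 238 ((fun r => thetaCheck cdE8 r)) = true := by decide +kernel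
theorem e8Theta_9_238 : allRange 238 239 ((fun r => thetaCheck cdE8 r)) = true := by decide +kernel
theorem e8Theta_9_239 : allRange 239 240 ((fun r => thetaCheck cdE8 r)) = true := by decide +kernel

/-- The permutation matrix exchanging opposite roots of type E8 conjugates root elements to root elements (roots 216 to 239). -/
theorem e8Theta_9 : ∀ r, 216 ≤ r → r < 240 → ((fun r => thetaCheck cdE8 r)) r = true := by
  intro r h1 h2
  by_cases c0 : r < 217
  · exact allRange_spec e8Theta_9_216 r (by omega) c0
  by_cases c1 : r < 218
  · exact allRange_spec e8Theta_9_217 r (by omega) c1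
  by_cases c2 : r < 219
  · exact allRange_spec e8Theta_9_218 r (by omega) c2
  by_cases c3 : r < 220
  · exact allRange_spec e8Theta_9_219 r (by omega) c3
  by_cases c4 : r < 221
  · exact allRange_spec e8Theta_9_220 r (by omega) c4
  by_cases c5 : r < 222
  · exact allRange_spec e8Theta_9_221 r (by omega) c5
  by_cases c6 : r < 223
  · exact allRange_spec e8Theta_9_222 r (by omega) c6
  by_cases c7 : r < 224
  · exact allRange_spec e8Theta_9_223 r (by omega) c7
  by_cases c8 : r < 225
  · exact allRange_spec e8Theta_9_224 r (by omega) c8
  by_cases c9 : r < 226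
  · exact allRange_spec e8Theta_9_225 r (by omega) c9
  by_cases c10 : r < 227
  · exact allRange_spec e8Theta_9_226 r (by omega) c10
  by_cases c11 : r < 228
  · exact allRange_spec e8Theta_9_227 r (by omega) c11
  by_cases c12 : r < 229
  · exact allRange_spec e8Theta_9_228 r (by omega) c12
  by_cases c13 : r < 230
  · exact allRange_spec e8Theta_9_229 r (by omega) c13
  by_cases c14 : r < 231
  · exact allRange_spec e8Theta_9_230 r (by omega) c14
  by_cases c15 : r < 232
  · exact allRange_spec e8Theta_9_231 r (by omega) c15
  by_cases c16 : r < 233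
  · exact allRange_spec e8Theta_9_232 r (by omega) c16
  by_cases c17 : r < 234
  · exact allRange_spec e8Theta_9_233 r (by omega) c17
  by_cases c18 : r < 235
  · exact allRange_spec e8Theta_9_234 r (by omega) c18
  by_cases c19 : r < 236
  · exact allRange_spec e8Theta_9_235 r (by omega) c19
  by_cases c20 : r < 237
  · exact allRange_spec e8Theta_9_236 r (by omega) c20
  by_cases c21 : r < 238
  · exact allRange_spec e8Theta_9_237 r (by omega) c21
  by_cases c22 : r < 239
  · exact allRange_spec e8Theta_9_238 r (by omega) c22
  exact allRange_spec e8Theta_9_239 r (by omega) h2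

end Cfsg.Agent.Lib.Helper3.ChevM
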