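import Cfsg.Agent.Lib.Helper3.ChevData.E8ThetaA
import Cfsg.Agent.Lib.Helper3.ChevData.E8ThetaB
import Cfsg.Agent.Lib.Helper3.ChevData.E8ThetaC
import Cfsg.Agent.Lib.Helper3.ChevData.E8ThetaD
import Cfsg.Agent.Lib.Helper3.ChevData.E8ThetaE
import Cfsg.Agent.Lib.Helper3.ChevData.E8ThetaF
import Cfsg.Agent.Lib.Helper3.ChevData.E8ThetaG
import Cfsg.Agent.Lib.Helper3.ChevData.E8ThetaH
import Cfsg.Agent.Lib.Helper3.ChevData.E8ThetaI
import Cfsg.Agent.Lib.Helper3.ChevData.E8ThetaJ
set_option autoImplicit false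

namespace Cfsg.Agent.Lib.Helper3.ChevM
open Cfsg.Agent.Lib.Helper3.StB

/-- The permutation matrix exchanging opposite roots of type E8 conjugates root elements to root elements. -/
theorem e8Theta : ∀ r < 240, ((fun r => thetaCheck cdE8 r)) r = true := by
  intro r hr
  by_cases h0 : r < 24
  · exact e8Theta_0 r (by omega) h0
  by_cases h1 : r < 48
  · exact e8Theta_1 r (by omega) h1
  by_cases h2 : r < 72
  · exact e8Theta_2 r (by omega) h2
  by_cases h3 : r < 96
  · exact e8Theta_3 r (by omega) h3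
  by_cases h4 : r < 120
  · exact e8Theta_4 r (by omega) h4
  by_cases h5 : r < 144
  · exact e8Theta_5 r (by omega) h5
  by_cases h6 : r < 168
  · exact e8Theta_6 r (by omega) h6
  by_cases h7 : r < 192
  · exact e8Theta_7 r (by omega) h7
  by_cases h8 : r < 216
  · exact e8Theta_8 r (by omega) h8
  exact e8Theta_9 r (by omega) hr

end Cfsg.Agent.Lib.Helper3.ChevM
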