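import Cfsg.Agent.Lib.Helper3.ChevData.E8UHyp
import Cfsg.Agent.Lib.Helper3.ChevData.E8Bn
import Cfsg.Agent.Lib.Helper3.ChevData.E8Sign
import Cfsg.Agent.Lib.Helper3.ChevData.E8Theta
import Cfsg.Agent.Lib.Helper3.ChevData.E8Cneg
import Cfsg.Agent.Lib.Helper3.StB12
set_option autoImplicit false
set_option maxRecDepth 1000000

namespace Cfsg.Agent.Lib.Helper3.ChevM
open Cfsg.Agent.Lib.Helper3.StB

/-- Pairs of roots whose commutator formula contains the simple roots of type E8. -/
def abE8 (i : ℕ) : ℕ × ℕ := (#[(14, 233), (7, 234), (6, 234), (5, 235), (4, 236), (3, 237), (2, 238), (1, 239)] : Array (ℕ × ℕ)).getD i (0, 0)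

theorem e8Self : allRange 0 8 (fun i => selfCheck Cfsg.Lie.chevE8 relE8.refl abE8 i) = true := by decide +kernel

theorem e8Pneg : allRange 0 64 (fun k => pairNegCheck Cfsg.Lie.chevE8 relE8.pair (k / 8) (k % 8)) = true := by decide +kernel

/-- The table checks for the presentation of type E8. -/
def stHypE8 : StHyp cdE8 relE8 where
  U := uhypE8
  B := bnE8
  sign := e8Sign
  theta := e8Theta
  cneg := of_pairRange (m := 240) (n := 240) e8Cneg
  ab := abE8
  self := fun i hi => allRange_spec e8Self i (Nat.zero_le i) hi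
  pneg := of_pairRange (m := 8) (n := 8) (fun k hk => allRange_spec e8Pneg k (Nat.zero_le k) hk)

end Cfsg.Agent.Lib.Helper3.ChevM
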