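import Cfsg.Agent.Lib.Helper3.ChevData.E8Datum
import Cfsg.Agent.Lib.Helper3.ChevData.E8Tabs
import Cfsg.Agent.Lib.Helper3.ChevM7
set_option autoImplicit false
set_option maxRecDepth 1000000
set_option Elab.async false

namespace Cfsg.Agent.Lib.Helper3.ChevM

theorem e8Tab_0_0 : allRange 0 80 ((fun k => tabCheck Cfsg.Lie.chevE8 pairE8 reflE8 (k / 240) (k % 240))) = true := by decide +kernel
theorem e8Tab_0_80 : allRange 80 160 ((fun k => tabCheck Cfsg.Lie.chevE8 pairE8 reflE8 (k / 240) (k % 240))) = true := by decide +kernel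
theorem e8Tab_0_160 : allRange 160 240 ((fun k => tabCheck Cfsg.Lie.chevE8 pairE8 reflE8 (k / 240) (k % 240))) = true := by decide +kernel
theorem e8Tab_0_240 : allRange 240 320 ((fun k => tabCheck Cfsg.Lie.chevE8 pairE8 reflE8 (k / 240) (k % 240))) = true := by decide +kernel
theorem e8Tab_0_320 : allRange 320 400 ((fun k => tabCheck Cfsg.Lie.chevE8 pairE8 reflE8 (k / 240) (k % 240))) = true := by decide +kernel
theorem e8Tab_0_400 : allRange 400 480 ((fun k => tabCheck Cfsg.Lie.chevE8 pairE8 reflE8 (k / 240) (k % 240))) = true := by decide +kernel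
theorem e8Tab_0_480 : allRange 480 560 ((fun k => tabCheck Cfsg.Lie.chevE8 pairE8 reflE8 (k / 240) (k % 240))) = true := by decide +kernel
theorem e8Tab_0_560 : allRange 560 640 ((fun k => tabCheck Cfsg.Lie.chevE8 pairE8 reflE8 (k / 240) (k % 240))) = true := by decide +kernel
theorem e8Tab_0_640 : allRange 640 720 ((fun k => tabCheck Cfsg.Lie.chevE8 pairE8 reflE8 (k / 240) (k % 240))) = true := by decide +kernel
theorem e8Tab_0_720 : allRange 720 800 ((fun k => tabCheck Cfsg.Lie.chevE8 pairE8 reflE8 (k / 240) (k % 240))) = true := by decide +kernel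
theorem e8Tab_0_800 : allRange 800 880 ((fun k => tabCheck Cfsg.Lie.chevE8 pairE8 reflE8 (k / 240) (k % 240))) = true := by decide +kernel
theorem e8Tab_0_880 : allRange 880 960 ((fun k => tabCheck Cfsg.Lie.chevE8 pairE8 reflE8 (k / 240) (k % 240))) = true := by decide +kernel
theorem e8Tab_0_960 : allRange 960 1040 ((fun k => tabCheck Cfsg.Lie.chevE8 pairE8 reflE8 (k / 240) (k % 240))) = true := by decide +kernel
theorem e8Tab_0_1040 : allRange 1040 1120 ((fun k => tabCheck Cfsg.Lie.chevE8 pairE8 reflE8 (k / 240) (k % 240))) = true := by decide +kernel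
theorem e8Tab_0_1120 : allRange 1120 1200 ((fun k => tabCheck Cfsg.Lie.chevE8 pairE8 reflE8 (k / 240) (k % 240))) = true := by decide +kernel
theorem e8Tab_0_1200 : allRange 1200 1280 ((fun k => tabCheck Cfsg.Lie.chevE8 pairE8 reflE8 (k / 240) (k % 240))) = true := by decide +kernel
theorem e8Tab_0_1280 : allRange 1280 1360 ((fun k => tabCheck Cfsg.Lie.chevE8 pairE8 reflE8 (k / 240) (k % 240))) = true := by decide +kernel
theorem e8Tab_0_1360 : allRange 1360 1440 ((fun k => tabCheck Cfsg.Lie.chevE8 pairE8 reflE8 (k / 240) (k % 240))) = true := by decide +kernel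
theorem e8Tab_0_1440 : allRange 1440 1520 ((fun k => tabCheck Cfsg.Lie.chevE8 pairE8 reflE8 (k / 240) (k % 240))) = true := by decide +kernel
theorem e8Tab_0_1520 : allRange 1520 1600 ((fun k => tabCheck Cfsg.Lie.chevE8 pairE8 reflE8 (k / 240) (k % 240))) = true := by decide +kernel
theorem e8Tab_0_1600 : allRange 1600 1680 ((fun k => tabCheck Cfsg.Lie.chevE8 pairE8 reflE8 (k / 240) (k % 240))) = true := by decide +kernel
theorem e8Tab_0_1680 : allRange 1680 1760 ((fun k => tabCheck Cfsg.Lie.chevE8 pairE8 reflE8 (k / 240) (k % 240))) = true := by decide +kernel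
theorem e8Tab_0_1760 : allRange 1760 1840 ((fun k => tabCheck Cfsg.Lie.chevE8 pairE8 reflE8 (k / 240) (k % 240))) = true := by decide +kernel
theorem e8Tab_0_1840 : allRange 1840 1920 ((fun k => tabCheck Cfsg.Lie.chevE8 pairE8 reflE8 (k / 240) (k % 240))) = true := by decide +kernel

/-- Compiled tables of type E8 (roots 0 to 1919). -/
theorem e8Tab_0 : ∀ r, 0 ≤ r → r < 1920 → ((fun k => tabCheck Cfsg.Lie.chevE8 pairE8 reflE8 (k / 240) (k % 240))) r = true := by
  intro r h1 h2
  by_cases c0 : r < 80
  · exact allRange_spec e8Tab_0_0 r (by omega) c0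
  by_cases c1 : r < 160
  · exact allRange_spec e8Tab_0_80 r (by omega) c1
  by_cases c2 : r < 240
  · exact allRange_spec e8Tab_0_160 r (by omega) c2
  by_cases c3 : r < 320
  · exact allRange_spec e8Tab_0_240 r (by omega) c3
  by_cases c4 : r < 400
  · exact allRange_spec e8Tab_0_320 r (by omega) c4
  by_cases c5 : r < 480
  · exact allRange_spec e8Tab_0_400 r (by omega) c5
  by_cases c6 : r < 560
  · exact allRange_spec e8Tab_0_480 r (by omega) c6
  by_cases c7 : r < 640
  · exact allRange_spec e8Tab_0_560 r (by omega) c7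
  by_cases c8 : r < 720
  · exact allRange_spec e8Tab_0_640 r (by omega) c8
  by_cases c9 : r < 800
  · exact allRange_spec e8Tab_0_720 r (by omega) c9
  by_cases c10 : r < 880
  · exact allRange_spec e8Tab_0_800 r (by omega) c10
  by_cases c11 : r < 960
  · exact allRange_spec e8Tab_0_880 r (by omega) c11
  by_cases c12 : r < 1040
  · exact allRange_spec e8Tab_0_960 r (by omega) c12
  by_cases c13 : r < 1120
  · exact allRange_spec e8Tab_0_1040 r (by omega) c13
  by_cases c14 : r < 1200
  · exact allRange_spec e8Tab_0_1120 r (by omega) c14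
  by_cases c15 : r < 1280
  · exact allRange_spec e8Tab_0_1200 r (by omega) c15
  by_cases c16 : r < 1360
  · exact allRange_spec e8Tab_0_1280 r (by omega) c16
  by_cases c17 : r < 1440
  · exact allRange_spec e8Tab_0_1360 r (by omega) c17
  by_cases c18 : r < 1520
  · exact allRange_spec e8Tab_0_1440 r (by omega) c18
  by_cases c19 : r < 1600
  · exact allRange_spec e8Tab_0_1520 r (by omega) c19
  by_cases c20 : r < 1680
  · exact allRange_spec e8Tab_0_1600 r (by omega) c20
  by_cases c21 : r < 1760
  · exact allRange_spec e8Tab_0_1680 r (by omega) c21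
  by_cases c22 : r < 1840
  · exact allRange_spec e8Tab_0_1760 r (by omega) c22
  exact allRange_spec e8Tab_0_1840 r (by omega) h2

end Cfsg.Agent.Lib.Helper3.ChevM
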