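import Cfsg.Agent.Lib.Helper3.ChevGen2c
import Cfsg.Agent.Lib.Helper3.ChevData.E8Mono
import Cfsg.Agent.Lib.Helper3.ChevData.E8Hdec
import Cfsg.Agent.Lib.Helper3.ChevData.E8CommData
set_option autoImplicit false
set_option maxRecDepth 1000000
open Cfsg Cfsg.Lie

/-! Two generators for the Chevalley group of type E8: the data of the derivation. -/

namespace Cfsg.Agent.Lib.Helper3.ChevM

/-- The parameters of the derivation for type E8. -/
def tgParE8 : TGParams where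
  l := [0, 1, 2, 3, 4, 5, 6, 7]
  s := 0
  lam := fun i => ([0, 0, 1, 0, 0, 0, 0, 0] : List ℤ).getD i 0
  P := []
  two := false

/-- The steps of the derivation for type E8. -/
def tgStepsE8 : List TGStep := [
  .orb 14, .orbInv 7, .tor 7, .tor 8, .orb 7, .orb 8, .orb 16, .orb 22,
  .orb 37, .orb 79, .orb 106, .orb 110, .orb 170, .orb 185, .orb 205, .orb 227,
  .orbInv 6, .orbInv 20, .sum 6 227 94 (-1), .sum 6 205 57 (-1), .sum 7 94 1 (1), .sum 7 219 71 (1), .sum 7 227 100 (-1), .sum 14 71 0 (1),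
  .sum 14 219 93 (1), .sum 20 57 2 (-1), .sum 20 205 101 (1), .sum 20 185 82 (1), .sum 57 82 21 (-1), .sum 57 100 36 (-1), .sum 57 227 184 (-1), .sum 71 94 56 (1),
  .sum 71 227 204 (-1), .sum 82 205 169 (1), .sum 93 100 78 (1), .sum 94 101 80 (1), .orb 0, .orb 56, .orb 71, .orb 78,
  .orb 93, .orb 99, .orb 141, .orb 162, .orb 163, .orb 164, .orb 204, .orb 219,
  .orb 226, .orb 233, .orb 234, .orb 235, .orb 236, .orb 237, .orb 238, .orb 239,
  .orbInv 3, .orbInv 4, .orbInv 5, .orbInv 12, .orbInv 13, .orbInv 34, .orbInv 35, .orbInv 38,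
  .orbInv 41, .orbInv 54, .orbInv 55, .orbInv 59, .orbInv 69, .orbInv 70, .orbInv 85, .orbInv 129,
  .orbInv 133, .orbInv 134, .orbInv 160, .orbInv 161, .orbInv 202, .orbInv 203, .orbInv 217, .orbInv 218,
  .orbInv 223, .orbInv 231, .sum 0 231 88 (1), .sum 0 223 62 (-1), .sum 0 218 52 (1), .sum 0 217 49 (-1), .sum 0 203 33 (-1), .sum 0 202 31 (1),
  .sum 0 160 11 (1), .sum 0 224 66 (1), .sum 0 238 119 (-1), .sum 0 237 117 (-1), .sum 0 236 114 (-1), .sum 1 231 89 (1), .sum 1 223 63 (-1), .sum 1 218 53 (1),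
  .sum 1 217 50 (-1), .sum 1 202 32 (1), .sum 1 224 67 (1), .sum 1 239 120 (-1), .sum 1 237 118 (-1), .sum 1 236 115 (-1), .sum 1 235 111 (-1), .sum 2 231 90 (1),
  .sum 2 223 64 (-1), .sum 2 217 51 (-1), .sum 2 224 68 (1), .sum 2 239 122 (-1), .sum 2 238 121 (-1), .sum 2 236 116 (-1), .sum 2 235 112 (-1), .sum 2 232 95 (-1),
  .sum 2 234 107 (-1), .sum 3 231 91 (1), .sum 3 223 65 (-1), .sum 3 239 125 (-1), .sum 3 238 124 (-1), .sum 3 237 123 (-1), .sum 3 235 113 (-1), .sum 3 232 96 (-1),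
  .sum 3 234 108 (-1), .sum 3 233 102 (-1), .sum 3 226 81 (1), .sum 4 231 92 (1), .sum 4 238 128 (-1), .sum 4 237 127 (-1), .sum 4 236 126 (-1), .sum 4 232 97 (-1),
  .sum 4 234 109 (-1), .sum 4 233 103 (-1), .sum 4 226 84 (1), .sum 4 204 40 (1), .sum 4 185 23 (1), .sum 5 237 132 (-1), .sum 5 236 131 (-1), .sum 5 235 130 (-1),
  .sum 5 232 98 (-1), .sum 5 233 104 (-1), .sum 5 148 10 (1), .sum 5 147 9 (-1), .sum 5 204 46 (1), .sum 5 184 26 (-1), .sum 5 205 47 (-1), .sum 5 185 27 (1),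
  .sum 5 170 17 (1), .sum 6 239 140 (-1), .sum 6 238 139 (-1), .sum 6 237 138 (-1), .sum 6 236 137 (-1), .sum 6 235 136 (-1), .sum 7 223 75 (1), .sum 7 224 76 (-1),
  .sum 7 239 146 (-1), .sum 7 238 145 (-1), .sum 7 237 144 (-1), .sum 7 236 143 (-1), .sum 7 235 142 (-1), .sum 8 217 74 (-1), .sum 8 224 77 (-1), .sum 8 239 151 (1),
  .sum 8 238 150 (1), .sum 8 237 149 (1), .sum 9 239 155 (-1), .sum 9 238 154 (-1), .sum 9 237 153 (-1), .sum 9 236 152 (-1), .sum 10 239 158 (1), .sum 10 238 157 (1),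
  .sum 10 237 156 (1), .sum 11 238 159 (-1), .sum 11 162 18 (1), .sum 12 164 28 (1), .sum 12 163 24 (-1), .sum 12 162 19 (1), .sum 13 164 29 (1), .sum 13 163 25 (-1),
  .sum 13 169 39 (-1), .sum 13 204 72 (1), .sum 13 184 58 (1), .sum 13 205 73 (-1), .sum 13 185 60 (-1), .sum 13 170 42 (1), .sum 14 156 30 (1), .sum 14 239 168 (-1),
  .sum 14 238 167 (-1), .sum 14 237 166 (-1), .sum 14 236 165 (-1), .sum 15 159 43 (1), .sum 15 203 87 (-1), .sum 15 202 86 (1), .sum 15 161 45 (1), .sum 15 160 44 (-1),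
  .sum 15 239 173 (1), .sum 15 238 172 (1), .sum 15 237 171 (1), .sum 16 158 48 (1), .sum 16 239 177 (-1), .sum 16 238 176 (-1), .sum 16 237 175 (-1), .sum 16 236 174 (-1),
  .sum 17 239 180 (1), .sum 17 238 179 (1), .sum 17 237 178 (1), .sum 18 239 182 (-1), .sum 18 238 181 (-1), .sum 19 239 183 (1), .sum 21 183 83 (-1), .sum 21 161 61 (1),
  .sum 21 239 187 (1), .sum 21 238 186 (1), .sum 22 239 190 (-1), .sum 22 238 189 (-1), .sum 22 237 188 (-1), .sum 23 239 192 (1), .sum 23 238 191 (1), .sum 24 239 193 (-1),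
  .sum 26 239 196 (1), .sum 26 238 195 (1), .sum 26 237 194 (1), .sum 27 239 198 (-1), .sum 27 238 197 (-1), .sum 28 239 199 (1), .sum 30 239 201 (1), .sum 30 238 200 (1),
  .sum 36 239 206 (-1), .sum 37 239 208 (1), .sum 37 238 207 (1), .sum 38 239 209 (-1), .sum 40 239 211 (-1), .sum 40 238 210 (-1), .sum 41 239 212 (1), .sum 43 239 213 (-1),
  .sum 46 239 215 (1), .sum 46 238 214 (1), .sum 47 239 216 (-1), .sum 56 239 220 (-1), .sum 57 239 221 (1), .sum 59 239 222 (-1), .sum 71 239 225 (1), .sum 79 239 228 (1),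
  .sum 81 239 229 (-1), .sum 84 239 230 (1)]

theorem tgOKE8 : tgOK cdE8.D relE8.refl tgParE8 tgStepsE8 ⟨[14], [], true⟩ = true := by
  decide +kernel

theorem two_gen_E8 {F : Type*} [Field F] [Finite F] :
    ∃ a b : ↥(Cfsg.Lie.chevE8.group F), Subgroup.closure ({a, b} : Set ↥(Cfsg.Lie.chevE8.group F)) = ⊤ :=
  two_gen_A (C := cdE8) monoE8 commE8 (of_pairRange (m := 240) (n := 240) e8Hdec) tgParE8 14
    (by decide) (by decide) (by decide) (by decide +kernel) rfl rfl tgStepsE8 tgOKE8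

end Cfsg.Agent.Lib.Helper3.ChevM
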