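import Cfsg.Prelude.Def_ChevE8
import Cfsg.Agent.Lib.Helper3.ChevData.E8Tabs
import Cfsg.Agent.Lib.Helper3.ChevData.E8Wit
import Cfsg.Agent.Lib.Helper3.ChevData.E8Ubw
import Cfsg.Agent.Lib.Helper3.StU10
set_option autoImplicit false
set_option maxRecDepth 1000000
set_option Elab.async false

namespace Cfsg.Agent.Lib.Helper3.ChevM
open Cfsg.Agent.Lib.Helper3.StB Cfsg.Agent.Lib.Helper3.StU

theorem e8Ubase_1_9842 : allRange 9842 10108 ((fun k => baseOK Cfsg.Lie.chevE8 reflE8 witE8 bwE8 (k / 240) (k % 240))) = true := by decide +kernel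
theorem e8Ubase_1_10108 : allRange 10108 10374 ((fun k => baseOK Cfsg.Lie.chevE8 reflE8 witE8 bwE8 (k / 240) (k % 240))) = true := by decide +kernel
theorem e8Ubase_1_10374 : allRange 10374 10640 ((fun k => baseOK Cfsg.Lie.chevE8 reflE8 witE8 bwE8 (k / 240) (k % 240))) = true := by decide +kernel
theorem e8Ubase_1_10640 : allRange 10640 10906 ((fun k => baseOK Cfsg.Lie.chevE8 reflE8 witE8 bwE8 (k / 240) (k % 240))) = true := by decide +kernel
theorem e8Ubase_1_10906 : allRange 10906 11172 ((fun k => baseOK Cfsg.Lie.chevE8 reflE8 witE8 bwE8 (k / 240) (k % 240))) = true := by decide +kernel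
theorem e8Ubase_1_11172 : allRange 11172 11438 ((fun k => baseOK Cfsg.Lie.chevE8 reflE8 witE8 bwE8 (k / 240) (k % 240))) = true := by decide +kernel
theorem e8Ubase_1_11438 : allRange 11438 11704 ((fun k => baseOK Cfsg.Lie.chevE8 reflE8 witE8 bwE8 (k / 240) (k % 240))) = true := by decide +kernel
theorem e8Ubase_1_11704 : allRange 11704 11970 ((fun k => baseOK Cfsg.Lie.chevE8 reflE8 witE8 bwE8 (k / 240) (k % 240))) = true := by decide +kernel
theorem e8Ubase_1_11970 : allRange 11970 12236 ((fun k => baseOK Cfsg.Lie.chevE8 reflE8 witE8 bwE8 (k / 240) (k % 240))) = true := by decide +kernel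
theorem e8Ubase_1_12236 : allRange 12236 12502 ((fun k => baseOK Cfsg.Lie.chevE8 reflE8 witE8 bwE8 (k / 240) (k % 240))) = true := by decide +kernel
theorem e8Ubase_1_12502 : allRange 12502 12768 ((fun k => baseOK Cfsg.Lie.chevE8 reflE8 witE8 bwE8 (k / 240) (k % 240))) = true := by decide +kernel
theorem e8Ubase_1_12768 : allRange 12768 13034 ((fun k => baseOK Cfsg.Lie.chevE8 reflE8 witE8 bwE8 (k / 240) (k % 240))) = true := by decide +kernel
theorem e8Ubase_1_13034 : allRange 13034 13300 ((fun k => baseOK Cfsg.Lie.chevE8 reflE8 witE8 bwE8 (k / 240) (k % 240))) = true := by decide +kernel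
theorem e8Ubase_1_13300 : allRange 13300 13566 ((fun k => baseOK Cfsg.Lie.chevE8 reflE8 witE8 bwE8 (k / 240) (k % 240))) = true := by decide +kernel
theorem e8Ubase_1_13566 : allRange 13566 13832 ((fun k => baseOK Cfsg.Lie.chevE8 reflE8 witE8 bwE8 (k / 240) (k % 240))) = true := by decide +kernel
theorem e8Ubase_1_13832 : allRange 13832 14098 ((fun k => baseOK Cfsg.Lie.chevE8 reflE8 witE8 bwE8 (k / 240) (k % 240))) = true := by decide +kernel
theorem e8Ubase_1_14098 : allRange 14098 14364 ((fun k => baseOK Cfsg.Lie.chevE8 reflE8 witE8 bwE8 (k / 240) (k % 240))) = true := by decide +kernel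
theorem e8Ubase_1_14364 : allRange 14364 14630 ((fun k => baseOK Cfsg.Lie.chevE8 reflE8 witE8 bwE8 (k / 240) (k % 240))) = true := by decide +kernel
theorem e8Ubase_1_14630 : allRange 14630 14896 ((fun k => baseOK Cfsg.Lie.chevE8 reflE8 witE8 bwE8 (k / 240) (k % 240))) = true := by decide +kernel
theorem e8Ubase_1_14896 : allRange 14896 15162 ((fun k => baseOK Cfsg.Lie.chevE8 reflE8 witE8 bwE8 (k / 240) (k % 240))) = true := by decide +kernel
theorem e8Ubase_1_15162 : allRange 15162 15428 ((fun k => baseOK Cfsg.Lie.chevE8 reflE8 witE8 bwE8 (k / 240) (k % 240))) = true := by decide +kernel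
theorem e8Ubase_1_15428 : allRange 15428 15694 ((fun k => baseOK Cfsg.Lie.chevE8 reflE8 witE8 bwE8 (k / 240) (k % 240))) = true := by decide +kernel
theorem e8Ubase_1_15694 : allRange 15694 15960 ((fun k => baseOK Cfsg.Lie.chevE8 reflE8 witE8 bwE8 (k / 240) (k % 240))) = true := by decide +kernel
theorem e8Ubase_1_15960 : allRange 15960 16226 ((fun k => baseOK Cfsg.Lie.chevE8 reflE8 witE8 bwE8 (k / 240) (k % 240))) = true := by decide +kernel
theorem e8Ubase_1_16226 : allRange 16226 16492 ((fun k => baseOK Cfsg.Lie.chevE8 reflE8 witE8 bwE8 (k / 240) (k % 240))) = true := by decide +kernel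
theorem e8Ubase_1_16492 : allRange 16492 16758 ((fun k => baseOK Cfsg.Lie.chevE8 reflE8 witE8 bwE8 (k / 240) (k % 240))) = true := by decide +kernel
theorem e8Ubase_1_16758 : allRange 16758 17024 ((fun k => baseOK Cfsg.Lie.chevE8 reflE8 witE8 bwE8 (k / 240) (k % 240))) = true := by decide +kernel
theorem e8Ubase_1_17024 : allRange 17024 17290 ((fun k => baseOK Cfsg.Lie.chevE8 reflE8 witE8 bwE8 (k / 240) (k % 240))) = true := by decide +kernel
theorem e8Ubase_1_17290 : allRange 17290 17556 ((fun k => baseOK Cfsg.Lie.chevE8 reflE8 witE8 bwE8 (k / 240) (k % 240))) = true := by decide +kernel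
theorem e8Ubase_1_17556 : allRange 17556 17822 ((fun k => baseOK Cfsg.Lie.chevE8 reflE8 witE8 bwE8 (k / 240) (k % 240))) = true := by decide +kernel
theorem e8Ubase_1_17822 : allRange 17822 18088 ((fun k => baseOK Cfsg.Lie.chevE8 reflE8 witE8 bwE8 (k / 240) (k % 240))) = true := by decide +kernel
theorem e8Ubase_1_18088 : allRange 18088 18354 ((fun k => baseOK Cfsg.Lie.chevE8 reflE8 witE8 bwE8 (k / 240) (k % 240))) = true := by decide +kernel
theorem e8Ubase_1_18354 : allRange 18354 18620 ((fun k => baseOK Cfsg.Lie.chevE8 reflE8 witE8 bwE8 (k / 240) (k % 240))) = true := by decide +kernel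
theorem e8Ubase_1_18620 : allRange 18620 18886 ((fun k => baseOK Cfsg.Lie.chevE8 reflE8 witE8 bwE8 (k / 240) (k % 240))) = true := by decide +kernel
theorem e8Ubase_1_18886 : allRange 18886 19152 ((fun k => baseOK Cfsg.Lie.chevE8 reflE8 witE8 bwE8 (k / 240) (k % 240))) = true := by decide +kernel
theorem e8Ubase_1_19152 : allRange 19152 19418 ((fun k => baseOK Cfsg.Lie.chevE8 reflE8 witE8 bwE8 (k / 240) (k % 240))) = true := by decide +kernel
theorem e8Ubase_1_19418 : allRange 19418 19684 ((fun k => baseOK Cfsg.Lie.chevE8 reflE8 witE8 bwE8 (k / 240) (k % 240))) = true := by decide +kernel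

/-- The pairs of roots of type E8 not reduced by a fundamental reflection (roots 9842 to 19683). -/
theorem e8Ubase_1 : ∀ r, 9842 ≤ r → r < 19684 → ((fun k => baseOK Cfsg.Lie.chevE8 reflE8 witE8 bwE8 (k / 240) (k % 240))) r = true := by
  intro r h1 h2
  by_cases c0 : r < 10108
  · exact allRange_spec e8Ubase_1_9842 r (by omega) c0
  by_cases c1 : r < 10374
  · exact allRange_spec e8Ubase_1_10108 r (by omega) c1
  by_cases c2 : r < 10640
  · exact allRange_spec e8Ubase_1_10374 r (by omega) c2
  by_cases c3 : r < 10906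
  · exact allRange_spec e8Ubase_1_10640 r (by omega) c3
  by_cases c4 : r < 11172
  · exact allRange_spec e8Ubase_1_10906 r (by omega) c4
  by_cases c5 : r < 11438
  · exact allRange_spec e8Ubase_1_11172 r (by omega) c5
  by_cases c6 : r < 11704
  · exact allRange_spec e8Ubase_1_11438 r (by omega) c6
  by_cases c7 : r < 11970
  · exact allRange_spec e8Ubase_1_11704 r (by omega) c7
  by_cases c8 : r < 12236
  · exact allRange_spec e8Ubase_1_11970 r (by omega) c8
  by_cases c9 : r < 12502
  · exact allRange_spec e8Ubase_1_12236 r (by omega) c9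
  by_cases c10 : r < 12768
  · exact allRange_spec e8Ubase_1_12502 r (by omega) c10
  by_cases c11 : r < 13034
  · exact allRange_spec e8Ubase_1_12768 r (by omega) c11
  by_cases c12 : r < 13300
  · exact allRange_spec e8Ubase_1_13034 r (by omega) c12
  by_cases c13 : r < 13566
  · exact allRange_spec e8Ubase_1_13300 r (by omega) c13
  by_cases c14 : r < 13832
  · exact allRange_spec e8Ubase_1_13566 r (by omega) c14
  by_cases c15 : r < 14098
  · exact allRange_spec e8Ubase_1_13832 r (by omega) c15
  by_cases c16 : r < 14364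
  · exact allRange_spec e8Ubase_1_14098 r (by omega) c16
  by_cases c17 : r < 14630
  · exact allRange_spec e8Ubase_1_14364 r (by omega) c17
  by_cases c18 : r < 14896
  · exact allRange_spec e8Ubase_1_14630 r (by omega) c18
  by_cases c19 : r < 15162
  · exact allRange_spec e8Ubase_1_14896 r (by omega) c19
  by_cases c20 : r < 15428
  · exact allRange_spec e8Ubase_1_15162 r (by omega) c20
  by_cases c21 : r < 15694
  · exact allRange_spec e8Ubase_1_15428 r (by omega) c21
  by_cases c22 : r < 15960
  · exact allRange_spec e8Ubase_1_15694 r (by omega) c22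
  by_cases c23 : r < 16226
  · exact allRange_spec e8Ubase_1_15960 r (by omega) c23
  by_cases c24 : r < 16492
  · exact allRange_spec e8Ubase_1_16226 r (by omega) c24
  by_cases c25 : r < 16758
  · exact allRange_spec e8Ubase_1_16492 r (by omega) c25
  by_cases c26 : r < 17024
  · exact allRange_spec e8Ubase_1_16758 r (by omega) c26
  by_cases c27 : r < 17290
  · exact allRange_spec e8Ubase_1_17024 r (by omega) c27
  by_cases c28 : r < 17556
  · exact allRange_spec e8Ubase_1_17290 r (by omega) c28
  by_cases c29 : r < 17822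
  · exact allRange_spec e8Ubase_1_17556 r (by omega) c29
  by_cases c30 : r < 18088
  · exact allRange_spec e8Ubase_1_17822 r (by omega) c30
  by_cases c31 : r < 18354
  · exact allRange_spec e8Ubase_1_18088 r (by omega) c31
  by_cases c32 : r < 18620
  · exact allRange_spec e8Ubase_1_18354 r (by omega) c32
  by_cases c33 : r < 18886
  · exact allRange_spec e8Ubase_1_18620 r (by omega) c33
  by_cases c34 : r < 19152
  · exact allRange_spec e8Ubase_1_18886 r (by omega) c34
  by_cases c35 : r < 19418
  · exact allRange_spec e8Ubase_1_19152 r (by omega) c35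
  exact allRange_spec e8Ubase_1_19418 r (by omega) h2

end Cfsg.Agent.Lib.Helper3.ChevM
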