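import Cfsg.Prelude.Def_ChevE8
import Cfsg.Agent.Lib.Helper3.ChevData.E8Tabs
import Cfsg.Agent.Lib.Helper3.ChevData.E8Wit
import Cfsg.Agent.Lib.Helper3.ChevData.E8Ubw
import Cfsg.Agent.Lib.Helper3.StU10
set_option autoImplicit false
set_option maxRecDepth 1000000
set_option Elab.async false

namespace Cfsg.Agent.Lib.Helper3.ChevM
open Cfsg.Agent.Lib.Helper3.StB Cfsg.Agent.Lib.Helper3.StU

theorem e8Ubase_2_19684 : allRange 19684 19950 ((fun k => baseOK Cfsg.Lie.chevE8 reflE8 witE8 bwE8 (k / 240) (k % 240))) = true := by decide +kernel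
theorem e8Ubase_2_19950 : allRange 19950 20216 ((fun k => baseOK Cfsg.Lie.chevE8 reflE8 witE8 bwE8 (k / 240) (k % 240))) = true := by decide +kernel
theorem e8Ubase_2_20216 : allRange 20216 20482 ((fun k => baseOK Cfsg.Lie.chevE8 reflE8 witE8 bwE8 (k / 240) (k % 240))) = true := by decide +kernel
theorem e8Ubase_2_20482 : allRange 20482 20748 ((fun k => baseOK Cfsg.Lie.chevE8 reflE8 witE8 bwE8 (k / 240) (k % 240))) = true := by decide +kernel
theorem e8Ubase_2_20748 : allRange 20748 21014 ((fun k => baseOK Cfsg.Lie.chevE8 reflE8 witE8 bwE8 (k / 240) (k % 240))) = true := by decide +kernel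
theorem e8Ubase_2_21014 : allRange 21014 21280 ((fun k => baseOK Cfsg.Lie.chevE8 reflE8 witE8 bwE8 (k / 240) (k % 240))) = true := by decide +kernel
theorem e8Ubase_2_21280 : allRange 21280 21546 ((fun k => baseOK Cfsg.Lie.chevE8 reflE8 witE8 bwE8 (k / 240) (k % 240))) = true := by decide +kernel
theorem e8Ubase_2_21546 : allRange 21546 21812 ((fun k => baseOK Cfsg.Lie.chevE8 reflE8 witE8 bwE8 (k / 240) (k % 240))) = true := by decide +kernel
theorem e8Ubase_2_21812 : allRange 21812 22078 ((fun k => baseOK Cfsg.Lie.chevE8 reflE8 witE8 bwE8 (k / 240) (k % 240))) = true := by decide +kernel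
theorem e8Ubase_2_22078 : allRange 22078 22344 ((fun k => baseOK Cfsg.Lie.chevE8 reflE8 witE8 bwE8 (k / 240) (k % 240))) = true := by decide +kernel
theorem e8Ubase_2_22344 : allRange 22344 22610 ((fun k => baseOK Cfsg.Lie.chevE8 reflE8 witE8 bwE8 (k / 240) (k % 240))) = true := by decide +kernel
theorem e8Ubase_2_22610 : allRange 22610 22876 ((fun k => baseOK Cfsg.Lie.chevE8 reflE8 witE8 bwE8 (k / 240) (k % 240))) = true := by decide +kernel
theorem e8Ubase_2_22876 : allRange 22876 23142 ((fun k => baseOK Cfsg.Lie.chevE8 reflE8 witE8 bwE8 (k / 240) (k % 240))) = true := by decide +kernel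
theorem e8Ubase_2_23142 : allRange 23142 23408 ((fun k => baseOK Cfsg.Lie.chevE8 reflE8 witE8 bwE8 (k / 240) (k % 240))) = true := by decide +kernel
theorem e8Ubase_2_23408 : allRange 23408 23674 ((fun k => baseOK Cfsg.Lie.chevE8 reflE8 witE8 bwE8 (k / 240) (k % 240))) = true := by decide +kernel
theorem e8Ubase_2_23674 : allRange 23674 23940 ((fun k => baseOK Cfsg.Lie.chevE8 reflE8 witE8 bwE8 (k / 240) (k % 240))) = true := by decide +kernel
theorem e8Ubase_2_23940 : allRange 23940 24206 ((fun k => baseOK Cfsg.Lie.chevE8 reflE8 witE8 bwE8 (k / 240) (k % 240))) = true := by decide +kernel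
theorem e8Ubase_2_24206 : allRange 24206 24472 ((fun k => baseOK Cfsg.Lie.chevE8 reflE8 witE8 bwE8 (k / 240) (k % 240))) = true := by decide +kernel
theorem e8Ubase_2_24472 : allRange 24472 24738 ((fun k => baseOK Cfsg.Lie.chevE8 reflE8 witE8 bwE8 (k / 240) (k % 240))) = true := by decide +kernel
theorem e8Ubase_2_24738 : allRange 24738 25004 ((fun k => baseOK Cfsg.Lie.chevE8 reflE8 witE8 bwE8 (k / 240) (k % 240))) = true := by decide +kernel
theorem e8Ubase_2_25004 : allRange 25004 25270 ((fun k => baseOK Cfsg.Lie.chevE8 reflE8 witE8 bwE8 (k / 240) (k % 240))) = true := by decide +kernel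
theorem e8Ubase_2_25270 : allRange 25270 25536 ((fun k => baseOK Cfsg.Lie.chevE8 reflE8 witE8 bwE8 (k / 240) (k % 240))) = true := by decide +kernel
theorem e8Ubase_2_25536 : allRange 25536 25802 ((fun k => baseOK Cfsg.Lie.chevE8 reflE8 witE8 bwE8 (k / 240) (k % 240))) = true := by decide +kernel
theorem e8Ubase_2_25802 : allRange 25802 26068 ((fun k => baseOK Cfsg.Lie.chevE8 reflE8 witE8 bwE8 (k / 240) (k % 240))) = true := by decide +kernel
theorem e8Ubase_2_26068 : allRange 26068 26334 ((fun k => baseOK Cfsg.Lie.chevE8 reflE8 witE8 bwE8 (k / 240) (k % 240))) = true := by decide +kernel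
theorem e8Ubase_2_26334 : allRange 26334 26600 ((fun k => baseOK Cfsg.Lie.chevE8 reflE8 witE8 bwE8 (k / 240) (k % 240))) = true := by decide +kernel
theorem e8Ubase_2_26600 : allRange 26600 26866 ((fun k => baseOK Cfsg.Lie.chevE8 reflE8 witE8 bwE8 (k / 240) (k % 240))) = true := by decide +kernel
theorem e8Ubase_2_26866 : allRange 26866 27132 ((fun k => baseOK Cfsg.Lie.chevE8 reflE8 witE8 bwE8 (k / 240) (k % 240))) = true := by decide +kernel
theorem e8Ubase_2_27132 : allRange 27132 27398 ((fun k => baseOK Cfsg.Lie.chevE8 reflE8 witE8 bwE8 (k / 240) (k % 240))) = true := by decide +kernel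
theorem e8Ubase_2_27398 : allRange 27398 27664 ((fun k => baseOK Cfsg.Lie.chevE8 reflE8 witE8 bwE8 (k / 240) (k % 240))) = true := by decide +kernel
theorem e8Ubase_2_27664 : allRange 27664 27930 ((fun k => baseOK Cfsg.Lie.chevE8 reflE8 witE8 bwE8 (k / 240) (k % 240))) = true := by decide +kernel
theorem e8Ubase_2_27930 : allRange 27930 28196 ((fun k => baseOK Cfsg.Lie.chevE8 reflE8 witE8 bwE8 (k / 240) (k % 240))) = true := by decide +kernel
theorem e8Ubase_2_28196 : allRange 28196 28462 ((fun k => baseOK Cfsg.Lie.chevE8 reflE8 witE8 bwE8 (k / 240) (k % 240))) = true := by decide +kernel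
theorem e8Ubase_2_28462 : allRange 28462 28728 ((fun k => baseOK Cfsg.Lie.chevE8 reflE8 witE8 bwE8 (k / 240) (k % 240))) = true := by decide +kernel
theorem e8Ubase_2_28728 : allRange 28728 28994 ((fun k => baseOK Cfsg.Lie.chevE8 reflE8 witE8 bwE8 (k / 240) (k % 240))) = true := by decide +kernel
theorem e8Ubase_2_28994 : allRange 28994 29260 ((fun k => baseOK Cfsg.Lie.chevE8 reflE8 witE8 bwE8 (k / 240) (k % 240))) = true := by decide +kernel
theorem e8Ubase_2_29260 : allRange 29260 29526 ((fun k => baseOK Cfsg.Lie.chevE8 reflE8 witE8 bwE8 (k / 240) (k % 240))) = true := by decide +kernel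

/-- The pairs of roots of type E8 not reduced by a fundamental reflection (roots 19684 to 29525). -/
theorem e8Ubase_2 : ∀ r, 19684 ≤ r → r < 29526 → ((fun k => baseOK Cfsg.Lie.chevE8 reflE8 witE8 bwE8 (k / 240) (k % 240))) r = true := by
  intro r h1 h2
  by_cases c0 : r < 19950
  · exact allRange_spec e8Ubase_2_19684 r (by omega) c0
  by_cases c1 : r < 20216
  · exact allRange_spec e8Ubase_2_19950 r (by omega) c1
  by_cases c2 : r < 20482
  · exact allRange_spec e8Ubase_2_20216 r (by omega) c2
  by_cases c3 : r < 20748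
  · exact allRange_spec e8Ubase_2_20482 r (by omega) c3
  by_cases c4 : r < 21014
  · exact allRange_spec e8Ubase_2_20748 r (by omega) c4
  by_cases c5 : r < 21280
  · exact allRange_spec e8Ubase_2_21014 r (by omega) c5
  by_cases c6 : r < 21546
  · exact allRange_spec e8Ubase_2_21280 r (by omega) c6
  by_cases c7 : r < 21812
  · exact allRange_spec e8Ubase_2_21546 r (by omega) c7
  by_cases c8 : r < 22078
  · exact allRange_spec e8Ubase_2_21812 r (by omega) c8
  by_cases c9 : r < 22344
  · exact allRange_spec e8Ubase_2_22078 r (by omega) c9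
  by_cases c10 : r < 22610
  · exact allRange_spec e8Ubase_2_22344 r (by omega) c10
  by_cases c11 : r < 22876
  · exact allRange_spec e8Ubase_2_22610 r (by omega) c11
  by_cases c12 : r < 23142
  · exact allRange_spec e8Ubase_2_22876 r (by omega) c12
  by_cases c13 : r < 23408
  · exact allRange_spec e8Ubase_2_23142 r (by omega) c13
  by_cases c14 : r < 23674
  · exact allRange_spec e8Ubase_2_23408 r (by omega) c14
  by_cases c15 : r < 23940
  · exact allRange_spec e8Ubase_2_23674 r (by omega) c15
  by_cases c16 : r < 24206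
  · exact allRange_spec e8Ubase_2_23940 r (by omega) c16
  by_cases c17 : r < 24472
  · exact allRange_spec e8Ubase_2_24206 r (by omega) c17
  by_cases c18 : r < 24738
  · exact allRange_spec e8Ubase_2_24472 r (by omega) c18
  by_cases c19 : r < 25004
  · exact allRange_spec e8Ubase_2_24738 r (by omega) c19
  by_cases c20 : r < 25270
  · exact allRange_spec e8Ubase_2_25004 r (by omega) c20
  by_cases c21 : r < 25536
  · exact allRange_spec e8Ubase_2_25270 r (by omega) c21
  by_cases c22 : r < 25802
  · exact allRange_spec e8Ubase_2_25536 r (by omega) c22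
  by_cases c23 : r < 26068
  · exact allRange_spec e8Ubase_2_25802 r (by omega) c23
  by_cases c24 : r < 26334
  · exact allRange_spec e8Ubase_2_26068 r (by omega) c24
  by_cases c25 : r < 26600
  · exact allRange_spec e8Ubase_2_26334 r (by omega) c25
  by_cases c26 : r < 26866
  · exact allRange_spec e8Ubase_2_26600 r (by omega) c26
  by_cases c27 : r < 27132
  · exact allRange_spec e8Ubase_2_26866 r (by omega) c27
  by_cases c28 : r < 27398
  · exact allRange_spec e8Ubase_2_27132 r (by omega) c28
  by_cases c29 : r < 27664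
  · exact allRange_spec e8Ubase_2_27398 r (by omega) c29
  by_cases c30 : r < 27930
  · exact allRange_spec e8Ubase_2_27664 r (by omega) c30
  by_cases c31 : r < 28196
  · exact allRange_spec e8Ubase_2_27930 r (by omega) c31
  by_cases c32 : r < 28462
  · exact allRange_spec e8Ubase_2_28196 r (by omega) c32
  by_cases c33 : r < 28728
  · exact allRange_spec e8Ubase_2_28462 r (by omega) c33
  by_cases c34 : r < 28994
  · exact allRange_spec e8Ubase_2_28728 r (by omega) c34
  by_cases c35 : r < 29260
  · exact allRange_spec e8Ubase_2_28994 r (by omega) c35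
  exact allRange_spec e8Ubase_2_29260 r (by omega) h2

end Cfsg.Agent.Lib.Helper3.ChevM
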