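import Cfsg.Prelude.Def_ChevE8
import Cfsg.Agent.Lib.Helper3.ChevData.E8Tabs
import Cfsg.Agent.Lib.Helper3.ChevData.E8Wit
import Cfsg.Agent.Lib.Helper3.ChevData.E8Ubw
import Cfsg.Agent.Lib.Helper3.StU10
set_option autoImplicit false
set_option maxRecDepth 1000000
set_option Elab.async false

namespace Cfsg.Agent.Lib.Helper3.ChevM
open Cfsg.Agent.Lib.Helper3.StB Cfsg.Agent.Lib.Helper3.StU

theorem e8Ubase_3_29526 : allRange 29526 29792 ((fun k => baseOK Cfsg.Lie.chevE8 reflE8 witE8 bwE8 (k / 240) (k % 240))) = true := by decide +kernel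
theorem e8Ubase_3_29792 : allRange 29792 30058 ((fun k => baseOK Cfsg.Lie.chevE8 reflE8 witE8 bwE8 (k / 240) (k % 240))) = true := by decide +kernel
theorem e8Ubase_3_30058 : allRange 30058 30324 ((fun k => baseOK Cfsg.Lie.chevE8 reflE8 witE8 bwE8 (k / 240) (k % 240))) = true := by decide +kernel
theorem e8Ubase_3_30324 : allRange 30324 30590 ((fun k => baseOK Cfsg.Lie.chevE8 reflE8 witE8 bwE8 (k / 240) (k % 240))) = true := by decide +kernel
theorem e8Ubase_3_30590 : allRange 30590 30856 ((fun k => baseOK Cfsg.Lie.chevE8 reflE8 witE8 bwE8 (k / 240) (k % 240))) = true := by decide +kernel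
theorem e8Ubase_3_30856 : allRange 30856 31122 ((fun k => baseOK Cfsg.Lie.chevE8 reflE8 witE8 bwE8 (k / 240) (k % 240))) = true := by decide +kernel
theorem e8Ubase_3_31122 : allRange 31122 31388 ((fun k => baseOK Cfsg.Lie.chevE8 reflE8 witE8 bwE8 (k / 240) (k % 240))) = true := by decide +kernel
theorem e8Ubase_3_31388 : allRange 31388 31654 ((fun k => baseOK Cfsg.Lie.chevE8 reflE8 witE8 bwE8 (k / 240) (k % 240))) = true := by decide +kernel
theorem e8Ubase_3_31654 : allRange 31654 31920 ((fun k => baseOK Cfsg.Lie.chevE8 reflE8 witE8 bwE8 (k / 240) (k % 240))) = true := by decide +kernel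
theorem e8Ubase_3_31920 : allRange 31920 32186 ((fun k => baseOK Cfsg.Lie.chevE8 reflE8 witE8 bwE8 (k / 240) (k % 240))) = true := by decide +kernel
theorem e8Ubase_3_32186 : allRange 32186 32452 ((fun k => baseOK Cfsg.Lie.chevE8 reflE8 witE8 bwE8 (k / 240) (k % 240))) = true := by decide +kernel
theorem e8Ubase_3_32452 : allRange 32452 32718 ((fun k => baseOK Cfsg.Lie.chevE8 reflE8 witE8 bwE8 (k / 240) (k % 240))) = true := by decide +kernel
theorem e8Ubase_3_32718 : allRange 32718 32984 ((fun k => baseOK Cfsg.Lie.chevE8 reflE8 witE8 bwE8 (k / 240) (k % 240))) = true := by decide +kernel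
theorem e8Ubase_3_32984 : allRange 32984 33250 ((fun k => baseOK Cfsg.Lie.chevE8 reflE8 witE8 bwE8 (k / 240) (k % 240))) = true := by decide +kernel
theorem e8Ubase_3_33250 : allRange 33250 33516 ((fun k => baseOK Cfsg.Lie.chevE8 reflE8 witE8 bwE8 (k / 240) (k % 240))) = true := by decide +kernel
theorem e8Ubase_3_33516 : allRange 33516 33782 ((fun k => baseOK Cfsg.Lie.chevE8 reflE8 witE8 bwE8 (k / 240) (k % 240))) = true := by decide +kernel
theorem e8Ubase_3_33782 : allRange 33782 34048 ((fun k => baseOK Cfsg.Lie.chevE8 reflE8 witE8 bwE8 (k / 240) (k % 240))) = true := by decide +kernel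
theorem e8Ubase_3_34048 : allRange 34048 34314 ((fun k => baseOK Cfsg.Lie.chevE8 reflE8 witE8 bwE8 (k / 240) (k % 240))) = true := by decide +kernel
theorem e8Ubase_3_34314 : allRange 34314 34580 ((fun k => baseOK Cfsg.Lie.chevE8 reflE8 witE8 bwE8 (k / 240) (k % 240))) = true := by decide +kernel
theorem e8Ubase_3_34580 : allRange 34580 34846 ((fun k => baseOK Cfsg.Lie.chevE8 reflE8 witE8 bwE8 (k / 240) (k % 240))) = true := by decide +kernel
theorem e8Ubase_3_34846 : allRange 34846 35112 ((fun k => baseOK Cfsg.Lie.chevE8 reflE8 witE8 bwE8 (k / 240) (k % 240))) = true := by decide +kernel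
theorem e8Ubase_3_35112 : allRange 35112 35378 ((fun k => baseOK Cfsg.Lie.chevE8 reflE8 witE8 bwE8 (k / 240) (k % 240))) = true := by decide +kernel
theorem e8Ubase_3_35378 : allRange 35378 35644 ((fun k => baseOK Cfsg.Lie.chevE8 reflE8 witE8 bwE8 (k / 240) (k % 240))) = true := by decide +kernel
theorem e8Ubase_3_35644 : allRange 35644 35910 ((fun k => baseOK Cfsg.Lie.chevE8 reflE8 witE8 bwE8 (k / 240) (k % 240))) = true := by decide +kernel
theorem e8Ubase_3_35910 : allRange 35910 36176 ((fun k => baseOK Cfsg.Lie.chevE8 reflE8 witE8 bwE8 (k / 240) (k % 240))) = true := by decide +kernel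
theorem e8Ubase_3_36176 : allRange 36176 36442 ((fun k => baseOK Cfsg.Lie.chevE8 reflE8 witE8 bwE8 (k / 240) (k % 240))) = true := by decide +kernel
theorem e8Ubase_3_36442 : allRange 36442 36708 ((fun k => baseOK Cfsg.Lie.chevE8 reflE8 witE8 bwE8 (k / 240) (k % 240))) = true := by decide +kernel
theorem e8Ubase_3_36708 : allRange 36708 36974 ((fun k => baseOK Cfsg.Lie.chevE8 reflE8 witE8 bwE8 (k / 240) (k % 240))) = true := by decide +kernel
theorem e8Ubase_3_36974 : allRange 36974 37240 ((fun k => baseOK Cfsg.Lie.chevE8 reflE8 witE8 bwE8 (k / 240) (k % 240))) = true := by decide +kernel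
theorem e8Ubase_3_37240 : allRange 37240 37506 ((fun k => baseOK Cfsg.Lie.chevE8 reflE8 witE8 bwE8 (k / 240) (k % 240))) = true := by decide +kernel
theorem e8Ubase_3_37506 : allRange 37506 37772 ((fun k => baseOK Cfsg.Lie.chevE8 reflE8 witE8 bwE8 (k / 240) (k % 240))) = true := by decide +kernel
theorem e8Ubase_3_37772 : allRange 37772 38038 ((fun k => baseOK Cfsg.Lie.chevE8 reflE8 witE8 bwE8 (k / 240) (k % 240))) = true := by decide +kernel
theorem e8Ubase_3_38038 : allRange 38038 38304 ((fun k => baseOK Cfsg.Lie.chevE8 reflE8 witE8 bwE8 (k / 240) (k % 240))) = true := by decide +kernel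
theorem e8Ubase_3_38304 : allRange 38304 38570 ((fun k => baseOK Cfsg.Lie.chevE8 reflE8 witE8 bwE8 (k / 240) (k % 240))) = true := by decide +kernel
theorem e8Ubase_3_38570 : allRange 38570 38836 ((fun k => baseOK Cfsg.Lie.chevE8 reflE8 witE8 bwE8 (k / 240) (k % 240))) = true := by decide +kernel
theorem e8Ubase_3_38836 : allRange 38836 39102 ((fun k => baseOK Cfsg.Lie.chevE8 reflE8 witE8 bwE8 (k / 240) (k % 240))) = true := by decide +kernel
theorem e8Ubase_3_39102 : allRange 39102 39368 ((fun k => baseOK Cfsg.Lie.chevE8 reflE8 witE8 bwE8 (k / 240) (k % 240))) = true := by decide +kernel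

/-- The pairs of roots of type E8 not reduced by a fundamental reflection (roots 29526 to 39367). -/
theorem e8Ubase_3 : ∀ r, 29526 ≤ r → r < 39368 → ((fun k => baseOK Cfsg.Lie.chevE8 reflE8 witE8 bwE8 (k / 240) (k % 240))) r = true := by
  intro r h1 h2
  by_cases c0 : r < 29792
  · exact allRange_spec e8Ubase_3_29526 r (by omega) c0
  by_cases c1 : r < 30058
  · exact allRange_spec e8Ubase_3_29792 r (by omega) c1
  by_cases c2 : r < 30324
  · exact allRange_spec e8Ubase_3_30058 r (by omega) c2
  by_cases c3 : r < 30590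
  · exact allRange_spec e8Ubase_3_30324 r (by omega) c3
  by_cases c4 : r < 30856
  · exact allRange_spec e8Ubase_3_30590 r (by omega) c4
  by_cases c5 : r < 31122
  · exact allRange_spec e8Ubase_3_30856 r (by omega) c5
  by_cases c6 : r < 31388
  · exact allRange_spec e8Ubase_3_31122 r (by omega) c6
  by_cases c7 : r < 31654
  · exact allRange_spec e8Ubase_3_31388 r (by omega) c7
  by_cases c8 : r < 31920
  · exact allRange_spec e8Ubase_3_31654 r (by omega) c8
  by_cases c9 : r < 32186
  · exact allRange_spec e8Ubase_3_31920 r (by omega) c9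
  by_cases c10 : r < 32452
  · exact allRange_spec e8Ubase_3_32186 r (by omega) c10
  by_cases c11 : r < 32718
  · exact allRange_spec e8Ubase_3_32452 r (by omega) c11
  by_cases c12 : r < 32984
  · exact allRange_spec e8Ubase_3_32718 r (by omega) c12
  by_cases c13 : r < 33250
  · exact allRange_spec e8Ubase_3_32984 r (by omega) c13
  by_cases c14 : r < 33516
  · exact allRange_spec e8Ubase_3_33250 r (by omega) c14
  by_cases c15 : r < 33782
  · exact allRange_spec e8Ubase_3_33516 r (by omega) c15
  by_cases c16 : r < 34048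
  · exact allRange_spec e8Ubase_3_33782 r (by omega) c16
  by_cases c17 : r < 34314
  · exact allRange_spec e8Ubase_3_34048 r (by omega) c17
  by_cases c18 : r < 34580
  · exact allRange_spec e8Ubase_3_34314 r (by omega) c18
  by_cases c19 : r < 34846
  · exact allRange_spec e8Ubase_3_34580 r (by omega) c19
  by_cases c20 : r < 35112
  · exact allRange_spec e8Ubase_3_34846 r (by omega) c20
  by_cases c21 : r < 35378
  · exact allRange_spec e8Ubase_3_35112 r (by omega) c21
  by_cases c22 : r < 35644
  · exact allRange_spec e8Ubase_3_35378 r (by omega) c22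
  by_cases c23 : r < 35910
  · exact allRange_spec e8Ubase_3_35644 r (by omega) c23
  by_cases c24 : r < 36176
  · exact allRange_spec e8Ubase_3_35910 r (by omega) c24
  by_cases c25 : r < 36442
  · exact allRange_spec e8Ubase_3_36176 r (by omega) c25
  by_cases c26 : r < 36708
  · exact allRange_spec e8Ubase_3_36442 r (by omega) c26
  by_cases c27 : r < 36974
  · exact allRange_spec e8Ubase_3_36708 r (by omega) c27
  by_cases c28 : r < 37240
  · exact allRange_spec e8Ubase_3_36974 r (by omega) c28
  by_cases c29 : r < 37506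
  · exact allRange_spec e8Ubase_3_37240 r (by omega) c29
  by_cases c30 : r < 37772
  · exact allRange_spec e8Ubase_3_37506 r (by omega) c30
  by_cases c31 : r < 38038
  · exact allRange_spec e8Ubase_3_37772 r (by omega) c31
  by_cases c32 : r < 38304
  · exact allRange_spec e8Ubase_3_38038 r (by omega) c32
  by_cases c33 : r < 38570
  · exact allRange_spec e8Ubase_3_38304 r (by omega) c33
  by_cases c34 : r < 38836
  · exact allRange_spec e8Ubase_3_38570 r (by omega) c34
  by_cases c35 : r < 39102
  · exact allRange_spec e8Ubase_3_38836 r (by omega) c35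
  exact allRange_spec e8Ubase_3_39102 r (by omega) h2

end Cfsg.Agent.Lib.Helper3.ChevM
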