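import Cfsg.Prelude.Def_ChevE8
import Cfsg.Agent.Lib.Helper3.ChevData.E8Tabs
import Cfsg.Agent.Lib.Helper3.ChevData.E8Wit
import Cfsg.Agent.Lib.Helper3.ChevData.E8Ubw
import Cfsg.Agent.Lib.Helper3.StU10
set_option autoImplicit false
set_option maxRecDepth 1000000
set_option Elab.async false

namespace Cfsg.Agent.Lib.Helper3.ChevM
open Cfsg.Agent.Lib.Helper3.StB Cfsg.Agent.Lib.Helper3.StU

theorem e8Ubase_4_39368 : allRange 39368 39634 ((fun k => baseOK Cfsg.Lie.chevE8 reflE8 witE8 bwE8 (k / 240) (k % 240))) = true := by decide +kernel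
theorem e8Ubase_4_39634 : allRange 39634 39900 ((fun k => baseOK Cfsg.Lie.chevE8 reflE8 witE8 bwE8 (k / 240) (k % 240))) = true := by decide +kernel
theorem e8Ubase_4_39900 : allRange 39900 40166 ((fun k => baseOK Cfsg.Lie.chevE8 reflE8 witE8 bwE8 (k / 240) (k % 240))) = true := by decide +kernel
theorem e8Ubase_4_40166 : allRange 40166 40432 ((fun k => baseOK Cfsg.Lie.chevE8 reflE8 witE8 bwE8 (k / 240) (k % 240))) = true := by decide +kernel
theorem e8Ubase_4_40432 : allRange 40432 40698 ((fun k => baseOK Cfsg.Lie.chevE8 reflE8 witE8 bwE8 (k / 240) (k % 240))) = true := by decide +kernel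
theorem e8Ubase_4_40698 : allRange 40698 40964 ((fun k => baseOK Cfsg.Lie.chevE8 reflE8 witE8 bwE8 (k / 240) (k % 240))) = true := by decide +kernel
theorem e8Ubase_4_40964 : allRange 40964 41230 ((fun k => baseOK Cfsg.Lie.chevE8 reflE8 witE8 bwE8 (k / 240) (k % 240))) = true := by decide +kernel
theorem e8Ubase_4_41230 : allRange 41230 41496 ((fun k => baseOK Cfsg.Lie.chevE8 reflE8 witE8 bwE8 (k / 240) (k % 240))) = true := by decide +kernel
theorem e8Ubase_4_41496 : allRange 41496 41762 ((fun k => baseOK Cfsg.Lie.chevE8 reflE8 witE8 bwE8 (k / 240) (k % 240))) = true := by decide +kernel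
theorem e8Ubase_4_41762 : allRange 41762 42028 ((fun k => baseOK Cfsg.Lie.chevE8 reflE8 witE8 bwE8 (k / 240) (k % 240))) = true := by decide +kernel
theorem e8Ubase_4_42028 : allRange 42028 42294 ((fun k => baseOK Cfsg.Lie.chevE8 reflE8 witE8 bwE8 (k / 240) (k % 240))) = true := by decide +kernel
theorem e8Ubase_4_42294 : allRange 42294 42560 ((fun k => baseOK Cfsg.Lie.chevE8 reflE8 witE8 bwE8 (k / 240) (k % 240))) = true := by decide +kernel
theorem e8Ubase_4_42560 : allRange 42560 42826 ((fun k => baseOK Cfsg.Lie.chevE8 reflE8 witE8 bwE8 (k / 240) (k % 240))) = true := by decide +kernel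
theorem e8Ubase_4_42826 : allRange 42826 43092 ((fun k => baseOK Cfsg.Lie.chevE8 reflE8 witE8 bwE8 (k / 240) (k % 240))) = true := by decide +kernel
theorem e8Ubase_4_43092 : allRange 43092 43358 ((fun k => baseOK Cfsg.Lie.chevE8 reflE8 witE8 bwE8 (k / 240) (k % 240))) = true := by decide +kernel
theorem e8Ubase_4_43358 : allRange 43358 43624 ((fun k => baseOK Cfsg.Lie.chevE8 reflE8 witE8 bwE8 (k / 240) (k % 240))) = true := by decide +kernel
theorem e8Ubase_4_43624 : allRange 43624 43890 ((fun k => baseOK Cfsg.Lie.chevE8 reflE8 witE8 bwE8 (k / 240) (k % 240))) = true := by decide +kernel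
theorem e8Ubase_4_43890 : allRange 43890 44156 ((fun k => baseOK Cfsg.Lie.chevE8 reflE8 witE8 bwE8 (k / 240) (k % 240))) = true := by decide +kernel
theorem e8Ubase_4_44156 : allRange 44156 44422 ((fun k => baseOK Cfsg.Lie.chevE8 reflE8 witE8 bwE8 (k / 240) (k % 240))) = true := by decide +kernel
theorem e8Ubase_4_44422 : allRange 44422 44688 ((fun k => baseOK Cfsg.Lie.chevE8 reflE8 witE8 bwE8 (k / 240) (k % 240))) = true := by decide +kernel
theorem e8Ubase_4_44688 : allRange 44688 44954 ((fun k => baseOK Cfsg.Lie.chevE8 reflE8 witE8 bwE8 (k / 240) (k % 240))) = true := by decide +kernel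
theorem e8Ubase_4_44954 : allRange 44954 45220 ((fun k => baseOK Cfsg.Lie.chevE8 reflE8 witE8 bwE8 (k / 240) (k % 240))) = true := by decide +kernel
theorem e8Ubase_4_45220 : allRange 45220 45486 ((fun k => baseOK Cfsg.Lie.chevE8 reflE8 witE8 bwE8 (k / 240) (k % 240))) = true := by decide +kernel
theorem e8Ubase_4_45486 : allRange 45486 45752 ((fun k => baseOK Cfsg.Lie.chevE8 reflE8 witE8 bwE8 (k / 240) (k % 240))) = true := by decide +kernel
theorem e8Ubase_4_45752 : allRange 45752 46018 ((fun k => baseOK Cfsg.Lie.chevE8 reflE8 witE8 bwE8 (k / 240) (k % 240))) = true := by decide +kernel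
theorem e8Ubase_4_46018 : allRange 46018 46284 ((fun k => baseOK Cfsg.Lie.chevE8 reflE8 witE8 bwE8 (k / 240) (k % 240))) = true := by decide +kernel
theorem e8Ubase_4_46284 : allRange 46284 46550 ((fun k => baseOK Cfsg.Lie.chevE8 reflE8 witE8 bwE8 (k / 240) (k % 240))) = true := by decide +kernel
theorem e8Ubase_4_46550 : allRange 46550 46816 ((fun k => baseOK Cfsg.Lie.chevE8 reflE8 witE8 bwE8 (k / 240) (k % 240))) = true := by decide +kernel
theorem e8Ubase_4_46816 : allRange 46816 47082 ((fun k => baseOK Cfsg.Lie.chevE8 reflE8 witE8 bwE8 (k / 240) (k % 240))) = true := by decide +kernel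
theorem e8Ubase_4_47082 : allRange 47082 47348 ((fun k => baseOK Cfsg.Lie.chevE8 reflE8 witE8 bwE8 (k / 240) (k % 240))) = true := by decide +kernel
theorem e8Ubase_4_47348 : allRange 47348 47614 ((fun k => baseOK Cfsg.Lie.chevE8 reflE8 witE8 bwE8 (k / 240) (k % 240))) = true := by decide +kernel
theorem e8Ubase_4_47614 : allRange 47614 47880 ((fun k => baseOK Cfsg.Lie.chevE8 reflE8 witE8 bwE8 (k / 240) (k % 240))) = true := by decide +kernel
theorem e8Ubase_4_47880 : allRange 47880 48146 ((fun k => baseOK Cfsg.Lie.chevE8 reflE8 witE8 bwE8 (k / 240) (k % 240))) = true := by decide +kernel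
theorem e8Ubase_4_48146 : allRange 48146 48412 ((fun k => baseOK Cfsg.Lie.chevE8 reflE8 witE8 bwE8 (k / 240) (k % 240))) = true := by decide +kernel
theorem e8Ubase_4_48412 : allRange 48412 48678 ((fun k => baseOK Cfsg.Lie.chevE8 reflE8 witE8 bwE8 (k / 240) (k % 240))) = true := by decide +kernel
theorem e8Ubase_4_48678 : allRange 48678 48944 ((fun k => baseOK Cfsg.Lie.chevE8 reflE8 witE8 bwE8 (k / 240) (k % 240))) = true := by decide +kernel
theorem e8Ubase_4_48944 : allRange 48944 49210 ((fun k => baseOK Cfsg.Lie.chevE8 reflE8 witE8 bwE8 (k / 240) (k % 240))) = true := by decide +kernel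

/-- The pairs of roots of type E8 not reduced by a fundamental reflection (roots 39368 to 49209). -/
theorem e8Ubase_4 : ∀ r, 39368 ≤ r → r < 49210 → ((fun k => baseOK Cfsg.Lie.chevE8 reflE8 witE8 bwE8 (k / 240) (k % 240))) r = true := by
  intro r h1 h2
  by_cases c0 : r < 39634
  · exact allRange_spec e8Ubase_4_39368 r (by omega) c0
  by_cases c1 : r < 39900
  · exact allRange_spec e8Ubase_4_39634 r (by omega) c1
  by_cases c2 : r < 40166
  · exact allRange_spec e8Ubase_4_39900 r (by omega) c2
  by_cases c3 : r < 40432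
  · exact allRange_spec e8Ubase_4_40166 r (by omega) c3
  by_cases c4 : r < 40698
  · exact allRange_spec e8Ubase_4_40432 r (by omega) c4
  by_cases c5 : r < 40964
  · exact allRange_spec e8Ubase_4_40698 r (by omega) c5
  by_cases c6 : r < 41230
  · exact allRange_spec e8Ubase_4_40964 r (by omega) c6
  by_cases c7 : r < 41496
  · exact allRange_spec e8Ubase_4_41230 r (by omega) c7
  by_cases c8 : r < 41762
  · exact allRange_spec e8Ubase_4_41496 r (by omega) c8
  by_cases c9 : r < 42028
  · exact allRange_spec e8Ubase_4_41762 r (by omega) c9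
  by_cases c10 : r < 42294
  · exact allRange_spec e8Ubase_4_42028 r (by omega) c10
  by_cases c11 : r < 42560
  · exact allRange_spec e8Ubase_4_42294 r (by omega) c11
  by_cases c12 : r < 42826
  · exact allRange_spec e8Ubase_4_42560 r (by omega) c12
  by_cases c13 : r < 43092
  · exact allRange_spec e8Ubase_4_42826 r (by omega) c13
  by_cases c14 : r < 43358
  · exact allRange_spec e8Ubase_4_43092 r (by omega) c14
  by_cases c15 : r < 43624
  · exact allRange_spec e8Ubase_4_43358 r (by omega) c15
  by_cases c16 : r < 43890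
  · exact allRange_spec e8Ubase_4_43624 r (by omega) c16
  by_cases c17 : r < 44156
  · exact allRange_spec e8Ubase_4_43890 r (by omega) c17
  by_cases c18 : r < 44422
  · exact allRange_spec e8Ubase_4_44156 r (by omega) c18
  by_cases c19 : r < 44688
  · exact allRange_spec e8Ubase_4_44422 r (by omega) c19
  by_cases c20 : r < 44954
  · exact allRange_spec e8Ubase_4_44688 r (by omega) c20
  by_cases c21 : r < 45220
  · exact allRange_spec e8Ubase_4_44954 r (by omega) c21
  by_cases c22 : r < 45486
  · exact allRange_spec e8Ubase_4_45220 r (by omega) c22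
  by_cases c23 : r < 45752
  · exact allRange_spec e8Ubase_4_45486 r (by omega) c23
  by_cases c24 : r < 46018
  · exact allRange_spec e8Ubase_4_45752 r (by omega) c24
  by_cases c25 : r < 46284
  · exact allRange_spec e8Ubase_4_46018 r (by omega) c25
  by_cases c26 : r < 46550
  · exact allRange_spec e8Ubase_4_46284 r (by omega) c26
  by_cases c27 : r < 46816
  · exact allRange_spec e8Ubase_4_46550 r (by omega) c27
  by_cases c28 : r < 47082
  · exact allRange_spec e8Ubase_4_46816 r (by omega) c28
  by_cases c29 : r < 47348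
  · exact allRange_spec e8Ubase_4_47082 r (by omega) c29
  by_cases c30 : r < 47614
  · exact allRange_spec e8Ubase_4_47348 r (by omega) c30
  by_cases c31 : r < 47880
  · exact allRange_spec e8Ubase_4_47614 r (by omega) c31
  by_cases c32 : r < 48146
  · exact allRange_spec e8Ubase_4_47880 r (by omega) c32
  by_cases c33 : r < 48412
  · exact allRange_spec e8Ubase_4_48146 r (by omega) c33
  by_cases c34 : r < 48678
  · exact allRange_spec e8Ubase_4_48412 r (by omega) c34
  by_cases c35 : r < 48944
  · exact allRange_spec e8Ubase_4_48678 r (by omega) c35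
  exact allRange_spec e8Ubase_4_48944 r (by omega) h2

end Cfsg.Agent.Lib.Helper3.ChevM
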