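import Cfsg.Prelude.Def_ChevE8
import Cfsg.Agent.Lib.Helper3.ChevData.E8Tabs
import Cfsg.Agent.Lib.Helper3.ChevData.E8Wit
import Cfsg.Agent.Lib.Helper3.ChevData.E8Ubw
import Cfsg.Agent.Lib.Helper3.StU10
set_option autoImplicit false
set_option maxRecDepth 1000000
set_option Elab.async false

namespace Cfsg.Agent.Lib.Helper3.ChevM
open Cfsg.Agent.Lib.Helper3.StB Cfsg.Agent.Lib.Helper3.StU

theorem e8Ubase_5_49210 : allRange 49210 49476 ((fun k => baseOK Cfsg.Lie.chevE8 reflE8 witE8 bwE8 (k / 240) (k % 240))) = true := by decide +kernel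
theorem e8Ubase_5_49476 : allRange 49476 49742 ((fun k => baseOK Cfsg.Lie.chevE8 reflE8 witE8 bwE8 (k / 240) (k % 240))) = true := by decide +kernel
theorem e8Ubase_5_49742 : allRange 49742 50008 ((fun k => baseOK Cfsg.Lie.chevE8 reflE8 witE8 bwE8 (k / 240) (k % 240))) = true := by decide +kernel
theorem e8Ubase_5_50008 : allRange 50008 50274 ((fun k => baseOK Cfsg.Lie.chevE8 reflE8 witE8 bwE8 (k / 240) (k % 240))) = true := by decide +kernel
theorem e8Ubase_5_50274 : allRange 50274 50540 ((fun k => baseOK Cfsg.Lie.chevE8 reflE8 witE8 bwE8 (k / 240) (k % 240))) = true := by decide +kernel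
theorem e8Ubase_5_50540 : allRange 50540 50806 ((fun k => baseOK Cfsg.Lie.chevE8 reflE8 witE8 bwE8 (k / 240) (k % 240))) = true := by decide +kernel
theorem e8Ubase_5_50806 : allRange 50806 51072 ((fun k => baseOK Cfsg.Lie.chevE8 reflE8 witE8 bwE8 (k / 240) (k % 240))) = true := by decide +kernel
theorem e8Ubase_5_51072 : allRange 51072 51338 ((fun k => baseOK Cfsg.Lie.chevE8 reflE8 witE8 bwE8 (k / 240) (k % 240))) = true := by decide +kernel
theorem e8Ubase_5_51338 : allRange 51338 51604 ((fun k => baseOK Cfsg.Lie.chevE8 reflE8 witE8 bwE8 (k / 240) (k % 240))) = true := by decide +kernel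
theorem e8Ubase_5_51604 : allRange 51604 51870 ((fun k => baseOK Cfsg.Lie.chevE8 reflE8 witE8 bwE8 (k / 240) (k % 240))) = true := by decide +kernel
theorem e8Ubase_5_51870 : allRange 51870 52136 ((fun k => baseOK Cfsg.Lie.chevE8 reflE8 witE8 bwE8 (k / 240) (k % 240))) = true := by decide +kernel
theorem e8Ubase_5_52136 : allRange 52136 52402 ((fun k => baseOK Cfsg.Lie.chevE8 reflE8 witE8 bwE8 (k / 240) (k % 240))) = true := by decide +kernel
theorem e8Ubase_5_52402 : allRange 52402 52668 ((fun k => baseOK Cfsg.Lie.chevE8 reflE8 witE8 bwE8 (k / 240) (k % 240))) = true := by decide +kernel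
theorem e8Ubase_5_52668 : allRange 52668 52934 ((fun k => baseOK Cfsg.Lie.chevE8 reflE8 witE8 bwE8 (k / 240) (k % 240))) = true := by decide +kernel
theorem e8Ubase_5_52934 : allRange 52934 53200 ((fun k => baseOK Cfsg.Lie.chevE8 reflE8 witE8 bwE8 (k / 240) (k % 240))) = true := by decide +kernel
theorem e8Ubase_5_53200 : allRange 53200 53466 ((fun k => baseOK Cfsg.Lie.chevE8 reflE8 witE8 bwE8 (k / 240) (k % 240))) = true := by decide +kernel
theorem e8Ubase_5_53466 : allRange 53466 53732 ((fun k => baseOK Cfsg.Lie.chevE8 reflE8 witE8 bwE8 (k / 240) (k % 240))) = true := by decide +kernel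
theorem e8Ubase_5_53732 : allRange 53732 53998 ((fun k => baseOK Cfsg.Lie.chevE8 reflE8 witE8 bwE8 (k / 240) (k % 240))) = true := by decide +kernel
theorem e8Ubase_5_53998 : allRange 53998 54264 ((fun k => baseOK Cfsg.Lie.chevE8 reflE8 witE8 bwE8 (k / 240) (k % 240))) = true := by decide +kernel
theorem e8Ubase_5_54264 : allRange 54264 54530 ((fun k => baseOK Cfsg.Lie.chevE8 reflE8 witE8 bwE8 (k / 240) (k % 240))) = true := by decide +kernel
theorem e8Ubase_5_54530 : allRange 54530 54796 ((fun k => baseOK Cfsg.Lie.chevE8 reflE8 witE8 bwE8 (k / 240) (k % 240))) = true := by decide +kernel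
theorem e8Ubase_5_54796 : allRange 54796 55062 ((fun k => baseOK Cfsg.Lie.chevE8 reflE8 witE8 bwE8 (k / 240) (k % 240))) = true := by decide +kernel
theorem e8Ubase_5_55062 : allRange 55062 55328 ((fun k => baseOK Cfsg.Lie.chevE8 reflE8 witE8 bwE8 (k / 240) (k % 240))) = true := by decide +kernel
theorem e8Ubase_5_55328 : allRange 55328 55594 ((fun k => baseOK Cfsg.Lie.chevE8 reflE8 witE8 bwE8 (k / 240) (k % 240))) = true := by decide +kernel
theorem e8Ubase_5_55594 : allRange 55594 55860 ((fun k => baseOK Cfsg.Lie.chevE8 reflE8 witE8 bwE8 (k / 240) (k % 240))) = true := by decide +kernel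
theorem e8Ubase_5_55860 : allRange 55860 56126 ((fun k => baseOK Cfsg.Lie.chevE8 reflE8 witE8 bwE8 (k / 240) (k % 240))) = true := by decide +kernel
theorem e8Ubase_5_56126 : allRange 56126 56392 ((fun k => baseOK Cfsg.Lie.chevE8 reflE8 witE8 bwE8 (k / 240) (k % 240))) = true := by decide +kernel
theorem e8Ubase_5_56392 : allRange 56392 56658 ((fun k => baseOK Cfsg.Lie.chevE8 reflE8 witE8 bwE8 (k / 240) (k % 240))) = true := by decide +kernel
theorem e8Ubase_5_56658 : allRange 56658 56924 ((fun k => baseOK Cfsg.Lie.chevE8 reflE8 witE8 bwE8 (k / 240) (k % 240))) = true := by decide +kernel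
theorem e8Ubase_5_56924 : allRange 56924 57190 ((fun k => baseOK Cfsg.Lie.chevE8 reflE8 witE8 bwE8 (k / 240) (k % 240))) = true := by decide +kernel
theorem e8Ubase_5_57190 : allRange 57190 57456 ((fun k => baseOK Cfsg.Lie.chevE8 reflE8 witE8 bwE8 (k / 240) (k % 240))) = true := by decide +kernel
theorem e8Ubase_5_57456 : allRange 57456 57600 ((fun k => baseOK Cfsg.Lie.chevE8 reflE8 witE8 bwE8 (k / 240) (k % 240))) = true := by decide +kernel

/-- The pairs of roots of type E8 not reduced by a fundamental reflection (roots 49210 to 57599). -/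
theorem e8Ubase_5 : ∀ r, 49210 ≤ r → r < 57600 → ((fun k => baseOK Cfsg.Lie.chevE8 reflE8 witE8 bwE8 (k / 240) (k % 240))) r = true := by
  intro r h1 h2
  by_cases c0 : r < 49476
  · exact allRange_spec e8Ubase_5_49210 r (by omega) c0
  by_cases c1 : r < 49742
  · exact allRange_spec e8Ubase_5_49476 r (by omega) c1
  by_cases c2 : r < 50008
  · exact allRange_spec e8Ubase_5_49742 r (by omega) c2
  by_cases c3 : r < 50274
  · exact allRange_spec e8Ubase_5_50008 r (by omega) c3
  by_cases c4 : r < 50540
  · exact allRange_spec e8Ubase_5_50274 r (by omega) c4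
  by_cases c5 : r < 50806
  · exact allRange_spec e8Ubase_5_50540 r (by omega) c5
  by_cases c6 : r < 51072
  · exact allRange_spec e8Ubase_5_50806 r (by omega) c6
  by_cases c7 : r < 51338
  · exact allRange_spec e8Ubase_5_51072 r (by omega) c7
  by_cases c8 : r < 51604
  · exact allRange_spec e8Ubase_5_51338 r (by omega) c8
  by_cases c9 : r < 51870
  · exact allRange_spec e8Ubase_5_51604 r (by omega) c9
  by_cases c10 : r < 52136
  · exact allRange_spec e8Ubase_5_51870 r (by omega) c10
  by_cases c11 : r < 52402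
  · exact allRange_spec e8Ubase_5_52136 r (by omega) c11
  by_cases c12 : r < 52668
  · exact allRange_spec e8Ubase_5_52402 r (by omega) c12
  by_cases c13 : r < 52934
  · exact allRange_spec e8Ubase_5_52668 r (by omega) c13
  by_cases c14 : r < 53200
  · exact allRange_spec e8Ubase_5_52934 r (by omega) c14
  by_cases c15 : r < 53466
  · exact allRange_spec e8Ubase_5_53200 r (by omega) c15
  by_cases c16 : r < 53732
  · exact allRange_spec e8Ubase_5_53466 r (by omega) c16
  by_cases c17 : r < 53998
  · exact allRange_spec e8Ubase_5_53732 r (by omega) c17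
  by_cases c18 : r < 54264
  · exact allRange_spec e8Ubase_5_53998 r (by omega) c18
  by_cases c19 : r < 54530
  · exact allRange_spec e8Ubase_5_54264 r (by omega) c19
  by_cases c20 : r < 54796
  · exact allRange_spec e8Ubase_5_54530 r (by omega) c20
  by_cases c21 : r < 55062
  · exact allRange_spec e8Ubase_5_54796 r (by omega) c21
  by_cases c22 : r < 55328
  · exact allRange_spec e8Ubase_5_55062 r (by omega) c22
  by_cases c23 : r < 55594
  · exact allRange_spec e8Ubase_5_55328 r (by omega) c23
  by_cases c24 : r < 55860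
  · exact allRange_spec e8Ubase_5_55594 r (by omega) c24
  by_cases c25 : r < 56126
  · exact allRange_spec e8Ubase_5_55860 r (by omega) c25
  by_cases c26 : r < 56392
  · exact allRange_spec e8Ubase_5_56126 r (by omega) c26
  by_cases c27 : r < 56658
  · exact allRange_spec e8Ubase_5_56392 r (by omega) c27
  by_cases c28 : r < 56924
  · exact allRange_spec e8Ubase_5_56658 r (by omega) c28
  by_cases c29 : r < 57190
  · exact allRange_spec e8Ubase_5_56924 r (by omega) c29
  by_cases c30 : r < 57456
  · exact allRange_spec e8Ubase_5_57190 r (by omega) c30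
  exact allRange_spec e8Ubase_5_57456 r (by omega) h2

end Cfsg.Agent.Lib.Helper3.ChevM
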