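import Cfsg.Agent.Lib.Helper3.ChevData.E8UbaseA
import Cfsg.Agent.Lib.Helper3.ChevData.E8UbaseB
import Cfsg.Agent.Lib.Helper3.ChevData.E8UbaseC
import Cfsg.Agent.Lib.Helper3.ChevData.E8UbaseD
import Cfsg.Agent.Lib.Helper3.ChevData.E8UbaseE
import Cfsg.Agent.Lib.Helper3.ChevData.E8UbaseF
set_option autoImplicit false

namespace Cfsg.Agent.Lib.Helper3.ChevM
open Cfsg.Agent.Lib.Helper3.StB Cfsg.Agent.Lib.Helper3.StU

/-- The pairs of roots of type E8 not reduced by a fundamental reflection. -/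
theorem e8Ubase : ∀ r < 57600, ((fun k => baseOK Cfsg.Lie.chevE8 reflE8 witE8 bwE8 (k / 240) (k % 240))) r = true := by
  intro r hr
  by_cases h0 : r < 9842
  · exact e8Ubase_0 r (by omega) h0
  by_cases h1 : r < 19684
  · exact e8Ubase_1 r (by omega) h1
  by_cases h2 : r < 29526
  · exact e8Ubase_2 r (by omega) h2
  by_cases h3 : r < 39368
  · exact e8Ubase_3 r (by omega) h3
  by_cases h4 : r < 49210
  · exact e8Ubase_4 r (by omega) h4
  exact e8Ubase_5 r (by omega) hr

end Cfsg.Agent.Lib.Helper3.ChevM
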