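import Cfsg.Prelude.Def_ChevE8
import Cfsg.Agent.Lib.Helper3.ChevData.E8Uni
import Cfsg.Agent.Lib.Helper3.ChevU3
set_option autoImplicit false
set_option maxRecDepth 1000000
set_option Elab.async false

namespace Cfsg.Agent.Lib.Helper3.ChevM

theorem e8Ucol_10_20350 : allRange 20350 20405 ((fun k => collectCheck Cfsg.Lie.chevE8 hposE8 (k / 240) (k % 240))) = true := by decide +kernel
theorem e8Ucol_10_20405 : allRange 20405 20460 ((fun k => collectCheck Cfsg.Lie.chevE8 hposE8 (k / 240) (k % 240))) = true := by decide +kernel
theorem e8Ucol_10_20460 : allRange 20460 20515 ((fun k => collectCheck Cfsg.Lie.chevE8 hposE8 (k / 240) (k % 240))) = true := by decide +kernel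
theorem e8Ucol_10_20515 : allRange 20515 20570 ((fun k => collectCheck Cfsg.Lie.chevE8 hposE8 (k / 240) (k % 240))) = true := by decide +kernel
theorem e8Ucol_10_20570 : allRange 20570 20625 ((fun k => collectCheck Cfsg.Lie.chevE8 hposE8 (k / 240) (k % 240))) = true := by decide +kernel
theorem e8Ucol_10_20625 : allRange 20625 20680 ((fun k => collectCheck Cfsg.Lie.chevE8 hposE8 (k / 240) (k % 240))) = true := by decide +kernel
theorem e8Ucol_10_20680 : allRange 20680 20735 ((fun k => collectCheck Cfsg.Lie.chevE8 hposE8 (k / 240) (k % 240))) = true := by decide +kernel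
theorem e8Ucol_10_20735 : allRange 20735 20790 ((fun k => collectCheck Cfsg.Lie.chevE8 hposE8 (k / 240) (k % 240))) = true := by decide +kernel
theorem e8Ucol_10_20790 : allRange 20790 20845 ((fun k => collectCheck Cfsg.Lie.chevE8 hposE8 (k / 240) (k % 240))) = true := by decide +kernel
theorem e8Ucol_10_20845 : allRange 20845 20900 ((fun k => collectCheck Cfsg.Lie.chevE8 hposE8 (k / 240) (k % 240))) = true := by decide +kernel
theorem e8Ucol_10_20900 : allRange 20900 20955 ((fun k => collectCheck Cfsg.Lie.chevE8 hposE8 (k / 240) (k % 240))) = true := by decide +kernel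
theorem e8Ucol_10_20955 : allRange 20955 21010 ((fun k => collectCheck Cfsg.Lie.chevE8 hposE8 (k / 240) (k % 240))) = true := by decide +kernel
theorem e8Ucol_10_21010 : allRange 21010 21065 ((fun k => collectCheck Cfsg.Lie.chevE8 hposE8 (k / 240) (k % 240))) = true := by decide +kernel
theorem e8Ucol_10_21065 : allRange 21065 21120 ((fun k => collectCheck Cfsg.Lie.chevE8 hposE8 (k / 240) (k % 240))) = true := by decide +kernel
theorem e8Ucol_10_21120 : allRange 21120 21175 ((fun k => collectCheck Cfsg.Lie.chevE8 hposE8 (k / 240) (k % 240))) = true := by decide +kernel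
theorem e8Ucol_10_21175 : allRange 21175 21230 ((fun k => collectCheck Cfsg.Lie.chevE8 hposE8 (k / 240) (k % 240))) = true := by decide +kernel
theorem e8Ucol_10_21230 : allRange 21230 21285 ((fun k => collectCheck Cfsg.Lie.chevE8 hposE8 (k / 240) (k % 240))) = true := by decide +kernel
theorem e8Ucol_10_21285 : allRange 21285 21340 ((fun k => collectCheck Cfsg.Lie.chevE8 hposE8 (k / 240) (k % 240))) = true := by decide +kernel
theorem e8Ucol_10_21340 : allRange 21340 21395 ((fun k => collectCheck Cfsg.Lie.chevE8 hposE8 (k / 240) (k % 240))) = true := by decide +kernel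
theorem e8Ucol_10_21395 : allRange 21395 21450 ((fun k => collectCheck Cfsg.Lie.chevE8 hposE8 (k / 240) (k % 240))) = true := by decide +kernel
theorem e8Ucol_10_21450 : allRange 21450 21505 ((fun k => collectCheck Cfsg.Lie.chevE8 hposE8 (k / 240) (k % 240))) = true := by decide +kernel
theorem e8Ucol_10_21505 : allRange 21505 21560 ((fun k => collectCheck Cfsg.Lie.chevE8 hposE8 (k / 240) (k % 240))) = true := by decide +kernel
theorem e8Ucol_10_21560 : allRange 21560 21615 ((fun k => collectCheck Cfsg.Lie.chevE8 hposE8 (k / 240) (k % 240))) = true := by decide +kernel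
theorem e8Ucol_10_21615 : allRange 21615 21670 ((fun k => collectCheck Cfsg.Lie.chevE8 hposE8 (k / 240) (k % 240))) = true := by decide +kernel
theorem e8Ucol_10_21670 : allRange 21670 21725 ((fun k => collectCheck Cfsg.Lie.chevE8 hposE8 (k / 240) (k % 240))) = true := by decide +kernel
theorem e8Ucol_10_21725 : allRange 21725 21780 ((fun k => collectCheck Cfsg.Lie.chevE8 hposE8 (k / 240) (k % 240))) = true := by decide +kernel
theorem e8Ucol_10_21780 : allRange 21780 21835 ((fun k => collectCheck Cfsg.Lie.chevE8 hposE8 (k / 240) (k % 240))) = true := by decide +kernel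
theorem e8Ucol_10_21835 : allRange 21835 21890 ((fun k => collectCheck Cfsg.Lie.chevE8 hposE8 (k / 240) (k % 240))) = true := by decide +kernel
theorem e8Ucol_10_21890 : allRange 21890 21945 ((fun k => collectCheck Cfsg.Lie.chevE8 hposE8 (k / 240) (k % 240))) = true := by decide +kernel
theorem e8Ucol_10_21945 : allRange 21945 22000 ((fun k => collectCheck Cfsg.Lie.chevE8 hposE8 (k / 240) (k % 240))) = true := by decide +kernel
theorem e8Ucol_10_22000 : allRange 22000 22055 ((fun k => collectCheck Cfsg.Lie.chevE8 hposE8 (k / 240) (k % 240))) = true := by decide +kernel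
theorem e8Ucol_10_22055 : allRange 22055 22110 ((fun k => collectCheck Cfsg.Lie.chevE8 hposE8 (k / 240) (k % 240))) = true := by decide +kernel
theorem e8Ucol_10_22110 : allRange 22110 22165 ((fun k => collectCheck Cfsg.Lie.chevE8 hposE8 (k / 240) (k % 240))) = true := by decide +kernel
theorem e8Ucol_10_22165 : allRange 22165 22220 ((fun k => collectCheck Cfsg.Lie.chevE8 hposE8 (k / 240) (k % 240))) = true := by decide +kernel
theorem e8Ucol_10_22220 : allRange 22220 22275 ((fun k => collectCheck Cfsg.Lie.chevE8 hposE8 (k / 240) (k % 240))) = true := by decide +kernel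
theorem e8Ucol_10_22275 : allRange 22275 22330 ((fun k => collectCheck Cfsg.Lie.chevE8 hposE8 (k / 240) (k % 240))) = true := by decide +kernel
theorem e8Ucol_10_22330 : allRange 22330 22385 ((fun k => collectCheck Cfsg.Lie.chevE8 hposE8 (k / 240) (k % 240))) = true := by decide +kernel

/-- The terms of the commutator formula of type E8 lie higher (roots 20350 to 22384). -/
theorem e8Ucol_10 : ∀ r, 20350 ≤ r → r < 22385 → ((fun k => collectCheck Cfsg.Lie.chevE8 hposE8 (k / 240) (k % 240))) r = true := by
  intro r h1 h2
  by_cases c0 : r < 20405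
  · exact allRange_spec e8Ucol_10_20350 r (by omega) c0
  by_cases c1 : r < 20460
  · exact allRange_spec e8Ucol_10_20405 r (by omega) c1
  by_cases c2 : r < 20515
  · exact allRange_spec e8Ucol_10_20460 r (by omega) c2
  by_cases c3 : r < 20570
  · exact allRange_spec e8Ucol_10_20515 r (by omega) c3
  by_cases c4 : r < 20625
  · exact allRange_spec e8Ucol_10_20570 r (by omega) c4
  by_cases c5 : r < 20680
  · exact allRange_spec e8Ucol_10_20625 r (by omega) c5
  by_cases c6 : r < 20735
  · exact allRange_spec e8Ucol_10_20680 r (by omega) c6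
  by_cases c7 : r < 20790
  · exact allRange_spec e8Ucol_10_20735 r (by omega) c7
  by_cases c8 : r < 20845
  · exact allRange_spec e8Ucol_10_20790 r (by omega) c8
  by_cases c9 : r < 20900
  · exact allRange_spec e8Ucol_10_20845 r (by omega) c9
  by_cases c10 : r < 20955
  · exact allRange_spec e8Ucol_10_20900 r (by omega) c10
  by_cases c11 : r < 21010
  · exact allRange_spec e8Ucol_10_20955 r (by omega) c11
  by_cases c12 : r < 21065
  · exact allRange_spec e8Ucol_10_21010 r (by omega) c12
  by_cases c13 : r < 21120
  · exact allRange_spec e8Ucol_10_21065 r (by omega) c13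
  by_cases c14 : r < 21175
  · exact allRange_spec e8Ucol_10_21120 r (by omega) c14
  by_cases c15 : r < 21230
  · exact allRange_spec e8Ucol_10_21175 r (by omega) c15
  by_cases c16 : r < 21285
  · exact allRange_spec e8Ucol_10_21230 r (by omega) c16
  by_cases c17 : r < 21340
  · exact allRange_spec e8Ucol_10_21285 r (by omega) c17
  by_cases c18 : r < 21395
  · exact allRange_spec e8Ucol_10_21340 r (by omega) c18
  by_cases c19 : r < 21450
  · exact allRange_spec e8Ucol_10_21395 r (by omega) c19
  by_cases c20 : r < 21505
  · exact allRange_spec e8Ucol_10_21450 r (by omega) c20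
  by_cases c21 : r < 21560
  · exact allRange_spec e8Ucol_10_21505 r (by omega) c21
  by_cases c22 : r < 21615
  · exact allRange_spec e8Ucol_10_21560 r (by omega) c22
  by_cases c23 : r < 21670
  · exact allRange_spec e8Ucol_10_21615 r (by omega) c23
  by_cases c24 : r < 21725
  · exact allRange_spec e8Ucol_10_21670 r (by omega) c24
  by_cases c25 : r < 21780
  · exact allRange_spec e8Ucol_10_21725 r (by omega) c25
  by_cases c26 : r < 21835
  · exact allRange_spec e8Ucol_10_21780 r (by omega) c26
  by_cases c27 : r < 21890
  · exact allRange_spec e8Ucol_10_21835 r (by omega) c27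
  by_cases c28 : r < 21945
  · exact allRange_spec e8Ucol_10_21890 r (by omega) c28
  by_cases c29 : r < 22000
  · exact allRange_spec e8Ucol_10_21945 r (by omega) c29
  by_cases c30 : r < 22055
  · exact allRange_spec e8Ucol_10_22000 r (by omega) c30
  by_cases c31 : r < 22110
  · exact allRange_spec e8Ucol_10_22055 r (by omega) c31
  by_cases c32 : r < 22165
  · exact allRange_spec e8Ucol_10_22110 r (by omega) c32
  by_cases c33 : r < 22220
  · exact allRange_spec e8Ucol_10_22165 r (by omega) c33
  by_cases c34 : r < 22275
  · exact allRange_spec e8Ucol_10_22220 r (by omega) c34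
  by_cases c35 : r < 22330
  · exact allRange_spec e8Ucol_10_22275 r (by omega) c35
  exact allRange_spec e8Ucol_10_22330 r (by omega) h2

end Cfsg.Agent.Lib.Helper3.ChevM
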