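import Cfsg.Prelude.Def_ChevE8
import Cfsg.Agent.Lib.Helper3.ChevData.E8Uni
import Cfsg.Agent.Lib.Helper3.ChevU3
set_option autoImplicit false
set_option maxRecDepth 1000000
set_option Elab.async false

namespace Cfsg.Agent.Lib.Helper3.ChevM

theorem e8Ucol_21_42735 : allRange 42735 42790 ((fun k => collectCheck Cfsg.Lie.chevE8 hposE8 (k / 240) (k % 240))) = true := by decide +kernel
theorem e8Ucol_21_42790 : allRange 42790 42845 ((fun k => collectCheck Cfsg.Lie.chevE8 hposE8 (k / 240) (k % 240))) = true := by decide +kernel
theorem e8Ucol_21_42845 : allRange 42845 42900 ((fun k => collectCheck Cfsg.Lie.chevE8 hposE8 (k / 240) (k % 240))) = true := by decide +kernel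
theorem e8Ucol_21_42900 : allRange 42900 42955 ((fun k => collectCheck Cfsg.Lie.chevE8 hposE8 (k / 240) (k % 240))) = true := by decide +kernel
theorem e8Ucol_21_42955 : allRange 42955 43010 ((fun k => collectCheck Cfsg.Lie.chevE8 hposE8 (k / 240) (k % 240))) = true := by decide +kernel
theorem e8Ucol_21_43010 : allRange 43010 43065 ((fun k => collectCheck Cfsg.Lie.chevE8 hposE8 (k / 240) (k % 240))) = true := by decide +kernel
theorem e8Ucol_21_43065 : allRange 43065 43120 ((fun k => collectCheck Cfsg.Lie.chevE8 hposE8 (k / 240) (k % 240))) = true := by decide +kernel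
theorem e8Ucol_21_43120 : allRange 43120 43175 ((fun k => collectCheck Cfsg.Lie.chevE8 hposE8 (k / 240) (k % 240))) = true := by decide +kernel
theorem e8Ucol_21_43175 : allRange 43175 43230 ((fun k => collectCheck Cfsg.Lie.chevE8 hposE8 (k / 240) (k % 240))) = true := by decide +kernel
theorem e8Ucol_21_43230 : allRange 43230 43285 ((fun k => collectCheck Cfsg.Lie.chevE8 hposE8 (k / 240) (k % 240))) = true := by decide +kernel
theorem e8Ucol_21_43285 : allRange 43285 43340 ((fun k => collectCheck Cfsg.Lie.chevE8 hposE8 (k / 240) (k % 240))) = true := by decide +kernel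
theorem e8Ucol_21_43340 : allRange 43340 43395 ((fun k => collectCheck Cfsg.Lie.chevE8 hposE8 (k / 240) (k % 240))) = true := by decide +kernel
theorem e8Ucol_21_43395 : allRange 43395 43450 ((fun k => collectCheck Cfsg.Lie.chevE8 hposE8 (k / 240) (k % 240))) = true := by decide +kernel
theorem e8Ucol_21_43450 : allRange 43450 43505 ((fun k => collectCheck Cfsg.Lie.chevE8 hposE8 (k / 240) (k % 240))) = true := by decide +kernel
theorem e8Ucol_21_43505 : allRange 43505 43560 ((fun k => collectCheck Cfsg.Lie.chevE8 hposE8 (k / 240) (k % 240))) = true := by decide +kernel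
theorem e8Ucol_21_43560 : allRange 43560 43615 ((fun k => collectCheck Cfsg.Lie.chevE8 hposE8 (k / 240) (k % 240))) = true := by decide +kernel
theorem e8Ucol_21_43615 : allRange 43615 43670 ((fun k => collectCheck Cfsg.Lie.chevE8 hposE8 (k / 240) (k % 240))) = true := by decide +kernel
theorem e8Ucol_21_43670 : allRange 43670 43725 ((fun k => collectCheck Cfsg.Lie.chevE8 hposE8 (k / 240) (k % 240))) = true := by decide +kernel
theorem e8Ucol_21_43725 : allRange 43725 43780 ((fun k => collectCheck Cfsg.Lie.chevE8 hposE8 (k / 240) (k % 240))) = true := by decide +kernel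
theorem e8Ucol_21_43780 : allRange 43780 43835 ((fun k => collectCheck Cfsg.Lie.chevE8 hposE8 (k / 240) (k % 240))) = true := by decide +kernel
theorem e8Ucol_21_43835 : allRange 43835 43890 ((fun k => collectCheck Cfsg.Lie.chevE8 hposE8 (k / 240) (k % 240))) = true := by decide +kernel
theorem e8Ucol_21_43890 : allRange 43890 43945 ((fun k => collectCheck Cfsg.Lie.chevE8 hposE8 (k / 240) (k % 240))) = true := by decide +kernel
theorem e8Ucol_21_43945 : allRange 43945 44000 ((fun k => collectCheck Cfsg.Lie.chevE8 hposE8 (k / 240) (k % 240))) = true := by decide +kernel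
theorem e8Ucol_21_44000 : allRange 44000 44055 ((fun k => collectCheck Cfsg.Lie.chevE8 hposE8 (k / 240) (k % 240))) = true := by decide +kernel
theorem e8Ucol_21_44055 : allRange 44055 44110 ((fun k => collectCheck Cfsg.Lie.chevE8 hposE8 (k / 240) (k % 240))) = true := by decide +kernel
theorem e8Ucol_21_44110 : allRange 44110 44165 ((fun k => collectCheck Cfsg.Lie.chevE8 hposE8 (k / 240) (k % 240))) = true := by decide +kernel
theorem e8Ucol_21_44165 : allRange 44165 44220 ((fun k => collectCheck Cfsg.Lie.chevE8 hposE8 (k / 240) (k % 240))) = true := by decide +kernel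
theorem e8Ucol_21_44220 : allRange 44220 44275 ((fun k => collectCheck Cfsg.Lie.chevE8 hposE8 (k / 240) (k % 240))) = true := by decide +kernel
theorem e8Ucol_21_44275 : allRange 44275 44330 ((fun k => collectCheck Cfsg.Lie.chevE8 hposE8 (k / 240) (k % 240))) = true := by decide +kernel
theorem e8Ucol_21_44330 : allRange 44330 44385 ((fun k => collectCheck Cfsg.Lie.chevE8 hposE8 (k / 240) (k % 240))) = true := by decide +kernel
theorem e8Ucol_21_44385 : allRange 44385 44440 ((fun k => collectCheck Cfsg.Lie.chevE8 hposE8 (k / 240) (k % 240))) = true := by decide +kernel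
theorem e8Ucol_21_44440 : allRange 44440 44495 ((fun k => collectCheck Cfsg.Lie.chevE8 hposE8 (k / 240) (k % 240))) = true := by decide +kernel
theorem e8Ucol_21_44495 : allRange 44495 44550 ((fun k => collectCheck Cfsg.Lie.chevE8 hposE8 (k / 240) (k % 240))) = true := by decide +kernel
theorem e8Ucol_21_44550 : allRange 44550 44605 ((fun k => collectCheck Cfsg.Lie.chevE8 hposE8 (k / 240) (k % 240))) = true := by decide +kernel
theorem e8Ucol_21_44605 : allRange 44605 44660 ((fun k => collectCheck Cfsg.Lie.chevE8 hposE8 (k / 240) (k % 240))) = true := by decide +kernel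
theorem e8Ucol_21_44660 : allRange 44660 44715 ((fun k => collectCheck Cfsg.Lie.chevE8 hposE8 (k / 240) (k % 240))) = true := by decide +kernel
theorem e8Ucol_21_44715 : allRange 44715 44770 ((fun k => collectCheck Cfsg.Lie.chevE8 hposE8 (k / 240) (k % 240))) = true := by decide +kernel

/-- The terms of the commutator formula of type E8 lie higher (roots 42735 to 44769). -/
theorem e8Ucol_21 : ∀ r, 42735 ≤ r → r < 44770 → ((fun k => collectCheck Cfsg.Lie.chevE8 hposE8 (k / 240) (k % 240))) r = true := by
  intro r h1 h2
  by_cases c0 : r < 42790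
  · exact allRange_spec e8Ucol_21_42735 r (by omega) c0
  by_cases c1 : r < 42845
  · exact allRange_spec e8Ucol_21_42790 r (by omega) c1
  by_cases c2 : r < 42900
  · exact allRange_spec e8Ucol_21_42845 r (by omega) c2
  by_cases c3 : r < 42955
  · exact allRange_spec e8Ucol_21_42900 r (by omega) c3
  by_cases c4 : r < 43010
  · exact allRange_spec e8Ucol_21_42955 r (by omega) c4
  by_cases c5 : r < 43065
  · exact allRange_spec e8Ucol_21_43010 r (by omega) c5
  by_cases c6 : r < 43120
  · exact allRange_spec e8Ucol_21_43065 r (by omega) c6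
  by_cases c7 : r < 43175
  · exact allRange_spec e8Ucol_21_43120 r (by omega) c7
  by_cases c8 : r < 43230
  · exact allRange_spec e8Ucol_21_43175 r (by omega) c8
  by_cases c9 : r < 43285
  · exact allRange_spec e8Ucol_21_43230 r (by omega) c9
  by_cases c10 : r < 43340
  · exact allRange_spec e8Ucol_21_43285 r (by omega) c10
  by_cases c11 : r < 43395
  · exact allRange_spec e8Ucol_21_43340 r (by omega) c11
  by_cases c12 : r < 43450
  · exact allRange_spec e8Ucol_21_43395 r (by omega) c12
  by_cases c13 : r < 43505
  · exact allRange_spec e8Ucol_21_43450 r (by omega) c13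
  by_cases c14 : r < 43560
  · exact allRange_spec e8Ucol_21_43505 r (by omega) c14
  by_cases c15 : r < 43615
  · exact allRange_spec e8Ucol_21_43560 r (by omega) c15
  by_cases c16 : r < 43670
  · exact allRange_spec e8Ucol_21_43615 r (by omega) c16
  by_cases c17 : r < 43725
  · exact allRange_spec e8Ucol_21_43670 r (by omega) c17
  by_cases c18 : r < 43780
  · exact allRange_spec e8Ucol_21_43725 r (by omega) c18
  by_cases c19 : r < 43835
  · exact allRange_spec e8Ucol_21_43780 r (by omega) c19
  by_cases c20 : r < 43890
  · exact allRange_spec e8Ucol_21_43835 r (by omega) c20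
  by_cases c21 : r < 43945
  · exact allRange_spec e8Ucol_21_43890 r (by omega) c21
  by_cases c22 : r < 44000
  · exact allRange_spec e8Ucol_21_43945 r (by omega) c22
  by_cases c23 : r < 44055
  · exact allRange_spec e8Ucol_21_44000 r (by omega) c23
  by_cases c24 : r < 44110
  · exact allRange_spec e8Ucol_21_44055 r (by omega) c24
  by_cases c25 : r < 44165
  · exact allRange_spec e8Ucol_21_44110 r (by omega) c25
  by_cases c26 : r < 44220
  · exact allRange_spec e8Ucol_21_44165 r (by omega) c26
  by_cases c27 : r < 44275
  · exact allRange_spec e8Ucol_21_44220 r (by omega) c27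
  by_cases c28 : r < 44330
  · exact allRange_spec e8Ucol_21_44275 r (by omega) c28
  by_cases c29 : r < 44385
  · exact allRange_spec e8Ucol_21_44330 r (by omega) c29
  by_cases c30 : r < 44440
  · exact allRange_spec e8Ucol_21_44385 r (by omega) c30
  by_cases c31 : r < 44495
  · exact allRange_spec e8Ucol_21_44440 r (by omega) c31
  by_cases c32 : r < 44550
  · exact allRange_spec e8Ucol_21_44495 r (by omega) c32
  by_cases c33 : r < 44605
  · exact allRange_spec e8Ucol_21_44550 r (by omega) c33
  by_cases c34 : r < 44660
  · exact allRange_spec e8Ucol_21_44605 r (by omega) c34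
  by_cases c35 : r < 44715
  · exact allRange_spec e8Ucol_21_44660 r (by omega) c35
  exact allRange_spec e8Ucol_21_44715 r (by omega) h2

end Cfsg.Agent.Lib.Helper3.ChevM
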