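import Cfsg.Prelude.Def_ChevE8
import Cfsg.Agent.Lib.Helper3.ChevData.E8Uni
import Cfsg.Agent.Lib.Helper3.StU10
set_option autoImplicit false
set_option maxRecDepth 1000000
set_option Elab.async false

namespace Cfsg.Agent.Lib.Helper3.ChevM
open Cfsg.Agent.Lib.Helper3.StB Cfsg.Agent.Lib.Helper3.StU

theorem e8Ucolb_27_54945 : allRange 54945 55000 ((fun k => col2OK Cfsg.Lie.chevE8 hposE8 (k / 240) (k % 240))) = true := by decide +kernel
theorem e8Ucolb_27_55000 : allRange 55000 55055 ((fun k => col2OK Cfsg.Lie.chevE8 hposE8 (k / 240) (k % 240))) = true := by decide +kernel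
theorem e8Ucolb_27_55055 : allRange 55055 55110 ((fun k => col2OK Cfsg.Lie.chevE8 hposE8 (k / 240) (k % 240))) = true := by decide +kernel
theorem e8Ucolb_27_55110 : allRange 55110 55165 ((fun k => col2OK Cfsg.Lie.chevE8 hposE8 (k / 240) (k % 240))) = true := by decide +kernel
theorem e8Ucolb_27_55165 : allRange 55165 55220 ((fun k => col2OK Cfsg.Lie.chevE8 hposE8 (k / 240) (k % 240))) = true := by decide +kernel
theorem e8Ucolb_27_55220 : allRange 55220 55275 ((fun k => col2OK Cfsg.Lie.chevE8 hposE8 (k / 240) (k % 240))) = true := by decide +kernel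
theorem e8Ucolb_27_55275 : allRange 55275 55330 ((fun k => col2OK Cfsg.Lie.chevE8 hposE8 (k / 240) (k % 240))) = true := by decide +kernel
theorem e8Ucolb_27_55330 : allRange 55330 55385 ((fun k => col2OK Cfsg.Lie.chevE8 hposE8 (k / 240) (k % 240))) = true := by decide +kernel
theorem e8Ucolb_27_55385 : allRange 55385 55440 ((fun k => col2OK Cfsg.Lie.chevE8 hposE8 (k / 240) (k % 240))) = true := by decide +kernel
theorem e8Ucolb_27_55440 : allRange 55440 55495 ((fun k => col2OK Cfsg.Lie.chevE8 hposE8 (k / 240) (k % 240))) = true := by decide +kernel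
theorem e8Ucolb_27_55495 : allRange 55495 55550 ((fun k => col2OK Cfsg.Lie.chevE8 hposE8 (k / 240) (k % 240))) = true := by decide +kernel
theorem e8Ucolb_27_55550 : allRange 55550 55605 ((fun k => col2OK Cfsg.Lie.chevE8 hposE8 (k / 240) (k % 240))) = true := by decide +kernel
theorem e8Ucolb_27_55605 : allRange 55605 55660 ((fun k => col2OK Cfsg.Lie.chevE8 hposE8 (k / 240) (k % 240))) = true := by decide +kernel
theorem e8Ucolb_27_55660 : allRange 55660 55715 ((fun k => col2OK Cfsg.Lie.chevE8 hposE8 (k / 240) (k % 240))) = true := by decide +kernel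
theorem e8Ucolb_27_55715 : allRange 55715 55770 ((fun k => col2OK Cfsg.Lie.chevE8 hposE8 (k / 240) (k % 240))) = true := by decide +kernel
theorem e8Ucolb_27_55770 : allRange 55770 55825 ((fun k => col2OK Cfsg.Lie.chevE8 hposE8 (k / 240) (k % 240))) = true := by decide +kernel
theorem e8Ucolb_27_55825 : allRange 55825 55880 ((fun k => col2OK Cfsg.Lie.chevE8 hposE8 (k / 240) (k % 240))) = true := by decide +kernel
theorem e8Ucolb_27_55880 : allRange 55880 55935 ((fun k => col2OK Cfsg.Lie.chevE8 hposE8 (k / 240) (k % 240))) = true := by decide +kernel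
theorem e8Ucolb_27_55935 : allRange 55935 55990 ((fun k => col2OK Cfsg.Lie.chevE8 hposE8 (k / 240) (k % 240))) = true := by decide +kernel
theorem e8Ucolb_27_55990 : allRange 55990 56045 ((fun k => col2OK Cfsg.Lie.chevE8 hposE8 (k / 240) (k % 240))) = true := by decide +kernel
theorem e8Ucolb_27_56045 : allRange 56045 56100 ((fun k => col2OK Cfsg.Lie.chevE8 hposE8 (k / 240) (k % 240))) = true := by decide +kernel
theorem e8Ucolb_27_56100 : allRange 56100 56155 ((fun k => col2OK Cfsg.Lie.chevE8 hposE8 (k / 240) (k % 240))) = true := by decide +kernel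
theorem e8Ucolb_27_56155 : allRange 56155 56210 ((fun k => col2OK Cfsg.Lie.chevE8 hposE8 (k / 240) (k % 240))) = true := by decide +kernel
theorem e8Ucolb_27_56210 : allRange 56210 56265 ((fun k => col2OK Cfsg.Lie.chevE8 hposE8 (k / 240) (k % 240))) = true := by decide +kernel
theorem e8Ucolb_27_56265 : allRange 56265 56320 ((fun k => col2OK Cfsg.Lie.chevE8 hposE8 (k / 240) (k % 240))) = true := by decide +kernel
theorem e8Ucolb_27_56320 : allRange 56320 56375 ((fun k => col2OK Cfsg.Lie.chevE8 hposE8 (k / 240) (k % 240))) = true := by decide +kernel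
theorem e8Ucolb_27_56375 : allRange 56375 56430 ((fun k => col2OK Cfsg.Lie.chevE8 hposE8 (k / 240) (k % 240))) = true := by decide +kernel
theorem e8Ucolb_27_56430 : allRange 56430 56485 ((fun k => col2OK Cfsg.Lie.chevE8 hposE8 (k / 240) (k % 240))) = true := by decide +kernel
theorem e8Ucolb_27_56485 : allRange 56485 56540 ((fun k => col2OK Cfsg.Lie.chevE8 hposE8 (k / 240) (k % 240))) = true := by decide +kernel
theorem e8Ucolb_27_56540 : allRange 56540 56595 ((fun k => col2OK Cfsg.Lie.chevE8 hposE8 (k / 240) (k % 240))) = true := by decide +kernel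
theorem e8Ucolb_27_56595 : allRange 56595 56650 ((fun k => col2OK Cfsg.Lie.chevE8 hposE8 (k / 240) (k % 240))) = true := by decide +kernel
theorem e8Ucolb_27_56650 : allRange 56650 56705 ((fun k => col2OK Cfsg.Lie.chevE8 hposE8 (k / 240) (k % 240))) = true := by decide +kernel
theorem e8Ucolb_27_56705 : allRange 56705 56760 ((fun k => col2OK Cfsg.Lie.chevE8 hposE8 (k / 240) (k % 240))) = true := by decide +kernel
theorem e8Ucolb_27_56760 : allRange 56760 56815 ((fun k => col2OK Cfsg.Lie.chevE8 hposE8 (k / 240) (k % 240))) = true := by decide +kernel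
theorem e8Ucolb_27_56815 : allRange 56815 56870 ((fun k => col2OK Cfsg.Lie.chevE8 hposE8 (k / 240) (k % 240))) = true := by decide +kernel
theorem e8Ucolb_27_56870 : allRange 56870 56925 ((fun k => col2OK Cfsg.Lie.chevE8 hposE8 (k / 240) (k % 240))) = true := by decide +kernel
theorem e8Ucolb_27_56925 : allRange 56925 56980 ((fun k => col2OK Cfsg.Lie.chevE8 hposE8 (k / 240) (k % 240))) = true := by decide +kernel

/-- The terms of the commutator formula of type E8 lie higher than the second root (roots 54945 to 56979). -/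
theorem e8Ucolb_27 : ∀ r, 54945 ≤ r → r < 56980 → ((fun k => col2OK Cfsg.Lie.chevE8 hposE8 (k / 240) (k % 240))) r = true := by
  intro r h1 h2
  by_cases c0 : r < 55000
  · exact allRange_spec e8Ucolb_27_54945 r (by omega) c0
  by_cases c1 : r < 55055
  · exact allRange_spec e8Ucolb_27_55000 r (by omega) c1
  by_cases c2 : r < 55110
  · exact allRange_spec e8Ucolb_27_55055 r (by omega) c2
  by_cases c3 : r < 55165
  · exact allRange_spec e8Ucolb_27_55110 r (by omega) c3
  by_cases c4 : r < 55220
  · exact allRange_spec e8Ucolb_27_55165 r (by omega) c4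
  by_cases c5 : r < 55275
  · exact allRange_spec e8Ucolb_27_55220 r (by omega) c5
  by_cases c6 : r < 55330
  · exact allRange_spec e8Ucolb_27_55275 r (by omega) c6
  by_cases c7 : r < 55385
  · exact allRange_spec e8Ucolb_27_55330 r (by omega) c7
  by_cases c8 : r < 55440
  · exact allRange_spec e8Ucolb_27_55385 r (by omega) c8
  by_cases c9 : r < 55495
  · exact allRange_spec e8Ucolb_27_55440 r (by omega) c9
  by_cases c10 : r < 55550
  · exact allRange_spec e8Ucolb_27_55495 r (by omega) c10
  by_cases c11 : r < 55605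
  · exact allRange_spec e8Ucolb_27_55550 r (by omega) c11
  by_cases c12 : r < 55660
  · exact allRange_spec e8Ucolb_27_55605 r (by omega) c12
  by_cases c13 : r < 55715
  · exact allRange_spec e8Ucolb_27_55660 r (by omega) c13
  by_cases c14 : r < 55770
  · exact allRange_spec e8Ucolb_27_55715 r (by omega) c14
  by_cases c15 : r < 55825
  · exact allRange_spec e8Ucolb_27_55770 r (by omega) c15
  by_cases c16 : r < 55880
  · exact allRange_spec e8Ucolb_27_55825 r (by omega) c16
  by_cases c17 : r < 55935
  · exact allRange_spec e8Ucolb_27_55880 r (by omega) c17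
  by_cases c18 : r < 55990
  · exact allRange_spec e8Ucolb_27_55935 r (by omega) c18
  by_cases c19 : r < 56045
  · exact allRange_spec e8Ucolb_27_55990 r (by omega) c19
  by_cases c20 : r < 56100
  · exact allRange_spec e8Ucolb_27_56045 r (by omega) c20
  by_cases c21 : r < 56155
  · exact allRange_spec e8Ucolb_27_56100 r (by omega) c21
  by_cases c22 : r < 56210
  · exact allRange_spec e8Ucolb_27_56155 r (by omega) c22
  by_cases c23 : r < 56265
  · exact allRange_spec e8Ucolb_27_56210 r (by omega) c23
  by_cases c24 : r < 56320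
  · exact allRange_spec e8Ucolb_27_56265 r (by omega) c24
  by_cases c25 : r < 56375
  · exact allRange_spec e8Ucolb_27_56320 r (by omega) c25
  by_cases c26 : r < 56430
  · exact allRange_spec e8Ucolb_27_56375 r (by omega) c26
  by_cases c27 : r < 56485
  · exact allRange_spec e8Ucolb_27_56430 r (by omega) c27
  by_cases c28 : r < 56540
  · exact allRange_spec e8Ucolb_27_56485 r (by omega) c28
  by_cases c29 : r < 56595
  · exact allRange_spec e8Ucolb_27_56540 r (by omega) c29
  by_cases c30 : r < 56650
  · exact allRange_spec e8Ucolb_27_56595 r (by omega) c30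
  by_cases c31 : r < 56705
  · exact allRange_spec e8Ucolb_27_56650 r (by omega) c31
  by_cases c32 : r < 56760
  · exact allRange_spec e8Ucolb_27_56705 r (by omega) c32
  by_cases c33 : r < 56815
  · exact allRange_spec e8Ucolb_27_56760 r (by omega) c33
  by_cases c34 : r < 56870
  · exact allRange_spec e8Ucolb_27_56815 r (by omega) c34
  by_cases c35 : r < 56925
  · exact allRange_spec e8Ucolb_27_56870 r (by omega) c35
  exact allRange_spec e8Ucolb_27_56925 r (by omega) h2

end Cfsg.Agent.Lib.Helper3.ChevM
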