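import Cfsg.Prelude.Def_ChevE8
import Cfsg.Agent.Lib.Helper3.ChevData.E8Uni
import Cfsg.Agent.Lib.Helper3.StU10
set_option autoImplicit false
set_option maxRecDepth 1000000
set_option Elab.async false

namespace Cfsg.Agent.Lib.Helper3.ChevM
open Cfsg.Agent.Lib.Helper3.StB Cfsg.Agent.Lib.Helper3.StU

theorem e8Ucolb_28_56980 : allRange 56980 57035 ((fun k => col2OK Cfsg.Lie.chevE8 hposE8 (k / 240) (k % 240))) = true := by decide +kernel
theorem e8Ucolb_28_57035 : allRange 57035 57090 ((fun k => col2OK Cfsg.Lie.chevE8 hposE8 (k / 240) (k % 240))) = true := by decide +kernel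
theorem e8Ucolb_28_57090 : allRange 57090 57145 ((fun k => col2OK Cfsg.Lie.chevE8 hposE8 (k / 240) (k % 240))) = true := by decide +kernel
theorem e8Ucolb_28_57145 : allRange 57145 57200 ((fun k => col2OK Cfsg.Lie.chevE8 hposE8 (k / 240) (k % 240))) = true := by decide +kernel
theorem e8Ucolb_28_57200 : allRange 57200 57255 ((fun k => col2OK Cfsg.Lie.chevE8 hposE8 (k / 240) (k % 240))) = true := by decide +kernel
theorem e8Ucolb_28_57255 : allRange 57255 57310 ((fun k => col2OK Cfsg.Lie.chevE8 hposE8 (k / 240) (k % 240))) = true := by decide +kernel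
theorem e8Ucolb_28_57310 : allRange 57310 57365 ((fun k => col2OK Cfsg.Lie.chevE8 hposE8 (k / 240) (k % 240))) = true := by decide +kernel
theorem e8Ucolb_28_57365 : allRange 57365 57420 ((fun k => col2OK Cfsg.Lie.chevE8 hposE8 (k / 240) (k % 240))) = true := by decide +kernel
theorem e8Ucolb_28_57420 : allRange 57420 57475 ((fun k => col2OK Cfsg.Lie.chevE8 hposE8 (k / 240) (k % 240))) = true := by decide +kernel
theorem e8Ucolb_28_57475 : allRange 57475 57530 ((fun k => col2OK Cfsg.Lie.chevE8 hposE8 (k / 240) (k % 240))) = true := by decide +kernel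
theorem e8Ucolb_28_57530 : allRange 57530 57585 ((fun k => col2OK Cfsg.Lie.chevE8 hposE8 (k / 240) (k % 240))) = true := by decide +kernel
theorem e8Ucolb_28_57585 : allRange 57585 57600 ((fun k => col2OK Cfsg.Lie.chevE8 hposE8 (k / 240) (k % 240))) = true := by decide +kernel

/-- The terms of the commutator formula of type E8 lie higher than the second root (roots 56980 to 57599). -/
theorem e8Ucolb_28 : ∀ r, 56980 ≤ r → r < 57600 → ((fun k => col2OK Cfsg.Lie.chevE8 hposE8 (k / 240) (k % 240))) r = true := by
  intro r h1 h2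
  by_cases c0 : r < 57035
  · exact allRange_spec e8Ucolb_28_56980 r (by omega) c0
  by_cases c1 : r < 57090
  · exact allRange_spec e8Ucolb_28_57035 r (by omega) c1
  by_cases c2 : r < 57145
  · exact allRange_spec e8Ucolb_28_57090 r (by omega) c2
  by_cases c3 : r < 57200
  · exact allRange_spec e8Ucolb_28_57145 r (by omega) c3
  by_cases c4 : r < 57255
  · exact allRange_spec e8Ucolb_28_57200 r (by omega) c4
  by_cases c5 : r < 57310
  · exact allRange_spec e8Ucolb_28_57255 r (by omega) c5
  by_cases c6 : r < 57365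
  · exact allRange_spec e8Ucolb_28_57310 r (by omega) c6
  by_cases c7 : r < 57420
  · exact allRange_spec e8Ucolb_28_57365 r (by omega) c7
  by_cases c8 : r < 57475
  · exact allRange_spec e8Ucolb_28_57420 r (by omega) c8
  by_cases c9 : r < 57530
  · exact allRange_spec e8Ucolb_28_57475 r (by omega) c9
  by_cases c10 : r < 57585
  · exact allRange_spec e8Ucolb_28_57530 r (by omega) c10
  exact allRange_spec e8Ucolb_28_57585 r (by omega) h2

end Cfsg.Agent.Lib.Helper3.ChevM
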