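import Cfsg.Prelude.Def_ChevE8
import Cfsg.Agent.Lib.Helper3.ChevData.E8Uni
import Cfsg.Agent.Lib.Helper3.StU10
set_option autoImplicit false
set_option maxRecDepth 1000000
set_option Elab.async false

namespace Cfsg.Agent.Lib.Helper3.ChevM
open Cfsg.Agent.Lib.Helper3.StB Cfsg.Agent.Lib.Helper3.StU

theorem e8Ucolb_5_10175 : allRange 10175 10230 ((fun k => col2OK Cfsg.Lie.chevE8 hposE8 (k / 240) (k % 240))) = true := by decide +kernel
theorem e8Ucolb_5_10230 : allRange 10230 10285 ((fun k => col2OK Cfsg.Lie.chevE8 hposE8 (k / 240) (k % 240))) = true := by decide +kernel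
theorem e8Ucolb_5_10285 : allRange 10285 10340 ((fun k => col2OK Cfsg.Lie.chevE8 hposE8 (k / 240) (k % 240))) = true := by decide +kernel
theorem e8Ucolb_5_10340 : allRange 10340 10395 ((fun k => col2OK Cfsg.Lie.chevE8 hposE8 (k / 240) (k % 240))) = true := by decide +kernel
theorem e8Ucolb_5_10395 : allRange 10395 10450 ((fun k => col2OK Cfsg.Lie.chevE8 hposE8 (k / 240) (k % 240))) = true := by decide +kernel
theorem e8Ucolb_5_10450 : allRange 10450 10505 ((fun k => col2OK Cfsg.Lie.chevE8 hposE8 (k / 240) (k % 240))) = true := by decide +kernel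
theorem e8Ucolb_5_10505 : allRange 10505 10560 ((fun k => col2OK Cfsg.Lie.chevE8 hposE8 (k / 240) (k % 240))) = true := by decide +kernel
theorem e8Ucolb_5_10560 : allRange 10560 10615 ((fun k => col2OK Cfsg.Lie.chevE8 hposE8 (k / 240) (k % 240))) = true := by decide +kernel
theorem e8Ucolb_5_10615 : allRange 10615 10670 ((fun k => col2OK Cfsg.Lie.chevE8 hposE8 (k / 240) (k % 240))) = true := by decide +kernel
theorem e8Ucolb_5_10670 : allRange 10670 10725 ((fun k => col2OK Cfsg.Lie.chevE8 hposE8 (k / 240) (k % 240))) = true := by decide +kernel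
theorem e8Ucolb_5_10725 : allRange 10725 10780 ((fun k => col2OK Cfsg.Lie.chevE8 hposE8 (k / 240) (k % 240))) = true := by decide +kernel
theorem e8Ucolb_5_10780 : allRange 10780 10835 ((fun k => col2OK Cfsg.Lie.chevE8 hposE8 (k / 240) (k % 240))) = true := by decide +kernel
theorem e8Ucolb_5_10835 : allRange 10835 10890 ((fun k => col2OK Cfsg.Lie.chevE8 hposE8 (k / 240) (k % 240))) = true := by decide +kernel
theorem e8Ucolb_5_10890 : allRange 10890 10945 ((fun k => col2OK Cfsg.Lie.chevE8 hposE8 (k / 240) (k % 240))) = true := by decide +kernel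
theorem e8Ucolb_5_10945 : allRange 10945 11000 ((fun k => col2OK Cfsg.Lie.chevE8 hposE8 (k / 240) (k % 240))) = true := by decide +kernel
theorem e8Ucolb_5_11000 : allRange 11000 11055 ((fun k => col2OK Cfsg.Lie.chevE8 hposE8 (k / 240) (k % 240))) = true := by decide +kernel
theorem e8Ucolb_5_11055 : allRange 11055 11110 ((fun k => col2OK Cfsg.Lie.chevE8 hposE8 (k / 240) (k % 240))) = true := by decide +kernel
theorem e8Ucolb_5_11110 : allRange 11110 11165 ((fun k => col2OK Cfsg.Lie.chevE8 hposE8 (k / 240) (k % 240))) = true := by decide +kernel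
theorem e8Ucolb_5_11165 : allRange 11165 11220 ((fun k => col2OK Cfsg.Lie.chevE8 hposE8 (k / 240) (k % 240))) = true := by decide +kernel
theorem e8Ucolb_5_11220 : allRange 11220 11275 ((fun k => col2OK Cfsg.Lie.chevE8 hposE8 (k / 240) (k % 240))) = true := by decide +kernel
theorem e8Ucolb_5_11275 : allRange 11275 11330 ((fun k => col2OK Cfsg.Lie.chevE8 hposE8 (k / 240) (k % 240))) = true := by decide +kernel
theorem e8Ucolb_5_11330 : allRange 11330 11385 ((fun k => col2OK Cfsg.Lie.chevE8 hposE8 (k / 240) (k % 240))) = true := by decide +kernel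
theorem e8Ucolb_5_11385 : allRange 11385 11440 ((fun k => col2OK Cfsg.Lie.chevE8 hposE8 (k / 240) (k % 240))) = true := by decide +kernel
theorem e8Ucolb_5_11440 : allRange 11440 11495 ((fun k => col2OK Cfsg.Lie.chevE8 hposE8 (k / 240) (k % 240))) = true := by decide +kernel
theorem e8Ucolb_5_11495 : allRange 11495 11550 ((fun k => col2OK Cfsg.Lie.chevE8 hposE8 (k / 240) (k % 240))) = true := by decide +kernel
theorem e8Ucolb_5_11550 : allRange 11550 11605 ((fun k => col2OK Cfsg.Lie.chevE8 hposE8 (k / 240) (k % 240))) = true := by decide +kernel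
theorem e8Ucolb_5_11605 : allRange 11605 11660 ((fun k => col2OK Cfsg.Lie.chevE8 hposE8 (k / 240) (k % 240))) = true := by decide +kernel
theorem e8Ucolb_5_11660 : allRange 11660 11715 ((fun k => col2OK Cfsg.Lie.chevE8 hposE8 (k / 240) (k % 240))) = true := by decide +kernel
theorem e8Ucolb_5_11715 : allRange 11715 11770 ((fun k => col2OK Cfsg.Lie.chevE8 hposE8 (k / 240) (k % 240))) = true := by decide +kernel
theorem e8Ucolb_5_11770 : allRange 11770 11825 ((fun k => col2OK Cfsg.Lie.chevE8 hposE8 (k / 240) (k % 240))) = true := by decide +kernel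
theorem e8Ucolb_5_11825 : allRange 11825 11880 ((fun k => col2OK Cfsg.Lie.chevE8 hposE8 (k / 240) (k % 240))) = true := by decide +kernel
theorem e8Ucolb_5_11880 : allRange 11880 11935 ((fun k => col2OK Cfsg.Lie.chevE8 hposE8 (k / 240) (k % 240))) = true := by decide +kernel
theorem e8Ucolb_5_11935 : allRange 11935 11990 ((fun k => col2OK Cfsg.Lie.chevE8 hposE8 (k / 240) (k % 240))) = true := by decide +kernel
theorem e8Ucolb_5_11990 : allRange 11990 12045 ((fun k => col2OK Cfsg.Lie.chevE8 hposE8 (k / 240) (k % 240))) = true := by decide +kernel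
theorem e8Ucolb_5_12045 : allRange 12045 12100 ((fun k => col2OK Cfsg.Lie.chevE8 hposE8 (k / 240) (k % 240))) = true := by decide +kernel
theorem e8Ucolb_5_12100 : allRange 12100 12155 ((fun k => col2OK Cfsg.Lie.chevE8 hposE8 (k / 240) (k % 240))) = true := by decide +kernel
theorem e8Ucolb_5_12155 : allRange 12155 12210 ((fun k => col2OK Cfsg.Lie.chevE8 hposE8 (k / 240) (k % 240))) = true := by decide +kernel

/-- The terms of the commutator formula of type E8 lie higher than the second root (roots 10175 to 12209). -/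
theorem e8Ucolb_5 : ∀ r, 10175 ≤ r → r < 12210 → ((fun k => col2OK Cfsg.Lie.chevE8 hposE8 (k / 240) (k % 240))) r = true := by
  intro r h1 h2
  by_cases c0 : r < 10230
  · exact allRange_spec e8Ucolb_5_10175 r (by omega) c0
  by_cases c1 : r < 10285
  · exact allRange_spec e8Ucolb_5_10230 r (by omega) c1
  by_cases c2 : r < 10340
  · exact allRange_spec e8Ucolb_5_10285 r (by omega) c2
  by_cases c3 : r < 10395
  · exact allRange_spec e8Ucolb_5_10340 r (by omega) c3
  by_cases c4 : r < 10450
  · exact allRange_spec e8Ucolb_5_10395 r (by omega) c4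
  by_cases c5 : r < 10505
  · exact allRange_spec e8Ucolb_5_10450 r (by omega) c5
  by_cases c6 : r < 10560
  · exact allRange_spec e8Ucolb_5_10505 r (by omega) c6
  by_cases c7 : r < 10615
  · exact allRange_spec e8Ucolb_5_10560 r (by omega) c7
  by_cases c8 : r < 10670
  · exact allRange_spec e8Ucolb_5_10615 r (by omega) c8
  by_cases c9 : r < 10725
  · exact allRange_spec e8Ucolb_5_10670 r (by omega) c9
  by_cases c10 : r < 10780
  · exact allRange_spec e8Ucolb_5_10725 r (by omega) c10
  by_cases c11 : r < 10835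
  · exact allRange_spec e8Ucolb_5_10780 r (by omega) c11
  by_cases c12 : r < 10890
  · exact allRange_spec e8Ucolb_5_10835 r (by omega) c12
  by_cases c13 : r < 10945
  · exact allRange_spec e8Ucolb_5_10890 r (by omega) c13
  by_cases c14 : r < 11000
  · exact allRange_spec e8Ucolb_5_10945 r (by omega) c14
  by_cases c15 : r < 11055
  · exact allRange_spec e8Ucolb_5_11000 r (by omega) c15
  by_cases c16 : r < 11110
  · exact allRange_spec e8Ucolb_5_11055 r (by omega) c16
  by_cases c17 : r < 11165
  · exact allRange_spec e8Ucolb_5_11110 r (by omega) c17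
  by_cases c18 : r < 11220
  · exact allRange_spec e8Ucolb_5_11165 r (by omega) c18
  by_cases c19 : r < 11275
  · exact allRange_spec e8Ucolb_5_11220 r (by omega) c19
  by_cases c20 : r < 11330
  · exact allRange_spec e8Ucolb_5_11275 r (by omega) c20
  by_cases c21 : r < 11385
  · exact allRange_spec e8Ucolb_5_11330 r (by omega) c21
  by_cases c22 : r < 11440
  · exact allRange_spec e8Ucolb_5_11385 r (by omega) c22
  by_cases c23 : r < 11495
  · exact allRange_spec e8Ucolb_5_11440 r (by omega) c23
  by_cases c24 : r < 11550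
  · exact allRange_spec e8Ucolb_5_11495 r (by omega) c24
  by_cases c25 : r < 11605
  · exact allRange_spec e8Ucolb_5_11550 r (by omega) c25
  by_cases c26 : r < 11660
  · exact allRange_spec e8Ucolb_5_11605 r (by omega) c26
  by_cases c27 : r < 11715
  · exact allRange_spec e8Ucolb_5_11660 r (by omega) c27
  by_cases c28 : r < 11770
  · exact allRange_spec e8Ucolb_5_11715 r (by omega) c28
  by_cases c29 : r < 11825
  · exact allRange_spec e8Ucolb_5_11770 r (by omega) c29
  by_cases c30 : r < 11880
  · exact allRange_spec e8Ucolb_5_11825 r (by omega) c30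
  by_cases c31 : r < 11935
  · exact allRange_spec e8Ucolb_5_11880 r (by omega) c31
  by_cases c32 : r < 11990
  · exact allRange_spec e8Ucolb_5_11935 r (by omega) c32
  by_cases c33 : r < 12045
  · exact allRange_spec e8Ucolb_5_11990 r (by omega) c33
  by_cases c34 : r < 12100
  · exact allRange_spec e8Ucolb_5_12045 r (by omega) c34
  by_cases c35 : r < 12155
  · exact allRange_spec e8Ucolb_5_12100 r (by omega) c35
  exact allRange_spec e8Ucolb_5_12155 r (by omega) h2

end Cfsg.Agent.Lib.Helper3.ChevM
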