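import Cfsg.Prelude.Def_ChevE8
import Cfsg.Agent.Lib.Helper3.ChevData.E8Uni
import Cfsg.Agent.Lib.Helper3.StU10
set_option autoImplicit false
set_option maxRecDepth 1000000
set_option Elab.async false

namespace Cfsg.Agent.Lib.Helper3.ChevM
open Cfsg.Agent.Lib.Helper3.StB Cfsg.Agent.Lib.Helper3.StU

theorem e8Ucolb_12_24420 : allRange 24420 24475 ((fun k => col2OK Cfsg.Lie.chevE8 hposE8 (k / 240) (k % 240))) = true := by decide +kernel
theorem e8Ucolb_12_24475 : allRange 24475 24530 ((fun k => col2OK Cfsg.Lie.chevE8 hposE8 (k / 240) (k % 240))) = true := by decide +kernel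
theorem e8Ucolb_12_24530 : allRange 24530 24585 ((fun k => col2OK Cfsg.Lie.chevE8 hposE8 (k / 240) (k % 240))) = true := by decide +kernel
theorem e8Ucolb_12_24585 : allRange 24585 24640 ((fun k => col2OK Cfsg.Lie.chevE8 hposE8 (k / 240) (k % 240))) = true := by decide +kernel
theorem e8Ucolb_12_24640 : allRange 24640 24695 ((fun k => col2OK Cfsg.Lie.chevE8 hposE8 (k / 240) (k % 240))) = true := by decide +kernel
theorem e8Ucolb_12_24695 : allRange 24695 24750 ((fun k => col2OK Cfsg.Lie.chevE8 hposE8 (k / 240) (k % 240))) = true := by decide +kernel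
theorem e8Ucolb_12_24750 : allRange 24750 24805 ((fun k => col2OK Cfsg.Lie.chevE8 hposE8 (k / 240) (k % 240))) = true := by decide +kernel
theorem e8Ucolb_12_24805 : allRange 24805 24860 ((fun k => col2OK Cfsg.Lie.chevE8 hposE8 (k / 240) (k % 240))) = true := by decide +kernel
theorem e8Ucolb_12_24860 : allRange 24860 24915 ((fun k => col2OK Cfsg.Lie.chevE8 hposE8 (k / 240) (k % 240))) = true := by decide +kernel
theorem e8Ucolb_12_24915 : allRange 24915 24970 ((fun k => col2OK Cfsg.Lie.chevE8 hposE8 (k / 240) (k % 240))) = true := by decide +kernel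
theorem e8Ucolb_12_24970 : allRange 24970 25025 ((fun k => col2OK Cfsg.Lie.chevE8 hposE8 (k / 240) (k % 240))) = true := by decide +kernel
theorem e8Ucolb_12_25025 : allRange 25025 25080 ((fun k => col2OK Cfsg.Lie.chevE8 hposE8 (k / 240) (k % 240))) = true := by decide +kernel
theorem e8Ucolb_12_25080 : allRange 25080 25135 ((fun k => col2OK Cfsg.Lie.chevE8 hposE8 (k / 240) (k % 240))) = true := by decide +kernel
theorem e8Ucolb_12_25135 : allRange 25135 25190 ((fun k => col2OK Cfsg.Lie.chevE8 hposE8 (k / 240) (k % 240))) = true := by decide +kernel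
theorem e8Ucolb_12_25190 : allRange 25190 25245 ((fun k => col2OK Cfsg.Lie.chevE8 hposE8 (k / 240) (k % 240))) = true := by decide +kernel
theorem e8Ucolb_12_25245 : allRange 25245 25300 ((fun k => col2OK Cfsg.Lie.chevE8 hposE8 (k / 240) (k % 240))) = true := by decide +kernel
theorem e8Ucolb_12_25300 : allRange 25300 25355 ((fun k => col2OK Cfsg.Lie.chevE8 hposE8 (k / 240) (k % 240))) = true := by decide +kernel
theorem e8Ucolb_12_25355 : allRange 25355 25410 ((fun k => col2OK Cfsg.Lie.chevE8 hposE8 (k / 240) (k % 240))) = true := by decide +kernel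
theorem e8Ucolb_12_25410 : allRange 25410 25465 ((fun k => col2OK Cfsg.Lie.chevE8 hposE8 (k / 240) (k % 240))) = true := by decide +kernel
theorem e8Ucolb_12_25465 : allRange 25465 25520 ((fun k => col2OK Cfsg.Lie.chevE8 hposE8 (k / 240) (k % 240))) = true := by decide +kernel
theorem e8Ucolb_12_25520 : allRange 25520 25575 ((fun k => col2OK Cfsg.Lie.chevE8 hposE8 (k / 240) (k % 240))) = true := by decide +kernel
theorem e8Ucolb_12_25575 : allRange 25575 25630 ((fun k => col2OK Cfsg.Lie.chevE8 hposE8 (k / 240) (k % 240))) = true := by decide +kernel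
theorem e8Ucolb_12_25630 : allRange 25630 25685 ((fun k => col2OK Cfsg.Lie.chevE8 hposE8 (k / 240) (k % 240))) = true := by decide +kernel
theorem e8Ucolb_12_25685 : allRange 25685 25740 ((fun k => col2OK Cfsg.Lie.chevE8 hposE8 (k / 240) (k % 240))) = true := by decide +kernel
theorem e8Ucolb_12_25740 : allRange 25740 25795 ((fun k => col2OK Cfsg.Lie.chevE8 hposE8 (k / 240) (k % 240))) = true := by decide +kernel
theorem e8Ucolb_12_25795 : allRange 25795 25850 ((fun k => col2OK Cfsg.Lie.chevE8 hposE8 (k / 240) (k % 240))) = true := by decide +kernel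
theorem e8Ucolb_12_25850 : allRange 25850 25905 ((fun k => col2OK Cfsg.Lie.chevE8 hposE8 (k / 240) (k % 240))) = true := by decide +kernel
theorem e8Ucolb_12_25905 : allRange 25905 25960 ((fun k => col2OK Cfsg.Lie.chevE8 hposE8 (k / 240) (k % 240))) = true := by decide +kernel
theorem e8Ucolb_12_25960 : allRange 25960 26015 ((fun k => col2OK Cfsg.Lie.chevE8 hposE8 (k / 240) (k % 240))) = true := by decide +kernel
theorem e8Ucolb_12_26015 : allRange 26015 26070 ((fun k => col2OK Cfsg.Lie.chevE8 hposE8 (k / 240) (k % 240))) = true := by decide +kernel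
theorem e8Ucolb_12_26070 : allRange 26070 26125 ((fun k => col2OK Cfsg.Lie.chevE8 hposE8 (k / 240) (k % 240))) = true := by decide +kernel
theorem e8Ucolb_12_26125 : allRange 26125 26180 ((fun k => col2OK Cfsg.Lie.chevE8 hposE8 (k / 240) (k % 240))) = true := by decide +kernel
theorem e8Ucolb_12_26180 : allRange 26180 26235 ((fun k => col2OK Cfsg.Lie.chevE8 hposE8 (k / 240) (k % 240))) = true := by decide +kernel
theorem e8Ucolb_12_26235 : allRange 26235 26290 ((fun k => col2OK Cfsg.Lie.chevE8 hposE8 (k / 240) (k % 240))) = true := by decide +kernel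
theorem e8Ucolb_12_26290 : allRange 26290 26345 ((fun k => col2OK Cfsg.Lie.chevE8 hposE8 (k / 240) (k % 240))) = true := by decide +kernel
theorem e8Ucolb_12_26345 : allRange 26345 26400 ((fun k => col2OK Cfsg.Lie.chevE8 hposE8 (k / 240) (k % 240))) = true := by decide +kernel
theorem e8Ucolb_12_26400 : allRange 26400 26455 ((fun k => col2OK Cfsg.Lie.chevE8 hposE8 (k / 240) (k % 240))) = true := by decide +kernel

/-- The terms of the commutator formula of type E8 lie higher than the second root (roots 24420 to 26454). -/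
theorem e8Ucolb_12 : ∀ r, 24420 ≤ r → r < 26455 → ((fun k => col2OK Cfsg.Lie.chevE8 hposE8 (k / 240) (k % 240))) r = true := by
  intro r h1 h2
  by_cases c0 : r < 24475
  · exact allRange_spec e8Ucolb_12_24420 r (by omega) c0
  by_cases c1 : r < 24530
  · exact allRange_spec e8Ucolb_12_24475 r (by omega) c1
  by_cases c2 : r < 24585
  · exact allRange_spec e8Ucolb_12_24530 r (by omega) c2
  by_cases c3 : r < 24640
  · exact allRange_spec e8Ucolb_12_24585 r (by omega) c3
  by_cases c4 : r < 24695
  · exact allRange_spec e8Ucolb_12_24640 r (by omega) c4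
  by_cases c5 : r < 24750
  · exact allRange_spec e8Ucolb_12_24695 r (by omega) c5
  by_cases c6 : r < 24805
  · exact allRange_spec e8Ucolb_12_24750 r (by omega) c6
  by_cases c7 : r < 24860
  · exact allRange_spec e8Ucolb_12_24805 r (by omega) c7
  by_cases c8 : r < 24915
  · exact allRange_spec e8Ucolb_12_24860 r (by omega) c8
  by_cases c9 : r < 24970
  · exact allRange_spec e8Ucolb_12_24915 r (by omega) c9
  by_cases c10 : r < 25025
  · exact allRange_spec e8Ucolb_12_24970 r (by omega) c10
  by_cases c11 : r < 25080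
  · exact allRange_spec e8Ucolb_12_25025 r (by omega) c11
  by_cases c12 : r < 25135
  · exact allRange_spec e8Ucolb_12_25080 r (by omega) c12
  by_cases c13 : r < 25190
  · exact allRange_spec e8Ucolb_12_25135 r (by omega) c13
  by_cases c14 : r < 25245
  · exact allRange_spec e8Ucolb_12_25190 r (by omega) c14
  by_cases c15 : r < 25300
  · exact allRange_spec e8Ucolb_12_25245 r (by omega) c15
  by_cases c16 : r < 25355
  · exact allRange_spec e8Ucolb_12_25300 r (by omega) c16
  by_cases c17 : r < 25410
  · exact allRange_spec e8Ucolb_12_25355 r (by omega) c17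
  by_cases c18 : r < 25465
  · exact allRange_spec e8Ucolb_12_25410 r (by omega) c18
  by_cases c19 : r < 25520
  · exact allRange_spec e8Ucolb_12_25465 r (by omega) c19
  by_cases c20 : r < 25575
  · exact allRange_spec e8Ucolb_12_25520 r (by omega) c20
  by_cases c21 : r < 25630
  · exact allRange_spec e8Ucolb_12_25575 r (by omega) c21
  by_cases c22 : r < 25685
  · exact allRange_spec e8Ucolb_12_25630 r (by omega) c22
  by_cases c23 : r < 25740
  · exact allRange_spec e8Ucolb_12_25685 r (by omega) c23
  by_cases c24 : r < 25795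
  · exact allRange_spec e8Ucolb_12_25740 r (by omega) c24
  by_cases c25 : r < 25850
  · exact allRange_spec e8Ucolb_12_25795 r (by omega) c25
  by_cases c26 : r < 25905
  · exact allRange_spec e8Ucolb_12_25850 r (by omega) c26
  by_cases c27 : r < 25960
  · exact allRange_spec e8Ucolb_12_25905 r (by omega) c27
  by_cases c28 : r < 26015
  · exact allRange_spec e8Ucolb_12_25960 r (by omega) c28
  by_cases c29 : r < 26070
  · exact allRange_spec e8Ucolb_12_26015 r (by omega) c29
  by_cases c30 : r < 26125
  · exact allRange_spec e8Ucolb_12_26070 r (by omega) c30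
  by_cases c31 : r < 26180
  · exact allRange_spec e8Ucolb_12_26125 r (by omega) c31
  by_cases c32 : r < 26235
  · exact allRange_spec e8Ucolb_12_26180 r (by omega) c32
  by_cases c33 : r < 26290
  · exact allRange_spec e8Ucolb_12_26235 r (by omega) c33
  by_cases c34 : r < 26345
  · exact allRange_spec e8Ucolb_12_26290 r (by omega) c34
  by_cases c35 : r < 26400
  · exact allRange_spec e8Ucolb_12_26345 r (by omega) c35
  exact allRange_spec e8Ucolb_12_26400 r (by omega) h2

end Cfsg.Agent.Lib.Helper3.ChevM
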