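import Cfsg.Prelude.Def_ChevE8
import Cfsg.Agent.Lib.Helper3.ChevData.E8Uni
import Cfsg.Agent.Lib.Helper3.StU10
set_option autoImplicit false
set_option maxRecDepth 1000000
set_option Elab.async false

namespace Cfsg.Agent.Lib.Helper3.ChevM
open Cfsg.Agent.Lib.Helper3.StB Cfsg.Agent.Lib.Helper3.StU

theorem e8Ucolb_15_30525 : allRange 30525 30580 ((fun k => col2OK Cfsg.Lie.chevE8 hposE8 (k / 240) (k % 240))) = true := by decide +kernel
theorem e8Ucolb_15_30580 : allRange 30580 30635 ((fun k => col2OK Cfsg.Lie.chevE8 hposE8 (k / 240) (k % 240))) = true := by decide +kernel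
theorem e8Ucolb_15_30635 : allRange 30635 30690 ((fun k => col2OK Cfsg.Lie.chevE8 hposE8 (k / 240) (k % 240))) = true := by decide +kernel
theorem e8Ucolb_15_30690 : allRange 30690 30745 ((fun k => col2OK Cfsg.Lie.chevE8 hposE8 (k / 240) (k % 240))) = true := by decide +kernel
theorem e8Ucolb_15_30745 : allRange 30745 30800 ((fun k => col2OK Cfsg.Lie.chevE8 hposE8 (k / 240) (k % 240))) = true := by decide +kernel
theorem e8Ucolb_15_30800 : allRange 30800 30855 ((fun k => col2OK Cfsg.Lie.chevE8 hposE8 (k / 240) (k % 240))) = true := by decide +kernel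
theorem e8Ucolb_15_30855 : allRange 30855 30910 ((fun k => col2OK Cfsg.Lie.chevE8 hposE8 (k / 240) (k % 240))) = true := by decide +kernel
theorem e8Ucolb_15_30910 : allRange 30910 30965 ((fun k => col2OK Cfsg.Lie.chevE8 hposE8 (k / 240) (k % 240))) = true := by decide +kernel
theorem e8Ucolb_15_30965 : allRange 30965 31020 ((fun k => col2OK Cfsg.Lie.chevE8 hposE8 (k / 240) (k % 240))) = true := by decide +kernel
theorem e8Ucolb_15_31020 : allRange 31020 31075 ((fun k => col2OK Cfsg.Lie.chevE8 hposE8 (k / 240) (k % 240))) = true := by decide +kernel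
theorem e8Ucolb_15_31075 : allRange 31075 31130 ((fun k => col2OK Cfsg.Lie.chevE8 hposE8 (k / 240) (k % 240))) = true := by decide +kernel
theorem e8Ucolb_15_31130 : allRange 31130 31185 ((fun k => col2OK Cfsg.Lie.chevE8 hposE8 (k / 240) (k % 240))) = true := by decide +kernel
theorem e8Ucolb_15_31185 : allRange 31185 31240 ((fun k => col2OK Cfsg.Lie.chevE8 hposE8 (k / 240) (k % 240))) = true := by decide +kernel
theorem e8Ucolb_15_31240 : allRange 31240 31295 ((fun k => col2OK Cfsg.Lie.chevE8 hposE8 (k / 240) (k % 240))) = true := by decide +kernel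
theorem e8Ucolb_15_31295 : allRange 31295 31350 ((fun k => col2OK Cfsg.Lie.chevE8 hposE8 (k / 240) (k % 240))) = true := by decide +kernel
theorem e8Ucolb_15_31350 : allRange 31350 31405 ((fun k => col2OK Cfsg.Lie.chevE8 hposE8 (k / 240) (k % 240))) = true := by decide +kernel
theorem e8Ucolb_15_31405 : allRange 31405 31460 ((fun k => col2OK Cfsg.Lie.chevE8 hposE8 (k / 240) (k % 240))) = true := by decide +kernel
theorem e8Ucolb_15_31460 : allRange 31460 31515 ((fun k => col2OK Cfsg.Lie.chevE8 hposE8 (k / 240) (k % 240))) = true := by decide +kernel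
theorem e8Ucolb_15_31515 : allRange 31515 31570 ((fun k => col2OK Cfsg.Lie.chevE8 hposE8 (k / 240) (k % 240))) = true := by decide +kernel
theorem e8Ucolb_15_31570 : allRange 31570 31625 ((fun k => col2OK Cfsg.Lie.chevE8 hposE8 (k / 240) (k % 240))) = true := by decide +kernel
theorem e8Ucolb_15_31625 : allRange 31625 31680 ((fun k => col2OK Cfsg.Lie.chevE8 hposE8 (k / 240) (k % 240))) = true := by decide +kernel
theorem e8Ucolb_15_31680 : allRange 31680 31735 ((fun k => col2OK Cfsg.Lie.chevE8 hposE8 (k / 240) (k % 240))) = true := by decide +kernel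
theorem e8Ucolb_15_31735 : allRange 31735 31790 ((fun k => col2OK Cfsg.Lie.chevE8 hposE8 (k / 240) (k % 240))) = true := by decide +kernel
theorem e8Ucolb_15_31790 : allRange 31790 31845 ((fun k => col2OK Cfsg.Lie.chevE8 hposE8 (k / 240) (k % 240))) = true := by decide +kernel
theorem e8Ucolb_15_31845 : allRange 31845 31900 ((fun k => col2OK Cfsg.Lie.chevE8 hposE8 (k / 240) (k % 240))) = true := by decide +kernel
theorem e8Ucolb_15_31900 : allRange 31900 31955 ((fun k => col2OK Cfsg.Lie.chevE8 hposE8 (k / 240) (k % 240))) = true := by decide +kernel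
theorem e8Ucolb_15_31955 : allRange 31955 32010 ((fun k => col2OK Cfsg.Lie.chevE8 hposE8 (k / 240) (k % 240))) = true := by decide +kernel
theorem e8Ucolb_15_32010 : allRange 32010 32065 ((fun k => col2OK Cfsg.Lie.chevE8 hposE8 (k / 240) (k % 240))) = true := by decide +kernel
theorem e8Ucolb_15_32065 : allRange 32065 32120 ((fun k => col2OK Cfsg.Lie.chevE8 hposE8 (k / 240) (k % 240))) = true := by decide +kernel
theorem e8Ucolb_15_32120 : allRange 32120 32175 ((fun k => col2OK Cfsg.Lie.chevE8 hposE8 (k / 240) (k % 240))) = true := by decide +kernel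
theorem e8Ucolb_15_32175 : allRange 32175 32230 ((fun k => col2OK Cfsg.Lie.chevE8 hposE8 (k / 240) (k % 240))) = true := by decide +kernel
theorem e8Ucolb_15_32230 : allRange 32230 32285 ((fun k => col2OK Cfsg.Lie.chevE8 hposE8 (k / 240) (k % 240))) = true := by decide +kernel
theorem e8Ucolb_15_32285 : allRange 32285 32340 ((fun k => col2OK Cfsg.Lie.chevE8 hposE8 (k / 240) (k % 240))) = true := by decide +kernel
theorem e8Ucolb_15_32340 : allRange 32340 32395 ((fun k => col2OK Cfsg.Lie.chevE8 hposE8 (k / 240) (k % 240))) = true := by decide +kernel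
theorem e8Ucolb_15_32395 : allRange 32395 32450 ((fun k => col2OK Cfsg.Lie.chevE8 hposE8 (k / 240) (k % 240))) = true := by decide +kernel
theorem e8Ucolb_15_32450 : allRange 32450 32505 ((fun k => col2OK Cfsg.Lie.chevE8 hposE8 (k / 240) (k % 240))) = true := by decide +kernel
theorem e8Ucolb_15_32505 : allRange 32505 32560 ((fun k => col2OK Cfsg.Lie.chevE8 hposE8 (k / 240) (k % 240))) = true := by decide +kernel

/-- The terms of the commutator formula of type E8 lie higher than the second root (roots 30525 to 32559). -/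
theorem e8Ucolb_15 : ∀ r, 30525 ≤ r → r < 32560 → ((fun k => col2OK Cfsg.Lie.chevE8 hposE8 (k / 240) (k % 240))) r = true := by
  intro r h1 h2
  by_cases c0 : r < 30580
  · exact allRange_spec e8Ucolb_15_30525 r (by omega) c0
  by_cases c1 : r < 30635
  · exact allRange_spec e8Ucolb_15_30580 r (by omega) c1
  by_cases c2 : r < 30690
  · exact allRange_spec e8Ucolb_15_30635 r (by omega) c2
  by_cases c3 : r < 30745
  · exact allRange_spec e8Ucolb_15_30690 r (by omega) c3
  by_cases c4 : r < 30800
  · exact allRange_spec e8Ucolb_15_30745 r (by omega) c4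
  by_cases c5 : r < 30855
  · exact allRange_spec e8Ucolb_15_30800 r (by omega) c5
  by_cases c6 : r < 30910
  · exact allRange_spec e8Ucolb_15_30855 r (by omega) c6
  by_cases c7 : r < 30965
  · exact allRange_spec e8Ucolb_15_30910 r (by omega) c7
  by_cases c8 : r < 31020
  · exact allRange_spec e8Ucolb_15_30965 r (by omega) c8
  by_cases c9 : r < 31075
  · exact allRange_spec e8Ucolb_15_31020 r (by omega) c9
  by_cases c10 : r < 31130
  · exact allRange_spec e8Ucolb_15_31075 r (by omega) c10
  by_cases c11 : r < 31185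
  · exact allRange_spec e8Ucolb_15_31130 r (by omega) c11
  by_cases c12 : r < 31240
  · exact allRange_spec e8Ucolb_15_31185 r (by omega) c12
  by_cases c13 : r < 31295
  · exact allRange_spec e8Ucolb_15_31240 r (by omega) c13
  by_cases c14 : r < 31350
  · exact allRange_spec e8Ucolb_15_31295 r (by omega) c14
  by_cases c15 : r < 31405
  · exact allRange_spec e8Ucolb_15_31350 r (by omega) c15
  by_cases c16 : r < 31460
  · exact allRange_spec e8Ucolb_15_31405 r (by omega) c16
  by_cases c17 : r < 31515
  · exact allRange_spec e8Ucolb_15_31460 r (by omega) c17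
  by_cases c18 : r < 31570
  · exact allRange_spec e8Ucolb_15_31515 r (by omega) c18
  by_cases c19 : r < 31625
  · exact allRange_spec e8Ucolb_15_31570 r (by omega) c19
  by_cases c20 : r < 31680
  · exact allRange_spec e8Ucolb_15_31625 r (by omega) c20
  by_cases c21 : r < 31735
  · exact allRange_spec e8Ucolb_15_31680 r (by omega) c21
  by_cases c22 : r < 31790
  · exact allRange_spec e8Ucolb_15_31735 r (by omega) c22
  by_cases c23 : r < 31845
  · exact allRange_spec e8Ucolb_15_31790 r (by omega) c23
  by_cases c24 : r < 31900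
  · exact allRange_spec e8Ucolb_15_31845 r (by omega) c24
  by_cases c25 : r < 31955
  · exact allRange_spec e8Ucolb_15_31900 r (by omega) c25
  by_cases c26 : r < 32010
  · exact allRange_spec e8Ucolb_15_31955 r (by omega) c26
  by_cases c27 : r < 32065
  · exact allRange_spec e8Ucolb_15_32010 r (by omega) c27
  by_cases c28 : r < 32120
  · exact allRange_spec e8Ucolb_15_32065 r (by omega) c28
  by_cases c29 : r < 32175
  · exact allRange_spec e8Ucolb_15_32120 r (by omega) c29
  by_cases c30 : r < 32230
  · exact allRange_spec e8Ucolb_15_32175 r (by omega) c30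
  by_cases c31 : r < 32285
  · exact allRange_spec e8Ucolb_15_32230 r (by omega) c31
  by_cases c32 : r < 32340
  · exact allRange_spec e8Ucolb_15_32285 r (by omega) c32
  by_cases c33 : r < 32395
  · exact allRange_spec e8Ucolb_15_32340 r (by omega) c33
  by_cases c34 : r < 32450
  · exact allRange_spec e8Ucolb_15_32395 r (by omega) c34
  by_cases c35 : r < 32505
  · exact allRange_spec e8Ucolb_15_32450 r (by omega) c35
  exact allRange_spec e8Ucolb_15_32505 r (by omega) h2

end Cfsg.Agent.Lib.Helper3.ChevM
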