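import Cfsg.Prelude.Def_ChevE8
import Cfsg.Agent.Lib.Helper3.ChevData.E8Uni
import Cfsg.Agent.Lib.Helper3.StU10
set_option autoImplicit false
set_option maxRecDepth 1000000
set_option Elab.async false

namespace Cfsg.Agent.Lib.Helper3.ChevM
open Cfsg.Agent.Lib.Helper3.StB Cfsg.Agent.Lib.Helper3.StU

theorem e8Ucolb_16_32560 : allRange 32560 32615 ((fun k => col2OK Cfsg.Lie.chevE8 hposE8 (k / 240) (k % 240))) = true := by decide +kernel
theorem e8Ucolb_16_32615 : allRange 32615 32670 ((fun k => col2OK Cfsg.Lie.chevE8 hposE8 (k / 240) (k % 240))) = true := by decide +kernel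
theorem e8Ucolb_16_32670 : allRange 32670 32725 ((fun k => col2OK Cfsg.Lie.chevE8 hposE8 (k / 240) (k % 240))) = true := by decide +kernel
theorem e8Ucolb_16_32725 : allRange 32725 32780 ((fun k => col2OK Cfsg.Lie.chevE8 hposE8 (k / 240) (k % 240))) = true := by decide +kernel
theorem e8Ucolb_16_32780 : allRange 32780 32835 ((fun k => col2OK Cfsg.Lie.chevE8 hposE8 (k / 240) (k % 240))) = true := by decide +kernel
theorem e8Ucolb_16_32835 : allRange 32835 32890 ((fun k => col2OK Cfsg.Lie.chevE8 hposE8 (k / 240) (k % 240))) = true := by decide +kernel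
theorem e8Ucolb_16_32890 : allRange 32890 32945 ((fun k => col2OK Cfsg.Lie.chevE8 hposE8 (k / 240) (k % 240))) = true := by decide +kernel
theorem e8Ucolb_16_32945 : allRange 32945 33000 ((fun k => col2OK Cfsg.Lie.chevE8 hposE8 (k / 240) (k % 240))) = true := by decide +kernel
theorem e8Ucolb_16_33000 : allRange 33000 33055 ((fun k => col2OK Cfsg.Lie.chevE8 hposE8 (k / 240) (k % 240))) = true := by decide +kernel
theorem e8Ucolb_16_33055 : allRange 33055 33110 ((fun k => col2OK Cfsg.Lie.chevE8 hposE8 (k / 240) (k % 240))) = true := by decide +kernel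
theorem e8Ucolb_16_33110 : allRange 33110 33165 ((fun k => col2OK Cfsg.Lie.chevE8 hposE8 (k / 240) (k % 240))) = true := by decide +kernel
theorem e8Ucolb_16_33165 : allRange 33165 33220 ((fun k => col2OK Cfsg.Lie.chevE8 hposE8 (k / 240) (k % 240))) = true := by decide +kernel
theorem e8Ucolb_16_33220 : allRange 33220 33275 ((fun k => col2OK Cfsg.Lie.chevE8 hposE8 (k / 240) (k % 240))) = true := by decide +kernel
theorem e8Ucolb_16_33275 : allRange 33275 33330 ((fun k => col2OK Cfsg.Lie.chevE8 hposE8 (k / 240) (k % 240))) = true := by decide +kernel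
theorem e8Ucolb_16_33330 : allRange 33330 33385 ((fun k => col2OK Cfsg.Lie.chevE8 hposE8 (k / 240) (k % 240))) = true := by decide +kernel
theorem e8Ucolb_16_33385 : allRange 33385 33440 ((fun k => col2OK Cfsg.Lie.chevE8 hposE8 (k / 240) (k % 240))) = true := by decide +kernel
theorem e8Ucolb_16_33440 : allRange 33440 33495 ((fun k => col2OK Cfsg.Lie.chevE8 hposE8 (k / 240) (k % 240))) = true := by decide +kernel
theorem e8Ucolb_16_33495 : allRange 33495 33550 ((fun k => col2OK Cfsg.Lie.chevE8 hposE8 (k / 240) (k % 240))) = true := by decide +kernel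
theorem e8Ucolb_16_33550 : allRange 33550 33605 ((fun k => col2OK Cfsg.Lie.chevE8 hposE8 (k / 240) (k % 240))) = true := by decide +kernel
theorem e8Ucolb_16_33605 : allRange 33605 33660 ((fun k => col2OK Cfsg.Lie.chevE8 hposE8 (k / 240) (k % 240))) = true := by decide +kernel
theorem e8Ucolb_16_33660 : allRange 33660 33715 ((fun k => col2OK Cfsg.Lie.chevE8 hposE8 (k / 240) (k % 240))) = true := by decide +kernel
theorem e8Ucolb_16_33715 : allRange 33715 33770 ((fun k => col2OK Cfsg.Lie.chevE8 hposE8 (k / 240) (k % 240))) = true := by decide +kernel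
theorem e8Ucolb_16_33770 : allRange 33770 33825 ((fun k => col2OK Cfsg.Lie.chevE8 hposE8 (k / 240) (k % 240))) = true := by decide +kernel
theorem e8Ucolb_16_33825 : allRange 33825 33880 ((fun k => col2OK Cfsg.Lie.chevE8 hposE8 (k / 240) (k % 240))) = true := by decide +kernel
theorem e8Ucolb_16_33880 : allRange 33880 33935 ((fun k => col2OK Cfsg.Lie.chevE8 hposE8 (k / 240) (k % 240))) = true := by decide +kernel
theorem e8Ucolb_16_33935 : allRange 33935 33990 ((fun k => col2OK Cfsg.Lie.chevE8 hposE8 (k / 240) (k % 240))) = true := by decide +kernel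
theorem e8Ucolb_16_33990 : allRange 33990 34045 ((fun k => col2OK Cfsg.Lie.chevE8 hposE8 (k / 240) (k % 240))) = true := by decide +kernel
theorem e8Ucolb_16_34045 : allRange 34045 34100 ((fun k => col2OK Cfsg.Lie.chevE8 hposE8 (k / 240) (k % 240))) = true := by decide +kernel
theorem e8Ucolb_16_34100 : allRange 34100 34155 ((fun k => col2OK Cfsg.Lie.chevE8 hposE8 (k / 240) (k % 240))) = true := by decide +kernel
theorem e8Ucolb_16_34155 : allRange 34155 34210 ((fun k => col2OK Cfsg.Lie.chevE8 hposE8 (k / 240) (k % 240))) = true := by decide +kernel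
theorem e8Ucolb_16_34210 : allRange 34210 34265 ((fun k => col2OK Cfsg.Lie.chevE8 hposE8 (k / 240) (k % 240))) = true := by decide +kernel
theorem e8Ucolb_16_34265 : allRange 34265 34320 ((fun k => col2OK Cfsg.Lie.chevE8 hposE8 (k / 240) (k % 240))) = true := by decide +kernel
theorem e8Ucolb_16_34320 : allRange 34320 34375 ((fun k => col2OK Cfsg.Lie.chevE8 hposE8 (k / 240) (k % 240))) = true := by decide +kernel
theorem e8Ucolb_16_34375 : allRange 34375 34430 ((fun k => col2OK Cfsg.Lie.chevE8 hposE8 (k / 240) (k % 240))) = true := by decide +kernel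
theorem e8Ucolb_16_34430 : allRange 34430 34485 ((fun k => col2OK Cfsg.Lie.chevE8 hposE8 (k / 240) (k % 240))) = true := by decide +kernel
theorem e8Ucolb_16_34485 : allRange 34485 34540 ((fun k => col2OK Cfsg.Lie.chevE8 hposE8 (k / 240) (k % 240))) = true := by decide +kernel
theorem e8Ucolb_16_34540 : allRange 34540 34595 ((fun k => col2OK Cfsg.Lie.chevE8 hposE8 (k / 240) (k % 240))) = true := by decide +kernel

/-- The terms of the commutator formula of type E8 lie higher than the second root (roots 32560 to 34594). -/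
theorem e8Ucolb_16 : ∀ r, 32560 ≤ r → r < 34595 → ((fun k => col2OK Cfsg.Lie.chevE8 hposE8 (k / 240) (k % 240))) r = true := by
  intro r h1 h2
  by_cases c0 : r < 32615
  · exact allRange_spec e8Ucolb_16_32560 r (by omega) c0
  by_cases c1 : r < 32670
  · exact allRange_spec e8Ucolb_16_32615 r (by omega) c1
  by_cases c2 : r < 32725
  · exact allRange_spec e8Ucolb_16_32670 r (by omega) c2
  by_cases c3 : r < 32780
  · exact allRange_spec e8Ucolb_16_32725 r (by omega) c3
  by_cases c4 : r < 32835
  · exact allRange_spec e8Ucolb_16_32780 r (by omega) c4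
  by_cases c5 : r < 32890
  · exact allRange_spec e8Ucolb_16_32835 r (by omega) c5
  by_cases c6 : r < 32945
  · exact allRange_spec e8Ucolb_16_32890 r (by omega) c6
  by_cases c7 : r < 33000
  · exact allRange_spec e8Ucolb_16_32945 r (by omega) c7
  by_cases c8 : r < 33055
  · exact allRange_spec e8Ucolb_16_33000 r (by omega) c8
  by_cases c9 : r < 33110
  · exact allRange_spec e8Ucolb_16_33055 r (by omega) c9
  by_cases c10 : r < 33165
  · exact allRange_spec e8Ucolb_16_33110 r (by omega) c10
  by_cases c11 : r < 33220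
  · exact allRange_spec e8Ucolb_16_33165 r (by omega) c11
  by_cases c12 : r < 33275
  · exact allRange_spec e8Ucolb_16_33220 r (by omega) c12
  by_cases c13 : r < 33330
  · exact allRange_spec e8Ucolb_16_33275 r (by omega) c13
  by_cases c14 : r < 33385
  · exact allRange_spec e8Ucolb_16_33330 r (by omega) c14
  by_cases c15 : r < 33440
  · exact allRange_spec e8Ucolb_16_33385 r (by omega) c15
  by_cases c16 : r < 33495
  · exact allRange_spec e8Ucolb_16_33440 r (by omega) c16
  by_cases c17 : r < 33550
  · exact allRange_spec e8Ucolb_16_33495 r (by omega) c17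
  by_cases c18 : r < 33605
  · exact allRange_spec e8Ucolb_16_33550 r (by omega) c18
  by_cases c19 : r < 33660
  · exact allRange_spec e8Ucolb_16_33605 r (by omega) c19
  by_cases c20 : r < 33715
  · exact allRange_spec e8Ucolb_16_33660 r (by omega) c20
  by_cases c21 : r < 33770
  · exact allRange_spec e8Ucolb_16_33715 r (by omega) c21
  by_cases c22 : r < 33825
  · exact allRange_spec e8Ucolb_16_33770 r (by omega) c22
  by_cases c23 : r < 33880
  · exact allRange_spec e8Ucolb_16_33825 r (by omega) c23
  by_cases c24 : r < 33935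
  · exact allRange_spec e8Ucolb_16_33880 r (by omega) c24
  by_cases c25 : r < 33990
  · exact allRange_spec e8Ucolb_16_33935 r (by omega) c25
  by_cases c26 : r < 34045
  · exact allRange_spec e8Ucolb_16_33990 r (by omega) c26
  by_cases c27 : r < 34100
  · exact allRange_spec e8Ucolb_16_34045 r (by omega) c27
  by_cases c28 : r < 34155
  · exact allRange_spec e8Ucolb_16_34100 r (by omega) c28
  by_cases c29 : r < 34210
  · exact allRange_spec e8Ucolb_16_34155 r (by omega) c29
  by_cases c30 : r < 34265
  · exact allRange_spec e8Ucolb_16_34210 r (by omega) c30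
  by_cases c31 : r < 34320
  · exact allRange_spec e8Ucolb_16_34265 r (by omega) c31
  by_cases c32 : r < 34375
  · exact allRange_spec e8Ucolb_16_34320 r (by omega) c32
  by_cases c33 : r < 34430
  · exact allRange_spec e8Ucolb_16_34375 r (by omega) c33
  by_cases c34 : r < 34485
  · exact allRange_spec e8Ucolb_16_34430 r (by omega) c34
  by_cases c35 : r < 34540
  · exact allRange_spec e8Ucolb_16_34485 r (by omega) c35
  exact allRange_spec e8Ucolb_16_34540 r (by omega) h2

end Cfsg.Agent.Lib.Helper3.ChevM
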