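import Cfsg.Prelude.Def_ChevE8
import Cfsg.Agent.Lib.Helper3.ChevData.E8Uni
import Cfsg.Agent.Lib.Helper3.StU10
set_option autoImplicit false
set_option maxRecDepth 1000000
set_option Elab.async false

namespace Cfsg.Agent.Lib.Helper3.ChevM
open Cfsg.Agent.Lib.Helper3.StB Cfsg.Agent.Lib.Helper3.StU

theorem e8Ucolb_17_34595 : allRange 34595 34650 ((fun k => col2OK Cfsg.Lie.chevE8 hposE8 (k / 240) (k % 240))) = true := by decide +kernel
theorem e8Ucolb_17_34650 : allRange 34650 34705 ((fun k => col2OK Cfsg.Lie.chevE8 hposE8 (k / 240) (k % 240))) = true := by decide +kernel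
theorem e8Ucolb_17_34705 : allRange 34705 34760 ((fun k => col2OK Cfsg.Lie.chevE8 hposE8 (k / 240) (k % 240))) = true := by decide +kernel
theorem e8Ucolb_17_34760 : allRange 34760 34815 ((fun k => col2OK Cfsg.Lie.chevE8 hposE8 (k / 240) (k % 240))) = true := by decide +kernel
theorem e8Ucolb_17_34815 : allRange 34815 34870 ((fun k => col2OK Cfsg.Lie.chevE8 hposE8 (k / 240) (k % 240))) = true := by decide +kernel
theorem e8Ucolb_17_34870 : allRange 34870 34925 ((fun k => col2OK Cfsg.Lie.chevE8 hposE8 (k / 240) (k % 240))) = true := by decide +kernel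
theorem e8Ucolb_17_34925 : allRange 34925 34980 ((fun k => col2OK Cfsg.Lie.chevE8 hposE8 (k / 240) (k % 240))) = true := by decide +kernel
theorem e8Ucolb_17_34980 : allRange 34980 35035 ((fun k => col2OK Cfsg.Lie.chevE8 hposE8 (k / 240) (k % 240))) = true := by decide +kernel
theorem e8Ucolb_17_35035 : allRange 35035 35090 ((fun k => col2OK Cfsg.Lie.chevE8 hposE8 (k / 240) (k % 240))) = true := by decide +kernel
theorem e8Ucolb_17_35090 : allRange 35090 35145 ((fun k => col2OK Cfsg.Lie.chevE8 hposE8 (k / 240) (k % 240))) = true := by decide +kernel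
theorem e8Ucolb_17_35145 : allRange 35145 35200 ((fun k => col2OK Cfsg.Lie.chevE8 hposE8 (k / 240) (k % 240))) = true := by decide +kernel
theorem e8Ucolb_17_35200 : allRange 35200 35255 ((fun k => col2OK Cfsg.Lie.chevE8 hposE8 (k / 240) (k % 240))) = true := by decide +kernel
theorem e8Ucolb_17_35255 : allRange 35255 35310 ((fun k => col2OK Cfsg.Lie.chevE8 hposE8 (k / 240) (k % 240))) = true := by decide +kernel
theorem e8Ucolb_17_35310 : allRange 35310 35365 ((fun k => col2OK Cfsg.Lie.chevE8 hposE8 (k / 240) (k % 240))) = true := by decide +kernel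
theorem e8Ucolb_17_35365 : allRange 35365 35420 ((fun k => col2OK Cfsg.Lie.chevE8 hposE8 (k / 240) (k % 240))) = true := by decide +kernel
theorem e8Ucolb_17_35420 : allRange 35420 35475 ((fun k => col2OK Cfsg.Lie.chevE8 hposE8 (k / 240) (k % 240))) = true := by decide +kernel
theorem e8Ucolb_17_35475 : allRange 35475 35530 ((fun k => col2OK Cfsg.Lie.chevE8 hposE8 (k / 240) (k % 240))) = true := by decide +kernel
theorem e8Ucolb_17_35530 : allRange 35530 35585 ((fun k => col2OK Cfsg.Lie.chevE8 hposE8 (k / 240) (k % 240))) = true := by decide +kernel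
theorem e8Ucolb_17_35585 : allRange 35585 35640 ((fun k => col2OK Cfsg.Lie.chevE8 hposE8 (k / 240) (k % 240))) = true := by decide +kernel
theorem e8Ucolb_17_35640 : allRange 35640 35695 ((fun k => col2OK Cfsg.Lie.chevE8 hposE8 (k / 240) (k % 240))) = true := by decide +kernel
theorem e8Ucolb_17_35695 : allRange 35695 35750 ((fun k => col2OK Cfsg.Lie.chevE8 hposE8 (k / 240) (k % 240))) = true := by decide +kernel
theorem e8Ucolb_17_35750 : allRange 35750 35805 ((fun k => col2OK Cfsg.Lie.chevE8 hposE8 (k / 240) (k % 240))) = true := by decide +kernel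
theorem e8Ucolb_17_35805 : allRange 35805 35860 ((fun k => col2OK Cfsg.Lie.chevE8 hposE8 (k / 240) (k % 240))) = true := by decide +kernel
theorem e8Ucolb_17_35860 : allRange 35860 35915 ((fun k => col2OK Cfsg.Lie.chevE8 hposE8 (k / 240) (k % 240))) = true := by decide +kernel
theorem e8Ucolb_17_35915 : allRange 35915 35970 ((fun k => col2OK Cfsg.Lie.chevE8 hposE8 (k / 240) (k % 240))) = true := by decide +kernel
theorem e8Ucolb_17_35970 : allRange 35970 36025 ((fun k => col2OK Cfsg.Lie.chevE8 hposE8 (k / 240) (k % 240))) = true := by decide +kernel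
theorem e8Ucolb_17_36025 : allRange 36025 36080 ((fun k => col2OK Cfsg.Lie.chevE8 hposE8 (k / 240) (k % 240))) = true := by decide +kernel
theorem e8Ucolb_17_36080 : allRange 36080 36135 ((fun k => col2OK Cfsg.Lie.chevE8 hposE8 (k / 240) (k % 240))) = true := by decide +kernel
theorem e8Ucolb_17_36135 : allRange 36135 36190 ((fun k => col2OK Cfsg.Lie.chevE8 hposE8 (k / 240) (k % 240))) = true := by decide +kernel
theorem e8Ucolb_17_36190 : allRange 36190 36245 ((fun k => col2OK Cfsg.Lie.chevE8 hposE8 (k / 240) (k % 240))) = true := by decide +kernel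
theorem e8Ucolb_17_36245 : allRange 36245 36300 ((fun k => col2OK Cfsg.Lie.chevE8 hposE8 (k / 240) (k % 240))) = true := by decide +kernel
theorem e8Ucolb_17_36300 : allRange 36300 36355 ((fun k => col2OK Cfsg.Lie.chevE8 hposE8 (k / 240) (k % 240))) = true := by decide +kernel
theorem e8Ucolb_17_36355 : allRange 36355 36410 ((fun k => col2OK Cfsg.Lie.chevE8 hposE8 (k / 240) (k % 240))) = true := by decide +kernel
theorem e8Ucolb_17_36410 : allRange 36410 36465 ((fun k => col2OK Cfsg.Lie.chevE8 hposE8 (k / 240) (k % 240))) = true := by decide +kernel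
theorem e8Ucolb_17_36465 : allRange 36465 36520 ((fun k => col2OK Cfsg.Lie.chevE8 hposE8 (k / 240) (k % 240))) = true := by decide +kernel
theorem e8Ucolb_17_36520 : allRange 36520 36575 ((fun k => col2OK Cfsg.Lie.chevE8 hposE8 (k / 240) (k % 240))) = true := by decide +kernel
theorem e8Ucolb_17_36575 : allRange 36575 36630 ((fun k => col2OK Cfsg.Lie.chevE8 hposE8 (k / 240) (k % 240))) = true := by decide +kernel

/-- The terms of the commutator formula of type E8 lie higher than the second root (roots 34595 to 36629). -/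
theorem e8Ucolb_17 : ∀ r, 34595 ≤ r → r < 36630 → ((fun k => col2OK Cfsg.Lie.chevE8 hposE8 (k / 240) (k % 240))) r = true := by
  intro r h1 h2
  by_cases c0 : r < 34650
  · exact allRange_spec e8Ucolb_17_34595 r (by omega) c0
  by_cases c1 : r < 34705
  · exact allRange_spec e8Ucolb_17_34650 r (by omega) c1
  by_cases c2 : r < 34760
  · exact allRange_spec e8Ucolb_17_34705 r (by omega) c2
  by_cases c3 : r < 34815
  · exact allRange_spec e8Ucolb_17_34760 r (by omega) c3
  by_cases c4 : r < 34870
  · exact allRange_spec e8Ucolb_17_34815 r (by omega) c4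
  by_cases c5 : r < 34925
  · exact allRange_spec e8Ucolb_17_34870 r (by omega) c5
  by_cases c6 : r < 34980
  · exact allRange_spec e8Ucolb_17_34925 r (by omega) c6
  by_cases c7 : r < 35035
  · exact allRange_spec e8Ucolb_17_34980 r (by omega) c7
  by_cases c8 : r < 35090
  · exact allRange_spec e8Ucolb_17_35035 r (by omega) c8
  by_cases c9 : r < 35145
  · exact allRange_spec e8Ucolb_17_35090 r (by omega) c9
  by_cases c10 : r < 35200
  · exact allRange_spec e8Ucolb_17_35145 r (by omega) c10
  by_cases c11 : r < 35255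
  · exact allRange_spec e8Ucolb_17_35200 r (by omega) c11
  by_cases c12 : r < 35310
  · exact allRange_spec e8Ucolb_17_35255 r (by omega) c12
  by_cases c13 : r < 35365
  · exact allRange_spec e8Ucolb_17_35310 r (by omega) c13
  by_cases c14 : r < 35420
  · exact allRange_spec e8Ucolb_17_35365 r (by omega) c14
  by_cases c15 : r < 35475
  · exact allRange_spec e8Ucolb_17_35420 r (by omega) c15
  by_cases c16 : r < 35530
  · exact allRange_spec e8Ucolb_17_35475 r (by omega) c16
  by_cases c17 : r < 35585
  · exact allRange_spec e8Ucolb_17_35530 r (by omega) c17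
  by_cases c18 : r < 35640
  · exact allRange_spec e8Ucolb_17_35585 r (by omega) c18
  by_cases c19 : r < 35695
  · exact allRange_spec e8Ucolb_17_35640 r (by omega) c19
  by_cases c20 : r < 35750
  · exact allRange_spec e8Ucolb_17_35695 r (by omega) c20
  by_cases c21 : r < 35805
  · exact allRange_spec e8Ucolb_17_35750 r (by omega) c21
  by_cases c22 : r < 35860
  · exact allRange_spec e8Ucolb_17_35805 r (by omega) c22
  by_cases c23 : r < 35915
  · exact allRange_spec e8Ucolb_17_35860 r (by omega) c23
  by_cases c24 : r < 35970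
  · exact allRange_spec e8Ucolb_17_35915 r (by omega) c24
  by_cases c25 : r < 36025
  · exact allRange_spec e8Ucolb_17_35970 r (by omega) c25
  by_cases c26 : r < 36080
  · exact allRange_spec e8Ucolb_17_36025 r (by omega) c26
  by_cases c27 : r < 36135
  · exact allRange_spec e8Ucolb_17_36080 r (by omega) c27
  by_cases c28 : r < 36190
  · exact allRange_spec e8Ucolb_17_36135 r (by omega) c28
  by_cases c29 : r < 36245
  · exact allRange_spec e8Ucolb_17_36190 r (by omega) c29
  by_cases c30 : r < 36300
  · exact allRange_spec e8Ucolb_17_36245 r (by omega) c30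
  by_cases c31 : r < 36355
  · exact allRange_spec e8Ucolb_17_36300 r (by omega) c31
  by_cases c32 : r < 36410
  · exact allRange_spec e8Ucolb_17_36355 r (by omega) c32
  by_cases c33 : r < 36465
  · exact allRange_spec e8Ucolb_17_36410 r (by omega) c33
  by_cases c34 : r < 36520
  · exact allRange_spec e8Ucolb_17_36465 r (by omega) c34
  by_cases c35 : r < 36575
  · exact allRange_spec e8Ucolb_17_36520 r (by omega) c35
  exact allRange_spec e8Ucolb_17_36575 r (by omega) h2

end Cfsg.Agent.Lib.Helper3.ChevM
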