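import Cfsg.Prelude.Def_ChevE8
import Cfsg.Agent.Lib.Helper3.ChevData.E8Uni
import Cfsg.Agent.Lib.Helper3.StU10
set_option autoImplicit false
set_option maxRecDepth 1000000
set_option Elab.async false

namespace Cfsg.Agent.Lib.Helper3.ChevM
open Cfsg.Agent.Lib.Helper3.StB Cfsg.Agent.Lib.Helper3.StU

theorem e8Ucolb_22_44770 : allRange 44770 44825 ((fun k => col2OK Cfsg.Lie.chevE8 hposE8 (k / 240) (k % 240))) = true := by decide +kernel
theorem e8Ucolb_22_44825 : allRange 44825 44880 ((fun k => col2OK Cfsg.Lie.chevE8 hposE8 (k / 240) (k % 240))) = true := by decide +kernel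
theorem e8Ucolb_22_44880 : allRange 44880 44935 ((fun k => col2OK Cfsg.Lie.chevE8 hposE8 (k / 240) (k % 240))) = true := by decide +kernel
theorem e8Ucolb_22_44935 : allRange 44935 44990 ((fun k => col2OK Cfsg.Lie.chevE8 hposE8 (k / 240) (k % 240))) = true := by decide +kernel
theorem e8Ucolb_22_44990 : allRange 44990 45045 ((fun k => col2OK Cfsg.Lie.chevE8 hposE8 (k / 240) (k % 240))) = true := by decide +kernel
theorem e8Ucolb_22_45045 : allRange 45045 45100 ((fun k => col2OK Cfsg.Lie.chevE8 hposE8 (k / 240) (k % 240))) = true := by decide +kernel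
theorem e8Ucolb_22_45100 : allRange 45100 45155 ((fun k => col2OK Cfsg.Lie.chevE8 hposE8 (k / 240) (k % 240))) = true := by decide +kernel
theorem e8Ucolb_22_45155 : allRange 45155 45210 ((fun k => col2OK Cfsg.Lie.chevE8 hposE8 (k / 240) (k % 240))) = true := by decide +kernel
theorem e8Ucolb_22_45210 : allRange 45210 45265 ((fun k => col2OK Cfsg.Lie.chevE8 hposE8 (k / 240) (k % 240))) = true := by decide +kernel
theorem e8Ucolb_22_45265 : allRange 45265 45320 ((fun k => col2OK Cfsg.Lie.chevE8 hposE8 (k / 240) (k % 240))) = true := by decide +kernel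
theorem e8Ucolb_22_45320 : allRange 45320 45375 ((fun k => col2OK Cfsg.Lie.chevE8 hposE8 (k / 240) (k % 240))) = true := by decide +kernel
theorem e8Ucolb_22_45375 : allRange 45375 45430 ((fun k => col2OK Cfsg.Lie.chevE8 hposE8 (k / 240) (k % 240))) = true := by decide +kernel
theorem e8Ucolb_22_45430 : allRange 45430 45485 ((fun k => col2OK Cfsg.Lie.chevE8 hposE8 (k / 240) (k % 240))) = true := by decide +kernel
theorem e8Ucolb_22_45485 : allRange 45485 45540 ((fun k => col2OK Cfsg.Lie.chevE8 hposE8 (k / 240) (k % 240))) = true := by decide +kernel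
theorem e8Ucolb_22_45540 : allRange 45540 45595 ((fun k => col2OK Cfsg.Lie.chevE8 hposE8 (k / 240) (k % 240))) = true := by decide +kernel
theorem e8Ucolb_22_45595 : allRange 45595 45650 ((fun k => col2OK Cfsg.Lie.chevE8 hposE8 (k / 240) (k % 240))) = true := by decide +kernel
theorem e8Ucolb_22_45650 : allRange 45650 45705 ((fun k => col2OK Cfsg.Lie.chevE8 hposE8 (k / 240) (k % 240))) = true := by decide +kernel
theorem e8Ucolb_22_45705 : allRange 45705 45760 ((fun k => col2OK Cfsg.Lie.chevE8 hposE8 (k / 240) (k % 240))) = true := by decide +kernel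
theorem e8Ucolb_22_45760 : allRange 45760 45815 ((fun k => col2OK Cfsg.Lie.chevE8 hposE8 (k / 240) (k % 240))) = true := by decide +kernel
theorem e8Ucolb_22_45815 : allRange 45815 45870 ((fun k => col2OK Cfsg.Lie.chevE8 hposE8 (k / 240) (k % 240))) = true := by decide +kernel
theorem e8Ucolb_22_45870 : allRange 45870 45925 ((fun k => col2OK Cfsg.Lie.chevE8 hposE8 (k / 240) (k % 240))) = true := by decide +kernel
theorem e8Ucolb_22_45925 : allRange 45925 45980 ((fun k => col2OK Cfsg.Lie.chevE8 hposE8 (k / 240) (k % 240))) = true := by decide +kernel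
theorem e8Ucolb_22_45980 : allRange 45980 46035 ((fun k => col2OK Cfsg.Lie.chevE8 hposE8 (k / 240) (k % 240))) = true := by decide +kernel
theorem e8Ucolb_22_46035 : allRange 46035 46090 ((fun k => col2OK Cfsg.Lie.chevE8 hposE8 (k / 240) (k % 240))) = true := by decide +kernel
theorem e8Ucolb_22_46090 : allRange 46090 46145 ((fun k => col2OK Cfsg.Lie.chevE8 hposE8 (k / 240) (k % 240))) = true := by decide +kernel
theorem e8Ucolb_22_46145 : allRange 46145 46200 ((fun k => col2OK Cfsg.Lie.chevE8 hposE8 (k / 240) (k % 240))) = true := by decide +kernel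
theorem e8Ucolb_22_46200 : allRange 46200 46255 ((fun k => col2OK Cfsg.Lie.chevE8 hposE8 (k / 240) (k % 240))) = true := by decide +kernel
theorem e8Ucolb_22_46255 : allRange 46255 46310 ((fun k => col2OK Cfsg.Lie.chevE8 hposE8 (k / 240) (k % 240))) = true := by decide +kernel
theorem e8Ucolb_22_46310 : allRange 46310 46365 ((fun k => col2OK Cfsg.Lie.chevE8 hposE8 (k / 240) (k % 240))) = true := by decide +kernel
theorem e8Ucolb_22_46365 : allRange 46365 46420 ((fun k => col2OK Cfsg.Lie.chevE8 hposE8 (k / 240) (k % 240))) = true := by decide +kernel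
theorem e8Ucolb_22_46420 : allRange 46420 46475 ((fun k => col2OK Cfsg.Lie.chevE8 hposE8 (k / 240) (k % 240))) = true := by decide +kernel
theorem e8Ucolb_22_46475 : allRange 46475 46530 ((fun k => col2OK Cfsg.Lie.chevE8 hposE8 (k / 240) (k % 240))) = true := by decide +kernel
theorem e8Ucolb_22_46530 : allRange 46530 46585 ((fun k => col2OK Cfsg.Lie.chevE8 hposE8 (k / 240) (k % 240))) = true := by decide +kernel
theorem e8Ucolb_22_46585 : allRange 46585 46640 ((fun k => col2OK Cfsg.Lie.chevE8 hposE8 (k / 240) (k % 240))) = true := by decide +kernel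
theorem e8Ucolb_22_46640 : allRange 46640 46695 ((fun k => col2OK Cfsg.Lie.chevE8 hposE8 (k / 240) (k % 240))) = true := by decide +kernel
theorem e8Ucolb_22_46695 : allRange 46695 46750 ((fun k => col2OK Cfsg.Lie.chevE8 hposE8 (k / 240) (k % 240))) = true := by decide +kernel
theorem e8Ucolb_22_46750 : allRange 46750 46805 ((fun k => col2OK Cfsg.Lie.chevE8 hposE8 (k / 240) (k % 240))) = true := by decide +kernel

/-- The terms of the commutator formula of type E8 lie higher than the second root (roots 44770 to 46804). -/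
theorem e8Ucolb_22 : ∀ r, 44770 ≤ r → r < 46805 → ((fun k => col2OK Cfsg.Lie.chevE8 hposE8 (k / 240) (k % 240))) r = true := by
  intro r h1 h2
  by_cases c0 : r < 44825
  · exact allRange_spec e8Ucolb_22_44770 r (by omega) c0
  by_cases c1 : r < 44880
  · exact allRange_spec e8Ucolb_22_44825 r (by omega) c1
  by_cases c2 : r < 44935
  · exact allRange_spec e8Ucolb_22_44880 r (by omega) c2
  by_cases c3 : r < 44990
  · exact allRange_spec e8Ucolb_22_44935 r (by omega) c3
  by_cases c4 : r < 45045
  · exact allRange_spec e8Ucolb_22_44990 r (by omega) c4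
  by_cases c5 : r < 45100
  · exact allRange_spec e8Ucolb_22_45045 r (by omega) c5
  by_cases c6 : r < 45155
  · exact allRange_spec e8Ucolb_22_45100 r (by omega) c6
  by_cases c7 : r < 45210
  · exact allRange_spec e8Ucolb_22_45155 r (by omega) c7
  by_cases c8 : r < 45265
  · exact allRange_spec e8Ucolb_22_45210 r (by omega) c8
  by_cases c9 : r < 45320
  · exact allRange_spec e8Ucolb_22_45265 r (by omega) c9
  by_cases c10 : r < 45375
  · exact allRange_spec e8Ucolb_22_45320 r (by omega) c10
  by_cases c11 : r < 45430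
  · exact allRange_spec e8Ucolb_22_45375 r (by omega) c11
  by_cases c12 : r < 45485
  · exact allRange_spec e8Ucolb_22_45430 r (by omega) c12
  by_cases c13 : r < 45540
  · exact allRange_spec e8Ucolb_22_45485 r (by omega) c13
  by_cases c14 : r < 45595
  · exact allRange_spec e8Ucolb_22_45540 r (by omega) c14
  by_cases c15 : r < 45650
  · exact allRange_spec e8Ucolb_22_45595 r (by omega) c15
  by_cases c16 : r < 45705
  · exact allRange_spec e8Ucolb_22_45650 r (by omega) c16
  by_cases c17 : r < 45760
  · exact allRange_spec e8Ucolb_22_45705 r (by omega) c17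
  by_cases c18 : r < 45815
  · exact allRange_spec e8Ucolb_22_45760 r (by omega) c18
  by_cases c19 : r < 45870
  · exact allRange_spec e8Ucolb_22_45815 r (by omega) c19
  by_cases c20 : r < 45925
  · exact allRange_spec e8Ucolb_22_45870 r (by omega) c20
  by_cases c21 : r < 45980
  · exact allRange_spec e8Ucolb_22_45925 r (by omega) c21
  by_cases c22 : r < 46035
  · exact allRange_spec e8Ucolb_22_45980 r (by omega) c22
  by_cases c23 : r < 46090
  · exact allRange_spec e8Ucolb_22_46035 r (by omega) c23
  by_cases c24 : r < 46145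
  · exact allRange_spec e8Ucolb_22_46090 r (by omega) c24
  by_cases c25 : r < 46200
  · exact allRange_spec e8Ucolb_22_46145 r (by omega) c25
  by_cases c26 : r < 46255
  · exact allRange_spec e8Ucolb_22_46200 r (by omega) c26
  by_cases c27 : r < 46310
  · exact allRange_spec e8Ucolb_22_46255 r (by omega) c27
  by_cases c28 : r < 46365
  · exact allRange_spec e8Ucolb_22_46310 r (by omega) c28
  by_cases c29 : r < 46420
  · exact allRange_spec e8Ucolb_22_46365 r (by omega) c29
  by_cases c30 : r < 46475
  · exact allRange_spec e8Ucolb_22_46420 r (by omega) c30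
  by_cases c31 : r < 46530
  · exact allRange_spec e8Ucolb_22_46475 r (by omega) c31
  by_cases c32 : r < 46585
  · exact allRange_spec e8Ucolb_22_46530 r (by omega) c32
  by_cases c33 : r < 46640
  · exact allRange_spec e8Ucolb_22_46585 r (by omega) c33
  by_cases c34 : r < 46695
  · exact allRange_spec e8Ucolb_22_46640 r (by omega) c34
  by_cases c35 : r < 46750
  · exact allRange_spec e8Ucolb_22_46695 r (by omega) c35
  exact allRange_spec e8Ucolb_22_46750 r (by omega) h2

end Cfsg.Agent.Lib.Helper3.ChevM
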