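import Cfsg.Prelude.Def_ChevE8
import Cfsg.Agent.Lib.Helper3.ChevData.E8Uni
import Cfsg.Agent.Lib.Helper3.StU10
set_option autoImplicit false
set_option maxRecDepth 1000000
set_option Elab.async false

namespace Cfsg.Agent.Lib.Helper3.ChevM
open Cfsg.Agent.Lib.Helper3.StB Cfsg.Agent.Lib.Helper3.StU

theorem e8Ucolb_23_46805 : allRange 46805 46860 ((fun k => col2OK Cfsg.Lie.chevE8 hposE8 (k / 240) (k % 240))) = true := by decide +kernel
theorem e8Ucolb_23_46860 : allRange 46860 46915 ((fun k => col2OK Cfsg.Lie.chevE8 hposE8 (k / 240) (k % 240))) = true := by decide +kernel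
theorem e8Ucolb_23_46915 : allRange 46915 46970 ((fun k => col2OK Cfsg.Lie.chevE8 hposE8 (k / 240) (k % 240))) = true := by decide +kernel
theorem e8Ucolb_23_46970 : allRange 46970 47025 ((fun k => col2OK Cfsg.Lie.chevE8 hposE8 (k / 240) (k % 240))) = true := by decide +kernel
theorem e8Ucolb_23_47025 : allRange 47025 47080 ((fun k => col2OK Cfsg.Lie.chevE8 hposE8 (k / 240) (k % 240))) = true := by decide +kernel
theorem e8Ucolb_23_47080 : allRange 47080 47135 ((fun k => col2OK Cfsg.Lie.chevE8 hposE8 (k / 240) (k % 240))) = true := by decide +kernel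
theorem e8Ucolb_23_47135 : allRange 47135 47190 ((fun k => col2OK Cfsg.Lie.chevE8 hposE8 (k / 240) (k % 240))) = true := by decide +kernel
theorem e8Ucolb_23_47190 : allRange 47190 47245 ((fun k => col2OK Cfsg.Lie.chevE8 hposE8 (k / 240) (k % 240))) = true := by decide +kernel
theorem e8Ucolb_23_47245 : allRange 47245 47300 ((fun k => col2OK Cfsg.Lie.chevE8 hposE8 (k / 240) (k % 240))) = true := by decide +kernel
theorem e8Ucolb_23_47300 : allRange 47300 47355 ((fun k => col2OK Cfsg.Lie.chevE8 hposE8 (k / 240) (k % 240))) = true := by decide +kernel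
theorem e8Ucolb_23_47355 : allRange 47355 47410 ((fun k => col2OK Cfsg.Lie.chevE8 hposE8 (k / 240) (k % 240))) = true := by decide +kernel
theorem e8Ucolb_23_47410 : allRange 47410 47465 ((fun k => col2OK Cfsg.Lie.chevE8 hposE8 (k / 240) (k % 240))) = true := by decide +kernel
theorem e8Ucolb_23_47465 : allRange 47465 47520 ((fun k => col2OK Cfsg.Lie.chevE8 hposE8 (k / 240) (k % 240))) = true := by decide +kernel
theorem e8Ucolb_23_47520 : allRange 47520 47575 ((fun k => col2OK Cfsg.Lie.chevE8 hposE8 (k / 240) (k % 240))) = true := by decide +kernel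
theorem e8Ucolb_23_47575 : allRange 47575 47630 ((fun k => col2OK Cfsg.Lie.chevE8 hposE8 (k / 240) (k % 240))) = true := by decide +kernel
theorem e8Ucolb_23_47630 : allRange 47630 47685 ((fun k => col2OK Cfsg.Lie.chevE8 hposE8 (k / 240) (k % 240))) = true := by decide +kernel
theorem e8Ucolb_23_47685 : allRange 47685 47740 ((fun k => col2OK Cfsg.Lie.chevE8 hposE8 (k / 240) (k % 240))) = true := by decide +kernel
theorem e8Ucolb_23_47740 : allRange 47740 47795 ((fun k => col2OK Cfsg.Lie.chevE8 hposE8 (k / 240) (k % 240))) = true := by decide +kernel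
theorem e8Ucolb_23_47795 : allRange 47795 47850 ((fun k => col2OK Cfsg.Lie.chevE8 hposE8 (k / 240) (k % 240))) = true := by decide +kernel
theorem e8Ucolb_23_47850 : allRange 47850 47905 ((fun k => col2OK Cfsg.Lie.chevE8 hposE8 (k / 240) (k % 240))) = true := by decide +kernel
theorem e8Ucolb_23_47905 : allRange 47905 47960 ((fun k => col2OK Cfsg.Lie.chevE8 hposE8 (k / 240) (k % 240))) = true := by decide +kernel
theorem e8Ucolb_23_47960 : allRange 47960 48015 ((fun k => col2OK Cfsg.Lie.chevE8 hposE8 (k / 240) (k % 240))) = true := by decide +kernel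
theorem e8Ucolb_23_48015 : allRange 48015 48070 ((fun k => col2OK Cfsg.Lie.chevE8 hposE8 (k / 240) (k % 240))) = true := by decide +kernel
theorem e8Ucolb_23_48070 : allRange 48070 48125 ((fun k => col2OK Cfsg.Lie.chevE8 hposE8 (k / 240) (k % 240))) = true := by decide +kernel
theorem e8Ucolb_23_48125 : allRange 48125 48180 ((fun k => col2OK Cfsg.Lie.chevE8 hposE8 (k / 240) (k % 240))) = true := by decide +kernel
theorem e8Ucolb_23_48180 : allRange 48180 48235 ((fun k => col2OK Cfsg.Lie.chevE8 hposE8 (k / 240) (k % 240))) = true := by decide +kernel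
theorem e8Ucolb_23_48235 : allRange 48235 48290 ((fun k => col2OK Cfsg.Lie.chevE8 hposE8 (k / 240) (k % 240))) = true := by decide +kernel
theorem e8Ucolb_23_48290 : allRange 48290 48345 ((fun k => col2OK Cfsg.Lie.chevE8 hposE8 (k / 240) (k % 240))) = true := by decide +kernel
theorem e8Ucolb_23_48345 : allRange 48345 48400 ((fun k => col2OK Cfsg.Lie.chevE8 hposE8 (k / 240) (k % 240))) = true := by decide +kernel
theorem e8Ucolb_23_48400 : allRange 48400 48455 ((fun k => col2OK Cfsg.Lie.chevE8 hposE8 (k / 240) (k % 240))) = true := by decide +kernel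
theorem e8Ucolb_23_48455 : allRange 48455 48510 ((fun k => col2OK Cfsg.Lie.chevE8 hposE8 (k / 240) (k % 240))) = true := by decide +kernel
theorem e8Ucolb_23_48510 : allRange 48510 48565 ((fun k => col2OK Cfsg.Lie.chevE8 hposE8 (k / 240) (k % 240))) = true := by decide +kernel
theorem e8Ucolb_23_48565 : allRange 48565 48620 ((fun k => col2OK Cfsg.Lie.chevE8 hposE8 (k / 240) (k % 240))) = true := by decide +kernel
theorem e8Ucolb_23_48620 : allRange 48620 48675 ((fun k => col2OK Cfsg.Lie.chevE8 hposE8 (k / 240) (k % 240))) = true := by decide +kernel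
theorem e8Ucolb_23_48675 : allRange 48675 48730 ((fun k => col2OK Cfsg.Lie.chevE8 hposE8 (k / 240) (k % 240))) = true := by decide +kernel
theorem e8Ucolb_23_48730 : allRange 48730 48785 ((fun k => col2OK Cfsg.Lie.chevE8 hposE8 (k / 240) (k % 240))) = true := by decide +kernel
theorem e8Ucolb_23_48785 : allRange 48785 48840 ((fun k => col2OK Cfsg.Lie.chevE8 hposE8 (k / 240) (k % 240))) = true := by decide +kernel

/-- The terms of the commutator formula of type E8 lie higher than the second root (roots 46805 to 48839). -/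
theorem e8Ucolb_23 : ∀ r, 46805 ≤ r → r < 48840 → ((fun k => col2OK Cfsg.Lie.chevE8 hposE8 (k / 240) (k % 240))) r = true := by
  intro r h1 h2
  by_cases c0 : r < 46860
  · exact allRange_spec e8Ucolb_23_46805 r (by omega) c0
  by_cases c1 : r < 46915
  · exact allRange_spec e8Ucolb_23_46860 r (by omega) c1
  by_cases c2 : r < 46970
  · exact allRange_spec e8Ucolb_23_46915 r (by omega) c2
  by_cases c3 : r < 47025
  · exact allRange_spec e8Ucolb_23_46970 r (by omega) c3
  by_cases c4 : r < 47080
  · exact allRange_spec e8Ucolb_23_47025 r (by omega) c4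
  by_cases c5 : r < 47135
  · exact allRange_spec e8Ucolb_23_47080 r (by omega) c5
  by_cases c6 : r < 47190
  · exact allRange_spec e8Ucolb_23_47135 r (by omega) c6
  by_cases c7 : r < 47245
  · exact allRange_spec e8Ucolb_23_47190 r (by omega) c7
  by_cases c8 : r < 47300
  · exact allRange_spec e8Ucolb_23_47245 r (by omega) c8
  by_cases c9 : r < 47355
  · exact allRange_spec e8Ucolb_23_47300 r (by omega) c9
  by_cases c10 : r < 47410
  · exact allRange_spec e8Ucolb_23_47355 r (by omega) c10
  by_cases c11 : r < 47465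
  · exact allRange_spec e8Ucolb_23_47410 r (by omega) c11
  by_cases c12 : r < 47520
  · exact allRange_spec e8Ucolb_23_47465 r (by omega) c12
  by_cases c13 : r < 47575
  · exact allRange_spec e8Ucolb_23_47520 r (by omega) c13
  by_cases c14 : r < 47630
  · exact allRange_spec e8Ucolb_23_47575 r (by omega) c14
  by_cases c15 : r < 47685
  · exact allRange_spec e8Ucolb_23_47630 r (by omega) c15
  by_cases c16 : r < 47740
  · exact allRange_spec e8Ucolb_23_47685 r (by omega) c16
  by_cases c17 : r < 47795
  · exact allRange_spec e8Ucolb_23_47740 r (by omega) c17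
  by_cases c18 : r < 47850
  · exact allRange_spec e8Ucolb_23_47795 r (by omega) c18
  by_cases c19 : r < 47905
  · exact allRange_spec e8Ucolb_23_47850 r (by omega) c19
  by_cases c20 : r < 47960
  · exact allRange_spec e8Ucolb_23_47905 r (by omega) c20
  by_cases c21 : r < 48015
  · exact allRange_spec e8Ucolb_23_47960 r (by omega) c21
  by_cases c22 : r < 48070
  · exact allRange_spec e8Ucolb_23_48015 r (by omega) c22
  by_cases c23 : r < 48125
  · exact allRange_spec e8Ucolb_23_48070 r (by omega) c23
  by_cases c24 : r < 48180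
  · exact allRange_spec e8Ucolb_23_48125 r (by omega) c24
  by_cases c25 : r < 48235
  · exact allRange_spec e8Ucolb_23_48180 r (by omega) c25
  by_cases c26 : r < 48290
  · exact allRange_spec e8Ucolb_23_48235 r (by omega) c26
  by_cases c27 : r < 48345
  · exact allRange_spec e8Ucolb_23_48290 r (by omega) c27
  by_cases c28 : r < 48400
  · exact allRange_spec e8Ucolb_23_48345 r (by omega) c28
  by_cases c29 : r < 48455
  · exact allRange_spec e8Ucolb_23_48400 r (by omega) c29
  by_cases c30 : r < 48510
  · exact allRange_spec e8Ucolb_23_48455 r (by omega) c30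
  by_cases c31 : r < 48565
  · exact allRange_spec e8Ucolb_23_48510 r (by omega) c31
  by_cases c32 : r < 48620
  · exact allRange_spec e8Ucolb_23_48565 r (by omega) c32
  by_cases c33 : r < 48675
  · exact allRange_spec e8Ucolb_23_48620 r (by omega) c33
  by_cases c34 : r < 48730
  · exact allRange_spec e8Ucolb_23_48675 r (by omega) c34
  by_cases c35 : r < 48785
  · exact allRange_spec e8Ucolb_23_48730 r (by omega) c35
  exact allRange_spec e8Ucolb_23_48785 r (by omega) h2

end Cfsg.Agent.Lib.Helper3.ChevM
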