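import Cfsg.Prelude.Def_ChevE8
import Cfsg.Agent.Lib.Helper3.ChevData.E8Uni
import Cfsg.Agent.Lib.Helper3.StU10
set_option autoImplicit false
set_option maxRecDepth 1000000
set_option Elab.async false

namespace Cfsg.Agent.Lib.Helper3.ChevM
open Cfsg.Agent.Lib.Helper3.StB Cfsg.Agent.Lib.Helper3.StU

theorem e8Ucolb_24_48840 : allRange 48840 48895 ((fun k => col2OK Cfsg.Lie.chevE8 hposE8 (k / 240) (k % 240))) = true := by decide +kernel
theorem e8Ucolb_24_48895 : allRange 48895 48950 ((fun k => col2OK Cfsg.Lie.chevE8 hposE8 (k / 240) (k % 240))) = true := by decide +kernel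
theorem e8Ucolb_24_48950 : allRange 48950 49005 ((fun k => col2OK Cfsg.Lie.chevE8 hposE8 (k / 240) (k % 240))) = true := by decide +kernel
theorem e8Ucolb_24_49005 : allRange 49005 49060 ((fun k => col2OK Cfsg.Lie.chevE8 hposE8 (k / 240) (k % 240))) = true := by decide +kernel
theorem e8Ucolb_24_49060 : allRange 49060 49115 ((fun k => col2OK Cfsg.Lie.chevE8 hposE8 (k / 240) (k % 240))) = true := by decide +kernel
theorem e8Ucolb_24_49115 : allRange 49115 49170 ((fun k => col2OK Cfsg.Lie.chevE8 hposE8 (k / 240) (k % 240))) = true := by decide +kernel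
theorem e8Ucolb_24_49170 : allRange 49170 49225 ((fun k => col2OK Cfsg.Lie.chevE8 hposE8 (k / 240) (k % 240))) = true := by decide +kernel
theorem e8Ucolb_24_49225 : allRange 49225 49280 ((fun k => col2OK Cfsg.Lie.chevE8 hposE8 (k / 240) (k % 240))) = true := by decide +kernel
theorem e8Ucolb_24_49280 : allRange 49280 49335 ((fun k => col2OK Cfsg.Lie.chevE8 hposE8 (k / 240) (k % 240))) = true := by decide +kernel
theorem e8Ucolb_24_49335 : allRange 49335 49390 ((fun k => col2OK Cfsg.Lie.chevE8 hposE8 (k / 240) (k % 240))) = true := by decide +kernel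
theorem e8Ucolb_24_49390 : allRange 49390 49445 ((fun k => col2OK Cfsg.Lie.chevE8 hposE8 (k / 240) (k % 240))) = true := by decide +kernel
theorem e8Ucolb_24_49445 : allRange 49445 49500 ((fun k => col2OK Cfsg.Lie.chevE8 hposE8 (k / 240) (k % 240))) = true := by decide +kernel
theorem e8Ucolb_24_49500 : allRange 49500 49555 ((fun k => col2OK Cfsg.Lie.chevE8 hposE8 (k / 240) (k % 240))) = true := by decide +kernel
theorem e8Ucolb_24_49555 : allRange 49555 49610 ((fun k => col2OK Cfsg.Lie.chevE8 hposE8 (k / 240) (k % 240))) = true := by decide +kernel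
theorem e8Ucolb_24_49610 : allRange 49610 49665 ((fun k => col2OK Cfsg.Lie.chevE8 hposE8 (k / 240) (k % 240))) = true := by decide +kernel
theorem e8Ucolb_24_49665 : allRange 49665 49720 ((fun k => col2OK Cfsg.Lie.chevE8 hposE8 (k / 240) (k % 240))) = true := by decide +kernel
theorem e8Ucolb_24_49720 : allRange 49720 49775 ((fun k => col2OK Cfsg.Lie.chevE8 hposE8 (k / 240) (k % 240))) = true := by decide +kernel
theorem e8Ucolb_24_49775 : allRange 49775 49830 ((fun k => col2OK Cfsg.Lie.chevE8 hposE8 (k / 240) (k % 240))) = true := by decide +kernel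
theorem e8Ucolb_24_49830 : allRange 49830 49885 ((fun k => col2OK Cfsg.Lie.chevE8 hposE8 (k / 240) (k % 240))) = true := by decide +kernel
theorem e8Ucolb_24_49885 : allRange 49885 49940 ((fun k => col2OK Cfsg.Lie.chevE8 hposE8 (k / 240) (k % 240))) = true := by decide +kernel
theorem e8Ucolb_24_49940 : allRange 49940 49995 ((fun k => col2OK Cfsg.Lie.chevE8 hposE8 (k / 240) (k % 240))) = true := by decide +kernel
theorem e8Ucolb_24_49995 : allRange 49995 50050 ((fun k => col2OK Cfsg.Lie.chevE8 hposE8 (k / 240) (k % 240))) = true := by decide +kernel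
theorem e8Ucolb_24_50050 : allRange 50050 50105 ((fun k => col2OK Cfsg.Lie.chevE8 hposE8 (k / 240) (k % 240))) = true := by decide +kernel
theorem e8Ucolb_24_50105 : allRange 50105 50160 ((fun k => col2OK Cfsg.Lie.chevE8 hposE8 (k / 240) (k % 240))) = true := by decide +kernel
theorem e8Ucolb_24_50160 : allRange 50160 50215 ((fun k => col2OK Cfsg.Lie.chevE8 hposE8 (k / 240) (k % 240))) = true := by decide +kernel
theorem e8Ucolb_24_50215 : allRange 50215 50270 ((fun k => col2OK Cfsg.Lie.chevE8 hposE8 (k / 240) (k % 240))) = true := by decide +kernel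
theorem e8Ucolb_24_50270 : allRange 50270 50325 ((fun k => col2OK Cfsg.Lie.chevE8 hposE8 (k / 240) (k % 240))) = true := by decide +kernel
theorem e8Ucolb_24_50325 : allRange 50325 50380 ((fun k => col2OK Cfsg.Lie.chevE8 hposE8 (k / 240) (k % 240))) = true := by decide +kernel
theorem e8Ucolb_24_50380 : allRange 50380 50435 ((fun k => col2OK Cfsg.Lie.chevE8 hposE8 (k / 240) (k % 240))) = true := by decide +kernel
theorem e8Ucolb_24_50435 : allRange 50435 50490 ((fun k => col2OK Cfsg.Lie.chevE8 hposE8 (k / 240) (k % 240))) = true := by decide +kernel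
theorem e8Ucolb_24_50490 : allRange 50490 50545 ((fun k => col2OK Cfsg.Lie.chevE8 hposE8 (k / 240) (k % 240))) = true := by decide +kernel
theorem e8Ucolb_24_50545 : allRange 50545 50600 ((fun k => col2OK Cfsg.Lie.chevE8 hposE8 (k / 240) (k % 240))) = true := by decide +kernel
theorem e8Ucolb_24_50600 : allRange 50600 50655 ((fun k => col2OK Cfsg.Lie.chevE8 hposE8 (k / 240) (k % 240))) = true := by decide +kernel
theorem e8Ucolb_24_50655 : allRange 50655 50710 ((fun k => col2OK Cfsg.Lie.chevE8 hposE8 (k / 240) (k % 240))) = true := by decide +kernel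
theorem e8Ucolb_24_50710 : allRange 50710 50765 ((fun k => col2OK Cfsg.Lie.chevE8 hposE8 (k / 240) (k % 240))) = true := by decide +kernel
theorem e8Ucolb_24_50765 : allRange 50765 50820 ((fun k => col2OK Cfsg.Lie.chevE8 hposE8 (k / 240) (k % 240))) = true := by decide +kernel
theorem e8Ucolb_24_50820 : allRange 50820 50875 ((fun k => col2OK Cfsg.Lie.chevE8 hposE8 (k / 240) (k % 240))) = true := by decide +kernel

/-- The terms of the commutator formula of type E8 lie higher than the second root (roots 48840 to 50874). -/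
theorem e8Ucolb_24 : ∀ r, 48840 ≤ r → r < 50875 → ((fun k => col2OK Cfsg.Lie.chevE8 hposE8 (k / 240) (k % 240))) r = true := by
  intro r h1 h2
  by_cases c0 : r < 48895
  · exact allRange_spec e8Ucolb_24_48840 r (by omega) c0
  by_cases c1 : r < 48950
  · exact allRange_spec e8Ucolb_24_48895 r (by omega) c1
  by_cases c2 : r < 49005
  · exact allRange_spec e8Ucolb_24_48950 r (by omega) c2
  by_cases c3 : r < 49060
  · exact allRange_spec e8Ucolb_24_49005 r (by omega) c3
  by_cases c4 : r < 49115
  · exact allRange_spec e8Ucolb_24_49060 r (by omega) c4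
  by_cases c5 : r < 49170
  · exact allRange_spec e8Ucolb_24_49115 r (by omega) c5
  by_cases c6 : r < 49225
  · exact allRange_spec e8Ucolb_24_49170 r (by omega) c6
  by_cases c7 : r < 49280
  · exact allRange_spec e8Ucolb_24_49225 r (by omega) c7
  by_cases c8 : r < 49335
  · exact allRange_spec e8Ucolb_24_49280 r (by omega) c8
  by_cases c9 : r < 49390
  · exact allRange_spec e8Ucolb_24_49335 r (by omega) c9
  by_cases c10 : r < 49445
  · exact allRange_spec e8Ucolb_24_49390 r (by omega) c10
  by_cases c11 : r < 49500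
  · exact allRange_spec e8Ucolb_24_49445 r (by omega) c11
  by_cases c12 : r < 49555
  · exact allRange_spec e8Ucolb_24_49500 r (by omega) c12
  by_cases c13 : r < 49610
  · exact allRange_spec e8Ucolb_24_49555 r (by omega) c13
  by_cases c14 : r < 49665
  · exact allRange_spec e8Ucolb_24_49610 r (by omega) c14
  by_cases c15 : r < 49720
  · exact allRange_spec e8Ucolb_24_49665 r (by omega) c15
  by_cases c16 : r < 49775
  · exact allRange_spec e8Ucolb_24_49720 r (by omega) c16
  by_cases c17 : r < 49830
  · exact allRange_spec e8Ucolb_24_49775 r (by omega) c17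
  by_cases c18 : r < 49885
  · exact allRange_spec e8Ucolb_24_49830 r (by omega) c18
  by_cases c19 : r < 49940
  · exact allRange_spec e8Ucolb_24_49885 r (by omega) c19
  by_cases c20 : r < 49995
  · exact allRange_spec e8Ucolb_24_49940 r (by omega) c20
  by_cases c21 : r < 50050
  · exact allRange_spec e8Ucolb_24_49995 r (by omega) c21
  by_cases c22 : r < 50105
  · exact allRange_spec e8Ucolb_24_50050 r (by omega) c22
  by_cases c23 : r < 50160
  · exact allRange_spec e8Ucolb_24_50105 r (by omega) c23
  by_cases c24 : r < 50215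
  · exact allRange_spec e8Ucolb_24_50160 r (by omega) c24
  by_cases c25 : r < 50270
  · exact allRange_spec e8Ucolb_24_50215 r (by omega) c25
  by_cases c26 : r < 50325
  · exact allRange_spec e8Ucolb_24_50270 r (by omega) c26
  by_cases c27 : r < 50380
  · exact allRange_spec e8Ucolb_24_50325 r (by omega) c27
  by_cases c28 : r < 50435
  · exact allRange_spec e8Ucolb_24_50380 r (by omega) c28
  by_cases c29 : r < 50490
  · exact allRange_spec e8Ucolb_24_50435 r (by omega) c29
  by_cases c30 : r < 50545
  · exact allRange_spec e8Ucolb_24_50490 r (by omega) c30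
  by_cases c31 : r < 50600
  · exact allRange_spec e8Ucolb_24_50545 r (by omega) c31
  by_cases c32 : r < 50655
  · exact allRange_spec e8Ucolb_24_50600 r (by omega) c32
  by_cases c33 : r < 50710
  · exact allRange_spec e8Ucolb_24_50655 r (by omega) c33
  by_cases c34 : r < 50765
  · exact allRange_spec e8Ucolb_24_50710 r (by omega) c34
  by_cases c35 : r < 50820
  · exact allRange_spec e8Ucolb_24_50765 r (by omega) c35
  exact allRange_spec e8Ucolb_24_50820 r (by omega) h2

end Cfsg.Agent.Lib.Helper3.ChevM
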