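import Cfsg.Agent.Lib.Helper3.ChevData.E8UcolbA
import Cfsg.Agent.Lib.Helper3.ChevData.E8UcolbB
import Cfsg.Agent.Lib.Helper3.ChevData.E8UcolbC
import Cfsg.Agent.Lib.Helper3.ChevData.E8UcolbD
import Cfsg.Agent.Lib.Helper3.ChevData.E8UcolbE
import Cfsg.Agent.Lib.Helper3.ChevData.E8UcolbF
import Cfsg.Agent.Lib.Helper3.ChevData.E8UcolbG
import Cfsg.Agent.Lib.Helper3.ChevData.E8UcolbH
import Cfsg.Agent.Lib.Helper3.ChevData.E8UcolbI
import Cfsg.Agent.Lib.Helper3.ChevData.E8UcolbJ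
import Cfsg.Agent.Lib.Helper3.ChevData.E8UcolbK
import Cfsg.Agent.Lib.Helper3.ChevData.E8UcolbL
import Cfsg.Agent.Lib.Helper3.ChevData.E8UcolbM
import Cfsg.Agent.Lib.Helper3.ChevData.E8UcolbN
import Cfsg.Agent.Lib.Helper3.ChevData.E8UcolbO
import Cfsg.Agent.Lib.Helper3.ChevData.E8UcolbP
import Cfsg.Agent.Lib.Helper3.ChevData.E8UcolbQ
import Cfsg.Agent.Lib.Helper3.ChevData.E8UcolbR
import Cfsg.Agent.Lib.Helper3.ChevData.E8UcolbS
import Cfsg.Agent.Lib.Helper3.ChevData.E8UcolbT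
import Cfsg.Agent.Lib.Helper3.ChevData.E8UcolbU
import Cfsg.Agent.Lib.Helper3.ChevData.E8UcolbV
import Cfsg.Agent.Lib.Helper3.ChevData.E8UcolbW
import Cfsg.Agent.Lib.Helper3.ChevData.E8UcolbX
import Cfsg.Agent.Lib.Helper3.ChevData.E8UcolbY
import Cfsg.Agent.Lib.Helper3.ChevData.E8UcolbZ
import Cfsg.Agent.Lib.Helper3.ChevData.E8UcolbAA
import Cfsg.Agent.Lib.Helper3.ChevData.E8UcolbAB
import Cfsg.Agent.Lib.Helper3.ChevData.E8UcolbAC
set_option autoImplicit false

namespace Cfsg.Agent.Lib.Helper3.ChevM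
open Cfsg.Agent.Lib.Helper3.StB Cfsg.Agent.Lib.Helper3.StU

/-- The terms of the commutator formula of type E8 lie higher than the second root. -/
theorem e8Ucolb : ∀ r < 57600, ((fun k => col2OK Cfsg.Lie.chevE8 hposE8 (k / 240) (k % 240))) r = true := by
  intro r hr
  by_cases h0 : r < 2035
  · exact e8Ucolb_0 r (by omega) h0
  by_cases h1 : r < 4070
  · exact e8Ucolb_1 r (by omega) h1
  by_cases h2 : r < 6105
  · exact e8Ucolb_2 r (by omega) h2
  by_cases h3 : r < 8140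
  · exact e8Ucolb_3 r (by omega) h3
  by_cases h4 : r < 10175
  · exact e8Ucolb_4 r (by omega) h4
  by_cases h5 : r < 12210
  · exact e8Ucolb_5 r (by omega) h5
  by_cases h6 : r < 14245
  · exact e8Ucolb_6 r (by omega) h6
  by_cases h7 : r < 16280
  · exact e8Ucolb_7 r (by omega) h7
  by_cases h8 : r < 18315
  · exact e8Ucolb_8 r (by omega) h8
  by_cases h9 : r < 20350
  · exact e8Ucolb_9 r (by omega) h9
  by_cases h10 : r < 22385
  · exact e8Ucolb_10 r (by omega) h10
  by_cases h11 : r < 24420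
  · exact e8Ucolb_11 r (by omega) h11
  by_cases h12 : r < 26455
  · exact e8Ucolb_12 r (by omega) h12
  by_cases h13 : r < 28490
  · exact e8Ucolb_13 r (by omega) h13
  by_cases h14 : r < 30525
  · exact e8Ucolb_14 r (by omega) h14
  by_cases h15 : r < 32560
  · exact e8Ucolb_15 r (by omega) h15
  by_cases h16 : r < 34595
  · exact e8Ucolb_16 r (by omega) h16
  by_cases h17 : r < 36630
  · exact e8Ucolb_17 r (by omega) h17
  by_cases h18 : r < 38665
  · exact e8Ucolb_18 r (by omega) h18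
  by_cases h19 : r < 40700
  · exact e8Ucolb_19 r (by omega) h19
  by_cases h20 : r < 42735
  · exact e8Ucolb_20 r (by omega) h20
  by_cases h21 : r < 44770
  · exact e8Ucolb_21 r (by omega) h21
  by_cases h22 : r < 46805
  · exact e8Ucolb_22 r (by omega) h22
  by_cases h23 : r < 48840
  · exact e8Ucolb_23 r (by omega) h23
  by_cases h24 : r < 50875
  · exact e8Ucolb_24 r (by omega) h24
  by_cases h25 : r < 52910
  · exact e8Ucolb_25 r (by omega) h25
  by_cases h26 : r < 54945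
  · exact e8Ucolb_26 r (by omega) h26
  by_cases h27 : r < 56980
  · exact e8Ucolb_27 r (by omega) h27
  exact e8Ucolb_28 r (by omega) hr

end Cfsg.Agent.Lib.Helper3.ChevM
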