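import Cfsg.Prelude.Def_ChevE8
import Cfsg.Agent.Lib.Helper3.ChevData.E8Uni
import Cfsg.Agent.Lib.Helper3.StU10
set_option autoImplicit false
set_option maxRecDepth 1000000
set_option Elab.async false

namespace Cfsg.Agent.Lib.Helper3.ChevM
open Cfsg.Agent.Lib.Helper3.StB Cfsg.Agent.Lib.Helper3.StU

theorem e8Ucolb_0_0 : allRange 0 55 ((fun k => col2OK Cfsg.Lie.chevE8 hposE8 (k / 240) (k % 240))) = true := by decide +kernel
theorem e8Ucolb_0_55 : allRange 55 110 ((fun k => col2OK Cfsg.Lie.chevE8 hposE8 (k / 240) (k % 240))) = true := by decide +kernel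
theorem e8Ucolb_0_110 : allRange 110 165 ((fun k => col2OK Cfsg.Lie.chevE8 hposE8 (k / 240) (k % 240))) = true := by decide +kernel
theorem e8Ucolb_0_165 : allRange 165 220 ((fun k => col2OK Cfsg.Lie.chevE8 hposE8 (k / 240) (k % 240))) = true := by decide +kernel
theorem e8Ucolb_0_220 : allRange 220 275 ((fun k => col2OK Cfsg.Lie.chevE8 hposE8 (k / 240) (k % 240))) = true := by decide +kernel
theorem e8Ucolb_0_275 : allRange 275 330 ((fun k => col2OK Cfsg.Lie.chevE8 hposE8 (k / 240) (k % 240))) = true := by decide +kernel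
theorem e8Ucolb_0_330 : allRange 330 385 ((fun k => col2OK Cfsg.Lie.chevE8 hposE8 (k / 240) (k % 240))) = true := by decide +kernel
theorem e8Ucolb_0_385 : allRange 385 440 ((fun k => col2OK Cfsg.Lie.chevE8 hposE8 (k / 240) (k % 240))) = true := by decide +kernel
theorem e8Ucolb_0_440 : allRange 440 495 ((fun k => col2OK Cfsg.Lie.chevE8 hposE8 (k / 240) (k % 240))) = true := by decide +kernel
theorem e8Ucolb_0_495 : allRange 495 550 ((fun k => col2OK Cfsg.Lie.chevE8 hposE8 (k / 240) (k % 240))) = true := by decide +kernel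
theorem e8Ucolb_0_550 : allRange 550 605 ((fun k => col2OK Cfsg.Lie.chevE8 hposE8 (k / 240) (k % 240))) = true := by decide +kernel
theorem e8Ucolb_0_605 : allRange 605 660 ((fun k => col2OK Cfsg.Lie.chevE8 hposE8 (k / 240) (k % 240))) = true := by decide +kernel
theorem e8Ucolb_0_660 : allRange 660 715 ((fun k => col2OK Cfsg.Lie.chevE8 hposE8 (k / 240) (k % 240))) = true := by decide +kernel
theorem e8Ucolb_0_715 : allRange 715 770 ((fun k => col2OK Cfsg.Lie.chevE8 hposE8 (k / 240) (k % 240))) = true := by decide +kernel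
theorem e8Ucolb_0_770 : allRange 770 825 ((fun k => col2OK Cfsg.Lie.chevE8 hposE8 (k / 240) (k % 240))) = true := by decide +kernel
theorem e8Ucolb_0_825 : allRange 825 880 ((fun k => col2OK Cfsg.Lie.chevE8 hposE8 (k / 240) (k % 240))) = true := by decide +kernel
theorem e8Ucolb_0_880 : allRange 880 935 ((fun k => col2OK Cfsg.Lie.chevE8 hposE8 (k / 240) (k % 240))) = true := by decide +kernel
theorem e8Ucolb_0_935 : allRange 935 990 ((fun k => col2OK Cfsg.Lie.chevE8 hposE8 (k / 240) (k % 240))) = true := by decide +kernel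
theorem e8Ucolb_0_990 : allRange 990 1045 ((fun k => col2OK Cfsg.Lie.chevE8 hposE8 (k / 240) (k % 240))) = true := by decide +kernel
theorem e8Ucolb_0_1045 : allRange 1045 1100 ((fun k => col2OK Cfsg.Lie.chevE8 hposE8 (k / 240) (k % 240))) = true := by decide +kernel
theorem e8Ucolb_0_1100 : allRange 1100 1155 ((fun k => col2OK Cfsg.Lie.chevE8 hposE8 (k / 240) (k % 240))) = true := by decide +kernel
theorem e8Ucolb_0_1155 : allRange 1155 1210 ((fun k => col2OK Cfsg.Lie.chevE8 hposE8 (k / 240) (k % 240))) = true := by decide +kernel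
theorem e8Ucolb_0_1210 : allRange 1210 1265 ((fun k => col2OK Cfsg.Lie.chevE8 hposE8 (k / 240) (k % 240))) = true := by decide +kernel
theorem e8Ucolb_0_1265 : allRange 1265 1320 ((fun k => col2OK Cfsg.Lie.chevE8 hposE8 (k / 240) (k % 240))) = true := by decide +kernel
theorem e8Ucolb_0_1320 : allRange 1320 1375 ((fun k => col2OK Cfsg.Lie.chevE8 hposE8 (k / 240) (k % 240))) = true := by decide +kernel
theorem e8Ucolb_0_1375 : allRange 1375 1430 ((fun k => col2OK Cfsg.Lie.chevE8 hposE8 (k / 240) (k % 240))) = true := by decide +kernel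
theorem e8Ucolb_0_1430 : allRange 1430 1485 ((fun k => col2OK Cfsg.Lie.chevE8 hposE8 (k / 240) (k % 240))) = true := by decide +kernel
theorem e8Ucolb_0_1485 : allRange 1485 1540 ((fun k => col2OK Cfsg.Lie.chevE8 hposE8 (k / 240) (k % 240))) = true := by decide +kernel
theorem e8Ucolb_0_1540 : allRange 1540 1595 ((fun k => col2OK Cfsg.Lie.chevE8 hposE8 (k / 240) (k % 240))) = true := by decide +kernel
theorem e8Ucolb_0_1595 : allRange 1595 1650 ((fun k => col2OK Cfsg.Lie.chevE8 hposE8 (k / 240) (k % 240))) = true := by decide +kernel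
theorem e8Ucolb_0_1650 : allRange 1650 1705 ((fun k => col2OK Cfsg.Lie.chevE8 hposE8 (k / 240) (k % 240))) = true := by decide +kernel
theorem e8Ucolb_0_1705 : allRange 1705 1760 ((fun k => col2OK Cfsg.Lie.chevE8 hposE8 (k / 240) (k % 240))) = true := by decide +kernel
theorem e8Ucolb_0_1760 : allRange 1760 1815 ((fun k => col2OK Cfsg.Lie.chevE8 hposE8 (k / 240) (k % 240))) = true := by decide +kernel
theorem e8Ucolb_0_1815 : allRange 1815 1870 ((fun k => col2OK Cfsg.Lie.chevE8 hposE8 (k / 240) (k % 240))) = true := by decide +kernel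
theorem e8Ucolb_0_1870 : allRange 1870 1925 ((fun k => col2OK Cfsg.Lie.chevE8 hposE8 (k / 240) (k % 240))) = true := by decide +kernel
theorem e8Ucolb_0_1925 : allRange 1925 1980 ((fun k => col2OK Cfsg.Lie.chevE8 hposE8 (k / 240) (k % 240))) = true := by decide +kernel
theorem e8Ucolb_0_1980 : allRange 1980 2035 ((fun k => col2OK Cfsg.Lie.chevE8 hposE8 (k / 240) (k % 240))) = true := by decide +kernel

/-- The terms of the commutator formula of type E8 lie higher than the second root (roots 0 to 2034). -/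
theorem e8Ucolb_0 : ∀ r, 0 ≤ r → r < 2035 → ((fun k => col2OK Cfsg.Lie.chevE8 hposE8 (k / 240) (k % 240))) r = true := by
  intro r h1 h2
  by_cases c0 : r < 55
  · exact allRange_spec e8Ucolb_0_0 r (by omega) c0
  by_cases c1 : r < 110
  · exact allRange_spec e8Ucolb_0_55 r (by omega) c1
  by_cases c2 : r < 165
  · exact allRange_spec e8Ucolb_0_110 r (by omega) c2
  by_cases c3 : r < 220
  · exact allRange_spec e8Ucolb_0_165 r (by omega) c3
  by_cases c4 : r < 275
  · exact allRange_spec e8Ucolb_0_220 r (by omega) c4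
  by_cases c5 : r < 330
  · exact allRange_spec e8Ucolb_0_275 r (by omega) c5
  by_cases c6 : r < 385
  · exact allRange_spec e8Ucolb_0_330 r (by omega) c6
  by_cases c7 : r < 440
  · exact allRange_spec e8Ucolb_0_385 r (by omega) c7
  by_cases c8 : r < 495
  · exact allRange_spec e8Ucolb_0_440 r (by omega) c8
  by_cases c9 : r < 550
  · exact allRange_spec e8Ucolb_0_495 r (by omega) c9
  by_cases c10 : r < 605
  · exact allRange_spec e8Ucolb_0_550 r (by omega) c10
  by_cases c11 : r < 660
  · exact allRange_spec e8Ucolb_0_605 r (by omega) c11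
  by_cases c12 : r < 715
  · exact allRange_spec e8Ucolb_0_660 r (by omega) c12
  by_cases c13 : r < 770
  · exact allRange_spec e8Ucolb_0_715 r (by omega) c13
  by_cases c14 : r < 825
  · exact allRange_spec e8Ucolb_0_770 r (by omega) c14
  by_cases c15 : r < 880
  · exact allRange_spec e8Ucolb_0_825 r (by omega) c15
  by_cases c16 : r < 935
  · exact allRange_spec e8Ucolb_0_880 r (by omega) c16
  by_cases c17 : r < 990
  · exact allRange_spec e8Ucolb_0_935 r (by omega) c17
  by_cases c18 : r < 1045
  · exact allRange_spec e8Ucolb_0_990 r (by omega) c18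
  by_cases c19 : r < 1100
  · exact allRange_spec e8Ucolb_0_1045 r (by omega) c19
  by_cases c20 : r < 1155
  · exact allRange_spec e8Ucolb_0_1100 r (by omega) c20
  by_cases c21 : r < 1210
  · exact allRange_spec e8Ucolb_0_1155 r (by omega) c21
  by_cases c22 : r < 1265
  · exact allRange_spec e8Ucolb_0_1210 r (by omega) c22
  by_cases c23 : r < 1320
  · exact allRange_spec e8Ucolb_0_1265 r (by omega) c23
  by_cases c24 : r < 1375
  · exact allRange_spec e8Ucolb_0_1320 r (by omega) c24
  by_cases c25 : r < 1430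
  · exact allRange_spec e8Ucolb_0_1375 r (by omega) c25
  by_cases c26 : r < 1485
  · exact allRange_spec e8Ucolb_0_1430 r (by omega) c26
  by_cases c27 : r < 1540
  · exact allRange_spec e8Ucolb_0_1485 r (by omega) c27
  by_cases c28 : r < 1595
  · exact allRange_spec e8Ucolb_0_1540 r (by omega) c28
  by_cases c29 : r < 1650
  · exact allRange_spec e8Ucolb_0_1595 r (by omega) c29
  by_cases c30 : r < 1705
  · exact allRange_spec e8Ucolb_0_1650 r (by omega) c30
  by_cases c31 : r < 1760
  · exact allRange_spec e8Ucolb_0_1705 r (by omega) c31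
  by_cases c32 : r < 1815
  · exact allRange_spec e8Ucolb_0_1760 r (by omega) c32
  by_cases c33 : r < 1870
  · exact allRange_spec e8Ucolb_0_1815 r (by omega) c33
  by_cases c34 : r < 1925
  · exact allRange_spec e8Ucolb_0_1870 r (by omega) c34
  by_cases c35 : r < 1980
  · exact allRange_spec e8Ucolb_0_1925 r (by omega) c35
  exact allRange_spec e8Ucolb_0_1980 r (by omega) h2

end Cfsg.Agent.Lib.Helper3.ChevM
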