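import Cfsg.Prelude.Def_ChevE8
import Cfsg.Agent.Lib.Helper3.ChevData.E8Uni
import Cfsg.Agent.Lib.Helper3.StU10
set_option autoImplicit false
set_option maxRecDepth 1000000
set_option Elab.async false

namespace Cfsg.Agent.Lib.Helper3.ChevM
open Cfsg.Agent.Lib.Helper3.StB Cfsg.Agent.Lib.Helper3.StU

theorem e8Ucolb_9_18315 : allRange 18315 18370 ((fun k => col2OK Cfsg.Lie.chevE8 hposE8 (k / 240) (k % 240))) = true := by decide +kernel
theorem e8Ucolb_9_18370 : allRange 18370 18425 ((fun k => col2OK Cfsg.Lie.chevE8 hposE8 (k / 240) (k % 240))) = true := by decide +kernel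
theorem e8Ucolb_9_18425 : allRange 18425 18480 ((fun k => col2OK Cfsg.Lie.chevE8 hposE8 (k / 240) (k % 240))) = true := by decide +kernel
theorem e8Ucolb_9_18480 : allRange 18480 18535 ((fun k => col2OK Cfsg.Lie.chevE8 hposE8 (k / 240) (k % 240))) = true := by decide +kernel
theorem e8Ucolb_9_18535 : allRange 18535 18590 ((fun k => col2OK Cfsg.Lie.chevE8 hposE8 (k / 240) (k % 240))) = true := by decide +kernel
theorem e8Ucolb_9_18590 : allRange 18590 18645 ((fun k => col2OK Cfsg.Lie.chevE8 hposE8 (k / 240) (k % 240))) = true := by decide +kernel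
theorem e8Ucolb_9_18645 : allRange 18645 18700 ((fun k => col2OK Cfsg.Lie.chevE8 hposE8 (k / 240) (k % 240))) = true := by decide +kernel
theorem e8Ucolb_9_18700 : allRange 18700 18755 ((fun k => col2OK Cfsg.Lie.chevE8 hposE8 (k / 240) (k % 240))) = true := by decide +kernel
theorem e8Ucolb_9_18755 : allRange 18755 18810 ((fun k => col2OK Cfsg.Lie.chevE8 hposE8 (k / 240) (k % 240))) = true := by decide +kernel
theorem e8Ucolb_9_18810 : allRange 18810 18865 ((fun k => col2OK Cfsg.Lie.chevE8 hposE8 (k / 240) (k % 240))) = true := by decide +kernel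
theorem e8Ucolb_9_18865 : allRange 18865 18920 ((fun k => col2OK Cfsg.Lie.chevE8 hposE8 (k / 240) (k % 240))) = true := by decide +kernel
theorem e8Ucolb_9_18920 : allRange 18920 18975 ((fun k => col2OK Cfsg.Lie.chevE8 hposE8 (k / 240) (k % 240))) = true := by decide +kernel
theorem e8Ucolb_9_18975 : allRange 18975 19030 ((fun k => col2OK Cfsg.Lie.chevE8 hposE8 (k / 240) (k % 240))) = true := by decide +kernel
theorem e8Ucolb_9_19030 : allRange 19030 19085 ((fun k => col2OK Cfsg.Lie.chevE8 hposE8 (k / 240) (k % 240))) = true := by decide +kernel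
theorem e8Ucolb_9_19085 : allRange 19085 19140 ((fun k => col2OK Cfsg.Lie.chevE8 hposE8 (k / 240) (k % 240))) = true := by decide +kernel
theorem e8Ucolb_9_19140 : allRange 19140 19195 ((fun k => col2OK Cfsg.Lie.chevE8 hposE8 (k / 240) (k % 240))) = true := by decide +kernel
theorem e8Ucolb_9_19195 : allRange 19195 19250 ((fun k => col2OK Cfsg.Lie.chevE8 hposE8 (k / 240) (k % 240))) = true := by decide +kernel
theorem e8Ucolb_9_19250 : allRange 19250 19305 ((fun k => col2OK Cfsg.Lie.chevE8 hposE8 (k / 240) (k % 240))) = true := by decide +kernel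
theorem e8Ucolb_9_19305 : allRange 19305 19360 ((fun k => col2OK Cfsg.Lie.chevE8 hposE8 (k / 240) (k % 240))) = true := by decide +kernel
theorem e8Ucolb_9_19360 : allRange 19360 19415 ((fun k => col2OK Cfsg.Lie.chevE8 hposE8 (k / 240) (k % 240))) = true := by decide +kernel
theorem e8Ucolb_9_19415 : allRange 19415 19470 ((fun k => col2OK Cfsg.Lie.chevE8 hposE8 (k / 240) (k % 240))) = true := by decide +kernel
theorem e8Ucolb_9_19470 : allRange 19470 19525 ((fun k => col2OK Cfsg.Lie.chevE8 hposE8 (k / 240) (k % 240))) = true := by decide +kernel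
theorem e8Ucolb_9_19525 : allRange 19525 19580 ((fun k => col2OK Cfsg.Lie.chevE8 hposE8 (k / 240) (k % 240))) = true := by decide +kernel
theorem e8Ucolb_9_19580 : allRange 19580 19635 ((fun k => col2OK Cfsg.Lie.chevE8 hposE8 (k / 240) (k % 240))) = true := by decide +kernel
theorem e8Ucolb_9_19635 : allRange 19635 19690 ((fun k => col2OK Cfsg.Lie.chevE8 hposE8 (k / 240) (k % 240))) = true := by decide +kernel
theorem e8Ucolb_9_19690 : allRange 19690 19745 ((fun k => col2OK Cfsg.Lie.chevE8 hposE8 (k / 240) (k % 240))) = true := by decide +kernel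
theorem e8Ucolb_9_19745 : allRange 19745 19800 ((fun k => col2OK Cfsg.Lie.chevE8 hposE8 (k / 240) (k % 240))) = true := by decide +kernel
theorem e8Ucolb_9_19800 : allRange 19800 19855 ((fun k => col2OK Cfsg.Lie.chevE8 hposE8 (k / 240) (k % 240))) = true := by decide +kernel
theorem e8Ucolb_9_19855 : allRange 19855 19910 ((fun k => col2OK Cfsg.Lie.chevE8 hposE8 (k / 240) (k % 240))) = true := by decide +kernel
theorem e8Ucolb_9_19910 : allRange 19910 19965 ((fun k => col2OK Cfsg.Lie.chevE8 hposE8 (k / 240) (k % 240))) = true := by decide +kernel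
theorem e8Ucolb_9_19965 : allRange 19965 20020 ((fun k => col2OK Cfsg.Lie.chevE8 hposE8 (k / 240) (k % 240))) = true := by decide +kernel
theorem e8Ucolb_9_20020 : allRange 20020 20075 ((fun k => col2OK Cfsg.Lie.chevE8 hposE8 (k / 240) (k % 240))) = true := by decide +kernel
theorem e8Ucolb_9_20075 : allRange 20075 20130 ((fun k => col2OK Cfsg.Lie.chevE8 hposE8 (k / 240) (k % 240))) = true := by decide +kernel
theorem e8Ucolb_9_20130 : allRange 20130 20185 ((fun k => col2OK Cfsg.Lie.chevE8 hposE8 (k / 240) (k % 240))) = true := by decide +kernel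
theorem e8Ucolb_9_20185 : allRange 20185 20240 ((fun k => col2OK Cfsg.Lie.chevE8 hposE8 (k / 240) (k % 240))) = true := by decide +kernel
theorem e8Ucolb_9_20240 : allRange 20240 20295 ((fun k => col2OK Cfsg.Lie.chevE8 hposE8 (k / 240) (k % 240))) = true := by decide +kernel
theorem e8Ucolb_9_20295 : allRange 20295 20350 ((fun k => col2OK Cfsg.Lie.chevE8 hposE8 (k / 240) (k % 240))) = true := by decide +kernel

/-- The terms of the commutator formula of type E8 lie higher than the second root (roots 18315 to 20349). -/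
theorem e8Ucolb_9 : ∀ r, 18315 ≤ r → r < 20350 → ((fun k => col2OK Cfsg.Lie.chevE8 hposE8 (k / 240) (k % 240))) r = true := by
  intro r h1 h2
  by_cases c0 : r < 18370
  · exact allRange_spec e8Ucolb_9_18315 r (by omega) c0
  by_cases c1 : r < 18425
  · exact allRange_spec e8Ucolb_9_18370 r (by omega) c1
  by_cases c2 : r < 18480
  · exact allRange_spec e8Ucolb_9_18425 r (by omega) c2
  by_cases c3 : r < 18535
  · exact allRange_spec e8Ucolb_9_18480 r (by omega) c3
  by_cases c4 : r < 18590
  · exact allRange_spec e8Ucolb_9_18535 r (by omega) c4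
  by_cases c5 : r < 18645
  · exact allRange_spec e8Ucolb_9_18590 r (by omega) c5
  by_cases c6 : r < 18700
  · exact allRange_spec e8Ucolb_9_18645 r (by omega) c6
  by_cases c7 : r < 18755
  · exact allRange_spec e8Ucolb_9_18700 r (by omega) c7
  by_cases c8 : r < 18810
  · exact allRange_spec e8Ucolb_9_18755 r (by omega) c8
  by_cases c9 : r < 18865
  · exact allRange_spec e8Ucolb_9_18810 r (by omega) c9
  by_cases c10 : r < 18920
  · exact allRange_spec e8Ucolb_9_18865 r (by omega) c10
  by_cases c11 : r < 18975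
  · exact allRange_spec e8Ucolb_9_18920 r (by omega) c11
  by_cases c12 : r < 19030
  · exact allRange_spec e8Ucolb_9_18975 r (by omega) c12
  by_cases c13 : r < 19085
  · exact allRange_spec e8Ucolb_9_19030 r (by omega) c13
  by_cases c14 : r < 19140
  · exact allRange_spec e8Ucolb_9_19085 r (by omega) c14
  by_cases c15 : r < 19195
  · exact allRange_spec e8Ucolb_9_19140 r (by omega) c15
  by_cases c16 : r < 19250
  · exact allRange_spec e8Ucolb_9_19195 r (by omega) c16
  by_cases c17 : r < 19305
  · exact allRange_spec e8Ucolb_9_19250 r (by omega) c17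
  by_cases c18 : r < 19360
  · exact allRange_spec e8Ucolb_9_19305 r (by omega) c18
  by_cases c19 : r < 19415
  · exact allRange_spec e8Ucolb_9_19360 r (by omega) c19
  by_cases c20 : r < 19470
  · exact allRange_spec e8Ucolb_9_19415 r (by omega) c20
  by_cases c21 : r < 19525
  · exact allRange_spec e8Ucolb_9_19470 r (by omega) c21
  by_cases c22 : r < 19580
  · exact allRange_spec e8Ucolb_9_19525 r (by omega) c22
  by_cases c23 : r < 19635
  · exact allRange_spec e8Ucolb_9_19580 r (by omega) c23
  by_cases c24 : r < 19690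
  · exact allRange_spec e8Ucolb_9_19635 r (by omega) c24
  by_cases c25 : r < 19745
  · exact allRange_spec e8Ucolb_9_19690 r (by omega) c25
  by_cases c26 : r < 19800
  · exact allRange_spec e8Ucolb_9_19745 r (by omega) c26
  by_cases c27 : r < 19855
  · exact allRange_spec e8Ucolb_9_19800 r (by omega) c27
  by_cases c28 : r < 19910
  · exact allRange_spec e8Ucolb_9_19855 r (by omega) c28
  by_cases c29 : r < 19965
  · exact allRange_spec e8Ucolb_9_19910 r (by omega) c29
  by_cases c30 : r < 20020
  · exact allRange_spec e8Ucolb_9_19965 r (by omega) c30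
  by_cases c31 : r < 20075
  · exact allRange_spec e8Ucolb_9_20020 r (by omega) c31
  by_cases c32 : r < 20130
  · exact allRange_spec e8Ucolb_9_20075 r (by omega) c32
  by_cases c33 : r < 20185
  · exact allRange_spec e8Ucolb_9_20130 r (by omega) c33
  by_cases c34 : r < 20240
  · exact allRange_spec e8Ucolb_9_20185 r (by omega) c34
  by_cases c35 : r < 20295
  · exact allRange_spec e8Ucolb_9_20240 r (by omega) c35
  exact allRange_spec e8Ucolb_9_20295 r (by omega) h2

end Cfsg.Agent.Lib.Helper3.ChevM
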