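import Cfsg.Prelude.Def_ChevE8
import Cfsg.Agent.Lib.Helper3.ChevData.E8Uni
import Cfsg.Agent.Lib.Helper3.ChevU3
set_option autoImplicit false
set_option maxRecDepth 1000000
set_option Elab.async false

namespace Cfsg.Agent.Lib.Helper3.ChevM

theorem e8Uinj_0_0 : allRange 0 80 ((fun r => hposCheck Cfsg.Lie.chevE8 hposE8 r)) = true := by decide +kernel
theorem e8Uinj_0_80 : allRange 80 160 ((fun r => hposCheck Cfsg.Lie.chevE8 hposE8 r)) = true := by decide +kernel
theorem e8Uinj_0_160 : allRange 160 240 ((fun r => hposCheck Cfsg.Lie.chevE8 hposE8 r)) = true := by decide +kernel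

/-- The positions of the positive roots of type E8 are distinct (roots 0 to 239). -/
theorem e8Uinj_0 : ∀ r, 0 ≤ r → r < 240 → ((fun r => hposCheck Cfsg.Lie.chevE8 hposE8 r)) r = true := by
  intro r h1 h2
  by_cases c0 : r < 80
  · exact allRange_spec e8Uinj_0_0 r (by omega) c0
  by_cases c1 : r < 160
  · exact allRange_spec e8Uinj_0_80 r (by omega) c1
  exact allRange_spec e8Uinj_0_160 r (by omega) h2

end Cfsg.Agent.Lib.Helper3.ChevM
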