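import Cfsg.Agent.Lib.Helper3.ChevData.E8Datum
import Cfsg.Agent.Lib.Helper3.ChevData.E8Uni
import Cfsg.Agent.Lib.Helper3.ChevU3
set_option autoImplicit false
set_option maxRecDepth 1000000
set_option Elab.async false

namespace Cfsg.Agent.Lib.Helper3.ChevM

theorem e8Ulev_0_0 : allRange 0 31 ((fun r => levelCheck cdE8 hfE8 frE8 r)) = true := by decide +kernel
theorem e8Ulev_0_31 : allRange 31 62 ((fun r => levelCheck cdE8 hfE8 frE8 r)) = true := by decide +kernel
theorem e8Ulev_0_62 : allRange 62 93 ((fun r => levelCheck cdE8 hfE8 frE8 r)) = true := by decide +kernel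
theorem e8Ulev_0_93 : allRange 93 124 ((fun r => levelCheck cdE8 hfE8 frE8 r)) = true := by decide +kernel
theorem e8Ulev_0_124 : allRange 124 155 ((fun r => levelCheck cdE8 hfE8 frE8 r)) = true := by decide +kernel
theorem e8Ulev_0_155 : allRange 155 186 ((fun r => levelCheck cdE8 hfE8 frE8 r)) = true := by decide +kernel
theorem e8Ulev_0_186 : allRange 186 217 ((fun r => levelCheck cdE8 hfE8 frE8 r)) = true := by decide +kernel
theorem e8Ulev_0_217 : allRange 217 240 ((fun r => levelCheck cdE8 hfE8 frE8 r)) = true := by decide +kernel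

/-- The root elements of the positive roots of type E8 raise the level (roots 0 to 239). -/
theorem e8Ulev_0 : ∀ r, 0 ≤ r → r < 240 → ((fun r => levelCheck cdE8 hfE8 frE8 r)) r = true := by
  intro r h1 h2
  by_cases c0 : r < 31
  · exact allRange_spec e8Ulev_0_0 r (by omega) c0
  by_cases c1 : r < 62
  · exact allRange_spec e8Ulev_0_31 r (by omega) c1
  by_cases c2 : r < 93
  · exact allRange_spec e8Ulev_0_62 r (by omega) c2
  by_cases c3 : r < 124
  · exact allRange_spec e8Ulev_0_93 r (by omega) c3
  by_cases c4 : r < 155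
  · exact allRange_spec e8Ulev_0_124 r (by omega) c4
  by_cases c5 : r < 186
  · exact allRange_spec e8Ulev_0_155 r (by omega) c5
  by_cases c6 : r < 217
  · exact allRange_spec e8Ulev_0_186 r (by omega) c6
  exact allRange_spec e8Ulev_0_217 r (by omega) h2

end Cfsg.Agent.Lib.Helper3.ChevM
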