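import Cfsg.Prelude.Def_ChevE8
import Cfsg.Agent.Lib.Helper3.StU10
set_option autoImplicit false
set_option maxRecDepth 1000000
set_option Elab.async false

namespace Cfsg.Agent.Lib.Helper3.ChevM
open Cfsg.Agent.Lib.Helper3.StB Cfsg.Agent.Lib.Helper3.StU

theorem e8Utor_26_38480 : allRange 38480 38520 ((fun k => posTorOK Cfsg.Lie.chevE8 (k / 240) (k % 240))) = true := by decide +kernel
theorem e8Utor_26_38520 : allRange 38520 38560 ((fun k => posTorOK Cfsg.Lie.chevE8 (k / 240) (k % 240))) = true := by decide +kernel
theorem e8Utor_26_38560 : allRange 38560 38600 ((fun k => posTorOK Cfsg.Lie.chevE8 (k / 240) (k % 240))) = true := by decide +kernel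
theorem e8Utor_26_38600 : allRange 38600 38640 ((fun k => posTorOK Cfsg.Lie.chevE8 (k / 240) (k % 240))) = true := by decide +kernel
theorem e8Utor_26_38640 : allRange 38640 38680 ((fun k => posTorOK Cfsg.Lie.chevE8 (k / 240) (k % 240))) = true := by decide +kernel
theorem e8Utor_26_38680 : allRange 38680 38720 ((fun k => posTorOK Cfsg.Lie.chevE8 (k / 240) (k % 240))) = true := by decide +kernel
theorem e8Utor_26_38720 : allRange 38720 38760 ((fun k => posTorOK Cfsg.Lie.chevE8 (k / 240) (k % 240))) = true := by decide +kernel
theorem e8Utor_26_38760 : allRange 38760 38800 ((fun k => posTorOK Cfsg.Lie.chevE8 (k / 240) (k % 240))) = true := by decide +kernel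
theorem e8Utor_26_38800 : allRange 38800 38840 ((fun k => posTorOK Cfsg.Lie.chevE8 (k / 240) (k % 240))) = true := by decide +kernel
theorem e8Utor_26_38840 : allRange 38840 38880 ((fun k => posTorOK Cfsg.Lie.chevE8 (k / 240) (k % 240))) = true := by decide +kernel
theorem e8Utor_26_38880 : allRange 38880 38920 ((fun k => posTorOK Cfsg.Lie.chevE8 (k / 240) (k % 240))) = true := by decide +kernel
theorem e8Utor_26_38920 : allRange 38920 38960 ((fun k => posTorOK Cfsg.Lie.chevE8 (k / 240) (k % 240))) = true := by decide +kernel
theorem e8Utor_26_38960 : allRange 38960 39000 ((fun k => posTorOK Cfsg.Lie.chevE8 (k / 240) (k % 240))) = true := by decide +kernel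
theorem e8Utor_26_39000 : allRange 39000 39040 ((fun k => posTorOK Cfsg.Lie.chevE8 (k / 240) (k % 240))) = true := by decide +kernel
theorem e8Utor_26_39040 : allRange 39040 39080 ((fun k => posTorOK Cfsg.Lie.chevE8 (k / 240) (k % 240))) = true := by decide +kernel
theorem e8Utor_26_39080 : allRange 39080 39120 ((fun k => posTorOK Cfsg.Lie.chevE8 (k / 240) (k % 240))) = true := by decide +kernel
theorem e8Utor_26_39120 : allRange 39120 39160 ((fun k => posTorOK Cfsg.Lie.chevE8 (k / 240) (k % 240))) = true := by decide +kernel
theorem e8Utor_26_39160 : allRange 39160 39200 ((fun k => posTorOK Cfsg.Lie.chevE8 (k / 240) (k % 240))) = true := by decide +kernel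
theorem e8Utor_26_39200 : allRange 39200 39240 ((fun k => posTorOK Cfsg.Lie.chevE8 (k / 240) (k % 240))) = true := by decide +kernel
theorem e8Utor_26_39240 : allRange 39240 39280 ((fun k => posTorOK Cfsg.Lie.chevE8 (k / 240) (k % 240))) = true := by decide +kernel
theorem e8Utor_26_39280 : allRange 39280 39320 ((fun k => posTorOK Cfsg.Lie.chevE8 (k / 240) (k % 240))) = true := by decide +kernel
theorem e8Utor_26_39320 : allRange 39320 39360 ((fun k => posTorOK Cfsg.Lie.chevE8 (k / 240) (k % 240))) = true := by decide +kernel
theorem e8Utor_26_39360 : allRange 39360 39400 ((fun k => posTorOK Cfsg.Lie.chevE8 (k / 240) (k % 240))) = true := by decide +kernel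
theorem e8Utor_26_39400 : allRange 39400 39440 ((fun k => posTorOK Cfsg.Lie.chevE8 (k / 240) (k % 240))) = true := by decide +kernel
theorem e8Utor_26_39440 : allRange 39440 39480 ((fun k => posTorOK Cfsg.Lie.chevE8 (k / 240) (k % 240))) = true := by decide +kernel
theorem e8Utor_26_39480 : allRange 39480 39520 ((fun k => posTorOK Cfsg.Lie.chevE8 (k / 240) (k % 240))) = true := by decide +kernel
theorem e8Utor_26_39520 : allRange 39520 39560 ((fun k => posTorOK Cfsg.Lie.chevE8 (k / 240) (k % 240))) = true := by decide +kernel
theorem e8Utor_26_39560 : allRange 39560 39600 ((fun k => posTorOK Cfsg.Lie.chevE8 (k / 240) (k % 240))) = true := by decide +kernel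
theorem e8Utor_26_39600 : allRange 39600 39640 ((fun k => posTorOK Cfsg.Lie.chevE8 (k / 240) (k % 240))) = true := by decide +kernel
theorem e8Utor_26_39640 : allRange 39640 39680 ((fun k => posTorOK Cfsg.Lie.chevE8 (k / 240) (k % 240))) = true := by decide +kernel
theorem e8Utor_26_39680 : allRange 39680 39720 ((fun k => posTorOK Cfsg.Lie.chevE8 (k / 240) (k % 240))) = true := by decide +kernel
theorem e8Utor_26_39720 : allRange 39720 39760 ((fun k => posTorOK Cfsg.Lie.chevE8 (k / 240) (k % 240))) = true := by decide +kernel
theorem e8Utor_26_39760 : allRange 39760 39800 ((fun k => posTorOK Cfsg.Lie.chevE8 (k / 240) (k % 240))) = true := by decide +kernel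
theorem e8Utor_26_39800 : allRange 39800 39840 ((fun k => posTorOK Cfsg.Lie.chevE8 (k / 240) (k % 240))) = true := by decide +kernel
theorem e8Utor_26_39840 : allRange 39840 39880 ((fun k => posTorOK Cfsg.Lie.chevE8 (k / 240) (k % 240))) = true := by decide +kernel
theorem e8Utor_26_39880 : allRange 39880 39920 ((fun k => posTorOK Cfsg.Lie.chevE8 (k / 240) (k % 240))) = true := by decide +kernel
theorem e8Utor_26_39920 : allRange 39920 39960 ((fun k => posTorOK Cfsg.Lie.chevE8 (k / 240) (k % 240))) = true := by decide +kernel

/-- Torus elements separating the pairs of positive roots of type E8 (roots 38480 to 39959). -/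
theorem e8Utor_26 : ∀ r, 38480 ≤ r → r < 39960 → ((fun k => posTorOK Cfsg.Lie.chevE8 (k / 240) (k % 240))) r = true := by
  intro r h1 h2
  by_cases c0 : r < 38520
  · exact allRange_spec e8Utor_26_38480 r (by omega) c0
  by_cases c1 : r < 38560
  · exact allRange_spec e8Utor_26_38520 r (by omega) c1
  by_cases c2 : r < 38600
  · exact allRange_spec e8Utor_26_38560 r (by omega) c2
  by_cases c3 : r < 38640
  · exact allRange_spec e8Utor_26_38600 r (by omega) c3
  by_cases c4 : r < 38680
  · exact allRange_spec e8Utor_26_38640 r (by omega) c4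
  by_cases c5 : r < 38720
  · exact allRange_spec e8Utor_26_38680 r (by omega) c5
  by_cases c6 : r < 38760
  · exact allRange_spec e8Utor_26_38720 r (by omega) c6
  by_cases c7 : r < 38800
  · exact allRange_spec e8Utor_26_38760 r (by omega) c7
  by_cases c8 : r < 38840
  · exact allRange_spec e8Utor_26_38800 r (by omega) c8
  by_cases c9 : r < 38880
  · exact allRange_spec e8Utor_26_38840 r (by omega) c9
  by_cases c10 : r < 38920
  · exact allRange_spec e8Utor_26_38880 r (by omega) c10
  by_cases c11 : r < 38960
  · exact allRange_spec e8Utor_26_38920 r (by omega) c11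
  by_cases c12 : r < 39000
  · exact allRange_spec e8Utor_26_38960 r (by omega) c12
  by_cases c13 : r < 39040
  · exact allRange_spec e8Utor_26_39000 r (by omega) c13
  by_cases c14 : r < 39080
  · exact allRange_spec e8Utor_26_39040 r (by omega) c14
  by_cases c15 : r < 39120
  · exact allRange_spec e8Utor_26_39080 r (by omega) c15
  by_cases c16 : r < 39160
  · exact allRange_spec e8Utor_26_39120 r (by omega) c16
  by_cases c17 : r < 39200
  · exact allRange_spec e8Utor_26_39160 r (by omega) c17
  by_cases c18 : r < 39240
  · exact allRange_spec e8Utor_26_39200 r (by omega) c18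
  by_cases c19 : r < 39280
  · exact allRange_spec e8Utor_26_39240 r (by omega) c19
  by_cases c20 : r < 39320
  · exact allRange_spec e8Utor_26_39280 r (by omega) c20
  by_cases c21 : r < 39360
  · exact allRange_spec e8Utor_26_39320 r (by omega) c21
  by_cases c22 : r < 39400
  · exact allRange_spec e8Utor_26_39360 r (by omega) c22
  by_cases c23 : r < 39440
  · exact allRange_spec e8Utor_26_39400 r (by omega) c23
  by_cases c24 : r < 39480
  · exact allRange_spec e8Utor_26_39440 r (by omega) c24
  by_cases c25 : r < 39520
  · exact allRange_spec e8Utor_26_39480 r (by omega) c25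
  by_cases c26 : r < 39560
  · exact allRange_spec e8Utor_26_39520 r (by omega) c26
  by_cases c27 : r < 39600
  · exact allRange_spec e8Utor_26_39560 r (by omega) c27
  by_cases c28 : r < 39640
  · exact allRange_spec e8Utor_26_39600 r (by omega) c28
  by_cases c29 : r < 39680
  · exact allRange_spec e8Utor_26_39640 r (by omega) c29
  by_cases c30 : r < 39720
  · exact allRange_spec e8Utor_26_39680 r (by omega) c30
  by_cases c31 : r < 39760
  · exact allRange_spec e8Utor_26_39720 r (by omega) c31
  by_cases c32 : r < 39800
  · exact allRange_spec e8Utor_26_39760 r (by omega) c32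
  by_cases c33 : r < 39840
  · exact allRange_spec e8Utor_26_39800 r (by omega) c33
  by_cases c34 : r < 39880
  · exact allRange_spec e8Utor_26_39840 r (by omega) c34
  by_cases c35 : r < 39920
  · exact allRange_spec e8Utor_26_39880 r (by omega) c35
  exact allRange_spec e8Utor_26_39920 r (by omega) h2

end Cfsg.Agent.Lib.Helper3.ChevM
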