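import Cfsg.Prelude.Def_ChevE8
import Cfsg.Agent.Lib.Helper3.StU10
set_option autoImplicit false
set_option maxRecDepth 1000000
set_option Elab.async false

namespace Cfsg.Agent.Lib.Helper3.ChevM
open Cfsg.Agent.Lib.Helper3.StB Cfsg.Agent.Lib.Helper3.StU

theorem e8Utor_27_39960 : allRange 39960 40000 ((fun k => posTorOK Cfsg.Lie.chevE8 (k / 240) (k % 240))) = true := by decide +kernel
theorem e8Utor_27_40000 : allRange 40000 40040 ((fun k => posTorOK Cfsg.Lie.chevE8 (k / 240) (k % 240))) = true := by decide +kernel
theorem e8Utor_27_40040 : allRange 40040 40080 ((fun k => posTorOK Cfsg.Lie.chevE8 (k / 240) (k % 240))) = true := by decide +kernel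
theorem e8Utor_27_40080 : allRange 40080 40120 ((fun k => posTorOK Cfsg.Lie.chevE8 (k / 240) (k % 240))) = true := by decide +kernel
theorem e8Utor_27_40120 : allRange 40120 40160 ((fun k => posTorOK Cfsg.Lie.chevE8 (k / 240) (k % 240))) = true := by decide +kernel
theorem e8Utor_27_40160 : allRange 40160 40200 ((fun k => posTorOK Cfsg.Lie.chevE8 (k / 240) (k % 240))) = true := by decide +kernel
theorem e8Utor_27_40200 : allRange 40200 40240 ((fun k => posTorOK Cfsg.Lie.chevE8 (k / 240) (k % 240))) = true := by decide +kernel
theorem e8Utor_27_40240 : allRange 40240 40280 ((fun k => posTorOK Cfsg.Lie.chevE8 (k / 240) (k % 240))) = true := by decide +kernel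
theorem e8Utor_27_40280 : allRange 40280 40320 ((fun k => posTorOK Cfsg.Lie.chevE8 (k / 240) (k % 240))) = true := by decide +kernel
theorem e8Utor_27_40320 : allRange 40320 40360 ((fun k => posTorOK Cfsg.Lie.chevE8 (k / 240) (k % 240))) = true := by decide +kernel
theorem e8Utor_27_40360 : allRange 40360 40400 ((fun k => posTorOK Cfsg.Lie.chevE8 (k / 240) (k % 240))) = true := by decide +kernel
theorem e8Utor_27_40400 : allRange 40400 40440 ((fun k => posTorOK Cfsg.Lie.chevE8 (k / 240) (k % 240))) = true := by decide +kernel
theorem e8Utor_27_40440 : allRange 40440 40480 ((fun k => posTorOK Cfsg.Lie.chevE8 (k / 240) (k % 240))) = true := by decide +kernel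
theorem e8Utor_27_40480 : allRange 40480 40520 ((fun k => posTorOK Cfsg.Lie.chevE8 (k / 240) (k % 240))) = true := by decide +kernel
theorem e8Utor_27_40520 : allRange 40520 40560 ((fun k => posTorOK Cfsg.Lie.chevE8 (k / 240) (k % 240))) = true := by decide +kernel
theorem e8Utor_27_40560 : allRange 40560 40600 ((fun k => posTorOK Cfsg.Lie.chevE8 (k / 240) (k % 240))) = true := by decide +kernel
theorem e8Utor_27_40600 : allRange 40600 40640 ((fun k => posTorOK Cfsg.Lie.chevE8 (k / 240) (k % 240))) = true := by decide +kernel
theorem e8Utor_27_40640 : allRange 40640 40680 ((fun k => posTorOK Cfsg.Lie.chevE8 (k / 240) (k % 240))) = true := by decide +kernel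
theorem e8Utor_27_40680 : allRange 40680 40720 ((fun k => posTorOK Cfsg.Lie.chevE8 (k / 240) (k % 240))) = true := by decide +kernel
theorem e8Utor_27_40720 : allRange 40720 40760 ((fun k => posTorOK Cfsg.Lie.chevE8 (k / 240) (k % 240))) = true := by decide +kernel
theorem e8Utor_27_40760 : allRange 40760 40800 ((fun k => posTorOK Cfsg.Lie.chevE8 (k / 240) (k % 240))) = true := by decide +kernel
theorem e8Utor_27_40800 : allRange 40800 40840 ((fun k => posTorOK Cfsg.Lie.chevE8 (k / 240) (k % 240))) = true := by decide +kernel
theorem e8Utor_27_40840 : allRange 40840 40880 ((fun k => posTorOK Cfsg.Lie.chevE8 (k / 240) (k % 240))) = true := by decide +kernel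
theorem e8Utor_27_40880 : allRange 40880 40920 ((fun k => posTorOK Cfsg.Lie.chevE8 (k / 240) (k % 240))) = true := by decide +kernel
theorem e8Utor_27_40920 : allRange 40920 40960 ((fun k => posTorOK Cfsg.Lie.chevE8 (k / 240) (k % 240))) = true := by decide +kernel
theorem e8Utor_27_40960 : allRange 40960 41000 ((fun k => posTorOK Cfsg.Lie.chevE8 (k / 240) (k % 240))) = true := by decide +kernel
theorem e8Utor_27_41000 : allRange 41000 41040 ((fun k => posTorOK Cfsg.Lie.chevE8 (k / 240) (k % 240))) = true := by decide +kernel
theorem e8Utor_27_41040 : allRange 41040 41080 ((fun k => posTorOK Cfsg.Lie.chevE8 (k / 240) (k % 240))) = true := by decide +kernel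
theorem e8Utor_27_41080 : allRange 41080 41120 ((fun k => posTorOK Cfsg.Lie.chevE8 (k / 240) (k % 240))) = true := by decide +kernel
theorem e8Utor_27_41120 : allRange 41120 41160 ((fun k => posTorOK Cfsg.Lie.chevE8 (k / 240) (k % 240))) = true := by decide +kernel
theorem e8Utor_27_41160 : allRange 41160 41200 ((fun k => posTorOK Cfsg.Lie.chevE8 (k / 240) (k % 240))) = true := by decide +kernel
theorem e8Utor_27_41200 : allRange 41200 41240 ((fun k => posTorOK Cfsg.Lie.chevE8 (k / 240) (k % 240))) = true := by decide +kernel
theorem e8Utor_27_41240 : allRange 41240 41280 ((fun k => posTorOK Cfsg.Lie.chevE8 (k / 240) (k % 240))) = true := by decide +kernel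
theorem e8Utor_27_41280 : allRange 41280 41320 ((fun k => posTorOK Cfsg.Lie.chevE8 (k / 240) (k % 240))) = true := by decide +kernel
theorem e8Utor_27_41320 : allRange 41320 41360 ((fun k => posTorOK Cfsg.Lie.chevE8 (k / 240) (k % 240))) = true := by decide +kernel
theorem e8Utor_27_41360 : allRange 41360 41400 ((fun k => posTorOK Cfsg.Lie.chevE8 (k / 240) (k % 240))) = true := by decide +kernel
theorem e8Utor_27_41400 : allRange 41400 41440 ((fun k => posTorOK Cfsg.Lie.chevE8 (k / 240) (k % 240))) = true := by decide +kernel

/-- Torus elements separating the pairs of positive roots of type E8 (roots 39960 to 41439). -/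
theorem e8Utor_27 : ∀ r, 39960 ≤ r → r < 41440 → ((fun k => posTorOK Cfsg.Lie.chevE8 (k / 240) (k % 240))) r = true := by
  intro r h1 h2
  by_cases c0 : r < 40000
  · exact allRange_spec e8Utor_27_39960 r (by omega) c0
  by_cases c1 : r < 40040
  · exact allRange_spec e8Utor_27_40000 r (by omega) c1
  by_cases c2 : r < 40080
  · exact allRange_spec e8Utor_27_40040 r (by omega) c2
  by_cases c3 : r < 40120
  · exact allRange_spec e8Utor_27_40080 r (by omega) c3
  by_cases c4 : r < 40160
  · exact allRange_spec e8Utor_27_40120 r (by omega) c4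
  by_cases c5 : r < 40200
  · exact allRange_spec e8Utor_27_40160 r (by omega) c5
  by_cases c6 : r < 40240
  · exact allRange_spec e8Utor_27_40200 r (by omega) c6
  by_cases c7 : r < 40280
  · exact allRange_spec e8Utor_27_40240 r (by omega) c7
  by_cases c8 : r < 40320
  · exact allRange_spec e8Utor_27_40280 r (by omega) c8
  by_cases c9 : r < 40360
  · exact allRange_spec e8Utor_27_40320 r (by omega) c9
  by_cases c10 : r < 40400
  · exact allRange_spec e8Utor_27_40360 r (by omega) c10
  by_cases c11 : r < 40440
  · exact allRange_spec e8Utor_27_40400 r (by omega) c11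
  by_cases c12 : r < 40480
  · exact allRange_spec e8Utor_27_40440 r (by omega) c12
  by_cases c13 : r < 40520
  · exact allRange_spec e8Utor_27_40480 r (by omega) c13
  by_cases c14 : r < 40560
  · exact allRange_spec e8Utor_27_40520 r (by omega) c14
  by_cases c15 : r < 40600
  · exact allRange_spec e8Utor_27_40560 r (by omega) c15
  by_cases c16 : r < 40640
  · exact allRange_spec e8Utor_27_40600 r (by omega) c16
  by_cases c17 : r < 40680
  · exact allRange_spec e8Utor_27_40640 r (by omega) c17
  by_cases c18 : r < 40720
  · exact allRange_spec e8Utor_27_40680 r (by omega) c18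
  by_cases c19 : r < 40760
  · exact allRange_spec e8Utor_27_40720 r (by omega) c19
  by_cases c20 : r < 40800
  · exact allRange_spec e8Utor_27_40760 r (by omega) c20
  by_cases c21 : r < 40840
  · exact allRange_spec e8Utor_27_40800 r (by omega) c21
  by_cases c22 : r < 40880
  · exact allRange_spec e8Utor_27_40840 r (by omega) c22
  by_cases c23 : r < 40920
  · exact allRange_spec e8Utor_27_40880 r (by omega) c23
  by_cases c24 : r < 40960
  · exact allRange_spec e8Utor_27_40920 r (by omega) c24
  by_cases c25 : r < 41000
  · exact allRange_spec e8Utor_27_40960 r (by omega) c25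
  by_cases c26 : r < 41040
  · exact allRange_spec e8Utor_27_41000 r (by omega) c26
  by_cases c27 : r < 41080
  · exact allRange_spec e8Utor_27_41040 r (by omega) c27
  by_cases c28 : r < 41120
  · exact allRange_spec e8Utor_27_41080 r (by omega) c28
  by_cases c29 : r < 41160
  · exact allRange_spec e8Utor_27_41120 r (by omega) c29
  by_cases c30 : r < 41200
  · exact allRange_spec e8Utor_27_41160 r (by omega) c30
  by_cases c31 : r < 41240
  · exact allRange_spec e8Utor_27_41200 r (by omega) c31
  by_cases c32 : r < 41280
  · exact allRange_spec e8Utor_27_41240 r (by omega) c32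
  by_cases c33 : r < 41320
  · exact allRange_spec e8Utor_27_41280 r (by omega) c33
  by_cases c34 : r < 41360
  · exact allRange_spec e8Utor_27_41320 r (by omega) c34
  by_cases c35 : r < 41400
  · exact allRange_spec e8Utor_27_41360 r (by omega) c35
  exact allRange_spec e8Utor_27_41400 r (by omega) h2

end Cfsg.Agent.Lib.Helper3.ChevM
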