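import Cfsg.Prelude.Def_ChevE8
import Cfsg.Agent.Lib.Helper3.StU10
set_option autoImplicit false
set_option maxRecDepth 1000000
set_option Elab.async false

namespace Cfsg.Agent.Lib.Helper3.ChevM
open Cfsg.Agent.Lib.Helper3.StB Cfsg.Agent.Lib.Helper3.StU

theorem e8Utor_28_41440 : allRange 41440 41480 ((fun k => posTorOK Cfsg.Lie.chevE8 (k / 240) (k % 240))) = true := by decide +kernel
theorem e8Utor_28_41480 : allRange 41480 41520 ((fun k => posTorOK Cfsg.Lie.chevE8 (k / 240) (k % 240))) = true := by decide +kernel
theorem e8Utor_28_41520 : allRange 41520 41560 ((fun k => posTorOK Cfsg.Lie.chevE8 (k / 240) (k % 240))) = true := by decide +kernel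
theorem e8Utor_28_41560 : allRange 41560 41600 ((fun k => posTorOK Cfsg.Lie.chevE8 (k / 240) (k % 240))) = true := by decide +kernel
theorem e8Utor_28_41600 : allRange 41600 41640 ((fun k => posTorOK Cfsg.Lie.chevE8 (k / 240) (k % 240))) = true := by decide +kernel
theorem e8Utor_28_41640 : allRange 41640 41680 ((fun k => posTorOK Cfsg.Lie.chevE8 (k / 240) (k % 240))) = true := by decide +kernel
theorem e8Utor_28_41680 : allRange 41680 41720 ((fun k => posTorOK Cfsg.Lie.chevE8 (k / 240) (k % 240))) = true := by decide +kernel
theorem e8Utor_28_41720 : allRange 41720 41760 ((fun k => posTorOK Cfsg.Lie.chevE8 (k / 240) (k % 240))) = true := by decide +kernel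
theorem e8Utor_28_41760 : allRange 41760 41800 ((fun k => posTorOK Cfsg.Lie.chevE8 (k / 240) (k % 240))) = true := by decide +kernel
theorem e8Utor_28_41800 : allRange 41800 41840 ((fun k => posTorOK Cfsg.Lie.chevE8 (k / 240) (k % 240))) = true := by decide +kernel
theorem e8Utor_28_41840 : allRange 41840 41880 ((fun k => posTorOK Cfsg.Lie.chevE8 (k / 240) (k % 240))) = true := by decide +kernel
theorem e8Utor_28_41880 : allRange 41880 41920 ((fun k => posTorOK Cfsg.Lie.chevE8 (k / 240) (k % 240))) = true := by decide +kernel
theorem e8Utor_28_41920 : allRange 41920 41960 ((fun k => posTorOK Cfsg.Lie.chevE8 (k / 240) (k % 240))) = true := by decide +kernel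
theorem e8Utor_28_41960 : allRange 41960 42000 ((fun k => posTorOK Cfsg.Lie.chevE8 (k / 240) (k % 240))) = true := by decide +kernel
theorem e8Utor_28_42000 : allRange 42000 42040 ((fun k => posTorOK Cfsg.Lie.chevE8 (k / 240) (k % 240))) = true := by decide +kernel
theorem e8Utor_28_42040 : allRange 42040 42080 ((fun k => posTorOK Cfsg.Lie.chevE8 (k / 240) (k % 240))) = true := by decide +kernel
theorem e8Utor_28_42080 : allRange 42080 42120 ((fun k => posTorOK Cfsg.Lie.chevE8 (k / 240) (k % 240))) = true := by decide +kernel
theorem e8Utor_28_42120 : allRange 42120 42160 ((fun k => posTorOK Cfsg.Lie.chevE8 (k / 240) (k % 240))) = true := by decide +kernel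
theorem e8Utor_28_42160 : allRange 42160 42200 ((fun k => posTorOK Cfsg.Lie.chevE8 (k / 240) (k % 240))) = true := by decide +kernel
theorem e8Utor_28_42200 : allRange 42200 42240 ((fun k => posTorOK Cfsg.Lie.chevE8 (k / 240) (k % 240))) = true := by decide +kernel
theorem e8Utor_28_42240 : allRange 42240 42280 ((fun k => posTorOK Cfsg.Lie.chevE8 (k / 240) (k % 240))) = true := by decide +kernel
theorem e8Utor_28_42280 : allRange 42280 42320 ((fun k => posTorOK Cfsg.Lie.chevE8 (k / 240) (k % 240))) = true := by decide +kernel
theorem e8Utor_28_42320 : allRange 42320 42360 ((fun k => posTorOK Cfsg.Lie.chevE8 (k / 240) (k % 240))) = true := by decide +kernel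
theorem e8Utor_28_42360 : allRange 42360 42400 ((fun k => posTorOK Cfsg.Lie.chevE8 (k / 240) (k % 240))) = true := by decide +kernel
theorem e8Utor_28_42400 : allRange 42400 42440 ((fun k => posTorOK Cfsg.Lie.chevE8 (k / 240) (k % 240))) = true := by decide +kernel
theorem e8Utor_28_42440 : allRange 42440 42480 ((fun k => posTorOK Cfsg.Lie.chevE8 (k / 240) (k % 240))) = true := by decide +kernel
theorem e8Utor_28_42480 : allRange 42480 42520 ((fun k => posTorOK Cfsg.Lie.chevE8 (k / 240) (k % 240))) = true := by decide +kernel
theorem e8Utor_28_42520 : allRange 42520 42560 ((fun k => posTorOK Cfsg.Lie.chevE8 (k / 240) (k % 240))) = true := by decide +kernel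
theorem e8Utor_28_42560 : allRange 42560 42600 ((fun k => posTorOK Cfsg.Lie.chevE8 (k / 240) (k % 240))) = true := by decide +kernel
theorem e8Utor_28_42600 : allRange 42600 42640 ((fun k => posTorOK Cfsg.Lie.chevE8 (k / 240) (k % 240))) = true := by decide +kernel
theorem e8Utor_28_42640 : allRange 42640 42680 ((fun k => posTorOK Cfsg.Lie.chevE8 (k / 240) (k % 240))) = true := by decide +kernel
theorem e8Utor_28_42680 : allRange 42680 42720 ((fun k => posTorOK Cfsg.Lie.chevE8 (k / 240) (k % 240))) = true := by decide +kernel
theorem e8Utor_28_42720 : allRange 42720 42760 ((fun k => posTorOK Cfsg.Lie.chevE8 (k / 240) (k % 240))) = true := by decide +kernel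
theorem e8Utor_28_42760 : allRange 42760 42800 ((fun k => posTorOK Cfsg.Lie.chevE8 (k / 240) (k % 240))) = true := by decide +kernel
theorem e8Utor_28_42800 : allRange 42800 42840 ((fun k => posTorOK Cfsg.Lie.chevE8 (k / 240) (k % 240))) = true := by decide +kernel
theorem e8Utor_28_42840 : allRange 42840 42880 ((fun k => posTorOK Cfsg.Lie.chevE8 (k / 240) (k % 240))) = true := by decide +kernel
theorem e8Utor_28_42880 : allRange 42880 42920 ((fun k => posTorOK Cfsg.Lie.chevE8 (k / 240) (k % 240))) = true := by decide +kernel

/-- Torus elements separating the pairs of positive roots of type E8 (roots 41440 to 42919). -/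
theorem e8Utor_28 : ∀ r, 41440 ≤ r → r < 42920 → ((fun k => posTorOK Cfsg.Lie.chevE8 (k / 240) (k % 240))) r = true := by
  intro r h1 h2
  by_cases c0 : r < 41480
  · exact allRange_spec e8Utor_28_41440 r (by omega) c0
  by_cases c1 : r < 41520
  · exact allRange_spec e8Utor_28_41480 r (by omega) c1
  by_cases c2 : r < 41560
  · exact allRange_spec e8Utor_28_41520 r (by omega) c2
  by_cases c3 : r < 41600
  · exact allRange_spec e8Utor_28_41560 r (by omega) c3
  by_cases c4 : r < 41640
  · exact allRange_spec e8Utor_28_41600 r (by omega) c4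
  by_cases c5 : r < 41680
  · exact allRange_spec e8Utor_28_41640 r (by omega) c5
  by_cases c6 : r < 41720
  · exact allRange_spec e8Utor_28_41680 r (by omega) c6
  by_cases c7 : r < 41760
  · exact allRange_spec e8Utor_28_41720 r (by omega) c7
  by_cases c8 : r < 41800
  · exact allRange_spec e8Utor_28_41760 r (by omega) c8
  by_cases c9 : r < 41840
  · exact allRange_spec e8Utor_28_41800 r (by omega) c9
  by_cases c10 : r < 41880
  · exact allRange_spec e8Utor_28_41840 r (by omega) c10
  by_cases c11 : r < 41920
  · exact allRange_spec e8Utor_28_41880 r (by omega) c11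
  by_cases c12 : r < 41960
  · exact allRange_spec e8Utor_28_41920 r (by omega) c12
  by_cases c13 : r < 42000
  · exact allRange_spec e8Utor_28_41960 r (by omega) c13
  by_cases c14 : r < 42040
  · exact allRange_spec e8Utor_28_42000 r (by omega) c14
  by_cases c15 : r < 42080
  · exact allRange_spec e8Utor_28_42040 r (by omega) c15
  by_cases c16 : r < 42120
  · exact allRange_spec e8Utor_28_42080 r (by omega) c16
  by_cases c17 : r < 42160
  · exact allRange_spec e8Utor_28_42120 r (by omega) c17
  by_cases c18 : r < 42200
  · exact allRange_spec e8Utor_28_42160 r (by omega) c18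
  by_cases c19 : r < 42240
  · exact allRange_spec e8Utor_28_42200 r (by omega) c19
  by_cases c20 : r < 42280
  · exact allRange_spec e8Utor_28_42240 r (by omega) c20
  by_cases c21 : r < 42320
  · exact allRange_spec e8Utor_28_42280 r (by omega) c21
  by_cases c22 : r < 42360
  · exact allRange_spec e8Utor_28_42320 r (by omega) c22
  by_cases c23 : r < 42400
  · exact allRange_spec e8Utor_28_42360 r (by omega) c23
  by_cases c24 : r < 42440
  · exact allRange_spec e8Utor_28_42400 r (by omega) c24
  by_cases c25 : r < 42480
  · exact allRange_spec e8Utor_28_42440 r (by omega) c25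
  by_cases c26 : r < 42520
  · exact allRange_spec e8Utor_28_42480 r (by omega) c26
  by_cases c27 : r < 42560
  · exact allRange_spec e8Utor_28_42520 r (by omega) c27
  by_cases c28 : r < 42600
  · exact allRange_spec e8Utor_28_42560 r (by omega) c28
  by_cases c29 : r < 42640
  · exact allRange_spec e8Utor_28_42600 r (by omega) c29
  by_cases c30 : r < 42680
  · exact allRange_spec e8Utor_28_42640 r (by omega) c30
  by_cases c31 : r < 42720
  · exact allRange_spec e8Utor_28_42680 r (by omega) c31
  by_cases c32 : r < 42760
  · exact allRange_spec e8Utor_28_42720 r (by omega) c32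
  by_cases c33 : r < 42800
  · exact allRange_spec e8Utor_28_42760 r (by omega) c33
  by_cases c34 : r < 42840
  · exact allRange_spec e8Utor_28_42800 r (by omega) c34
  by_cases c35 : r < 42880
  · exact allRange_spec e8Utor_28_42840 r (by omega) c35
  exact allRange_spec e8Utor_28_42880 r (by omega) h2

end Cfsg.Agent.Lib.Helper3.ChevM
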