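import Cfsg.Prelude.Def_ChevE8
import Cfsg.Agent.Lib.Helper3.StU10
set_option autoImplicit false
set_option maxRecDepth 1000000
set_option Elab.async false

namespace Cfsg.Agent.Lib.Helper3.ChevM
open Cfsg.Agent.Lib.Helper3.StB Cfsg.Agent.Lib.Helper3.StU

theorem e8Utor_29_42920 : allRange 42920 42960 ((fun k => posTorOK Cfsg.Lie.chevE8 (k / 240) (k % 240))) = true := by decide +kernel
theorem e8Utor_29_42960 : allRange 42960 43000 ((fun k => posTorOK Cfsg.Lie.chevE8 (k / 240) (k % 240))) = true := by decide +kernel
theorem e8Utor_29_43000 : allRange 43000 43040 ((fun k => posTorOK Cfsg.Lie.chevE8 (k / 240) (k % 240))) = true := by decide +kernel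
theorem e8Utor_29_43040 : allRange 43040 43080 ((fun k => posTorOK Cfsg.Lie.chevE8 (k / 240) (k % 240))) = true := by decide +kernel
theorem e8Utor_29_43080 : allRange 43080 43120 ((fun k => posTorOK Cfsg.Lie.chevE8 (k / 240) (k % 240))) = true := by decide +kernel
theorem e8Utor_29_43120 : allRange 43120 43160 ((fun k => posTorOK Cfsg.Lie.chevE8 (k / 240) (k % 240))) = true := by decide +kernel
theorem e8Utor_29_43160 : allRange 43160 43200 ((fun k => posTorOK Cfsg.Lie.chevE8 (k / 240) (k % 240))) = true := by decide +kernel
theorem e8Utor_29_43200 : allRange 43200 43240 ((fun k => posTorOK Cfsg.Lie.chevE8 (k / 240) (k % 240))) = true := by decide +kernel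
theorem e8Utor_29_43240 : allRange 43240 43280 ((fun k => posTorOK Cfsg.Lie.chevE8 (k / 240) (k % 240))) = true := by decide +kernel
theorem e8Utor_29_43280 : allRange 43280 43320 ((fun k => posTorOK Cfsg.Lie.chevE8 (k / 240) (k % 240))) = true := by decide +kernel
theorem e8Utor_29_43320 : allRange 43320 43360 ((fun k => posTorOK Cfsg.Lie.chevE8 (k / 240) (k % 240))) = true := by decide +kernel
theorem e8Utor_29_43360 : allRange 43360 43400 ((fun k => posTorOK Cfsg.Lie.chevE8 (k / 240) (k % 240))) = true := by decide +kernel
theorem e8Utor_29_43400 : allRange 43400 43440 ((fun k => posTorOK Cfsg.Lie.chevE8 (k / 240) (k % 240))) = true := by decide +kernel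
theorem e8Utor_29_43440 : allRange 43440 43480 ((fun k => posTorOK Cfsg.Lie.chevE8 (k / 240) (k % 240))) = true := by decide +kernel
theorem e8Utor_29_43480 : allRange 43480 43520 ((fun k => posTorOK Cfsg.Lie.chevE8 (k / 240) (k % 240))) = true := by decide +kernel
theorem e8Utor_29_43520 : allRange 43520 43560 ((fun k => posTorOK Cfsg.Lie.chevE8 (k / 240) (k % 240))) = true := by decide +kernel
theorem e8Utor_29_43560 : allRange 43560 43600 ((fun k => posTorOK Cfsg.Lie.chevE8 (k / 240) (k % 240))) = true := by decide +kernel
theorem e8Utor_29_43600 : allRange 43600 43640 ((fun k => posTorOK Cfsg.Lie.chevE8 (k / 240) (k % 240))) = true := by decide +kernel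
theorem e8Utor_29_43640 : allRange 43640 43680 ((fun k => posTorOK Cfsg.Lie.chevE8 (k / 240) (k % 240))) = true := by decide +kernel
theorem e8Utor_29_43680 : allRange 43680 43720 ((fun k => posTorOK Cfsg.Lie.chevE8 (k / 240) (k % 240))) = true := by decide +kernel
theorem e8Utor_29_43720 : allRange 43720 43760 ((fun k => posTorOK Cfsg.Lie.chevE8 (k / 240) (k % 240))) = true := by decide +kernel
theorem e8Utor_29_43760 : allRange 43760 43800 ((fun k => posTorOK Cfsg.Lie.chevE8 (k / 240) (k % 240))) = true := by decide +kernel
theorem e8Utor_29_43800 : allRange 43800 43840 ((fun k => posTorOK Cfsg.Lie.chevE8 (k / 240) (k % 240))) = true := by decide +kernel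
theorem e8Utor_29_43840 : allRange 43840 43880 ((fun k => posTorOK Cfsg.Lie.chevE8 (k / 240) (k % 240))) = true := by decide +kernel
theorem e8Utor_29_43880 : allRange 43880 43920 ((fun k => posTorOK Cfsg.Lie.chevE8 (k / 240) (k % 240))) = true := by decide +kernel
theorem e8Utor_29_43920 : allRange 43920 43960 ((fun k => posTorOK Cfsg.Lie.chevE8 (k / 240) (k % 240))) = true := by decide +kernel
theorem e8Utor_29_43960 : allRange 43960 44000 ((fun k => posTorOK Cfsg.Lie.chevE8 (k / 240) (k % 240))) = true := by decide +kernel
theorem e8Utor_29_44000 : allRange 44000 44040 ((fun k => posTorOK Cfsg.Lie.chevE8 (k / 240) (k % 240))) = true := by decide +kernel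
theorem e8Utor_29_44040 : allRange 44040 44080 ((fun k => posTorOK Cfsg.Lie.chevE8 (k / 240) (k % 240))) = true := by decide +kernel
theorem e8Utor_29_44080 : allRange 44080 44120 ((fun k => posTorOK Cfsg.Lie.chevE8 (k / 240) (k % 240))) = true := by decide +kernel
theorem e8Utor_29_44120 : allRange 44120 44160 ((fun k => posTorOK Cfsg.Lie.chevE8 (k / 240) (k % 240))) = true := by decide +kernel
theorem e8Utor_29_44160 : allRange 44160 44200 ((fun k => posTorOK Cfsg.Lie.chevE8 (k / 240) (k % 240))) = true := by decide +kernel
theorem e8Utor_29_44200 : allRange 44200 44240 ((fun k => posTorOK Cfsg.Lie.chevE8 (k / 240) (k % 240))) = true := by decide +kernel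
theorem e8Utor_29_44240 : allRange 44240 44280 ((fun k => posTorOK Cfsg.Lie.chevE8 (k / 240) (k % 240))) = true := by decide +kernel
theorem e8Utor_29_44280 : allRange 44280 44320 ((fun k => posTorOK Cfsg.Lie.chevE8 (k / 240) (k % 240))) = true := by decide +kernel
theorem e8Utor_29_44320 : allRange 44320 44360 ((fun k => posTorOK Cfsg.Lie.chevE8 (k / 240) (k % 240))) = true := by decide +kernel
theorem e8Utor_29_44360 : allRange 44360 44400 ((fun k => posTorOK Cfsg.Lie.chevE8 (k / 240) (k % 240))) = true := by decide +kernel

/-- Torus elements separating the pairs of positive roots of type E8 (roots 42920 to 44399). -/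
theorem e8Utor_29 : ∀ r, 42920 ≤ r → r < 44400 → ((fun k => posTorOK Cfsg.Lie.chevE8 (k / 240) (k % 240))) r = true := by
  intro r h1 h2
  by_cases c0 : r < 42960
  · exact allRange_spec e8Utor_29_42920 r (by omega) c0
  by_cases c1 : r < 43000
  · exact allRange_spec e8Utor_29_42960 r (by omega) c1
  by_cases c2 : r < 43040
  · exact allRange_spec e8Utor_29_43000 r (by omega) c2
  by_cases c3 : r < 43080
  · exact allRange_spec e8Utor_29_43040 r (by omega) c3
  by_cases c4 : r < 43120
  · exact allRange_spec e8Utor_29_43080 r (by omega) c4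
  by_cases c5 : r < 43160
  · exact allRange_spec e8Utor_29_43120 r (by omega) c5
  by_cases c6 : r < 43200
  · exact allRange_spec e8Utor_29_43160 r (by omega) c6
  by_cases c7 : r < 43240
  · exact allRange_spec e8Utor_29_43200 r (by omega) c7
  by_cases c8 : r < 43280
  · exact allRange_spec e8Utor_29_43240 r (by omega) c8
  by_cases c9 : r < 43320
  · exact allRange_spec e8Utor_29_43280 r (by omega) c9
  by_cases c10 : r < 43360
  · exact allRange_spec e8Utor_29_43320 r (by omega) c10
  by_cases c11 : r < 43400
  · exact allRange_spec e8Utor_29_43360 r (by omega) c11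
  by_cases c12 : r < 43440
  · exact allRange_spec e8Utor_29_43400 r (by omega) c12
  by_cases c13 : r < 43480
  · exact allRange_spec e8Utor_29_43440 r (by omega) c13
  by_cases c14 : r < 43520
  · exact allRange_spec e8Utor_29_43480 r (by omega) c14
  by_cases c15 : r < 43560
  · exact allRange_spec e8Utor_29_43520 r (by omega) c15
  by_cases c16 : r < 43600
  · exact allRange_spec e8Utor_29_43560 r (by omega) c16
  by_cases c17 : r < 43640
  · exact allRange_spec e8Utor_29_43600 r (by omega) c17
  by_cases c18 : r < 43680
  · exact allRange_spec e8Utor_29_43640 r (by omega) c18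
  by_cases c19 : r < 43720
  · exact allRange_spec e8Utor_29_43680 r (by omega) c19
  by_cases c20 : r < 43760
  · exact allRange_spec e8Utor_29_43720 r (by omega) c20
  by_cases c21 : r < 43800
  · exact allRange_spec e8Utor_29_43760 r (by omega) c21
  by_cases c22 : r < 43840
  · exact allRange_spec e8Utor_29_43800 r (by omega) c22
  by_cases c23 : r < 43880
  · exact allRange_spec e8Utor_29_43840 r (by omega) c23
  by_cases c24 : r < 43920
  · exact allRange_spec e8Utor_29_43880 r (by omega) c24
  by_cases c25 : r < 43960
  · exact allRange_spec e8Utor_29_43920 r (by omega) c25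
  by_cases c26 : r < 44000
  · exact allRange_spec e8Utor_29_43960 r (by omega) c26
  by_cases c27 : r < 44040
  · exact allRange_spec e8Utor_29_44000 r (by omega) c27
  by_cases c28 : r < 44080
  · exact allRange_spec e8Utor_29_44040 r (by omega) c28
  by_cases c29 : r < 44120
  · exact allRange_spec e8Utor_29_44080 r (by omega) c29
  by_cases c30 : r < 44160
  · exact allRange_spec e8Utor_29_44120 r (by omega) c30
  by_cases c31 : r < 44200
  · exact allRange_spec e8Utor_29_44160 r (by omega) c31
  by_cases c32 : r < 44240
  · exact allRange_spec e8Utor_29_44200 r (by omega) c32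
  by_cases c33 : r < 44280
  · exact allRange_spec e8Utor_29_44240 r (by omega) c33
  by_cases c34 : r < 44320
  · exact allRange_spec e8Utor_29_44280 r (by omega) c34
  by_cases c35 : r < 44360
  · exact allRange_spec e8Utor_29_44320 r (by omega) c35
  exact allRange_spec e8Utor_29_44360 r (by omega) h2

end Cfsg.Agent.Lib.Helper3.ChevM
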