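import Cfsg.Prelude.Def_ChevE8
import Cfsg.Agent.Lib.Helper3.StU10
set_option autoImplicit false
set_option maxRecDepth 1000000
set_option Elab.async false

namespace Cfsg.Agent.Lib.Helper3.ChevM
open Cfsg.Agent.Lib.Helper3.StB Cfsg.Agent.Lib.Helper3.StU

theorem e8Utor_30_44400 : allRange 44400 44440 ((fun k => posTorOK Cfsg.Lie.chevE8 (k / 240) (k % 240))) = true := by decide +kernel
theorem e8Utor_30_44440 : allRange 44440 44480 ((fun k => posTorOK Cfsg.Lie.chevE8 (k / 240) (k % 240))) = true := by decide +kernel
theorem e8Utor_30_44480 : allRange 44480 44520 ((fun k => posTorOK Cfsg.Lie.chevE8 (k / 240) (k % 240))) = true := by decide +kernel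
theorem e8Utor_30_44520 : allRange 44520 44560 ((fun k => posTorOK Cfsg.Lie.chevE8 (k / 240) (k % 240))) = true := by decide +kernel
theorem e8Utor_30_44560 : allRange 44560 44600 ((fun k => posTorOK Cfsg.Lie.chevE8 (k / 240) (k % 240))) = true := by decide +kernel
theorem e8Utor_30_44600 : allRange 44600 44640 ((fun k => posTorOK Cfsg.Lie.chevE8 (k / 240) (k % 240))) = true := by decide +kernel
theorem e8Utor_30_44640 : allRange 44640 44680 ((fun k => posTorOK Cfsg.Lie.chevE8 (k / 240) (k % 240))) = true := by decide +kernel
theorem e8Utor_30_44680 : allRange 44680 44720 ((fun k => posTorOK Cfsg.Lie.chevE8 (k / 240) (k % 240))) = true := by decide +kernel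
theorem e8Utor_30_44720 : allRange 44720 44760 ((fun k => posTorOK Cfsg.Lie.chevE8 (k / 240) (k % 240))) = true := by decide +kernel
theorem e8Utor_30_44760 : allRange 44760 44800 ((fun k => posTorOK Cfsg.Lie.chevE8 (k / 240) (k % 240))) = true := by decide +kernel
theorem e8Utor_30_44800 : allRange 44800 44840 ((fun k => posTorOK Cfsg.Lie.chevE8 (k / 240) (k % 240))) = true := by decide +kernel
theorem e8Utor_30_44840 : allRange 44840 44880 ((fun k => posTorOK Cfsg.Lie.chevE8 (k / 240) (k % 240))) = true := by decide +kernel
theorem e8Utor_30_44880 : allRange 44880 44920 ((fun k => posTorOK Cfsg.Lie.chevE8 (k / 240) (k % 240))) = true := by decide +kernel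
theorem e8Utor_30_44920 : allRange 44920 44960 ((fun k => posTorOK Cfsg.Lie.chevE8 (k / 240) (k % 240))) = true := by decide +kernel
theorem e8Utor_30_44960 : allRange 44960 45000 ((fun k => posTorOK Cfsg.Lie.chevE8 (k / 240) (k % 240))) = true := by decide +kernel
theorem e8Utor_30_45000 : allRange 45000 45040 ((fun k => posTorOK Cfsg.Lie.chevE8 (k / 240) (k % 240))) = true := by decide +kernel
theorem e8Utor_30_45040 : allRange 45040 45080 ((fun k => posTorOK Cfsg.Lie.chevE8 (k / 240) (k % 240))) = true := by decide +kernel
theorem e8Utor_30_45080 : allRange 45080 45120 ((fun k => posTorOK Cfsg.Lie.chevE8 (k / 240) (k % 240))) = true := by decide +kernel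
theorem e8Utor_30_45120 : allRange 45120 45160 ((fun k => posTorOK Cfsg.Lie.chevE8 (k / 240) (k % 240))) = true := by decide +kernel
theorem e8Utor_30_45160 : allRange 45160 45200 ((fun k => posTorOK Cfsg.Lie.chevE8 (k / 240) (k % 240))) = true := by decide +kernel
theorem e8Utor_30_45200 : allRange 45200 45240 ((fun k => posTorOK Cfsg.Lie.chevE8 (k / 240) (k % 240))) = true := by decide +kernel
theorem e8Utor_30_45240 : allRange 45240 45280 ((fun k => posTorOK Cfsg.Lie.chevE8 (k / 240) (k % 240))) = true := by decide +kernel
theorem e8Utor_30_45280 : allRange 45280 45320 ((fun k => posTorOK Cfsg.Lie.chevE8 (k / 240) (k % 240))) = true := by decide +kernel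
theorem e8Utor_30_45320 : allRange 45320 45360 ((fun k => posTorOK Cfsg.Lie.chevE8 (k / 240) (k % 240))) = true := by decide +kernel
theorem e8Utor_30_45360 : allRange 45360 45400 ((fun k => posTorOK Cfsg.Lie.chevE8 (k / 240) (k % 240))) = true := by decide +kernel
theorem e8Utor_30_45400 : allRange 45400 45440 ((fun k => posTorOK Cfsg.Lie.chevE8 (k / 240) (k % 240))) = true := by decide +kernel
theorem e8Utor_30_45440 : allRange 45440 45480 ((fun k => posTorOK Cfsg.Lie.chevE8 (k / 240) (k % 240))) = true := by decide +kernel
theorem e8Utor_30_45480 : allRange 45480 45520 ((fun k => posTorOK Cfsg.Lie.chevE8 (k / 240) (k % 240))) = true := by decide +kernel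
theorem e8Utor_30_45520 : allRange 45520 45560 ((fun k => posTorOK Cfsg.Lie.chevE8 (k / 240) (k % 240))) = true := by decide +kernel
theorem e8Utor_30_45560 : allRange 45560 45600 ((fun k => posTorOK Cfsg.Lie.chevE8 (k / 240) (k % 240))) = true := by decide +kernel
theorem e8Utor_30_45600 : allRange 45600 45640 ((fun k => posTorOK Cfsg.Lie.chevE8 (k / 240) (k % 240))) = true := by decide +kernel
theorem e8Utor_30_45640 : allRange 45640 45680 ((fun k => posTorOK Cfsg.Lie.chevE8 (k / 240) (k % 240))) = true := by decide +kernel
theorem e8Utor_30_45680 : allRange 45680 45720 ((fun k => posTorOK Cfsg.Lie.chevE8 (k / 240) (k % 240))) = true := by decide +kernel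
theorem e8Utor_30_45720 : allRange 45720 45760 ((fun k => posTorOK Cfsg.Lie.chevE8 (k / 240) (k % 240))) = true := by decide +kernel
theorem e8Utor_30_45760 : allRange 45760 45800 ((fun k => posTorOK Cfsg.Lie.chevE8 (k / 240) (k % 240))) = true := by decide +kernel
theorem e8Utor_30_45800 : allRange 45800 45840 ((fun k => posTorOK Cfsg.Lie.chevE8 (k / 240) (k % 240))) = true := by decide +kernel
theorem e8Utor_30_45840 : allRange 45840 45880 ((fun k => posTorOK Cfsg.Lie.chevE8 (k / 240) (k % 240))) = true := by decide +kernel

/-- Torus elements separating the pairs of positive roots of type E8 (roots 44400 to 45879). -/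
theorem e8Utor_30 : ∀ r, 44400 ≤ r → r < 45880 → ((fun k => posTorOK Cfsg.Lie.chevE8 (k / 240) (k % 240))) r = true := by
  intro r h1 h2
  by_cases c0 : r < 44440
  · exact allRange_spec e8Utor_30_44400 r (by omega) c0
  by_cases c1 : r < 44480
  · exact allRange_spec e8Utor_30_44440 r (by omega) c1
  by_cases c2 : r < 44520
  · exact allRange_spec e8Utor_30_44480 r (by omega) c2
  by_cases c3 : r < 44560
  · exact allRange_spec e8Utor_30_44520 r (by omega) c3
  by_cases c4 : r < 44600
  · exact allRange_spec e8Utor_30_44560 r (by omega) c4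
  by_cases c5 : r < 44640
  · exact allRange_spec e8Utor_30_44600 r (by omega) c5
  by_cases c6 : r < 44680
  · exact allRange_spec e8Utor_30_44640 r (by omega) c6
  by_cases c7 : r < 44720
  · exact allRange_spec e8Utor_30_44680 r (by omega) c7
  by_cases c8 : r < 44760
  · exact allRange_spec e8Utor_30_44720 r (by omega) c8
  by_cases c9 : r < 44800
  · exact allRange_spec e8Utor_30_44760 r (by omega) c9
  by_cases c10 : r < 44840
  · exact allRange_spec e8Utor_30_44800 r (by omega) c10
  by_cases c11 : r < 44880
  · exact allRange_spec e8Utor_30_44840 r (by omega) c11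
  by_cases c12 : r < 44920
  · exact allRange_spec e8Utor_30_44880 r (by omega) c12
  by_cases c13 : r < 44960
  · exact allRange_spec e8Utor_30_44920 r (by omega) c13
  by_cases c14 : r < 45000
  · exact allRange_spec e8Utor_30_44960 r (by omega) c14
  by_cases c15 : r < 45040
  · exact allRange_spec e8Utor_30_45000 r (by omega) c15
  by_cases c16 : r < 45080
  · exact allRange_spec e8Utor_30_45040 r (by omega) c16
  by_cases c17 : r < 45120
  · exact allRange_spec e8Utor_30_45080 r (by omega) c17
  by_cases c18 : r < 45160
  · exact allRange_spec e8Utor_30_45120 r (by omega) c18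
  by_cases c19 : r < 45200
  · exact allRange_spec e8Utor_30_45160 r (by omega) c19
  by_cases c20 : r < 45240
  · exact allRange_spec e8Utor_30_45200 r (by omega) c20
  by_cases c21 : r < 45280
  · exact allRange_spec e8Utor_30_45240 r (by omega) c21
  by_cases c22 : r < 45320
  · exact allRange_spec e8Utor_30_45280 r (by omega) c22
  by_cases c23 : r < 45360
  · exact allRange_spec e8Utor_30_45320 r (by omega) c23
  by_cases c24 : r < 45400
  · exact allRange_spec e8Utor_30_45360 r (by omega) c24
  by_cases c25 : r < 45440
  · exact allRange_spec e8Utor_30_45400 r (by omega) c25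
  by_cases c26 : r < 45480
  · exact allRange_spec e8Utor_30_45440 r (by omega) c26
  by_cases c27 : r < 45520
  · exact allRange_spec e8Utor_30_45480 r (by omega) c27
  by_cases c28 : r < 45560
  · exact allRange_spec e8Utor_30_45520 r (by omega) c28
  by_cases c29 : r < 45600
  · exact allRange_spec e8Utor_30_45560 r (by omega) c29
  by_cases c30 : r < 45640
  · exact allRange_spec e8Utor_30_45600 r (by omega) c30
  by_cases c31 : r < 45680
  · exact allRange_spec e8Utor_30_45640 r (by omega) c31
  by_cases c32 : r < 45720
  · exact allRange_spec e8Utor_30_45680 r (by omega) c32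
  by_cases c33 : r < 45760
  · exact allRange_spec e8Utor_30_45720 r (by omega) c33
  by_cases c34 : r < 45800
  · exact allRange_spec e8Utor_30_45760 r (by omega) c34
  by_cases c35 : r < 45840
  · exact allRange_spec e8Utor_30_45800 r (by omega) c35
  exact allRange_spec e8Utor_30_45840 r (by omega) h2

end Cfsg.Agent.Lib.Helper3.ChevM
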