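import Cfsg.Prelude.Def_ChevE8
import Cfsg.Agent.Lib.Helper3.StU10
set_option autoImplicit false
set_option maxRecDepth 1000000
set_option Elab.async false

namespace Cfsg.Agent.Lib.Helper3.ChevM
open Cfsg.Agent.Lib.Helper3.StB Cfsg.Agent.Lib.Helper3.StU

theorem e8Utor_31_45880 : allRange 45880 45920 ((fun k => posTorOK Cfsg.Lie.chevE8 (k / 240) (k % 240))) = true := by decide +kernel
theorem e8Utor_31_45920 : allRange 45920 45960 ((fun k => posTorOK Cfsg.Lie.chevE8 (k / 240) (k % 240))) = true := by decide +kernel
theorem e8Utor_31_45960 : allRange 45960 46000 ((fun k => posTorOK Cfsg.Lie.chevE8 (k / 240) (k % 240))) = true := by decide +kernel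
theorem e8Utor_31_46000 : allRange 46000 46040 ((fun k => posTorOK Cfsg.Lie.chevE8 (k / 240) (k % 240))) = true := by decide +kernel
theorem e8Utor_31_46040 : allRange 46040 46080 ((fun k => posTorOK Cfsg.Lie.chevE8 (k / 240) (k % 240))) = true := by decide +kernel
theorem e8Utor_31_46080 : allRange 46080 46120 ((fun k => posTorOK Cfsg.Lie.chevE8 (k / 240) (k % 240))) = true := by decide +kernel
theorem e8Utor_31_46120 : allRange 46120 46160 ((fun k => posTorOK Cfsg.Lie.chevE8 (k / 240) (k % 240))) = true := by decide +kernel
theorem e8Utor_31_46160 : allRange 46160 46200 ((fun k => posTorOK Cfsg.Lie.chevE8 (k / 240) (k % 240))) = true := by decide +kernel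
theorem e8Utor_31_46200 : allRange 46200 46240 ((fun k => posTorOK Cfsg.Lie.chevE8 (k / 240) (k % 240))) = true := by decide +kernel
theorem e8Utor_31_46240 : allRange 46240 46280 ((fun k => posTorOK Cfsg.Lie.chevE8 (k / 240) (k % 240))) = true := by decide +kernel
theorem e8Utor_31_46280 : allRange 46280 46320 ((fun k => posTorOK Cfsg.Lie.chevE8 (k / 240) (k % 240))) = true := by decide +kernel
theorem e8Utor_31_46320 : allRange 46320 46360 ((fun k => posTorOK Cfsg.Lie.chevE8 (k / 240) (k % 240))) = true := by decide +kernel
theorem e8Utor_31_46360 : allRange 46360 46400 ((fun k => posTorOK Cfsg.Lie.chevE8 (k / 240) (k % 240))) = true := by decide +kernel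
theorem e8Utor_31_46400 : allRange 46400 46440 ((fun k => posTorOK Cfsg.Lie.chevE8 (k / 240) (k % 240))) = true := by decide +kernel
theorem e8Utor_31_46440 : allRange 46440 46480 ((fun k => posTorOK Cfsg.Lie.chevE8 (k / 240) (k % 240))) = true := by decide +kernel
theorem e8Utor_31_46480 : allRange 46480 46520 ((fun k => posTorOK Cfsg.Lie.chevE8 (k / 240) (k % 240))) = true := by decide +kernel
theorem e8Utor_31_46520 : allRange 46520 46560 ((fun k => posTorOK Cfsg.Lie.chevE8 (k / 240) (k % 240))) = true := by decide +kernel
theorem e8Utor_31_46560 : allRange 46560 46600 ((fun k => posTorOK Cfsg.Lie.chevE8 (k / 240) (k % 240))) = true := by decide +kernel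
theorem e8Utor_31_46600 : allRange 46600 46640 ((fun k => posTorOK Cfsg.Lie.chevE8 (k / 240) (k % 240))) = true := by decide +kernel
theorem e8Utor_31_46640 : allRange 46640 46680 ((fun k => posTorOK Cfsg.Lie.chevE8 (k / 240) (k % 240))) = true := by decide +kernel
theorem e8Utor_31_46680 : allRange 46680 46720 ((fun k => posTorOK Cfsg.Lie.chevE8 (k / 240) (k % 240))) = true := by decide +kernel
theorem e8Utor_31_46720 : allRange 46720 46760 ((fun k => posTorOK Cfsg.Lie.chevE8 (k / 240) (k % 240))) = true := by decide +kernel
theorem e8Utor_31_46760 : allRange 46760 46800 ((fun k => posTorOK Cfsg.Lie.chevE8 (k / 240) (k % 240))) = true := by decide +kernel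
theorem e8Utor_31_46800 : allRange 46800 46840 ((fun k => posTorOK Cfsg.Lie.chevE8 (k / 240) (k % 240))) = true := by decide +kernel
theorem e8Utor_31_46840 : allRange 46840 46880 ((fun k => posTorOK Cfsg.Lie.chevE8 (k / 240) (k % 240))) = true := by decide +kernel
theorem e8Utor_31_46880 : allRange 46880 46920 ((fun k => posTorOK Cfsg.Lie.chevE8 (k / 240) (k % 240))) = true := by decide +kernel
theorem e8Utor_31_46920 : allRange 46920 46960 ((fun k => posTorOK Cfsg.Lie.chevE8 (k / 240) (k % 240))) = true := by decide +kernel
theorem e8Utor_31_46960 : allRange 46960 47000 ((fun k => posTorOK Cfsg.Lie.chevE8 (k / 240) (k % 240))) = true := by decide +kernel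
theorem e8Utor_31_47000 : allRange 47000 47040 ((fun k => posTorOK Cfsg.Lie.chevE8 (k / 240) (k % 240))) = true := by decide +kernel
theorem e8Utor_31_47040 : allRange 47040 47080 ((fun k => posTorOK Cfsg.Lie.chevE8 (k / 240) (k % 240))) = true := by decide +kernel
theorem e8Utor_31_47080 : allRange 47080 47120 ((fun k => posTorOK Cfsg.Lie.chevE8 (k / 240) (k % 240))) = true := by decide +kernel
theorem e8Utor_31_47120 : allRange 47120 47160 ((fun k => posTorOK Cfsg.Lie.chevE8 (k / 240) (k % 240))) = true := by decide +kernel
theorem e8Utor_31_47160 : allRange 47160 47200 ((fun k => posTorOK Cfsg.Lie.chevE8 (k / 240) (k % 240))) = true := by decide +kernel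
theorem e8Utor_31_47200 : allRange 47200 47240 ((fun k => posTorOK Cfsg.Lie.chevE8 (k / 240) (k % 240))) = true := by decide +kernel
theorem e8Utor_31_47240 : allRange 47240 47280 ((fun k => posTorOK Cfsg.Lie.chevE8 (k / 240) (k % 240))) = true := by decide +kernel
theorem e8Utor_31_47280 : allRange 47280 47320 ((fun k => posTorOK Cfsg.Lie.chevE8 (k / 240) (k % 240))) = true := by decide +kernel
theorem e8Utor_31_47320 : allRange 47320 47360 ((fun k => posTorOK Cfsg.Lie.chevE8 (k / 240) (k % 240))) = true := by decide +kernel

/-- Torus elements separating the pairs of positive roots of type E8 (roots 45880 to 47359). -/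
theorem e8Utor_31 : ∀ r, 45880 ≤ r → r < 47360 → ((fun k => posTorOK Cfsg.Lie.chevE8 (k / 240) (k % 240))) r = true := by
  intro r h1 h2
  by_cases c0 : r < 45920
  · exact allRange_spec e8Utor_31_45880 r (by omega) c0
  by_cases c1 : r < 45960
  · exact allRange_spec e8Utor_31_45920 r (by omega) c1
  by_cases c2 : r < 46000
  · exact allRange_spec e8Utor_31_45960 r (by omega) c2
  by_cases c3 : r < 46040
  · exact allRange_spec e8Utor_31_46000 r (by omega) c3
  by_cases c4 : r < 46080
  · exact allRange_spec e8Utor_31_46040 r (by omega) c4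
  by_cases c5 : r < 46120
  · exact allRange_spec e8Utor_31_46080 r (by omega) c5
  by_cases c6 : r < 46160
  · exact allRange_spec e8Utor_31_46120 r (by omega) c6
  by_cases c7 : r < 46200
  · exact allRange_spec e8Utor_31_46160 r (by omega) c7
  by_cases c8 : r < 46240
  · exact allRange_spec e8Utor_31_46200 r (by omega) c8
  by_cases c9 : r < 46280
  · exact allRange_spec e8Utor_31_46240 r (by omega) c9
  by_cases c10 : r < 46320
  · exact allRange_spec e8Utor_31_46280 r (by omega) c10
  by_cases c11 : r < 46360
  · exact allRange_spec e8Utor_31_46320 r (by omega) c11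
  by_cases c12 : r < 46400
  · exact allRange_spec e8Utor_31_46360 r (by omega) c12
  by_cases c13 : r < 46440
  · exact allRange_spec e8Utor_31_46400 r (by omega) c13
  by_cases c14 : r < 46480
  · exact allRange_spec e8Utor_31_46440 r (by omega) c14
  by_cases c15 : r < 46520
  · exact allRange_spec e8Utor_31_46480 r (by omega) c15
  by_cases c16 : r < 46560
  · exact allRange_spec e8Utor_31_46520 r (by omega) c16
  by_cases c17 : r < 46600
  · exact allRange_spec e8Utor_31_46560 r (by omega) c17
  by_cases c18 : r < 46640
  · exact allRange_spec e8Utor_31_46600 r (by omega) c18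
  by_cases c19 : r < 46680
  · exact allRange_spec e8Utor_31_46640 r (by omega) c19
  by_cases c20 : r < 46720
  · exact allRange_spec e8Utor_31_46680 r (by omega) c20
  by_cases c21 : r < 46760
  · exact allRange_spec e8Utor_31_46720 r (by omega) c21
  by_cases c22 : r < 46800
  · exact allRange_spec e8Utor_31_46760 r (by omega) c22
  by_cases c23 : r < 46840
  · exact allRange_spec e8Utor_31_46800 r (by omega) c23
  by_cases c24 : r < 46880
  · exact allRange_spec e8Utor_31_46840 r (by omega) c24
  by_cases c25 : r < 46920
  · exact allRange_spec e8Utor_31_46880 r (by omega) c25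
  by_cases c26 : r < 46960
  · exact allRange_spec e8Utor_31_46920 r (by omega) c26
  by_cases c27 : r < 47000
  · exact allRange_spec e8Utor_31_46960 r (by omega) c27
  by_cases c28 : r < 47040
  · exact allRange_spec e8Utor_31_47000 r (by omega) c28
  by_cases c29 : r < 47080
  · exact allRange_spec e8Utor_31_47040 r (by omega) c29
  by_cases c30 : r < 47120
  · exact allRange_spec e8Utor_31_47080 r (by omega) c30
  by_cases c31 : r < 47160
  · exact allRange_spec e8Utor_31_47120 r (by omega) c31
  by_cases c32 : r < 47200
  · exact allRange_spec e8Utor_31_47160 r (by omega) c32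
  by_cases c33 : r < 47240
  · exact allRange_spec e8Utor_31_47200 r (by omega) c33
  by_cases c34 : r < 47280
  · exact allRange_spec e8Utor_31_47240 r (by omega) c34
  by_cases c35 : r < 47320
  · exact allRange_spec e8Utor_31_47280 r (by omega) c35
  exact allRange_spec e8Utor_31_47320 r (by omega) h2

end Cfsg.Agent.Lib.Helper3.ChevM
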