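import Cfsg.Prelude.Def_ChevE8
import Cfsg.Agent.Lib.Helper3.StU10
set_option autoImplicit false
set_option maxRecDepth 1000000
set_option Elab.async false

namespace Cfsg.Agent.Lib.Helper3.ChevM
open Cfsg.Agent.Lib.Helper3.StB Cfsg.Agent.Lib.Helper3.StU

theorem e8Utor_33_48840 : allRange 48840 48880 ((fun k => posTorOK Cfsg.Lie.chevE8 (k / 240) (k % 240))) = true := by decide +kernel
theorem e8Utor_33_48880 : allRange 48880 48920 ((fun k => posTorOK Cfsg.Lie.chevE8 (k / 240) (k % 240))) = true := by decide +kernel
theorem e8Utor_33_48920 : allRange 48920 48960 ((fun k => posTorOK Cfsg.Lie.chevE8 (k / 240) (k % 240))) = true := by decide +kernel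
theorem e8Utor_33_48960 : allRange 48960 49000 ((fun k => posTorOK Cfsg.Lie.chevE8 (k / 240) (k % 240))) = true := by decide +kernel
theorem e8Utor_33_49000 : allRange 49000 49040 ((fun k => posTorOK Cfsg.Lie.chevE8 (k / 240) (k % 240))) = true := by decide +kernel
theorem e8Utor_33_49040 : allRange 49040 49080 ((fun k => posTorOK Cfsg.Lie.chevE8 (k / 240) (k % 240))) = true := by decide +kernel
theorem e8Utor_33_49080 : allRange 49080 49120 ((fun k => posTorOK Cfsg.Lie.chevE8 (k / 240) (k % 240))) = true := by decide +kernel
theorem e8Utor_33_49120 : allRange 49120 49160 ((fun k => posTorOK Cfsg.Lie.chevE8 (k / 240) (k % 240))) = true := by decide +kernel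
theorem e8Utor_33_49160 : allRange 49160 49200 ((fun k => posTorOK Cfsg.Lie.chevE8 (k / 240) (k % 240))) = true := by decide +kernel
theorem e8Utor_33_49200 : allRange 49200 49240 ((fun k => posTorOK Cfsg.Lie.chevE8 (k / 240) (k % 240))) = true := by decide +kernel
theorem e8Utor_33_49240 : allRange 49240 49280 ((fun k => posTorOK Cfsg.Lie.chevE8 (k / 240) (k % 240))) = true := by decide +kernel
theorem e8Utor_33_49280 : allRange 49280 49320 ((fun k => posTorOK Cfsg.Lie.chevE8 (k / 240) (k % 240))) = true := by decide +kernel
theorem e8Utor_33_49320 : allRange 49320 49360 ((fun k => posTorOK Cfsg.Lie.chevE8 (k / 240) (k % 240))) = true := by decide +kernel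
theorem e8Utor_33_49360 : allRange 49360 49400 ((fun k => posTorOK Cfsg.Lie.chevE8 (k / 240) (k % 240))) = true := by decide +kernel
theorem e8Utor_33_49400 : allRange 49400 49440 ((fun k => posTorOK Cfsg.Lie.chevE8 (k / 240) (k % 240))) = true := by decide +kernel
theorem e8Utor_33_49440 : allRange 49440 49480 ((fun k => posTorOK Cfsg.Lie.chevE8 (k / 240) (k % 240))) = true := by decide +kernel
theorem e8Utor_33_49480 : allRange 49480 49520 ((fun k => posTorOK Cfsg.Lie.chevE8 (k / 240) (k % 240))) = true := by decide +kernel
theorem e8Utor_33_49520 : allRange 49520 49560 ((fun k => posTorOK Cfsg.Lie.chevE8 (k / 240) (k % 240))) = true := by decide +kernel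
theorem e8Utor_33_49560 : allRange 49560 49600 ((fun k => posTorOK Cfsg.Lie.chevE8 (k / 240) (k % 240))) = true := by decide +kernel
theorem e8Utor_33_49600 : allRange 49600 49640 ((fun k => posTorOK Cfsg.Lie.chevE8 (k / 240) (k % 240))) = true := by decide +kernel
theorem e8Utor_33_49640 : allRange 49640 49680 ((fun k => posTorOK Cfsg.Lie.chevE8 (k / 240) (k % 240))) = true := by decide +kernel
theorem e8Utor_33_49680 : allRange 49680 49720 ((fun k => posTorOK Cfsg.Lie.chevE8 (k / 240) (k % 240))) = true := by decide +kernel
theorem e8Utor_33_49720 : allRange 49720 49760 ((fun k => posTorOK Cfsg.Lie.chevE8 (k / 240) (k % 240))) = true := by decide +kernel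
theorem e8Utor_33_49760 : allRange 49760 49800 ((fun k => posTorOK Cfsg.Lie.chevE8 (k / 240) (k % 240))) = true := by decide +kernel
theorem e8Utor_33_49800 : allRange 49800 49840 ((fun k => posTorOK Cfsg.Lie.chevE8 (k / 240) (k % 240))) = true := by decide +kernel
theorem e8Utor_33_49840 : allRange 49840 49880 ((fun k => posTorOK Cfsg.Lie.chevE8 (k / 240) (k % 240))) = true := by decide +kernel
theorem e8Utor_33_49880 : allRange 49880 49920 ((fun k => posTorOK Cfsg.Lie.chevE8 (k / 240) (k % 240))) = true := by decide +kernel
theorem e8Utor_33_49920 : allRange 49920 49960 ((fun k => posTorOK Cfsg.Lie.chevE8 (k / 240) (k % 240))) = true := by decide +kernel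
theorem e8Utor_33_49960 : allRange 49960 50000 ((fun k => posTorOK Cfsg.Lie.chevE8 (k / 240) (k % 240))) = true := by decide +kernel
theorem e8Utor_33_50000 : allRange 50000 50040 ((fun k => posTorOK Cfsg.Lie.chevE8 (k / 240) (k % 240))) = true := by decide +kernel
theorem e8Utor_33_50040 : allRange 50040 50080 ((fun k => posTorOK Cfsg.Lie.chevE8 (k / 240) (k % 240))) = true := by decide +kernel
theorem e8Utor_33_50080 : allRange 50080 50120 ((fun k => posTorOK Cfsg.Lie.chevE8 (k / 240) (k % 240))) = true := by decide +kernel
theorem e8Utor_33_50120 : allRange 50120 50160 ((fun k => posTorOK Cfsg.Lie.chevE8 (k / 240) (k % 240))) = true := by decide +kernel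
theorem e8Utor_33_50160 : allRange 50160 50200 ((fun k => posTorOK Cfsg.Lie.chevE8 (k / 240) (k % 240))) = true := by decide +kernel
theorem e8Utor_33_50200 : allRange 50200 50240 ((fun k => posTorOK Cfsg.Lie.chevE8 (k / 240) (k % 240))) = true := by decide +kernel
theorem e8Utor_33_50240 : allRange 50240 50280 ((fun k => posTorOK Cfsg.Lie.chevE8 (k / 240) (k % 240))) = true := by decide +kernel
theorem e8Utor_33_50280 : allRange 50280 50320 ((fun k => posTorOK Cfsg.Lie.chevE8 (k / 240) (k % 240))) = true := by decide +kernel

/-- Torus elements separating the pairs of positive roots of type E8 (roots 48840 to 50319). -/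
theorem e8Utor_33 : ∀ r, 48840 ≤ r → r < 50320 → ((fun k => posTorOK Cfsg.Lie.chevE8 (k / 240) (k % 240))) r = true := by
  intro r h1 h2
  by_cases c0 : r < 48880
  · exact allRange_spec e8Utor_33_48840 r (by omega) c0
  by_cases c1 : r < 48920
  · exact allRange_spec e8Utor_33_48880 r (by omega) c1
  by_cases c2 : r < 48960
  · exact allRange_spec e8Utor_33_48920 r (by omega) c2
  by_cases c3 : r < 49000
  · exact allRange_spec e8Utor_33_48960 r (by omega) c3
  by_cases c4 : r < 49040
  · exact allRange_spec e8Utor_33_49000 r (by omega) c4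
  by_cases c5 : r < 49080
  · exact allRange_spec e8Utor_33_49040 r (by omega) c5
  by_cases c6 : r < 49120
  · exact allRange_spec e8Utor_33_49080 r (by omega) c6
  by_cases c7 : r < 49160
  · exact allRange_spec e8Utor_33_49120 r (by omega) c7
  by_cases c8 : r < 49200
  · exact allRange_spec e8Utor_33_49160 r (by omega) c8
  by_cases c9 : r < 49240
  · exact allRange_spec e8Utor_33_49200 r (by omega) c9
  by_cases c10 : r < 49280
  · exact allRange_spec e8Utor_33_49240 r (by omega) c10
  by_cases c11 : r < 49320
  · exact allRange_spec e8Utor_33_49280 r (by omega) c11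
  by_cases c12 : r < 49360
  · exact allRange_spec e8Utor_33_49320 r (by omega) c12
  by_cases c13 : r < 49400
  · exact allRange_spec e8Utor_33_49360 r (by omega) c13
  by_cases c14 : r < 49440
  · exact allRange_spec e8Utor_33_49400 r (by omega) c14
  by_cases c15 : r < 49480
  · exact allRange_spec e8Utor_33_49440 r (by omega) c15
  by_cases c16 : r < 49520
  · exact allRange_spec e8Utor_33_49480 r (by omega) c16
  by_cases c17 : r < 49560
  · exact allRange_spec e8Utor_33_49520 r (by omega) c17
  by_cases c18 : r < 49600
  · exact allRange_spec e8Utor_33_49560 r (by omega) c18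
  by_cases c19 : r < 49640
  · exact allRange_spec e8Utor_33_49600 r (by omega) c19
  by_cases c20 : r < 49680
  · exact allRange_spec e8Utor_33_49640 r (by omega) c20
  by_cases c21 : r < 49720
  · exact allRange_spec e8Utor_33_49680 r (by omega) c21
  by_cases c22 : r < 49760
  · exact allRange_spec e8Utor_33_49720 r (by omega) c22
  by_cases c23 : r < 49800
  · exact allRange_spec e8Utor_33_49760 r (by omega) c23
  by_cases c24 : r < 49840
  · exact allRange_spec e8Utor_33_49800 r (by omega) c24
  by_cases c25 : r < 49880
  · exact allRange_spec e8Utor_33_49840 r (by omega) c25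
  by_cases c26 : r < 49920
  · exact allRange_spec e8Utor_33_49880 r (by omega) c26
  by_cases c27 : r < 49960
  · exact allRange_spec e8Utor_33_49920 r (by omega) c27
  by_cases c28 : r < 50000
  · exact allRange_spec e8Utor_33_49960 r (by omega) c28
  by_cases c29 : r < 50040
  · exact allRange_spec e8Utor_33_50000 r (by omega) c29
  by_cases c30 : r < 50080
  · exact allRange_spec e8Utor_33_50040 r (by omega) c30
  by_cases c31 : r < 50120
  · exact allRange_spec e8Utor_33_50080 r (by omega) c31
  by_cases c32 : r < 50160
  · exact allRange_spec e8Utor_33_50120 r (by omega) c32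
  by_cases c33 : r < 50200
  · exact allRange_spec e8Utor_33_50160 r (by omega) c33
  by_cases c34 : r < 50240
  · exact allRange_spec e8Utor_33_50200 r (by omega) c34
  by_cases c35 : r < 50280
  · exact allRange_spec e8Utor_33_50240 r (by omega) c35
  exact allRange_spec e8Utor_33_50280 r (by omega) h2

end Cfsg.Agent.Lib.Helper3.ChevM
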