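import Cfsg.Prelude.Def_ChevE8
import Cfsg.Agent.Lib.Helper3.StU10
set_option autoImplicit false
set_option maxRecDepth 1000000
set_option Elab.async false

namespace Cfsg.Agent.Lib.Helper3.ChevM
open Cfsg.Agent.Lib.Helper3.StB Cfsg.Agent.Lib.Helper3.StU

theorem e8Utor_34_50320 : allRange 50320 50360 ((fun k => posTorOK Cfsg.Lie.chevE8 (k / 240) (k % 240))) = true := by decide +kernel
theorem e8Utor_34_50360 : allRange 50360 50400 ((fun k => posTorOK Cfsg.Lie.chevE8 (k / 240) (k % 240))) = true := by decide +kernel
theorem e8Utor_34_50400 : allRange 50400 50440 ((fun k => posTorOK Cfsg.Lie.chevE8 (k / 240) (k % 240))) = true := by decide +kernel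
theorem e8Utor_34_50440 : allRange 50440 50480 ((fun k => posTorOK Cfsg.Lie.chevE8 (k / 240) (k % 240))) = true := by decide +kernel
theorem e8Utor_34_50480 : allRange 50480 50520 ((fun k => posTorOK Cfsg.Lie.chevE8 (k / 240) (k % 240))) = true := by decide +kernel
theorem e8Utor_34_50520 : allRange 50520 50560 ((fun k => posTorOK Cfsg.Lie.chevE8 (k / 240) (k % 240))) = true := by decide +kernel
theorem e8Utor_34_50560 : allRange 50560 50600 ((fun k => posTorOK Cfsg.Lie.chevE8 (k / 240) (k % 240))) = true := by decide +kernel
theorem e8Utor_34_50600 : allRange 50600 50640 ((fun k => posTorOK Cfsg.Lie.chevE8 (k / 240) (k % 240))) = true := by decide +kernel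
theorem e8Utor_34_50640 : allRange 50640 50680 ((fun k => posTorOK Cfsg.Lie.chevE8 (k / 240) (k % 240))) = true := by decide +kernel
theorem e8Utor_34_50680 : allRange 50680 50720 ((fun k => posTorOK Cfsg.Lie.chevE8 (k / 240) (k % 240))) = true := by decide +kernel
theorem e8Utor_34_50720 : allRange 50720 50760 ((fun k => posTorOK Cfsg.Lie.chevE8 (k / 240) (k % 240))) = true := by decide +kernel
theorem e8Utor_34_50760 : allRange 50760 50800 ((fun k => posTorOK Cfsg.Lie.chevE8 (k / 240) (k % 240))) = true := by decide +kernel
theorem e8Utor_34_50800 : allRange 50800 50840 ((fun k => posTorOK Cfsg.Lie.chevE8 (k / 240) (k % 240))) = true := by decide +kernel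
theorem e8Utor_34_50840 : allRange 50840 50880 ((fun k => posTorOK Cfsg.Lie.chevE8 (k / 240) (k % 240))) = true := by decide +kernel
theorem e8Utor_34_50880 : allRange 50880 50920 ((fun k => posTorOK Cfsg.Lie.chevE8 (k / 240) (k % 240))) = true := by decide +kernel
theorem e8Utor_34_50920 : allRange 50920 50960 ((fun k => posTorOK Cfsg.Lie.chevE8 (k / 240) (k % 240))) = true := by decide +kernel
theorem e8Utor_34_50960 : allRange 50960 51000 ((fun k => posTorOK Cfsg.Lie.chevE8 (k / 240) (k % 240))) = true := by decide +kernel
theorem e8Utor_34_51000 : allRange 51000 51040 ((fun k => posTorOK Cfsg.Lie.chevE8 (k / 240) (k % 240))) = true := by decide +kernel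
theorem e8Utor_34_51040 : allRange 51040 51080 ((fun k => posTorOK Cfsg.Lie.chevE8 (k / 240) (k % 240))) = true := by decide +kernel
theorem e8Utor_34_51080 : allRange 51080 51120 ((fun k => posTorOK Cfsg.Lie.chevE8 (k / 240) (k % 240))) = true := by decide +kernel
theorem e8Utor_34_51120 : allRange 51120 51160 ((fun k => posTorOK Cfsg.Lie.chevE8 (k / 240) (k % 240))) = true := by decide +kernel
theorem e8Utor_34_51160 : allRange 51160 51200 ((fun k => posTorOK Cfsg.Lie.chevE8 (k / 240) (k % 240))) = true := by decide +kernel
theorem e8Utor_34_51200 : allRange 51200 51240 ((fun k => posTorOK Cfsg.Lie.chevE8 (k / 240) (k % 240))) = true := by decide +kernel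
theorem e8Utor_34_51240 : allRange 51240 51280 ((fun k => posTorOK Cfsg.Lie.chevE8 (k / 240) (k % 240))) = true := by decide +kernel
theorem e8Utor_34_51280 : allRange 51280 51320 ((fun k => posTorOK Cfsg.Lie.chevE8 (k / 240) (k % 240))) = true := by decide +kernel
theorem e8Utor_34_51320 : allRange 51320 51360 ((fun k => posTorOK Cfsg.Lie.chevE8 (k / 240) (k % 240))) = true := by decide +kernel
theorem e8Utor_34_51360 : allRange 51360 51400 ((fun k => posTorOK Cfsg.Lie.chevE8 (k / 240) (k % 240))) = true := by decide +kernel
theorem e8Utor_34_51400 : allRange 51400 51440 ((fun k => posTorOK Cfsg.Lie.chevE8 (k / 240) (k % 240))) = true := by decide +kernel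
theorem e8Utor_34_51440 : allRange 51440 51480 ((fun k => posTorOK Cfsg.Lie.chevE8 (k / 240) (k % 240))) = true := by decide +kernel
theorem e8Utor_34_51480 : allRange 51480 51520 ((fun k => posTorOK Cfsg.Lie.chevE8 (k / 240) (k % 240))) = true := by decide +kernel
theorem e8Utor_34_51520 : allRange 51520 51560 ((fun k => posTorOK Cfsg.Lie.chevE8 (k / 240) (k % 240))) = true := by decide +kernel
theorem e8Utor_34_51560 : allRange 51560 51600 ((fun k => posTorOK Cfsg.Lie.chevE8 (k / 240) (k % 240))) = true := by decide +kernel
theorem e8Utor_34_51600 : allRange 51600 51640 ((fun k => posTorOK Cfsg.Lie.chevE8 (k / 240) (k % 240))) = true := by decide +kernel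
theorem e8Utor_34_51640 : allRange 51640 51680 ((fun k => posTorOK Cfsg.Lie.chevE8 (k / 240) (k % 240))) = true := by decide +kernel
theorem e8Utor_34_51680 : allRange 51680 51720 ((fun k => posTorOK Cfsg.Lie.chevE8 (k / 240) (k % 240))) = true := by decide +kernel
theorem e8Utor_34_51720 : allRange 51720 51760 ((fun k => posTorOK Cfsg.Lie.chevE8 (k / 240) (k % 240))) = true := by decide +kernel
theorem e8Utor_34_51760 : allRange 51760 51800 ((fun k => posTorOK Cfsg.Lie.chevE8 (k / 240) (k % 240))) = true := by decide +kernel

/-- Torus elements separating the pairs of positive roots of type E8 (roots 50320 to 51799). -/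
theorem e8Utor_34 : ∀ r, 50320 ≤ r → r < 51800 → ((fun k => posTorOK Cfsg.Lie.chevE8 (k / 240) (k % 240))) r = true := by
  intro r h1 h2
  by_cases c0 : r < 50360
  · exact allRange_spec e8Utor_34_50320 r (by omega) c0
  by_cases c1 : r < 50400
  · exact allRange_spec e8Utor_34_50360 r (by omega) c1
  by_cases c2 : r < 50440
  · exact allRange_spec e8Utor_34_50400 r (by omega) c2
  by_cases c3 : r < 50480
  · exact allRange_spec e8Utor_34_50440 r (by omega) c3
  by_cases c4 : r < 50520
  · exact allRange_spec e8Utor_34_50480 r (by omega) c4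
  by_cases c5 : r < 50560
  · exact allRange_spec e8Utor_34_50520 r (by omega) c5
  by_cases c6 : r < 50600
  · exact allRange_spec e8Utor_34_50560 r (by omega) c6
  by_cases c7 : r < 50640
  · exact allRange_spec e8Utor_34_50600 r (by omega) c7
  by_cases c8 : r < 50680
  · exact allRange_spec e8Utor_34_50640 r (by omega) c8
  by_cases c9 : r < 50720
  · exact allRange_spec e8Utor_34_50680 r (by omega) c9
  by_cases c10 : r < 50760
  · exact allRange_spec e8Utor_34_50720 r (by omega) c10
  by_cases c11 : r < 50800
  · exact allRange_spec e8Utor_34_50760 r (by omega) c11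
  by_cases c12 : r < 50840
  · exact allRange_spec e8Utor_34_50800 r (by omega) c12
  by_cases c13 : r < 50880
  · exact allRange_spec e8Utor_34_50840 r (by omega) c13
  by_cases c14 : r < 50920
  · exact allRange_spec e8Utor_34_50880 r (by omega) c14
  by_cases c15 : r < 50960
  · exact allRange_spec e8Utor_34_50920 r (by omega) c15
  by_cases c16 : r < 51000
  · exact allRange_spec e8Utor_34_50960 r (by omega) c16
  by_cases c17 : r < 51040
  · exact allRange_spec e8Utor_34_51000 r (by omega) c17
  by_cases c18 : r < 51080
  · exact allRange_spec e8Utor_34_51040 r (by omega) c18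
  by_cases c19 : r < 51120
  · exact allRange_spec e8Utor_34_51080 r (by omega) c19
  by_cases c20 : r < 51160
  · exact allRange_spec e8Utor_34_51120 r (by omega) c20
  by_cases c21 : r < 51200
  · exact allRange_spec e8Utor_34_51160 r (by omega) c21
  by_cases c22 : r < 51240
  · exact allRange_spec e8Utor_34_51200 r (by omega) c22
  by_cases c23 : r < 51280
  · exact allRange_spec e8Utor_34_51240 r (by omega) c23
  by_cases c24 : r < 51320
  · exact allRange_spec e8Utor_34_51280 r (by omega) c24
  by_cases c25 : r < 51360
  · exact allRange_spec e8Utor_34_51320 r (by omega) c25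
  by_cases c26 : r < 51400
  · exact allRange_spec e8Utor_34_51360 r (by omega) c26
  by_cases c27 : r < 51440
  · exact allRange_spec e8Utor_34_51400 r (by omega) c27
  by_cases c28 : r < 51480
  · exact allRange_spec e8Utor_34_51440 r (by omega) c28
  by_cases c29 : r < 51520
  · exact allRange_spec e8Utor_34_51480 r (by omega) c29
  by_cases c30 : r < 51560
  · exact allRange_spec e8Utor_34_51520 r (by omega) c30
  by_cases c31 : r < 51600
  · exact allRange_spec e8Utor_34_51560 r (by omega) c31
  by_cases c32 : r < 51640
  · exact allRange_spec e8Utor_34_51600 r (by omega) c32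
  by_cases c33 : r < 51680
  · exact allRange_spec e8Utor_34_51640 r (by omega) c33
  by_cases c34 : r < 51720
  · exact allRange_spec e8Utor_34_51680 r (by omega) c34
  by_cases c35 : r < 51760
  · exact allRange_spec e8Utor_34_51720 r (by omega) c35
  exact allRange_spec e8Utor_34_51760 r (by omega) h2

end Cfsg.Agent.Lib.Helper3.ChevM
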