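import Cfsg.Prelude.Def_ChevE8
import Cfsg.Agent.Lib.Helper3.StU10
set_option autoImplicit false
set_option maxRecDepth 1000000
set_option Elab.async false

namespace Cfsg.Agent.Lib.Helper3.ChevM
open Cfsg.Agent.Lib.Helper3.StB Cfsg.Agent.Lib.Helper3.StU

theorem e8Utor_35_51800 : allRange 51800 51840 ((fun k => posTorOK Cfsg.Lie.chevE8 (k / 240) (k % 240))) = true := by decide +kernel
theorem e8Utor_35_51840 : allRange 51840 51880 ((fun k => posTorOK Cfsg.Lie.chevE8 (k / 240) (k % 240))) = true := by decide +kernel
theorem e8Utor_35_51880 : allRange 51880 51920 ((fun k => posTorOK Cfsg.Lie.chevE8 (k / 240) (k % 240))) = true := by decide +kernel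
theorem e8Utor_35_51920 : allRange 51920 51960 ((fun k => posTorOK Cfsg.Lie.chevE8 (k / 240) (k % 240))) = true := by decide +kernel
theorem e8Utor_35_51960 : allRange 51960 52000 ((fun k => posTorOK Cfsg.Lie.chevE8 (k / 240) (k % 240))) = true := by decide +kernel
theorem e8Utor_35_52000 : allRange 52000 52040 ((fun k => posTorOK Cfsg.Lie.chevE8 (k / 240) (k % 240))) = true := by decide +kernel
theorem e8Utor_35_52040 : allRange 52040 52080 ((fun k => posTorOK Cfsg.Lie.chevE8 (k / 240) (k % 240))) = true := by decide +kernel
theorem e8Utor_35_52080 : allRange 52080 52120 ((fun k => posTorOK Cfsg.Lie.chevE8 (k / 240) (k % 240))) = true := by decide +kernel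
theorem e8Utor_35_52120 : allRange 52120 52160 ((fun k => posTorOK Cfsg.Lie.chevE8 (k / 240) (k % 240))) = true := by decide +kernel
theorem e8Utor_35_52160 : allRange 52160 52200 ((fun k => posTorOK Cfsg.Lie.chevE8 (k / 240) (k % 240))) = true := by decide +kernel
theorem e8Utor_35_52200 : allRange 52200 52240 ((fun k => posTorOK Cfsg.Lie.chevE8 (k / 240) (k % 240))) = true := by decide +kernel
theorem e8Utor_35_52240 : allRange 52240 52280 ((fun k => posTorOK Cfsg.Lie.chevE8 (k / 240) (k % 240))) = true := by decide +kernel
theorem e8Utor_35_52280 : allRange 52280 52320 ((fun k => posTorOK Cfsg.Lie.chevE8 (k / 240) (k % 240))) = true := by decide +kernel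
theorem e8Utor_35_52320 : allRange 52320 52360 ((fun k => posTorOK Cfsg.Lie.chevE8 (k / 240) (k % 240))) = true := by decide +kernel
theorem e8Utor_35_52360 : allRange 52360 52400 ((fun k => posTorOK Cfsg.Lie.chevE8 (k / 240) (k % 240))) = true := by decide +kernel
theorem e8Utor_35_52400 : allRange 52400 52440 ((fun k => posTorOK Cfsg.Lie.chevE8 (k / 240) (k % 240))) = true := by decide +kernel
theorem e8Utor_35_52440 : allRange 52440 52480 ((fun k => posTorOK Cfsg.Lie.chevE8 (k / 240) (k % 240))) = true := by decide +kernel
theorem e8Utor_35_52480 : allRange 52480 52520 ((fun k => posTorOK Cfsg.Lie.chevE8 (k / 240) (k % 240))) = true := by decide +kernel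
theorem e8Utor_35_52520 : allRange 52520 52560 ((fun k => posTorOK Cfsg.Lie.chevE8 (k / 240) (k % 240))) = true := by decide +kernel
theorem e8Utor_35_52560 : allRange 52560 52600 ((fun k => posTorOK Cfsg.Lie.chevE8 (k / 240) (k % 240))) = true := by decide +kernel
theorem e8Utor_35_52600 : allRange 52600 52640 ((fun k => posTorOK Cfsg.Lie.chevE8 (k / 240) (k % 240))) = true := by decide +kernel
theorem e8Utor_35_52640 : allRange 52640 52680 ((fun k => posTorOK Cfsg.Lie.chevE8 (k / 240) (k % 240))) = true := by decide +kernel
theorem e8Utor_35_52680 : allRange 52680 52720 ((fun k => posTorOK Cfsg.Lie.chevE8 (k / 240) (k % 240))) = true := by decide +kernel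
theorem e8Utor_35_52720 : allRange 52720 52760 ((fun k => posTorOK Cfsg.Lie.chevE8 (k / 240) (k % 240))) = true := by decide +kernel
theorem e8Utor_35_52760 : allRange 52760 52800 ((fun k => posTorOK Cfsg.Lie.chevE8 (k / 240) (k % 240))) = true := by decide +kernel
theorem e8Utor_35_52800 : allRange 52800 52840 ((fun k => posTorOK Cfsg.Lie.chevE8 (k / 240) (k % 240))) = true := by decide +kernel
theorem e8Utor_35_52840 : allRange 52840 52880 ((fun k => posTorOK Cfsg.Lie.chevE8 (k / 240) (k % 240))) = true := by decide +kernel
theorem e8Utor_35_52880 : allRange 52880 52920 ((fun k => posTorOK Cfsg.Lie.chevE8 (k / 240) (k % 240))) = true := by decide +kernel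
theorem e8Utor_35_52920 : allRange 52920 52960 ((fun k => posTorOK Cfsg.Lie.chevE8 (k / 240) (k % 240))) = true := by decide +kernel
theorem e8Utor_35_52960 : allRange 52960 53000 ((fun k => posTorOK Cfsg.Lie.chevE8 (k / 240) (k % 240))) = true := by decide +kernel
theorem e8Utor_35_53000 : allRange 53000 53040 ((fun k => posTorOK Cfsg.Lie.chevE8 (k / 240) (k % 240))) = true := by decide +kernel
theorem e8Utor_35_53040 : allRange 53040 53080 ((fun k => posTorOK Cfsg.Lie.chevE8 (k / 240) (k % 240))) = true := by decide +kernel
theorem e8Utor_35_53080 : allRange 53080 53120 ((fun k => posTorOK Cfsg.Lie.chevE8 (k / 240) (k % 240))) = true := by decide +kernel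
theorem e8Utor_35_53120 : allRange 53120 53160 ((fun k => posTorOK Cfsg.Lie.chevE8 (k / 240) (k % 240))) = true := by decide +kernel
theorem e8Utor_35_53160 : allRange 53160 53200 ((fun k => posTorOK Cfsg.Lie.chevE8 (k / 240) (k % 240))) = true := by decide +kernel
theorem e8Utor_35_53200 : allRange 53200 53240 ((fun k => posTorOK Cfsg.Lie.chevE8 (k / 240) (k % 240))) = true := by decide +kernel
theorem e8Utor_35_53240 : allRange 53240 53280 ((fun k => posTorOK Cfsg.Lie.chevE8 (k / 240) (k % 240))) = true := by decide +kernel

/-- Torus elements separating the pairs of positive roots of type E8 (roots 51800 to 53279). -/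
theorem e8Utor_35 : ∀ r, 51800 ≤ r → r < 53280 → ((fun k => posTorOK Cfsg.Lie.chevE8 (k / 240) (k % 240))) r = true := by
  intro r h1 h2
  by_cases c0 : r < 51840
  · exact allRange_spec e8Utor_35_51800 r (by omega) c0
  by_cases c1 : r < 51880
  · exact allRange_spec e8Utor_35_51840 r (by omega) c1
  by_cases c2 : r < 51920
  · exact allRange_spec e8Utor_35_51880 r (by omega) c2
  by_cases c3 : r < 51960
  · exact allRange_spec e8Utor_35_51920 r (by omega) c3
  by_cases c4 : r < 52000
  · exact allRange_spec e8Utor_35_51960 r (by omega) c4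
  by_cases c5 : r < 52040
  · exact allRange_spec e8Utor_35_52000 r (by omega) c5
  by_cases c6 : r < 52080
  · exact allRange_spec e8Utor_35_52040 r (by omega) c6
  by_cases c7 : r < 52120
  · exact allRange_spec e8Utor_35_52080 r (by omega) c7
  by_cases c8 : r < 52160
  · exact allRange_spec e8Utor_35_52120 r (by omega) c8
  by_cases c9 : r < 52200
  · exact allRange_spec e8Utor_35_52160 r (by omega) c9
  by_cases c10 : r < 52240
  · exact allRange_spec e8Utor_35_52200 r (by omega) c10
  by_cases c11 : r < 52280
  · exact allRange_spec e8Utor_35_52240 r (by omega) c11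
  by_cases c12 : r < 52320
  · exact allRange_spec e8Utor_35_52280 r (by omega) c12
  by_cases c13 : r < 52360
  · exact allRange_spec e8Utor_35_52320 r (by omega) c13
  by_cases c14 : r < 52400
  · exact allRange_spec e8Utor_35_52360 r (by omega) c14
  by_cases c15 : r < 52440
  · exact allRange_spec e8Utor_35_52400 r (by omega) c15
  by_cases c16 : r < 52480
  · exact allRange_spec e8Utor_35_52440 r (by omega) c16
  by_cases c17 : r < 52520
  · exact allRange_spec e8Utor_35_52480 r (by omega) c17
  by_cases c18 : r < 52560
  · exact allRange_spec e8Utor_35_52520 r (by omega) c18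
  by_cases c19 : r < 52600
  · exact allRange_spec e8Utor_35_52560 r (by omega) c19
  by_cases c20 : r < 52640
  · exact allRange_spec e8Utor_35_52600 r (by omega) c20
  by_cases c21 : r < 52680
  · exact allRange_spec e8Utor_35_52640 r (by omega) c21
  by_cases c22 : r < 52720
  · exact allRange_spec e8Utor_35_52680 r (by omega) c22
  by_cases c23 : r < 52760
  · exact allRange_spec e8Utor_35_52720 r (by omega) c23
  by_cases c24 : r < 52800
  · exact allRange_spec e8Utor_35_52760 r (by omega) c24
  by_cases c25 : r < 52840
  · exact allRange_spec e8Utor_35_52800 r (by omega) c25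
  by_cases c26 : r < 52880
  · exact allRange_spec e8Utor_35_52840 r (by omega) c26
  by_cases c27 : r < 52920
  · exact allRange_spec e8Utor_35_52880 r (by omega) c27
  by_cases c28 : r < 52960
  · exact allRange_spec e8Utor_35_52920 r (by omega) c28
  by_cases c29 : r < 53000
  · exact allRange_spec e8Utor_35_52960 r (by omega) c29
  by_cases c30 : r < 53040
  · exact allRange_spec e8Utor_35_53000 r (by omega) c30
  by_cases c31 : r < 53080
  · exact allRange_spec e8Utor_35_53040 r (by omega) c31
  by_cases c32 : r < 53120
  · exact allRange_spec e8Utor_35_53080 r (by omega) c32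
  by_cases c33 : r < 53160
  · exact allRange_spec e8Utor_35_53120 r (by omega) c33
  by_cases c34 : r < 53200
  · exact allRange_spec e8Utor_35_53160 r (by omega) c34
  by_cases c35 : r < 53240
  · exact allRange_spec e8Utor_35_53200 r (by omega) c35
  exact allRange_spec e8Utor_35_53240 r (by omega) h2

end Cfsg.Agent.Lib.Helper3.ChevM
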