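import Cfsg.Prelude.Def_ChevE8
import Cfsg.Agent.Lib.Helper3.StU10
set_option autoImplicit false
set_option maxRecDepth 1000000
set_option Elab.async false

namespace Cfsg.Agent.Lib.Helper3.ChevM
open Cfsg.Agent.Lib.Helper3.StB Cfsg.Agent.Lib.Helper3.StU

theorem e8Utor_36_53280 : allRange 53280 53320 ((fun k => posTorOK Cfsg.Lie.chevE8 (k / 240) (k % 240))) = true := by decide +kernel
theorem e8Utor_36_53320 : allRange 53320 53360 ((fun k => posTorOK Cfsg.Lie.chevE8 (k / 240) (k % 240))) = true := by decide +kernel
theorem e8Utor_36_53360 : allRange 53360 53400 ((fun k => posTorOK Cfsg.Lie.chevE8 (k / 240) (k % 240))) = true := by decide +kernel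
theorem e8Utor_36_53400 : allRange 53400 53440 ((fun k => posTorOK Cfsg.Lie.chevE8 (k / 240) (k % 240))) = true := by decide +kernel
theorem e8Utor_36_53440 : allRange 53440 53480 ((fun k => posTorOK Cfsg.Lie.chevE8 (k / 240) (k % 240))) = true := by decide +kernel
theorem e8Utor_36_53480 : allRange 53480 53520 ((fun k => posTorOK Cfsg.Lie.chevE8 (k / 240) (k % 240))) = true := by decide +kernel
theorem e8Utor_36_53520 : allRange 53520 53560 ((fun k => posTorOK Cfsg.Lie.chevE8 (k / 240) (k % 240))) = true := by decide +kernel
theorem e8Utor_36_53560 : allRange 53560 53600 ((fun k => posTorOK Cfsg.Lie.chevE8 (k / 240) (k % 240))) = true := by decide +kernel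
theorem e8Utor_36_53600 : allRange 53600 53640 ((fun k => posTorOK Cfsg.Lie.chevE8 (k / 240) (k % 240))) = true := by decide +kernel
theorem e8Utor_36_53640 : allRange 53640 53680 ((fun k => posTorOK Cfsg.Lie.chevE8 (k / 240) (k % 240))) = true := by decide +kernel
theorem e8Utor_36_53680 : allRange 53680 53720 ((fun k => posTorOK Cfsg.Lie.chevE8 (k / 240) (k % 240))) = true := by decide +kernel
theorem e8Utor_36_53720 : allRange 53720 53760 ((fun k => posTorOK Cfsg.Lie.chevE8 (k / 240) (k % 240))) = true := by decide +kernel
theorem e8Utor_36_53760 : allRange 53760 53800 ((fun k => posTorOK Cfsg.Lie.chevE8 (k / 240) (k % 240))) = true := by decide +kernel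
theorem e8Utor_36_53800 : allRange 53800 53840 ((fun k => posTorOK Cfsg.Lie.chevE8 (k / 240) (k % 240))) = true := by decide +kernel
theorem e8Utor_36_53840 : allRange 53840 53880 ((fun k => posTorOK Cfsg.Lie.chevE8 (k / 240) (k % 240))) = true := by decide +kernel
theorem e8Utor_36_53880 : allRange 53880 53920 ((fun k => posTorOK Cfsg.Lie.chevE8 (k / 240) (k % 240))) = true := by decide +kernel
theorem e8Utor_36_53920 : allRange 53920 53960 ((fun k => posTorOK Cfsg.Lie.chevE8 (k / 240) (k % 240))) = true := by decide +kernel
theorem e8Utor_36_53960 : allRange 53960 54000 ((fun k => posTorOK Cfsg.Lie.chevE8 (k / 240) (k % 240))) = true := by decide +kernel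
theorem e8Utor_36_54000 : allRange 54000 54040 ((fun k => posTorOK Cfsg.Lie.chevE8 (k / 240) (k % 240))) = true := by decide +kernel
theorem e8Utor_36_54040 : allRange 54040 54080 ((fun k => posTorOK Cfsg.Lie.chevE8 (k / 240) (k % 240))) = true := by decide +kernel
theorem e8Utor_36_54080 : allRange 54080 54120 ((fun k => posTorOK Cfsg.Lie.chevE8 (k / 240) (k % 240))) = true := by decide +kernel
theorem e8Utor_36_54120 : allRange 54120 54160 ((fun k => posTorOK Cfsg.Lie.chevE8 (k / 240) (k % 240))) = true := by decide +kernel
theorem e8Utor_36_54160 : allRange 54160 54200 ((fun k => posTorOK Cfsg.Lie.chevE8 (k / 240) (k % 240))) = true := by decide +kernel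
theorem e8Utor_36_54200 : allRange 54200 54240 ((fun k => posTorOK Cfsg.Lie.chevE8 (k / 240) (k % 240))) = true := by decide +kernel
theorem e8Utor_36_54240 : allRange 54240 54280 ((fun k => posTorOK Cfsg.Lie.chevE8 (k / 240) (k % 240))) = true := by decide +kernel
theorem e8Utor_36_54280 : allRange 54280 54320 ((fun k => posTorOK Cfsg.Lie.chevE8 (k / 240) (k % 240))) = true := by decide +kernel
theorem e8Utor_36_54320 : allRange 54320 54360 ((fun k => posTorOK Cfsg.Lie.chevE8 (k / 240) (k % 240))) = true := by decide +kernel
theorem e8Utor_36_54360 : allRange 54360 54400 ((fun k => posTorOK Cfsg.Lie.chevE8 (k / 240) (k % 240))) = true := by decide +kernel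
theorem e8Utor_36_54400 : allRange 54400 54440 ((fun k => posTorOK Cfsg.Lie.chevE8 (k / 240) (k % 240))) = true := by decide +kernel
theorem e8Utor_36_54440 : allRange 54440 54480 ((fun k => posTorOK Cfsg.Lie.chevE8 (k / 240) (k % 240))) = true := by decide +kernel
theorem e8Utor_36_54480 : allRange 54480 54520 ((fun k => posTorOK Cfsg.Lie.chevE8 (k / 240) (k % 240))) = true := by decide +kernel
theorem e8Utor_36_54520 : allRange 54520 54560 ((fun k => posTorOK Cfsg.Lie.chevE8 (k / 240) (k % 240))) = true := by decide +kernel
theorem e8Utor_36_54560 : allRange 54560 54600 ((fun k => posTorOK Cfsg.Lie.chevE8 (k / 240) (k % 240))) = true := by decide +kernel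
theorem e8Utor_36_54600 : allRange 54600 54640 ((fun k => posTorOK Cfsg.Lie.chevE8 (k / 240) (k % 240))) = true := by decide +kernel
theorem e8Utor_36_54640 : allRange 54640 54680 ((fun k => posTorOK Cfsg.Lie.chevE8 (k / 240) (k % 240))) = true := by decide +kernel
theorem e8Utor_36_54680 : allRange 54680 54720 ((fun k => posTorOK Cfsg.Lie.chevE8 (k / 240) (k % 240))) = true := by decide +kernel
theorem e8Utor_36_54720 : allRange 54720 54760 ((fun k => posTorOK Cfsg.Lie.chevE8 (k / 240) (k % 240))) = true := by decide +kernel

/-- Torus elements separating the pairs of positive roots of type E8 (roots 53280 to 54759). -/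
theorem e8Utor_36 : ∀ r, 53280 ≤ r → r < 54760 → ((fun k => posTorOK Cfsg.Lie.chevE8 (k / 240) (k % 240))) r = true := by
  intro r h1 h2
  by_cases c0 : r < 53320
  · exact allRange_spec e8Utor_36_53280 r (by omega) c0
  by_cases c1 : r < 53360
  · exact allRange_spec e8Utor_36_53320 r (by omega) c1
  by_cases c2 : r < 53400
  · exact allRange_spec e8Utor_36_53360 r (by omega) c2
  by_cases c3 : r < 53440
  · exact allRange_spec e8Utor_36_53400 r (by omega) c3
  by_cases c4 : r < 53480
  · exact allRange_spec e8Utor_36_53440 r (by omega) c4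
  by_cases c5 : r < 53520
  · exact allRange_spec e8Utor_36_53480 r (by omega) c5
  by_cases c6 : r < 53560
  · exact allRange_spec e8Utor_36_53520 r (by omega) c6
  by_cases c7 : r < 53600
  · exact allRange_spec e8Utor_36_53560 r (by omega) c7
  by_cases c8 : r < 53640
  · exact allRange_spec e8Utor_36_53600 r (by omega) c8
  by_cases c9 : r < 53680
  · exact allRange_spec e8Utor_36_53640 r (by omega) c9
  by_cases c10 : r < 53720
  · exact allRange_spec e8Utor_36_53680 r (by omega) c10
  by_cases c11 : r < 53760
  · exact allRange_spec e8Utor_36_53720 r (by omega) c11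
  by_cases c12 : r < 53800
  · exact allRange_spec e8Utor_36_53760 r (by omega) c12
  by_cases c13 : r < 53840
  · exact allRange_spec e8Utor_36_53800 r (by omega) c13
  by_cases c14 : r < 53880
  · exact allRange_spec e8Utor_36_53840 r (by omega) c14
  by_cases c15 : r < 53920
  · exact allRange_spec e8Utor_36_53880 r (by omega) c15
  by_cases c16 : r < 53960
  · exact allRange_spec e8Utor_36_53920 r (by omega) c16
  by_cases c17 : r < 54000
  · exact allRange_spec e8Utor_36_53960 r (by omega) c17
  by_cases c18 : r < 54040
  · exact allRange_spec e8Utor_36_54000 r (by omega) c18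
  by_cases c19 : r < 54080
  · exact allRange_spec e8Utor_36_54040 r (by omega) c19
  by_cases c20 : r < 54120
  · exact allRange_spec e8Utor_36_54080 r (by omega) c20
  by_cases c21 : r < 54160
  · exact allRange_spec e8Utor_36_54120 r (by omega) c21
  by_cases c22 : r < 54200
  · exact allRange_spec e8Utor_36_54160 r (by omega) c22
  by_cases c23 : r < 54240
  · exact allRange_spec e8Utor_36_54200 r (by omega) c23
  by_cases c24 : r < 54280
  · exact allRange_spec e8Utor_36_54240 r (by omega) c24
  by_cases c25 : r < 54320
  · exact allRange_spec e8Utor_36_54280 r (by omega) c25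
  by_cases c26 : r < 54360
  · exact allRange_spec e8Utor_36_54320 r (by omega) c26
  by_cases c27 : r < 54400
  · exact allRange_spec e8Utor_36_54360 r (by omega) c27
  by_cases c28 : r < 54440
  · exact allRange_spec e8Utor_36_54400 r (by omega) c28
  by_cases c29 : r < 54480
  · exact allRange_spec e8Utor_36_54440 r (by omega) c29
  by_cases c30 : r < 54520
  · exact allRange_spec e8Utor_36_54480 r (by omega) c30
  by_cases c31 : r < 54560
  · exact allRange_spec e8Utor_36_54520 r (by omega) c31
  by_cases c32 : r < 54600
  · exact allRange_spec e8Utor_36_54560 r (by omega) c32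
  by_cases c33 : r < 54640
  · exact allRange_spec e8Utor_36_54600 r (by omega) c33
  by_cases c34 : r < 54680
  · exact allRange_spec e8Utor_36_54640 r (by omega) c34
  by_cases c35 : r < 54720
  · exact allRange_spec e8Utor_36_54680 r (by omega) c35
  exact allRange_spec e8Utor_36_54720 r (by omega) h2

end Cfsg.Agent.Lib.Helper3.ChevM
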