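import Cfsg.Prelude.Def_ChevE8
import Cfsg.Agent.Lib.Helper3.StU10
set_option autoImplicit false
set_option maxRecDepth 1000000
set_option Elab.async false

namespace Cfsg.Agent.Lib.Helper3.ChevM
open Cfsg.Agent.Lib.Helper3.StB Cfsg.Agent.Lib.Helper3.StU

theorem e8Utor_37_54760 : allRange 54760 54800 ((fun k => posTorOK Cfsg.Lie.chevE8 (k / 240) (k % 240))) = true := by decide +kernel
theorem e8Utor_37_54800 : allRange 54800 54840 ((fun k => posTorOK Cfsg.Lie.chevE8 (k / 240) (k % 240))) = true := by decide +kernel
theorem e8Utor_37_54840 : allRange 54840 54880 ((fun k => posTorOK Cfsg.Lie.chevE8 (k / 240) (k % 240))) = true := by decide +kernel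
theorem e8Utor_37_54880 : allRange 54880 54920 ((fun k => posTorOK Cfsg.Lie.chevE8 (k / 240) (k % 240))) = true := by decide +kernel
theorem e8Utor_37_54920 : allRange 54920 54960 ((fun k => posTorOK Cfsg.Lie.chevE8 (k / 240) (k % 240))) = true := by decide +kernel
theorem e8Utor_37_54960 : allRange 54960 55000 ((fun k => posTorOK Cfsg.Lie.chevE8 (k / 240) (k % 240))) = true := by decide +kernel
theorem e8Utor_37_55000 : allRange 55000 55040 ((fun k => posTorOK Cfsg.Lie.chevE8 (k / 240) (k % 240))) = true := by decide +kernel
theorem e8Utor_37_55040 : allRange 55040 55080 ((fun k => posTorOK Cfsg.Lie.chevE8 (k / 240) (k % 240))) = true := by decide +kernel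
theorem e8Utor_37_55080 : allRange 55080 55120 ((fun k => posTorOK Cfsg.Lie.chevE8 (k / 240) (k % 240))) = true := by decide +kernel
theorem e8Utor_37_55120 : allRange 55120 55160 ((fun k => posTorOK Cfsg.Lie.chevE8 (k / 240) (k % 240))) = true := by decide +kernel
theorem e8Utor_37_55160 : allRange 55160 55200 ((fun k => posTorOK Cfsg.Lie.chevE8 (k / 240) (k % 240))) = true := by decide +kernel
theorem e8Utor_37_55200 : allRange 55200 55240 ((fun k => posTorOK Cfsg.Lie.chevE8 (k / 240) (k % 240))) = true := by decide +kernel
theorem e8Utor_37_55240 : allRange 55240 55280 ((fun k => posTorOK Cfsg.Lie.chevE8 (k / 240) (k % 240))) = true := by decide +kernel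
theorem e8Utor_37_55280 : allRange 55280 55320 ((fun k => posTorOK Cfsg.Lie.chevE8 (k / 240) (k % 240))) = true := by decide +kernel
theorem e8Utor_37_55320 : allRange 55320 55360 ((fun k => posTorOK Cfsg.Lie.chevE8 (k / 240) (k % 240))) = true := by decide +kernel
theorem e8Utor_37_55360 : allRange 55360 55400 ((fun k => posTorOK Cfsg.Lie.chevE8 (k / 240) (k % 240))) = true := by decide +kernel
theorem e8Utor_37_55400 : allRange 55400 55440 ((fun k => posTorOK Cfsg.Lie.chevE8 (k / 240) (k % 240))) = true := by decide +kernel
theorem e8Utor_37_55440 : allRange 55440 55480 ((fun k => posTorOK Cfsg.Lie.chevE8 (k / 240) (k % 240))) = true := by decide +kernel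
theorem e8Utor_37_55480 : allRange 55480 55520 ((fun k => posTorOK Cfsg.Lie.chevE8 (k / 240) (k % 240))) = true := by decide +kernel
theorem e8Utor_37_55520 : allRange 55520 55560 ((fun k => posTorOK Cfsg.Lie.chevE8 (k / 240) (k % 240))) = true := by decide +kernel
theorem e8Utor_37_55560 : allRange 55560 55600 ((fun k => posTorOK Cfsg.Lie.chevE8 (k / 240) (k % 240))) = true := by decide +kernel
theorem e8Utor_37_55600 : allRange 55600 55640 ((fun k => posTorOK Cfsg.Lie.chevE8 (k / 240) (k % 240))) = true := by decide +kernel
theorem e8Utor_37_55640 : allRange 55640 55680 ((fun k => posTorOK Cfsg.Lie.chevE8 (k / 240) (k % 240))) = true := by decide +kernel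
theorem e8Utor_37_55680 : allRange 55680 55720 ((fun k => posTorOK Cfsg.Lie.chevE8 (k / 240) (k % 240))) = true := by decide +kernel
theorem e8Utor_37_55720 : allRange 55720 55760 ((fun k => posTorOK Cfsg.Lie.chevE8 (k / 240) (k % 240))) = true := by decide +kernel
theorem e8Utor_37_55760 : allRange 55760 55800 ((fun k => posTorOK Cfsg.Lie.chevE8 (k / 240) (k % 240))) = true := by decide +kernel
theorem e8Utor_37_55800 : allRange 55800 55840 ((fun k => posTorOK Cfsg.Lie.chevE8 (k / 240) (k % 240))) = true := by decide +kernel
theorem e8Utor_37_55840 : allRange 55840 55880 ((fun k => posTorOK Cfsg.Lie.chevE8 (k / 240) (k % 240))) = true := by decide +kernel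
theorem e8Utor_37_55880 : allRange 55880 55920 ((fun k => posTorOK Cfsg.Lie.chevE8 (k / 240) (k % 240))) = true := by decide +kernel
theorem e8Utor_37_55920 : allRange 55920 55960 ((fun k => posTorOK Cfsg.Lie.chevE8 (k / 240) (k % 240))) = true := by decide +kernel
theorem e8Utor_37_55960 : allRange 55960 56000 ((fun k => posTorOK Cfsg.Lie.chevE8 (k / 240) (k % 240))) = true := by decide +kernel
theorem e8Utor_37_56000 : allRange 56000 56040 ((fun k => posTorOK Cfsg.Lie.chevE8 (k / 240) (k % 240))) = true := by decide +kernel
theorem e8Utor_37_56040 : allRange 56040 56080 ((fun k => posTorOK Cfsg.Lie.chevE8 (k / 240) (k % 240))) = true := by decide +kernel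
theorem e8Utor_37_56080 : allRange 56080 56120 ((fun k => posTorOK Cfsg.Lie.chevE8 (k / 240) (k % 240))) = true := by decide +kernel
theorem e8Utor_37_56120 : allRange 56120 56160 ((fun k => posTorOK Cfsg.Lie.chevE8 (k / 240) (k % 240))) = true := by decide +kernel
theorem e8Utor_37_56160 : allRange 56160 56200 ((fun k => posTorOK Cfsg.Lie.chevE8 (k / 240) (k % 240))) = true := by decide +kernel
theorem e8Utor_37_56200 : allRange 56200 56240 ((fun k => posTorOK Cfsg.Lie.chevE8 (k / 240) (k % 240))) = true := by decide +kernel

/-- Torus elements separating the pairs of positive roots of type E8 (roots 54760 to 56239). -/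
theorem e8Utor_37 : ∀ r, 54760 ≤ r → r < 56240 → ((fun k => posTorOK Cfsg.Lie.chevE8 (k / 240) (k % 240))) r = true := by
  intro r h1 h2
  by_cases c0 : r < 54800
  · exact allRange_spec e8Utor_37_54760 r (by omega) c0
  by_cases c1 : r < 54840
  · exact allRange_spec e8Utor_37_54800 r (by omega) c1
  by_cases c2 : r < 54880
  · exact allRange_spec e8Utor_37_54840 r (by omega) c2
  by_cases c3 : r < 54920
  · exact allRange_spec e8Utor_37_54880 r (by omega) c3
  by_cases c4 : r < 54960
  · exact allRange_spec e8Utor_37_54920 r (by omega) c4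
  by_cases c5 : r < 55000
  · exact allRange_spec e8Utor_37_54960 r (by omega) c5
  by_cases c6 : r < 55040
  · exact allRange_spec e8Utor_37_55000 r (by omega) c6
  by_cases c7 : r < 55080
  · exact allRange_spec e8Utor_37_55040 r (by omega) c7
  by_cases c8 : r < 55120
  · exact allRange_spec e8Utor_37_55080 r (by omega) c8
  by_cases c9 : r < 55160
  · exact allRange_spec e8Utor_37_55120 r (by omega) c9
  by_cases c10 : r < 55200
  · exact allRange_spec e8Utor_37_55160 r (by omega) c10
  by_cases c11 : r < 55240
  · exact allRange_spec e8Utor_37_55200 r (by omega) c11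
  by_cases c12 : r < 55280
  · exact allRange_spec e8Utor_37_55240 r (by omega) c12
  by_cases c13 : r < 55320
  · exact allRange_spec e8Utor_37_55280 r (by omega) c13
  by_cases c14 : r < 55360
  · exact allRange_spec e8Utor_37_55320 r (by omega) c14
  by_cases c15 : r < 55400
  · exact allRange_spec e8Utor_37_55360 r (by omega) c15
  by_cases c16 : r < 55440
  · exact allRange_spec e8Utor_37_55400 r (by omega) c16
  by_cases c17 : r < 55480
  · exact allRange_spec e8Utor_37_55440 r (by omega) c17
  by_cases c18 : r < 55520
  · exact allRange_spec e8Utor_37_55480 r (by omega) c18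
  by_cases c19 : r < 55560
  · exact allRange_spec e8Utor_37_55520 r (by omega) c19
  by_cases c20 : r < 55600
  · exact allRange_spec e8Utor_37_55560 r (by omega) c20
  by_cases c21 : r < 55640
  · exact allRange_spec e8Utor_37_55600 r (by omega) c21
  by_cases c22 : r < 55680
  · exact allRange_spec e8Utor_37_55640 r (by omega) c22
  by_cases c23 : r < 55720
  · exact allRange_spec e8Utor_37_55680 r (by omega) c23
  by_cases c24 : r < 55760
  · exact allRange_spec e8Utor_37_55720 r (by omega) c24
  by_cases c25 : r < 55800
  · exact allRange_spec e8Utor_37_55760 r (by omega) c25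
  by_cases c26 : r < 55840
  · exact allRange_spec e8Utor_37_55800 r (by omega) c26
  by_cases c27 : r < 55880
  · exact allRange_spec e8Utor_37_55840 r (by omega) c27
  by_cases c28 : r < 55920
  · exact allRange_spec e8Utor_37_55880 r (by omega) c28
  by_cases c29 : r < 55960
  · exact allRange_spec e8Utor_37_55920 r (by omega) c29
  by_cases c30 : r < 56000
  · exact allRange_spec e8Utor_37_55960 r (by omega) c30
  by_cases c31 : r < 56040
  · exact allRange_spec e8Utor_37_56000 r (by omega) c31
  by_cases c32 : r < 56080
  · exact allRange_spec e8Utor_37_56040 r (by omega) c32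
  by_cases c33 : r < 56120
  · exact allRange_spec e8Utor_37_56080 r (by omega) c33
  by_cases c34 : r < 56160
  · exact allRange_spec e8Utor_37_56120 r (by omega) c34
  by_cases c35 : r < 56200
  · exact allRange_spec e8Utor_37_56160 r (by omega) c35
  exact allRange_spec e8Utor_37_56200 r (by omega) h2

end Cfsg.Agent.Lib.Helper3.ChevM
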