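import Cfsg.Prelude.Def_ChevE8
import Cfsg.Agent.Lib.Helper3.StU10
set_option autoImplicit false
set_option maxRecDepth 1000000
set_option Elab.async false

namespace Cfsg.Agent.Lib.Helper3.ChevM
open Cfsg.Agent.Lib.Helper3.StB Cfsg.Agent.Lib.Helper3.StU

theorem e8Utor_38_56240 : allRange 56240 56280 ((fun k => posTorOK Cfsg.Lie.chevE8 (k / 240) (k % 240))) = true := by decide +kernel
theorem e8Utor_38_56280 : allRange 56280 56320 ((fun k => posTorOK Cfsg.Lie.chevE8 (k / 240) (k % 240))) = true := by decide +kernel
theorem e8Utor_38_56320 : allRange 56320 56360 ((fun k => posTorOK Cfsg.Lie.chevE8 (k / 240) (k % 240))) = true := by decide +kernel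
theorem e8Utor_38_56360 : allRange 56360 56400 ((fun k => posTorOK Cfsg.Lie.chevE8 (k / 240) (k % 240))) = true := by decide +kernel
theorem e8Utor_38_56400 : allRange 56400 56440 ((fun k => posTorOK Cfsg.Lie.chevE8 (k / 240) (k % 240))) = true := by decide +kernel
theorem e8Utor_38_56440 : allRange 56440 56480 ((fun k => posTorOK Cfsg.Lie.chevE8 (k / 240) (k % 240))) = true := by decide +kernel
theorem e8Utor_38_56480 : allRange 56480 56520 ((fun k => posTorOK Cfsg.Lie.chevE8 (k / 240) (k % 240))) = true := by decide +kernel
theorem e8Utor_38_56520 : allRange 56520 56560 ((fun k => posTorOK Cfsg.Lie.chevE8 (k / 240) (k % 240))) = true := by decide +kernel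
theorem e8Utor_38_56560 : allRange 56560 56600 ((fun k => posTorOK Cfsg.Lie.chevE8 (k / 240) (k % 240))) = true := by decide +kernel
theorem e8Utor_38_56600 : allRange 56600 56640 ((fun k => posTorOK Cfsg.Lie.chevE8 (k / 240) (k % 240))) = true := by decide +kernel
theorem e8Utor_38_56640 : allRange 56640 56680 ((fun k => posTorOK Cfsg.Lie.chevE8 (k / 240) (k % 240))) = true := by decide +kernel
theorem e8Utor_38_56680 : allRange 56680 56720 ((fun k => posTorOK Cfsg.Lie.chevE8 (k / 240) (k % 240))) = true := by decide +kernel
theorem e8Utor_38_56720 : allRange 56720 56760 ((fun k => posTorOK Cfsg.Lie.chevE8 (k / 240) (k % 240))) = true := by decide +kernel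
theorem e8Utor_38_56760 : allRange 56760 56800 ((fun k => posTorOK Cfsg.Lie.chevE8 (k / 240) (k % 240))) = true := by decide +kernel
theorem e8Utor_38_56800 : allRange 56800 56840 ((fun k => posTorOK Cfsg.Lie.chevE8 (k / 240) (k % 240))) = true := by decide +kernel
theorem e8Utor_38_56840 : allRange 56840 56880 ((fun k => posTorOK Cfsg.Lie.chevE8 (k / 240) (k % 240))) = true := by decide +kernel
theorem e8Utor_38_56880 : allRange 56880 56920 ((fun k => posTorOK Cfsg.Lie.chevE8 (k / 240) (k % 240))) = true := by decide +kernel
theorem e8Utor_38_56920 : allRange 56920 56960 ((fun k => posTorOK Cfsg.Lie.chevE8 (k / 240) (k % 240))) = true := by decide +kernel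
theorem e8Utor_38_56960 : allRange 56960 57000 ((fun k => posTorOK Cfsg.Lie.chevE8 (k / 240) (k % 240))) = true := by decide +kernel
theorem e8Utor_38_57000 : allRange 57000 57040 ((fun k => posTorOK Cfsg.Lie.chevE8 (k / 240) (k % 240))) = true := by decide +kernel
theorem e8Utor_38_57040 : allRange 57040 57080 ((fun k => posTorOK Cfsg.Lie.chevE8 (k / 240) (k % 240))) = true := by decide +kernel
theorem e8Utor_38_57080 : allRange 57080 57120 ((fun k => posTorOK Cfsg.Lie.chevE8 (k / 240) (k % 240))) = true := by decide +kernel
theorem e8Utor_38_57120 : allRange 57120 57160 ((fun k => posTorOK Cfsg.Lie.chevE8 (k / 240) (k % 240))) = true := by decide +kernel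
theorem e8Utor_38_57160 : allRange 57160 57200 ((fun k => posTorOK Cfsg.Lie.chevE8 (k / 240) (k % 240))) = true := by decide +kernel
theorem e8Utor_38_57200 : allRange 57200 57240 ((fun k => posTorOK Cfsg.Lie.chevE8 (k / 240) (k % 240))) = true := by decide +kernel
theorem e8Utor_38_57240 : allRange 57240 57280 ((fun k => posTorOK Cfsg.Lie.chevE8 (k / 240) (k % 240))) = true := by decide +kernel
theorem e8Utor_38_57280 : allRange 57280 57320 ((fun k => posTorOK Cfsg.Lie.chevE8 (k / 240) (k % 240))) = true := by decide +kernel
theorem e8Utor_38_57320 : allRange 57320 57360 ((fun k => posTorOK Cfsg.Lie.chevE8 (k / 240) (k % 240))) = true := by decide +kernel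
theorem e8Utor_38_57360 : allRange 57360 57400 ((fun k => posTorOK Cfsg.Lie.chevE8 (k / 240) (k % 240))) = true := by decide +kernel
theorem e8Utor_38_57400 : allRange 57400 57440 ((fun k => posTorOK Cfsg.Lie.chevE8 (k / 240) (k % 240))) = true := by decide +kernel
theorem e8Utor_38_57440 : allRange 57440 57480 ((fun k => posTorOK Cfsg.Lie.chevE8 (k / 240) (k % 240))) = true := by decide +kernel
theorem e8Utor_38_57480 : allRange 57480 57520 ((fun k => posTorOK Cfsg.Lie.chevE8 (k / 240) (k % 240))) = true := by decide +kernel
theorem e8Utor_38_57520 : allRange 57520 57560 ((fun k => posTorOK Cfsg.Lie.chevE8 (k / 240) (k % 240))) = true := by decide +kernel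
theorem e8Utor_38_57560 : allRange 57560 57600 ((fun k => posTorOK Cfsg.Lie.chevE8 (k / 240) (k % 240))) = true := by decide +kernel

/-- Torus elements separating the pairs of positive roots of type E8 (roots 56240 to 57599). -/
theorem e8Utor_38 : ∀ r, 56240 ≤ r → r < 57600 → ((fun k => posTorOK Cfsg.Lie.chevE8 (k / 240) (k % 240))) r = true := by
  intro r h1 h2
  by_cases c0 : r < 56280
  · exact allRange_spec e8Utor_38_56240 r (by omega) c0
  by_cases c1 : r < 56320
  · exact allRange_spec e8Utor_38_56280 r (by omega) c1
  by_cases c2 : r < 56360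
  · exact allRange_spec e8Utor_38_56320 r (by omega) c2
  by_cases c3 : r < 56400
  · exact allRange_spec e8Utor_38_56360 r (by omega) c3
  by_cases c4 : r < 56440
  · exact allRange_spec e8Utor_38_56400 r (by omega) c4
  by_cases c5 : r < 56480
  · exact allRange_spec e8Utor_38_56440 r (by omega) c5
  by_cases c6 : r < 56520
  · exact allRange_spec e8Utor_38_56480 r (by omega) c6
  by_cases c7 : r < 56560
  · exact allRange_spec e8Utor_38_56520 r (by omega) c7
  by_cases c8 : r < 56600
  · exact allRange_spec e8Utor_38_56560 r (by omega) c8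
  by_cases c9 : r < 56640
  · exact allRange_spec e8Utor_38_56600 r (by omega) c9
  by_cases c10 : r < 56680
  · exact allRange_spec e8Utor_38_56640 r (by omega) c10
  by_cases c11 : r < 56720
  · exact allRange_spec e8Utor_38_56680 r (by omega) c11
  by_cases c12 : r < 56760
  · exact allRange_spec e8Utor_38_56720 r (by omega) c12
  by_cases c13 : r < 56800
  · exact allRange_spec e8Utor_38_56760 r (by omega) c13
  by_cases c14 : r < 56840
  · exact allRange_spec e8Utor_38_56800 r (by omega) c14
  by_cases c15 : r < 56880
  · exact allRange_spec e8Utor_38_56840 r (by omega) c15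
  by_cases c16 : r < 56920
  · exact allRange_spec e8Utor_38_56880 r (by omega) c16
  by_cases c17 : r < 56960
  · exact allRange_spec e8Utor_38_56920 r (by omega) c17
  by_cases c18 : r < 57000
  · exact allRange_spec e8Utor_38_56960 r (by omega) c18
  by_cases c19 : r < 57040
  · exact allRange_spec e8Utor_38_57000 r (by omega) c19
  by_cases c20 : r < 57080
  · exact allRange_spec e8Utor_38_57040 r (by omega) c20
  by_cases c21 : r < 57120
  · exact allRange_spec e8Utor_38_57080 r (by omega) c21
  by_cases c22 : r < 57160
  · exact allRange_spec e8Utor_38_57120 r (by omega) c22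
  by_cases c23 : r < 57200
  · exact allRange_spec e8Utor_38_57160 r (by omega) c23
  by_cases c24 : r < 57240
  · exact allRange_spec e8Utor_38_57200 r (by omega) c24
  by_cases c25 : r < 57280
  · exact allRange_spec e8Utor_38_57240 r (by omega) c25
  by_cases c26 : r < 57320
  · exact allRange_spec e8Utor_38_57280 r (by omega) c26
  by_cases c27 : r < 57360
  · exact allRange_spec e8Utor_38_57320 r (by omega) c27
  by_cases c28 : r < 57400
  · exact allRange_spec e8Utor_38_57360 r (by omega) c28
  by_cases c29 : r < 57440
  · exact allRange_spec e8Utor_38_57400 r (by omega) c29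
  by_cases c30 : r < 57480
  · exact allRange_spec e8Utor_38_57440 r (by omega) c30
  by_cases c31 : r < 57520
  · exact allRange_spec e8Utor_38_57480 r (by omega) c31
  by_cases c32 : r < 57560
  · exact allRange_spec e8Utor_38_57520 r (by omega) c32
  exact allRange_spec e8Utor_38_57560 r (by omega) h2

end Cfsg.Agent.Lib.Helper3.ChevM
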