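import Cfsg.Prelude.Def_ChevE8
import Cfsg.Agent.Lib.Helper3.StU10
set_option autoImplicit false
set_option maxRecDepth 1000000
set_option Elab.async false

namespace Cfsg.Agent.Lib.Helper3.ChevM
open Cfsg.Agent.Lib.Helper3.StB Cfsg.Agent.Lib.Helper3.StU

theorem e8Utor_1_1480 : allRange 1480 1520 ((fun k => posTorOK Cfsg.Lie.chevE8 (k / 240) (k % 240))) = true := by decide +kernel
theorem e8Utor_1_1520 : allRange 1520 1560 ((fun k => posTorOK Cfsg.Lie.chevE8 (k / 240) (k % 240))) = true := by decide +kernel
theorem e8Utor_1_1560 : allRange 1560 1600 ((fun k => posTorOK Cfsg.Lie.chevE8 (k / 240) (k % 240))) = true := by decide +kernel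
theorem e8Utor_1_1600 : allRange 1600 1640 ((fun k => posTorOK Cfsg.Lie.chevE8 (k / 240) (k % 240))) = true := by decide +kernel
theorem e8Utor_1_1640 : allRange 1640 1680 ((fun k => posTorOK Cfsg.Lie.chevE8 (k / 240) (k % 240))) = true := by decide +kernel
theorem e8Utor_1_1680 : allRange 1680 1720 ((fun k => posTorOK Cfsg.Lie.chevE8 (k / 240) (k % 240))) = true := by decide +kernel
theorem e8Utor_1_1720 : allRange 1720 1760 ((fun k => posTorOK Cfsg.Lie.chevE8 (k / 240) (k % 240))) = true := by decide +kernel
theorem e8Utor_1_1760 : allRange 1760 1800 ((fun k => posTorOK Cfsg.Lie.chevE8 (k / 240) (k % 240))) = true := by decide +kernel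
theorem e8Utor_1_1800 : allRange 1800 1840 ((fun k => posTorOK Cfsg.Lie.chevE8 (k / 240) (k % 240))) = true := by decide +kernel
theorem e8Utor_1_1840 : allRange 1840 1880 ((fun k => posTorOK Cfsg.Lie.chevE8 (k / 240) (k % 240))) = true := by decide +kernel
theorem e8Utor_1_1880 : allRange 1880 1920 ((fun k => posTorOK Cfsg.Lie.chevE8 (k / 240) (k % 240))) = true := by decide +kernel
theorem e8Utor_1_1920 : allRange 1920 1960 ((fun k => posTorOK Cfsg.Lie.chevE8 (k / 240) (k % 240))) = true := by decide +kernel
theorem e8Utor_1_1960 : allRange 1960 2000 ((fun k => posTorOK Cfsg.Lie.chevE8 (k / 240) (k % 240))) = true := by decide +kernel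
theorem e8Utor_1_2000 : allRange 2000 2040 ((fun k => posTorOK Cfsg.Lie.chevE8 (k / 240) (k % 240))) = true := by decide +kernel
theorem e8Utor_1_2040 : allRange 2040 2080 ((fun k => posTorOK Cfsg.Lie.chevE8 (k / 240) (k % 240))) = true := by decide +kernel
theorem e8Utor_1_2080 : allRange 2080 2120 ((fun k => posTorOK Cfsg.Lie.chevE8 (k / 240) (k % 240))) = true := by decide +kernel
theorem e8Utor_1_2120 : allRange 2120 2160 ((fun k => posTorOK Cfsg.Lie.chevE8 (k / 240) (k % 240))) = true := by decide +kernel
theorem e8Utor_1_2160 : allRange 2160 2200 ((fun k => posTorOK Cfsg.Lie.chevE8 (k / 240) (k % 240))) = true := by decide +kernel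
theorem e8Utor_1_2200 : allRange 2200 2240 ((fun k => posTorOK Cfsg.Lie.chevE8 (k / 240) (k % 240))) = true := by decide +kernel
theorem e8Utor_1_2240 : allRange 2240 2280 ((fun k => posTorOK Cfsg.Lie.chevE8 (k / 240) (k % 240))) = true := by decide +kernel
theorem e8Utor_1_2280 : allRange 2280 2320 ((fun k => posTorOK Cfsg.Lie.chevE8 (k / 240) (k % 240))) = true := by decide +kernel
theorem e8Utor_1_2320 : allRange 2320 2360 ((fun k => posTorOK Cfsg.Lie.chevE8 (k / 240) (k % 240))) = true := by decide +kernel
theorem e8Utor_1_2360 : allRange 2360 2400 ((fun k => posTorOK Cfsg.Lie.chevE8 (k / 240) (k % 240))) = true := by decide +kernel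
theorem e8Utor_1_2400 : allRange 2400 2440 ((fun k => posTorOK Cfsg.Lie.chevE8 (k / 240) (k % 240))) = true := by decide +kernel
theorem e8Utor_1_2440 : allRange 2440 2480 ((fun k => posTorOK Cfsg.Lie.chevE8 (k / 240) (k % 240))) = true := by decide +kernel
theorem e8Utor_1_2480 : allRange 2480 2520 ((fun k => posTorOK Cfsg.Lie.chevE8 (k / 240) (k % 240))) = true := by decide +kernel
theorem e8Utor_1_2520 : allRange 2520 2560 ((fun k => posTorOK Cfsg.Lie.chevE8 (k / 240) (k % 240))) = true := by decide +kernel
theorem e8Utor_1_2560 : allRange 2560 2600 ((fun k => posTorOK Cfsg.Lie.chevE8 (k / 240) (k % 240))) = true := by decide +kernel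
theorem e8Utor_1_2600 : allRange 2600 2640 ((fun k => posTorOK Cfsg.Lie.chevE8 (k / 240) (k % 240))) = true := by decide +kernel
theorem e8Utor_1_2640 : allRange 2640 2680 ((fun k => posTorOK Cfsg.Lie.chevE8 (k / 240) (k % 240))) = true := by decide +kernel
theorem e8Utor_1_2680 : allRange 2680 2720 ((fun k => posTorOK Cfsg.Lie.chevE8 (k / 240) (k % 240))) = true := by decide +kernel
theorem e8Utor_1_2720 : allRange 2720 2760 ((fun k => posTorOK Cfsg.Lie.chevE8 (k / 240) (k % 240))) = true := by decide +kernel
theorem e8Utor_1_2760 : allRange 2760 2800 ((fun k => posTorOK Cfsg.Lie.chevE8 (k / 240) (k % 240))) = true := by decide +kernel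
theorem e8Utor_1_2800 : allRange 2800 2840 ((fun k => posTorOK Cfsg.Lie.chevE8 (k / 240) (k % 240))) = true := by decide +kernel
theorem e8Utor_1_2840 : allRange 2840 2880 ((fun k => posTorOK Cfsg.Lie.chevE8 (k / 240) (k % 240))) = true := by decide +kernel
theorem e8Utor_1_2880 : allRange 2880 2920 ((fun k => posTorOK Cfsg.Lie.chevE8 (k / 240) (k % 240))) = true := by decide +kernel
theorem e8Utor_1_2920 : allRange 2920 2960 ((fun k => posTorOK Cfsg.Lie.chevE8 (k / 240) (k % 240))) = true := by decide +kernel

/-- Torus elements separating the pairs of positive roots of type E8 (roots 1480 to 2959). -/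
theorem e8Utor_1 : ∀ r, 1480 ≤ r → r < 2960 → ((fun k => posTorOK Cfsg.Lie.chevE8 (k / 240) (k % 240))) r = true := by
  intro r h1 h2
  by_cases c0 : r < 1520
  · exact allRange_spec e8Utor_1_1480 r (by omega) c0
  by_cases c1 : r < 1560
  · exact allRange_spec e8Utor_1_1520 r (by omega) c1
  by_cases c2 : r < 1600
  · exact allRange_spec e8Utor_1_1560 r (by omega) c2
  by_cases c3 : r < 1640
  · exact allRange_spec e8Utor_1_1600 r (by omega) c3
  by_cases c4 : r < 1680
  · exact allRange_spec e8Utor_1_1640 r (by omega) c4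
  by_cases c5 : r < 1720
  · exact allRange_spec e8Utor_1_1680 r (by omega) c5
  by_cases c6 : r < 1760
  · exact allRange_spec e8Utor_1_1720 r (by omega) c6
  by_cases c7 : r < 1800
  · exact allRange_spec e8Utor_1_1760 r (by omega) c7
  by_cases c8 : r < 1840
  · exact allRange_spec e8Utor_1_1800 r (by omega) c8
  by_cases c9 : r < 1880
  · exact allRange_spec e8Utor_1_1840 r (by omega) c9
  by_cases c10 : r < 1920
  · exact allRange_spec e8Utor_1_1880 r (by omega) c10
  by_cases c11 : r < 1960
  · exact allRange_spec e8Utor_1_1920 r (by omega) c11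
  by_cases c12 : r < 2000
  · exact allRange_spec e8Utor_1_1960 r (by omega) c12
  by_cases c13 : r < 2040
  · exact allRange_spec e8Utor_1_2000 r (by omega) c13
  by_cases c14 : r < 2080
  · exact allRange_spec e8Utor_1_2040 r (by omega) c14
  by_cases c15 : r < 2120
  · exact allRange_spec e8Utor_1_2080 r (by omega) c15
  by_cases c16 : r < 2160
  · exact allRange_spec e8Utor_1_2120 r (by omega) c16
  by_cases c17 : r < 2200
  · exact allRange_spec e8Utor_1_2160 r (by omega) c17
  by_cases c18 : r < 2240
  · exact allRange_spec e8Utor_1_2200 r (by omega) c18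
  by_cases c19 : r < 2280
  · exact allRange_spec e8Utor_1_2240 r (by omega) c19
  by_cases c20 : r < 2320
  · exact allRange_spec e8Utor_1_2280 r (by omega) c20
  by_cases c21 : r < 2360
  · exact allRange_spec e8Utor_1_2320 r (by omega) c21
  by_cases c22 : r < 2400
  · exact allRange_spec e8Utor_1_2360 r (by omega) c22
  by_cases c23 : r < 2440
  · exact allRange_spec e8Utor_1_2400 r (by omega) c23
  by_cases c24 : r < 2480
  · exact allRange_spec e8Utor_1_2440 r (by omega) c24
  by_cases c25 : r < 2520
  · exact allRange_spec e8Utor_1_2480 r (by omega) c25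
  by_cases c26 : r < 2560
  · exact allRange_spec e8Utor_1_2520 r (by omega) c26
  by_cases c27 : r < 2600
  · exact allRange_spec e8Utor_1_2560 r (by omega) c27
  by_cases c28 : r < 2640
  · exact allRange_spec e8Utor_1_2600 r (by omega) c28
  by_cases c29 : r < 2680
  · exact allRange_spec e8Utor_1_2640 r (by omega) c29
  by_cases c30 : r < 2720
  · exact allRange_spec e8Utor_1_2680 r (by omega) c30
  by_cases c31 : r < 2760
  · exact allRange_spec e8Utor_1_2720 r (by omega) c31
  by_cases c32 : r < 2800
  · exact allRange_spec e8Utor_1_2760 r (by omega) c32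
  by_cases c33 : r < 2840
  · exact allRange_spec e8Utor_1_2800 r (by omega) c33
  by_cases c34 : r < 2880
  · exact allRange_spec e8Utor_1_2840 r (by omega) c34
  by_cases c35 : r < 2920
  · exact allRange_spec e8Utor_1_2880 r (by omega) c35
  exact allRange_spec e8Utor_1_2920 r (by omega) h2

end Cfsg.Agent.Lib.Helper3.ChevM
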