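import Cfsg.Prelude.Def_ChevE8
import Cfsg.Agent.Lib.Helper3.StU10
set_option autoImplicit false
set_option maxRecDepth 1000000
set_option Elab.async false

namespace Cfsg.Agent.Lib.Helper3.ChevM
open Cfsg.Agent.Lib.Helper3.StB Cfsg.Agent.Lib.Helper3.StU

theorem e8Utor_2_2960 : allRange 2960 3000 ((fun k => posTorOK Cfsg.Lie.chevE8 (k / 240) (k % 240))) = true := by decide +kernel
theorem e8Utor_2_3000 : allRange 3000 3040 ((fun k => posTorOK Cfsg.Lie.chevE8 (k / 240) (k % 240))) = true := by decide +kernel
theorem e8Utor_2_3040 : allRange 3040 3080 ((fun k => posTorOK Cfsg.Lie.chevE8 (k / 240) (k % 240))) = true := by decide +kernel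
theorem e8Utor_2_3080 : allRange 3080 3120 ((fun k => posTorOK Cfsg.Lie.chevE8 (k / 240) (k % 240))) = true := by decide +kernel
theorem e8Utor_2_3120 : allRange 3120 3160 ((fun k => posTorOK Cfsg.Lie.chevE8 (k / 240) (k % 240))) = true := by decide +kernel
theorem e8Utor_2_3160 : allRange 3160 3200 ((fun k => posTorOK Cfsg.Lie.chevE8 (k / 240) (k % 240))) = true := by decide +kernel
theorem e8Utor_2_3200 : allRange 3200 3240 ((fun k => posTorOK Cfsg.Lie.chevE8 (k / 240) (k % 240))) = true := by decide +kernel
theorem e8Utor_2_3240 : allRange 3240 3280 ((fun k => posTorOK Cfsg.Lie.chevE8 (k / 240) (k % 240))) = true := by decide +kernel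
theorem e8Utor_2_3280 : allRange 3280 3320 ((fun k => posTorOK Cfsg.Lie.chevE8 (k / 240) (k % 240))) = true := by decide +kernel
theorem e8Utor_2_3320 : allRange 3320 3360 ((fun k => posTorOK Cfsg.Lie.chevE8 (k / 240) (k % 240))) = true := by decide +kernel
theorem e8Utor_2_3360 : allRange 3360 3400 ((fun k => posTorOK Cfsg.Lie.chevE8 (k / 240) (k % 240))) = true := by decide +kernel
theorem e8Utor_2_3400 : allRange 3400 3440 ((fun k => posTorOK Cfsg.Lie.chevE8 (k / 240) (k % 240))) = true := by decide +kernel
theorem e8Utor_2_3440 : allRange 3440 3480 ((fun k => posTorOK Cfsg.Lie.chevE8 (k / 240) (k % 240))) = true := by decide +kernel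
theorem e8Utor_2_3480 : allRange 3480 3520 ((fun k => posTorOK Cfsg.Lie.chevE8 (k / 240) (k % 240))) = true := by decide +kernel
theorem e8Utor_2_3520 : allRange 3520 3560 ((fun k => posTorOK Cfsg.Lie.chevE8 (k / 240) (k % 240))) = true := by decide +kernel
theorem e8Utor_2_3560 : allRange 3560 3600 ((fun k => posTorOK Cfsg.Lie.chevE8 (k / 240) (k % 240))) = true := by decide +kernel
theorem e8Utor_2_3600 : allRange 3600 3640 ((fun k => posTorOK Cfsg.Lie.chevE8 (k / 240) (k % 240))) = true := by decide +kernel
theorem e8Utor_2_3640 : allRange 3640 3680 ((fun k => posTorOK Cfsg.Lie.chevE8 (k / 240) (k % 240))) = true := by decide +kernel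
theorem e8Utor_2_3680 : allRange 3680 3720 ((fun k => posTorOK Cfsg.Lie.chevE8 (k / 240) (k % 240))) = true := by decide +kernel
theorem e8Utor_2_3720 : allRange 3720 3760 ((fun k => posTorOK Cfsg.Lie.chevE8 (k / 240) (k % 240))) = true := by decide +kernel
theorem e8Utor_2_3760 : allRange 3760 3800 ((fun k => posTorOK Cfsg.Lie.chevE8 (k / 240) (k % 240))) = true := by decide +kernel
theorem e8Utor_2_3800 : allRange 3800 3840 ((fun k => posTorOK Cfsg.Lie.chevE8 (k / 240) (k % 240))) = true := by decide +kernel
theorem e8Utor_2_3840 : allRange 3840 3880 ((fun k => posTorOK Cfsg.Lie.chevE8 (k / 240) (k % 240))) = true := by decide +kernel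
theorem e8Utor_2_3880 : allRange 3880 3920 ((fun k => posTorOK Cfsg.Lie.chevE8 (k / 240) (k % 240))) = true := by decide +kernel
theorem e8Utor_2_3920 : allRange 3920 3960 ((fun k => posTorOK Cfsg.Lie.chevE8 (k / 240) (k % 240))) = true := by decide +kernel
theorem e8Utor_2_3960 : allRange 3960 4000 ((fun k => posTorOK Cfsg.Lie.chevE8 (k / 240) (k % 240))) = true := by decide +kernel
theorem e8Utor_2_4000 : allRange 4000 4040 ((fun k => posTorOK Cfsg.Lie.chevE8 (k / 240) (k % 240))) = true := by decide +kernel
theorem e8Utor_2_4040 : allRange 4040 4080 ((fun k => posTorOK Cfsg.Lie.chevE8 (k / 240) (k % 240))) = true := by decide +kernel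
theorem e8Utor_2_4080 : allRange 4080 4120 ((fun k => posTorOK Cfsg.Lie.chevE8 (k / 240) (k % 240))) = true := by decide +kernel
theorem e8Utor_2_4120 : allRange 4120 4160 ((fun k => posTorOK Cfsg.Lie.chevE8 (k / 240) (k % 240))) = true := by decide +kernel
theorem e8Utor_2_4160 : allRange 4160 4200 ((fun k => posTorOK Cfsg.Lie.chevE8 (k / 240) (k % 240))) = true := by decide +kernel
theorem e8Utor_2_4200 : allRange 4200 4240 ((fun k => posTorOK Cfsg.Lie.chevE8 (k / 240) (k % 240))) = true := by decide +kernel
theorem e8Utor_2_4240 : allRange 4240 4280 ((fun k => posTorOK Cfsg.Lie.chevE8 (k / 240) (k % 240))) = true := by decide +kernel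
theorem e8Utor_2_4280 : allRange 4280 4320 ((fun k => posTorOK Cfsg.Lie.chevE8 (k / 240) (k % 240))) = true := by decide +kernel
theorem e8Utor_2_4320 : allRange 4320 4360 ((fun k => posTorOK Cfsg.Lie.chevE8 (k / 240) (k % 240))) = true := by decide +kernel
theorem e8Utor_2_4360 : allRange 4360 4400 ((fun k => posTorOK Cfsg.Lie.chevE8 (k / 240) (k % 240))) = true := by decide +kernel
theorem e8Utor_2_4400 : allRange 4400 4440 ((fun k => posTorOK Cfsg.Lie.chevE8 (k / 240) (k % 240))) = true := by decide +kernel

/-- Torus elements separating the pairs of positive roots of type E8 (roots 2960 to 4439). -/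
theorem e8Utor_2 : ∀ r, 2960 ≤ r → r < 4440 → ((fun k => posTorOK Cfsg.Lie.chevE8 (k / 240) (k % 240))) r = true := by
  intro r h1 h2
  by_cases c0 : r < 3000
  · exact allRange_spec e8Utor_2_2960 r (by omega) c0
  by_cases c1 : r < 3040
  · exact allRange_spec e8Utor_2_3000 r (by omega) c1
  by_cases c2 : r < 3080
  · exact allRange_spec e8Utor_2_3040 r (by omega) c2
  by_cases c3 : r < 3120
  · exact allRange_spec e8Utor_2_3080 r (by omega) c3
  by_cases c4 : r < 3160
  · exact allRange_spec e8Utor_2_3120 r (by omega) c4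
  by_cases c5 : r < 3200
  · exact allRange_spec e8Utor_2_3160 r (by omega) c5
  by_cases c6 : r < 3240
  · exact allRange_spec e8Utor_2_3200 r (by omega) c6
  by_cases c7 : r < 3280
  · exact allRange_spec e8Utor_2_3240 r (by omega) c7
  by_cases c8 : r < 3320
  · exact allRange_spec e8Utor_2_3280 r (by omega) c8
  by_cases c9 : r < 3360
  · exact allRange_spec e8Utor_2_3320 r (by omega) c9
  by_cases c10 : r < 3400
  · exact allRange_spec e8Utor_2_3360 r (by omega) c10
  by_cases c11 : r < 3440
  · exact allRange_spec e8Utor_2_3400 r (by omega) c11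
  by_cases c12 : r < 3480
  · exact allRange_spec e8Utor_2_3440 r (by omega) c12
  by_cases c13 : r < 3520
  · exact allRange_spec e8Utor_2_3480 r (by omega) c13
  by_cases c14 : r < 3560
  · exact allRange_spec e8Utor_2_3520 r (by omega) c14
  by_cases c15 : r < 3600
  · exact allRange_spec e8Utor_2_3560 r (by omega) c15
  by_cases c16 : r < 3640
  · exact allRange_spec e8Utor_2_3600 r (by omega) c16
  by_cases c17 : r < 3680
  · exact allRange_spec e8Utor_2_3640 r (by omega) c17
  by_cases c18 : r < 3720
  · exact allRange_spec e8Utor_2_3680 r (by omega) c18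
  by_cases c19 : r < 3760
  · exact allRange_spec e8Utor_2_3720 r (by omega) c19
  by_cases c20 : r < 3800
  · exact allRange_spec e8Utor_2_3760 r (by omega) c20
  by_cases c21 : r < 3840
  · exact allRange_spec e8Utor_2_3800 r (by omega) c21
  by_cases c22 : r < 3880
  · exact allRange_spec e8Utor_2_3840 r (by omega) c22
  by_cases c23 : r < 3920
  · exact allRange_spec e8Utor_2_3880 r (by omega) c23
  by_cases c24 : r < 3960
  · exact allRange_spec e8Utor_2_3920 r (by omega) c24
  by_cases c25 : r < 4000
  · exact allRange_spec e8Utor_2_3960 r (by omega) c25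
  by_cases c26 : r < 4040
  · exact allRange_spec e8Utor_2_4000 r (by omega) c26
  by_cases c27 : r < 4080
  · exact allRange_spec e8Utor_2_4040 r (by omega) c27
  by_cases c28 : r < 4120
  · exact allRange_spec e8Utor_2_4080 r (by omega) c28
  by_cases c29 : r < 4160
  · exact allRange_spec e8Utor_2_4120 r (by omega) c29
  by_cases c30 : r < 4200
  · exact allRange_spec e8Utor_2_4160 r (by omega) c30
  by_cases c31 : r < 4240
  · exact allRange_spec e8Utor_2_4200 r (by omega) c31
  by_cases c32 : r < 4280
  · exact allRange_spec e8Utor_2_4240 r (by omega) c32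
  by_cases c33 : r < 4320
  · exact allRange_spec e8Utor_2_4280 r (by omega) c33
  by_cases c34 : r < 4360
  · exact allRange_spec e8Utor_2_4320 r (by omega) c34
  by_cases c35 : r < 4400
  · exact allRange_spec e8Utor_2_4360 r (by omega) c35
  exact allRange_spec e8Utor_2_4400 r (by omega) h2

end Cfsg.Agent.Lib.Helper3.ChevM
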