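import Cfsg.Prelude.Def_ChevE8
import Cfsg.Agent.Lib.Helper3.StU10
set_option autoImplicit false
set_option maxRecDepth 1000000
set_option Elab.async false

namespace Cfsg.Agent.Lib.Helper3.ChevM
open Cfsg.Agent.Lib.Helper3.StB Cfsg.Agent.Lib.Helper3.StU

theorem e8Utor_3_4440 : allRange 4440 4480 ((fun k => posTorOK Cfsg.Lie.chevE8 (k / 240) (k % 240))) = true := by decide +kernel
theorem e8Utor_3_4480 : allRange 4480 4520 ((fun k => posTorOK Cfsg.Lie.chevE8 (k / 240) (k % 240))) = true := by decide +kernel
theorem e8Utor_3_4520 : allRange 4520 4560 ((fun k => posTorOK Cfsg.Lie.chevE8 (k / 240) (k % 240))) = true := by decide +kernel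
theorem e8Utor_3_4560 : allRange 4560 4600 ((fun k => posTorOK Cfsg.Lie.chevE8 (k / 240) (k % 240))) = true := by decide +kernel
theorem e8Utor_3_4600 : allRange 4600 4640 ((fun k => posTorOK Cfsg.Lie.chevE8 (k / 240) (k % 240))) = true := by decide +kernel
theorem e8Utor_3_4640 : allRange 4640 4680 ((fun k => posTorOK Cfsg.Lie.chevE8 (k / 240) (k % 240))) = true := by decide +kernel
theorem e8Utor_3_4680 : allRange 4680 4720 ((fun k => posTorOK Cfsg.Lie.chevE8 (k / 240) (k % 240))) = true := by decide +kernel
theorem e8Utor_3_4720 : allRange 4720 4760 ((fun k => posTorOK Cfsg.Lie.chevE8 (k / 240) (k % 240))) = true := by decide +kernel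
theorem e8Utor_3_4760 : allRange 4760 4800 ((fun k => posTorOK Cfsg.Lie.chevE8 (k / 240) (k % 240))) = true := by decide +kernel
theorem e8Utor_3_4800 : allRange 4800 4840 ((fun k => posTorOK Cfsg.Lie.chevE8 (k / 240) (k % 240))) = true := by decide +kernel
theorem e8Utor_3_4840 : allRange 4840 4880 ((fun k => posTorOK Cfsg.Lie.chevE8 (k / 240) (k % 240))) = true := by decide +kernel
theorem e8Utor_3_4880 : allRange 4880 4920 ((fun k => posTorOK Cfsg.Lie.chevE8 (k / 240) (k % 240))) = true := by decide +kernel
theorem e8Utor_3_4920 : allRange 4920 4960 ((fun k => posTorOK Cfsg.Lie.chevE8 (k / 240) (k % 240))) = true := by decide +kernel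
theorem e8Utor_3_4960 : allRange 4960 5000 ((fun k => posTorOK Cfsg.Lie.chevE8 (k / 240) (k % 240))) = true := by decide +kernel
theorem e8Utor_3_5000 : allRange 5000 5040 ((fun k => posTorOK Cfsg.Lie.chevE8 (k / 240) (k % 240))) = true := by decide +kernel
theorem e8Utor_3_5040 : allRange 5040 5080 ((fun k => posTorOK Cfsg.Lie.chevE8 (k / 240) (k % 240))) = true := by decide +kernel
theorem e8Utor_3_5080 : allRange 5080 5120 ((fun k => posTorOK Cfsg.Lie.chevE8 (k / 240) (k % 240))) = true := by decide +kernel
theorem e8Utor_3_5120 : allRange 5120 5160 ((fun k => posTorOK Cfsg.Lie.chevE8 (k / 240) (k % 240))) = true := by decide +kernel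
theorem e8Utor_3_5160 : allRange 5160 5200 ((fun k => posTorOK Cfsg.Lie.chevE8 (k / 240) (k % 240))) = true := by decide +kernel
theorem e8Utor_3_5200 : allRange 5200 5240 ((fun k => posTorOK Cfsg.Lie.chevE8 (k / 240) (k % 240))) = true := by decide +kernel
theorem e8Utor_3_5240 : allRange 5240 5280 ((fun k => posTorOK Cfsg.Lie.chevE8 (k / 240) (k % 240))) = true := by decide +kernel
theorem e8Utor_3_5280 : allRange 5280 5320 ((fun k => posTorOK Cfsg.Lie.chevE8 (k / 240) (k % 240))) = true := by decide +kernel
theorem e8Utor_3_5320 : allRange 5320 5360 ((fun k => posTorOK Cfsg.Lie.chevE8 (k / 240) (k % 240))) = true := by decide +kernel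
theorem e8Utor_3_5360 : allRange 5360 5400 ((fun k => posTorOK Cfsg.Lie.chevE8 (k / 240) (k % 240))) = true := by decide +kernel
theorem e8Utor_3_5400 : allRange 5400 5440 ((fun k => posTorOK Cfsg.Lie.chevE8 (k / 240) (k % 240))) = true := by decide +kernel
theorem e8Utor_3_5440 : allRange 5440 5480 ((fun k => posTorOK Cfsg.Lie.chevE8 (k / 240) (k % 240))) = true := by decide +kernel
theorem e8Utor_3_5480 : allRange 5480 5520 ((fun k => posTorOK Cfsg.Lie.chevE8 (k / 240) (k % 240))) = true := by decide +kernel
theorem e8Utor_3_5520 : allRange 5520 5560 ((fun k => posTorOK Cfsg.Lie.chevE8 (k / 240) (k % 240))) = true := by decide +kernel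
theorem e8Utor_3_5560 : allRange 5560 5600 ((fun k => posTorOK Cfsg.Lie.chevE8 (k / 240) (k % 240))) = true := by decide +kernel
theorem e8Utor_3_5600 : allRange 5600 5640 ((fun k => posTorOK Cfsg.Lie.chevE8 (k / 240) (k % 240))) = true := by decide +kernel
theorem e8Utor_3_5640 : allRange 5640 5680 ((fun k => posTorOK Cfsg.Lie.chevE8 (k / 240) (k % 240))) = true := by decide +kernel
theorem e8Utor_3_5680 : allRange 5680 5720 ((fun k => posTorOK Cfsg.Lie.chevE8 (k / 240) (k % 240))) = true := by decide +kernel
theorem e8Utor_3_5720 : allRange 5720 5760 ((fun k => posTorOK Cfsg.Lie.chevE8 (k / 240) (k % 240))) = true := by decide +kernel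
theorem e8Utor_3_5760 : allRange 5760 5800 ((fun k => posTorOK Cfsg.Lie.chevE8 (k / 240) (k % 240))) = true := by decide +kernel
theorem e8Utor_3_5800 : allRange 5800 5840 ((fun k => posTorOK Cfsg.Lie.chevE8 (k / 240) (k % 240))) = true := by decide +kernel
theorem e8Utor_3_5840 : allRange 5840 5880 ((fun k => posTorOK Cfsg.Lie.chevE8 (k / 240) (k % 240))) = true := by decide +kernel
theorem e8Utor_3_5880 : allRange 5880 5920 ((fun k => posTorOK Cfsg.Lie.chevE8 (k / 240) (k % 240))) = true := by decide +kernel

/-- Torus elements separating the pairs of positive roots of type E8 (roots 4440 to 5919). -/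
theorem e8Utor_3 : ∀ r, 4440 ≤ r → r < 5920 → ((fun k => posTorOK Cfsg.Lie.chevE8 (k / 240) (k % 240))) r = true := by
  intro r h1 h2
  by_cases c0 : r < 4480
  · exact allRange_spec e8Utor_3_4440 r (by omega) c0
  by_cases c1 : r < 4520
  · exact allRange_spec e8Utor_3_4480 r (by omega) c1
  by_cases c2 : r < 4560
  · exact allRange_spec e8Utor_3_4520 r (by omega) c2
  by_cases c3 : r < 4600
  · exact allRange_spec e8Utor_3_4560 r (by omega) c3
  by_cases c4 : r < 4640
  · exact allRange_spec e8Utor_3_4600 r (by omega) c4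
  by_cases c5 : r < 4680
  · exact allRange_spec e8Utor_3_4640 r (by omega) c5
  by_cases c6 : r < 4720
  · exact allRange_spec e8Utor_3_4680 r (by omega) c6
  by_cases c7 : r < 4760
  · exact allRange_spec e8Utor_3_4720 r (by omega) c7
  by_cases c8 : r < 4800
  · exact allRange_spec e8Utor_3_4760 r (by omega) c8
  by_cases c9 : r < 4840
  · exact allRange_spec e8Utor_3_4800 r (by omega) c9
  by_cases c10 : r < 4880
  · exact allRange_spec e8Utor_3_4840 r (by omega) c10
  by_cases c11 : r < 4920
  · exact allRange_spec e8Utor_3_4880 r (by omega) c11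
  by_cases c12 : r < 4960
  · exact allRange_spec e8Utor_3_4920 r (by omega) c12
  by_cases c13 : r < 5000
  · exact allRange_spec e8Utor_3_4960 r (by omega) c13
  by_cases c14 : r < 5040
  · exact allRange_spec e8Utor_3_5000 r (by omega) c14
  by_cases c15 : r < 5080
  · exact allRange_spec e8Utor_3_5040 r (by omega) c15
  by_cases c16 : r < 5120
  · exact allRange_spec e8Utor_3_5080 r (by omega) c16
  by_cases c17 : r < 5160
  · exact allRange_spec e8Utor_3_5120 r (by omega) c17
  by_cases c18 : r < 5200
  · exact allRange_spec e8Utor_3_5160 r (by omega) c18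
  by_cases c19 : r < 5240
  · exact allRange_spec e8Utor_3_5200 r (by omega) c19
  by_cases c20 : r < 5280
  · exact allRange_spec e8Utor_3_5240 r (by omega) c20
  by_cases c21 : r < 5320
  · exact allRange_spec e8Utor_3_5280 r (by omega) c21
  by_cases c22 : r < 5360
  · exact allRange_spec e8Utor_3_5320 r (by omega) c22
  by_cases c23 : r < 5400
  · exact allRange_spec e8Utor_3_5360 r (by omega) c23
  by_cases c24 : r < 5440
  · exact allRange_spec e8Utor_3_5400 r (by omega) c24
  by_cases c25 : r < 5480
  · exact allRange_spec e8Utor_3_5440 r (by omega) c25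
  by_cases c26 : r < 5520
  · exact allRange_spec e8Utor_3_5480 r (by omega) c26
  by_cases c27 : r < 5560
  · exact allRange_spec e8Utor_3_5520 r (by omega) c27
  by_cases c28 : r < 5600
  · exact allRange_spec e8Utor_3_5560 r (by omega) c28
  by_cases c29 : r < 5640
  · exact allRange_spec e8Utor_3_5600 r (by omega) c29
  by_cases c30 : r < 5680
  · exact allRange_spec e8Utor_3_5640 r (by omega) c30
  by_cases c31 : r < 5720
  · exact allRange_spec e8Utor_3_5680 r (by omega) c31
  by_cases c32 : r < 5760
  · exact allRange_spec e8Utor_3_5720 r (by omega) c32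
  by_cases c33 : r < 5800
  · exact allRange_spec e8Utor_3_5760 r (by omega) c33
  by_cases c34 : r < 5840
  · exact allRange_spec e8Utor_3_5800 r (by omega) c34
  by_cases c35 : r < 5880
  · exact allRange_spec e8Utor_3_5840 r (by omega) c35
  exact allRange_spec e8Utor_3_5880 r (by omega) h2

end Cfsg.Agent.Lib.Helper3.ChevM
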