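import Cfsg.Prelude.Def_ChevE8
import Cfsg.Agent.Lib.Helper3.StU10
set_option autoImplicit false
set_option maxRecDepth 1000000
set_option Elab.async false

namespace Cfsg.Agent.Lib.Helper3.ChevM
open Cfsg.Agent.Lib.Helper3.StB Cfsg.Agent.Lib.Helper3.StU

theorem e8Utor_4_5920 : allRange 5920 5960 ((fun k => posTorOK Cfsg.Lie.chevE8 (k / 240) (k % 240))) = true := by decide +kernel
theorem e8Utor_4_5960 : allRange 5960 6000 ((fun k => posTorOK Cfsg.Lie.chevE8 (k / 240) (k % 240))) = true := by decide +kernel
theorem e8Utor_4_6000 : allRange 6000 6040 ((fun k => posTorOK Cfsg.Lie.chevE8 (k / 240) (k % 240))) = true := by decide +kernel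
theorem e8Utor_4_6040 : allRange 6040 6080 ((fun k => posTorOK Cfsg.Lie.chevE8 (k / 240) (k % 240))) = true := by decide +kernel
theorem e8Utor_4_6080 : allRange 6080 6120 ((fun k => posTorOK Cfsg.Lie.chevE8 (k / 240) (k % 240))) = true := by decide +kernel
theorem e8Utor_4_6120 : allRange 6120 6160 ((fun k => posTorOK Cfsg.Lie.chevE8 (k / 240) (k % 240))) = true := by decide +kernel
theorem e8Utor_4_6160 : allRange 6160 6200 ((fun k => posTorOK Cfsg.Lie.chevE8 (k / 240) (k % 240))) = true := by decide +kernel
theorem e8Utor_4_6200 : allRange 6200 6240 ((fun k => posTorOK Cfsg.Lie.chevE8 (k / 240) (k % 240))) = true := by decide +kernel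
theorem e8Utor_4_6240 : allRange 6240 6280 ((fun k => posTorOK Cfsg.Lie.chevE8 (k / 240) (k % 240))) = true := by decide +kernel
theorem e8Utor_4_6280 : allRange 6280 6320 ((fun k => posTorOK Cfsg.Lie.chevE8 (k / 240) (k % 240))) = true := by decide +kernel
theorem e8Utor_4_6320 : allRange 6320 6360 ((fun k => posTorOK Cfsg.Lie.chevE8 (k / 240) (k % 240))) = true := by decide +kernel
theorem e8Utor_4_6360 : allRange 6360 6400 ((fun k => posTorOK Cfsg.Lie.chevE8 (k / 240) (k % 240))) = true := by decide +kernel
theorem e8Utor_4_6400 : allRange 6400 6440 ((fun k => posTorOK Cfsg.Lie.chevE8 (k / 240) (k % 240))) = true := by decide +kernel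
theorem e8Utor_4_6440 : allRange 6440 6480 ((fun k => posTorOK Cfsg.Lie.chevE8 (k / 240) (k % 240))) = true := by decide +kernel
theorem e8Utor_4_6480 : allRange 6480 6520 ((fun k => posTorOK Cfsg.Lie.chevE8 (k / 240) (k % 240))) = true := by decide +kernel
theorem e8Utor_4_6520 : allRange 6520 6560 ((fun k => posTorOK Cfsg.Lie.chevE8 (k / 240) (k % 240))) = true := by decide +kernel
theorem e8Utor_4_6560 : allRange 6560 6600 ((fun k => posTorOK Cfsg.Lie.chevE8 (k / 240) (k % 240))) = true := by decide +kernel
theorem e8Utor_4_6600 : allRange 6600 6640 ((fun k => posTorOK Cfsg.Lie.chevE8 (k / 240) (k % 240))) = true := by decide +kernel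
theorem e8Utor_4_6640 : allRange 6640 6680 ((fun k => posTorOK Cfsg.Lie.chevE8 (k / 240) (k % 240))) = true := by decide +kernel
theorem e8Utor_4_6680 : allRange 6680 6720 ((fun k => posTorOK Cfsg.Lie.chevE8 (k / 240) (k % 240))) = true := by decide +kernel
theorem e8Utor_4_6720 : allRange 6720 6760 ((fun k => posTorOK Cfsg.Lie.chevE8 (k / 240) (k % 240))) = true := by decide +kernel
theorem e8Utor_4_6760 : allRange 6760 6800 ((fun k => posTorOK Cfsg.Lie.chevE8 (k / 240) (k % 240))) = true := by decide +kernel
theorem e8Utor_4_6800 : allRange 6800 6840 ((fun k => posTorOK Cfsg.Lie.chevE8 (k / 240) (k % 240))) = true := by decide +kernel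
theorem e8Utor_4_6840 : allRange 6840 6880 ((fun k => posTorOK Cfsg.Lie.chevE8 (k / 240) (k % 240))) = true := by decide +kernel
theorem e8Utor_4_6880 : allRange 6880 6920 ((fun k => posTorOK Cfsg.Lie.chevE8 (k / 240) (k % 240))) = true := by decide +kernel
theorem e8Utor_4_6920 : allRange 6920 6960 ((fun k => posTorOK Cfsg.Lie.chevE8 (k / 240) (k % 240))) = true := by decide +kernel
theorem e8Utor_4_6960 : allRange 6960 7000 ((fun k => posTorOK Cfsg.Lie.chevE8 (k / 240) (k % 240))) = true := by decide +kernel
theorem e8Utor_4_7000 : allRange 7000 7040 ((fun k => posTorOK Cfsg.Lie.chevE8 (k / 240) (k % 240))) = true := by decide +kernel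
theorem e8Utor_4_7040 : allRange 7040 7080 ((fun k => posTorOK Cfsg.Lie.chevE8 (k / 240) (k % 240))) = true := by decide +kernel
theorem e8Utor_4_7080 : allRange 7080 7120 ((fun k => posTorOK Cfsg.Lie.chevE8 (k / 240) (k % 240))) = true := by decide +kernel
theorem e8Utor_4_7120 : allRange 7120 7160 ((fun k => posTorOK Cfsg.Lie.chevE8 (k / 240) (k % 240))) = true := by decide +kernel
theorem e8Utor_4_7160 : allRange 7160 7200 ((fun k => posTorOK Cfsg.Lie.chevE8 (k / 240) (k % 240))) = true := by decide +kernel
theorem e8Utor_4_7200 : allRange 7200 7240 ((fun k => posTorOK Cfsg.Lie.chevE8 (k / 240) (k % 240))) = true := by decide +kernel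
theorem e8Utor_4_7240 : allRange 7240 7280 ((fun k => posTorOK Cfsg.Lie.chevE8 (k / 240) (k % 240))) = true := by decide +kernel
theorem e8Utor_4_7280 : allRange 7280 7320 ((fun k => posTorOK Cfsg.Lie.chevE8 (k / 240) (k % 240))) = true := by decide +kernel
theorem e8Utor_4_7320 : allRange 7320 7360 ((fun k => posTorOK Cfsg.Lie.chevE8 (k / 240) (k % 240))) = true := by decide +kernel
theorem e8Utor_4_7360 : allRange 7360 7400 ((fun k => posTorOK Cfsg.Lie.chevE8 (k / 240) (k % 240))) = true := by decide +kernel

/-- Torus elements separating the pairs of positive roots of type E8 (roots 5920 to 7399). -/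
theorem e8Utor_4 : ∀ r, 5920 ≤ r → r < 7400 → ((fun k => posTorOK Cfsg.Lie.chevE8 (k / 240) (k % 240))) r = true := by
  intro r h1 h2
  by_cases c0 : r < 5960
  · exact allRange_spec e8Utor_4_5920 r (by omega) c0
  by_cases c1 : r < 6000
  · exact allRange_spec e8Utor_4_5960 r (by omega) c1
  by_cases c2 : r < 6040
  · exact allRange_spec e8Utor_4_6000 r (by omega) c2
  by_cases c3 : r < 6080
  · exact allRange_spec e8Utor_4_6040 r (by omega) c3
  by_cases c4 : r < 6120
  · exact allRange_spec e8Utor_4_6080 r (by omega) c4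
  by_cases c5 : r < 6160
  · exact allRange_spec e8Utor_4_6120 r (by omega) c5
  by_cases c6 : r < 6200
  · exact allRange_spec e8Utor_4_6160 r (by omega) c6
  by_cases c7 : r < 6240
  · exact allRange_spec e8Utor_4_6200 r (by omega) c7
  by_cases c8 : r < 6280
  · exact allRange_spec e8Utor_4_6240 r (by omega) c8
  by_cases c9 : r < 6320
  · exact allRange_spec e8Utor_4_6280 r (by omega) c9
  by_cases c10 : r < 6360
  · exact allRange_spec e8Utor_4_6320 r (by omega) c10
  by_cases c11 : r < 6400
  · exact allRange_spec e8Utor_4_6360 r (by omega) c11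
  by_cases c12 : r < 6440
  · exact allRange_spec e8Utor_4_6400 r (by omega) c12
  by_cases c13 : r < 6480
  · exact allRange_spec e8Utor_4_6440 r (by omega) c13
  by_cases c14 : r < 6520
  · exact allRange_spec e8Utor_4_6480 r (by omega) c14
  by_cases c15 : r < 6560
  · exact allRange_spec e8Utor_4_6520 r (by omega) c15
  by_cases c16 : r < 6600
  · exact allRange_spec e8Utor_4_6560 r (by omega) c16
  by_cases c17 : r < 6640
  · exact allRange_spec e8Utor_4_6600 r (by omega) c17
  by_cases c18 : r < 6680
  · exact allRange_spec e8Utor_4_6640 r (by omega) c18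
  by_cases c19 : r < 6720
  · exact allRange_spec e8Utor_4_6680 r (by omega) c19
  by_cases c20 : r < 6760
  · exact allRange_spec e8Utor_4_6720 r (by omega) c20
  by_cases c21 : r < 6800
  · exact allRange_spec e8Utor_4_6760 r (by omega) c21
  by_cases c22 : r < 6840
  · exact allRange_spec e8Utor_4_6800 r (by omega) c22
  by_cases c23 : r < 6880
  · exact allRange_spec e8Utor_4_6840 r (by omega) c23
  by_cases c24 : r < 6920
  · exact allRange_spec e8Utor_4_6880 r (by omega) c24
  by_cases c25 : r < 6960
  · exact allRange_spec e8Utor_4_6920 r (by omega) c25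
  by_cases c26 : r < 7000
  · exact allRange_spec e8Utor_4_6960 r (by omega) c26
  by_cases c27 : r < 7040
  · exact allRange_spec e8Utor_4_7000 r (by omega) c27
  by_cases c28 : r < 7080
  · exact allRange_spec e8Utor_4_7040 r (by omega) c28
  by_cases c29 : r < 7120
  · exact allRange_spec e8Utor_4_7080 r (by omega) c29
  by_cases c30 : r < 7160
  · exact allRange_spec e8Utor_4_7120 r (by omega) c30
  by_cases c31 : r < 7200
  · exact allRange_spec e8Utor_4_7160 r (by omega) c31
  by_cases c32 : r < 7240
  · exact allRange_spec e8Utor_4_7200 r (by omega) c32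
  by_cases c33 : r < 7280
  · exact allRange_spec e8Utor_4_7240 r (by omega) c33
  by_cases c34 : r < 7320
  · exact allRange_spec e8Utor_4_7280 r (by omega) c34
  by_cases c35 : r < 7360
  · exact allRange_spec e8Utor_4_7320 r (by omega) c35
  exact allRange_spec e8Utor_4_7360 r (by omega) h2

end Cfsg.Agent.Lib.Helper3.ChevM
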