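import Cfsg.Prelude.Def_ChevE8
import Cfsg.Agent.Lib.Helper3.StU10
set_option autoImplicit false
set_option maxRecDepth 1000000
set_option Elab.async false

namespace Cfsg.Agent.Lib.Helper3.ChevM
open Cfsg.Agent.Lib.Helper3.StB Cfsg.Agent.Lib.Helper3.StU

theorem e8Utor_5_7400 : allRange 7400 7440 ((fun k => posTorOK Cfsg.Lie.chevE8 (k / 240) (k % 240))) = true := by decide +kernel
theorem e8Utor_5_7440 : allRange 7440 7480 ((fun k => posTorOK Cfsg.Lie.chevE8 (k / 240) (k % 240))) = true := by decide +kernel
theorem e8Utor_5_7480 : allRange 7480 7520 ((fun k => posTorOK Cfsg.Lie.chevE8 (k / 240) (k % 240))) = true := by decide +kernel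
theorem e8Utor_5_7520 : allRange 7520 7560 ((fun k => posTorOK Cfsg.Lie.chevE8 (k / 240) (k % 240))) = true := by decide +kernel
theorem e8Utor_5_7560 : allRange 7560 7600 ((fun k => posTorOK Cfsg.Lie.chevE8 (k / 240) (k % 240))) = true := by decide +kernel
theorem e8Utor_5_7600 : allRange 7600 7640 ((fun k => posTorOK Cfsg.Lie.chevE8 (k / 240) (k % 240))) = true := by decide +kernel
theorem e8Utor_5_7640 : allRange 7640 7680 ((fun k => posTorOK Cfsg.Lie.chevE8 (k / 240) (k % 240))) = true := by decide +kernel
theorem e8Utor_5_7680 : allRange 7680 7720 ((fun k => posTorOK Cfsg.Lie.chevE8 (k / 240) (k % 240))) = true := by decide +kernel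
theorem e8Utor_5_7720 : allRange 7720 7760 ((fun k => posTorOK Cfsg.Lie.chevE8 (k / 240) (k % 240))) = true := by decide +kernel
theorem e8Utor_5_7760 : allRange 7760 7800 ((fun k => posTorOK Cfsg.Lie.chevE8 (k / 240) (k % 240))) = true := by decide +kernel
theorem e8Utor_5_7800 : allRange 7800 7840 ((fun k => posTorOK Cfsg.Lie.chevE8 (k / 240) (k % 240))) = true := by decide +kernel
theorem e8Utor_5_7840 : allRange 7840 7880 ((fun k => posTorOK Cfsg.Lie.chevE8 (k / 240) (k % 240))) = true := by decide +kernel
theorem e8Utor_5_7880 : allRange 7880 7920 ((fun k => posTorOK Cfsg.Lie.chevE8 (k / 240) (k % 240))) = true := by decide +kernel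
theorem e8Utor_5_7920 : allRange 7920 7960 ((fun k => posTorOK Cfsg.Lie.chevE8 (k / 240) (k % 240))) = true := by decide +kernel
theorem e8Utor_5_7960 : allRange 7960 8000 ((fun k => posTorOK Cfsg.Lie.chevE8 (k / 240) (k % 240))) = true := by decide +kernel
theorem e8Utor_5_8000 : allRange 8000 8040 ((fun k => posTorOK Cfsg.Lie.chevE8 (k / 240) (k % 240))) = true := by decide +kernel
theorem e8Utor_5_8040 : allRange 8040 8080 ((fun k => posTorOK Cfsg.Lie.chevE8 (k / 240) (k % 240))) = true := by decide +kernel
theorem e8Utor_5_8080 : allRange 8080 8120 ((fun k => posTorOK Cfsg.Lie.chevE8 (k / 240) (k % 240))) = true := by decide +kernel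
theorem e8Utor_5_8120 : allRange 8120 8160 ((fun k => posTorOK Cfsg.Lie.chevE8 (k / 240) (k % 240))) = true := by decide +kernel
theorem e8Utor_5_8160 : allRange 8160 8200 ((fun k => posTorOK Cfsg.Lie.chevE8 (k / 240) (k % 240))) = true := by decide +kernel
theorem e8Utor_5_8200 : allRange 8200 8240 ((fun k => posTorOK Cfsg.Lie.chevE8 (k / 240) (k % 240))) = true := by decide +kernel
theorem e8Utor_5_8240 : allRange 8240 8280 ((fun k => posTorOK Cfsg.Lie.chevE8 (k / 240) (k % 240))) = true := by decide +kernel
theorem e8Utor_5_8280 : allRange 8280 8320 ((fun k => posTorOK Cfsg.Lie.chevE8 (k / 240) (k % 240))) = true := by decide +kernel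
theorem e8Utor_5_8320 : allRange 8320 8360 ((fun k => posTorOK Cfsg.Lie.chevE8 (k / 240) (k % 240))) = true := by decide +kernel
theorem e8Utor_5_8360 : allRange 8360 8400 ((fun k => posTorOK Cfsg.Lie.chevE8 (k / 240) (k % 240))) = true := by decide +kernel
theorem e8Utor_5_8400 : allRange 8400 8440 ((fun k => posTorOK Cfsg.Lie.chevE8 (k / 240) (k % 240))) = true := by decide +kernel
theorem e8Utor_5_8440 : allRange 8440 8480 ((fun k => posTorOK Cfsg.Lie.chevE8 (k / 240) (k % 240))) = true := by decide +kernel
theorem e8Utor_5_8480 : allRange 8480 8520 ((fun k => posTorOK Cfsg.Lie.chevE8 (k / 240) (k % 240))) = true := by decide +kernel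
theorem e8Utor_5_8520 : allRange 8520 8560 ((fun k => posTorOK Cfsg.Lie.chevE8 (k / 240) (k % 240))) = true := by decide +kernel
theorem e8Utor_5_8560 : allRange 8560 8600 ((fun k => posTorOK Cfsg.Lie.chevE8 (k / 240) (k % 240))) = true := by decide +kernel
theorem e8Utor_5_8600 : allRange 8600 8640 ((fun k => posTorOK Cfsg.Lie.chevE8 (k / 240) (k % 240))) = true := by decide +kernel
theorem e8Utor_5_8640 : allRange 8640 8680 ((fun k => posTorOK Cfsg.Lie.chevE8 (k / 240) (k % 240))) = true := by decide +kernel
theorem e8Utor_5_8680 : allRange 8680 8720 ((fun k => posTorOK Cfsg.Lie.chevE8 (k / 240) (k % 240))) = true := by decide +kernel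
theorem e8Utor_5_8720 : allRange 8720 8760 ((fun k => posTorOK Cfsg.Lie.chevE8 (k / 240) (k % 240))) = true := by decide +kernel
theorem e8Utor_5_8760 : allRange 8760 8800 ((fun k => posTorOK Cfsg.Lie.chevE8 (k / 240) (k % 240))) = true := by decide +kernel
theorem e8Utor_5_8800 : allRange 8800 8840 ((fun k => posTorOK Cfsg.Lie.chevE8 (k / 240) (k % 240))) = true := by decide +kernel
theorem e8Utor_5_8840 : allRange 8840 8880 ((fun k => posTorOK Cfsg.Lie.chevE8 (k / 240) (k % 240))) = true := by decide +kernel

/-- Torus elements separating the pairs of positive roots of type E8 (roots 7400 to 8879). -/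
theorem e8Utor_5 : ∀ r, 7400 ≤ r → r < 8880 → ((fun k => posTorOK Cfsg.Lie.chevE8 (k / 240) (k % 240))) r = true := by
  intro r h1 h2
  by_cases c0 : r < 7440
  · exact allRange_spec e8Utor_5_7400 r (by omega) c0
  by_cases c1 : r < 7480
  · exact allRange_spec e8Utor_5_7440 r (by omega) c1
  by_cases c2 : r < 7520
  · exact allRange_spec e8Utor_5_7480 r (by omega) c2
  by_cases c3 : r < 7560
  · exact allRange_spec e8Utor_5_7520 r (by omega) c3
  by_cases c4 : r < 7600
  · exact allRange_spec e8Utor_5_7560 r (by omega) c4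
  by_cases c5 : r < 7640
  · exact allRange_spec e8Utor_5_7600 r (by omega) c5
  by_cases c6 : r < 7680
  · exact allRange_spec e8Utor_5_7640 r (by omega) c6
  by_cases c7 : r < 7720
  · exact allRange_spec e8Utor_5_7680 r (by omega) c7
  by_cases c8 : r < 7760
  · exact allRange_spec e8Utor_5_7720 r (by omega) c8
  by_cases c9 : r < 7800
  · exact allRange_spec e8Utor_5_7760 r (by omega) c9
  by_cases c10 : r < 7840
  · exact allRange_spec e8Utor_5_7800 r (by omega) c10
  by_cases c11 : r < 7880
  · exact allRange_spec e8Utor_5_7840 r (by omega) c11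
  by_cases c12 : r < 7920
  · exact allRange_spec e8Utor_5_7880 r (by omega) c12
  by_cases c13 : r < 7960
  · exact allRange_spec e8Utor_5_7920 r (by omega) c13
  by_cases c14 : r < 8000
  · exact allRange_spec e8Utor_5_7960 r (by omega) c14
  by_cases c15 : r < 8040
  · exact allRange_spec e8Utor_5_8000 r (by omega) c15
  by_cases c16 : r < 8080
  · exact allRange_spec e8Utor_5_8040 r (by omega) c16
  by_cases c17 : r < 8120
  · exact allRange_spec e8Utor_5_8080 r (by omega) c17
  by_cases c18 : r < 8160
  · exact allRange_spec e8Utor_5_8120 r (by omega) c18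
  by_cases c19 : r < 8200
  · exact allRange_spec e8Utor_5_8160 r (by omega) c19
  by_cases c20 : r < 8240
  · exact allRange_spec e8Utor_5_8200 r (by omega) c20
  by_cases c21 : r < 8280
  · exact allRange_spec e8Utor_5_8240 r (by omega) c21
  by_cases c22 : r < 8320
  · exact allRange_spec e8Utor_5_8280 r (by omega) c22
  by_cases c23 : r < 8360
  · exact allRange_spec e8Utor_5_8320 r (by omega) c23
  by_cases c24 : r < 8400
  · exact allRange_spec e8Utor_5_8360 r (by omega) c24
  by_cases c25 : r < 8440
  · exact allRange_spec e8Utor_5_8400 r (by omega) c25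
  by_cases c26 : r < 8480
  · exact allRange_spec e8Utor_5_8440 r (by omega) c26
  by_cases c27 : r < 8520
  · exact allRange_spec e8Utor_5_8480 r (by omega) c27
  by_cases c28 : r < 8560
  · exact allRange_spec e8Utor_5_8520 r (by omega) c28
  by_cases c29 : r < 8600
  · exact allRange_spec e8Utor_5_8560 r (by omega) c29
  by_cases c30 : r < 8640
  · exact allRange_spec e8Utor_5_8600 r (by omega) c30
  by_cases c31 : r < 8680
  · exact allRange_spec e8Utor_5_8640 r (by omega) c31
  by_cases c32 : r < 8720
  · exact allRange_spec e8Utor_5_8680 r (by omega) c32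
  by_cases c33 : r < 8760
  · exact allRange_spec e8Utor_5_8720 r (by omega) c33
  by_cases c34 : r < 8800
  · exact allRange_spec e8Utor_5_8760 r (by omega) c34
  by_cases c35 : r < 8840
  · exact allRange_spec e8Utor_5_8800 r (by omega) c35
  exact allRange_spec e8Utor_5_8840 r (by omega) h2

end Cfsg.Agent.Lib.Helper3.ChevM
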