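import Cfsg.Prelude.Def_ChevE8
import Cfsg.Agent.Lib.Helper3.StU10
set_option autoImplicit false
set_option maxRecDepth 1000000
set_option Elab.async false

namespace Cfsg.Agent.Lib.Helper3.ChevM
open Cfsg.Agent.Lib.Helper3.StB Cfsg.Agent.Lib.Helper3.StU

theorem e8Utor_6_8880 : allRange 8880 8920 ((fun k => posTorOK Cfsg.Lie.chevE8 (k / 240) (k % 240))) = true := by decide +kernel
theorem e8Utor_6_8920 : allRange 8920 8960 ((fun k => posTorOK Cfsg.Lie.chevE8 (k / 240) (k % 240))) = true := by decide +kernel
theorem e8Utor_6_8960 : allRange 8960 9000 ((fun k => posTorOK Cfsg.Lie.chevE8 (k / 240) (k % 240))) = true := by decide +kernel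
theorem e8Utor_6_9000 : allRange 9000 9040 ((fun k => posTorOK Cfsg.Lie.chevE8 (k / 240) (k % 240))) = true := by decide +kernel
theorem e8Utor_6_9040 : allRange 9040 9080 ((fun k => posTorOK Cfsg.Lie.chevE8 (k / 240) (k % 240))) = true := by decide +kernel
theorem e8Utor_6_9080 : allRange 9080 9120 ((fun k => posTorOK Cfsg.Lie.chevE8 (k / 240) (k % 240))) = true := by decide +kernel
theorem e8Utor_6_9120 : allRange 9120 9160 ((fun k => posTorOK Cfsg.Lie.chevE8 (k / 240) (k % 240))) = true := by decide +kernel
theorem e8Utor_6_9160 : allRange 9160 9200 ((fun k => posTorOK Cfsg.Lie.chevE8 (k / 240) (k % 240))) = true := by decide +kernel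
theorem e8Utor_6_9200 : allRange 9200 9240 ((fun k => posTorOK Cfsg.Lie.chevE8 (k / 240) (k % 240))) = true := by decide +kernel
theorem e8Utor_6_9240 : allRange 9240 9280 ((fun k => posTorOK Cfsg.Lie.chevE8 (k / 240) (k % 240))) = true := by decide +kernel
theorem e8Utor_6_9280 : allRange 9280 9320 ((fun k => posTorOK Cfsg.Lie.chevE8 (k / 240) (k % 240))) = true := by decide +kernel
theorem e8Utor_6_9320 : allRange 9320 9360 ((fun k => posTorOK Cfsg.Lie.chevE8 (k / 240) (k % 240))) = true := by decide +kernel
theorem e8Utor_6_9360 : allRange 9360 9400 ((fun k => posTorOK Cfsg.Lie.chevE8 (k / 240) (k % 240))) = true := by decide +kernel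
theorem e8Utor_6_9400 : allRange 9400 9440 ((fun k => posTorOK Cfsg.Lie.chevE8 (k / 240) (k % 240))) = true := by decide +kernel
theorem e8Utor_6_9440 : allRange 9440 9480 ((fun k => posTorOK Cfsg.Lie.chevE8 (k / 240) (k % 240))) = true := by decide +kernel
theorem e8Utor_6_9480 : allRange 9480 9520 ((fun k => posTorOK Cfsg.Lie.chevE8 (k / 240) (k % 240))) = true := by decide +kernel
theorem e8Utor_6_9520 : allRange 9520 9560 ((fun k => posTorOK Cfsg.Lie.chevE8 (k / 240) (k % 240))) = true := by decide +kernel
theorem e8Utor_6_9560 : allRange 9560 9600 ((fun k => posTorOK Cfsg.Lie.chevE8 (k / 240) (k % 240))) = true := by decide +kernel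
theorem e8Utor_6_9600 : allRange 9600 9640 ((fun k => posTorOK Cfsg.Lie.chevE8 (k / 240) (k % 240))) = true := by decide +kernel
theorem e8Utor_6_9640 : allRange 9640 9680 ((fun k => posTorOK Cfsg.Lie.chevE8 (k / 240) (k % 240))) = true := by decide +kernel
theorem e8Utor_6_9680 : allRange 9680 9720 ((fun k => posTorOK Cfsg.Lie.chevE8 (k / 240) (k % 240))) = true := by decide +kernel
theorem e8Utor_6_9720 : allRange 9720 9760 ((fun k => posTorOK Cfsg.Lie.chevE8 (k / 240) (k % 240))) = true := by decide +kernel
theorem e8Utor_6_9760 : allRange 9760 9800 ((fun k => posTorOK Cfsg.Lie.chevE8 (k / 240) (k % 240))) = true := by decide +kernel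
theorem e8Utor_6_9800 : allRange 9800 9840 ((fun k => posTorOK Cfsg.Lie.chevE8 (k / 240) (k % 240))) = true := by decide +kernel
theorem e8Utor_6_9840 : allRange 9840 9880 ((fun k => posTorOK Cfsg.Lie.chevE8 (k / 240) (k % 240))) = true := by decide +kernel
theorem e8Utor_6_9880 : allRange 9880 9920 ((fun k => posTorOK Cfsg.Lie.chevE8 (k / 240) (k % 240))) = true := by decide +kernel
theorem e8Utor_6_9920 : allRange 9920 9960 ((fun k => posTorOK Cfsg.Lie.chevE8 (k / 240) (k % 240))) = true := by decide +kernel
theorem e8Utor_6_9960 : allRange 9960 10000 ((fun k => posTorOK Cfsg.Lie.chevE8 (k / 240) (k % 240))) = true := by decide +kernel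
theorem e8Utor_6_10000 : allRange 10000 10040 ((fun k => posTorOK Cfsg.Lie.chevE8 (k / 240) (k % 240))) = true := by decide +kernel
theorem e8Utor_6_10040 : allRange 10040 10080 ((fun k => posTorOK Cfsg.Lie.chevE8 (k / 240) (k % 240))) = true := by decide +kernel
theorem e8Utor_6_10080 : allRange 10080 10120 ((fun k => posTorOK Cfsg.Lie.chevE8 (k / 240) (k % 240))) = true := by decide +kernel
theorem e8Utor_6_10120 : allRange 10120 10160 ((fun k => posTorOK Cfsg.Lie.chevE8 (k / 240) (k % 240))) = true := by decide +kernel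
theorem e8Utor_6_10160 : allRange 10160 10200 ((fun k => posTorOK Cfsg.Lie.chevE8 (k / 240) (k % 240))) = true := by decide +kernel
theorem e8Utor_6_10200 : allRange 10200 10240 ((fun k => posTorOK Cfsg.Lie.chevE8 (k / 240) (k % 240))) = true := by decide +kernel
theorem e8Utor_6_10240 : allRange 10240 10280 ((fun k => posTorOK Cfsg.Lie.chevE8 (k / 240) (k % 240))) = true := by decide +kernel
theorem e8Utor_6_10280 : allRange 10280 10320 ((fun k => posTorOK Cfsg.Lie.chevE8 (k / 240) (k % 240))) = true := by decide +kernel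
theorem e8Utor_6_10320 : allRange 10320 10360 ((fun k => posTorOK Cfsg.Lie.chevE8 (k / 240) (k % 240))) = true := by decide +kernel

/-- Torus elements separating the pairs of positive roots of type E8 (roots 8880 to 10359). -/
theorem e8Utor_6 : ∀ r, 8880 ≤ r → r < 10360 → ((fun k => posTorOK Cfsg.Lie.chevE8 (k / 240) (k % 240))) r = true := by
  intro r h1 h2
  by_cases c0 : r < 8920
  · exact allRange_spec e8Utor_6_8880 r (by omega) c0
  by_cases c1 : r < 8960
  · exact allRange_spec e8Utor_6_8920 r (by omega) c1
  by_cases c2 : r < 9000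
  · exact allRange_spec e8Utor_6_8960 r (by omega) c2
  by_cases c3 : r < 9040
  · exact allRange_spec e8Utor_6_9000 r (by omega) c3
  by_cases c4 : r < 9080
  · exact allRange_spec e8Utor_6_9040 r (by omega) c4
  by_cases c5 : r < 9120
  · exact allRange_spec e8Utor_6_9080 r (by omega) c5
  by_cases c6 : r < 9160
  · exact allRange_spec e8Utor_6_9120 r (by omega) c6
  by_cases c7 : r < 9200
  · exact allRange_spec e8Utor_6_9160 r (by omega) c7
  by_cases c8 : r < 9240
  · exact allRange_spec e8Utor_6_9200 r (by omega) c8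
  by_cases c9 : r < 9280
  · exact allRange_spec e8Utor_6_9240 r (by omega) c9
  by_cases c10 : r < 9320
  · exact allRange_spec e8Utor_6_9280 r (by omega) c10
  by_cases c11 : r < 9360
  · exact allRange_spec e8Utor_6_9320 r (by omega) c11
  by_cases c12 : r < 9400
  · exact allRange_spec e8Utor_6_9360 r (by omega) c12
  by_cases c13 : r < 9440
  · exact allRange_spec e8Utor_6_9400 r (by omega) c13
  by_cases c14 : r < 9480
  · exact allRange_spec e8Utor_6_9440 r (by omega) c14
  by_cases c15 : r < 9520
  · exact allRange_spec e8Utor_6_9480 r (by omega) c15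
  by_cases c16 : r < 9560
  · exact allRange_spec e8Utor_6_9520 r (by omega) c16
  by_cases c17 : r < 9600
  · exact allRange_spec e8Utor_6_9560 r (by omega) c17
  by_cases c18 : r < 9640
  · exact allRange_spec e8Utor_6_9600 r (by omega) c18
  by_cases c19 : r < 9680
  · exact allRange_spec e8Utor_6_9640 r (by omega) c19
  by_cases c20 : r < 9720
  · exact allRange_spec e8Utor_6_9680 r (by omega) c20
  by_cases c21 : r < 9760
  · exact allRange_spec e8Utor_6_9720 r (by omega) c21
  by_cases c22 : r < 9800
  · exact allRange_spec e8Utor_6_9760 r (by omega) c22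
  by_cases c23 : r < 9840
  · exact allRange_spec e8Utor_6_9800 r (by omega) c23
  by_cases c24 : r < 9880
  · exact allRange_spec e8Utor_6_9840 r (by omega) c24
  by_cases c25 : r < 9920
  · exact allRange_spec e8Utor_6_9880 r (by omega) c25
  by_cases c26 : r < 9960
  · exact allRange_spec e8Utor_6_9920 r (by omega) c26
  by_cases c27 : r < 10000
  · exact allRange_spec e8Utor_6_9960 r (by omega) c27
  by_cases c28 : r < 10040
  · exact allRange_spec e8Utor_6_10000 r (by omega) c28
  by_cases c29 : r < 10080
  · exact allRange_spec e8Utor_6_10040 r (by omega) c29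
  by_cases c30 : r < 10120
  · exact allRange_spec e8Utor_6_10080 r (by omega) c30
  by_cases c31 : r < 10160
  · exact allRange_spec e8Utor_6_10120 r (by omega) c31
  by_cases c32 : r < 10200
  · exact allRange_spec e8Utor_6_10160 r (by omega) c32
  by_cases c33 : r < 10240
  · exact allRange_spec e8Utor_6_10200 r (by omega) c33
  by_cases c34 : r < 10280
  · exact allRange_spec e8Utor_6_10240 r (by omega) c34
  by_cases c35 : r < 10320
  · exact allRange_spec e8Utor_6_10280 r (by omega) c35
  exact allRange_spec e8Utor_6_10320 r (by omega) h2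

end Cfsg.Agent.Lib.Helper3.ChevM
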