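import Cfsg.Prelude.Def_ChevE8
import Cfsg.Agent.Lib.Helper3.StU10
set_option autoImplicit false
set_option maxRecDepth 1000000
set_option Elab.async false

namespace Cfsg.Agent.Lib.Helper3.ChevM
open Cfsg.Agent.Lib.Helper3.StB Cfsg.Agent.Lib.Helper3.StU

theorem e8Utor_7_10360 : allRange 10360 10400 ((fun k => posTorOK Cfsg.Lie.chevE8 (k / 240) (k % 240))) = true := by decide +kernel
theorem e8Utor_7_10400 : allRange 10400 10440 ((fun k => posTorOK Cfsg.Lie.chevE8 (k / 240) (k % 240))) = true := by decide +kernel
theorem e8Utor_7_10440 : allRange 10440 10480 ((fun k => posTorOK Cfsg.Lie.chevE8 (k / 240) (k % 240))) = true := by decide +kernel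
theorem e8Utor_7_10480 : allRange 10480 10520 ((fun k => posTorOK Cfsg.Lie.chevE8 (k / 240) (k % 240))) = true := by decide +kernel
theorem e8Utor_7_10520 : allRange 10520 10560 ((fun k => posTorOK Cfsg.Lie.chevE8 (k / 240) (k % 240))) = true := by decide +kernel
theorem e8Utor_7_10560 : allRange 10560 10600 ((fun k => posTorOK Cfsg.Lie.chevE8 (k / 240) (k % 240))) = true := by decide +kernel
theorem e8Utor_7_10600 : allRange 10600 10640 ((fun k => posTorOK Cfsg.Lie.chevE8 (k / 240) (k % 240))) = true := by decide +kernel
theorem e8Utor_7_10640 : allRange 10640 10680 ((fun k => posTorOK Cfsg.Lie.chevE8 (k / 240) (k % 240))) = true := by decide +kernel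
theorem e8Utor_7_10680 : allRange 10680 10720 ((fun k => posTorOK Cfsg.Lie.chevE8 (k / 240) (k % 240))) = true := by decide +kernel
theorem e8Utor_7_10720 : allRange 10720 10760 ((fun k => posTorOK Cfsg.Lie.chevE8 (k / 240) (k % 240))) = true := by decide +kernel
theorem e8Utor_7_10760 : allRange 10760 10800 ((fun k => posTorOK Cfsg.Lie.chevE8 (k / 240) (k % 240))) = true := by decide +kernel
theorem e8Utor_7_10800 : allRange 10800 10840 ((fun k => posTorOK Cfsg.Lie.chevE8 (k / 240) (k % 240))) = true := by decide +kernel
theorem e8Utor_7_10840 : allRange 10840 10880 ((fun k => posTorOK Cfsg.Lie.chevE8 (k / 240) (k % 240))) = true := by decide +kernel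
theorem e8Utor_7_10880 : allRange 10880 10920 ((fun k => posTorOK Cfsg.Lie.chevE8 (k / 240) (k % 240))) = true := by decide +kernel
theorem e8Utor_7_10920 : allRange 10920 10960 ((fun k => posTorOK Cfsg.Lie.chevE8 (k / 240) (k % 240))) = true := by decide +kernel
theorem e8Utor_7_10960 : allRange 10960 11000 ((fun k => posTorOK Cfsg.Lie.chevE8 (k / 240) (k % 240))) = true := by decide +kernel
theorem e8Utor_7_11000 : allRange 11000 11040 ((fun k => posTorOK Cfsg.Lie.chevE8 (k / 240) (k % 240))) = true := by decide +kernel
theorem e8Utor_7_11040 : allRange 11040 11080 ((fun k => posTorOK Cfsg.Lie.chevE8 (k / 240) (k % 240))) = true := by decide +kernel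
theorem e8Utor_7_11080 : allRange 11080 11120 ((fun k => posTorOK Cfsg.Lie.chevE8 (k / 240) (k % 240))) = true := by decide +kernel
theorem e8Utor_7_11120 : allRange 11120 11160 ((fun k => posTorOK Cfsg.Lie.chevE8 (k / 240) (k % 240))) = true := by decide +kernel
theorem e8Utor_7_11160 : allRange 11160 11200 ((fun k => posTorOK Cfsg.Lie.chevE8 (k / 240) (k % 240))) = true := by decide +kernel
theorem e8Utor_7_11200 : allRange 11200 11240 ((fun k => posTorOK Cfsg.Lie.chevE8 (k / 240) (k % 240))) = true := by decide +kernel
theorem e8Utor_7_11240 : allRange 11240 11280 ((fun k => posTorOK Cfsg.Lie.chevE8 (k / 240) (k % 240))) = true := by decide +kernel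
theorem e8Utor_7_11280 : allRange 11280 11320 ((fun k => posTorOK Cfsg.Lie.chevE8 (k / 240) (k % 240))) = true := by decide +kernel
theorem e8Utor_7_11320 : allRange 11320 11360 ((fun k => posTorOK Cfsg.Lie.chevE8 (k / 240) (k % 240))) = true := by decide +kernel
theorem e8Utor_7_11360 : allRange 11360 11400 ((fun k => posTorOK Cfsg.Lie.chevE8 (k / 240) (k % 240))) = true := by decide +kernel
theorem e8Utor_7_11400 : allRange 11400 11440 ((fun k => posTorOK Cfsg.Lie.chevE8 (k / 240) (k % 240))) = true := by decide +kernel
theorem e8Utor_7_11440 : allRange 11440 11480 ((fun k => posTorOK Cfsg.Lie.chevE8 (k / 240) (k % 240))) = true := by decide +kernel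
theorem e8Utor_7_11480 : allRange 11480 11520 ((fun k => posTorOK Cfsg.Lie.chevE8 (k / 240) (k % 240))) = true := by decide +kernel
theorem e8Utor_7_11520 : allRange 11520 11560 ((fun k => posTorOK Cfsg.Lie.chevE8 (k / 240) (k % 240))) = true := by decide +kernel
theorem e8Utor_7_11560 : allRange 11560 11600 ((fun k => posTorOK Cfsg.Lie.chevE8 (k / 240) (k % 240))) = true := by decide +kernel
theorem e8Utor_7_11600 : allRange 11600 11640 ((fun k => posTorOK Cfsg.Lie.chevE8 (k / 240) (k % 240))) = true := by decide +kernel
theorem e8Utor_7_11640 : allRange 11640 11680 ((fun k => posTorOK Cfsg.Lie.chevE8 (k / 240) (k % 240))) = true := by decide +kernel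
theorem e8Utor_7_11680 : allRange 11680 11720 ((fun k => posTorOK Cfsg.Lie.chevE8 (k / 240) (k % 240))) = true := by decide +kernel
theorem e8Utor_7_11720 : allRange 11720 11760 ((fun k => posTorOK Cfsg.Lie.chevE8 (k / 240) (k % 240))) = true := by decide +kernel
theorem e8Utor_7_11760 : allRange 11760 11800 ((fun k => posTorOK Cfsg.Lie.chevE8 (k / 240) (k % 240))) = true := by decide +kernel
theorem e8Utor_7_11800 : allRange 11800 11840 ((fun k => posTorOK Cfsg.Lie.chevE8 (k / 240) (k % 240))) = true := by decide +kernel

/-- Torus elements separating the pairs of positive roots of type E8 (roots 10360 to 11839). -/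
theorem e8Utor_7 : ∀ r, 10360 ≤ r → r < 11840 → ((fun k => posTorOK Cfsg.Lie.chevE8 (k / 240) (k % 240))) r = true := by
  intro r h1 h2
  by_cases c0 : r < 10400
  · exact allRange_spec e8Utor_7_10360 r (by omega) c0
  by_cases c1 : r < 10440
  · exact allRange_spec e8Utor_7_10400 r (by omega) c1
  by_cases c2 : r < 10480
  · exact allRange_spec e8Utor_7_10440 r (by omega) c2
  by_cases c3 : r < 10520
  · exact allRange_spec e8Utor_7_10480 r (by omega) c3
  by_cases c4 : r < 10560
  · exact allRange_spec e8Utor_7_10520 r (by omega) c4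
  by_cases c5 : r < 10600
  · exact allRange_spec e8Utor_7_10560 r (by omega) c5
  by_cases c6 : r < 10640
  · exact allRange_spec e8Utor_7_10600 r (by omega) c6
  by_cases c7 : r < 10680
  · exact allRange_spec e8Utor_7_10640 r (by omega) c7
  by_cases c8 : r < 10720
  · exact allRange_spec e8Utor_7_10680 r (by omega) c8
  by_cases c9 : r < 10760
  · exact allRange_spec e8Utor_7_10720 r (by omega) c9
  by_cases c10 : r < 10800
  · exact allRange_spec e8Utor_7_10760 r (by omega) c10
  by_cases c11 : r < 10840
  · exact allRange_spec e8Utor_7_10800 r (by omega) c11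
  by_cases c12 : r < 10880
  · exact allRange_spec e8Utor_7_10840 r (by omega) c12
  by_cases c13 : r < 10920
  · exact allRange_spec e8Utor_7_10880 r (by omega) c13
  by_cases c14 : r < 10960
  · exact allRange_spec e8Utor_7_10920 r (by omega) c14
  by_cases c15 : r < 11000
  · exact allRange_spec e8Utor_7_10960 r (by omega) c15
  by_cases c16 : r < 11040
  · exact allRange_spec e8Utor_7_11000 r (by omega) c16
  by_cases c17 : r < 11080
  · exact allRange_spec e8Utor_7_11040 r (by omega) c17
  by_cases c18 : r < 11120
  · exact allRange_spec e8Utor_7_11080 r (by omega) c18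
  by_cases c19 : r < 11160
  · exact allRange_spec e8Utor_7_11120 r (by omega) c19
  by_cases c20 : r < 11200
  · exact allRange_spec e8Utor_7_11160 r (by omega) c20
  by_cases c21 : r < 11240
  · exact allRange_spec e8Utor_7_11200 r (by omega) c21
  by_cases c22 : r < 11280
  · exact allRange_spec e8Utor_7_11240 r (by omega) c22
  by_cases c23 : r < 11320
  · exact allRange_spec e8Utor_7_11280 r (by omega) c23
  by_cases c24 : r < 11360
  · exact allRange_spec e8Utor_7_11320 r (by omega) c24
  by_cases c25 : r < 11400
  · exact allRange_spec e8Utor_7_11360 r (by omega) c25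
  by_cases c26 : r < 11440
  · exact allRange_spec e8Utor_7_11400 r (by omega) c26
  by_cases c27 : r < 11480
  · exact allRange_spec e8Utor_7_11440 r (by omega) c27
  by_cases c28 : r < 11520
  · exact allRange_spec e8Utor_7_11480 r (by omega) c28
  by_cases c29 : r < 11560
  · exact allRange_spec e8Utor_7_11520 r (by omega) c29
  by_cases c30 : r < 11600
  · exact allRange_spec e8Utor_7_11560 r (by omega) c30
  by_cases c31 : r < 11640
  · exact allRange_spec e8Utor_7_11600 r (by omega) c31
  by_cases c32 : r < 11680
  · exact allRange_spec e8Utor_7_11640 r (by omega) c32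
  by_cases c33 : r < 11720
  · exact allRange_spec e8Utor_7_11680 r (by omega) c33
  by_cases c34 : r < 11760
  · exact allRange_spec e8Utor_7_11720 r (by omega) c34
  by_cases c35 : r < 11800
  · exact allRange_spec e8Utor_7_11760 r (by omega) c35
  exact allRange_spec e8Utor_7_11800 r (by omega) h2

end Cfsg.Agent.Lib.Helper3.ChevM
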