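import Cfsg.Prelude.Def_ChevE8
import Cfsg.Agent.Lib.Helper3.StU10
set_option autoImplicit false
set_option maxRecDepth 1000000
set_option Elab.async false

namespace Cfsg.Agent.Lib.Helper3.ChevM
open Cfsg.Agent.Lib.Helper3.StB Cfsg.Agent.Lib.Helper3.StU

theorem e8Utor_8_11840 : allRange 11840 11880 ((fun k => posTorOK Cfsg.Lie.chevE8 (k / 240) (k % 240))) = true := by decide +kernel
theorem e8Utor_8_11880 : allRange 11880 11920 ((fun k => posTorOK Cfsg.Lie.chevE8 (k / 240) (k % 240))) = true := by decide +kernel
theorem e8Utor_8_11920 : allRange 11920 11960 ((fun k => posTorOK Cfsg.Lie.chevE8 (k / 240) (k % 240))) = true := by decide +kernel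
theorem e8Utor_8_11960 : allRange 11960 12000 ((fun k => posTorOK Cfsg.Lie.chevE8 (k / 240) (k % 240))) = true := by decide +kernel
theorem e8Utor_8_12000 : allRange 12000 12040 ((fun k => posTorOK Cfsg.Lie.chevE8 (k / 240) (k % 240))) = true := by decide +kernel
theorem e8Utor_8_12040 : allRange 12040 12080 ((fun k => posTorOK Cfsg.Lie.chevE8 (k / 240) (k % 240))) = true := by decide +kernel
theorem e8Utor_8_12080 : allRange 12080 12120 ((fun k => posTorOK Cfsg.Lie.chevE8 (k / 240) (k % 240))) = true := by decide +kernel
theorem e8Utor_8_12120 : allRange 12120 12160 ((fun k => posTorOK Cfsg.Lie.chevE8 (k / 240) (k % 240))) = true := by decide +kernel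
theorem e8Utor_8_12160 : allRange 12160 12200 ((fun k => posTorOK Cfsg.Lie.chevE8 (k / 240) (k % 240))) = true := by decide +kernel
theorem e8Utor_8_12200 : allRange 12200 12240 ((fun k => posTorOK Cfsg.Lie.chevE8 (k / 240) (k % 240))) = true := by decide +kernel
theorem e8Utor_8_12240 : allRange 12240 12280 ((fun k => posTorOK Cfsg.Lie.chevE8 (k / 240) (k % 240))) = true := by decide +kernel
theorem e8Utor_8_12280 : allRange 12280 12320 ((fun k => posTorOK Cfsg.Lie.chevE8 (k / 240) (k % 240))) = true := by decide +kernel
theorem e8Utor_8_12320 : allRange 12320 12360 ((fun k => posTorOK Cfsg.Lie.chevE8 (k / 240) (k % 240))) = true := by decide +kernel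
theorem e8Utor_8_12360 : allRange 12360 12400 ((fun k => posTorOK Cfsg.Lie.chevE8 (k / 240) (k % 240))) = true := by decide +kernel
theorem e8Utor_8_12400 : allRange 12400 12440 ((fun k => posTorOK Cfsg.Lie.chevE8 (k / 240) (k % 240))) = true := by decide +kernel
theorem e8Utor_8_12440 : allRange 12440 12480 ((fun k => posTorOK Cfsg.Lie.chevE8 (k / 240) (k % 240))) = true := by decide +kernel
theorem e8Utor_8_12480 : allRange 12480 12520 ((fun k => posTorOK Cfsg.Lie.chevE8 (k / 240) (k % 240))) = true := by decide +kernel
theorem e8Utor_8_12520 : allRange 12520 12560 ((fun k => posTorOK Cfsg.Lie.chevE8 (k / 240) (k % 240))) = true := by decide +kernel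
theorem e8Utor_8_12560 : allRange 12560 12600 ((fun k => posTorOK Cfsg.Lie.chevE8 (k / 240) (k % 240))) = true := by decide +kernel
theorem e8Utor_8_12600 : allRange 12600 12640 ((fun k => posTorOK Cfsg.Lie.chevE8 (k / 240) (k % 240))) = true := by decide +kernel
theorem e8Utor_8_12640 : allRange 12640 12680 ((fun k => posTorOK Cfsg.Lie.chevE8 (k / 240) (k % 240))) = true := by decide +kernel
theorem e8Utor_8_12680 : allRange 12680 12720 ((fun k => posTorOK Cfsg.Lie.chevE8 (k / 240) (k % 240))) = true := by decide +kernel
theorem e8Utor_8_12720 : allRange 12720 12760 ((fun k => posTorOK Cfsg.Lie.chevE8 (k / 240) (k % 240))) = true := by decide +kernel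
theorem e8Utor_8_12760 : allRange 12760 12800 ((fun k => posTorOK Cfsg.Lie.chevE8 (k / 240) (k % 240))) = true := by decide +kernel
theorem e8Utor_8_12800 : allRange 12800 12840 ((fun k => posTorOK Cfsg.Lie.chevE8 (k / 240) (k % 240))) = true := by decide +kernel
theorem e8Utor_8_12840 : allRange 12840 12880 ((fun k => posTorOK Cfsg.Lie.chevE8 (k / 240) (k % 240))) = true := by decide +kernel
theorem e8Utor_8_12880 : allRange 12880 12920 ((fun k => posTorOK Cfsg.Lie.chevE8 (k / 240) (k % 240))) = true := by decide +kernel
theorem e8Utor_8_12920 : allRange 12920 12960 ((fun k => posTorOK Cfsg.Lie.chevE8 (k / 240) (k % 240))) = true := by decide +kernel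
theorem e8Utor_8_12960 : allRange 12960 13000 ((fun k => posTorOK Cfsg.Lie.chevE8 (k / 240) (k % 240))) = true := by decide +kernel
theorem e8Utor_8_13000 : allRange 13000 13040 ((fun k => posTorOK Cfsg.Lie.chevE8 (k / 240) (k % 240))) = true := by decide +kernel
theorem e8Utor_8_13040 : allRange 13040 13080 ((fun k => posTorOK Cfsg.Lie.chevE8 (k / 240) (k % 240))) = true := by decide +kernel
theorem e8Utor_8_13080 : allRange 13080 13120 ((fun k => posTorOK Cfsg.Lie.chevE8 (k / 240) (k % 240))) = true := by decide +kernel
theorem e8Utor_8_13120 : allRange 13120 13160 ((fun k => posTorOK Cfsg.Lie.chevE8 (k / 240) (k % 240))) = true := by decide +kernel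
theorem e8Utor_8_13160 : allRange 13160 13200 ((fun k => posTorOK Cfsg.Lie.chevE8 (k / 240) (k % 240))) = true := by decide +kernel
theorem e8Utor_8_13200 : allRange 13200 13240 ((fun k => posTorOK Cfsg.Lie.chevE8 (k / 240) (k % 240))) = true := by decide +kernel
theorem e8Utor_8_13240 : allRange 13240 13280 ((fun k => posTorOK Cfsg.Lie.chevE8 (k / 240) (k % 240))) = true := by decide +kernel
theorem e8Utor_8_13280 : allRange 13280 13320 ((fun k => posTorOK Cfsg.Lie.chevE8 (k / 240) (k % 240))) = true := by decide +kernel

/-- Torus elements separating the pairs of positive roots of type E8 (roots 11840 to 13319). -/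
theorem e8Utor_8 : ∀ r, 11840 ≤ r → r < 13320 → ((fun k => posTorOK Cfsg.Lie.chevE8 (k / 240) (k % 240))) r = true := by
  intro r h1 h2
  by_cases c0 : r < 11880
  · exact allRange_spec e8Utor_8_11840 r (by omega) c0
  by_cases c1 : r < 11920
  · exact allRange_spec e8Utor_8_11880 r (by omega) c1
  by_cases c2 : r < 11960
  · exact allRange_spec e8Utor_8_11920 r (by omega) c2
  by_cases c3 : r < 12000
  · exact allRange_spec e8Utor_8_11960 r (by omega) c3
  by_cases c4 : r < 12040
  · exact allRange_spec e8Utor_8_12000 r (by omega) c4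
  by_cases c5 : r < 12080
  · exact allRange_spec e8Utor_8_12040 r (by omega) c5
  by_cases c6 : r < 12120
  · exact allRange_spec e8Utor_8_12080 r (by omega) c6
  by_cases c7 : r < 12160
  · exact allRange_spec e8Utor_8_12120 r (by omega) c7
  by_cases c8 : r < 12200
  · exact allRange_spec e8Utor_8_12160 r (by omega) c8
  by_cases c9 : r < 12240
  · exact allRange_spec e8Utor_8_12200 r (by omega) c9
  by_cases c10 : r < 12280
  · exact allRange_spec e8Utor_8_12240 r (by omega) c10
  by_cases c11 : r < 12320
  · exact allRange_spec e8Utor_8_12280 r (by omega) c11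
  by_cases c12 : r < 12360
  · exact allRange_spec e8Utor_8_12320 r (by omega) c12
  by_cases c13 : r < 12400
  · exact allRange_spec e8Utor_8_12360 r (by omega) c13
  by_cases c14 : r < 12440
  · exact allRange_spec e8Utor_8_12400 r (by omega) c14
  by_cases c15 : r < 12480
  · exact allRange_spec e8Utor_8_12440 r (by omega) c15
  by_cases c16 : r < 12520
  · exact allRange_spec e8Utor_8_12480 r (by omega) c16
  by_cases c17 : r < 12560
  · exact allRange_spec e8Utor_8_12520 r (by omega) c17
  by_cases c18 : r < 12600
  · exact allRange_spec e8Utor_8_12560 r (by omega) c18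
  by_cases c19 : r < 12640
  · exact allRange_spec e8Utor_8_12600 r (by omega) c19
  by_cases c20 : r < 12680
  · exact allRange_spec e8Utor_8_12640 r (by omega) c20
  by_cases c21 : r < 12720
  · exact allRange_spec e8Utor_8_12680 r (by omega) c21
  by_cases c22 : r < 12760
  · exact allRange_spec e8Utor_8_12720 r (by omega) c22
  by_cases c23 : r < 12800
  · exact allRange_spec e8Utor_8_12760 r (by omega) c23
  by_cases c24 : r < 12840
  · exact allRange_spec e8Utor_8_12800 r (by omega) c24
  by_cases c25 : r < 12880
  · exact allRange_spec e8Utor_8_12840 r (by omega) c25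
  by_cases c26 : r < 12920
  · exact allRange_spec e8Utor_8_12880 r (by omega) c26
  by_cases c27 : r < 12960
  · exact allRange_spec e8Utor_8_12920 r (by omega) c27
  by_cases c28 : r < 13000
  · exact allRange_spec e8Utor_8_12960 r (by omega) c28
  by_cases c29 : r < 13040
  · exact allRange_spec e8Utor_8_13000 r (by omega) c29
  by_cases c30 : r < 13080
  · exact allRange_spec e8Utor_8_13040 r (by omega) c30
  by_cases c31 : r < 13120
  · exact allRange_spec e8Utor_8_13080 r (by omega) c31
  by_cases c32 : r < 13160
  · exact allRange_spec e8Utor_8_13120 r (by omega) c32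
  by_cases c33 : r < 13200
  · exact allRange_spec e8Utor_8_13160 r (by omega) c33
  by_cases c34 : r < 13240
  · exact allRange_spec e8Utor_8_13200 r (by omega) c34
  by_cases c35 : r < 13280
  · exact allRange_spec e8Utor_8_13240 r (by omega) c35
  exact allRange_spec e8Utor_8_13280 r (by omega) h2

end Cfsg.Agent.Lib.Helper3.ChevM
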