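import Cfsg.Prelude.Def_ChevE8
import Cfsg.Agent.Lib.Helper3.StU10
set_option autoImplicit false
set_option maxRecDepth 1000000
set_option Elab.async false

namespace Cfsg.Agent.Lib.Helper3.ChevM
open Cfsg.Agent.Lib.Helper3.StB Cfsg.Agent.Lib.Helper3.StU

theorem e8Utor_9_13320 : allRange 13320 13360 ((fun k => posTorOK Cfsg.Lie.chevE8 (k / 240) (k % 240))) = true := by decide +kernel
theorem e8Utor_9_13360 : allRange 13360 13400 ((fun k => posTorOK Cfsg.Lie.chevE8 (k / 240) (k % 240))) = true := by decide +kernel
theorem e8Utor_9_13400 : allRange 13400 13440 ((fun k => posTorOK Cfsg.Lie.chevE8 (k / 240) (k % 240))) = true := by decide +kernel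
theorem e8Utor_9_13440 : allRange 13440 13480 ((fun k => posTorOK Cfsg.Lie.chevE8 (k / 240) (k % 240))) = true := by decide +kernel
theorem e8Utor_9_13480 : allRange 13480 13520 ((fun k => posTorOK Cfsg.Lie.chevE8 (k / 240) (k % 240))) = true := by decide +kernel
theorem e8Utor_9_13520 : allRange 13520 13560 ((fun k => posTorOK Cfsg.Lie.chevE8 (k / 240) (k % 240))) = true := by decide +kernel
theorem e8Utor_9_13560 : allRange 13560 13600 ((fun k => posTorOK Cfsg.Lie.chevE8 (k / 240) (k % 240))) = true := by decide +kernel
theorem e8Utor_9_13600 : allRange 13600 13640 ((fun k => posTorOK Cfsg.Lie.chevE8 (k / 240) (k % 240))) = true := by decide +kernel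
theorem e8Utor_9_13640 : allRange 13640 13680 ((fun k => posTorOK Cfsg.Lie.chevE8 (k / 240) (k % 240))) = true := by decide +kernel
theorem e8Utor_9_13680 : allRange 13680 13720 ((fun k => posTorOK Cfsg.Lie.chevE8 (k / 240) (k % 240))) = true := by decide +kernel
theorem e8Utor_9_13720 : allRange 13720 13760 ((fun k => posTorOK Cfsg.Lie.chevE8 (k / 240) (k % 240))) = true := by decide +kernel
theorem e8Utor_9_13760 : allRange 13760 13800 ((fun k => posTorOK Cfsg.Lie.chevE8 (k / 240) (k % 240))) = true := by decide +kernel
theorem e8Utor_9_13800 : allRange 13800 13840 ((fun k => posTorOK Cfsg.Lie.chevE8 (k / 240) (k % 240))) = true := by decide +kernel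
theorem e8Utor_9_13840 : allRange 13840 13880 ((fun k => posTorOK Cfsg.Lie.chevE8 (k / 240) (k % 240))) = true := by decide +kernel
theorem e8Utor_9_13880 : allRange 13880 13920 ((fun k => posTorOK Cfsg.Lie.chevE8 (k / 240) (k % 240))) = true := by decide +kernel
theorem e8Utor_9_13920 : allRange 13920 13960 ((fun k => posTorOK Cfsg.Lie.chevE8 (k / 240) (k % 240))) = true := by decide +kernel
theorem e8Utor_9_13960 : allRange 13960 14000 ((fun k => posTorOK Cfsg.Lie.chevE8 (k / 240) (k % 240))) = true := by decide +kernel
theorem e8Utor_9_14000 : allRange 14000 14040 ((fun k => posTorOK Cfsg.Lie.chevE8 (k / 240) (k % 240))) = true := by decide +kernel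
theorem e8Utor_9_14040 : allRange 14040 14080 ((fun k => posTorOK Cfsg.Lie.chevE8 (k / 240) (k % 240))) = true := by decide +kernel
theorem e8Utor_9_14080 : allRange 14080 14120 ((fun k => posTorOK Cfsg.Lie.chevE8 (k / 240) (k % 240))) = true := by decide +kernel
theorem e8Utor_9_14120 : allRange 14120 14160 ((fun k => posTorOK Cfsg.Lie.chevE8 (k / 240) (k % 240))) = true := by decide +kernel
theorem e8Utor_9_14160 : allRange 14160 14200 ((fun k => posTorOK Cfsg.Lie.chevE8 (k / 240) (k % 240))) = true := by decide +kernel
theorem e8Utor_9_14200 : allRange 14200 14240 ((fun k => posTorOK Cfsg.Lie.chevE8 (k / 240) (k % 240))) = true := by decide +kernel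
theorem e8Utor_9_14240 : allRange 14240 14280 ((fun k => posTorOK Cfsg.Lie.chevE8 (k / 240) (k % 240))) = true := by decide +kernel
theorem e8Utor_9_14280 : allRange 14280 14320 ((fun k => posTorOK Cfsg.Lie.chevE8 (k / 240) (k % 240))) = true := by decide +kernel
theorem e8Utor_9_14320 : allRange 14320 14360 ((fun k => posTorOK Cfsg.Lie.chevE8 (k / 240) (k % 240))) = true := by decide +kernel
theorem e8Utor_9_14360 : allRange 14360 14400 ((fun k => posTorOK Cfsg.Lie.chevE8 (k / 240) (k % 240))) = true := by decide +kernel
theorem e8Utor_9_14400 : allRange 14400 14440 ((fun k => posTorOK Cfsg.Lie.chevE8 (k / 240) (k % 240))) = true := by decide +kernel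
theorem e8Utor_9_14440 : allRange 14440 14480 ((fun k => posTorOK Cfsg.Lie.chevE8 (k / 240) (k % 240))) = true := by decide +kernel
theorem e8Utor_9_14480 : allRange 14480 14520 ((fun k => posTorOK Cfsg.Lie.chevE8 (k / 240) (k % 240))) = true := by decide +kernel
theorem e8Utor_9_14520 : allRange 14520 14560 ((fun k => posTorOK Cfsg.Lie.chevE8 (k / 240) (k % 240))) = true := by decide +kernel
theorem e8Utor_9_14560 : allRange 14560 14600 ((fun k => posTorOK Cfsg.Lie.chevE8 (k / 240) (k % 240))) = true := by decide +kernel
theorem e8Utor_9_14600 : allRange 14600 14640 ((fun k => posTorOK Cfsg.Lie.chevE8 (k / 240) (k % 240))) = true := by decide +kernel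
theorem e8Utor_9_14640 : allRange 14640 14680 ((fun k => posTorOK Cfsg.Lie.chevE8 (k / 240) (k % 240))) = true := by decide +kernel
theorem e8Utor_9_14680 : allRange 14680 14720 ((fun k => posTorOK Cfsg.Lie.chevE8 (k / 240) (k % 240))) = true := by decide +kernel
theorem e8Utor_9_14720 : allRange 14720 14760 ((fun k => posTorOK Cfsg.Lie.chevE8 (k / 240) (k % 240))) = true := by decide +kernel
theorem e8Utor_9_14760 : allRange 14760 14800 ((fun k => posTorOK Cfsg.Lie.chevE8 (k / 240) (k % 240))) = true := by decide +kernel

/-- Torus elements separating the pairs of positive roots of type E8 (roots 13320 to 14799). -/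
theorem e8Utor_9 : ∀ r, 13320 ≤ r → r < 14800 → ((fun k => posTorOK Cfsg.Lie.chevE8 (k / 240) (k % 240))) r = true := by
  intro r h1 h2
  by_cases c0 : r < 13360
  · exact allRange_spec e8Utor_9_13320 r (by omega) c0
  by_cases c1 : r < 13400
  · exact allRange_spec e8Utor_9_13360 r (by omega) c1
  by_cases c2 : r < 13440
  · exact allRange_spec e8Utor_9_13400 r (by omega) c2
  by_cases c3 : r < 13480
  · exact allRange_spec e8Utor_9_13440 r (by omega) c3
  by_cases c4 : r < 13520
  · exact allRange_spec e8Utor_9_13480 r (by omega) c4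
  by_cases c5 : r < 13560
  · exact allRange_spec e8Utor_9_13520 r (by omega) c5
  by_cases c6 : r < 13600
  · exact allRange_spec e8Utor_9_13560 r (by omega) c6
  by_cases c7 : r < 13640
  · exact allRange_spec e8Utor_9_13600 r (by omega) c7
  by_cases c8 : r < 13680
  · exact allRange_spec e8Utor_9_13640 r (by omega) c8
  by_cases c9 : r < 13720
  · exact allRange_spec e8Utor_9_13680 r (by omega) c9
  by_cases c10 : r < 13760
  · exact allRange_spec e8Utor_9_13720 r (by omega) c10
  by_cases c11 : r < 13800
  · exact allRange_spec e8Utor_9_13760 r (by omega) c11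
  by_cases c12 : r < 13840
  · exact allRange_spec e8Utor_9_13800 r (by omega) c12
  by_cases c13 : r < 13880
  · exact allRange_spec e8Utor_9_13840 r (by omega) c13
  by_cases c14 : r < 13920
  · exact allRange_spec e8Utor_9_13880 r (by omega) c14
  by_cases c15 : r < 13960
  · exact allRange_spec e8Utor_9_13920 r (by omega) c15
  by_cases c16 : r < 14000
  · exact allRange_spec e8Utor_9_13960 r (by omega) c16
  by_cases c17 : r < 14040
  · exact allRange_spec e8Utor_9_14000 r (by omega) c17
  by_cases c18 : r < 14080
  · exact allRange_spec e8Utor_9_14040 r (by omega) c18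
  by_cases c19 : r < 14120
  · exact allRange_spec e8Utor_9_14080 r (by omega) c19
  by_cases c20 : r < 14160
  · exact allRange_spec e8Utor_9_14120 r (by omega) c20
  by_cases c21 : r < 14200
  · exact allRange_spec e8Utor_9_14160 r (by omega) c21
  by_cases c22 : r < 14240
  · exact allRange_spec e8Utor_9_14200 r (by omega) c22
  by_cases c23 : r < 14280
  · exact allRange_spec e8Utor_9_14240 r (by omega) c23
  by_cases c24 : r < 14320
  · exact allRange_spec e8Utor_9_14280 r (by omega) c24
  by_cases c25 : r < 14360
  · exact allRange_spec e8Utor_9_14320 r (by omega) c25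
  by_cases c26 : r < 14400
  · exact allRange_spec e8Utor_9_14360 r (by omega) c26
  by_cases c27 : r < 14440
  · exact allRange_spec e8Utor_9_14400 r (by omega) c27
  by_cases c28 : r < 14480
  · exact allRange_spec e8Utor_9_14440 r (by omega) c28
  by_cases c29 : r < 14520
  · exact allRange_spec e8Utor_9_14480 r (by omega) c29
  by_cases c30 : r < 14560
  · exact allRange_spec e8Utor_9_14520 r (by omega) c30
  by_cases c31 : r < 14600
  · exact allRange_spec e8Utor_9_14560 r (by omega) c31
  by_cases c32 : r < 14640
  · exact allRange_spec e8Utor_9_14600 r (by omega) c32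
  by_cases c33 : r < 14680
  · exact allRange_spec e8Utor_9_14640 r (by omega) c33
  by_cases c34 : r < 14720
  · exact allRange_spec e8Utor_9_14680 r (by omega) c34
  by_cases c35 : r < 14760
  · exact allRange_spec e8Utor_9_14720 r (by omega) c35
  exact allRange_spec e8Utor_9_14760 r (by omega) h2

end Cfsg.Agent.Lib.Helper3.ChevM
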