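import Cfsg.Prelude.Def_ChevE8
import Cfsg.Agent.Lib.Helper3.StU10
set_option autoImplicit false
set_option maxRecDepth 1000000
set_option Elab.async false

namespace Cfsg.Agent.Lib.Helper3.ChevM
open Cfsg.Agent.Lib.Helper3.StB Cfsg.Agent.Lib.Helper3.StU

theorem e8Utor_11_16280 : allRange 16280 16320 ((fun k => posTorOK Cfsg.Lie.chevE8 (k / 240) (k % 240))) = true := by decide +kernel
theorem e8Utor_11_16320 : allRange 16320 16360 ((fun k => posTorOK Cfsg.Lie.chevE8 (k / 240) (k % 240))) = true := by decide +kernel
theorem e8Utor_11_16360 : allRange 16360 16400 ((fun k => posTorOK Cfsg.Lie.chevE8 (k / 240) (k % 240))) = true := by decide +kernel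
theorem e8Utor_11_16400 : allRange 16400 16440 ((fun k => posTorOK Cfsg.Lie.chevE8 (k / 240) (k % 240))) = true := by decide +kernel
theorem e8Utor_11_16440 : allRange 16440 16480 ((fun k => posTorOK Cfsg.Lie.chevE8 (k / 240) (k % 240))) = true := by decide +kernel
theorem e8Utor_11_16480 : allRange 16480 16520 ((fun k => posTorOK Cfsg.Lie.chevE8 (k / 240) (k % 240))) = true := by decide +kernel
theorem e8Utor_11_16520 : allRange 16520 16560 ((fun k => posTorOK Cfsg.Lie.chevE8 (k / 240) (k % 240))) = true := by decide +kernel
theorem e8Utor_11_16560 : allRange 16560 16600 ((fun k => posTorOK Cfsg.Lie.chevE8 (k / 240) (k % 240))) = true := by decide +kernel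
theorem e8Utor_11_16600 : allRange 16600 16640 ((fun k => posTorOK Cfsg.Lie.chevE8 (k / 240) (k % 240))) = true := by decide +kernel
theorem e8Utor_11_16640 : allRange 16640 16680 ((fun k => posTorOK Cfsg.Lie.chevE8 (k / 240) (k % 240))) = true := by decide +kernel
theorem e8Utor_11_16680 : allRange 16680 16720 ((fun k => posTorOK Cfsg.Lie.chevE8 (k / 240) (k % 240))) = true := by decide +kernel
theorem e8Utor_11_16720 : allRange 16720 16760 ((fun k => posTorOK Cfsg.Lie.chevE8 (k / 240) (k % 240))) = true := by decide +kernel
theorem e8Utor_11_16760 : allRange 16760 16800 ((fun k => posTorOK Cfsg.Lie.chevE8 (k / 240) (k % 240))) = true := by decide +kernel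
theorem e8Utor_11_16800 : allRange 16800 16840 ((fun k => posTorOK Cfsg.Lie.chevE8 (k / 240) (k % 240))) = true := by decide +kernel
theorem e8Utor_11_16840 : allRange 16840 16880 ((fun k => posTorOK Cfsg.Lie.chevE8 (k / 240) (k % 240))) = true := by decide +kernel
theorem e8Utor_11_16880 : allRange 16880 16920 ((fun k => posTorOK Cfsg.Lie.chevE8 (k / 240) (k % 240))) = true := by decide +kernel
theorem e8Utor_11_16920 : allRange 16920 16960 ((fun k => posTorOK Cfsg.Lie.chevE8 (k / 240) (k % 240))) = true := by decide +kernel
theorem e8Utor_11_16960 : allRange 16960 17000 ((fun k => posTorOK Cfsg.Lie.chevE8 (k / 240) (k % 240))) = true := by decide +kernel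
theorem e8Utor_11_17000 : allRange 17000 17040 ((fun k => posTorOK Cfsg.Lie.chevE8 (k / 240) (k % 240))) = true := by decide +kernel
theorem e8Utor_11_17040 : allRange 17040 17080 ((fun k => posTorOK Cfsg.Lie.chevE8 (k / 240) (k % 240))) = true := by decide +kernel
theorem e8Utor_11_17080 : allRange 17080 17120 ((fun k => posTorOK Cfsg.Lie.chevE8 (k / 240) (k % 240))) = true := by decide +kernel
theorem e8Utor_11_17120 : allRange 17120 17160 ((fun k => posTorOK Cfsg.Lie.chevE8 (k / 240) (k % 240))) = true := by decide +kernel
theorem e8Utor_11_17160 : allRange 17160 17200 ((fun k => posTorOK Cfsg.Lie.chevE8 (k / 240) (k % 240))) = true := by decide +kernel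
theorem e8Utor_11_17200 : allRange 17200 17240 ((fun k => posTorOK Cfsg.Lie.chevE8 (k / 240) (k % 240))) = true := by decide +kernel
theorem e8Utor_11_17240 : allRange 17240 17280 ((fun k => posTorOK Cfsg.Lie.chevE8 (k / 240) (k % 240))) = true := by decide +kernel
theorem e8Utor_11_17280 : allRange 17280 17320 ((fun k => posTorOK Cfsg.Lie.chevE8 (k / 240) (k % 240))) = true := by decide +kernel
theorem e8Utor_11_17320 : allRange 17320 17360 ((fun k => posTorOK Cfsg.Lie.chevE8 (k / 240) (k % 240))) = true := by decide +kernel
theorem e8Utor_11_17360 : allRange 17360 17400 ((fun k => posTorOK Cfsg.Lie.chevE8 (k / 240) (k % 240))) = true := by decide +kernel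
theorem e8Utor_11_17400 : allRange 17400 17440 ((fun k => posTorOK Cfsg.Lie.chevE8 (k / 240) (k % 240))) = true := by decide +kernel
theorem e8Utor_11_17440 : allRange 17440 17480 ((fun k => posTorOK Cfsg.Lie.chevE8 (k / 240) (k % 240))) = true := by decide +kernel
theorem e8Utor_11_17480 : allRange 17480 17520 ((fun k => posTorOK Cfsg.Lie.chevE8 (k / 240) (k % 240))) = true := by decide +kernel
theorem e8Utor_11_17520 : allRange 17520 17560 ((fun k => posTorOK Cfsg.Lie.chevE8 (k / 240) (k % 240))) = true := by decide +kernel
theorem e8Utor_11_17560 : allRange 17560 17600 ((fun k => posTorOK Cfsg.Lie.chevE8 (k / 240) (k % 240))) = true := by decide +kernel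
theorem e8Utor_11_17600 : allRange 17600 17640 ((fun k => posTorOK Cfsg.Lie.chevE8 (k / 240) (k % 240))) = true := by decide +kernel
theorem e8Utor_11_17640 : allRange 17640 17680 ((fun k => posTorOK Cfsg.Lie.chevE8 (k / 240) (k % 240))) = true := by decide +kernel
theorem e8Utor_11_17680 : allRange 17680 17720 ((fun k => posTorOK Cfsg.Lie.chevE8 (k / 240) (k % 240))) = true := by decide +kernel
theorem e8Utor_11_17720 : allRange 17720 17760 ((fun k => posTorOK Cfsg.Lie.chevE8 (k / 240) (k % 240))) = true := by decide +kernel

/-- Torus elements separating the pairs of positive roots of type E8 (roots 16280 to 17759). -/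
theorem e8Utor_11 : ∀ r, 16280 ≤ r → r < 17760 → ((fun k => posTorOK Cfsg.Lie.chevE8 (k / 240) (k % 240))) r = true := by
  intro r h1 h2
  by_cases c0 : r < 16320
  · exact allRange_spec e8Utor_11_16280 r (by omega) c0
  by_cases c1 : r < 16360
  · exact allRange_spec e8Utor_11_16320 r (by omega) c1
  by_cases c2 : r < 16400
  · exact allRange_spec e8Utor_11_16360 r (by omega) c2
  by_cases c3 : r < 16440
  · exact allRange_spec e8Utor_11_16400 r (by omega) c3
  by_cases c4 : r < 16480
  · exact allRange_spec e8Utor_11_16440 r (by omega) c4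
  by_cases c5 : r < 16520
  · exact allRange_spec e8Utor_11_16480 r (by omega) c5
  by_cases c6 : r < 16560
  · exact allRange_spec e8Utor_11_16520 r (by omega) c6
  by_cases c7 : r < 16600
  · exact allRange_spec e8Utor_11_16560 r (by omega) c7
  by_cases c8 : r < 16640
  · exact allRange_spec e8Utor_11_16600 r (by omega) c8
  by_cases c9 : r < 16680
  · exact allRange_spec e8Utor_11_16640 r (by omega) c9
  by_cases c10 : r < 16720
  · exact allRange_spec e8Utor_11_16680 r (by omega) c10
  by_cases c11 : r < 16760
  · exact allRange_spec e8Utor_11_16720 r (by omega) c11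
  by_cases c12 : r < 16800
  · exact allRange_spec e8Utor_11_16760 r (by omega) c12
  by_cases c13 : r < 16840
  · exact allRange_spec e8Utor_11_16800 r (by omega) c13
  by_cases c14 : r < 16880
  · exact allRange_spec e8Utor_11_16840 r (by omega) c14
  by_cases c15 : r < 16920
  · exact allRange_spec e8Utor_11_16880 r (by omega) c15
  by_cases c16 : r < 16960
  · exact allRange_spec e8Utor_11_16920 r (by omega) c16
  by_cases c17 : r < 17000
  · exact allRange_spec e8Utor_11_16960 r (by omega) c17
  by_cases c18 : r < 17040
  · exact allRange_spec e8Utor_11_17000 r (by omega) c18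
  by_cases c19 : r < 17080
  · exact allRange_spec e8Utor_11_17040 r (by omega) c19
  by_cases c20 : r < 17120
  · exact allRange_spec e8Utor_11_17080 r (by omega) c20
  by_cases c21 : r < 17160
  · exact allRange_spec e8Utor_11_17120 r (by omega) c21
  by_cases c22 : r < 17200
  · exact allRange_spec e8Utor_11_17160 r (by omega) c22
  by_cases c23 : r < 17240
  · exact allRange_spec e8Utor_11_17200 r (by omega) c23
  by_cases c24 : r < 17280
  · exact allRange_spec e8Utor_11_17240 r (by omega) c24
  by_cases c25 : r < 17320
  · exact allRange_spec e8Utor_11_17280 r (by omega) c25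
  by_cases c26 : r < 17360
  · exact allRange_spec e8Utor_11_17320 r (by omega) c26
  by_cases c27 : r < 17400
  · exact allRange_spec e8Utor_11_17360 r (by omega) c27
  by_cases c28 : r < 17440
  · exact allRange_spec e8Utor_11_17400 r (by omega) c28
  by_cases c29 : r < 17480
  · exact allRange_spec e8Utor_11_17440 r (by omega) c29
  by_cases c30 : r < 17520
  · exact allRange_spec e8Utor_11_17480 r (by omega) c30
  by_cases c31 : r < 17560
  · exact allRange_spec e8Utor_11_17520 r (by omega) c31
  by_cases c32 : r < 17600
  · exact allRange_spec e8Utor_11_17560 r (by omega) c32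
  by_cases c33 : r < 17640
  · exact allRange_spec e8Utor_11_17600 r (by omega) c33
  by_cases c34 : r < 17680
  · exact allRange_spec e8Utor_11_17640 r (by omega) c34
  by_cases c35 : r < 17720
  · exact allRange_spec e8Utor_11_17680 r (by omega) c35
  exact allRange_spec e8Utor_11_17720 r (by omega) h2

end Cfsg.Agent.Lib.Helper3.ChevM
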