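import Cfsg.Prelude.Def_ChevE8
import Cfsg.Agent.Lib.Helper3.StU10
set_option autoImplicit false
set_option maxRecDepth 1000000
set_option Elab.async false

namespace Cfsg.Agent.Lib.Helper3.ChevM
open Cfsg.Agent.Lib.Helper3.StB Cfsg.Agent.Lib.Helper3.StU

theorem e8Utor_12_17760 : allRange 17760 17800 ((fun k => posTorOK Cfsg.Lie.chevE8 (k / 240) (k % 240))) = true := by decide +kernel
theorem e8Utor_12_17800 : allRange 17800 17840 ((fun k => posTorOK Cfsg.Lie.chevE8 (k / 240) (k % 240))) = true := by decide +kernel
theorem e8Utor_12_17840 : allRange 17840 17880 ((fun k => posTorOK Cfsg.Lie.chevE8 (k / 240) (k % 240))) = true := by decide +kernel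
theorem e8Utor_12_17880 : allRange 17880 17920 ((fun k => posTorOK Cfsg.Lie.chevE8 (k / 240) (k % 240))) = true := by decide +kernel
theorem e8Utor_12_17920 : allRange 17920 17960 ((fun k => posTorOK Cfsg.Lie.chevE8 (k / 240) (k % 240))) = true := by decide +kernel
theorem e8Utor_12_17960 : allRange 17960 18000 ((fun k => posTorOK Cfsg.Lie.chevE8 (k / 240) (k % 240))) = true := by decide +kernel
theorem e8Utor_12_18000 : allRange 18000 18040 ((fun k => posTorOK Cfsg.Lie.chevE8 (k / 240) (k % 240))) = true := by decide +kernel
theorem e8Utor_12_18040 : allRange 18040 18080 ((fun k => posTorOK Cfsg.Lie.chevE8 (k / 240) (k % 240))) = true := by decide +kernel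
theorem e8Utor_12_18080 : allRange 18080 18120 ((fun k => posTorOK Cfsg.Lie.chevE8 (k / 240) (k % 240))) = true := by decide +kernel
theorem e8Utor_12_18120 : allRange 18120 18160 ((fun k => posTorOK Cfsg.Lie.chevE8 (k / 240) (k % 240))) = true := by decide +kernel
theorem e8Utor_12_18160 : allRange 18160 18200 ((fun k => posTorOK Cfsg.Lie.chevE8 (k / 240) (k % 240))) = true := by decide +kernel
theorem e8Utor_12_18200 : allRange 18200 18240 ((fun k => posTorOK Cfsg.Lie.chevE8 (k / 240) (k % 240))) = true := by decide +kernel
theorem e8Utor_12_18240 : allRange 18240 18280 ((fun k => posTorOK Cfsg.Lie.chevE8 (k / 240) (k % 240))) = true := by decide +kernel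
theorem e8Utor_12_18280 : allRange 18280 18320 ((fun k => posTorOK Cfsg.Lie.chevE8 (k / 240) (k % 240))) = true := by decide +kernel
theorem e8Utor_12_18320 : allRange 18320 18360 ((fun k => posTorOK Cfsg.Lie.chevE8 (k / 240) (k % 240))) = true := by decide +kernel
theorem e8Utor_12_18360 : allRange 18360 18400 ((fun k => posTorOK Cfsg.Lie.chevE8 (k / 240) (k % 240))) = true := by decide +kernel
theorem e8Utor_12_18400 : allRange 18400 18440 ((fun k => posTorOK Cfsg.Lie.chevE8 (k / 240) (k % 240))) = true := by decide +kernel
theorem e8Utor_12_18440 : allRange 18440 18480 ((fun k => posTorOK Cfsg.Lie.chevE8 (k / 240) (k % 240))) = true := by decide +kernel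
theorem e8Utor_12_18480 : allRange 18480 18520 ((fun k => posTorOK Cfsg.Lie.chevE8 (k / 240) (k % 240))) = true := by decide +kernel
theorem e8Utor_12_18520 : allRange 18520 18560 ((fun k => posTorOK Cfsg.Lie.chevE8 (k / 240) (k % 240))) = true := by decide +kernel
theorem e8Utor_12_18560 : allRange 18560 18600 ((fun k => posTorOK Cfsg.Lie.chevE8 (k / 240) (k % 240))) = true := by decide +kernel
theorem e8Utor_12_18600 : allRange 18600 18640 ((fun k => posTorOK Cfsg.Lie.chevE8 (k / 240) (k % 240))) = true := by decide +kernel
theorem e8Utor_12_18640 : allRange 18640 18680 ((fun k => posTorOK Cfsg.Lie.chevE8 (k / 240) (k % 240))) = true := by decide +kernel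
theorem e8Utor_12_18680 : allRange 18680 18720 ((fun k => posTorOK Cfsg.Lie.chevE8 (k / 240) (k % 240))) = true := by decide +kernel
theorem e8Utor_12_18720 : allRange 18720 18760 ((fun k => posTorOK Cfsg.Lie.chevE8 (k / 240) (k % 240))) = true := by decide +kernel
theorem e8Utor_12_18760 : allRange 18760 18800 ((fun k => posTorOK Cfsg.Lie.chevE8 (k / 240) (k % 240))) = true := by decide +kernel
theorem e8Utor_12_18800 : allRange 18800 18840 ((fun k => posTorOK Cfsg.Lie.chevE8 (k / 240) (k % 240))) = true := by decide +kernel
theorem e8Utor_12_18840 : allRange 18840 18880 ((fun k => posTorOK Cfsg.Lie.chevE8 (k / 240) (k % 240))) = true := by decide +kernel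
theorem e8Utor_12_18880 : allRange 18880 18920 ((fun k => posTorOK Cfsg.Lie.chevE8 (k / 240) (k % 240))) = true := by decide +kernel
theorem e8Utor_12_18920 : allRange 18920 18960 ((fun k => posTorOK Cfsg.Lie.chevE8 (k / 240) (k % 240))) = true := by decide +kernel
theorem e8Utor_12_18960 : allRange 18960 19000 ((fun k => posTorOK Cfsg.Lie.chevE8 (k / 240) (k % 240))) = true := by decide +kernel
theorem e8Utor_12_19000 : allRange 19000 19040 ((fun k => posTorOK Cfsg.Lie.chevE8 (k / 240) (k % 240))) = true := by decide +kernel
theorem e8Utor_12_19040 : allRange 19040 19080 ((fun k => posTorOK Cfsg.Lie.chevE8 (k / 240) (k % 240))) = true := by decide +kernel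
theorem e8Utor_12_19080 : allRange 19080 19120 ((fun k => posTorOK Cfsg.Lie.chevE8 (k / 240) (k % 240))) = true := by decide +kernel
theorem e8Utor_12_19120 : allRange 19120 19160 ((fun k => posTorOK Cfsg.Lie.chevE8 (k / 240) (k % 240))) = true := by decide +kernel
theorem e8Utor_12_19160 : allRange 19160 19200 ((fun k => posTorOK Cfsg.Lie.chevE8 (k / 240) (k % 240))) = true := by decide +kernel
theorem e8Utor_12_19200 : allRange 19200 19240 ((fun k => posTorOK Cfsg.Lie.chevE8 (k / 240) (k % 240))) = true := by decide +kernel

/-- Torus elements separating the pairs of positive roots of type E8 (roots 17760 to 19239). -/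
theorem e8Utor_12 : ∀ r, 17760 ≤ r → r < 19240 → ((fun k => posTorOK Cfsg.Lie.chevE8 (k / 240) (k % 240))) r = true := by
  intro r h1 h2
  by_cases c0 : r < 17800
  · exact allRange_spec e8Utor_12_17760 r (by omega) c0
  by_cases c1 : r < 17840
  · exact allRange_spec e8Utor_12_17800 r (by omega) c1
  by_cases c2 : r < 17880
  · exact allRange_spec e8Utor_12_17840 r (by omega) c2
  by_cases c3 : r < 17920
  · exact allRange_spec e8Utor_12_17880 r (by omega) c3
  by_cases c4 : r < 17960
  · exact allRange_spec e8Utor_12_17920 r (by omega) c4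
  by_cases c5 : r < 18000
  · exact allRange_spec e8Utor_12_17960 r (by omega) c5
  by_cases c6 : r < 18040
  · exact allRange_spec e8Utor_12_18000 r (by omega) c6
  by_cases c7 : r < 18080
  · exact allRange_spec e8Utor_12_18040 r (by omega) c7
  by_cases c8 : r < 18120
  · exact allRange_spec e8Utor_12_18080 r (by omega) c8
  by_cases c9 : r < 18160
  · exact allRange_spec e8Utor_12_18120 r (by omega) c9
  by_cases c10 : r < 18200
  · exact allRange_spec e8Utor_12_18160 r (by omega) c10
  by_cases c11 : r < 18240
  · exact allRange_spec e8Utor_12_18200 r (by omega) c11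
  by_cases c12 : r < 18280
  · exact allRange_spec e8Utor_12_18240 r (by omega) c12
  by_cases c13 : r < 18320
  · exact allRange_spec e8Utor_12_18280 r (by omega) c13
  by_cases c14 : r < 18360
  · exact allRange_spec e8Utor_12_18320 r (by omega) c14
  by_cases c15 : r < 18400
  · exact allRange_spec e8Utor_12_18360 r (by omega) c15
  by_cases c16 : r < 18440
  · exact allRange_spec e8Utor_12_18400 r (by omega) c16
  by_cases c17 : r < 18480
  · exact allRange_spec e8Utor_12_18440 r (by omega) c17
  by_cases c18 : r < 18520
  · exact allRange_spec e8Utor_12_18480 r (by omega) c18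
  by_cases c19 : r < 18560
  · exact allRange_spec e8Utor_12_18520 r (by omega) c19
  by_cases c20 : r < 18600
  · exact allRange_spec e8Utor_12_18560 r (by omega) c20
  by_cases c21 : r < 18640
  · exact allRange_spec e8Utor_12_18600 r (by omega) c21
  by_cases c22 : r < 18680
  · exact allRange_spec e8Utor_12_18640 r (by omega) c22
  by_cases c23 : r < 18720
  · exact allRange_spec e8Utor_12_18680 r (by omega) c23
  by_cases c24 : r < 18760
  · exact allRange_spec e8Utor_12_18720 r (by omega) c24
  by_cases c25 : r < 18800
  · exact allRange_spec e8Utor_12_18760 r (by omega) c25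
  by_cases c26 : r < 18840
  · exact allRange_spec e8Utor_12_18800 r (by omega) c26
  by_cases c27 : r < 18880
  · exact allRange_spec e8Utor_12_18840 r (by omega) c27
  by_cases c28 : r < 18920
  · exact allRange_spec e8Utor_12_18880 r (by omega) c28
  by_cases c29 : r < 18960
  · exact allRange_spec e8Utor_12_18920 r (by omega) c29
  by_cases c30 : r < 19000
  · exact allRange_spec e8Utor_12_18960 r (by omega) c30
  by_cases c31 : r < 19040
  · exact allRange_spec e8Utor_12_19000 r (by omega) c31
  by_cases c32 : r < 19080
  · exact allRange_spec e8Utor_12_19040 r (by omega) c32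
  by_cases c33 : r < 19120
  · exact allRange_spec e8Utor_12_19080 r (by omega) c33
  by_cases c34 : r < 19160
  · exact allRange_spec e8Utor_12_19120 r (by omega) c34
  by_cases c35 : r < 19200
  · exact allRange_spec e8Utor_12_19160 r (by omega) c35
  exact allRange_spec e8Utor_12_19200 r (by omega) h2

end Cfsg.Agent.Lib.Helper3.ChevM
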