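import Cfsg.Prelude.Def_ChevE8
import Cfsg.Agent.Lib.Helper3.StU10
set_option autoImplicit false
set_option maxRecDepth 1000000
set_option Elab.async false

namespace Cfsg.Agent.Lib.Helper3.ChevM
open Cfsg.Agent.Lib.Helper3.StB Cfsg.Agent.Lib.Helper3.StU

theorem e8Utor_13_19240 : allRange 19240 19280 ((fun k => posTorOK Cfsg.Lie.chevE8 (k / 240) (k % 240))) = true := by decide +kernel
theorem e8Utor_13_19280 : allRange 19280 19320 ((fun k => posTorOK Cfsg.Lie.chevE8 (k / 240) (k % 240))) = true := by decide +kernel
theorem e8Utor_13_19320 : allRange 19320 19360 ((fun k => posTorOK Cfsg.Lie.chevE8 (k / 240) (k % 240))) = true := by decide +kernel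
theorem e8Utor_13_19360 : allRange 19360 19400 ((fun k => posTorOK Cfsg.Lie.chevE8 (k / 240) (k % 240))) = true := by decide +kernel
theorem e8Utor_13_19400 : allRange 19400 19440 ((fun k => posTorOK Cfsg.Lie.chevE8 (k / 240) (k % 240))) = true := by decide +kernel
theorem e8Utor_13_19440 : allRange 19440 19480 ((fun k => posTorOK Cfsg.Lie.chevE8 (k / 240) (k % 240))) = true := by decide +kernel
theorem e8Utor_13_19480 : allRange 19480 19520 ((fun k => posTorOK Cfsg.Lie.chevE8 (k / 240) (k % 240))) = true := by decide +kernel
theorem e8Utor_13_19520 : allRange 19520 19560 ((fun k => posTorOK Cfsg.Lie.chevE8 (k / 240) (k % 240))) = true := by decide +kernel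
theorem e8Utor_13_19560 : allRange 19560 19600 ((fun k => posTorOK Cfsg.Lie.chevE8 (k / 240) (k % 240))) = true := by decide +kernel
theorem e8Utor_13_19600 : allRange 19600 19640 ((fun k => posTorOK Cfsg.Lie.chevE8 (k / 240) (k % 240))) = true := by decide +kernel
theorem e8Utor_13_19640 : allRange 19640 19680 ((fun k => posTorOK Cfsg.Lie.chevE8 (k / 240) (k % 240))) = true := by decide +kernel
theorem e8Utor_13_19680 : allRange 19680 19720 ((fun k => posTorOK Cfsg.Lie.chevE8 (k / 240) (k % 240))) = true := by decide +kernel
theorem e8Utor_13_19720 : allRange 19720 19760 ((fun k => posTorOK Cfsg.Lie.chevE8 (k / 240) (k % 240))) = true := by decide +kernel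
theorem e8Utor_13_19760 : allRange 19760 19800 ((fun k => posTorOK Cfsg.Lie.chevE8 (k / 240) (k % 240))) = true := by decide +kernel
theorem e8Utor_13_19800 : allRange 19800 19840 ((fun k => posTorOK Cfsg.Lie.chevE8 (k / 240) (k % 240))) = true := by decide +kernel
theorem e8Utor_13_19840 : allRange 19840 19880 ((fun k => posTorOK Cfsg.Lie.chevE8 (k / 240) (k % 240))) = true := by decide +kernel
theorem e8Utor_13_19880 : allRange 19880 19920 ((fun k => posTorOK Cfsg.Lie.chevE8 (k / 240) (k % 240))) = true := by decide +kernel
theorem e8Utor_13_19920 : allRange 19920 19960 ((fun k => posTorOK Cfsg.Lie.chevE8 (k / 240) (k % 240))) = true := by decide +kernel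
theorem e8Utor_13_19960 : allRange 19960 20000 ((fun k => posTorOK Cfsg.Lie.chevE8 (k / 240) (k % 240))) = true := by decide +kernel
theorem e8Utor_13_20000 : allRange 20000 20040 ((fun k => posTorOK Cfsg.Lie.chevE8 (k / 240) (k % 240))) = true := by decide +kernel
theorem e8Utor_13_20040 : allRange 20040 20080 ((fun k => posTorOK Cfsg.Lie.chevE8 (k / 240) (k % 240))) = true := by decide +kernel
theorem e8Utor_13_20080 : allRange 20080 20120 ((fun k => posTorOK Cfsg.Lie.chevE8 (k / 240) (k % 240))) = true := by decide +kernel
theorem e8Utor_13_20120 : allRange 20120 20160 ((fun k => posTorOK Cfsg.Lie.chevE8 (k / 240) (k % 240))) = true := by decide +kernel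
theorem e8Utor_13_20160 : allRange 20160 20200 ((fun k => posTorOK Cfsg.Lie.chevE8 (k / 240) (k % 240))) = true := by decide +kernel
theorem e8Utor_13_20200 : allRange 20200 20240 ((fun k => posTorOK Cfsg.Lie.chevE8 (k / 240) (k % 240))) = true := by decide +kernel
theorem e8Utor_13_20240 : allRange 20240 20280 ((fun k => posTorOK Cfsg.Lie.chevE8 (k / 240) (k % 240))) = true := by decide +kernel
theorem e8Utor_13_20280 : allRange 20280 20320 ((fun k => posTorOK Cfsg.Lie.chevE8 (k / 240) (k % 240))) = true := by decide +kernel
theorem e8Utor_13_20320 : allRange 20320 20360 ((fun k => posTorOK Cfsg.Lie.chevE8 (k / 240) (k % 240))) = true := by decide +kernel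
theorem e8Utor_13_20360 : allRange 20360 20400 ((fun k => posTorOK Cfsg.Lie.chevE8 (k / 240) (k % 240))) = true := by decide +kernel
theorem e8Utor_13_20400 : allRange 20400 20440 ((fun k => posTorOK Cfsg.Lie.chevE8 (k / 240) (k % 240))) = true := by decide +kernel
theorem e8Utor_13_20440 : allRange 20440 20480 ((fun k => posTorOK Cfsg.Lie.chevE8 (k / 240) (k % 240))) = true := by decide +kernel
theorem e8Utor_13_20480 : allRange 20480 20520 ((fun k => posTorOK Cfsg.Lie.chevE8 (k / 240) (k % 240))) = true := by decide +kernel
theorem e8Utor_13_20520 : allRange 20520 20560 ((fun k => posTorOK Cfsg.Lie.chevE8 (k / 240) (k % 240))) = true := by decide +kernel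
theorem e8Utor_13_20560 : allRange 20560 20600 ((fun k => posTorOK Cfsg.Lie.chevE8 (k / 240) (k % 240))) = true := by decide +kernel
theorem e8Utor_13_20600 : allRange 20600 20640 ((fun k => posTorOK Cfsg.Lie.chevE8 (k / 240) (k % 240))) = true := by decide +kernel
theorem e8Utor_13_20640 : allRange 20640 20680 ((fun k => posTorOK Cfsg.Lie.chevE8 (k / 240) (k % 240))) = true := by decide +kernel
theorem e8Utor_13_20680 : allRange 20680 20720 ((fun k => posTorOK Cfsg.Lie.chevE8 (k / 240) (k % 240))) = true := by decide +kernel

/-- Torus elements separating the pairs of positive roots of type E8 (roots 19240 to 20719). -/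
theorem e8Utor_13 : ∀ r, 19240 ≤ r → r < 20720 → ((fun k => posTorOK Cfsg.Lie.chevE8 (k / 240) (k % 240))) r = true := by
  intro r h1 h2
  by_cases c0 : r < 19280
  · exact allRange_spec e8Utor_13_19240 r (by omega) c0
  by_cases c1 : r < 19320
  · exact allRange_spec e8Utor_13_19280 r (by omega) c1
  by_cases c2 : r < 19360
  · exact allRange_spec e8Utor_13_19320 r (by omega) c2
  by_cases c3 : r < 19400
  · exact allRange_spec e8Utor_13_19360 r (by omega) c3
  by_cases c4 : r < 19440
  · exact allRange_spec e8Utor_13_19400 r (by omega) c4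
  by_cases c5 : r < 19480
  · exact allRange_spec e8Utor_13_19440 r (by omega) c5
  by_cases c6 : r < 19520
  · exact allRange_spec e8Utor_13_19480 r (by omega) c6
  by_cases c7 : r < 19560
  · exact allRange_spec e8Utor_13_19520 r (by omega) c7
  by_cases c8 : r < 19600
  · exact allRange_spec e8Utor_13_19560 r (by omega) c8
  by_cases c9 : r < 19640
  · exact allRange_spec e8Utor_13_19600 r (by omega) c9
  by_cases c10 : r < 19680
  · exact allRange_spec e8Utor_13_19640 r (by omega) c10
  by_cases c11 : r < 19720
  · exact allRange_spec e8Utor_13_19680 r (by omega) c11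
  by_cases c12 : r < 19760
  · exact allRange_spec e8Utor_13_19720 r (by omega) c12
  by_cases c13 : r < 19800
  · exact allRange_spec e8Utor_13_19760 r (by omega) c13
  by_cases c14 : r < 19840
  · exact allRange_spec e8Utor_13_19800 r (by omega) c14
  by_cases c15 : r < 19880
  · exact allRange_spec e8Utor_13_19840 r (by omega) c15
  by_cases c16 : r < 19920
  · exact allRange_spec e8Utor_13_19880 r (by omega) c16
  by_cases c17 : r < 19960
  · exact allRange_spec e8Utor_13_19920 r (by omega) c17
  by_cases c18 : r < 20000
  · exact allRange_spec e8Utor_13_19960 r (by omega) c18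
  by_cases c19 : r < 20040
  · exact allRange_spec e8Utor_13_20000 r (by omega) c19
  by_cases c20 : r < 20080
  · exact allRange_spec e8Utor_13_20040 r (by omega) c20
  by_cases c21 : r < 20120
  · exact allRange_spec e8Utor_13_20080 r (by omega) c21
  by_cases c22 : r < 20160
  · exact allRange_spec e8Utor_13_20120 r (by omega) c22
  by_cases c23 : r < 20200
  · exact allRange_spec e8Utor_13_20160 r (by omega) c23
  by_cases c24 : r < 20240
  · exact allRange_spec e8Utor_13_20200 r (by omega) c24
  by_cases c25 : r < 20280
  · exact allRange_spec e8Utor_13_20240 r (by omega) c25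
  by_cases c26 : r < 20320
  · exact allRange_spec e8Utor_13_20280 r (by omega) c26
  by_cases c27 : r < 20360
  · exact allRange_spec e8Utor_13_20320 r (by omega) c27
  by_cases c28 : r < 20400
  · exact allRange_spec e8Utor_13_20360 r (by omega) c28
  by_cases c29 : r < 20440
  · exact allRange_spec e8Utor_13_20400 r (by omega) c29
  by_cases c30 : r < 20480
  · exact allRange_spec e8Utor_13_20440 r (by omega) c30
  by_cases c31 : r < 20520
  · exact allRange_spec e8Utor_13_20480 r (by omega) c31
  by_cases c32 : r < 20560
  · exact allRange_spec e8Utor_13_20520 r (by omega) c32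
  by_cases c33 : r < 20600
  · exact allRange_spec e8Utor_13_20560 r (by omega) c33
  by_cases c34 : r < 20640
  · exact allRange_spec e8Utor_13_20600 r (by omega) c34
  by_cases c35 : r < 20680
  · exact allRange_spec e8Utor_13_20640 r (by omega) c35
  exact allRange_spec e8Utor_13_20680 r (by omega) h2

end Cfsg.Agent.Lib.Helper3.ChevM
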