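import Cfsg.Prelude.Def_ChevE8
import Cfsg.Agent.Lib.Helper3.StU10
set_option autoImplicit false
set_option maxRecDepth 1000000
set_option Elab.async false

namespace Cfsg.Agent.Lib.Helper3.ChevM
open Cfsg.Agent.Lib.Helper3.StB Cfsg.Agent.Lib.Helper3.StU

theorem e8Utor_14_20720 : allRange 20720 20760 ((fun k => posTorOK Cfsg.Lie.chevE8 (k / 240) (k % 240))) = true := by decide +kernel
theorem e8Utor_14_20760 : allRange 20760 20800 ((fun k => posTorOK Cfsg.Lie.chevE8 (k / 240) (k % 240))) = true := by decide +kernel
theorem e8Utor_14_20800 : allRange 20800 20840 ((fun k => posTorOK Cfsg.Lie.chevE8 (k / 240) (k % 240))) = true := by decide +kernel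
theorem e8Utor_14_20840 : allRange 20840 20880 ((fun k => posTorOK Cfsg.Lie.chevE8 (k / 240) (k % 240))) = true := by decide +kernel
theorem e8Utor_14_20880 : allRange 20880 20920 ((fun k => posTorOK Cfsg.Lie.chevE8 (k / 240) (k % 240))) = true := by decide +kernel
theorem e8Utor_14_20920 : allRange 20920 20960 ((fun k => posTorOK Cfsg.Lie.chevE8 (k / 240) (k % 240))) = true := by decide +kernel
theorem e8Utor_14_20960 : allRange 20960 21000 ((fun k => posTorOK Cfsg.Lie.chevE8 (k / 240) (k % 240))) = true := by decide +kernel
theorem e8Utor_14_21000 : allRange 21000 21040 ((fun k => posTorOK Cfsg.Lie.chevE8 (k / 240) (k % 240))) = true := by decide +kernel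
theorem e8Utor_14_21040 : allRange 21040 21080 ((fun k => posTorOK Cfsg.Lie.chevE8 (k / 240) (k % 240))) = true := by decide +kernel
theorem e8Utor_14_21080 : allRange 21080 21120 ((fun k => posTorOK Cfsg.Lie.chevE8 (k / 240) (k % 240))) = true := by decide +kernel
theorem e8Utor_14_21120 : allRange 21120 21160 ((fun k => posTorOK Cfsg.Lie.chevE8 (k / 240) (k % 240))) = true := by decide +kernel
theorem e8Utor_14_21160 : allRange 21160 21200 ((fun k => posTorOK Cfsg.Lie.chevE8 (k / 240) (k % 240))) = true := by decide +kernel
theorem e8Utor_14_21200 : allRange 21200 21240 ((fun k => posTorOK Cfsg.Lie.chevE8 (k / 240) (k % 240))) = true := by decide +kernel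
theorem e8Utor_14_21240 : allRange 21240 21280 ((fun k => posTorOK Cfsg.Lie.chevE8 (k / 240) (k % 240))) = true := by decide +kernel
theorem e8Utor_14_21280 : allRange 21280 21320 ((fun k => posTorOK Cfsg.Lie.chevE8 (k / 240) (k % 240))) = true := by decide +kernel
theorem e8Utor_14_21320 : allRange 21320 21360 ((fun k => posTorOK Cfsg.Lie.chevE8 (k / 240) (k % 240))) = true := by decide +kernel
theorem e8Utor_14_21360 : allRange 21360 21400 ((fun k => posTorOK Cfsg.Lie.chevE8 (k / 240) (k % 240))) = true := by decide +kernel
theorem e8Utor_14_21400 : allRange 21400 21440 ((fun k => posTorOK Cfsg.Lie.chevE8 (k / 240) (k % 240))) = true := by decide +kernel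
theorem e8Utor_14_21440 : allRange 21440 21480 ((fun k => posTorOK Cfsg.Lie.chevE8 (k / 240) (k % 240))) = true := by decide +kernel
theorem e8Utor_14_21480 : allRange 21480 21520 ((fun k => posTorOK Cfsg.Lie.chevE8 (k / 240) (k % 240))) = true := by decide +kernel
theorem e8Utor_14_21520 : allRange 21520 21560 ((fun k => posTorOK Cfsg.Lie.chevE8 (k / 240) (k % 240))) = true := by decide +kernel
theorem e8Utor_14_21560 : allRange 21560 21600 ((fun k => posTorOK Cfsg.Lie.chevE8 (k / 240) (k % 240))) = true := by decide +kernel
theorem e8Utor_14_21600 : allRange 21600 21640 ((fun k => posTorOK Cfsg.Lie.chevE8 (k / 240) (k % 240))) = true := by decide +kernel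
theorem e8Utor_14_21640 : allRange 21640 21680 ((fun k => posTorOK Cfsg.Lie.chevE8 (k / 240) (k % 240))) = true := by decide +kernel
theorem e8Utor_14_21680 : allRange 21680 21720 ((fun k => posTorOK Cfsg.Lie.chevE8 (k / 240) (k % 240))) = true := by decide +kernel
theorem e8Utor_14_21720 : allRange 21720 21760 ((fun k => posTorOK Cfsg.Lie.chevE8 (k / 240) (k % 240))) = true := by decide +kernel
theorem e8Utor_14_21760 : allRange 21760 21800 ((fun k => posTorOK Cfsg.Lie.chevE8 (k / 240) (k % 240))) = true := by decide +kernel
theorem e8Utor_14_21800 : allRange 21800 21840 ((fun k => posTorOK Cfsg.Lie.chevE8 (k / 240) (k % 240))) = true := by decide +kernel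
theorem e8Utor_14_21840 : allRange 21840 21880 ((fun k => posTorOK Cfsg.Lie.chevE8 (k / 240) (k % 240))) = true := by decide +kernel
theorem e8Utor_14_21880 : allRange 21880 21920 ((fun k => posTorOK Cfsg.Lie.chevE8 (k / 240) (k % 240))) = true := by decide +kernel
theorem e8Utor_14_21920 : allRange 21920 21960 ((fun k => posTorOK Cfsg.Lie.chevE8 (k / 240) (k % 240))) = true := by decide +kernel
theorem e8Utor_14_21960 : allRange 21960 22000 ((fun k => posTorOK Cfsg.Lie.chevE8 (k / 240) (k % 240))) = true := by decide +kernel
theorem e8Utor_14_22000 : allRange 22000 22040 ((fun k => posTorOK Cfsg.Lie.chevE8 (k / 240) (k % 240))) = true := by decide +kernel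
theorem e8Utor_14_22040 : allRange 22040 22080 ((fun k => posTorOK Cfsg.Lie.chevE8 (k / 240) (k % 240))) = true := by decide +kernel
theorem e8Utor_14_22080 : allRange 22080 22120 ((fun k => posTorOK Cfsg.Lie.chevE8 (k / 240) (k % 240))) = true := by decide +kernel
theorem e8Utor_14_22120 : allRange 22120 22160 ((fun k => posTorOK Cfsg.Lie.chevE8 (k / 240) (k % 240))) = true := by decide +kernel
theorem e8Utor_14_22160 : allRange 22160 22200 ((fun k => posTorOK Cfsg.Lie.chevE8 (k / 240) (k % 240))) = true := by decide +kernel

/-- Torus elements separating the pairs of positive roots of type E8 (roots 20720 to 22199). -/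
theorem e8Utor_14 : ∀ r, 20720 ≤ r → r < 22200 → ((fun k => posTorOK Cfsg.Lie.chevE8 (k / 240) (k % 240))) r = true := by
  intro r h1 h2
  by_cases c0 : r < 20760
  · exact allRange_spec e8Utor_14_20720 r (by omega) c0
  by_cases c1 : r < 20800
  · exact allRange_spec e8Utor_14_20760 r (by omega) c1
  by_cases c2 : r < 20840
  · exact allRange_spec e8Utor_14_20800 r (by omega) c2
  by_cases c3 : r < 20880
  · exact allRange_spec e8Utor_14_20840 r (by omega) c3
  by_cases c4 : r < 20920
  · exact allRange_spec e8Utor_14_20880 r (by omega) c4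
  by_cases c5 : r < 20960
  · exact allRange_spec e8Utor_14_20920 r (by omega) c5
  by_cases c6 : r < 21000
  · exact allRange_spec e8Utor_14_20960 r (by omega) c6
  by_cases c7 : r < 21040
  · exact allRange_spec e8Utor_14_21000 r (by omega) c7
  by_cases c8 : r < 21080
  · exact allRange_spec e8Utor_14_21040 r (by omega) c8
  by_cases c9 : r < 21120
  · exact allRange_spec e8Utor_14_21080 r (by omega) c9
  by_cases c10 : r < 21160
  · exact allRange_spec e8Utor_14_21120 r (by omega) c10
  by_cases c11 : r < 21200
  · exact allRange_spec e8Utor_14_21160 r (by omega) c11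
  by_cases c12 : r < 21240
  · exact allRange_spec e8Utor_14_21200 r (by omega) c12
  by_cases c13 : r < 21280
  · exact allRange_spec e8Utor_14_21240 r (by omega) c13
  by_cases c14 : r < 21320
  · exact allRange_spec e8Utor_14_21280 r (by omega) c14
  by_cases c15 : r < 21360
  · exact allRange_spec e8Utor_14_21320 r (by omega) c15
  by_cases c16 : r < 21400
  · exact allRange_spec e8Utor_14_21360 r (by omega) c16
  by_cases c17 : r < 21440
  · exact allRange_spec e8Utor_14_21400 r (by omega) c17
  by_cases c18 : r < 21480
  · exact allRange_spec e8Utor_14_21440 r (by omega) c18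
  by_cases c19 : r < 21520
  · exact allRange_spec e8Utor_14_21480 r (by omega) c19
  by_cases c20 : r < 21560
  · exact allRange_spec e8Utor_14_21520 r (by omega) c20
  by_cases c21 : r < 21600
  · exact allRange_spec e8Utor_14_21560 r (by omega) c21
  by_cases c22 : r < 21640
  · exact allRange_spec e8Utor_14_21600 r (by omega) c22
  by_cases c23 : r < 21680
  · exact allRange_spec e8Utor_14_21640 r (by omega) c23
  by_cases c24 : r < 21720
  · exact allRange_spec e8Utor_14_21680 r (by omega) c24
  by_cases c25 : r < 21760
  · exact allRange_spec e8Utor_14_21720 r (by omega) c25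
  by_cases c26 : r < 21800
  · exact allRange_spec e8Utor_14_21760 r (by omega) c26
  by_cases c27 : r < 21840
  · exact allRange_spec e8Utor_14_21800 r (by omega) c27
  by_cases c28 : r < 21880
  · exact allRange_spec e8Utor_14_21840 r (by omega) c28
  by_cases c29 : r < 21920
  · exact allRange_spec e8Utor_14_21880 r (by omega) c29
  by_cases c30 : r < 21960
  · exact allRange_spec e8Utor_14_21920 r (by omega) c30
  by_cases c31 : r < 22000
  · exact allRange_spec e8Utor_14_21960 r (by omega) c31
  by_cases c32 : r < 22040
  · exact allRange_spec e8Utor_14_22000 r (by omega) c32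
  by_cases c33 : r < 22080
  · exact allRange_spec e8Utor_14_22040 r (by omega) c33
  by_cases c34 : r < 22120
  · exact allRange_spec e8Utor_14_22080 r (by omega) c34
  by_cases c35 : r < 22160
  · exact allRange_spec e8Utor_14_22120 r (by omega) c35
  exact allRange_spec e8Utor_14_22160 r (by omega) h2

end Cfsg.Agent.Lib.Helper3.ChevM
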