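import Cfsg.Prelude.Def_ChevE8
import Cfsg.Agent.Lib.Helper3.StU10
set_option autoImplicit false
set_option maxRecDepth 1000000
set_option Elab.async false

namespace Cfsg.Agent.Lib.Helper3.ChevM
open Cfsg.Agent.Lib.Helper3.StB Cfsg.Agent.Lib.Helper3.StU

theorem e8Utor_15_22200 : allRange 22200 22240 ((fun k => posTorOK Cfsg.Lie.chevE8 (k / 240) (k % 240))) = true := by decide +kernel
theorem e8Utor_15_22240 : allRange 22240 22280 ((fun k => posTorOK Cfsg.Lie.chevE8 (k / 240) (k % 240))) = true := by decide +kernel
theorem e8Utor_15_22280 : allRange 22280 22320 ((fun k => posTorOK Cfsg.Lie.chevE8 (k / 240) (k % 240))) = true := by decide +kernel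
theorem e8Utor_15_22320 : allRange 22320 22360 ((fun k => posTorOK Cfsg.Lie.chevE8 (k / 240) (k % 240))) = true := by decide +kernel
theorem e8Utor_15_22360 : allRange 22360 22400 ((fun k => posTorOK Cfsg.Lie.chevE8 (k / 240) (k % 240))) = true := by decide +kernel
theorem e8Utor_15_22400 : allRange 22400 22440 ((fun k => posTorOK Cfsg.Lie.chevE8 (k / 240) (k % 240))) = true := by decide +kernel
theorem e8Utor_15_22440 : allRange 22440 22480 ((fun k => posTorOK Cfsg.Lie.chevE8 (k / 240) (k % 240))) = true := by decide +kernel
theorem e8Utor_15_22480 : allRange 22480 22520 ((fun k => posTorOK Cfsg.Lie.chevE8 (k / 240) (k % 240))) = true := by decide +kernel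
theorem e8Utor_15_22520 : allRange 22520 22560 ((fun k => posTorOK Cfsg.Lie.chevE8 (k / 240) (k % 240))) = true := by decide +kernel
theorem e8Utor_15_22560 : allRange 22560 22600 ((fun k => posTorOK Cfsg.Lie.chevE8 (k / 240) (k % 240))) = true := by decide +kernel
theorem e8Utor_15_22600 : allRange 22600 22640 ((fun k => posTorOK Cfsg.Lie.chevE8 (k / 240) (k % 240))) = true := by decide +kernel
theorem e8Utor_15_22640 : allRange 22640 22680 ((fun k => posTorOK Cfsg.Lie.chevE8 (k / 240) (k % 240))) = true := by decide +kernel
theorem e8Utor_15_22680 : allRange 22680 22720 ((fun k => posTorOK Cfsg.Lie.chevE8 (k / 240) (k % 240))) = true := by decide +kernel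
theorem e8Utor_15_22720 : allRange 22720 22760 ((fun k => posTorOK Cfsg.Lie.chevE8 (k / 240) (k % 240))) = true := by decide +kernel
theorem e8Utor_15_22760 : allRange 22760 22800 ((fun k => posTorOK Cfsg.Lie.chevE8 (k / 240) (k % 240))) = true := by decide +kernel
theorem e8Utor_15_22800 : allRange 22800 22840 ((fun k => posTorOK Cfsg.Lie.chevE8 (k / 240) (k % 240))) = true := by decide +kernel
theorem e8Utor_15_22840 : allRange 22840 22880 ((fun k => posTorOK Cfsg.Lie.chevE8 (k / 240) (k % 240))) = true := by decide +kernel
theorem e8Utor_15_22880 : allRange 22880 22920 ((fun k => posTorOK Cfsg.Lie.chevE8 (k / 240) (k % 240))) = true := by decide +kernel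
theorem e8Utor_15_22920 : allRange 22920 22960 ((fun k => posTorOK Cfsg.Lie.chevE8 (k / 240) (k % 240))) = true := by decide +kernel
theorem e8Utor_15_22960 : allRange 22960 23000 ((fun k => posTorOK Cfsg.Lie.chevE8 (k / 240) (k % 240))) = true := by decide +kernel
theorem e8Utor_15_23000 : allRange 23000 23040 ((fun k => posTorOK Cfsg.Lie.chevE8 (k / 240) (k % 240))) = true := by decide +kernel
theorem e8Utor_15_23040 : allRange 23040 23080 ((fun k => posTorOK Cfsg.Lie.chevE8 (k / 240) (k % 240))) = true := by decide +kernel
theorem e8Utor_15_23080 : allRange 23080 23120 ((fun k => posTorOK Cfsg.Lie.chevE8 (k / 240) (k % 240))) = true := by decide +kernel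
theorem e8Utor_15_23120 : allRange 23120 23160 ((fun k => posTorOK Cfsg.Lie.chevE8 (k / 240) (k % 240))) = true := by decide +kernel
theorem e8Utor_15_23160 : allRange 23160 23200 ((fun k => posTorOK Cfsg.Lie.chevE8 (k / 240) (k % 240))) = true := by decide +kernel
theorem e8Utor_15_23200 : allRange 23200 23240 ((fun k => posTorOK Cfsg.Lie.chevE8 (k / 240) (k % 240))) = true := by decide +kernel
theorem e8Utor_15_23240 : allRange 23240 23280 ((fun k => posTorOK Cfsg.Lie.chevE8 (k / 240) (k % 240))) = true := by decide +kernel
theorem e8Utor_15_23280 : allRange 23280 23320 ((fun k => posTorOK Cfsg.Lie.chevE8 (k / 240) (k % 240))) = true := by decide +kernel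
theorem e8Utor_15_23320 : allRange 23320 23360 ((fun k => posTorOK Cfsg.Lie.chevE8 (k / 240) (k % 240))) = true := by decide +kernel
theorem e8Utor_15_23360 : allRange 23360 23400 ((fun k => posTorOK Cfsg.Lie.chevE8 (k / 240) (k % 240))) = true := by decide +kernel
theorem e8Utor_15_23400 : allRange 23400 23440 ((fun k => posTorOK Cfsg.Lie.chevE8 (k / 240) (k % 240))) = true := by decide +kernel
theorem e8Utor_15_23440 : allRange 23440 23480 ((fun k => posTorOK Cfsg.Lie.chevE8 (k / 240) (k % 240))) = true := by decide +kernel
theorem e8Utor_15_23480 : allRange 23480 23520 ((fun k => posTorOK Cfsg.Lie.chevE8 (k / 240) (k % 240))) = true := by decide +kernel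
theorem e8Utor_15_23520 : allRange 23520 23560 ((fun k => posTorOK Cfsg.Lie.chevE8 (k / 240) (k % 240))) = true := by decide +kernel
theorem e8Utor_15_23560 : allRange 23560 23600 ((fun k => posTorOK Cfsg.Lie.chevE8 (k / 240) (k % 240))) = true := by decide +kernel
theorem e8Utor_15_23600 : allRange 23600 23640 ((fun k => posTorOK Cfsg.Lie.chevE8 (k / 240) (k % 240))) = true := by decide +kernel
theorem e8Utor_15_23640 : allRange 23640 23680 ((fun k => posTorOK Cfsg.Lie.chevE8 (k / 240) (k % 240))) = true := by decide +kernel

/-- Torus elements separating the pairs of positive roots of type E8 (roots 22200 to 23679). -/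
theorem e8Utor_15 : ∀ r, 22200 ≤ r → r < 23680 → ((fun k => posTorOK Cfsg.Lie.chevE8 (k / 240) (k % 240))) r = true := by
  intro r h1 h2
  by_cases c0 : r < 22240
  · exact allRange_spec e8Utor_15_22200 r (by omega) c0
  by_cases c1 : r < 22280
  · exact allRange_spec e8Utor_15_22240 r (by omega) c1
  by_cases c2 : r < 22320
  · exact allRange_spec e8Utor_15_22280 r (by omega) c2
  by_cases c3 : r < 22360
  · exact allRange_spec e8Utor_15_22320 r (by omega) c3
  by_cases c4 : r < 22400
  · exact allRange_spec e8Utor_15_22360 r (by omega) c4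
  by_cases c5 : r < 22440
  · exact allRange_spec e8Utor_15_22400 r (by omega) c5
  by_cases c6 : r < 22480
  · exact allRange_spec e8Utor_15_22440 r (by omega) c6
  by_cases c7 : r < 22520
  · exact allRange_spec e8Utor_15_22480 r (by omega) c7
  by_cases c8 : r < 22560
  · exact allRange_spec e8Utor_15_22520 r (by omega) c8
  by_cases c9 : r < 22600
  · exact allRange_spec e8Utor_15_22560 r (by omega) c9
  by_cases c10 : r < 22640
  · exact allRange_spec e8Utor_15_22600 r (by omega) c10
  by_cases c11 : r < 22680
  · exact allRange_spec e8Utor_15_22640 r (by omega) c11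
  by_cases c12 : r < 22720
  · exact allRange_spec e8Utor_15_22680 r (by omega) c12
  by_cases c13 : r < 22760
  · exact allRange_spec e8Utor_15_22720 r (by omega) c13
  by_cases c14 : r < 22800
  · exact allRange_spec e8Utor_15_22760 r (by omega) c14
  by_cases c15 : r < 22840
  · exact allRange_spec e8Utor_15_22800 r (by omega) c15
  by_cases c16 : r < 22880
  · exact allRange_spec e8Utor_15_22840 r (by omega) c16
  by_cases c17 : r < 22920
  · exact allRange_spec e8Utor_15_22880 r (by omega) c17
  by_cases c18 : r < 22960
  · exact allRange_spec e8Utor_15_22920 r (by omega) c18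
  by_cases c19 : r < 23000
  · exact allRange_spec e8Utor_15_22960 r (by omega) c19
  by_cases c20 : r < 23040
  · exact allRange_spec e8Utor_15_23000 r (by omega) c20
  by_cases c21 : r < 23080
  · exact allRange_spec e8Utor_15_23040 r (by omega) c21
  by_cases c22 : r < 23120
  · exact allRange_spec e8Utor_15_23080 r (by omega) c22
  by_cases c23 : r < 23160
  · exact allRange_spec e8Utor_15_23120 r (by omega) c23
  by_cases c24 : r < 23200
  · exact allRange_spec e8Utor_15_23160 r (by omega) c24
  by_cases c25 : r < 23240
  · exact allRange_spec e8Utor_15_23200 r (by omega) c25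
  by_cases c26 : r < 23280
  · exact allRange_spec e8Utor_15_23240 r (by omega) c26
  by_cases c27 : r < 23320
  · exact allRange_spec e8Utor_15_23280 r (by omega) c27
  by_cases c28 : r < 23360
  · exact allRange_spec e8Utor_15_23320 r (by omega) c28
  by_cases c29 : r < 23400
  · exact allRange_spec e8Utor_15_23360 r (by omega) c29
  by_cases c30 : r < 23440
  · exact allRange_spec e8Utor_15_23400 r (by omega) c30
  by_cases c31 : r < 23480
  · exact allRange_spec e8Utor_15_23440 r (by omega) c31
  by_cases c32 : r < 23520
  · exact allRange_spec e8Utor_15_23480 r (by omega) c32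
  by_cases c33 : r < 23560
  · exact allRange_spec e8Utor_15_23520 r (by omega) c33
  by_cases c34 : r < 23600
  · exact allRange_spec e8Utor_15_23560 r (by omega) c34
  by_cases c35 : r < 23640
  · exact allRange_spec e8Utor_15_23600 r (by omega) c35
  exact allRange_spec e8Utor_15_23640 r (by omega) h2

end Cfsg.Agent.Lib.Helper3.ChevM
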