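import Cfsg.Prelude.Def_ChevE8
import Cfsg.Agent.Lib.Helper3.StU10
set_option autoImplicit false
set_option maxRecDepth 1000000
set_option Elab.async false

namespace Cfsg.Agent.Lib.Helper3.ChevM
open Cfsg.Agent.Lib.Helper3.StB Cfsg.Agent.Lib.Helper3.StU

theorem e8Utor_16_23680 : allRange 23680 23720 ((fun k => posTorOK Cfsg.Lie.chevE8 (k / 240) (k % 240))) = true := by decide +kernel
theorem e8Utor_16_23720 : allRange 23720 23760 ((fun k => posTorOK Cfsg.Lie.chevE8 (k / 240) (k % 240))) = true := by decide +kernel
theorem e8Utor_16_23760 : allRange 23760 23800 ((fun k => posTorOK Cfsg.Lie.chevE8 (k / 240) (k % 240))) = true := by decide +kernel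
theorem e8Utor_16_23800 : allRange 23800 23840 ((fun k => posTorOK Cfsg.Lie.chevE8 (k / 240) (k % 240))) = true := by decide +kernel
theorem e8Utor_16_23840 : allRange 23840 23880 ((fun k => posTorOK Cfsg.Lie.chevE8 (k / 240) (k % 240))) = true := by decide +kernel
theorem e8Utor_16_23880 : allRange 23880 23920 ((fun k => posTorOK Cfsg.Lie.chevE8 (k / 240) (k % 240))) = true := by decide +kernel
theorem e8Utor_16_23920 : allRange 23920 23960 ((fun k => posTorOK Cfsg.Lie.chevE8 (k / 240) (k % 240))) = true := by decide +kernel
theorem e8Utor_16_23960 : allRange 23960 24000 ((fun k => posTorOK Cfsg.Lie.chevE8 (k / 240) (k % 240))) = true := by decide +kernel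
theorem e8Utor_16_24000 : allRange 24000 24040 ((fun k => posTorOK Cfsg.Lie.chevE8 (k / 240) (k % 240))) = true := by decide +kernel
theorem e8Utor_16_24040 : allRange 24040 24080 ((fun k => posTorOK Cfsg.Lie.chevE8 (k / 240) (k % 240))) = true := by decide +kernel
theorem e8Utor_16_24080 : allRange 24080 24120 ((fun k => posTorOK Cfsg.Lie.chevE8 (k / 240) (k % 240))) = true := by decide +kernel
theorem e8Utor_16_24120 : allRange 24120 24160 ((fun k => posTorOK Cfsg.Lie.chevE8 (k / 240) (k % 240))) = true := by decide +kernel
theorem e8Utor_16_24160 : allRange 24160 24200 ((fun k => posTorOK Cfsg.Lie.chevE8 (k / 240) (k % 240))) = true := by decide +kernel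
theorem e8Utor_16_24200 : allRange 24200 24240 ((fun k => posTorOK Cfsg.Lie.chevE8 (k / 240) (k % 240))) = true := by decide +kernel
theorem e8Utor_16_24240 : allRange 24240 24280 ((fun k => posTorOK Cfsg.Lie.chevE8 (k / 240) (k % 240))) = true := by decide +kernel
theorem e8Utor_16_24280 : allRange 24280 24320 ((fun k => posTorOK Cfsg.Lie.chevE8 (k / 240) (k % 240))) = true := by decide +kernel
theorem e8Utor_16_24320 : allRange 24320 24360 ((fun k => posTorOK Cfsg.Lie.chevE8 (k / 240) (k % 240))) = true := by decide +kernel
theorem e8Utor_16_24360 : allRange 24360 24400 ((fun k => posTorOK Cfsg.Lie.chevE8 (k / 240) (k % 240))) = true := by decide +kernel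
theorem e8Utor_16_24400 : allRange 24400 24440 ((fun k => posTorOK Cfsg.Lie.chevE8 (k / 240) (k % 240))) = true := by decide +kernel
theorem e8Utor_16_24440 : allRange 24440 24480 ((fun k => posTorOK Cfsg.Lie.chevE8 (k / 240) (k % 240))) = true := by decide +kernel
theorem e8Utor_16_24480 : allRange 24480 24520 ((fun k => posTorOK Cfsg.Lie.chevE8 (k / 240) (k % 240))) = true := by decide +kernel
theorem e8Utor_16_24520 : allRange 24520 24560 ((fun k => posTorOK Cfsg.Lie.chevE8 (k / 240) (k % 240))) = true := by decide +kernel
theorem e8Utor_16_24560 : allRange 24560 24600 ((fun k => posTorOK Cfsg.Lie.chevE8 (k / 240) (k % 240))) = true := by decide +kernel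
theorem e8Utor_16_24600 : allRange 24600 24640 ((fun k => posTorOK Cfsg.Lie.chevE8 (k / 240) (k % 240))) = true := by decide +kernel
theorem e8Utor_16_24640 : allRange 24640 24680 ((fun k => posTorOK Cfsg.Lie.chevE8 (k / 240) (k % 240))) = true := by decide +kernel
theorem e8Utor_16_24680 : allRange 24680 24720 ((fun k => posTorOK Cfsg.Lie.chevE8 (k / 240) (k % 240))) = true := by decide +kernel
theorem e8Utor_16_24720 : allRange 24720 24760 ((fun k => posTorOK Cfsg.Lie.chevE8 (k / 240) (k % 240))) = true := by decide +kernel
theorem e8Utor_16_24760 : allRange 24760 24800 ((fun k => posTorOK Cfsg.Lie.chevE8 (k / 240) (k % 240))) = true := by decide +kernel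
theorem e8Utor_16_24800 : allRange 24800 24840 ((fun k => posTorOK Cfsg.Lie.chevE8 (k / 240) (k % 240))) = true := by decide +kernel
theorem e8Utor_16_24840 : allRange 24840 24880 ((fun k => posTorOK Cfsg.Lie.chevE8 (k / 240) (k % 240))) = true := by decide +kernel
theorem e8Utor_16_24880 : allRange 24880 24920 ((fun k => posTorOK Cfsg.Lie.chevE8 (k / 240) (k % 240))) = true := by decide +kernel
theorem e8Utor_16_24920 : allRange 24920 24960 ((fun k => posTorOK Cfsg.Lie.chevE8 (k / 240) (k % 240))) = true := by decide +kernel
theorem e8Utor_16_24960 : allRange 24960 25000 ((fun k => posTorOK Cfsg.Lie.chevE8 (k / 240) (k % 240))) = true := by decide +kernel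
theorem e8Utor_16_25000 : allRange 25000 25040 ((fun k => posTorOK Cfsg.Lie.chevE8 (k / 240) (k % 240))) = true := by decide +kernel
theorem e8Utor_16_25040 : allRange 25040 25080 ((fun k => posTorOK Cfsg.Lie.chevE8 (k / 240) (k % 240))) = true := by decide +kernel
theorem e8Utor_16_25080 : allRange 25080 25120 ((fun k => posTorOK Cfsg.Lie.chevE8 (k / 240) (k % 240))) = true := by decide +kernel
theorem e8Utor_16_25120 : allRange 25120 25160 ((fun k => posTorOK Cfsg.Lie.chevE8 (k / 240) (k % 240))) = true := by decide +kernel

/-- Torus elements separating the pairs of positive roots of type E8 (roots 23680 to 25159). -/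
theorem e8Utor_16 : ∀ r, 23680 ≤ r → r < 25160 → ((fun k => posTorOK Cfsg.Lie.chevE8 (k / 240) (k % 240))) r = true := by
  intro r h1 h2
  by_cases c0 : r < 23720
  · exact allRange_spec e8Utor_16_23680 r (by omega) c0
  by_cases c1 : r < 23760
  · exact allRange_spec e8Utor_16_23720 r (by omega) c1
  by_cases c2 : r < 23800
  · exact allRange_spec e8Utor_16_23760 r (by omega) c2
  by_cases c3 : r < 23840
  · exact allRange_spec e8Utor_16_23800 r (by omega) c3
  by_cases c4 : r < 23880
  · exact allRange_spec e8Utor_16_23840 r (by omega) c4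
  by_cases c5 : r < 23920
  · exact allRange_spec e8Utor_16_23880 r (by omega) c5
  by_cases c6 : r < 23960
  · exact allRange_spec e8Utor_16_23920 r (by omega) c6
  by_cases c7 : r < 24000
  · exact allRange_spec e8Utor_16_23960 r (by omega) c7
  by_cases c8 : r < 24040
  · exact allRange_spec e8Utor_16_24000 r (by omega) c8
  by_cases c9 : r < 24080
  · exact allRange_spec e8Utor_16_24040 r (by omega) c9
  by_cases c10 : r < 24120
  · exact allRange_spec e8Utor_16_24080 r (by omega) c10
  by_cases c11 : r < 24160
  · exact allRange_spec e8Utor_16_24120 r (by omega) c11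
  by_cases c12 : r < 24200
  · exact allRange_spec e8Utor_16_24160 r (by omega) c12
  by_cases c13 : r < 24240
  · exact allRange_spec e8Utor_16_24200 r (by omega) c13
  by_cases c14 : r < 24280
  · exact allRange_spec e8Utor_16_24240 r (by omega) c14
  by_cases c15 : r < 24320
  · exact allRange_spec e8Utor_16_24280 r (by omega) c15
  by_cases c16 : r < 24360
  · exact allRange_spec e8Utor_16_24320 r (by omega) c16
  by_cases c17 : r < 24400
  · exact allRange_spec e8Utor_16_24360 r (by omega) c17
  by_cases c18 : r < 24440
  · exact allRange_spec e8Utor_16_24400 r (by omega) c18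
  by_cases c19 : r < 24480
  · exact allRange_spec e8Utor_16_24440 r (by omega) c19
  by_cases c20 : r < 24520
  · exact allRange_spec e8Utor_16_24480 r (by omega) c20
  by_cases c21 : r < 24560
  · exact allRange_spec e8Utor_16_24520 r (by omega) c21
  by_cases c22 : r < 24600
  · exact allRange_spec e8Utor_16_24560 r (by omega) c22
  by_cases c23 : r < 24640
  · exact allRange_spec e8Utor_16_24600 r (by omega) c23
  by_cases c24 : r < 24680
  · exact allRange_spec e8Utor_16_24640 r (by omega) c24
  by_cases c25 : r < 24720
  · exact allRange_spec e8Utor_16_24680 r (by omega) c25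
  by_cases c26 : r < 24760
  · exact allRange_spec e8Utor_16_24720 r (by omega) c26
  by_cases c27 : r < 24800
  · exact allRange_spec e8Utor_16_24760 r (by omega) c27
  by_cases c28 : r < 24840
  · exact allRange_spec e8Utor_16_24800 r (by omega) c28
  by_cases c29 : r < 24880
  · exact allRange_spec e8Utor_16_24840 r (by omega) c29
  by_cases c30 : r < 24920
  · exact allRange_spec e8Utor_16_24880 r (by omega) c30
  by_cases c31 : r < 24960
  · exact allRange_spec e8Utor_16_24920 r (by omega) c31
  by_cases c32 : r < 25000
  · exact allRange_spec e8Utor_16_24960 r (by omega) c32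
  by_cases c33 : r < 25040
  · exact allRange_spec e8Utor_16_25000 r (by omega) c33
  by_cases c34 : r < 25080
  · exact allRange_spec e8Utor_16_25040 r (by omega) c34
  by_cases c35 : r < 25120
  · exact allRange_spec e8Utor_16_25080 r (by omega) c35
  exact allRange_spec e8Utor_16_25120 r (by omega) h2

end Cfsg.Agent.Lib.Helper3.ChevM
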