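import Cfsg.Prelude.Def_ChevE8
import Cfsg.Agent.Lib.Helper3.StU10
set_option autoImplicit false
set_option maxRecDepth 1000000
set_option Elab.async false

namespace Cfsg.Agent.Lib.Helper3.ChevM
open Cfsg.Agent.Lib.Helper3.StB Cfsg.Agent.Lib.Helper3.StU

theorem e8Utor_17_25160 : allRange 25160 25200 ((fun k => posTorOK Cfsg.Lie.chevE8 (k / 240) (k % 240))) = true := by decide +kernel
theorem e8Utor_17_25200 : allRange 25200 25240 ((fun k => posTorOK Cfsg.Lie.chevE8 (k / 240) (k % 240))) = true := by decide +kernel
theorem e8Utor_17_25240 : allRange 25240 25280 ((fun k => posTorOK Cfsg.Lie.chevE8 (k / 240) (k % 240))) = true := by decide +kernel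
theorem e8Utor_17_25280 : allRange 25280 25320 ((fun k => posTorOK Cfsg.Lie.chevE8 (k / 240) (k % 240))) = true := by decide +kernel
theorem e8Utor_17_25320 : allRange 25320 25360 ((fun k => posTorOK Cfsg.Lie.chevE8 (k / 240) (k % 240))) = true := by decide +kernel
theorem e8Utor_17_25360 : allRange 25360 25400 ((fun k => posTorOK Cfsg.Lie.chevE8 (k / 240) (k % 240))) = true := by decide +kernel
theorem e8Utor_17_25400 : allRange 25400 25440 ((fun k => posTorOK Cfsg.Lie.chevE8 (k / 240) (k % 240))) = true := by decide +kernel
theorem e8Utor_17_25440 : allRange 25440 25480 ((fun k => posTorOK Cfsg.Lie.chevE8 (k / 240) (k % 240))) = true := by decide +kernel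
theorem e8Utor_17_25480 : allRange 25480 25520 ((fun k => posTorOK Cfsg.Lie.chevE8 (k / 240) (k % 240))) = true := by decide +kernel
theorem e8Utor_17_25520 : allRange 25520 25560 ((fun k => posTorOK Cfsg.Lie.chevE8 (k / 240) (k % 240))) = true := by decide +kernel
theorem e8Utor_17_25560 : allRange 25560 25600 ((fun k => posTorOK Cfsg.Lie.chevE8 (k / 240) (k % 240))) = true := by decide +kernel
theorem e8Utor_17_25600 : allRange 25600 25640 ((fun k => posTorOK Cfsg.Lie.chevE8 (k / 240) (k % 240))) = true := by decide +kernel
theorem e8Utor_17_25640 : allRange 25640 25680 ((fun k => posTorOK Cfsg.Lie.chevE8 (k / 240) (k % 240))) = true := by decide +kernel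
theorem e8Utor_17_25680 : allRange 25680 25720 ((fun k => posTorOK Cfsg.Lie.chevE8 (k / 240) (k % 240))) = true := by decide +kernel
theorem e8Utor_17_25720 : allRange 25720 25760 ((fun k => posTorOK Cfsg.Lie.chevE8 (k / 240) (k % 240))) = true := by decide +kernel
theorem e8Utor_17_25760 : allRange 25760 25800 ((fun k => posTorOK Cfsg.Lie.chevE8 (k / 240) (k % 240))) = true := by decide +kernel
theorem e8Utor_17_25800 : allRange 25800 25840 ((fun k => posTorOK Cfsg.Lie.chevE8 (k / 240) (k % 240))) = true := by decide +kernel
theorem e8Utor_17_25840 : allRange 25840 25880 ((fun k => posTorOK Cfsg.Lie.chevE8 (k / 240) (k % 240))) = true := by decide +kernel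
theorem e8Utor_17_25880 : allRange 25880 25920 ((fun k => posTorOK Cfsg.Lie.chevE8 (k / 240) (k % 240))) = true := by decide +kernel
theorem e8Utor_17_25920 : allRange 25920 25960 ((fun k => posTorOK Cfsg.Lie.chevE8 (k / 240) (k % 240))) = true := by decide +kernel
theorem e8Utor_17_25960 : allRange 25960 26000 ((fun k => posTorOK Cfsg.Lie.chevE8 (k / 240) (k % 240))) = true := by decide +kernel
theorem e8Utor_17_26000 : allRange 26000 26040 ((fun k => posTorOK Cfsg.Lie.chevE8 (k / 240) (k % 240))) = true := by decide +kernel
theorem e8Utor_17_26040 : allRange 26040 26080 ((fun k => posTorOK Cfsg.Lie.chevE8 (k / 240) (k % 240))) = true := by decide +kernel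
theorem e8Utor_17_26080 : allRange 26080 26120 ((fun k => posTorOK Cfsg.Lie.chevE8 (k / 240) (k % 240))) = true := by decide +kernel
theorem e8Utor_17_26120 : allRange 26120 26160 ((fun k => posTorOK Cfsg.Lie.chevE8 (k / 240) (k % 240))) = true := by decide +kernel
theorem e8Utor_17_26160 : allRange 26160 26200 ((fun k => posTorOK Cfsg.Lie.chevE8 (k / 240) (k % 240))) = true := by decide +kernel
theorem e8Utor_17_26200 : allRange 26200 26240 ((fun k => posTorOK Cfsg.Lie.chevE8 (k / 240) (k % 240))) = true := by decide +kernel
theorem e8Utor_17_26240 : allRange 26240 26280 ((fun k => posTorOK Cfsg.Lie.chevE8 (k / 240) (k % 240))) = true := by decide +kernel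
theorem e8Utor_17_26280 : allRange 26280 26320 ((fun k => posTorOK Cfsg.Lie.chevE8 (k / 240) (k % 240))) = true := by decide +kernel
theorem e8Utor_17_26320 : allRange 26320 26360 ((fun k => posTorOK Cfsg.Lie.chevE8 (k / 240) (k % 240))) = true := by decide +kernel
theorem e8Utor_17_26360 : allRange 26360 26400 ((fun k => posTorOK Cfsg.Lie.chevE8 (k / 240) (k % 240))) = true := by decide +kernel
theorem e8Utor_17_26400 : allRange 26400 26440 ((fun k => posTorOK Cfsg.Lie.chevE8 (k / 240) (k % 240))) = true := by decide +kernel
theorem e8Utor_17_26440 : allRange 26440 26480 ((fun k => posTorOK Cfsg.Lie.chevE8 (k / 240) (k % 240))) = true := by decide +kernel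
theorem e8Utor_17_26480 : allRange 26480 26520 ((fun k => posTorOK Cfsg.Lie.chevE8 (k / 240) (k % 240))) = true := by decide +kernel
theorem e8Utor_17_26520 : allRange 26520 26560 ((fun k => posTorOK Cfsg.Lie.chevE8 (k / 240) (k % 240))) = true := by decide +kernel
theorem e8Utor_17_26560 : allRange 26560 26600 ((fun k => posTorOK Cfsg.Lie.chevE8 (k / 240) (k % 240))) = true := by decide +kernel
theorem e8Utor_17_26600 : allRange 26600 26640 ((fun k => posTorOK Cfsg.Lie.chevE8 (k / 240) (k % 240))) = true := by decide +kernel

/-- Torus elements separating the pairs of positive roots of type E8 (roots 25160 to 26639). -/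
theorem e8Utor_17 : ∀ r, 25160 ≤ r → r < 26640 → ((fun k => posTorOK Cfsg.Lie.chevE8 (k / 240) (k % 240))) r = true := by
  intro r h1 h2
  by_cases c0 : r < 25200
  · exact allRange_spec e8Utor_17_25160 r (by omega) c0
  by_cases c1 : r < 25240
  · exact allRange_spec e8Utor_17_25200 r (by omega) c1
  by_cases c2 : r < 25280
  · exact allRange_spec e8Utor_17_25240 r (by omega) c2
  by_cases c3 : r < 25320
  · exact allRange_spec e8Utor_17_25280 r (by omega) c3
  by_cases c4 : r < 25360
  · exact allRange_spec e8Utor_17_25320 r (by omega) c4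
  by_cases c5 : r < 25400
  · exact allRange_spec e8Utor_17_25360 r (by omega) c5
  by_cases c6 : r < 25440
  · exact allRange_spec e8Utor_17_25400 r (by omega) c6
  by_cases c7 : r < 25480
  · exact allRange_spec e8Utor_17_25440 r (by omega) c7
  by_cases c8 : r < 25520
  · exact allRange_spec e8Utor_17_25480 r (by omega) c8
  by_cases c9 : r < 25560
  · exact allRange_spec e8Utor_17_25520 r (by omega) c9
  by_cases c10 : r < 25600
  · exact allRange_spec e8Utor_17_25560 r (by omega) c10
  by_cases c11 : r < 25640
  · exact allRange_spec e8Utor_17_25600 r (by omega) c11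
  by_cases c12 : r < 25680
  · exact allRange_spec e8Utor_17_25640 r (by omega) c12
  by_cases c13 : r < 25720
  · exact allRange_spec e8Utor_17_25680 r (by omega) c13
  by_cases c14 : r < 25760
  · exact allRange_spec e8Utor_17_25720 r (by omega) c14
  by_cases c15 : r < 25800
  · exact allRange_spec e8Utor_17_25760 r (by omega) c15
  by_cases c16 : r < 25840
  · exact allRange_spec e8Utor_17_25800 r (by omega) c16
  by_cases c17 : r < 25880
  · exact allRange_spec e8Utor_17_25840 r (by omega) c17
  by_cases c18 : r < 25920
  · exact allRange_spec e8Utor_17_25880 r (by omega) c18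
  by_cases c19 : r < 25960
  · exact allRange_spec e8Utor_17_25920 r (by omega) c19
  by_cases c20 : r < 26000
  · exact allRange_spec e8Utor_17_25960 r (by omega) c20
  by_cases c21 : r < 26040
  · exact allRange_spec e8Utor_17_26000 r (by omega) c21
  by_cases c22 : r < 26080
  · exact allRange_spec e8Utor_17_26040 r (by omega) c22
  by_cases c23 : r < 26120
  · exact allRange_spec e8Utor_17_26080 r (by omega) c23
  by_cases c24 : r < 26160
  · exact allRange_spec e8Utor_17_26120 r (by omega) c24
  by_cases c25 : r < 26200
  · exact allRange_spec e8Utor_17_26160 r (by omega) c25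
  by_cases c26 : r < 26240
  · exact allRange_spec e8Utor_17_26200 r (by omega) c26
  by_cases c27 : r < 26280
  · exact allRange_spec e8Utor_17_26240 r (by omega) c27
  by_cases c28 : r < 26320
  · exact allRange_spec e8Utor_17_26280 r (by omega) c28
  by_cases c29 : r < 26360
  · exact allRange_spec e8Utor_17_26320 r (by omega) c29
  by_cases c30 : r < 26400
  · exact allRange_spec e8Utor_17_26360 r (by omega) c30
  by_cases c31 : r < 26440
  · exact allRange_spec e8Utor_17_26400 r (by omega) c31
  by_cases c32 : r < 26480
  · exact allRange_spec e8Utor_17_26440 r (by omega) c32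
  by_cases c33 : r < 26520
  · exact allRange_spec e8Utor_17_26480 r (by omega) c33
  by_cases c34 : r < 26560
  · exact allRange_spec e8Utor_17_26520 r (by omega) c34
  by_cases c35 : r < 26600
  · exact allRange_spec e8Utor_17_26560 r (by omega) c35
  exact allRange_spec e8Utor_17_26600 r (by omega) h2

end Cfsg.Agent.Lib.Helper3.ChevM
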