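import Cfsg.Prelude.Def_ChevE8
import Cfsg.Agent.Lib.Helper3.StU10
set_option autoImplicit false
set_option maxRecDepth 1000000
set_option Elab.async false

namespace Cfsg.Agent.Lib.Helper3.ChevM
open Cfsg.Agent.Lib.Helper3.StB Cfsg.Agent.Lib.Helper3.StU

theorem e8Utor_18_26640 : allRange 26640 26680 ((fun k => posTorOK Cfsg.Lie.chevE8 (k / 240) (k % 240))) = true := by decide +kernel
theorem e8Utor_18_26680 : allRange 26680 26720 ((fun k => posTorOK Cfsg.Lie.chevE8 (k / 240) (k % 240))) = true := by decide +kernel
theorem e8Utor_18_26720 : allRange 26720 26760 ((fun k => posTorOK Cfsg.Lie.chevE8 (k / 240) (k % 240))) = true := by decide +kernel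
theorem e8Utor_18_26760 : allRange 26760 26800 ((fun k => posTorOK Cfsg.Lie.chevE8 (k / 240) (k % 240))) = true := by decide +kernel
theorem e8Utor_18_26800 : allRange 26800 26840 ((fun k => posTorOK Cfsg.Lie.chevE8 (k / 240) (k % 240))) = true := by decide +kernel
theorem e8Utor_18_26840 : allRange 26840 26880 ((fun k => posTorOK Cfsg.Lie.chevE8 (k / 240) (k % 240))) = true := by decide +kernel
theorem e8Utor_18_26880 : allRange 26880 26920 ((fun k => posTorOK Cfsg.Lie.chevE8 (k / 240) (k % 240))) = true := by decide +kernel
theorem e8Utor_18_26920 : allRange 26920 26960 ((fun k => posTorOK Cfsg.Lie.chevE8 (k / 240) (k % 240))) = true := by decide +kernel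
theorem e8Utor_18_26960 : allRange 26960 27000 ((fun k => posTorOK Cfsg.Lie.chevE8 (k / 240) (k % 240))) = true := by decide +kernel
theorem e8Utor_18_27000 : allRange 27000 27040 ((fun k => posTorOK Cfsg.Lie.chevE8 (k / 240) (k % 240))) = true := by decide +kernel
theorem e8Utor_18_27040 : allRange 27040 27080 ((fun k => posTorOK Cfsg.Lie.chevE8 (k / 240) (k % 240))) = true := by decide +kernel
theorem e8Utor_18_27080 : allRange 27080 27120 ((fun k => posTorOK Cfsg.Lie.chevE8 (k / 240) (k % 240))) = true := by decide +kernel
theorem e8Utor_18_27120 : allRange 27120 27160 ((fun k => posTorOK Cfsg.Lie.chevE8 (k / 240) (k % 240))) = true := by decide +kernel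
theorem e8Utor_18_27160 : allRange 27160 27200 ((fun k => posTorOK Cfsg.Lie.chevE8 (k / 240) (k % 240))) = true := by decide +kernel
theorem e8Utor_18_27200 : allRange 27200 27240 ((fun k => posTorOK Cfsg.Lie.chevE8 (k / 240) (k % 240))) = true := by decide +kernel
theorem e8Utor_18_27240 : allRange 27240 27280 ((fun k => posTorOK Cfsg.Lie.chevE8 (k / 240) (k % 240))) = true := by decide +kernel
theorem e8Utor_18_27280 : allRange 27280 27320 ((fun k => posTorOK Cfsg.Lie.chevE8 (k / 240) (k % 240))) = true := by decide +kernel
theorem e8Utor_18_27320 : allRange 27320 27360 ((fun k => posTorOK Cfsg.Lie.chevE8 (k / 240) (k % 240))) = true := by decide +kernel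
theorem e8Utor_18_27360 : allRange 27360 27400 ((fun k => posTorOK Cfsg.Lie.chevE8 (k / 240) (k % 240))) = true := by decide +kernel
theorem e8Utor_18_27400 : allRange 27400 27440 ((fun k => posTorOK Cfsg.Lie.chevE8 (k / 240) (k % 240))) = true := by decide +kernel
theorem e8Utor_18_27440 : allRange 27440 27480 ((fun k => posTorOK Cfsg.Lie.chevE8 (k / 240) (k % 240))) = true := by decide +kernel
theorem e8Utor_18_27480 : allRange 27480 27520 ((fun k => posTorOK Cfsg.Lie.chevE8 (k / 240) (k % 240))) = true := by decide +kernel
theorem e8Utor_18_27520 : allRange 27520 27560 ((fun k => posTorOK Cfsg.Lie.chevE8 (k / 240) (k % 240))) = true := by decide +kernel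
theorem e8Utor_18_27560 : allRange 27560 27600 ((fun k => posTorOK Cfsg.Lie.chevE8 (k / 240) (k % 240))) = true := by decide +kernel
theorem e8Utor_18_27600 : allRange 27600 27640 ((fun k => posTorOK Cfsg.Lie.chevE8 (k / 240) (k % 240))) = true := by decide +kernel
theorem e8Utor_18_27640 : allRange 27640 27680 ((fun k => posTorOK Cfsg.Lie.chevE8 (k / 240) (k % 240))) = true := by decide +kernel
theorem e8Utor_18_27680 : allRange 27680 27720 ((fun k => posTorOK Cfsg.Lie.chevE8 (k / 240) (k % 240))) = true := by decide +kernel
theorem e8Utor_18_27720 : allRange 27720 27760 ((fun k => posTorOK Cfsg.Lie.chevE8 (k / 240) (k % 240))) = true := by decide +kernel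
theorem e8Utor_18_27760 : allRange 27760 27800 ((fun k => posTorOK Cfsg.Lie.chevE8 (k / 240) (k % 240))) = true := by decide +kernel
theorem e8Utor_18_27800 : allRange 27800 27840 ((fun k => posTorOK Cfsg.Lie.chevE8 (k / 240) (k % 240))) = true := by decide +kernel
theorem e8Utor_18_27840 : allRange 27840 27880 ((fun k => posTorOK Cfsg.Lie.chevE8 (k / 240) (k % 240))) = true := by decide +kernel
theorem e8Utor_18_27880 : allRange 27880 27920 ((fun k => posTorOK Cfsg.Lie.chevE8 (k / 240) (k % 240))) = true := by decide +kernel
theorem e8Utor_18_27920 : allRange 27920 27960 ((fun k => posTorOK Cfsg.Lie.chevE8 (k / 240) (k % 240))) = true := by decide +kernel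
theorem e8Utor_18_27960 : allRange 27960 28000 ((fun k => posTorOK Cfsg.Lie.chevE8 (k / 240) (k % 240))) = true := by decide +kernel
theorem e8Utor_18_28000 : allRange 28000 28040 ((fun k => posTorOK Cfsg.Lie.chevE8 (k / 240) (k % 240))) = true := by decide +kernel
theorem e8Utor_18_28040 : allRange 28040 28080 ((fun k => posTorOK Cfsg.Lie.chevE8 (k / 240) (k % 240))) = true := by decide +kernel
theorem e8Utor_18_28080 : allRange 28080 28120 ((fun k => posTorOK Cfsg.Lie.chevE8 (k / 240) (k % 240))) = true := by decide +kernel

/-- Torus elements separating the pairs of positive roots of type E8 (roots 26640 to 28119). -/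
theorem e8Utor_18 : ∀ r, 26640 ≤ r → r < 28120 → ((fun k => posTorOK Cfsg.Lie.chevE8 (k / 240) (k % 240))) r = true := by
  intro r h1 h2
  by_cases c0 : r < 26680
  · exact allRange_spec e8Utor_18_26640 r (by omega) c0
  by_cases c1 : r < 26720
  · exact allRange_spec e8Utor_18_26680 r (by omega) c1
  by_cases c2 : r < 26760
  · exact allRange_spec e8Utor_18_26720 r (by omega) c2
  by_cases c3 : r < 26800
  · exact allRange_spec e8Utor_18_26760 r (by omega) c3
  by_cases c4 : r < 26840
  · exact allRange_spec e8Utor_18_26800 r (by omega) c4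
  by_cases c5 : r < 26880
  · exact allRange_spec e8Utor_18_26840 r (by omega) c5
  by_cases c6 : r < 26920
  · exact allRange_spec e8Utor_18_26880 r (by omega) c6
  by_cases c7 : r < 26960
  · exact allRange_spec e8Utor_18_26920 r (by omega) c7
  by_cases c8 : r < 27000
  · exact allRange_spec e8Utor_18_26960 r (by omega) c8
  by_cases c9 : r < 27040
  · exact allRange_spec e8Utor_18_27000 r (by omega) c9
  by_cases c10 : r < 27080
  · exact allRange_spec e8Utor_18_27040 r (by omega) c10
  by_cases c11 : r < 27120
  · exact allRange_spec e8Utor_18_27080 r (by omega) c11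
  by_cases c12 : r < 27160
  · exact allRange_spec e8Utor_18_27120 r (by omega) c12
  by_cases c13 : r < 27200
  · exact allRange_spec e8Utor_18_27160 r (by omega) c13
  by_cases c14 : r < 27240
  · exact allRange_spec e8Utor_18_27200 r (by omega) c14
  by_cases c15 : r < 27280
  · exact allRange_spec e8Utor_18_27240 r (by omega) c15
  by_cases c16 : r < 27320
  · exact allRange_spec e8Utor_18_27280 r (by omega) c16
  by_cases c17 : r < 27360
  · exact allRange_spec e8Utor_18_27320 r (by omega) c17
  by_cases c18 : r < 27400
  · exact allRange_spec e8Utor_18_27360 r (by omega) c18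
  by_cases c19 : r < 27440
  · exact allRange_spec e8Utor_18_27400 r (by omega) c19
  by_cases c20 : r < 27480
  · exact allRange_spec e8Utor_18_27440 r (by omega) c20
  by_cases c21 : r < 27520
  · exact allRange_spec e8Utor_18_27480 r (by omega) c21
  by_cases c22 : r < 27560
  · exact allRange_spec e8Utor_18_27520 r (by omega) c22
  by_cases c23 : r < 27600
  · exact allRange_spec e8Utor_18_27560 r (by omega) c23
  by_cases c24 : r < 27640
  · exact allRange_spec e8Utor_18_27600 r (by omega) c24
  by_cases c25 : r < 27680
  · exact allRange_spec e8Utor_18_27640 r (by omega) c25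
  by_cases c26 : r < 27720
  · exact allRange_spec e8Utor_18_27680 r (by omega) c26
  by_cases c27 : r < 27760
  · exact allRange_spec e8Utor_18_27720 r (by omega) c27
  by_cases c28 : r < 27800
  · exact allRange_spec e8Utor_18_27760 r (by omega) c28
  by_cases c29 : r < 27840
  · exact allRange_spec e8Utor_18_27800 r (by omega) c29
  by_cases c30 : r < 27880
  · exact allRange_spec e8Utor_18_27840 r (by omega) c30
  by_cases c31 : r < 27920
  · exact allRange_spec e8Utor_18_27880 r (by omega) c31
  by_cases c32 : r < 27960
  · exact allRange_spec e8Utor_18_27920 r (by omega) c32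
  by_cases c33 : r < 28000
  · exact allRange_spec e8Utor_18_27960 r (by omega) c33
  by_cases c34 : r < 28040
  · exact allRange_spec e8Utor_18_28000 r (by omega) c34
  by_cases c35 : r < 28080
  · exact allRange_spec e8Utor_18_28040 r (by omega) c35
  exact allRange_spec e8Utor_18_28080 r (by omega) h2

end Cfsg.Agent.Lib.Helper3.ChevM
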