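import Cfsg.Prelude.Def_ChevE8
import Cfsg.Agent.Lib.Helper3.StU10
set_option autoImplicit false
set_option maxRecDepth 1000000
set_option Elab.async false

namespace Cfsg.Agent.Lib.Helper3.ChevM
open Cfsg.Agent.Lib.Helper3.StB Cfsg.Agent.Lib.Helper3.StU

theorem e8Utor_19_28120 : allRange 28120 28160 ((fun k => posTorOK Cfsg.Lie.chevE8 (k / 240) (k % 240))) = true := by decide +kernel
theorem e8Utor_19_28160 : allRange 28160 28200 ((fun k => posTorOK Cfsg.Lie.chevE8 (k / 240) (k % 240))) = true := by decide +kernel
theorem e8Utor_19_28200 : allRange 28200 28240 ((fun k => posTorOK Cfsg.Lie.chevE8 (k / 240) (k % 240))) = true := by decide +kernel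
theorem e8Utor_19_28240 : allRange 28240 28280 ((fun k => posTorOK Cfsg.Lie.chevE8 (k / 240) (k % 240))) = true := by decide +kernel
theorem e8Utor_19_28280 : allRange 28280 28320 ((fun k => posTorOK Cfsg.Lie.chevE8 (k / 240) (k % 240))) = true := by decide +kernel
theorem e8Utor_19_28320 : allRange 28320 28360 ((fun k => posTorOK Cfsg.Lie.chevE8 (k / 240) (k % 240))) = true := by decide +kernel
theorem e8Utor_19_28360 : allRange 28360 28400 ((fun k => posTorOK Cfsg.Lie.chevE8 (k / 240) (k % 240))) = true := by decide +kernel
theorem e8Utor_19_28400 : allRange 28400 28440 ((fun k => posTorOK Cfsg.Lie.chevE8 (k / 240) (k % 240))) = true := by decide +kernel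
theorem e8Utor_19_28440 : allRange 28440 28480 ((fun k => posTorOK Cfsg.Lie.chevE8 (k / 240) (k % 240))) = true := by decide +kernel
theorem e8Utor_19_28480 : allRange 28480 28520 ((fun k => posTorOK Cfsg.Lie.chevE8 (k / 240) (k % 240))) = true := by decide +kernel
theorem e8Utor_19_28520 : allRange 28520 28560 ((fun k => posTorOK Cfsg.Lie.chevE8 (k / 240) (k % 240))) = true := by decide +kernel
theorem e8Utor_19_28560 : allRange 28560 28600 ((fun k => posTorOK Cfsg.Lie.chevE8 (k / 240) (k % 240))) = true := by decide +kernel
theorem e8Utor_19_28600 : allRange 28600 28640 ((fun k => posTorOK Cfsg.Lie.chevE8 (k / 240) (k % 240))) = true := by decide +kernel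
theorem e8Utor_19_28640 : allRange 28640 28680 ((fun k => posTorOK Cfsg.Lie.chevE8 (k / 240) (k % 240))) = true := by decide +kernel
theorem e8Utor_19_28680 : allRange 28680 28720 ((fun k => posTorOK Cfsg.Lie.chevE8 (k / 240) (k % 240))) = true := by decide +kernel
theorem e8Utor_19_28720 : allRange 28720 28760 ((fun k => posTorOK Cfsg.Lie.chevE8 (k / 240) (k % 240))) = true := by decide +kernel
theorem e8Utor_19_28760 : allRange 28760 28800 ((fun k => posTorOK Cfsg.Lie.chevE8 (k / 240) (k % 240))) = true := by decide +kernel
theorem e8Utor_19_28800 : allRange 28800 28840 ((fun k => posTorOK Cfsg.Lie.chevE8 (k / 240) (k % 240))) = true := by decide +kernel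
theorem e8Utor_19_28840 : allRange 28840 28880 ((fun k => posTorOK Cfsg.Lie.chevE8 (k / 240) (k % 240))) = true := by decide +kernel
theorem e8Utor_19_28880 : allRange 28880 28920 ((fun k => posTorOK Cfsg.Lie.chevE8 (k / 240) (k % 240))) = true := by decide +kernel
theorem e8Utor_19_28920 : allRange 28920 28960 ((fun k => posTorOK Cfsg.Lie.chevE8 (k / 240) (k % 240))) = true := by decide +kernel
theorem e8Utor_19_28960 : allRange 28960 29000 ((fun k => posTorOK Cfsg.Lie.chevE8 (k / 240) (k % 240))) = true := by decide +kernel
theorem e8Utor_19_29000 : allRange 29000 29040 ((fun k => posTorOK Cfsg.Lie.chevE8 (k / 240) (k % 240))) = true := by decide +kernel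
theorem e8Utor_19_29040 : allRange 29040 29080 ((fun k => posTorOK Cfsg.Lie.chevE8 (k / 240) (k % 240))) = true := by decide +kernel
theorem e8Utor_19_29080 : allRange 29080 29120 ((fun k => posTorOK Cfsg.Lie.chevE8 (k / 240) (k % 240))) = true := by decide +kernel
theorem e8Utor_19_29120 : allRange 29120 29160 ((fun k => posTorOK Cfsg.Lie.chevE8 (k / 240) (k % 240))) = true := by decide +kernel
theorem e8Utor_19_29160 : allRange 29160 29200 ((fun k => posTorOK Cfsg.Lie.chevE8 (k / 240) (k % 240))) = true := by decide +kernel
theorem e8Utor_19_29200 : allRange 29200 29240 ((fun k => posTorOK Cfsg.Lie.chevE8 (k / 240) (k % 240))) = true := by decide +kernel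
theorem e8Utor_19_29240 : allRange 29240 29280 ((fun k => posTorOK Cfsg.Lie.chevE8 (k / 240) (k % 240))) = true := by decide +kernel
theorem e8Utor_19_29280 : allRange 29280 29320 ((fun k => posTorOK Cfsg.Lie.chevE8 (k / 240) (k % 240))) = true := by decide +kernel
theorem e8Utor_19_29320 : allRange 29320 29360 ((fun k => posTorOK Cfsg.Lie.chevE8 (k / 240) (k % 240))) = true := by decide +kernel
theorem e8Utor_19_29360 : allRange 29360 29400 ((fun k => posTorOK Cfsg.Lie.chevE8 (k / 240) (k % 240))) = true := by decide +kernel
theorem e8Utor_19_29400 : allRange 29400 29440 ((fun k => posTorOK Cfsg.Lie.chevE8 (k / 240) (k % 240))) = true := by decide +kernel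
theorem e8Utor_19_29440 : allRange 29440 29480 ((fun k => posTorOK Cfsg.Lie.chevE8 (k / 240) (k % 240))) = true := by decide +kernel
theorem e8Utor_19_29480 : allRange 29480 29520 ((fun k => posTorOK Cfsg.Lie.chevE8 (k / 240) (k % 240))) = true := by decide +kernel
theorem e8Utor_19_29520 : allRange 29520 29560 ((fun k => posTorOK Cfsg.Lie.chevE8 (k / 240) (k % 240))) = true := by decide +kernel
theorem e8Utor_19_29560 : allRange 29560 29600 ((fun k => posTorOK Cfsg.Lie.chevE8 (k / 240) (k % 240))) = true := by decide +kernel

/-- Torus elements separating the pairs of positive roots of type E8 (roots 28120 to 29599). -/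
theorem e8Utor_19 : ∀ r, 28120 ≤ r → r < 29600 → ((fun k => posTorOK Cfsg.Lie.chevE8 (k / 240) (k % 240))) r = true := by
  intro r h1 h2
  by_cases c0 : r < 28160
  · exact allRange_spec e8Utor_19_28120 r (by omega) c0
  by_cases c1 : r < 28200
  · exact allRange_spec e8Utor_19_28160 r (by omega) c1
  by_cases c2 : r < 28240
  · exact allRange_spec e8Utor_19_28200 r (by omega) c2
  by_cases c3 : r < 28280
  · exact allRange_spec e8Utor_19_28240 r (by omega) c3
  by_cases c4 : r < 28320
  · exact allRange_spec e8Utor_19_28280 r (by omega) c4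
  by_cases c5 : r < 28360
  · exact allRange_spec e8Utor_19_28320 r (by omega) c5
  by_cases c6 : r < 28400
  · exact allRange_spec e8Utor_19_28360 r (by omega) c6
  by_cases c7 : r < 28440
  · exact allRange_spec e8Utor_19_28400 r (by omega) c7
  by_cases c8 : r < 28480
  · exact allRange_spec e8Utor_19_28440 r (by omega) c8
  by_cases c9 : r < 28520
  · exact allRange_spec e8Utor_19_28480 r (by omega) c9
  by_cases c10 : r < 28560
  · exact allRange_spec e8Utor_19_28520 r (by omega) c10
  by_cases c11 : r < 28600
  · exact allRange_spec e8Utor_19_28560 r (by omega) c11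
  by_cases c12 : r < 28640
  · exact allRange_spec e8Utor_19_28600 r (by omega) c12
  by_cases c13 : r < 28680
  · exact allRange_spec e8Utor_19_28640 r (by omega) c13
  by_cases c14 : r < 28720
  · exact allRange_spec e8Utor_19_28680 r (by omega) c14
  by_cases c15 : r < 28760
  · exact allRange_spec e8Utor_19_28720 r (by omega) c15
  by_cases c16 : r < 28800
  · exact allRange_spec e8Utor_19_28760 r (by omega) c16
  by_cases c17 : r < 28840
  · exact allRange_spec e8Utor_19_28800 r (by omega) c17
  by_cases c18 : r < 28880
  · exact allRange_spec e8Utor_19_28840 r (by omega) c18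
  by_cases c19 : r < 28920
  · exact allRange_spec e8Utor_19_28880 r (by omega) c19
  by_cases c20 : r < 28960
  · exact allRange_spec e8Utor_19_28920 r (by omega) c20
  by_cases c21 : r < 29000
  · exact allRange_spec e8Utor_19_28960 r (by omega) c21
  by_cases c22 : r < 29040
  · exact allRange_spec e8Utor_19_29000 r (by omega) c22
  by_cases c23 : r < 29080
  · exact allRange_spec e8Utor_19_29040 r (by omega) c23
  by_cases c24 : r < 29120
  · exact allRange_spec e8Utor_19_29080 r (by omega) c24
  by_cases c25 : r < 29160
  · exact allRange_spec e8Utor_19_29120 r (by omega) c25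
  by_cases c26 : r < 29200
  · exact allRange_spec e8Utor_19_29160 r (by omega) c26
  by_cases c27 : r < 29240
  · exact allRange_spec e8Utor_19_29200 r (by omega) c27
  by_cases c28 : r < 29280
  · exact allRange_spec e8Utor_19_29240 r (by omega) c28
  by_cases c29 : r < 29320
  · exact allRange_spec e8Utor_19_29280 r (by omega) c29
  by_cases c30 : r < 29360
  · exact allRange_spec e8Utor_19_29320 r (by omega) c30
  by_cases c31 : r < 29400
  · exact allRange_spec e8Utor_19_29360 r (by omega) c31
  by_cases c32 : r < 29440
  · exact allRange_spec e8Utor_19_29400 r (by omega) c32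
  by_cases c33 : r < 29480
  · exact allRange_spec e8Utor_19_29440 r (by omega) c33
  by_cases c34 : r < 29520
  · exact allRange_spec e8Utor_19_29480 r (by omega) c34
  by_cases c35 : r < 29560
  · exact allRange_spec e8Utor_19_29520 r (by omega) c35
  exact allRange_spec e8Utor_19_29560 r (by omega) h2

end Cfsg.Agent.Lib.Helper3.ChevM
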