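import Cfsg.Prelude.Def_ChevE8
import Cfsg.Agent.Lib.Helper3.StU10
set_option autoImplicit false
set_option maxRecDepth 1000000
set_option Elab.async false

namespace Cfsg.Agent.Lib.Helper3.ChevM
open Cfsg.Agent.Lib.Helper3.StB Cfsg.Agent.Lib.Helper3.StU

theorem e8Utor_20_29600 : allRange 29600 29640 ((fun k => posTorOK Cfsg.Lie.chevE8 (k / 240) (k % 240))) = true := by decide +kernel
theorem e8Utor_20_29640 : allRange 29640 29680 ((fun k => posTorOK Cfsg.Lie.chevE8 (k / 240) (k % 240))) = true := by decide +kernel
theorem e8Utor_20_29680 : allRange 29680 29720 ((fun k => posTorOK Cfsg.Lie.chevE8 (k / 240) (k % 240))) = true := by decide +kernel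
theorem e8Utor_20_29720 : allRange 29720 29760 ((fun k => posTorOK Cfsg.Lie.chevE8 (k / 240) (k % 240))) = true := by decide +kernel
theorem e8Utor_20_29760 : allRange 29760 29800 ((fun k => posTorOK Cfsg.Lie.chevE8 (k / 240) (k % 240))) = true := by decide +kernel
theorem e8Utor_20_29800 : allRange 29800 29840 ((fun k => posTorOK Cfsg.Lie.chevE8 (k / 240) (k % 240))) = true := by decide +kernel
theorem e8Utor_20_29840 : allRange 29840 29880 ((fun k => posTorOK Cfsg.Lie.chevE8 (k / 240) (k % 240))) = true := by decide +kernel
theorem e8Utor_20_29880 : allRange 29880 29920 ((fun k => posTorOK Cfsg.Lie.chevE8 (k / 240) (k % 240))) = true := by decide +kernel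
theorem e8Utor_20_29920 : allRange 29920 29960 ((fun k => posTorOK Cfsg.Lie.chevE8 (k / 240) (k % 240))) = true := by decide +kernel
theorem e8Utor_20_29960 : allRange 29960 30000 ((fun k => posTorOK Cfsg.Lie.chevE8 (k / 240) (k % 240))) = true := by decide +kernel
theorem e8Utor_20_30000 : allRange 30000 30040 ((fun k => posTorOK Cfsg.Lie.chevE8 (k / 240) (k % 240))) = true := by decide +kernel
theorem e8Utor_20_30040 : allRange 30040 30080 ((fun k => posTorOK Cfsg.Lie.chevE8 (k / 240) (k % 240))) = true := by decide +kernel
theorem e8Utor_20_30080 : allRange 30080 30120 ((fun k => posTorOK Cfsg.Lie.chevE8 (k / 240) (k % 240))) = true := by decide +kernel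
theorem e8Utor_20_30120 : allRange 30120 30160 ((fun k => posTorOK Cfsg.Lie.chevE8 (k / 240) (k % 240))) = true := by decide +kernel
theorem e8Utor_20_30160 : allRange 30160 30200 ((fun k => posTorOK Cfsg.Lie.chevE8 (k / 240) (k % 240))) = true := by decide +kernel
theorem e8Utor_20_30200 : allRange 30200 30240 ((fun k => posTorOK Cfsg.Lie.chevE8 (k / 240) (k % 240))) = true := by decide +kernel
theorem e8Utor_20_30240 : allRange 30240 30280 ((fun k => posTorOK Cfsg.Lie.chevE8 (k / 240) (k % 240))) = true := by decide +kernel
theorem e8Utor_20_30280 : allRange 30280 30320 ((fun k => posTorOK Cfsg.Lie.chevE8 (k / 240) (k % 240))) = true := by decide +kernel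
theorem e8Utor_20_30320 : allRange 30320 30360 ((fun k => posTorOK Cfsg.Lie.chevE8 (k / 240) (k % 240))) = true := by decide +kernel
theorem e8Utor_20_30360 : allRange 30360 30400 ((fun k => posTorOK Cfsg.Lie.chevE8 (k / 240) (k % 240))) = true := by decide +kernel
theorem e8Utor_20_30400 : allRange 30400 30440 ((fun k => posTorOK Cfsg.Lie.chevE8 (k / 240) (k % 240))) = true := by decide +kernel
theorem e8Utor_20_30440 : allRange 30440 30480 ((fun k => posTorOK Cfsg.Lie.chevE8 (k / 240) (k % 240))) = true := by decide +kernel
theorem e8Utor_20_30480 : allRange 30480 30520 ((fun k => posTorOK Cfsg.Lie.chevE8 (k / 240) (k % 240))) = true := by decide +kernel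
theorem e8Utor_20_30520 : allRange 30520 30560 ((fun k => posTorOK Cfsg.Lie.chevE8 (k / 240) (k % 240))) = true := by decide +kernel
theorem e8Utor_20_30560 : allRange 30560 30600 ((fun k => posTorOK Cfsg.Lie.chevE8 (k / 240) (k % 240))) = true := by decide +kernel
theorem e8Utor_20_30600 : allRange 30600 30640 ((fun k => posTorOK Cfsg.Lie.chevE8 (k / 240) (k % 240))) = true := by decide +kernel
theorem e8Utor_20_30640 : allRange 30640 30680 ((fun k => posTorOK Cfsg.Lie.chevE8 (k / 240) (k % 240))) = true := by decide +kernel
theorem e8Utor_20_30680 : allRange 30680 30720 ((fun k => posTorOK Cfsg.Lie.chevE8 (k / 240) (k % 240))) = true := by decide +kernel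
theorem e8Utor_20_30720 : allRange 30720 30760 ((fun k => posTorOK Cfsg.Lie.chevE8 (k / 240) (k % 240))) = true := by decide +kernel
theorem e8Utor_20_30760 : allRange 30760 30800 ((fun k => posTorOK Cfsg.Lie.chevE8 (k / 240) (k % 240))) = true := by decide +kernel
theorem e8Utor_20_30800 : allRange 30800 30840 ((fun k => posTorOK Cfsg.Lie.chevE8 (k / 240) (k % 240))) = true := by decide +kernel
theorem e8Utor_20_30840 : allRange 30840 30880 ((fun k => posTorOK Cfsg.Lie.chevE8 (k / 240) (k % 240))) = true := by decide +kernel
theorem e8Utor_20_30880 : allRange 30880 30920 ((fun k => posTorOK Cfsg.Lie.chevE8 (k / 240) (k % 240))) = true := by decide +kernel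
theorem e8Utor_20_30920 : allRange 30920 30960 ((fun k => posTorOK Cfsg.Lie.chevE8 (k / 240) (k % 240))) = true := by decide +kernel
theorem e8Utor_20_30960 : allRange 30960 31000 ((fun k => posTorOK Cfsg.Lie.chevE8 (k / 240) (k % 240))) = true := by decide +kernel
theorem e8Utor_20_31000 : allRange 31000 31040 ((fun k => posTorOK Cfsg.Lie.chevE8 (k / 240) (k % 240))) = true := by decide +kernel
theorem e8Utor_20_31040 : allRange 31040 31080 ((fun k => posTorOK Cfsg.Lie.chevE8 (k / 240) (k % 240))) = true := by decide +kernel

/-- Torus elements separating the pairs of positive roots of type E8 (roots 29600 to 31079). -/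
theorem e8Utor_20 : ∀ r, 29600 ≤ r → r < 31080 → ((fun k => posTorOK Cfsg.Lie.chevE8 (k / 240) (k % 240))) r = true := by
  intro r h1 h2
  by_cases c0 : r < 29640
  · exact allRange_spec e8Utor_20_29600 r (by omega) c0
  by_cases c1 : r < 29680
  · exact allRange_spec e8Utor_20_29640 r (by omega) c1
  by_cases c2 : r < 29720
  · exact allRange_spec e8Utor_20_29680 r (by omega) c2
  by_cases c3 : r < 29760
  · exact allRange_spec e8Utor_20_29720 r (by omega) c3
  by_cases c4 : r < 29800
  · exact allRange_spec e8Utor_20_29760 r (by omega) c4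
  by_cases c5 : r < 29840
  · exact allRange_spec e8Utor_20_29800 r (by omega) c5
  by_cases c6 : r < 29880
  · exact allRange_spec e8Utor_20_29840 r (by omega) c6
  by_cases c7 : r < 29920
  · exact allRange_spec e8Utor_20_29880 r (by omega) c7
  by_cases c8 : r < 29960
  · exact allRange_spec e8Utor_20_29920 r (by omega) c8
  by_cases c9 : r < 30000
  · exact allRange_spec e8Utor_20_29960 r (by omega) c9
  by_cases c10 : r < 30040
  · exact allRange_spec e8Utor_20_30000 r (by omega) c10
  by_cases c11 : r < 30080
  · exact allRange_spec e8Utor_20_30040 r (by omega) c11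
  by_cases c12 : r < 30120
  · exact allRange_spec e8Utor_20_30080 r (by omega) c12
  by_cases c13 : r < 30160
  · exact allRange_spec e8Utor_20_30120 r (by omega) c13
  by_cases c14 : r < 30200
  · exact allRange_spec e8Utor_20_30160 r (by omega) c14
  by_cases c15 : r < 30240
  · exact allRange_spec e8Utor_20_30200 r (by omega) c15
  by_cases c16 : r < 30280
  · exact allRange_spec e8Utor_20_30240 r (by omega) c16
  by_cases c17 : r < 30320
  · exact allRange_spec e8Utor_20_30280 r (by omega) c17
  by_cases c18 : r < 30360
  · exact allRange_spec e8Utor_20_30320 r (by omega) c18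
  by_cases c19 : r < 30400
  · exact allRange_spec e8Utor_20_30360 r (by omega) c19
  by_cases c20 : r < 30440
  · exact allRange_spec e8Utor_20_30400 r (by omega) c20
  by_cases c21 : r < 30480
  · exact allRange_spec e8Utor_20_30440 r (by omega) c21
  by_cases c22 : r < 30520
  · exact allRange_spec e8Utor_20_30480 r (by omega) c22
  by_cases c23 : r < 30560
  · exact allRange_spec e8Utor_20_30520 r (by omega) c23
  by_cases c24 : r < 30600
  · exact allRange_spec e8Utor_20_30560 r (by omega) c24
  by_cases c25 : r < 30640
  · exact allRange_spec e8Utor_20_30600 r (by omega) c25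
  by_cases c26 : r < 30680
  · exact allRange_spec e8Utor_20_30640 r (by omega) c26
  by_cases c27 : r < 30720
  · exact allRange_spec e8Utor_20_30680 r (by omega) c27
  by_cases c28 : r < 30760
  · exact allRange_spec e8Utor_20_30720 r (by omega) c28
  by_cases c29 : r < 30800
  · exact allRange_spec e8Utor_20_30760 r (by omega) c29
  by_cases c30 : r < 30840
  · exact allRange_spec e8Utor_20_30800 r (by omega) c30
  by_cases c31 : r < 30880
  · exact allRange_spec e8Utor_20_30840 r (by omega) c31
  by_cases c32 : r < 30920
  · exact allRange_spec e8Utor_20_30880 r (by omega) c32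
  by_cases c33 : r < 30960
  · exact allRange_spec e8Utor_20_30920 r (by omega) c33
  by_cases c34 : r < 31000
  · exact allRange_spec e8Utor_20_30960 r (by omega) c34
  by_cases c35 : r < 31040
  · exact allRange_spec e8Utor_20_31000 r (by omega) c35
  exact allRange_spec e8Utor_20_31040 r (by omega) h2

end Cfsg.Agent.Lib.Helper3.ChevM
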