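import Cfsg.Prelude.Def_ChevE8
import Cfsg.Agent.Lib.Helper3.StU10
set_option autoImplicit false
set_option maxRecDepth 1000000
set_option Elab.async false

namespace Cfsg.Agent.Lib.Helper3.ChevM
open Cfsg.Agent.Lib.Helper3.StB Cfsg.Agent.Lib.Helper3.StU

theorem e8Utor_22_32560 : allRange 32560 32600 ((fun k => posTorOK Cfsg.Lie.chevE8 (k / 240) (k % 240))) = true := by decide +kernel
theorem e8Utor_22_32600 : allRange 32600 32640 ((fun k => posTorOK Cfsg.Lie.chevE8 (k / 240) (k % 240))) = true := by decide +kernel
theorem e8Utor_22_32640 : allRange 32640 32680 ((fun k => posTorOK Cfsg.Lie.chevE8 (k / 240) (k % 240))) = true := by decide +kernel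
theorem e8Utor_22_32680 : allRange 32680 32720 ((fun k => posTorOK Cfsg.Lie.chevE8 (k / 240) (k % 240))) = true := by decide +kernel
theorem e8Utor_22_32720 : allRange 32720 32760 ((fun k => posTorOK Cfsg.Lie.chevE8 (k / 240) (k % 240))) = true := by decide +kernel
theorem e8Utor_22_32760 : allRange 32760 32800 ((fun k => posTorOK Cfsg.Lie.chevE8 (k / 240) (k % 240))) = true := by decide +kernel
theorem e8Utor_22_32800 : allRange 32800 32840 ((fun k => posTorOK Cfsg.Lie.chevE8 (k / 240) (k % 240))) = true := by decide +kernel
theorem e8Utor_22_32840 : allRange 32840 32880 ((fun k => posTorOK Cfsg.Lie.chevE8 (k / 240) (k % 240))) = true := by decide +kernel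
theorem e8Utor_22_32880 : allRange 32880 32920 ((fun k => posTorOK Cfsg.Lie.chevE8 (k / 240) (k % 240))) = true := by decide +kernel
theorem e8Utor_22_32920 : allRange 32920 32960 ((fun k => posTorOK Cfsg.Lie.chevE8 (k / 240) (k % 240))) = true := by decide +kernel
theorem e8Utor_22_32960 : allRange 32960 33000 ((fun k => posTorOK Cfsg.Lie.chevE8 (k / 240) (k % 240))) = true := by decide +kernel
theorem e8Utor_22_33000 : allRange 33000 33040 ((fun k => posTorOK Cfsg.Lie.chevE8 (k / 240) (k % 240))) = true := by decide +kernel
theorem e8Utor_22_33040 : allRange 33040 33080 ((fun k => posTorOK Cfsg.Lie.chevE8 (k / 240) (k % 240))) = true := by decide +kernel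
theorem e8Utor_22_33080 : allRange 33080 33120 ((fun k => posTorOK Cfsg.Lie.chevE8 (k / 240) (k % 240))) = true := by decide +kernel
theorem e8Utor_22_33120 : allRange 33120 33160 ((fun k => posTorOK Cfsg.Lie.chevE8 (k / 240) (k % 240))) = true := by decide +kernel
theorem e8Utor_22_33160 : allRange 33160 33200 ((fun k => posTorOK Cfsg.Lie.chevE8 (k / 240) (k % 240))) = true := by decide +kernel
theorem e8Utor_22_33200 : allRange 33200 33240 ((fun k => posTorOK Cfsg.Lie.chevE8 (k / 240) (k % 240))) = true := by decide +kernel
theorem e8Utor_22_33240 : allRange 33240 33280 ((fun k => posTorOK Cfsg.Lie.chevE8 (k / 240) (k % 240))) = true := by decide +kernel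
theorem e8Utor_22_33280 : allRange 33280 33320 ((fun k => posTorOK Cfsg.Lie.chevE8 (k / 240) (k % 240))) = true := by decide +kernel
theorem e8Utor_22_33320 : allRange 33320 33360 ((fun k => posTorOK Cfsg.Lie.chevE8 (k / 240) (k % 240))) = true := by decide +kernel
theorem e8Utor_22_33360 : allRange 33360 33400 ((fun k => posTorOK Cfsg.Lie.chevE8 (k / 240) (k % 240))) = true := by decide +kernel
theorem e8Utor_22_33400 : allRange 33400 33440 ((fun k => posTorOK Cfsg.Lie.chevE8 (k / 240) (k % 240))) = true := by decide +kernel
theorem e8Utor_22_33440 : allRange 33440 33480 ((fun k => posTorOK Cfsg.Lie.chevE8 (k / 240) (k % 240))) = true := by decide +kernel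
theorem e8Utor_22_33480 : allRange 33480 33520 ((fun k => posTorOK Cfsg.Lie.chevE8 (k / 240) (k % 240))) = true := by decide +kernel
theorem e8Utor_22_33520 : allRange 33520 33560 ((fun k => posTorOK Cfsg.Lie.chevE8 (k / 240) (k % 240))) = true := by decide +kernel
theorem e8Utor_22_33560 : allRange 33560 33600 ((fun k => posTorOK Cfsg.Lie.chevE8 (k / 240) (k % 240))) = true := by decide +kernel
theorem e8Utor_22_33600 : allRange 33600 33640 ((fun k => posTorOK Cfsg.Lie.chevE8 (k / 240) (k % 240))) = true := by decide +kernel
theorem e8Utor_22_33640 : allRange 33640 33680 ((fun k => posTorOK Cfsg.Lie.chevE8 (k / 240) (k % 240))) = true := by decide +kernel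
theorem e8Utor_22_33680 : allRange 33680 33720 ((fun k => posTorOK Cfsg.Lie.chevE8 (k / 240) (k % 240))) = true := by decide +kernel
theorem e8Utor_22_33720 : allRange 33720 33760 ((fun k => posTorOK Cfsg.Lie.chevE8 (k / 240) (k % 240))) = true := by decide +kernel
theorem e8Utor_22_33760 : allRange 33760 33800 ((fun k => posTorOK Cfsg.Lie.chevE8 (k / 240) (k % 240))) = true := by decide +kernel
theorem e8Utor_22_33800 : allRange 33800 33840 ((fun k => posTorOK Cfsg.Lie.chevE8 (k / 240) (k % 240))) = true := by decide +kernel
theorem e8Utor_22_33840 : allRange 33840 33880 ((fun k => posTorOK Cfsg.Lie.chevE8 (k / 240) (k % 240))) = true := by decide +kernel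
theorem e8Utor_22_33880 : allRange 33880 33920 ((fun k => posTorOK Cfsg.Lie.chevE8 (k / 240) (k % 240))) = true := by decide +kernel
theorem e8Utor_22_33920 : allRange 33920 33960 ((fun k => posTorOK Cfsg.Lie.chevE8 (k / 240) (k % 240))) = true := by decide +kernel
theorem e8Utor_22_33960 : allRange 33960 34000 ((fun k => posTorOK Cfsg.Lie.chevE8 (k / 240) (k % 240))) = true := by decide +kernel
theorem e8Utor_22_34000 : allRange 34000 34040 ((fun k => posTorOK Cfsg.Lie.chevE8 (k / 240) (k % 240))) = true := by decide +kernel

/-- Torus elements separating the pairs of positive roots of type E8 (roots 32560 to 34039). -/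
theorem e8Utor_22 : ∀ r, 32560 ≤ r → r < 34040 → ((fun k => posTorOK Cfsg.Lie.chevE8 (k / 240) (k % 240))) r = true := by
  intro r h1 h2
  by_cases c0 : r < 32600
  · exact allRange_spec e8Utor_22_32560 r (by omega) c0
  by_cases c1 : r < 32640
  · exact allRange_spec e8Utor_22_32600 r (by omega) c1
  by_cases c2 : r < 32680
  · exact allRange_spec e8Utor_22_32640 r (by omega) c2
  by_cases c3 : r < 32720
  · exact allRange_spec e8Utor_22_32680 r (by omega) c3
  by_cases c4 : r < 32760
  · exact allRange_spec e8Utor_22_32720 r (by omega) c4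
  by_cases c5 : r < 32800
  · exact allRange_spec e8Utor_22_32760 r (by omega) c5
  by_cases c6 : r < 32840
  · exact allRange_spec e8Utor_22_32800 r (by omega) c6
  by_cases c7 : r < 32880
  · exact allRange_spec e8Utor_22_32840 r (by omega) c7
  by_cases c8 : r < 32920
  · exact allRange_spec e8Utor_22_32880 r (by omega) c8
  by_cases c9 : r < 32960
  · exact allRange_spec e8Utor_22_32920 r (by omega) c9
  by_cases c10 : r < 33000
  · exact allRange_spec e8Utor_22_32960 r (by omega) c10
  by_cases c11 : r < 33040
  · exact allRange_spec e8Utor_22_33000 r (by omega) c11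
  by_cases c12 : r < 33080
  · exact allRange_spec e8Utor_22_33040 r (by omega) c12
  by_cases c13 : r < 33120
  · exact allRange_spec e8Utor_22_33080 r (by omega) c13
  by_cases c14 : r < 33160
  · exact allRange_spec e8Utor_22_33120 r (by omega) c14
  by_cases c15 : r < 33200
  · exact allRange_spec e8Utor_22_33160 r (by omega) c15
  by_cases c16 : r < 33240
  · exact allRange_spec e8Utor_22_33200 r (by omega) c16
  by_cases c17 : r < 33280
  · exact allRange_spec e8Utor_22_33240 r (by omega) c17
  by_cases c18 : r < 33320
  · exact allRange_spec e8Utor_22_33280 r (by omega) c18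
  by_cases c19 : r < 33360
  · exact allRange_spec e8Utor_22_33320 r (by omega) c19
  by_cases c20 : r < 33400
  · exact allRange_spec e8Utor_22_33360 r (by omega) c20
  by_cases c21 : r < 33440
  · exact allRange_spec e8Utor_22_33400 r (by omega) c21
  by_cases c22 : r < 33480
  · exact allRange_spec e8Utor_22_33440 r (by omega) c22
  by_cases c23 : r < 33520
  · exact allRange_spec e8Utor_22_33480 r (by omega) c23
  by_cases c24 : r < 33560
  · exact allRange_spec e8Utor_22_33520 r (by omega) c24
  by_cases c25 : r < 33600
  · exact allRange_spec e8Utor_22_33560 r (by omega) c25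
  by_cases c26 : r < 33640
  · exact allRange_spec e8Utor_22_33600 r (by omega) c26
  by_cases c27 : r < 33680
  · exact allRange_spec e8Utor_22_33640 r (by omega) c27
  by_cases c28 : r < 33720
  · exact allRange_spec e8Utor_22_33680 r (by omega) c28
  by_cases c29 : r < 33760
  · exact allRange_spec e8Utor_22_33720 r (by omega) c29
  by_cases c30 : r < 33800
  · exact allRange_spec e8Utor_22_33760 r (by omega) c30
  by_cases c31 : r < 33840
  · exact allRange_spec e8Utor_22_33800 r (by omega) c31
  by_cases c32 : r < 33880
  · exact allRange_spec e8Utor_22_33840 r (by omega) c32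
  by_cases c33 : r < 33920
  · exact allRange_spec e8Utor_22_33880 r (by omega) c33
  by_cases c34 : r < 33960
  · exact allRange_spec e8Utor_22_33920 r (by omega) c34
  by_cases c35 : r < 34000
  · exact allRange_spec e8Utor_22_33960 r (by omega) c35
  exact allRange_spec e8Utor_22_34000 r (by omega) h2

end Cfsg.Agent.Lib.Helper3.ChevM
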