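import Cfsg.Prelude.Def_ChevE8
import Cfsg.Agent.Lib.Helper3.StU10
set_option autoImplicit false
set_option maxRecDepth 1000000
set_option Elab.async false

namespace Cfsg.Agent.Lib.Helper3.ChevM
open Cfsg.Agent.Lib.Helper3.StB Cfsg.Agent.Lib.Helper3.StU

theorem e8Utor_23_34040 : allRange 34040 34080 ((fun k => posTorOK Cfsg.Lie.chevE8 (k / 240) (k % 240))) = true := by decide +kernel
theorem e8Utor_23_34080 : allRange 34080 34120 ((fun k => posTorOK Cfsg.Lie.chevE8 (k / 240) (k % 240))) = true := by decide +kernel
theorem e8Utor_23_34120 : allRange 34120 34160 ((fun k => posTorOK Cfsg.Lie.chevE8 (k / 240) (k % 240))) = true := by decide +kernel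
theorem e8Utor_23_34160 : allRange 34160 34200 ((fun k => posTorOK Cfsg.Lie.chevE8 (k / 240) (k % 240))) = true := by decide +kernel
theorem e8Utor_23_34200 : allRange 34200 34240 ((fun k => posTorOK Cfsg.Lie.chevE8 (k / 240) (k % 240))) = true := by decide +kernel
theorem e8Utor_23_34240 : allRange 34240 34280 ((fun k => posTorOK Cfsg.Lie.chevE8 (k / 240) (k % 240))) = true := by decide +kernel
theorem e8Utor_23_34280 : allRange 34280 34320 ((fun k => posTorOK Cfsg.Lie.chevE8 (k / 240) (k % 240))) = true := by decide +kernel
theorem e8Utor_23_34320 : allRange 34320 34360 ((fun k => posTorOK Cfsg.Lie.chevE8 (k / 240) (k % 240))) = true := by decide +kernel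
theorem e8Utor_23_34360 : allRange 34360 34400 ((fun k => posTorOK Cfsg.Lie.chevE8 (k / 240) (k % 240))) = true := by decide +kernel
theorem e8Utor_23_34400 : allRange 34400 34440 ((fun k => posTorOK Cfsg.Lie.chevE8 (k / 240) (k % 240))) = true := by decide +kernel
theorem e8Utor_23_34440 : allRange 34440 34480 ((fun k => posTorOK Cfsg.Lie.chevE8 (k / 240) (k % 240))) = true := by decide +kernel
theorem e8Utor_23_34480 : allRange 34480 34520 ((fun k => posTorOK Cfsg.Lie.chevE8 (k / 240) (k % 240))) = true := by decide +kernel
theorem e8Utor_23_34520 : allRange 34520 34560 ((fun k => posTorOK Cfsg.Lie.chevE8 (k / 240) (k % 240))) = true := by decide +kernel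
theorem e8Utor_23_34560 : allRange 34560 34600 ((fun k => posTorOK Cfsg.Lie.chevE8 (k / 240) (k % 240))) = true := by decide +kernel
theorem e8Utor_23_34600 : allRange 34600 34640 ((fun k => posTorOK Cfsg.Lie.chevE8 (k / 240) (k % 240))) = true := by decide +kernel
theorem e8Utor_23_34640 : allRange 34640 34680 ((fun k => posTorOK Cfsg.Lie.chevE8 (k / 240) (k % 240))) = true := by decide +kernel
theorem e8Utor_23_34680 : allRange 34680 34720 ((fun k => posTorOK Cfsg.Lie.chevE8 (k / 240) (k % 240))) = true := by decide +kernel
theorem e8Utor_23_34720 : allRange 34720 34760 ((fun k => posTorOK Cfsg.Lie.chevE8 (k / 240) (k % 240))) = true := by decide +kernel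
theorem e8Utor_23_34760 : allRange 34760 34800 ((fun k => posTorOK Cfsg.Lie.chevE8 (k / 240) (k % 240))) = true := by decide +kernel
theorem e8Utor_23_34800 : allRange 34800 34840 ((fun k => posTorOK Cfsg.Lie.chevE8 (k / 240) (k % 240))) = true := by decide +kernel
theorem e8Utor_23_34840 : allRange 34840 34880 ((fun k => posTorOK Cfsg.Lie.chevE8 (k / 240) (k % 240))) = true := by decide +kernel
theorem e8Utor_23_34880 : allRange 34880 34920 ((fun k => posTorOK Cfsg.Lie.chevE8 (k / 240) (k % 240))) = true := by decide +kernel
theorem e8Utor_23_34920 : allRange 34920 34960 ((fun k => posTorOK Cfsg.Lie.chevE8 (k / 240) (k % 240))) = true := by decide +kernel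
theorem e8Utor_23_34960 : allRange 34960 35000 ((fun k => posTorOK Cfsg.Lie.chevE8 (k / 240) (k % 240))) = true := by decide +kernel
theorem e8Utor_23_35000 : allRange 35000 35040 ((fun k => posTorOK Cfsg.Lie.chevE8 (k / 240) (k % 240))) = true := by decide +kernel
theorem e8Utor_23_35040 : allRange 35040 35080 ((fun k => posTorOK Cfsg.Lie.chevE8 (k / 240) (k % 240))) = true := by decide +kernel
theorem e8Utor_23_35080 : allRange 35080 35120 ((fun k => posTorOK Cfsg.Lie.chevE8 (k / 240) (k % 240))) = true := by decide +kernel
theorem e8Utor_23_35120 : allRange 35120 35160 ((fun k => posTorOK Cfsg.Lie.chevE8 (k / 240) (k % 240))) = true := by decide +kernel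
theorem e8Utor_23_35160 : allRange 35160 35200 ((fun k => posTorOK Cfsg.Lie.chevE8 (k / 240) (k % 240))) = true := by decide +kernel
theorem e8Utor_23_35200 : allRange 35200 35240 ((fun k => posTorOK Cfsg.Lie.chevE8 (k / 240) (k % 240))) = true := by decide +kernel
theorem e8Utor_23_35240 : allRange 35240 35280 ((fun k => posTorOK Cfsg.Lie.chevE8 (k / 240) (k % 240))) = true := by decide +kernel
theorem e8Utor_23_35280 : allRange 35280 35320 ((fun k => posTorOK Cfsg.Lie.chevE8 (k / 240) (k % 240))) = true := by decide +kernel
theorem e8Utor_23_35320 : allRange 35320 35360 ((fun k => posTorOK Cfsg.Lie.chevE8 (k / 240) (k % 240))) = true := by decide +kernel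
theorem e8Utor_23_35360 : allRange 35360 35400 ((fun k => posTorOK Cfsg.Lie.chevE8 (k / 240) (k % 240))) = true := by decide +kernel
theorem e8Utor_23_35400 : allRange 35400 35440 ((fun k => posTorOK Cfsg.Lie.chevE8 (k / 240) (k % 240))) = true := by decide +kernel
theorem e8Utor_23_35440 : allRange 35440 35480 ((fun k => posTorOK Cfsg.Lie.chevE8 (k / 240) (k % 240))) = true := by decide +kernel
theorem e8Utor_23_35480 : allRange 35480 35520 ((fun k => posTorOK Cfsg.Lie.chevE8 (k / 240) (k % 240))) = true := by decide +kernel

/-- Torus elements separating the pairs of positive roots of type E8 (roots 34040 to 35519). -/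
theorem e8Utor_23 : ∀ r, 34040 ≤ r → r < 35520 → ((fun k => posTorOK Cfsg.Lie.chevE8 (k / 240) (k % 240))) r = true := by
  intro r h1 h2
  by_cases c0 : r < 34080
  · exact allRange_spec e8Utor_23_34040 r (by omega) c0
  by_cases c1 : r < 34120
  · exact allRange_spec e8Utor_23_34080 r (by omega) c1
  by_cases c2 : r < 34160
  · exact allRange_spec e8Utor_23_34120 r (by omega) c2
  by_cases c3 : r < 34200
  · exact allRange_spec e8Utor_23_34160 r (by omega) c3
  by_cases c4 : r < 34240
  · exact allRange_spec e8Utor_23_34200 r (by omega) c4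
  by_cases c5 : r < 34280
  · exact allRange_spec e8Utor_23_34240 r (by omega) c5
  by_cases c6 : r < 34320
  · exact allRange_spec e8Utor_23_34280 r (by omega) c6
  by_cases c7 : r < 34360
  · exact allRange_spec e8Utor_23_34320 r (by omega) c7
  by_cases c8 : r < 34400
  · exact allRange_spec e8Utor_23_34360 r (by omega) c8
  by_cases c9 : r < 34440
  · exact allRange_spec e8Utor_23_34400 r (by omega) c9
  by_cases c10 : r < 34480
  · exact allRange_spec e8Utor_23_34440 r (by omega) c10
  by_cases c11 : r < 34520
  · exact allRange_spec e8Utor_23_34480 r (by omega) c11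
  by_cases c12 : r < 34560
  · exact allRange_spec e8Utor_23_34520 r (by omega) c12
  by_cases c13 : r < 34600
  · exact allRange_spec e8Utor_23_34560 r (by omega) c13
  by_cases c14 : r < 34640
  · exact allRange_spec e8Utor_23_34600 r (by omega) c14
  by_cases c15 : r < 34680
  · exact allRange_spec e8Utor_23_34640 r (by omega) c15
  by_cases c16 : r < 34720
  · exact allRange_spec e8Utor_23_34680 r (by omega) c16
  by_cases c17 : r < 34760
  · exact allRange_spec e8Utor_23_34720 r (by omega) c17
  by_cases c18 : r < 34800
  · exact allRange_spec e8Utor_23_34760 r (by omega) c18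
  by_cases c19 : r < 34840
  · exact allRange_spec e8Utor_23_34800 r (by omega) c19
  by_cases c20 : r < 34880
  · exact allRange_spec e8Utor_23_34840 r (by omega) c20
  by_cases c21 : r < 34920
  · exact allRange_spec e8Utor_23_34880 r (by omega) c21
  by_cases c22 : r < 34960
  · exact allRange_spec e8Utor_23_34920 r (by omega) c22
  by_cases c23 : r < 35000
  · exact allRange_spec e8Utor_23_34960 r (by omega) c23
  by_cases c24 : r < 35040
  · exact allRange_spec e8Utor_23_35000 r (by omega) c24
  by_cases c25 : r < 35080
  · exact allRange_spec e8Utor_23_35040 r (by omega) c25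
  by_cases c26 : r < 35120
  · exact allRange_spec e8Utor_23_35080 r (by omega) c26
  by_cases c27 : r < 35160
  · exact allRange_spec e8Utor_23_35120 r (by omega) c27
  by_cases c28 : r < 35200
  · exact allRange_spec e8Utor_23_35160 r (by omega) c28
  by_cases c29 : r < 35240
  · exact allRange_spec e8Utor_23_35200 r (by omega) c29
  by_cases c30 : r < 35280
  · exact allRange_spec e8Utor_23_35240 r (by omega) c30
  by_cases c31 : r < 35320
  · exact allRange_spec e8Utor_23_35280 r (by omega) c31
  by_cases c32 : r < 35360
  · exact allRange_spec e8Utor_23_35320 r (by omega) c32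
  by_cases c33 : r < 35400
  · exact allRange_spec e8Utor_23_35360 r (by omega) c33
  by_cases c34 : r < 35440
  · exact allRange_spec e8Utor_23_35400 r (by omega) c34
  by_cases c35 : r < 35480
  · exact allRange_spec e8Utor_23_35440 r (by omega) c35
  exact allRange_spec e8Utor_23_35480 r (by omega) h2

end Cfsg.Agent.Lib.Helper3.ChevM
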