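import Cfsg.Prelude.Def_ChevE8
import Cfsg.Agent.Lib.Helper3.StU10
set_option autoImplicit false
set_option maxRecDepth 1000000
set_option Elab.async false

namespace Cfsg.Agent.Lib.Helper3.ChevM
open Cfsg.Agent.Lib.Helper3.StB Cfsg.Agent.Lib.Helper3.StU

theorem e8Utor_24_35520 : allRange 35520 35560 ((fun k => posTorOK Cfsg.Lie.chevE8 (k / 240) (k % 240))) = true := by decide +kernel
theorem e8Utor_24_35560 : allRange 35560 35600 ((fun k => posTorOK Cfsg.Lie.chevE8 (k / 240) (k % 240))) = true := by decide +kernel
theorem e8Utor_24_35600 : allRange 35600 35640 ((fun k => posTorOK Cfsg.Lie.chevE8 (k / 240) (k % 240))) = true := by decide +kernel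
theorem e8Utor_24_35640 : allRange 35640 35680 ((fun k => posTorOK Cfsg.Lie.chevE8 (k / 240) (k % 240))) = true := by decide +kernel
theorem e8Utor_24_35680 : allRange 35680 35720 ((fun k => posTorOK Cfsg.Lie.chevE8 (k / 240) (k % 240))) = true := by decide +kernel
theorem e8Utor_24_35720 : allRange 35720 35760 ((fun k => posTorOK Cfsg.Lie.chevE8 (k / 240) (k % 240))) = true := by decide +kernel
theorem e8Utor_24_35760 : allRange 35760 35800 ((fun k => posTorOK Cfsg.Lie.chevE8 (k / 240) (k % 240))) = true := by decide +kernel
theorem e8Utor_24_35800 : allRange 35800 35840 ((fun k => posTorOK Cfsg.Lie.chevE8 (k / 240) (k % 240))) = true := by decide +kernel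
theorem e8Utor_24_35840 : allRange 35840 35880 ((fun k => posTorOK Cfsg.Lie.chevE8 (k / 240) (k % 240))) = true := by decide +kernel
theorem e8Utor_24_35880 : allRange 35880 35920 ((fun k => posTorOK Cfsg.Lie.chevE8 (k / 240) (k % 240))) = true := by decide +kernel
theorem e8Utor_24_35920 : allRange 35920 35960 ((fun k => posTorOK Cfsg.Lie.chevE8 (k / 240) (k % 240))) = true := by decide +kernel
theorem e8Utor_24_35960 : allRange 35960 36000 ((fun k => posTorOK Cfsg.Lie.chevE8 (k / 240) (k % 240))) = true := by decide +kernel
theorem e8Utor_24_36000 : allRange 36000 36040 ((fun k => posTorOK Cfsg.Lie.chevE8 (k / 240) (k % 240))) = true := by decide +kernel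
theorem e8Utor_24_36040 : allRange 36040 36080 ((fun k => posTorOK Cfsg.Lie.chevE8 (k / 240) (k % 240))) = true := by decide +kernel
theorem e8Utor_24_36080 : allRange 36080 36120 ((fun k => posTorOK Cfsg.Lie.chevE8 (k / 240) (k % 240))) = true := by decide +kernel
theorem e8Utor_24_36120 : allRange 36120 36160 ((fun k => posTorOK Cfsg.Lie.chevE8 (k / 240) (k % 240))) = true := by decide +kernel
theorem e8Utor_24_36160 : allRange 36160 36200 ((fun k => posTorOK Cfsg.Lie.chevE8 (k / 240) (k % 240))) = true := by decide +kernel
theorem e8Utor_24_36200 : allRange 36200 36240 ((fun k => posTorOK Cfsg.Lie.chevE8 (k / 240) (k % 240))) = true := by decide +kernel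
theorem e8Utor_24_36240 : allRange 36240 36280 ((fun k => posTorOK Cfsg.Lie.chevE8 (k / 240) (k % 240))) = true := by decide +kernel
theorem e8Utor_24_36280 : allRange 36280 36320 ((fun k => posTorOK Cfsg.Lie.chevE8 (k / 240) (k % 240))) = true := by decide +kernel
theorem e8Utor_24_36320 : allRange 36320 36360 ((fun k => posTorOK Cfsg.Lie.chevE8 (k / 240) (k % 240))) = true := by decide +kernel
theorem e8Utor_24_36360 : allRange 36360 36400 ((fun k => posTorOK Cfsg.Lie.chevE8 (k / 240) (k % 240))) = true := by decide +kernel
theorem e8Utor_24_36400 : allRange 36400 36440 ((fun k => posTorOK Cfsg.Lie.chevE8 (k / 240) (k % 240))) = true := by decide +kernel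
theorem e8Utor_24_36440 : allRange 36440 36480 ((fun k => posTorOK Cfsg.Lie.chevE8 (k / 240) (k % 240))) = true := by decide +kernel
theorem e8Utor_24_36480 : allRange 36480 36520 ((fun k => posTorOK Cfsg.Lie.chevE8 (k / 240) (k % 240))) = true := by decide +kernel
theorem e8Utor_24_36520 : allRange 36520 36560 ((fun k => posTorOK Cfsg.Lie.chevE8 (k / 240) (k % 240))) = true := by decide +kernel
theorem e8Utor_24_36560 : allRange 36560 36600 ((fun k => posTorOK Cfsg.Lie.chevE8 (k / 240) (k % 240))) = true := by decide +kernel
theorem e8Utor_24_36600 : allRange 36600 36640 ((fun k => posTorOK Cfsg.Lie.chevE8 (k / 240) (k % 240))) = true := by decide +kernel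
theorem e8Utor_24_36640 : allRange 36640 36680 ((fun k => posTorOK Cfsg.Lie.chevE8 (k / 240) (k % 240))) = true := by decide +kernel
theorem e8Utor_24_36680 : allRange 36680 36720 ((fun k => posTorOK Cfsg.Lie.chevE8 (k / 240) (k % 240))) = true := by decide +kernel
theorem e8Utor_24_36720 : allRange 36720 36760 ((fun k => posTorOK Cfsg.Lie.chevE8 (k / 240) (k % 240))) = true := by decide +kernel
theorem e8Utor_24_36760 : allRange 36760 36800 ((fun k => posTorOK Cfsg.Lie.chevE8 (k / 240) (k % 240))) = true := by decide +kernel
theorem e8Utor_24_36800 : allRange 36800 36840 ((fun k => posTorOK Cfsg.Lie.chevE8 (k / 240) (k % 240))) = true := by decide +kernel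
theorem e8Utor_24_36840 : allRange 36840 36880 ((fun k => posTorOK Cfsg.Lie.chevE8 (k / 240) (k % 240))) = true := by decide +kernel
theorem e8Utor_24_36880 : allRange 36880 36920 ((fun k => posTorOK Cfsg.Lie.chevE8 (k / 240) (k % 240))) = true := by decide +kernel
theorem e8Utor_24_36920 : allRange 36920 36960 ((fun k => posTorOK Cfsg.Lie.chevE8 (k / 240) (k % 240))) = true := by decide +kernel
theorem e8Utor_24_36960 : allRange 36960 37000 ((fun k => posTorOK Cfsg.Lie.chevE8 (k / 240) (k % 240))) = true := by decide +kernel

/-- Torus elements separating the pairs of positive roots of type E8 (roots 35520 to 36999). -/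
theorem e8Utor_24 : ∀ r, 35520 ≤ r → r < 37000 → ((fun k => posTorOK Cfsg.Lie.chevE8 (k / 240) (k % 240))) r = true := by
  intro r h1 h2
  by_cases c0 : r < 35560
  · exact allRange_spec e8Utor_24_35520 r (by omega) c0
  by_cases c1 : r < 35600
  · exact allRange_spec e8Utor_24_35560 r (by omega) c1
  by_cases c2 : r < 35640
  · exact allRange_spec e8Utor_24_35600 r (by omega) c2
  by_cases c3 : r < 35680
  · exact allRange_spec e8Utor_24_35640 r (by omega) c3
  by_cases c4 : r < 35720
  · exact allRange_spec e8Utor_24_35680 r (by omega) c4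
  by_cases c5 : r < 35760
  · exact allRange_spec e8Utor_24_35720 r (by omega) c5
  by_cases c6 : r < 35800
  · exact allRange_spec e8Utor_24_35760 r (by omega) c6
  by_cases c7 : r < 35840
  · exact allRange_spec e8Utor_24_35800 r (by omega) c7
  by_cases c8 : r < 35880
  · exact allRange_spec e8Utor_24_35840 r (by omega) c8
  by_cases c9 : r < 35920
  · exact allRange_spec e8Utor_24_35880 r (by omega) c9
  by_cases c10 : r < 35960
  · exact allRange_spec e8Utor_24_35920 r (by omega) c10
  by_cases c11 : r < 36000
  · exact allRange_spec e8Utor_24_35960 r (by omega) c11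
  by_cases c12 : r < 36040
  · exact allRange_spec e8Utor_24_36000 r (by omega) c12
  by_cases c13 : r < 36080
  · exact allRange_spec e8Utor_24_36040 r (by omega) c13
  by_cases c14 : r < 36120
  · exact allRange_spec e8Utor_24_36080 r (by omega) c14
  by_cases c15 : r < 36160
  · exact allRange_spec e8Utor_24_36120 r (by omega) c15
  by_cases c16 : r < 36200
  · exact allRange_spec e8Utor_24_36160 r (by omega) c16
  by_cases c17 : r < 36240
  · exact allRange_spec e8Utor_24_36200 r (by omega) c17
  by_cases c18 : r < 36280
  · exact allRange_spec e8Utor_24_36240 r (by omega) c18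
  by_cases c19 : r < 36320
  · exact allRange_spec e8Utor_24_36280 r (by omega) c19
  by_cases c20 : r < 36360
  · exact allRange_spec e8Utor_24_36320 r (by omega) c20
  by_cases c21 : r < 36400
  · exact allRange_spec e8Utor_24_36360 r (by omega) c21
  by_cases c22 : r < 36440
  · exact allRange_spec e8Utor_24_36400 r (by omega) c22
  by_cases c23 : r < 36480
  · exact allRange_spec e8Utor_24_36440 r (by omega) c23
  by_cases c24 : r < 36520
  · exact allRange_spec e8Utor_24_36480 r (by omega) c24
  by_cases c25 : r < 36560
  · exact allRange_spec e8Utor_24_36520 r (by omega) c25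
  by_cases c26 : r < 36600
  · exact allRange_spec e8Utor_24_36560 r (by omega) c26
  by_cases c27 : r < 36640
  · exact allRange_spec e8Utor_24_36600 r (by omega) c27
  by_cases c28 : r < 36680
  · exact allRange_spec e8Utor_24_36640 r (by omega) c28
  by_cases c29 : r < 36720
  · exact allRange_spec e8Utor_24_36680 r (by omega) c29
  by_cases c30 : r < 36760
  · exact allRange_spec e8Utor_24_36720 r (by omega) c30
  by_cases c31 : r < 36800
  · exact allRange_spec e8Utor_24_36760 r (by omega) c31
  by_cases c32 : r < 36840
  · exact allRange_spec e8Utor_24_36800 r (by omega) c32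
  by_cases c33 : r < 36880
  · exact allRange_spec e8Utor_24_36840 r (by omega) c33
  by_cases c34 : r < 36920
  · exact allRange_spec e8Utor_24_36880 r (by omega) c34
  by_cases c35 : r < 36960
  · exact allRange_spec e8Utor_24_36920 r (by omega) c35
  exact allRange_spec e8Utor_24_36960 r (by omega) h2

end Cfsg.Agent.Lib.Helper3.ChevM
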