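import Cfsg.Prelude.Def_ChevE8
import Cfsg.Agent.Lib.Helper3.StU10
set_option autoImplicit false
set_option maxRecDepth 1000000
set_option Elab.async false

namespace Cfsg.Agent.Lib.Helper3.ChevM
open Cfsg.Agent.Lib.Helper3.StB Cfsg.Agent.Lib.Helper3.StU

theorem e8Utor_25_37000 : allRange 37000 37040 ((fun k => posTorOK Cfsg.Lie.chevE8 (k / 240) (k % 240))) = true := by decide +kernel
theorem e8Utor_25_37040 : allRange 37040 37080 ((fun k => posTorOK Cfsg.Lie.chevE8 (k / 240) (k % 240))) = true := by decide +kernel
theorem e8Utor_25_37080 : allRange 37080 37120 ((fun k => posTorOK Cfsg.Lie.chevE8 (k / 240) (k % 240))) = true := by decide +kernel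
theorem e8Utor_25_37120 : allRange 37120 37160 ((fun k => posTorOK Cfsg.Lie.chevE8 (k / 240) (k % 240))) = true := by decide +kernel
theorem e8Utor_25_37160 : allRange 37160 37200 ((fun k => posTorOK Cfsg.Lie.chevE8 (k / 240) (k % 240))) = true := by decide +kernel
theorem e8Utor_25_37200 : allRange 37200 37240 ((fun k => posTorOK Cfsg.Lie.chevE8 (k / 240) (k % 240))) = true := by decide +kernel
theorem e8Utor_25_37240 : allRange 37240 37280 ((fun k => posTorOK Cfsg.Lie.chevE8 (k / 240) (k % 240))) = true := by decide +kernel
theorem e8Utor_25_37280 : allRange 37280 37320 ((fun k => posTorOK Cfsg.Lie.chevE8 (k / 240) (k % 240))) = true := by decide +kernel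
theorem e8Utor_25_37320 : allRange 37320 37360 ((fun k => posTorOK Cfsg.Lie.chevE8 (k / 240) (k % 240))) = true := by decide +kernel
theorem e8Utor_25_37360 : allRange 37360 37400 ((fun k => posTorOK Cfsg.Lie.chevE8 (k / 240) (k % 240))) = true := by decide +kernel
theorem e8Utor_25_37400 : allRange 37400 37440 ((fun k => posTorOK Cfsg.Lie.chevE8 (k / 240) (k % 240))) = true := by decide +kernel
theorem e8Utor_25_37440 : allRange 37440 37480 ((fun k => posTorOK Cfsg.Lie.chevE8 (k / 240) (k % 240))) = true := by decide +kernel
theorem e8Utor_25_37480 : allRange 37480 37520 ((fun k => posTorOK Cfsg.Lie.chevE8 (k / 240) (k % 240))) = true := by decide +kernel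
theorem e8Utor_25_37520 : allRange 37520 37560 ((fun k => posTorOK Cfsg.Lie.chevE8 (k / 240) (k % 240))) = true := by decide +kernel
theorem e8Utor_25_37560 : allRange 37560 37600 ((fun k => posTorOK Cfsg.Lie.chevE8 (k / 240) (k % 240))) = true := by decide +kernel
theorem e8Utor_25_37600 : allRange 37600 37640 ((fun k => posTorOK Cfsg.Lie.chevE8 (k / 240) (k % 240))) = true := by decide +kernel
theorem e8Utor_25_37640 : allRange 37640 37680 ((fun k => posTorOK Cfsg.Lie.chevE8 (k / 240) (k % 240))) = true := by decide +kernel
theorem e8Utor_25_37680 : allRange 37680 37720 ((fun k => posTorOK Cfsg.Lie.chevE8 (k / 240) (k % 240))) = true := by decide +kernel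
theorem e8Utor_25_37720 : allRange 37720 37760 ((fun k => posTorOK Cfsg.Lie.chevE8 (k / 240) (k % 240))) = true := by decide +kernel
theorem e8Utor_25_37760 : allRange 37760 37800 ((fun k => posTorOK Cfsg.Lie.chevE8 (k / 240) (k % 240))) = true := by decide +kernel
theorem e8Utor_25_37800 : allRange 37800 37840 ((fun k => posTorOK Cfsg.Lie.chevE8 (k / 240) (k % 240))) = true := by decide +kernel
theorem e8Utor_25_37840 : allRange 37840 37880 ((fun k => posTorOK Cfsg.Lie.chevE8 (k / 240) (k % 240))) = true := by decide +kernel
theorem e8Utor_25_37880 : allRange 37880 37920 ((fun k => posTorOK Cfsg.Lie.chevE8 (k / 240) (k % 240))) = true := by decide +kernel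
theorem e8Utor_25_37920 : allRange 37920 37960 ((fun k => posTorOK Cfsg.Lie.chevE8 (k / 240) (k % 240))) = true := by decide +kernel
theorem e8Utor_25_37960 : allRange 37960 38000 ((fun k => posTorOK Cfsg.Lie.chevE8 (k / 240) (k % 240))) = true := by decide +kernel
theorem e8Utor_25_38000 : allRange 38000 38040 ((fun k => posTorOK Cfsg.Lie.chevE8 (k / 240) (k % 240))) = true := by decide +kernel
theorem e8Utor_25_38040 : allRange 38040 38080 ((fun k => posTorOK Cfsg.Lie.chevE8 (k / 240) (k % 240))) = true := by decide +kernel
theorem e8Utor_25_38080 : allRange 38080 38120 ((fun k => posTorOK Cfsg.Lie.chevE8 (k / 240) (k % 240))) = true := by decide +kernel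
theorem e8Utor_25_38120 : allRange 38120 38160 ((fun k => posTorOK Cfsg.Lie.chevE8 (k / 240) (k % 240))) = true := by decide +kernel
theorem e8Utor_25_38160 : allRange 38160 38200 ((fun k => posTorOK Cfsg.Lie.chevE8 (k / 240) (k % 240))) = true := by decide +kernel
theorem e8Utor_25_38200 : allRange 38200 38240 ((fun k => posTorOK Cfsg.Lie.chevE8 (k / 240) (k % 240))) = true := by decide +kernel
theorem e8Utor_25_38240 : allRange 38240 38280 ((fun k => posTorOK Cfsg.Lie.chevE8 (k / 240) (k % 240))) = true := by decide +kernel
theorem e8Utor_25_38280 : allRange 38280 38320 ((fun k => posTorOK Cfsg.Lie.chevE8 (k / 240) (k % 240))) = true := by decide +kernel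
theorem e8Utor_25_38320 : allRange 38320 38360 ((fun k => posTorOK Cfsg.Lie.chevE8 (k / 240) (k % 240))) = true := by decide +kernel
theorem e8Utor_25_38360 : allRange 38360 38400 ((fun k => posTorOK Cfsg.Lie.chevE8 (k / 240) (k % 240))) = true := by decide +kernel
theorem e8Utor_25_38400 : allRange 38400 38440 ((fun k => posTorOK Cfsg.Lie.chevE8 (k / 240) (k % 240))) = true := by decide +kernel
theorem e8Utor_25_38440 : allRange 38440 38480 ((fun k => posTorOK Cfsg.Lie.chevE8 (k / 240) (k % 240))) = true := by decide +kernel

/-- Torus elements separating the pairs of positive roots of type E8 (roots 37000 to 38479). -/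
theorem e8Utor_25 : ∀ r, 37000 ≤ r → r < 38480 → ((fun k => posTorOK Cfsg.Lie.chevE8 (k / 240) (k % 240))) r = true := by
  intro r h1 h2
  by_cases c0 : r < 37040
  · exact allRange_spec e8Utor_25_37000 r (by omega) c0
  by_cases c1 : r < 37080
  · exact allRange_spec e8Utor_25_37040 r (by omega) c1
  by_cases c2 : r < 37120
  · exact allRange_spec e8Utor_25_37080 r (by omega) c2
  by_cases c3 : r < 37160
  · exact allRange_spec e8Utor_25_37120 r (by omega) c3
  by_cases c4 : r < 37200
  · exact allRange_spec e8Utor_25_37160 r (by omega) c4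
  by_cases c5 : r < 37240
  · exact allRange_spec e8Utor_25_37200 r (by omega) c5
  by_cases c6 : r < 37280
  · exact allRange_spec e8Utor_25_37240 r (by omega) c6
  by_cases c7 : r < 37320
  · exact allRange_spec e8Utor_25_37280 r (by omega) c7
  by_cases c8 : r < 37360
  · exact allRange_spec e8Utor_25_37320 r (by omega) c8
  by_cases c9 : r < 37400
  · exact allRange_spec e8Utor_25_37360 r (by omega) c9
  by_cases c10 : r < 37440
  · exact allRange_spec e8Utor_25_37400 r (by omega) c10
  by_cases c11 : r < 37480
  · exact allRange_spec e8Utor_25_37440 r (by omega) c11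
  by_cases c12 : r < 37520
  · exact allRange_spec e8Utor_25_37480 r (by omega) c12
  by_cases c13 : r < 37560
  · exact allRange_spec e8Utor_25_37520 r (by omega) c13
  by_cases c14 : r < 37600
  · exact allRange_spec e8Utor_25_37560 r (by omega) c14
  by_cases c15 : r < 37640
  · exact allRange_spec e8Utor_25_37600 r (by omega) c15
  by_cases c16 : r < 37680
  · exact allRange_spec e8Utor_25_37640 r (by omega) c16
  by_cases c17 : r < 37720
  · exact allRange_spec e8Utor_25_37680 r (by omega) c17
  by_cases c18 : r < 37760
  · exact allRange_spec e8Utor_25_37720 r (by omega) c18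
  by_cases c19 : r < 37800
  · exact allRange_spec e8Utor_25_37760 r (by omega) c19
  by_cases c20 : r < 37840
  · exact allRange_spec e8Utor_25_37800 r (by omega) c20
  by_cases c21 : r < 37880
  · exact allRange_spec e8Utor_25_37840 r (by omega) c21
  by_cases c22 : r < 37920
  · exact allRange_spec e8Utor_25_37880 r (by omega) c22
  by_cases c23 : r < 37960
  · exact allRange_spec e8Utor_25_37920 r (by omega) c23
  by_cases c24 : r < 38000
  · exact allRange_spec e8Utor_25_37960 r (by omega) c24
  by_cases c25 : r < 38040
  · exact allRange_spec e8Utor_25_38000 r (by omega) c25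
  by_cases c26 : r < 38080
  · exact allRange_spec e8Utor_25_38040 r (by omega) c26
  by_cases c27 : r < 38120
  · exact allRange_spec e8Utor_25_38080 r (by omega) c27
  by_cases c28 : r < 38160
  · exact allRange_spec e8Utor_25_38120 r (by omega) c28
  by_cases c29 : r < 38200
  · exact allRange_spec e8Utor_25_38160 r (by omega) c29
  by_cases c30 : r < 38240
  · exact allRange_spec e8Utor_25_38200 r (by omega) c30
  by_cases c31 : r < 38280
  · exact allRange_spec e8Utor_25_38240 r (by omega) c31
  by_cases c32 : r < 38320
  · exact allRange_spec e8Utor_25_38280 r (by omega) c32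
  by_cases c33 : r < 38360
  · exact allRange_spec e8Utor_25_38320 r (by omega) c33
  by_cases c34 : r < 38400
  · exact allRange_spec e8Utor_25_38360 r (by omega) c34
  by_cases c35 : r < 38440
  · exact allRange_spec e8Utor_25_38400 r (by omega) c35
  exact allRange_spec e8Utor_25_38440 r (by omega) h2

end Cfsg.Agent.Lib.Helper3.ChevM
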