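import Cfsg.Agent.Lib.Helper3.ChevData.E8UtorA
import Cfsg.Agent.Lib.Helper3.ChevData.E8UtorB
import Cfsg.Agent.Lib.Helper3.ChevData.E8UtorC
import Cfsg.Agent.Lib.Helper3.ChevData.E8UtorD
import Cfsg.Agent.Lib.Helper3.ChevData.E8UtorE
import Cfsg.Agent.Lib.Helper3.ChevData.E8UtorF
import Cfsg.Agent.Lib.Helper3.ChevData.E8UtorG
import Cfsg.Agent.Lib.Helper3.ChevData.E8UtorH
import Cfsg.Agent.Lib.Helper3.ChevData.E8UtorI
import Cfsg.Agent.Lib.Helper3.ChevData.E8UtorJ
import Cfsg.Agent.Lib.Helper3.ChevData.E8UtorK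
import Cfsg.Agent.Lib.Helper3.ChevData.E8UtorL
import Cfsg.Agent.Lib.Helper3.ChevData.E8UtorM
import Cfsg.Agent.Lib.Helper3.ChevData.E8UtorN
import Cfsg.Agent.Lib.Helper3.ChevData.E8UtorO
import Cfsg.Agent.Lib.Helper3.ChevData.E8UtorP
import Cfsg.Agent.Lib.Helper3.ChevData.E8UtorQ
import Cfsg.Agent.Lib.Helper3.ChevData.E8UtorR
import Cfsg.Agent.Lib.Helper3.ChevData.E8UtorS
import Cfsg.Agent.Lib.Helper3.ChevData.E8UtorT
import Cfsg.Agent.Lib.Helper3.ChevData.E8UtorU
import Cfsg.Agent.Lib.Helper3.ChevData.E8UtorV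
import Cfsg.Agent.Lib.Helper3.ChevData.E8UtorW
import Cfsg.Agent.Lib.Helper3.ChevData.E8UtorX
import Cfsg.Agent.Lib.Helper3.ChevData.E8UtorY
import Cfsg.Agent.Lib.Helper3.ChevData.E8UtorZ
import Cfsg.Agent.Lib.Helper3.ChevData.E8UtorAA
import Cfsg.Agent.Lib.Helper3.ChevData.E8UtorAB
import Cfsg.Agent.Lib.Helper3.ChevData.E8UtorAC
import Cfsg.Agent.Lib.Helper3.ChevData.E8UtorAD
import Cfsg.Agent.Lib.Helper3.ChevData.E8UtorAE
import Cfsg.Agent.Lib.Helper3.ChevData.E8UtorAF
import Cfsg.Agent.Lib.Helper3.ChevData.E8UtorAG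
import Cfsg.Agent.Lib.Helper3.ChevData.E8UtorAH
import Cfsg.Agent.Lib.Helper3.ChevData.E8UtorAI
import Cfsg.Agent.Lib.Helper3.ChevData.E8UtorAJ
import Cfsg.Agent.Lib.Helper3.ChevData.E8UtorAK
import Cfsg.Agent.Lib.Helper3.ChevData.E8UtorAL
import Cfsg.Agent.Lib.Helper3.ChevData.E8UtorAM
set_option autoImplicit false

namespace Cfsg.Agent.Lib.Helper3.ChevM
open Cfsg.Agent.Lib.Helper3.StB Cfsg.Agent.Lib.Helper3.StU

/-- Torus elements separating the pairs of positive roots of type E8. -/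
theorem e8Utor : ∀ r < 57600, ((fun k => posTorOK Cfsg.Lie.chevE8 (k / 240) (k % 240))) r = true := by
  intro r hr
  by_cases h0 : r < 1480
  · exact e8Utor_0 r (by omega) h0
  by_cases h1 : r < 2960
  · exact e8Utor_1 r (by omega) h1
  by_cases h2 : r < 4440
  · exact e8Utor_2 r (by omega) h2
  by_cases h3 : r < 5920
  · exact e8Utor_3 r (by omega) h3
  by_cases h4 : r < 7400
  · exact e8Utor_4 r (by omega) h4
  by_cases h5 : r < 8880
  · exact e8Utor_5 r (by omega) h5
  by_cases h6 : r < 10360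
  · exact e8Utor_6 r (by omega) h6
  by_cases h7 : r < 11840
  · exact e8Utor_7 r (by omega) h7
  by_cases h8 : r < 13320
  · exact e8Utor_8 r (by omega) h8
  by_cases h9 : r < 14800
  · exact e8Utor_9 r (by omega) h9
  by_cases h10 : r < 16280
  · exact e8Utor_10 r (by omega) h10
  by_cases h11 : r < 17760
  · exact e8Utor_11 r (by omega) h11
  by_cases h12 : r < 19240
  · exact e8Utor_12 r (by omega) h12
  by_cases h13 : r < 20720
  · exact e8Utor_13 r (by omega) h13
  by_cases h14 : r < 22200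
  · exact e8Utor_14 r (by omega) h14
  by_cases h15 : r < 23680
  · exact e8Utor_15 r (by omega) h15
  by_cases h16 : r < 25160
  · exact e8Utor_16 r (by omega) h16
  by_cases h17 : r < 26640
  · exact e8Utor_17 r (by omega) h17
  by_cases h18 : r < 28120
  · exact e8Utor_18 r (by omega) h18
  by_cases h19 : r < 29600
  · exact e8Utor_19 r (by omega) h19
  by_cases h20 : r < 31080
  · exact e8Utor_20 r (by omega) h20
  by_cases h21 : r < 32560
  · exact e8Utor_21 r (by omega) h21
  by_cases h22 : r < 34040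
  · exact e8Utor_22 r (by omega) h22
  by_cases h23 : r < 35520
  · exact e8Utor_23 r (by omega) h23
  by_cases h24 : r < 37000
  · exact e8Utor_24 r (by omega) h24
  by_cases h25 : r < 38480
  · exact e8Utor_25 r (by omega) h25
  by_cases h26 : r < 39960
  · exact e8Utor_26 r (by omega) h26
  by_cases h27 : r < 41440
  · exact e8Utor_27 r (by omega) h27
  by_cases h28 : r < 42920
  · exact e8Utor_28 r (by omega) h28
  by_cases h29 : r < 44400
  · exact e8Utor_29 r (by omega) h29
  by_cases h30 : r < 45880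
  · exact e8Utor_30 r (by omega) h30
  by_cases h31 : r < 47360
  · exact e8Utor_31 r (by omega) h31
  by_cases h32 : r < 48840
  · exact e8Utor_32 r (by omega) h32
  by_cases h33 : r < 50320
  · exact e8Utor_33 r (by omega) h33
  by_cases h34 : r < 51800
  · exact e8Utor_34 r (by omega) h34
  by_cases h35 : r < 53280
  · exact e8Utor_35 r (by omega) h35
  by_cases h36 : r < 54760
  · exact e8Utor_36 r (by omega) h36
  by_cases h37 : r < 56240
  · exact e8Utor_37 r (by omega) h37
  exact e8Utor_38 r (by omega) hr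

end Cfsg.Agent.Lib.Helper3.ChevM
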