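import Cfsg.Agent.Lib.Helper3.ChevData.E8St
import Cfsg.Agent.Lib.Helper3.ChevData.E8Uself
import Cfsg.Agent.Lib.Helper3.ChevData.E8Utex
import Cfsg.Agent.Lib.Helper3.ChevData.E8Utor
import Cfsg.Agent.Lib.Helper3.ChevData.E8Ucolb
import Cfsg.Agent.Lib.Helper3.ChevData.E8Ubase
set_option autoImplicit false
set_option maxRecDepth 1000000

namespace Cfsg.Agent.Lib.Helper3.ChevM
open Cfsg.Agent.Lib.Helper3.StB Cfsg.Agent.Lib.Helper3.StU

/-- The table checks for the splitting of the central extensions of the Steinberg group of type E8. -/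
def univHypE8 : UnivHyp cdE8 relE8 where
  Y := stHypE8
  self := e8Uself
  torEx := e8Utex
  tor := of_pairRange (m := 240) (n := 240) e8Utor
  col2 := of_pairRange (m := 240) (n := 240) e8Ucolb
  bw := bwE8
  base := of_pairRange (m := 240) (n := 240) e8Ubase

end Cfsg.Agent.Lib.Helper3.ChevM
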