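import Cfsg.Prelude.Def_ChevE8
import Cfsg.Agent.Lib.Helper3.ChevG3
set_option autoImplicit false
set_option maxRecDepth 1000000
set_option Elab.async false

namespace Cfsg.Agent.Lib.Helper3.ChevM

theorem e8Up_0_0 : allRange 0 75 ((fun k => upCheck Cfsg.Lie.chevE8 (k / 240) (k % 240))) = true := by decide +kernel
theorem e8Up_0_75 : allRange 75 150 ((fun k => upCheck Cfsg.Lie.chevE8 (k / 240) (k % 240))) = true := by decide +kernel
theorem e8Up_0_150 : allRange 150 225 ((fun k => upCheck Cfsg.Lie.chevE8 (k / 240) (k % 240))) = true := by decide +kernel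
theorem e8Up_0_225 : allRange 225 300 ((fun k => upCheck Cfsg.Lie.chevE8 (k / 240) (k % 240))) = true := by decide +kernel
theorem e8Up_0_300 : allRange 300 375 ((fun k => upCheck Cfsg.Lie.chevE8 (k / 240) (k % 240))) = true := by decide +kernel
theorem e8Up_0_375 : allRange 375 450 ((fun k => upCheck Cfsg.Lie.chevE8 (k / 240) (k % 240))) = true := by decide +kernel
theorem e8Up_0_450 : allRange 450 525 ((fun k => upCheck Cfsg.Lie.chevE8 (k / 240) (k % 240))) = true := by decide +kernel
theorem e8Up_0_525 : allRange 525 600 ((fun k => upCheck Cfsg.Lie.chevE8 (k / 240) (k % 240))) = true := by decide +kernel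
theorem e8Up_0_600 : allRange 600 675 ((fun k => upCheck Cfsg.Lie.chevE8 (k / 240) (k % 240))) = true := by decide +kernel
theorem e8Up_0_675 : allRange 675 750 ((fun k => upCheck Cfsg.Lie.chevE8 (k / 240) (k % 240))) = true := by decide +kernel
theorem e8Up_0_750 : allRange 750 825 ((fun k => upCheck Cfsg.Lie.chevE8 (k / 240) (k % 240))) = true := by decide +kernel
theorem e8Up_0_825 : allRange 825 900 ((fun k => upCheck Cfsg.Lie.chevE8 (k / 240) (k % 240))) = true := by decide +kernel
theorem e8Up_0_900 : allRange 900 975 ((fun k => upCheck Cfsg.Lie.chevE8 (k / 240) (k % 240))) = true := by decide +kernel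
theorem e8Up_0_975 : allRange 975 1050 ((fun k => upCheck Cfsg.Lie.chevE8 (k / 240) (k % 240))) = true := by decide +kernel
theorem e8Up_0_1050 : allRange 1050 1125 ((fun k => upCheck Cfsg.Lie.chevE8 (k / 240) (k % 240))) = true := by decide +kernel
theorem e8Up_0_1125 : allRange 1125 1200 ((fun k => upCheck Cfsg.Lie.chevE8 (k / 240) (k % 240))) = true := by decide +kernel
theorem e8Up_0_1200 : allRange 1200 1275 ((fun k => upCheck Cfsg.Lie.chevE8 (k / 240) (k % 240))) = true := by decide +kernel
theorem e8Up_0_1275 : allRange 1275 1350 ((fun k => upCheck Cfsg.Lie.chevE8 (k / 240) (k % 240))) = true := by decide +kernel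
theorem e8Up_0_1350 : allRange 1350 1425 ((fun k => upCheck Cfsg.Lie.chevE8 (k / 240) (k % 240))) = true := by decide +kernel
theorem e8Up_0_1425 : allRange 1425 1500 ((fun k => upCheck Cfsg.Lie.chevE8 (k / 240) (k % 240))) = true := by decide +kernel
theorem e8Up_0_1500 : allRange 1500 1575 ((fun k => upCheck Cfsg.Lie.chevE8 (k / 240) (k % 240))) = true := by decide +kernel
theorem e8Up_0_1575 : allRange 1575 1650 ((fun k => upCheck Cfsg.Lie.chevE8 (k / 240) (k % 240))) = true := by decide +kernel
theorem e8Up_0_1650 : allRange 1650 1725 ((fun k => upCheck Cfsg.Lie.chevE8 (k / 240) (k % 240))) = true := by decide +kernel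
theorem e8Up_0_1725 : allRange 1725 1800 ((fun k => upCheck Cfsg.Lie.chevE8 (k / 240) (k % 240))) = true := by decide +kernel
theorem e8Up_0_1800 : allRange 1800 1875 ((fun k => upCheck Cfsg.Lie.chevE8 (k / 240) (k % 240))) = true := by decide +kernel
theorem e8Up_0_1875 : allRange 1875 1920 ((fun k => upCheck Cfsg.Lie.chevE8 (k / 240) (k % 240))) = true := by decide +kernel

/-- Roots in the commutators of `x_{±p}` with the positive root elements of type E8 (roots 0 to 1919). -/
theorem e8Up_0 : ∀ r, 0 ≤ r → r < 1920 → ((fun k => upCheck Cfsg.Lie.chevE8 (k / 240) (k % 240))) r = true := by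
  intro r h1 h2
  by_cases c0 : r < 75
  · exact allRange_spec e8Up_0_0 r (by omega) c0
  by_cases c1 : r < 150
  · exact allRange_spec e8Up_0_75 r (by omega) c1
  by_cases c2 : r < 225
  · exact allRange_spec e8Up_0_150 r (by omega) c2
  by_cases c3 : r < 300
  · exact allRange_spec e8Up_0_225 r (by omega) c3
  by_cases c4 : r < 375
  · exact allRange_spec e8Up_0_300 r (by omega) c4
  by_cases c5 : r < 450
  · exact allRange_spec e8Up_0_375 r (by omega) c5
  by_cases c6 : r < 525
  · exact allRange_spec e8Up_0_450 r (by omega) c6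
  by_cases c7 : r < 600
  · exact allRange_spec e8Up_0_525 r (by omega) c7
  by_cases c8 : r < 675
  · exact allRange_spec e8Up_0_600 r (by omega) c8
  by_cases c9 : r < 750
  · exact allRange_spec e8Up_0_675 r (by omega) c9
  by_cases c10 : r < 825
  · exact allRange_spec e8Up_0_750 r (by omega) c10
  by_cases c11 : r < 900
  · exact allRange_spec e8Up_0_825 r (by omega) c11
  by_cases c12 : r < 975
  · exact allRange_spec e8Up_0_900 r (by omega) c12
  by_cases c13 : r < 1050
  · exact allRange_spec e8Up_0_975 r (by omega) c13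
  by_cases c14 : r < 1125
  · exact allRange_spec e8Up_0_1050 r (by omega) c14
  by_cases c15 : r < 1200
  · exact allRange_spec e8Up_0_1125 r (by omega) c15
  by_cases c16 : r < 1275
  · exact allRange_spec e8Up_0_1200 r (by omega) c16
  by_cases c17 : r < 1350
  · exact allRange_spec e8Up_0_1275 r (by omega) c17
  by_cases c18 : r < 1425
  · exact allRange_spec e8Up_0_1350 r (by omega) c18
  by_cases c19 : r < 1500
  · exact allRange_spec e8Up_0_1425 r (by omega) c19
  by_cases c20 : r < 1575
  · exact allRange_spec e8Up_0_1500 r (by omega) c20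
  by_cases c21 : r < 1650
  · exact allRange_spec e8Up_0_1575 r (by omega) c21
  by_cases c22 : r < 1725
  · exact allRange_spec e8Up_0_1650 r (by omega) c22
  by_cases c23 : r < 1800
  · exact allRange_spec e8Up_0_1725 r (by omega) c23
  by_cases c24 : r < 1875
  · exact allRange_spec e8Up_0_1800 r (by omega) c24
  exact allRange_spec e8Up_0_1875 r (by omega) h2

end Cfsg.Agent.Lib.Helper3.ChevM
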