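import Cfsg.Prelude.Def_ChevE8
import Cfsg.Agent.Lib.Helper3.StU10
set_option autoImplicit false
set_option maxRecDepth 1000000
set_option Elab.async false

namespace Cfsg.Agent.Lib.Helper3.ChevM
open Cfsg.Agent.Lib.Helper3.StB Cfsg.Agent.Lib.Helper3.StU

theorem e8Utor_0_0 : allRange 0 40 ((fun k => posTorOK Cfsg.Lie.chevE8 (k / 240) (k % 240))) = true := by decide +kernel
theorem e8Utor_0_40 : allRange 40 80 ((fun k => posTorOK Cfsg.Lie.chevE8 (k / 240) (k % 240))) = true := by decide +kernel
theorem e8Utor_0_80 : allRange 80 120 ((fun k => posTorOK Cfsg.Lie.chevE8 (k / 240) (k % 240))) = true := by decide +kernel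
theorem e8Utor_0_120 : allRange 120 160 ((fun k => posTorOK Cfsg.Lie.chevE8 (k / 240) (k % 240))) = true := by decide +kernel
theorem e8Utor_0_160 : allRange 160 200 ((fun k => posTorOK Cfsg.Lie.chevE8 (k / 240) (k % 240))) = true := by decide +kernel
theorem e8Utor_0_200 : allRange 200 240 ((fun k => posTorOK Cfsg.Lie.chevE8 (k / 240) (k % 240))) = true := by decide +kernel
theorem e8Utor_0_240 : allRange 240 280 ((fun k => posTorOK Cfsg.Lie.chevE8 (k / 240) (k % 240))) = true := by decide +kernel
theorem e8Utor_0_280 : allRange 280 320 ((fun k => posTorOK Cfsg.Lie.chevE8 (k / 240) (k % 240))) = true := by decide +kernel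
theorem e8Utor_0_320 : allRange 320 360 ((fun k => posTorOK Cfsg.Lie.chevE8 (k / 240) (k % 240))) = true := by decide +kernel
theorem e8Utor_0_360 : allRange 360 400 ((fun k => posTorOK Cfsg.Lie.chevE8 (k / 240) (k % 240))) = true := by decide +kernel
theorem e8Utor_0_400 : allRange 400 440 ((fun k => posTorOK Cfsg.Lie.chevE8 (k / 240) (k % 240))) = true := by decide +kernel
theorem e8Utor_0_440 : allRange 440 480 ((fun k => posTorOK Cfsg.Lie.chevE8 (k / 240) (k % 240))) = true := by decide +kernel
theorem e8Utor_0_480 : allRange 480 520 ((fun k => posTorOK Cfsg.Lie.chevE8 (k / 240) (k % 240))) = true := by decide +kernel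
theorem e8Utor_0_520 : allRange 520 560 ((fun k => posTorOK Cfsg.Lie.chevE8 (k / 240) (k % 240))) = true := by decide +kernel
theorem e8Utor_0_560 : allRange 560 600 ((fun k => posTorOK Cfsg.Lie.chevE8 (k / 240) (k % 240))) = true := by decide +kernel
theorem e8Utor_0_600 : allRange 600 640 ((fun k => posTorOK Cfsg.Lie.chevE8 (k / 240) (k % 240))) = true := by decide +kernel
theorem e8Utor_0_640 : allRange 640 680 ((fun k => posTorOK Cfsg.Lie.chevE8 (k / 240) (k % 240))) = true := by decide +kernel
theorem e8Utor_0_680 : allRange 680 720 ((fun k => posTorOK Cfsg.Lie.chevE8 (k / 240) (k % 240))) = true := by decide +kernel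
theorem e8Utor_0_720 : allRange 720 760 ((fun k => posTorOK Cfsg.Lie.chevE8 (k / 240) (k % 240))) = true := by decide +kernel
theorem e8Utor_0_760 : allRange 760 800 ((fun k => posTorOK Cfsg.Lie.chevE8 (k / 240) (k % 240))) = true := by decide +kernel
theorem e8Utor_0_800 : allRange 800 840 ((fun k => posTorOK Cfsg.Lie.chevE8 (k / 240) (k % 240))) = true := by decide +kernel
theorem e8Utor_0_840 : allRange 840 880 ((fun k => posTorOK Cfsg.Lie.chevE8 (k / 240) (k % 240))) = true := by decide +kernel
theorem e8Utor_0_880 : allRange 880 920 ((fun k => posTorOK Cfsg.Lie.chevE8 (k / 240) (k % 240))) = true := by decide +kernel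
theorem e8Utor_0_920 : allRange 920 960 ((fun k => posTorOK Cfsg.Lie.chevE8 (k / 240) (k % 240))) = true := by decide +kernel
theorem e8Utor_0_960 : allRange 960 1000 ((fun k => posTorOK Cfsg.Lie.chevE8 (k / 240) (k % 240))) = true := by decide +kernel
theorem e8Utor_0_1000 : allRange 1000 1040 ((fun k => posTorOK Cfsg.Lie.chevE8 (k / 240) (k % 240))) = true := by decide +kernel
theorem e8Utor_0_1040 : allRange 1040 1080 ((fun k => posTorOK Cfsg.Lie.chevE8 (k / 240) (k % 240))) = true := by decide +kernel
theorem e8Utor_0_1080 : allRange 1080 1120 ((fun k => posTorOK Cfsg.Lie.chevE8 (k / 240) (k % 240))) = true := by decide +kernel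
theorem e8Utor_0_1120 : allRange 1120 1160 ((fun k => posTorOK Cfsg.Lie.chevE8 (k / 240) (k % 240))) = true := by decide +kernel
theorem e8Utor_0_1160 : allRange 1160 1200 ((fun k => posTorOK Cfsg.Lie.chevE8 (k / 240) (k % 240))) = true := by decide +kernel
theorem e8Utor_0_1200 : allRange 1200 1240 ((fun k => posTorOK Cfsg.Lie.chevE8 (k / 240) (k % 240))) = true := by decide +kernel
theorem e8Utor_0_1240 : allRange 1240 1280 ((fun k => posTorOK Cfsg.Lie.chevE8 (k / 240) (k % 240))) = true := by decide +kernel
theorem e8Utor_0_1280 : allRange 1280 1320 ((fun k => posTorOK Cfsg.Lie.chevE8 (k / 240) (k % 240))) = true := by decide +kernel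
theorem e8Utor_0_1320 : allRange 1320 1360 ((fun k => posTorOK Cfsg.Lie.chevE8 (k / 240) (k % 240))) = true := by decide +kernel
theorem e8Utor_0_1360 : allRange 1360 1400 ((fun k => posTorOK Cfsg.Lie.chevE8 (k / 240) (k % 240))) = true := by decide +kernel
theorem e8Utor_0_1400 : allRange 1400 1440 ((fun k => posTorOK Cfsg.Lie.chevE8 (k / 240) (k % 240))) = true := by decide +kernel
theorem e8Utor_0_1440 : allRange 1440 1480 ((fun k => posTorOK Cfsg.Lie.chevE8 (k / 240) (k % 240))) = true := by decide +kernel

/-- Torus elements separating the pairs of positive roots of type E8 (roots 0 to 1479). -/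
theorem e8Utor_0 : ∀ r, 0 ≤ r → r < 1480 → ((fun k => posTorOK Cfsg.Lie.chevE8 (k / 240) (k % 240))) r = true := by
  intro r h1 h2
  by_cases c0 : r < 40
  · exact allRange_spec e8Utor_0_0 r (by omega) c0
  by_cases c1 : r < 80
  · exact allRange_spec e8Utor_0_40 r (by omega) c1
  by_cases c2 : r < 120
  · exact allRange_spec e8Utor_0_80 r (by omega) c2
  by_cases c3 : r < 160
  · exact allRange_spec e8Utor_0_120 r (by omega) c3
  by_cases c4 : r < 200
  · exact allRange_spec e8Utor_0_160 r (by omega) c4
  by_cases c5 : r < 240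
  · exact allRange_spec e8Utor_0_200 r (by omega) c5
  by_cases c6 : r < 280
  · exact allRange_spec e8Utor_0_240 r (by omega) c6
  by_cases c7 : r < 320
  · exact allRange_spec e8Utor_0_280 r (by omega) c7
  by_cases c8 : r < 360
  · exact allRange_spec e8Utor_0_320 r (by omega) c8
  by_cases c9 : r < 400
  · exact allRange_spec e8Utor_0_360 r (by omega) c9
  by_cases c10 : r < 440
  · exact allRange_spec e8Utor_0_400 r (by omega) c10
  by_cases c11 : r < 480
  · exact allRange_spec e8Utor_0_440 r (by omega) c11
  by_cases c12 : r < 520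
  · exact allRange_spec e8Utor_0_480 r (by omega) c12
  by_cases c13 : r < 560
  · exact allRange_spec e8Utor_0_520 r (by omega) c13
  by_cases c14 : r < 600
  · exact allRange_spec e8Utor_0_560 r (by omega) c14
  by_cases c15 : r < 640
  · exact allRange_spec e8Utor_0_600 r (by omega) c15
  by_cases c16 : r < 680
  · exact allRange_spec e8Utor_0_640 r (by omega) c16
  by_cases c17 : r < 720
  · exact allRange_spec e8Utor_0_680 r (by omega) c17
  by_cases c18 : r < 760
  · exact allRange_spec e8Utor_0_720 r (by omega) c18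
  by_cases c19 : r < 800
  · exact allRange_spec e8Utor_0_760 r (by omega) c19
  by_cases c20 : r < 840
  · exact allRange_spec e8Utor_0_800 r (by omega) c20
  by_cases c21 : r < 880
  · exact allRange_spec e8Utor_0_840 r (by omega) c21
  by_cases c22 : r < 920
  · exact allRange_spec e8Utor_0_880 r (by omega) c22
  by_cases c23 : r < 960
  · exact allRange_spec e8Utor_0_920 r (by omega) c23
  by_cases c24 : r < 1000
  · exact allRange_spec e8Utor_0_960 r (by omega) c24
  by_cases c25 : r < 1040
  · exact allRange_spec e8Utor_0_1000 r (by omega) c25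
  by_cases c26 : r < 1080
  · exact allRange_spec e8Utor_0_1040 r (by omega) c26
  by_cases c27 : r < 1120
  · exact allRange_spec e8Utor_0_1080 r (by omega) c27
  by_cases c28 : r < 1160
  · exact allRange_spec e8Utor_0_1120 r (by omega) c28
  by_cases c29 : r < 1200
  · exact allRange_spec e8Utor_0_1160 r (by omega) c29
  by_cases c30 : r < 1240
  · exact allRange_spec e8Utor_0_1200 r (by omega) c30
  by_cases c31 : r < 1280
  · exact allRange_spec e8Utor_0_1240 r (by omega) c31
  by_cases c32 : r < 1320
  · exact allRange_spec e8Utor_0_1280 r (by omega) c32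
  by_cases c33 : r < 1360
  · exact allRange_spec e8Utor_0_1320 r (by omega) c33
  by_cases c34 : r < 1400
  · exact allRange_spec e8Utor_0_1360 r (by omega) c34
  by_cases c35 : r < 1440
  · exact allRange_spec e8Utor_0_1400 r (by omega) c35
  exact allRange_spec e8Utor_0_1440 r (by omega) h2

end Cfsg.Agent.Lib.Helper3.ChevM
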