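import Cfsg.Prelude.Def_ChevE8
import Cfsg.Agent.Lib.Helper3.StU10
set_option autoImplicit false
set_option maxRecDepth 1000000
set_option Elab.async false

namespace Cfsg.Agent.Lib.Helper3.ChevM
open Cfsg.Agent.Lib.Helper3.StB Cfsg.Agent.Lib.Helper3.StU

theorem e8Utor_32_47360 : allRange 47360 47400 ((fun k => posTorOK Cfsg.Lie.chevE8 (k / 240) (k % 240))) = true := by decide +kernel
theorem e8Utor_32_47400 : allRange 47400 47440 ((fun k => posTorOK Cfsg.Lie.chevE8 (k / 240) (k % 240))) = true := by decide +kernel
theorem e8Utor_32_47440 : allRange 47440 47480 ((fun k => posTorOK Cfsg.Lie.chevE8 (k / 240) (k % 240))) = true := by decide +kernel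
theorem e8Utor_32_47480 : allRange 47480 47520 ((fun k => posTorOK Cfsg.Lie.chevE8 (k / 240) (k % 240))) = true := by decide +kernel
theorem e8Utor_32_47520 : allRange 47520 47560 ((fun k => posTorOK Cfsg.Lie.chevE8 (k / 240) (k % 240))) = true := by decide +kernel
theorem e8Utor_32_47560 : allRange 47560 47600 ((fun k => posTorOK Cfsg.Lie.chevE8 (k / 240) (k % 240))) = true := by decide +kernel
theorem e8Utor_32_47600 : allRange 47600 47640 ((fun k => posTorOK Cfsg.Lie.chevE8 (k / 240) (k % 240))) = true := by decide +kernel
theorem e8Utor_32_47640 : allRange 47640 47680 ((fun k => posTorOK Cfsg.Lie.chevE8 (k / 240) (k % 240))) = true := by decide +kernel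
theorem e8Utor_32_47680 : allRange 47680 47720 ((fun k => posTorOK Cfsg.Lie.chevE8 (k / 240) (k % 240))) = true := by decide +kernel
theorem e8Utor_32_47720 : allRange 47720 47760 ((fun k => posTorOK Cfsg.Lie.chevE8 (k / 240) (k % 240))) = true := by decide +kernel
theorem e8Utor_32_47760 : allRange 47760 47800 ((fun k => posTorOK Cfsg.Lie.chevE8 (k / 240) (k % 240))) = true := by decide +kernel
theorem e8Utor_32_47800 : allRange 47800 47840 ((fun k => posTorOK Cfsg.Lie.chevE8 (k / 240) (k % 240))) = true := by decide +kernel
theorem e8Utor_32_47840 : allRange 47840 47880 ((fun k => posTorOK Cfsg.Lie.chevE8 (k / 240) (k % 240))) = true := by decide +kernel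
theorem e8Utor_32_47880 : allRange 47880 47920 ((fun k => posTorOK Cfsg.Lie.chevE8 (k / 240) (k % 240))) = true := by decide +kernel
theorem e8Utor_32_47920 : allRange 47920 47960 ((fun k => posTorOK Cfsg.Lie.chevE8 (k / 240) (k % 240))) = true := by decide +kernel
theorem e8Utor_32_47960 : allRange 47960 48000 ((fun k => posTorOK Cfsg.Lie.chevE8 (k / 240) (k % 240))) = true := by decide +kernel
theorem e8Utor_32_48000 : allRange 48000 48040 ((fun k => posTorOK Cfsg.Lie.chevE8 (k / 240) (k % 240))) = true := by decide +kernel
theorem e8Utor_32_48040 : allRange 48040 48080 ((fun k => posTorOK Cfsg.Lie.chevE8 (k / 240) (k % 240))) = true := by decide +kernel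
theorem e8Utor_32_48080 : allRange 48080 48120 ((fun k => posTorOK Cfsg.Lie.chevE8 (k / 240) (k % 240))) = true := by decide +kernel
theorem e8Utor_32_48120 : allRange 48120 48160 ((fun k => posTorOK Cfsg.Lie.chevE8 (k / 240) (k % 240))) = true := by decide +kernel
theorem e8Utor_32_48160 : allRange 48160 48200 ((fun k => posTorOK Cfsg.Lie.chevE8 (k / 240) (k % 240))) = true := by decide +kernel
theorem e8Utor_32_48200 : allRange 48200 48240 ((fun k => posTorOK Cfsg.Lie.chevE8 (k / 240) (k % 240))) = true := by decide +kernel
theorem e8Utor_32_48240 : allRange 48240 48280 ((fun k => posTorOK Cfsg.Lie.chevE8 (k / 240) (k % 240))) = true := by decide +kernel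
theorem e8Utor_32_48280 : allRange 48280 48320 ((fun k => posTorOK Cfsg.Lie.chevE8 (k / 240) (k % 240))) = true := by decide +kernel
theorem e8Utor_32_48320 : allRange 48320 48360 ((fun k => posTorOK Cfsg.Lie.chevE8 (k / 240) (k % 240))) = true := by decide +kernel
theorem e8Utor_32_48360 : allRange 48360 48400 ((fun k => posTorOK Cfsg.Lie.chevE8 (k / 240) (k % 240))) = true := by decide +kernel
theorem e8Utor_32_48400 : allRange 48400 48440 ((fun k => posTorOK Cfsg.Lie.chevE8 (k / 240) (k % 240))) = true := by decide +kernel
theorem e8Utor_32_48440 : allRange 48440 48480 ((fun k => posTorOK Cfsg.Lie.chevE8 (k / 240) (k % 240))) = true := by decide +kernel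
theorem e8Utor_32_48480 : allRange 48480 48520 ((fun k => posTorOK Cfsg.Lie.chevE8 (k / 240) (k % 240))) = true := by decide +kernel
theorem e8Utor_32_48520 : allRange 48520 48560 ((fun k => posTorOK Cfsg.Lie.chevE8 (k / 240) (k % 240))) = true := by decide +kernel
theorem e8Utor_32_48560 : allRange 48560 48600 ((fun k => posTorOK Cfsg.Lie.chevE8 (k / 240) (k % 240))) = true := by decide +kernel
theorem e8Utor_32_48600 : allRange 48600 48640 ((fun k => posTorOK Cfsg.Lie.chevE8 (k / 240) (k % 240))) = true := by decide +kernel
theorem e8Utor_32_48640 : allRange 48640 48680 ((fun k => posTorOK Cfsg.Lie.chevE8 (k / 240) (k % 240))) = true := by decide +kernel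
theorem e8Utor_32_48680 : allRange 48680 48720 ((fun k => posTorOK Cfsg.Lie.chevE8 (k / 240) (k % 240))) = true := by decide +kernel
theorem e8Utor_32_48720 : allRange 48720 48760 ((fun k => posTorOK Cfsg.Lie.chevE8 (k / 240) (k % 240))) = true := by decide +kernel
theorem e8Utor_32_48760 : allRange 48760 48800 ((fun k => posTorOK Cfsg.Lie.chevE8 (k / 240) (k % 240))) = true := by decide +kernel
theorem e8Utor_32_48800 : allRange 48800 48840 ((fun k => posTorOK Cfsg.Lie.chevE8 (k / 240) (k % 240))) = true := by decide +kernel

/-- Torus elements separating the pairs of positive roots of type E8 (roots 47360 to 48839). -/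
theorem e8Utor_32 : ∀ r, 47360 ≤ r → r < 48840 → ((fun k => posTorOK Cfsg.Lie.chevE8 (k / 240) (k % 240))) r = true := by
  intro r h1 h2
  by_cases c0 : r < 47400
  · exact allRange_spec e8Utor_32_47360 r (by omega) c0
  by_cases c1 : r < 47440
  · exact allRange_spec e8Utor_32_47400 r (by omega) c1
  by_cases c2 : r < 47480
  · exact allRange_spec e8Utor_32_47440 r (by omega) c2
  by_cases c3 : r < 47520
  · exact allRange_spec e8Utor_32_47480 r (by omega) c3
  by_cases c4 : r < 47560
  · exact allRange_spec e8Utor_32_47520 r (by omega) c4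
  by_cases c5 : r < 47600
  · exact allRange_spec e8Utor_32_47560 r (by omega) c5
  by_cases c6 : r < 47640
  · exact allRange_spec e8Utor_32_47600 r (by omega) c6
  by_cases c7 : r < 47680
  · exact allRange_spec e8Utor_32_47640 r (by omega) c7
  by_cases c8 : r < 47720
  · exact allRange_spec e8Utor_32_47680 r (by omega) c8
  by_cases c9 : r < 47760
  · exact allRange_spec e8Utor_32_47720 r (by omega) c9
  by_cases c10 : r < 47800
  · exact allRange_spec e8Utor_32_47760 r (by omega) c10
  by_cases c11 : r < 47840
  · exact allRange_spec e8Utor_32_47800 r (by omega) c11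
  by_cases c12 : r < 47880
  · exact allRange_spec e8Utor_32_47840 r (by omega) c12
  by_cases c13 : r < 47920
  · exact allRange_spec e8Utor_32_47880 r (by omega) c13
  by_cases c14 : r < 47960
  · exact allRange_spec e8Utor_32_47920 r (by omega) c14
  by_cases c15 : r < 48000
  · exact allRange_spec e8Utor_32_47960 r (by omega) c15
  by_cases c16 : r < 48040
  · exact allRange_spec e8Utor_32_48000 r (by omega) c16
  by_cases c17 : r < 48080
  · exact allRange_spec e8Utor_32_48040 r (by omega) c17
  by_cases c18 : r < 48120
  · exact allRange_spec e8Utor_32_48080 r (by omega) c18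
  by_cases c19 : r < 48160
  · exact allRange_spec e8Utor_32_48120 r (by omega) c19
  by_cases c20 : r < 48200
  · exact allRange_spec e8Utor_32_48160 r (by omega) c20
  by_cases c21 : r < 48240
  · exact allRange_spec e8Utor_32_48200 r (by omega) c21
  by_cases c22 : r < 48280
  · exact allRange_spec e8Utor_32_48240 r (by omega) c22
  by_cases c23 : r < 48320
  · exact allRange_spec e8Utor_32_48280 r (by omega) c23
  by_cases c24 : r < 48360
  · exact allRange_spec e8Utor_32_48320 r (by omega) c24
  by_cases c25 : r < 48400
  · exact allRange_spec e8Utor_32_48360 r (by omega) c25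
  by_cases c26 : r < 48440
  · exact allRange_spec e8Utor_32_48400 r (by omega) c26
  by_cases c27 : r < 48480
  · exact allRange_spec e8Utor_32_48440 r (by omega) c27
  by_cases c28 : r < 48520
  · exact allRange_spec e8Utor_32_48480 r (by omega) c28
  by_cases c29 : r < 48560
  · exact allRange_spec e8Utor_32_48520 r (by omega) c29
  by_cases c30 : r < 48600
  · exact allRange_spec e8Utor_32_48560 r (by omega) c30
  by_cases c31 : r < 48640
  · exact allRange_spec e8Utor_32_48600 r (by omega) c31
  by_cases c32 : r < 48680
  · exact allRange_spec e8Utor_32_48640 r (by omega) c32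
  by_cases c33 : r < 48720
  · exact allRange_spec e8Utor_32_48680 r (by omega) c33
  by_cases c34 : r < 48760
  · exact allRange_spec e8Utor_32_48720 r (by omega) c34
  by_cases c35 : r < 48800
  · exact allRange_spec e8Utor_32_48760 r (by omega) c35
  exact allRange_spec e8Utor_32_48800 r (by omega) h2

end Cfsg.Agent.Lib.Helper3.ChevM
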