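import Cfsg.Prelude.Def_ChevE8
import Cfsg.Agent.Lib.Helper3.StU10
set_option autoImplicit false
set_option maxRecDepth 1000000
set_option Elab.async false

namespace Cfsg.Agent.Lib.Helper3.ChevM
open Cfsg.Agent.Lib.Helper3.StB Cfsg.Agent.Lib.Helper3.StU

theorem e8Utor_10_14800 : allRange 14800 14840 ((fun k => posTorOK Cfsg.Lie.chevE8 (k / 240) (k % 240))) = true := by decide +kernel
theorem e8Utor_10_14840 : allRange 14840 14880 ((fun k => posTorOK Cfsg.Lie.chevE8 (k / 240) (k % 240))) = true := by decide +kernel
theorem e8Utor_10_14880 : allRange 14880 14920 ((fun k => posTorOK Cfsg.Lie.chevE8 (k / 240) (k % 240))) = true := by decide +kernel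
theorem e8Utor_10_14920 : allRange 14920 14960 ((fun k => posTorOK Cfsg.Lie.chevE8 (k / 240) (k % 240))) = true := by decide +kernel
theorem e8Utor_10_14960 : allRange 14960 15000 ((fun k => posTorOK Cfsg.Lie.chevE8 (k / 240) (k % 240))) = true := by decide +kernel
theorem e8Utor_10_15000 : allRange 15000 15040 ((fun k => posTorOK Cfsg.Lie.chevE8 (k / 240) (k % 240))) = true := by decide +kernel
theorem e8Utor_10_15040 : allRange 15040 15080 ((fun k => posTorOK Cfsg.Lie.chevE8 (k / 240) (k % 240))) = true := by decide +kernel
theorem e8Utor_10_15080 : allRange 15080 15120 ((fun k => posTorOK Cfsg.Lie.chevE8 (k / 240) (k % 240))) = true := by decide +kernel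
theorem e8Utor_10_15120 : allRange 15120 15160 ((fun k => posTorOK Cfsg.Lie.chevE8 (k / 240) (k % 240))) = true := by decide +kernel
theorem e8Utor_10_15160 : allRange 15160 15200 ((fun k => posTorOK Cfsg.Lie.chevE8 (k / 240) (k % 240))) = true := by decide +kernel
theorem e8Utor_10_15200 : allRange 15200 15240 ((fun k => posTorOK Cfsg.Lie.chevE8 (k / 240) (k % 240))) = true := by decide +kernel
theorem e8Utor_10_15240 : allRange 15240 15280 ((fun k => posTorOK Cfsg.Lie.chevE8 (k / 240) (k % 240))) = true := by decide +kernel
theorem e8Utor_10_15280 : allRange 15280 15320 ((fun k => posTorOK Cfsg.Lie.chevE8 (k / 240) (k % 240))) = true := by decide +kernel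
theorem e8Utor_10_15320 : allRange 15320 15360 ((fun k => posTorOK Cfsg.Lie.chevE8 (k / 240) (k % 240))) = true := by decide +kernel
theorem e8Utor_10_15360 : allRange 15360 15400 ((fun k => posTorOK Cfsg.Lie.chevE8 (k / 240) (k % 240))) = true := by decide +kernel
theorem e8Utor_10_15400 : allRange 15400 15440 ((fun k => posTorOK Cfsg.Lie.chevE8 (k / 240) (k % 240))) = true := by decide +kernel
theorem e8Utor_10_15440 : allRange 15440 15480 ((fun k => posTorOK Cfsg.Lie.chevE8 (k / 240) (k % 240))) = true := by decide +kernel
theorem e8Utor_10_15480 : allRange 15480 15520 ((fun k => posTorOK Cfsg.Lie.chevE8 (k / 240) (k % 240))) = true := by decide +kernel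
theorem e8Utor_10_15520 : allRange 15520 15560 ((fun k => posTorOK Cfsg.Lie.chevE8 (k / 240) (k % 240))) = true := by decide +kernel
theorem e8Utor_10_15560 : allRange 15560 15600 ((fun k => posTorOK Cfsg.Lie.chevE8 (k / 240) (k % 240))) = true := by decide +kernel
theorem e8Utor_10_15600 : allRange 15600 15640 ((fun k => posTorOK Cfsg.Lie.chevE8 (k / 240) (k % 240))) = true := by decide +kernel
theorem e8Utor_10_15640 : allRange 15640 15680 ((fun k => posTorOK Cfsg.Lie.chevE8 (k / 240) (k % 240))) = true := by decide +kernel
theorem e8Utor_10_15680 : allRange 15680 15720 ((fun k => posTorOK Cfsg.Lie.chevE8 (k / 240) (k % 240))) = true := by decide +kernel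
theorem e8Utor_10_15720 : allRange 15720 15760 ((fun k => posTorOK Cfsg.Lie.chevE8 (k / 240) (k % 240))) = true := by decide +kernel
theorem e8Utor_10_15760 : allRange 15760 15800 ((fun k => posTorOK Cfsg.Lie.chevE8 (k / 240) (k % 240))) = true := by decide +kernel
theorem e8Utor_10_15800 : allRange 15800 15840 ((fun k => posTorOK Cfsg.Lie.chevE8 (k / 240) (k % 240))) = true := by decide +kernel
theorem e8Utor_10_15840 : allRange 15840 15880 ((fun k => posTorOK Cfsg.Lie.chevE8 (k / 240) (k % 240))) = true := by decide +kernel
theorem e8Utor_10_15880 : allRange 15880 15920 ((fun k => posTorOK Cfsg.Lie.chevE8 (k / 240) (k % 240))) = true := by decide +kernel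
theorem e8Utor_10_15920 : allRange 15920 15960 ((fun k => posTorOK Cfsg.Lie.chevE8 (k / 240) (k % 240))) = true := by decide +kernel
theorem e8Utor_10_15960 : allRange 15960 16000 ((fun k => posTorOK Cfsg.Lie.chevE8 (k / 240) (k % 240))) = true := by decide +kernel
theorem e8Utor_10_16000 : allRange 16000 16040 ((fun k => posTorOK Cfsg.Lie.chevE8 (k / 240) (k % 240))) = true := by decide +kernel
theorem e8Utor_10_16040 : allRange 16040 16080 ((fun k => posTorOK Cfsg.Lie.chevE8 (k / 240) (k % 240))) = true := by decide +kernel
theorem e8Utor_10_16080 : allRange 16080 16120 ((fun k => posTorOK Cfsg.Lie.chevE8 (k / 240) (k % 240))) = true := by decide +kernel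
theorem e8Utor_10_16120 : allRange 16120 16160 ((fun k => posTorOK Cfsg.Lie.chevE8 (k / 240) (k % 240))) = true := by decide +kernel
theorem e8Utor_10_16160 : allRange 16160 16200 ((fun k => posTorOK Cfsg.Lie.chevE8 (k / 240) (k % 240))) = true := by decide +kernel
theorem e8Utor_10_16200 : allRange 16200 16240 ((fun k => posTorOK Cfsg.Lie.chevE8 (k / 240) (k % 240))) = true := by decide +kernel
theorem e8Utor_10_16240 : allRange 16240 16280 ((fun k => posTorOK Cfsg.Lie.chevE8 (k / 240) (k % 240))) = true := by decide +kernel

/-- Torus elements separating the pairs of positive roots of type E8 (roots 14800 to 16279). -/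
theorem e8Utor_10 : ∀ r, 14800 ≤ r → r < 16280 → ((fun k => posTorOK Cfsg.Lie.chevE8 (k / 240) (k % 240))) r = true := by
  intro r h1 h2
  by_cases c0 : r < 14840
  · exact allRange_spec e8Utor_10_14800 r (by omega) c0
  by_cases c1 : r < 14880
  · exact allRange_spec e8Utor_10_14840 r (by omega) c1
  by_cases c2 : r < 14920
  · exact allRange_spec e8Utor_10_14880 r (by omega) c2
  by_cases c3 : r < 14960
  · exact allRange_spec e8Utor_10_14920 r (by omega) c3
  by_cases c4 : r < 15000
  · exact allRange_spec e8Utor_10_14960 r (by omega) c4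
  by_cases c5 : r < 15040
  · exact allRange_spec e8Utor_10_15000 r (by omega) c5
  by_cases c6 : r < 15080
  · exact allRange_spec e8Utor_10_15040 r (by omega) c6
  by_cases c7 : r < 15120
  · exact allRange_spec e8Utor_10_15080 r (by omega) c7
  by_cases c8 : r < 15160
  · exact allRange_spec e8Utor_10_15120 r (by omega) c8
  by_cases c9 : r < 15200
  · exact allRange_spec e8Utor_10_15160 r (by omega) c9
  by_cases c10 : r < 15240
  · exact allRange_spec e8Utor_10_15200 r (by omega) c10
  by_cases c11 : r < 15280
  · exact allRange_spec e8Utor_10_15240 r (by omega) c11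
  by_cases c12 : r < 15320
  · exact allRange_spec e8Utor_10_15280 r (by omega) c12
  by_cases c13 : r < 15360
  · exact allRange_spec e8Utor_10_15320 r (by omega) c13
  by_cases c14 : r < 15400
  · exact allRange_spec e8Utor_10_15360 r (by omega) c14
  by_cases c15 : r < 15440
  · exact allRange_spec e8Utor_10_15400 r (by omega) c15
  by_cases c16 : r < 15480
  · exact allRange_spec e8Utor_10_15440 r (by omega) c16
  by_cases c17 : r < 15520
  · exact allRange_spec e8Utor_10_15480 r (by omega) c17
  by_cases c18 : r < 15560
  · exact allRange_spec e8Utor_10_15520 r (by omega) c18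
  by_cases c19 : r < 15600
  · exact allRange_spec e8Utor_10_15560 r (by omega) c19
  by_cases c20 : r < 15640
  · exact allRange_spec e8Utor_10_15600 r (by omega) c20
  by_cases c21 : r < 15680
  · exact allRange_spec e8Utor_10_15640 r (by omega) c21
  by_cases c22 : r < 15720
  · exact allRange_spec e8Utor_10_15680 r (by omega) c22
  by_cases c23 : r < 15760
  · exact allRange_spec e8Utor_10_15720 r (by omega) c23
  by_cases c24 : r < 15800
  · exact allRange_spec e8Utor_10_15760 r (by omega) c24
  by_cases c25 : r < 15840
  · exact allRange_spec e8Utor_10_15800 r (by omega) c25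
  by_cases c26 : r < 15880
  · exact allRange_spec e8Utor_10_15840 r (by omega) c26
  by_cases c27 : r < 15920
  · exact allRange_spec e8Utor_10_15880 r (by omega) c27
  by_cases c28 : r < 15960
  · exact allRange_spec e8Utor_10_15920 r (by omega) c28
  by_cases c29 : r < 16000
  · exact allRange_spec e8Utor_10_15960 r (by omega) c29
  by_cases c30 : r < 16040
  · exact allRange_spec e8Utor_10_16000 r (by omega) c30
  by_cases c31 : r < 16080
  · exact allRange_spec e8Utor_10_16040 r (by omega) c31
  by_cases c32 : r < 16120
  · exact allRange_spec e8Utor_10_16080 r (by omega) c32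
  by_cases c33 : r < 16160
  · exact allRange_spec e8Utor_10_16120 r (by omega) c33
  by_cases c34 : r < 16200
  · exact allRange_spec e8Utor_10_16160 r (by omega) c34
  by_cases c35 : r < 16240
  · exact allRange_spec e8Utor_10_16200 r (by omega) c35
  exact allRange_spec e8Utor_10_16240 r (by omega) h2

end Cfsg.Agent.Lib.Helper3.ChevM
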