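import Cfsg.Prelude.Def_ChevE8
import Cfsg.Agent.Lib.Helper3.StU10
set_option autoImplicit false
set_option maxRecDepth 1000000
set_option Elab.async false

namespace Cfsg.Agent.Lib.Helper3.ChevM
open Cfsg.Agent.Lib.Helper3.StB Cfsg.Agent.Lib.Helper3.StU

theorem e8Utor_21_31080 : allRange 31080 31120 ((fun k => posTorOK Cfsg.Lie.chevE8 (k / 240) (k % 240))) = true := by decide +kernel
theorem e8Utor_21_31120 : allRange 31120 31160 ((fun k => posTorOK Cfsg.Lie.chevE8 (k / 240) (k % 240))) = true := by decide +kernel
theorem e8Utor_21_31160 : allRange 31160 31200 ((fun k => posTorOK Cfsg.Lie.chevE8 (k / 240) (k % 240))) = true := by decide +kernel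
theorem e8Utor_21_31200 : allRange 31200 31240 ((fun k => posTorOK Cfsg.Lie.chevE8 (k / 240) (k % 240))) = true := by decide +kernel
theorem e8Utor_21_31240 : allRange 31240 31280 ((fun k => posTorOK Cfsg.Lie.chevE8 (k / 240) (k % 240))) = true := by decide +kernel
theorem e8Utor_21_31280 : allRange 31280 31320 ((fun k => posTorOK Cfsg.Lie.chevE8 (k / 240) (k % 240))) = true := by decide +kernel
theorem e8Utor_21_31320 : allRange 31320 31360 ((fun k => posTorOK Cfsg.Lie.chevE8 (k / 240) (k % 240))) = true := by decide +kernel
theorem e8Utor_21_31360 : allRange 31360 31400 ((fun k => posTorOK Cfsg.Lie.chevE8 (k / 240) (k % 240))) = true := by decide +kernel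
theorem e8Utor_21_31400 : allRange 31400 31440 ((fun k => posTorOK Cfsg.Lie.chevE8 (k / 240) (k % 240))) = true := by decide +kernel
theorem e8Utor_21_31440 : allRange 31440 31480 ((fun k => posTorOK Cfsg.Lie.chevE8 (k / 240) (k % 240))) = true := by decide +kernel
theorem e8Utor_21_31480 : allRange 31480 31520 ((fun k => posTorOK Cfsg.Lie.chevE8 (k / 240) (k % 240))) = true := by decide +kernel
theorem e8Utor_21_31520 : allRange 31520 31560 ((fun k => posTorOK Cfsg.Lie.chevE8 (k / 240) (k % 240))) = true := by decide +kernel
theorem e8Utor_21_31560 : allRange 31560 31600 ((fun k => posTorOK Cfsg.Lie.chevE8 (k / 240) (k % 240))) = true := by decide +kernel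
theorem e8Utor_21_31600 : allRange 31600 31640 ((fun k => posTorOK Cfsg.Lie.chevE8 (k / 240) (k % 240))) = true := by decide +kernel
theorem e8Utor_21_31640 : allRange 31640 31680 ((fun k => posTorOK Cfsg.Lie.chevE8 (k / 240) (k % 240))) = true := by decide +kernel
theorem e8Utor_21_31680 : allRange 31680 31720 ((fun k => posTorOK Cfsg.Lie.chevE8 (k / 240) (k % 240))) = true := by decide +kernel
theorem e8Utor_21_31720 : allRange 31720 31760 ((fun k => posTorOK Cfsg.Lie.chevE8 (k / 240) (k % 240))) = true := by decide +kernel
theorem e8Utor_21_31760 : allRange 31760 31800 ((fun k => posTorOK Cfsg.Lie.chevE8 (k / 240) (k % 240))) = true := by decide +kernel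
theorem e8Utor_21_31800 : allRange 31800 31840 ((fun k => posTorOK Cfsg.Lie.chevE8 (k / 240) (k % 240))) = true := by decide +kernel
theorem e8Utor_21_31840 : allRange 31840 31880 ((fun k => posTorOK Cfsg.Lie.chevE8 (k / 240) (k % 240))) = true := by decide +kernel
theorem e8Utor_21_31880 : allRange 31880 31920 ((fun k => posTorOK Cfsg.Lie.chevE8 (k / 240) (k % 240))) = true := by decide +kernel
theorem e8Utor_21_31920 : allRange 31920 31960 ((fun k => posTorOK Cfsg.Lie.chevE8 (k / 240) (k % 240))) = true := by decide +kernel
theorem e8Utor_21_31960 : allRange 31960 32000 ((fun k => posTorOK Cfsg.Lie.chevE8 (k / 240) (k % 240))) = true := by decide +kernel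
theorem e8Utor_21_32000 : allRange 32000 32040 ((fun k => posTorOK Cfsg.Lie.chevE8 (k / 240) (k % 240))) = true := by decide +kernel
theorem e8Utor_21_32040 : allRange 32040 32080 ((fun k => posTorOK Cfsg.Lie.chevE8 (k / 240) (k % 240))) = true := by decide +kernel
theorem e8Utor_21_32080 : allRange 32080 32120 ((fun k => posTorOK Cfsg.Lie.chevE8 (k / 240) (k % 240))) = true := by decide +kernel
theorem e8Utor_21_32120 : allRange 32120 32160 ((fun k => posTorOK Cfsg.Lie.chevE8 (k / 240) (k % 240))) = true := by decide +kernel
theorem e8Utor_21_32160 : allRange 32160 32200 ((fun k => posTorOK Cfsg.Lie.chevE8 (k / 240) (k % 240))) = true := by decide +kernel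
theorem e8Utor_21_32200 : allRange 32200 32240 ((fun k => posTorOK Cfsg.Lie.chevE8 (k / 240) (k % 240))) = true := by decide +kernel
theorem e8Utor_21_32240 : allRange 32240 32280 ((fun k => posTorOK Cfsg.Lie.chevE8 (k / 240) (k % 240))) = true := by decide +kernel
theorem e8Utor_21_32280 : allRange 32280 32320 ((fun k => posTorOK Cfsg.Lie.chevE8 (k / 240) (k % 240))) = true := by decide +kernel
theorem e8Utor_21_32320 : allRange 32320 32360 ((fun k => posTorOK Cfsg.Lie.chevE8 (k / 240) (k % 240))) = true := by decide +kernel
theorem e8Utor_21_32360 : allRange 32360 32400 ((fun k => posTorOK Cfsg.Lie.chevE8 (k / 240) (k % 240))) = true := by decide +kernel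
theorem e8Utor_21_32400 : allRange 32400 32440 ((fun k => posTorOK Cfsg.Lie.chevE8 (k / 240) (k % 240))) = true := by decide +kernel
theorem e8Utor_21_32440 : allRange 32440 32480 ((fun k => posTorOK Cfsg.Lie.chevE8 (k / 240) (k % 240))) = true := by decide +kernel
theorem e8Utor_21_32480 : allRange 32480 32520 ((fun k => posTorOK Cfsg.Lie.chevE8 (k / 240) (k % 240))) = true := by decide +kernel
theorem e8Utor_21_32520 : allRange 32520 32560 ((fun k => posTorOK Cfsg.Lie.chevE8 (k / 240) (k % 240))) = true := by decide +kernel

/-- Torus elements separating the pairs of positive roots of type E8 (roots 31080 to 32559). -/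
theorem e8Utor_21 : ∀ r, 31080 ≤ r → r < 32560 → ((fun k => posTorOK Cfsg.Lie.chevE8 (k / 240) (k % 240))) r = true := by
  intro r h1 h2
  by_cases c0 : r < 31120
  · exact allRange_spec e8Utor_21_31080 r (by omega) c0
  by_cases c1 : r < 31160
  · exact allRange_spec e8Utor_21_31120 r (by omega) c1
  by_cases c2 : r < 31200
  · exact allRange_spec e8Utor_21_31160 r (by omega) c2
  by_cases c3 : r < 31240
  · exact allRange_spec e8Utor_21_31200 r (by omega) c3
  by_cases c4 : r < 31280
  · exact allRange_spec e8Utor_21_31240 r (by omega) c4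
  by_cases c5 : r < 31320
  · exact allRange_spec e8Utor_21_31280 r (by omega) c5
  by_cases c6 : r < 31360
  · exact allRange_spec e8Utor_21_31320 r (by omega) c6
  by_cases c7 : r < 31400
  · exact allRange_spec e8Utor_21_31360 r (by omega) c7
  by_cases c8 : r < 31440
  · exact allRange_spec e8Utor_21_31400 r (by omega) c8
  by_cases c9 : r < 31480
  · exact allRange_spec e8Utor_21_31440 r (by omega) c9
  by_cases c10 : r < 31520
  · exact allRange_spec e8Utor_21_31480 r (by omega) c10
  by_cases c11 : r < 31560
  · exact allRange_spec e8Utor_21_31520 r (by omega) c11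
  by_cases c12 : r < 31600
  · exact allRange_spec e8Utor_21_31560 r (by omega) c12
  by_cases c13 : r < 31640
  · exact allRange_spec e8Utor_21_31600 r (by omega) c13
  by_cases c14 : r < 31680
  · exact allRange_spec e8Utor_21_31640 r (by omega) c14
  by_cases c15 : r < 31720
  · exact allRange_spec e8Utor_21_31680 r (by omega) c15
  by_cases c16 : r < 31760
  · exact allRange_spec e8Utor_21_31720 r (by omega) c16
  by_cases c17 : r < 31800
  · exact allRange_spec e8Utor_21_31760 r (by omega) c17
  by_cases c18 : r < 31840
  · exact allRange_spec e8Utor_21_31800 r (by omega) c18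
  by_cases c19 : r < 31880
  · exact allRange_spec e8Utor_21_31840 r (by omega) c19
  by_cases c20 : r < 31920
  · exact allRange_spec e8Utor_21_31880 r (by omega) c20
  by_cases c21 : r < 31960
  · exact allRange_spec e8Utor_21_31920 r (by omega) c21
  by_cases c22 : r < 32000
  · exact allRange_spec e8Utor_21_31960 r (by omega) c22
  by_cases c23 : r < 32040
  · exact allRange_spec e8Utor_21_32000 r (by omega) c23
  by_cases c24 : r < 32080
  · exact allRange_spec e8Utor_21_32040 r (by omega) c24
  by_cases c25 : r < 32120
  · exact allRange_spec e8Utor_21_32080 r (by omega) c25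
  by_cases c26 : r < 32160
  · exact allRange_spec e8Utor_21_32120 r (by omega) c26
  by_cases c27 : r < 32200
  · exact allRange_spec e8Utor_21_32160 r (by omega) c27
  by_cases c28 : r < 32240
  · exact allRange_spec e8Utor_21_32200 r (by omega) c28
  by_cases c29 : r < 32280
  · exact allRange_spec e8Utor_21_32240 r (by omega) c29
  by_cases c30 : r < 32320
  · exact allRange_spec e8Utor_21_32280 r (by omega) c30
  by_cases c31 : r < 32360
  · exact allRange_spec e8Utor_21_32320 r (by omega) c31
  by_cases c32 : r < 32400
  · exact allRange_spec e8Utor_21_32360 r (by omega) c32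
  by_cases c33 : r < 32440
  · exact allRange_spec e8Utor_21_32400 r (by omega) c33
  by_cases c34 : r < 32480
  · exact allRange_spec e8Utor_21_32440 r (by omega) c34
  by_cases c35 : r < 32520
  · exact allRange_spec e8Utor_21_32480 r (by omega) c35
  exact allRange_spec e8Utor_21_32520 r (by omega) h2

end Cfsg.Agent.Lib.Helper3.ChevM
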