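import Cfsg.Prelude.Def_ChevE8
import Cfsg.Agent.Lib.Helper3.ChevData.E8Hd2
import Cfsg.Agent.Lib.Helper3.ChevH2
set_option autoImplicit false
set_option maxRecDepth 1000000
set_option Elab.async false

namespace Cfsg.Agent.Lib.Helper3.ChevM

theorem e8Vec_0_0 : allRange 0 1111 ((fun k => vecCheck Cfsg.Lie.chevE8 vecE8 (k / 240) (k % 240))) = true := by decide +kernel
theorem e8Vec_0_1111 : allRange 1111 1920 ((fun k => vecCheck Cfsg.Lie.chevE8 vecE8 (k / 240) (k % 240))) = true := by decide +kernel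

/-- The Cartan integers of type E8 are linear in the roots (roots 0 to 1919). -/
theorem e8Vec_0 : ∀ r, 0 ≤ r → r < 1920 → ((fun k => vecCheck Cfsg.Lie.chevE8 vecE8 (k / 240) (k % 240))) r = true := by
  intro r h1 h2
  by_cases c0 : r < 1111
  · exact allRange_spec e8Vec_0_0 r (by omega) c0
  exact allRange_spec e8Vec_0_1111 r (by omega) h2

end Cfsg.Agent.Lib.Helper3.ChevM
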