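import Cfsg.Prelude.Def_ChevE8
import Cfsg.Agent.Lib.Helper3.ChevData.E8Hd2
import Cfsg.Agent.Lib.Helper3.ChevL2
set_option autoImplicit false
set_option maxRecDepth 1000000
set_option Elab.async false

namespace Cfsg.Agent.Lib.Helper3.ChevM

theorem e8Vs_0_0 : allRange 0 240 (fun r => vecSignCheck Cfsg.Lie.chevE8 vecE8 r) = true := by decide +kernel

/-- The coefficients of the roots and coroots of type E8 have the same signs (roots 0 to 239). -/
theorem e8Vs_0 : ∀ r, 0 ≤ r → r < 240 → (fun r => vecSignCheck Cfsg.Lie.chevE8 vecE8 r) r = true := by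
  intro r h1 h2
  exact allRange_spec e8Vs_0_0 r (by omega) h2

end Cfsg.Agent.Lib.Helper3.ChevM
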