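import Cfsg.Prelude.Def_ChevE8
import Cfsg.Agent.Lib.Helper3.ChevData.E8Tabs
import Cfsg.Agent.Lib.Helper3.ChevG5
set_option autoImplicit false
set_option maxRecDepth 1000000
set_option Elab.async false

namespace Cfsg.Agent.Lib.Helper3.ChevM

theorem e8Wp_0_0 : allRange 0 148 ((fun k => wpCheck Cfsg.Lie.chevE8 reflE8 (k / 240) (k % 240))) = true := by decide +kernel
theorem e8Wp_0_148 : allRange 148 296 ((fun k => wpCheck Cfsg.Lie.chevE8 reflE8 (k / 240) (k % 240))) = true := by decide +kernel
theorem e8Wp_0_296 : allRange 296 444 ((fun k => wpCheck Cfsg.Lie.chevE8 reflE8 (k / 240) (k % 240))) = true := by decide +kernel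
theorem e8Wp_0_444 : allRange 444 592 ((fun k => wpCheck Cfsg.Lie.chevE8 reflE8 (k / 240) (k % 240))) = true := by decide +kernel
theorem e8Wp_0_592 : allRange 592 740 ((fun k => wpCheck Cfsg.Lie.chevE8 reflE8 (k / 240) (k % 240))) = true := by decide +kernel
theorem e8Wp_0_740 : allRange 740 888 ((fun k => wpCheck Cfsg.Lie.chevE8 reflE8 (k / 240) (k % 240))) = true := by decide +kernel
theorem e8Wp_0_888 : allRange 888 1036 ((fun k => wpCheck Cfsg.Lie.chevE8 reflE8 (k / 240) (k % 240))) = true := by decide +kernel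
theorem e8Wp_0_1036 : allRange 1036 1184 ((fun k => wpCheck Cfsg.Lie.chevE8 reflE8 (k / 240) (k % 240))) = true := by decide +kernel
theorem e8Wp_0_1184 : allRange 1184 1332 ((fun k => wpCheck Cfsg.Lie.chevE8 reflE8 (k / 240) (k % 240))) = true := by decide +kernel
theorem e8Wp_0_1332 : allRange 1332 1480 ((fun k => wpCheck Cfsg.Lie.chevE8 reflE8 (k / 240) (k % 240))) = true := by decide +kernel
theorem e8Wp_0_1480 : allRange 1480 1628 ((fun k => wpCheck Cfsg.Lie.chevE8 reflE8 (k / 240) (k % 240))) = true := by decide +kernel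
theorem e8Wp_0_1628 : allRange 1628 1776 ((fun k => wpCheck Cfsg.Lie.chevE8 reflE8 (k / 240) (k % 240))) = true := by decide +kernel
theorem e8Wp_0_1776 : allRange 1776 1920 ((fun k => wpCheck Cfsg.Lie.chevE8 reflE8 (k / 240) (k % 240))) = true := by decide +kernel

/-- The fundamental reflections of type E8 permute the other positive roots (roots 0 to 1919). -/
theorem e8Wp_0 : ∀ r, 0 ≤ r → r < 1920 → ((fun k => wpCheck Cfsg.Lie.chevE8 reflE8 (k / 240) (k % 240))) r = true := by
  intro r h1 h2
  by_cases c0 : r < 148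
  · exact allRange_spec e8Wp_0_0 r (by omega) c0
  by_cases c1 : r < 296
  · exact allRange_spec e8Wp_0_148 r (by omega) c1
  by_cases c2 : r < 444
  · exact allRange_spec e8Wp_0_296 r (by omega) c2
  by_cases c3 : r < 592
  · exact allRange_spec e8Wp_0_444 r (by omega) c3
  by_cases c4 : r < 740
  · exact allRange_spec e8Wp_0_592 r (by omega) c4
  by_cases c5 : r < 888
  · exact allRange_spec e8Wp_0_740 r (by omega) c5
  by_cases c6 : r < 1036
  · exact allRange_spec e8Wp_0_888 r (by omega) c6
  by_cases c7 : r < 1184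
  · exact allRange_spec e8Wp_0_1036 r (by omega) c7
  by_cases c8 : r < 1332
  · exact allRange_spec e8Wp_0_1184 r (by omega) c8
  by_cases c9 : r < 1480
  · exact allRange_spec e8Wp_0_1332 r (by omega) c9
  by_cases c10 : r < 1628
  · exact allRange_spec e8Wp_0_1480 r (by omega) c10
  by_cases c11 : r < 1776
  · exact allRange_spec e8Wp_0_1628 r (by omega) c11
  exact allRange_spec e8Wp_0_1776 r (by omega) h2

end Cfsg.Agent.Lib.Helper3.ChevM
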