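import Cfsg.Prelude.Def_ChevE8
import Cfsg.Agent.Lib.Helper3.ChevData.E8Hd2
import Cfsg.Agent.Lib.Helper3.ChevData.E8Datum
import Cfsg.Agent.Lib.Helper3.ChevL2
set_option autoImplicit false
set_option maxRecDepth 1000000
set_option Elab.async false

namespace Cfsg.Agent.Lib.Helper3.ChevM

theorem e8Wt_1_16 : allRange 16 20 (fun r => wtCheck cdE8 vecE8 r) = true := by decide +kernel
theorem e8Wt_1_20 : allRange 20 24 (fun r => wtCheck cdE8 vecE8 r) = true := by decide +kernel
theorem e8Wt_1_24 : allRange 24 28 (fun r => wtCheck cdE8 vecE8 r) = true := by decide +kernel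
theorem e8Wt_1_28 : allRange 28 32 (fun r => wtCheck cdE8 vecE8 r) = true := by decide +kernel

/-- The entries of the root elements of type E8 raise the weights (roots 16 to 31). -/
theorem e8Wt_1 : ∀ r, 16 ≤ r → r < 32 → (fun r => wtCheck cdE8 vecE8 r) r = true := by
  intro r h1 h2
  by_cases c0 : r < 20
  · exact allRange_spec e8Wt_1_16 r (by omega) c0
  by_cases c1 : r < 24
  · exact allRange_spec e8Wt_1_20 r (by omega) c1
  by_cases c2 : r < 28
  · exact allRange_spec e8Wt_1_24 r (by omega) c2
  exact allRange_spec e8Wt_1_28 r (by omega) h2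

end Cfsg.Agent.Lib.Helper3.ChevM
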