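import Cfsg.Prelude.Def_ChevE8
import Cfsg.Agent.Lib.Helper3.ChevData.E8Hd2
import Cfsg.Agent.Lib.Helper3.ChevData.E8Datum
import Cfsg.Agent.Lib.Helper3.ChevL2
set_option autoImplicit false
set_option maxRecDepth 1000000
set_option Elab.async false

namespace Cfsg.Agent.Lib.Helper3.ChevM

theorem e8Wt_7_112 : allRange 112 116 (fun r => wtCheck cdE8 vecE8 r) = true := by decide +kernel
theorem e8Wt_7_116 : allRange 116 120 (fun r => wtCheck cdE8 vecE8 r) = true := by decide +kernel
theorem e8Wt_7_120 : allRange 120 124 (fun r => wtCheck cdE8 vecE8 r) = true := by decide +kernel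
theorem e8Wt_7_124 : allRange 124 128 (fun r => wtCheck cdE8 vecE8 r) = true := by decide +kernel

/-- The entries of the root elements of type E8 raise the weights (roots 112 to 127). -/
theorem e8Wt_7 : ∀ r, 112 ≤ r → r < 128 → (fun r => wtCheck cdE8 vecE8 r) r = true := by
  intro r h1 h2
  by_cases c0 : r < 116
  · exact allRange_spec e8Wt_7_112 r (by omega) c0
  by_cases c1 : r < 120
  · exact allRange_spec e8Wt_7_116 r (by omega) c1
  by_cases c2 : r < 124
  · exact allRange_spec e8Wt_7_120 r (by omega) c2
  exact allRange_spec e8Wt_7_124 r (by omega) h2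

end Cfsg.Agent.Lib.Helper3.ChevM
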