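import Cfsg.Prelude.Def_ChevE8
import Cfsg.Agent.Lib.Helper3.ChevData.E8Hd2
import Cfsg.Agent.Lib.Helper3.ChevData.E8Datum
import Cfsg.Agent.Lib.Helper3.ChevL2
set_option autoImplicit false
set_option maxRecDepth 1000000
set_option Elab.async false

namespace Cfsg.Agent.Lib.Helper3.ChevM

theorem e8Wt_11_176 : allRange 176 180 (fun r => wtCheck cdE8 vecE8 r) = true := by decide +kernel
theorem e8Wt_11_180 : allRange 180 184 (fun r => wtCheck cdE8 vecE8 r) = true := by decide +kernel
theorem e8Wt_11_184 : allRange 184 188 (fun r => wtCheck cdE8 vecE8 r) = true := by decide +kernel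
theorem e8Wt_11_188 : allRange 188 192 (fun r => wtCheck cdE8 vecE8 r) = true := by decide +kernel

/-- The entries of the root elements of type E8 raise the weights (roots 176 to 191). -/
theorem e8Wt_11 : ∀ r, 176 ≤ r → r < 192 → (fun r => wtCheck cdE8 vecE8 r) r = true := by
  intro r h1 h2
  by_cases c0 : r < 180
  · exact allRange_spec e8Wt_11_176 r (by omega) c0
  by_cases c1 : r < 184
  · exact allRange_spec e8Wt_11_180 r (by omega) c1
  by_cases c2 : r < 188
  · exact allRange_spec e8Wt_11_184 r (by omega) c2
  exact allRange_spec e8Wt_11_188 r (by omega) h2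

end Cfsg.Agent.Lib.Helper3.ChevM
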