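import Cfsg.Prelude.Def_ChevE8
import Cfsg.Agent.Lib.Helper3.ChevData.E8Hd2
import Cfsg.Agent.Lib.Helper3.ChevData.E8Datum
import Cfsg.Agent.Lib.Helper3.ChevL2
set_option autoImplicit false
set_option maxRecDepth 1000000
set_option Elab.async false

namespace Cfsg.Agent.Lib.Helper3.ChevM

theorem e8Wt_13_208 : allRange 208 212 (fun r => wtCheck cdE8 vecE8 r) = true := by decide +kernel
theorem e8Wt_13_212 : allRange 212 216 (fun r => wtCheck cdE8 vecE8 r) = true := by decide +kernel
theorem e8Wt_13_216 : allRange 216 220 (fun r => wtCheck cdE8 vecE8 r) = true := by decide +kernel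
theorem e8Wt_13_220 : allRange 220 224 (fun r => wtCheck cdE8 vecE8 r) = true := by decide +kernel

/-- The entries of the root elements of type E8 raise the weights (roots 208 to 223). -/
theorem e8Wt_13 : ∀ r, 208 ≤ r → r < 224 → (fun r => wtCheck cdE8 vecE8 r) r = true := by
  intro r h1 h2
  by_cases c0 : r < 212
  · exact allRange_spec e8Wt_13_208 r (by omega) c0
  by_cases c1 : r < 216
  · exact allRange_spec e8Wt_13_212 r (by omega) c1
  by_cases c2 : r < 220
  · exact allRange_spec e8Wt_13_216 r (by omega) c2
  exact allRange_spec e8Wt_13_220 r (by omega) h2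

end Cfsg.Agent.Lib.Helper3.ChevM
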