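import Cfsg.Agent.Lib.Helper3.ChevData.E8WtA
import Cfsg.Agent.Lib.Helper3.ChevData.E8WtB
import Cfsg.Agent.Lib.Helper3.ChevData.E8WtC
import Cfsg.Agent.Lib.Helper3.ChevData.E8WtD
import Cfsg.Agent.Lib.Helper3.ChevData.E8WtE
import Cfsg.Agent.Lib.Helper3.ChevData.E8WtF
import Cfsg.Agent.Lib.Helper3.ChevData.E8WtG
import Cfsg.Agent.Lib.Helper3.ChevData.E8WtH
import Cfsg.Agent.Lib.Helper3.ChevData.E8WtI
import Cfsg.Agent.Lib.Helper3.ChevData.E8WtJ
import Cfsg.Agent.Lib.Helper3.ChevData.E8WtK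
import Cfsg.Agent.Lib.Helper3.ChevData.E8WtL
import Cfsg.Agent.Lib.Helper3.ChevData.E8WtM
import Cfsg.Agent.Lib.Helper3.ChevData.E8WtN
import Cfsg.Agent.Lib.Helper3.ChevData.E8WtO
set_option autoImplicit false

namespace Cfsg.Agent.Lib.Helper3.ChevM

/-- The entries of the root elements of type E8 raise the weights. -/
theorem e8Wt : ∀ r < 240, (fun r => wtCheck cdE8 vecE8 r) r = true := by
  intro r hr
  by_cases h0 : r < 16
  · exact e8Wt_0 r (by omega) h0
  by_cases h1 : r < 32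
  · exact e8Wt_1 r (by omega) h1
  by_cases h2 : r < 48
  · exact e8Wt_2 r (by omega) h2
  by_cases h3 : r < 64
  · exact e8Wt_3 r (by omega) h3
  by_cases h4 : r < 80
  · exact e8Wt_4 r (by omega) h4
  by_cases h5 : r < 96
  · exact e8Wt_5 r (by omega) h5
  by_cases h6 : r < 112
  · exact e8Wt_6 r (by omega) h6
  by_cases h7 : r < 128
  · exact e8Wt_7 r (by omega) h7
  by_cases h8 : r < 144
  · exact e8Wt_8 r (by omega) h8
  by_cases h9 : r < 160
  · exact e8Wt_9 r (by omega) h9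
  by_cases h10 : r < 176
  · exact e8Wt_10 r (by omega) h10
  by_cases h11 : r < 192
  · exact e8Wt_11 r (by omega) h11
  by_cases h12 : r < 208
  · exact e8Wt_12 r (by omega) h12
  by_cases h13 : r < 224
  · exact e8Wt_13 r (by omega) h13
  exact e8Wt_14 r (by omega) hr

end Cfsg.Agent.Lib.Helper3.ChevM
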