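import Cfsg.Agent.Lib.Helper3.ChevData.F4AddA
set_option autoImplicit false

namespace Cfsg.Agent.Lib.Helper3.ChevM

/-- Additivity check for the root elements of type F4. -/
theorem f4Add : ∀ r < 48, (cdF4.checkAdd) r = true := by
  intro r hr
  exact f4Add_0 r (by omega) hr

end Cfsg.Agent.Lib.Helper3.ChevM
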