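import Cfsg.Prelude.Def_ChevF4
import Cfsg.Agent.Lib.Helper3.StB5
set_option autoImplicit false
set_option maxRecDepth 1000000
set_option Elab.async false

namespace Cfsg.Agent.Lib.Helper3.ChevM
open Cfsg.Agent.Lib.Helper3.StB

theorem f4Cneg_0_0 : allRange 0 99 ((fun k => commNegCheck Cfsg.Lie.chevF4 (k / 48) (k % 48))) = true := by decide +kernel
theorem f4Cneg_0_99 : allRange 99 198 ((fun k => commNegCheck Cfsg.Lie.chevF4 (k / 48) (k % 48))) = true := by decide +kernel
theorem f4Cneg_0_198 : allRange 198 297 ((fun k => commNegCheck Cfsg.Lie.chevF4 (k / 48) (k % 48))) = true := by decide +kernel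
theorem f4Cneg_0_297 : allRange 297 396 ((fun k => commNegCheck Cfsg.Lie.chevF4 (k / 48) (k % 48))) = true := by decide +kernel
theorem f4Cneg_0_396 : allRange 396 495 ((fun k => commNegCheck Cfsg.Lie.chevF4 (k / 48) (k % 48))) = true := by decide +kernel
theorem f4Cneg_0_495 : allRange 495 594 ((fun k => commNegCheck Cfsg.Lie.chevF4 (k / 48) (k % 48))) = true := by decide +kernel
theorem f4Cneg_0_594 : allRange 594 693 ((fun k => commNegCheck Cfsg.Lie.chevF4 (k / 48) (k % 48))) = true := by decide +kernel
theorem f4Cneg_0_693 : allRange 693 792 ((fun k => commNegCheck Cfsg.Lie.chevF4 (k / 48) (k % 48))) = true := by decide +kernel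
theorem f4Cneg_0_792 : allRange 792 891 ((fun k => commNegCheck Cfsg.Lie.chevF4 (k / 48) (k % 48))) = true := by decide +kernel
theorem f4Cneg_0_891 : allRange 891 990 ((fun k => commNegCheck Cfsg.Lie.chevF4 (k / 48) (k % 48))) = true := by decide +kernel
theorem f4Cneg_0_990 : allRange 990 1089 ((fun k => commNegCheck Cfsg.Lie.chevF4 (k / 48) (k % 48))) = true := by decide +kernel
theorem f4Cneg_0_1089 : allRange 1089 1188 ((fun k => commNegCheck Cfsg.Lie.chevF4 (k / 48) (k % 48))) = true := by decide +kernel
theorem f4Cneg_0_1188 : allRange 1188 1287 ((fun k => commNegCheck Cfsg.Lie.chevF4 (k / 48) (k % 48))) = true := by decide +kernel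
theorem f4Cneg_0_1287 : allRange 1287 1386 ((fun k => commNegCheck Cfsg.Lie.chevF4 (k / 48) (k % 48))) = true := by decide +kernel
theorem f4Cneg_0_1386 : allRange 1386 1485 ((fun k => commNegCheck Cfsg.Lie.chevF4 (k / 48) (k % 48))) = true := by decide +kernel
theorem f4Cneg_0_1485 : allRange 1485 1584 ((fun k => commNegCheck Cfsg.Lie.chevF4 (k / 48) (k % 48))) = true := by decide +kernel
theorem f4Cneg_0_1584 : allRange 1584 1683 ((fun k => commNegCheck Cfsg.Lie.chevF4 (k / 48) (k % 48))) = true := by decide +kernel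
theorem f4Cneg_0_1683 : allRange 1683 1782 ((fun k => commNegCheck Cfsg.Lie.chevF4 (k / 48) (k % 48))) = true := by decide +kernel
theorem f4Cneg_0_1782 : allRange 1782 1881 ((fun k => commNegCheck Cfsg.Lie.chevF4 (k / 48) (k % 48))) = true := by decide +kernel
theorem f4Cneg_0_1881 : allRange 1881 1980 ((fun k => commNegCheck Cfsg.Lie.chevF4 (k / 48) (k % 48))) = true := by decide +kernel
theorem f4Cneg_0_1980 : allRange 1980 2079 ((fun k => commNegCheck Cfsg.Lie.chevF4 (k / 48) (k % 48))) = true := by decide +kernel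
theorem f4Cneg_0_2079 : allRange 2079 2178 ((fun k => commNegCheck Cfsg.Lie.chevF4 (k / 48) (k % 48))) = true := by decide +kernel
theorem f4Cneg_0_2178 : allRange 2178 2277 ((fun k => commNegCheck Cfsg.Lie.chevF4 (k / 48) (k % 48))) = true := by decide +kernel
theorem f4Cneg_0_2277 : allRange 2277 2304 ((fun k => commNegCheck Cfsg.Lie.chevF4 (k / 48) (k % 48))) = true := by decide +kernel

/-- The commutator formula of type F4 for opposite roots (roots 0 to 2303). -/
theorem f4Cneg_0 : ∀ r, 0 ≤ r → r < 2304 → ((fun k => commNegCheck Cfsg.Lie.chevF4 (k / 48) (k % 48))) r = true := by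
  intro r h1 h2
  by_cases c0 : r < 99
  · exact allRange_spec f4Cneg_0_0 r (by omega) c0
  by_cases c1 : r < 198
  · exact allRange_spec f4Cneg_0_99 r (by omega) c1
  by_cases c2 : r < 297
  · exact allRange_spec f4Cneg_0_198 r (by omega) c2
  by_cases c3 : r < 396
  · exact allRange_spec f4Cneg_0_297 r (by omega) c3
  by_cases c4 : r < 495
  · exact allRange_spec f4Cneg_0_396 r (by omega) c4
  by_cases c5 : r < 594
  · exact allRange_spec f4Cneg_0_495 r (by omega) c5
  by_cases c6 : r < 693
  · exact allRange_spec f4Cneg_0_594 r (by omega) c6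
  by_cases c7 : r < 792
  · exact allRange_spec f4Cneg_0_693 r (by omega) c7
  by_cases c8 : r < 891
  · exact allRange_spec f4Cneg_0_792 r (by omega) c8
  by_cases c9 : r < 990
  · exact allRange_spec f4Cneg_0_891 r (by omega) c9
  by_cases c10 : r < 1089
  · exact allRange_spec f4Cneg_0_990 r (by omega) c10
  by_cases c11 : r < 1188
  · exact allRange_spec f4Cneg_0_1089 r (by omega) c11
  by_cases c12 : r < 1287
  · exact allRange_spec f4Cneg_0_1188 r (by omega) c12
  by_cases c13 : r < 1386
  · exact allRange_spec f4Cneg_0_1287 r (by omega) c13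
  by_cases c14 : r < 1485
  · exact allRange_spec f4Cneg_0_1386 r (by omega) c14
  by_cases c15 : r < 1584
  · exact allRange_spec f4Cneg_0_1485 r (by omega) c15
  by_cases c16 : r < 1683
  · exact allRange_spec f4Cneg_0_1584 r (by omega) c16
  by_cases c17 : r < 1782
  · exact allRange_spec f4Cneg_0_1683 r (by omega) c17
  by_cases c18 : r < 1881
  · exact allRange_spec f4Cneg_0_1782 r (by omega) c18
  by_cases c19 : r < 1980
  · exact allRange_spec f4Cneg_0_1881 r (by omega) c19
  by_cases c20 : r < 2079
  · exact allRange_spec f4Cneg_0_1980 r (by omega) c20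
  by_cases c21 : r < 2178
  · exact allRange_spec f4Cneg_0_2079 r (by omega) c21
  by_cases c22 : r < 2277
  · exact allRange_spec f4Cneg_0_2178 r (by omega) c22
  exact allRange_spec f4Cneg_0_2277 r (by omega) h2

end Cfsg.Agent.Lib.Helper3.ChevM
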