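import Cfsg.Agent.Lib.Helper3.ChevData.F4ColsA
set_option autoImplicit false

namespace Cfsg.Agent.Lib.Helper3.ChevM

/-- Compiled columns of the root elements of type F4. -/
def colsF4 (r c : ℕ) : List CEnt :=
  cond (Nat.blt r 24) (cond (Nat.blt r 12) (cond (Nat.blt r 6) (cond (Nat.blt r 3) (cond (Nat.blt r 1) (cond (Nat.beq r 0) (colsF4_0 c) []) (cond (Nat.blt r 2) (cond (Nat.beq r 1) (colsF4_1 c) []) (cond (Nat.beq r 2) (colsF4_2 c) []))) (cond (Nat.blt r 4) (cond (Nat.beq r 3) (colsF4_3 c) []) (cond (Nat.blt r 5) (cond (Nat.beq r 4) (colsF4_4 c) []) (cond (Nat.beq r 5) (colsF4_5 c) [])))) (cond (Nat.blt r 9) (cond (Nat.blt r 7) (cond (Nat.beq r 6) (colsF4_6 c) []) (cond (Nat.blt r 8) (cond (Nat.beq r 7) (colsF4_7 c) []) (cond (Nat.beq r 8) (colsF4_8 c) []))) (cond (Nat.blt r 10) (cond (Nat.beq r 9) (colsF4_9 c) []) (cond (Nat.blt r 11) (cond (Nat.beq r 10) (colsF4_10 c) []) (cond (Nat.beq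 r 11) (colsF4_11 c) []))))) (cond (Nat.blt r 18) (cond (Nat.blt r 15) (cond (Nat.blt r 13) (cond (Nat.beq r 12) (colsF4_12 c) []) (cond (Nat.blt r 14) (cond (Nat.beq r 13) (colsF4_13 c) []) (cond (Nat.beq r 14) (colsF4_14 c) []))) (cond (Nat.blt r 16) (cond (Nat.beq r 15) (colsF4_15 c) []) (cond (Nat.blt r 17) (cond (Nat.beq r 16) (colsF4_16 c) []) (cond (Nat.beq r 17) (colsF4_17 c) [])))) (cond (Nat.blt r 21) (cond (Nat.blt r 19) (cond (Nat.beq r 18) (colsF4_18 c) []) (cond (Nat.blt r 20) (cond (Nat.beq r 19) (colsF4_19 c) []) (cond (Nat.beq r 20) (colsF4_20 c) []))) (cond (Nat.blt r 22) (cond (Nat.beq r 21) (colsF4_21 c) []) (cond (Nat.blt r 23) (cond (Nat.beq r 22) (colsF4_22 c) []) (cond (Nat.beq r 23) (colsF4_23 c) [])))))) (cond (Nat.blt r 36) (cond (Nat.blt r 30) (cond (Nat.blt r 27) (cond (Nat.blt r 25) (cond (Nat.beq r 24) (colsF4_24 c) []) (cond (Nat.blt r 26) (cond (Nat.beq r 25)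 (colsF4_25 c) []) (cond (Nat.beq r 26) (colsF4_26 c) []))) (cond (Nat.blt r 28) (cond (Nat.beq r 27) (colsF4_27 c) []) (cond (Nat.blt r 29) (cond (Nat.beq r 28) (colsF4_28 c) []) (cond (Nat.beq r 29) (colsF4_29 c) [])))) (cond (Nat.blt r 33) (cond (Nat.blt r 31) (cond (Nat.beq r 30) (colsF4_30 c) []) (cond (Nat.blt r 32) (cond (Nat.beq r 31) (colsF4_31 c) []) (cond (Nat.beq r 32) (colsF4_32 c) []))) (cond (Nat.blt r 34) (cond (Nat.beq r 33) (colsF4_33 c) []) (cond (Nat.blt r 35) (cond (Nat.beq r 34) (colsF4_34 c) []) (cond (Nat.beq r 35) (colsF4_35 c) []))))) (cond (Nat.blt r 42) (cond (Nat.blt r 39) (cond (Nat.blt r 37) (cond (Nat.beq r 36) (colsF4_36 c) []) (cond (Nat.blt r 38) (cond (Nat.beq r 37) (colsF4_37 c) []) (cond (Nat.beq r 38) (colsF4_38 c) []))) (cond (Nat.blt r 40) (cond (Nat.beq r 39) (colsF4_39 c) []) (cond (Nat.blt r 41) (cond (Nat.beq r 40) (colsF4_40 c) []) (cond (Nat.beq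 r 41) (colsF4_41 c) [])))) (cond (Nat.blt r 45) (cond (Nat.blt r 43) (cond (Nat.beq r 42) (colsF4_42 c) []) (cond (Nat.blt r 44) (cond (Nat.beq r 43) (colsF4_43 c) []) (cond (Nat.beq r 44) (colsF4_44 c) []))) (cond (Nat.blt r 46) (cond (Nat.beq r 45) (colsF4_45 c) []) (cond (Nat.blt r 47) (cond (Nat.beq r 46) (colsF4_46 c) []) (cond (Nat.beq r 47) (colsF4_47 c) []))))))

end Cfsg.Agent.Lib.Helper3.ChevM
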