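import Cfsg.Agent.Lib.Helper3.ChevM2
set_option autoImplicit false
set_option maxRecDepth 100000

namespace Cfsg.Agent.Lib.Helper3.ChevM

/-- Compiled columns of `x_0` for type F4. -/
def colsF4_0 (c : ℕ) : List CEnt :=
  cond (Nat.blt c 40) (cond (Nat.blt c 28) (cond (Nat.blt c 2) (cond (Nat.blt c 1) (cond (Nat.beq c 0) [⟨4, 0, 1⟩] []) (cond (Nat.beq c 1) [⟨4, 0, 1⟩] [])) (cond (Nat.blt c 3) (cond (Nat.beq c 2) [⟨4, 0, 1⟩] []) (cond (Nat.beq c 3) [⟨4, 1, 1⟩] []))) (cond (Nat.blt c 33) (cond (Nat.blt c 30) (cond (Nat.beq c 28) [⟨5, 1, 1⟩] []) (cond (Nat.beq c 30) [⟨6, 1, 1⟩] [])) (cond (Nat.blt c 35) (cond (Nat.beq c 33) [⟨7, 1, 1⟩] []) (cond (Nat.blt c 36) (cond (Nat.beq c 35) [⟨8, -1, 1⟩] []) (cond (Nat.beq c 36) [⟨9, 1, 1⟩] []))))) (cond (Nat.blt c 47) (cond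 (Nat.blt c 43) (cond (Nat.blt c 42) (cond (Nat.beq c 40) [⟨11, 1, 1⟩] []) (cond (Nat.beq c 42) [⟨12, -1, 1⟩] [])) (cond (Nat.blt c 44) (cond (Nat.beq c 43) [⟨13, 1, 1⟩] []) (cond (Nat.blt c 46) (cond (Nat.beq c 44) [⟨15, -1, 1⟩] []) (cond (Nat.beq c 46) [⟨19, -1, 1⟩] [])))) (cond (Nat.blt c 49) (cond (Nat.blt c 48) (cond (Nat.beq c 47) [⟨20, 1, 1⟩] []) (cond (Nat.beq c 48) [⟨22, -1, 1⟩] [])) (cond (Nat.blt c 50) (cond (Nat.beq c 49) [⟨25, -1, 1⟩] []) (cond (Nat.blt c 51) (cond (Nat.beq c 50) [⟨27, -1, 1⟩] []) (cond (Nat.beq c 51) [⟨4, -1, 2⟩, ⟨0, -1, 1⟩, ⟨1, -2, 1⟩, ⟨2, -3, 1⟩, ⟨3, -2, 1⟩] [])))))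

/-- Compiled columns of `x_1` for type F4. -/
def colsF4_1 (c : ℕ) : List CEnt :=
  cond (Nat.blt c 39) (cond (Nat.blt c 27) (cond (Nat.blt c 2) (cond (Nat.blt c 1) (cond (Nat.beq c 0) [⟨5, 0, 1⟩] []) (cond (Nat.beq c 1) [⟨5, 0, 1⟩] [])) (cond (Nat.blt c 3) (cond (Nat.beq c 2) [⟨5, 1, 1⟩] []) (cond (Nat.beq c 3) [⟨5, -1, 1⟩] []))) (cond (Nat.blt c 32) (cond (Nat.blt c 29) (cond (Nat.beq c 27) [⟨4, 1, 1⟩] []) (cond (Nat.beq c 29) [⟨6, 1, 1⟩] [])) (cond (Nat.blt c 34) (cond (Nat.beq c 32) [⟨7, 1, 1⟩] []) (cond (Nat.blt c 36) (cond (Nat.beq c 34) [⟨8, -1, 1⟩] []) (cond (Nat.beq c 36) [⟨10, 1, 1⟩] []))))) (cond (Nat.blt c 47) (cond (Nat.blt c 43) (cond (Nat.blt c 41) (cond (Nat.beq c 39) [⟨11, 1, 1⟩] []) (cond (Nat.beq c 41) [⟨12, -1, 1⟩] [])) (cond (Nat.blt c 44)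 (cond (Nat.beq c 43) [⟨14, 1, 1⟩] []) (cond (Nat.blt c 45) (cond (Nat.beq c 44) [⟨16, -1, 1⟩] []) (cond (Nat.beq c 45) [⟨19, -1, 1⟩] [])))) (cond (Nat.blt c 49) (cond (Nat.blt c 48) (cond (Nat.beq c 47) [⟨21, 1, 1⟩] []) (cond (Nat.beq c 48) [⟨23, -1, 1⟩] [])) (cond (Nat.blt c 50) (cond (Nat.beq c 49) [⟨26, -1, 1⟩] []) (cond (Nat.blt c 51) (cond (Nat.beq c 50) [⟨5, -1, 2⟩, ⟨0, -1, 1⟩, ⟨1, -2, 1⟩, ⟨2, -3, 1⟩, ⟨3, -1, 1⟩] []) (cond (Nat.beq c 51) [⟨28, -1, 1⟩] [])))))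

/-- Compiled columns of `x_2` for type F4. -/
def colsF4_2 (c : ℕ) : List CEnt :=
  cond (Nat.blt c 38) (cond (Nat.blt c 25) (cond (Nat.blt c 2) (cond (Nat.blt c 1) (cond (Nat.beq c 0) [⟨6, 0, 1⟩] []) (cond (Nat.beq c 1) [⟨6, 2, 1⟩] [])) (cond (Nat.blt c 3) (cond (Nat.beq c 2) [⟨6, -1, 1⟩] []) (cond (Nat.beq c 3) [⟨6, 0, 1⟩] []))) (cond (Nat.blt c 31) (cond (Nat.blt c 26) (cond (Nat.beq c 25) [⟨4, 1, 1⟩] []) (cond (Nat.beq c 26) [⟨5, 1, 1⟩] [])) (cond (Nat.blt c 34) (cond (Nat.beq c 31) [⟨7, 1, 1⟩] []) (cond (Nat.blt c 35) (cond (Nat.beq c 34) [⟨9, -1, 1⟩] []) (cond (Nat.beq c 35) [⟨10, 1, 1⟩] []))))) (cond (Nat.blt c 46) (cond (Nat.blt c 42) (cond (Nat.blt c 41) (cond (Nat.beq c 38) [⟨11, 1, 1⟩] []) (cond (Nat.beq c 41) [⟨13, -1, 1⟩] [])) (cond (Nat.blt c 44)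 (cond (Nat.beq c 42) [⟨14, 1, 1⟩] []) (cond (Nat.blt c 45) (cond (Nat.beq c 44) [⟨17, -1, 1⟩] []) (cond (Nat.beq c 45) [⟨20, -1, 1⟩] [])))) (cond (Nat.blt c 49) (cond (Nat.blt c 48) (cond (Nat.beq c 46) [⟨21, 1, 1⟩] []) (cond (Nat.beq c 48) [⟨24, -1, 1⟩] [])) (cond (Nat.blt c 50) (cond (Nat.beq c 49) [⟨6, -1, 2⟩, ⟨0, -1, 1⟩, ⟨1, -2, 1⟩, ⟨2, -2, 1⟩, ⟨3, -1, 1⟩] []) (cond (Nat.blt c 51) (cond (Nat.beq c 50) [⟨29, -1, 1⟩] []) (cond (Nat.beq c 51) [⟨30, -1, 1⟩] [])))))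

/-- Compiled columns of `x_3` for type F4. -/
def colsF4_3 (c : ℕ) : List CEnt :=
  cond (Nat.blt c 39) (cond (Nat.blt c 24) (cond (Nat.blt c 3) (cond (Nat.blt c 1) (cond (Nat.beq c 0) [⟨7, 1, 1⟩] []) (cond (Nat.blt c 2) (cond (Nat.beq c 1) [⟨7, 0, 1⟩] []) (cond (Nat.beq c 2) [⟨7, 0, 1⟩] []))) (cond (Nat.blt c 22) (cond (Nat.beq c 3) [⟨7, 0, 1⟩] []) (cond (Nat.blt c 23) (cond (Nat.beq c 22) [⟨4, 2, 1⟩] []) (cond (Nat.beq c 23) [⟨5, 2, 1⟩] [])))) (cond (Nat.blt c 33) (cond (Nat.blt c 31) (cond (Nat.beq c 24) [⟨6, 2, 1⟩] []) (cond (Nat.blt c 32) (cond (Nat.beq c 31) [⟨8, 2, 1⟩] []) (cond (Nat.beq c 32) [⟨9, -2, 1⟩] []))) (cond (Nat.blt c 37) (cond (Nat.beq c 33) [⟨10, 2, 1⟩] []) (cond (Nat.blt c 38) (cond (Nat.beq c 37) [⟨11, 1, 1⟩] []) (cond (Nat.beq c 38) [⟨12,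 1, 1⟩] []))))) (cond (Nat.blt c 45) (cond (Nat.blt c 42) (cond (Nat.blt c 40) (cond (Nat.beq c 39) [⟨13, -1, 1⟩] []) (cond (Nat.blt c 41) (cond (Nat.beq c 40) [⟨14, 1, 1⟩] []) (cond (Nat.beq c 41) [⟨15, -1, 1⟩] []))) (cond (Nat.blt c 43) (cond (Nat.beq c 42) [⟨16, 1, 1⟩] []) (cond (Nat.blt c 44) (cond (Nat.beq c 43) [⟨17, -1, 1⟩] []) (cond (Nat.beq c 44) [⟨18, -1, 1⟩] [])))) (cond (Nat.blt c 48) (cond (Nat.blt c 46) (cond (Nat.beq c 45) [⟨22, -1, 1⟩, ⟨4, -1, 2⟩] []) (cond (Nat.blt c 47) (cond (Nat.beq c 46) [⟨23, 1, 1⟩, ⟨5, 1, 2⟩] []) (cond (Nat.beq c 47) [⟨24, -1, 1⟩, ⟨6, -1, 2⟩] []))) (cond (Nat.blt c 50) (cond (Nat.blt c 49) (cond (Nat.beq c 48) [⟨7, -1, 2⟩, ⟨0, -2, 1⟩, ⟨1, -3, 1⟩, ⟨2, -4, 1⟩, ⟨3, -2, 1⟩] []) (cond (Nat.beq c 49) [⟨31, -1, 1⟩, ⟨8, -1, 2⟩]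 [])) (cond (Nat.blt c 51) (cond (Nat.beq c 50) [⟨32, -1, 1⟩, ⟨9, 1, 2⟩] []) (cond (Nat.beq c 51) [⟨33, -1, 1⟩, ⟨10, -1, 2⟩] [])))))

/-- Compiled columns of `x_4` for type F4. -/
def colsF4_4 (c : ℕ) : List CEnt :=
  cond (Nat.blt c 37) (cond (Nat.blt c 20) (cond (Nat.blt c 2) (cond (Nat.blt c 1) (cond (Nat.beq c 0) [⟨8, 2, 1⟩] []) (cond (Nat.beq c 1) [⟨8, -2, 1⟩] [])) (cond (Nat.blt c 3) (cond (Nat.beq c 2) [⟨8, 1, 1⟩] []) (cond (Nat.beq c 3) [⟨8, 0, 1⟩] []))) (cond (Nat.blt c 24) (cond (Nat.blt c 21) (cond (Nat.beq c 20) [⟨4, -1, 1⟩] []) (cond (Nat.beq c 21) [⟨5, -1, 1⟩] [])) (cond (Nat.blt c 29) (cond (Nat.beq c 24) [⟨7, 1, 1⟩] []) (cond (Nat.blt c 30) (cond (Nat.beq c 29) [⟨9, 1, 1⟩] []) (cond (Nat.beq c 30) [⟨10, -1, 1⟩] []))))) (cond (Nat.blt c 46) (cond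 (Nat.blt c 40) (cond (Nat.blt c 39) (cond (Nat.beq c 37) [⟨12, 1, 1⟩] []) (cond (Nat.beq c 39) [⟨15, -1, 1⟩] [])) (cond (Nat.blt c 43) (cond (Nat.beq c 40) [⟨16, 1, 1⟩] []) (cond (Nat.blt c 45) (cond (Nat.beq c 43) [⟨18, -1, 1⟩] []) (cond (Nat.beq c 45) [⟨25, 1, 1⟩] [])))) (cond (Nat.blt c 48) (cond (Nat.blt c 47) (cond (Nat.beq c 46) [⟨26, -1, 1⟩] []) (cond (Nat.beq c 47) [⟨8, -1, 2⟩, ⟨0, -1, 1⟩, ⟨1, -1, 1⟩, ⟨2, -2, 1⟩, ⟨3, -1, 1⟩] [])) (cond (Nat.blt c 50) (cond (Nat.beq c 48) [⟨31, -1, 1⟩] []) (cond (Nat.blt c 51) (cond (Nat.beq c 50) [⟨34, 1, 1⟩] []) (cond (Nat.beq c 51) [⟨35, 1, 1⟩] [])))))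

/-- Compiled columns of `x_5` for type F4. -/
def colsF4_5 (c : ℕ) : List CEnt :=
  cond (Nat.blt c 37) (cond (Nat.blt c 19) (cond (Nat.blt c 2) (cond (Nat.blt c 1) (cond (Nat.beq c 0) [⟨9, 2, 1⟩] []) (cond (Nat.beq c 1) [⟨9, 0, 1⟩] [])) (cond (Nat.blt c 3) (cond (Nat.beq c 2) [⟨9, -1, 1⟩] []) (cond (Nat.beq c 3) [⟨9, 1, 1⟩] []))) (cond (Nat.blt c 23) (cond (Nat.blt c 21) (cond (Nat.beq c 19) [⟨4, 1, 1⟩] []) (cond (Nat.beq c 21) [⟨6, -1, 1⟩] [])) (cond (Nat.blt c 26) (cond (Nat.beq c 23) [⟨7, -1, 1⟩] []) (cond (Nat.blt c 28) (cond (Nat.beq c 26) [⟨8, 1, 1⟩] []) (cond (Nat.beq c 28) [⟨10, 1, 1⟩] []))))) (cond (Nat.blt c 46) (cond (Nat.blt c 40) (cond (Nat.blt c 38) (cond (Nat.beq c 37) [⟨13, 1, 1⟩] []) (cond (Nat.beq c 38) [⟨15, -1, 1⟩] [])) (cond (Nat.blt c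 42) (cond (Nat.beq c 40) [⟨17, 1, 1⟩] []) (cond (Nat.blt c 45) (cond (Nat.beq c 42) [⟨18, -1, 1⟩] []) (cond (Nat.beq c 45) [⟨27, -1, 1⟩] [])))) (cond (Nat.blt c 48) (cond (Nat.blt c 47) (cond (Nat.beq c 46) [⟨9, -1, 2⟩, ⟨0, -1, 1⟩, ⟨1, -1, 1⟩, ⟨2, -1, 1⟩, ⟨3, -1, 1⟩] []) (cond (Nat.beq c 47) [⟨29, -1, 1⟩] [])) (cond (Nat.blt c 49) (cond (Nat.beq c 48) [⟨32, 1, 1⟩] []) (cond (Nat.blt c 51) (cond (Nat.beq c 49) [⟨34, 1, 1⟩] []) (cond (Nat.beq c 51) [⟨36, -1, 1⟩] [])))))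

/-- Compiled columns of `x_6` for type F4. -/
def colsF4_6 (c : ℕ) : List CEnt :=
  cond (Nat.blt c 37) (cond (Nat.blt c 19) (cond (Nat.blt c 2) (cond (Nat.blt c 1) (cond (Nat.beq c 0) [⟨10, 2, 1⟩] []) (cond (Nat.beq c 1) [⟨10, 0, 1⟩] [])) (cond (Nat.blt c 3) (cond (Nat.beq c 2) [⟨10, 0, 1⟩] []) (cond (Nat.beq c 3) [⟨10, -1, 1⟩] []))) (cond (Nat.blt c 22) (cond (Nat.blt c 20) (cond (Nat.beq c 19) [⟨5, 1, 1⟩] []) (cond (Nat.beq c 20) [⟨6, 1, 1⟩] [])) (cond (Nat.blt c 25) (cond (Nat.beq c 22) [⟨7, 1, 1⟩] []) (cond (Nat.blt c 27) (cond (Nat.beq c 25) [⟨8, -1, 1⟩] []) (cond (Nat.beq c 27) [⟨9, 1, 1⟩] []))))) (cond (Nat.blt c 46) (cond (Nat.blt c 39) (cond (Nat.blt c 38) (cond (Nat.beq c 37) [⟨14, 1, 1⟩] []) (cond (Nat.beq c 38) [⟨16, -1, 1⟩] [])) (cond (Nat.blt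 c 41) (cond (Nat.beq c 39) [⟨17, 1, 1⟩] []) (cond (Nat.blt c 45) (cond (Nat.beq c 41) [⟨18, -1, 1⟩] []) (cond (Nat.beq c 45) [⟨10, -1, 2⟩, ⟨0, -1, 1⟩, ⟨1, -1, 1⟩, ⟨2, -1, 1⟩, ⟨3, 0, 1⟩] [])))) (cond (Nat.blt c 48) (cond (Nat.blt c 47) (cond (Nat.beq c 46) [⟨28, -1, 1⟩] []) (cond (Nat.beq c 47) [⟨30, 1, 1⟩] [])) (cond (Nat.blt c 49) (cond (Nat.beq c 48) [⟨33, -1, 1⟩] []) (cond (Nat.blt c 50) (cond (Nat.beq c 49) [⟨35, -1, 1⟩] []) (cond (Nat.beq c 50) [⟨36, -1, 1⟩] [])))))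

/-- Compiled columns of `x_7` for type F4. -/
def colsF4_7 (c : ℕ) : List CEnt :=
  cond (Nat.blt c 35) (cond (Nat.blt c 17) (cond (Nat.blt c 3) (cond (Nat.blt c 1) (cond (Nat.beq c 0) [⟨11, -1, 1⟩] []) (cond (Nat.blt c 2) (cond (Nat.beq c 1) [⟨11, 1, 1⟩] []) (cond (Nat.beq c 2) [⟨11, 0, 1⟩] []))) (cond (Nat.blt c 15) (cond (Nat.beq c 3) [⟨11, 0, 1⟩] []) (cond (Nat.blt c 16) (cond (Nat.beq c 15) [⟨4, 2, 1⟩] []) (cond (Nat.beq c 16) [⟨5, 2, 1⟩] [])))) (cond (Nat.blt c 32) (cond (Nat.blt c 18) (cond (Nat.beq c 17) [⟨6, 2, 1⟩] []) (cond (Nat.blt c 31) (cond (Nat.beq c 18) [⟨7, 1, 1⟩] []) (cond (Nat.beq c 31) [⟨12, 1, 1⟩] []))) (cond (Nat.blt c 33) (cond (Nat.beq c 32) [⟨13, -1, 1⟩] []) (cond (Nat.blt c 34) (cond (Nat.beq c 33) [⟨14, 1, 1⟩] []) (cond (Nat.beq c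 34) [⟨15, 1, 1⟩, ⟨4, 1, 2⟩] []))))) (cond (Nat.blt c 42) (cond (Nat.blt c 39) (cond (Nat.blt c 36) (cond (Nat.beq c 35) [⟨16, -1, 1⟩, ⟨5, -1, 2⟩] []) (cond (Nat.blt c 38) (cond (Nat.beq c 36) [⟨17, 1, 1⟩, ⟨6, 1, 2⟩] []) (cond (Nat.beq c 38) [⟨19, -2, 1⟩] []))) (cond (Nat.blt c 40) (cond (Nat.beq c 39) [⟨20, 2, 1⟩] []) (cond (Nat.blt c 41) (cond (Nat.beq c 40) [⟨21, -2, 1⟩] []) (cond (Nat.beq c 41) [⟨22, -1, 1⟩] [])))) (cond (Nat.blt c 48) (cond (Nat.blt c 43) (cond (Nat.beq c 42) [⟨23, 1, 1⟩] []) (cond (Nat.blt c 44) (cond (Nat.beq c 43) [⟨24, -1, 1⟩] []) (cond (Nat.beq c 44) [⟨11, -1, 2⟩, ⟨0, -1, 1⟩, ⟨1, -3, 1⟩, ⟨2, -4, 1⟩, ⟨3, -2, 1⟩] []))) (cond (Nat.blt c 50) (cond (Nat.blt c 49) (cond (Nat.beq c 48) [⟨37, -1, 1⟩] []) (cond (Nat.beq c 49) [⟨38, -1, 1⟩, ⟨19,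 1, 2⟩] [])) (cond (Nat.blt c 51) (cond (Nat.beq c 50) [⟨39, -1, 1⟩, ⟨20, -1, 2⟩] []) (cond (Nat.beq c 51) [⟨40, -1, 1⟩, ⟨21, 1, 2⟩] [])))))

/-- Compiled columns of `x_8` for type F4. -/
def colsF4_8 (c : ℕ) : List CEnt :=
  cond (Nat.blt c 33) (cond (Nat.blt c 17) (cond (Nat.blt c 3) (cond (Nat.blt c 1) (cond (Nat.beq c 0) [⟨12, 0, 1⟩] []) (cond (Nat.blt c 2) (cond (Nat.beq c 1) [⟨12, -1, 1⟩] []) (cond (Nat.beq c 2) [⟨12, 1, 1⟩] []))) (cond (Nat.blt c 13) (cond (Nat.beq c 3) [⟨12, 0, 1⟩] []) (cond (Nat.blt c 14) (cond (Nat.beq c 13) [⟨4, -2, 1⟩] []) (cond (Nat.beq c 14) [⟨5, -2, 1⟩] [])))) (cond (Nat.blt c 29) (cond (Nat.blt c 18) (cond (Nat.beq c 17) [⟨7, 1, 1⟩] []) (cond (Nat.blt c 24) (cond (Nat.beq c 18) [⟨8, 2, 1⟩] []) (cond (Nat.beq c 24) [⟨11, 1, 1⟩]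 []))) (cond (Nat.blt c 30) (cond (Nat.beq c 29) [⟨13, 1, 1⟩, ⟨4, -1, 2⟩] []) (cond (Nat.blt c 32) (cond (Nat.beq c 30) [⟨14, -1, 1⟩, ⟨5, 1, 2⟩] []) (cond (Nat.beq c 32) [⟨15, 1, 1⟩] []))))) (cond (Nat.blt c 42) (cond (Nat.blt c 39) (cond (Nat.blt c 36) (cond (Nat.beq c 33) [⟨16, -1, 1⟩] []) (cond (Nat.blt c 37) (cond (Nat.beq c 36) [⟨18, 1, 1⟩, ⟨8, 1, 2⟩] []) (cond (Nat.beq c 37) [⟨19, -2, 1⟩] []))) (cond (Nat.blt c 40) (cond (Nat.beq c 39) [⟨22, 1, 1⟩] []) (cond (Nat.blt c 41) (cond (Nat.beq c 40) [⟨23, -1, 1⟩] []) (cond (Nat.beq c 41) [⟨25, 2, 1⟩] [])))) (cond (Nat.blt c 47) (cond (Nat.blt c 43) (cond (Nat.beq c 42) [⟨26, -2, 1⟩] []) (cond (Nat.blt c 44) (cond (Nat.beq c 43) [⟨12, -1, 2⟩, ⟨0, -1, 1⟩, ⟨1, -2, 1⟩, ⟨2, -4, 1⟩, ⟨3, -2, 1⟩] []) (cond (Nat.beq c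 44) [⟨31, -1, 1⟩] []))) (cond (Nat.blt c 50) (cond (Nat.blt c 48) (cond (Nat.beq c 47) [⟨37, -1, 1⟩, ⟨19, 1, 2⟩] []) (cond (Nat.beq c 48) [⟨38, -1, 1⟩] [])) (cond (Nat.blt c 51) (cond (Nat.beq c 50) [⟨41, 1, 1⟩, ⟨25, 1, 2⟩] []) (cond (Nat.beq c 51) [⟨42, 1, 1⟩, ⟨26, -1, 2⟩] [])))))

/-- Compiled columns of `x_9` for type F4. -/
def colsF4_9 (c : ℕ) : List CEnt :=
  cond (Nat.blt c 33) (cond (Nat.blt c 16) (cond (Nat.blt c 3) (cond (Nat.blt c 1) (cond (Nat.beq c 0) [⟨13, 0, 1⟩] []) (cond (Nat.blt c 2) (cond (Nat.beq c 1) [⟨13, 1, 1⟩] []) (cond (Nat.beq c 2) [⟨13, -1, 1⟩] []))) (cond (Nat.blt c 12) (cond (Nat.beq c 3) [⟨13, 1, 1⟩] []) (cond (Nat.blt c 14) (cond (Nat.beq c 12) [⟨4, 2, 1⟩] []) (cond (Nat.beq c 14) [⟨6, -2, 1⟩] [])))) (cond (Nat.blt c 26) (cond (Nat.blt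 c 18) (cond (Nat.beq c 16) [⟨7, -1, 1⟩] []) (cond (Nat.blt c 23) (cond (Nat.beq c 18) [⟨9, 2, 1⟩] []) (cond (Nat.beq c 23) [⟨11, -1, 1⟩] []))) (cond (Nat.blt c 28) (cond (Nat.beq c 26) [⟨12, 1, 1⟩, ⟨4, 1, 2⟩] []) (cond (Nat.blt c 31) (cond (Nat.beq c 28) [⟨14, 1, 1⟩, ⟨6, -1, 2⟩] []) (cond (Nat.beq c 31) [⟨15, 1, 1⟩] []))))) (cond (Nat.blt c 42) (cond (Nat.blt c 38) (cond (Nat.blt c 35) (cond (Nat.beq c 33) [⟨17, -1, 1⟩] []) (cond (Nat.blt c 37) (cond (Nat.beq c 35) [⟨18, 1, 1⟩, ⟨9, 1, 2⟩] []) (cond (Nat.beq c 37) [⟨20, -2, 1⟩] []))) (cond (Nat.blt c 40) (cond (Nat.beq c 38) [⟨22, 1, 1⟩] []) (cond (Nat.blt c 41) (cond (Nat.beq c 40) [⟨24, -1, 1⟩] []) (cond (Nat.beq c 41) [⟨27, -2, 1⟩] [])))) (cond (Nat.blt c 46) (cond (Nat.blt c 43) (cond (Nat.beq c 42) [⟨13,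 -1, 2⟩, ⟨0, -1, 1⟩, ⟨1, -2, 1⟩, ⟨2, -2, 1⟩, ⟨3, -2, 1⟩] []) (cond (Nat.blt c 44) (cond (Nat.beq c 43) [⟨29, -2, 1⟩] []) (cond (Nat.beq c 44) [⟨32, 1, 1⟩] []))) (cond (Nat.blt c 49) (cond (Nat.blt c 48) (cond (Nat.beq c 46) [⟨37, -1, 1⟩, ⟨20, 1, 2⟩] []) (cond (Nat.beq c 48) [⟨39, 1, 1⟩] [])) (cond (Nat.blt c 51) (cond (Nat.beq c 49) [⟨41, 1, 1⟩, ⟨27, -1, 2⟩] []) (cond (Nat.beq c 51) [⟨43, -1, 1⟩, ⟨29, 1, 2⟩] [])))))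

/-- Compiled columns of `x_10` for type F4. -/
def colsF4_10 (c : ℕ) : List CEnt :=
  cond (Nat.blt c 32) (cond (Nat.blt c 15) (cond (Nat.blt c 3) (cond (Nat.blt c 1) (cond (Nat.beq c 0) [⟨14, 0, 1⟩] []) (cond (Nat.blt c 2) (cond (Nat.beq c 1) [⟨14, 1, 1⟩] []) (cond (Nat.beq c 2) [⟨14, 0, 1⟩] []))) (cond (Nat.blt c 12) (cond (Nat.beq c 3) [⟨14, -1, 1⟩] []) (cond (Nat.blt c 13) (cond (Nat.beq c 12) [⟨5, 2, 1⟩] []) (cond (Nat.beq c 13) [⟨6, 2, 1⟩] [])))) (cond (Nat.blt c 25) (cond (Nat.blt c 18) (cond (Nat.beq c 15) [⟨7, 1, 1⟩] []) (cond (Nat.blt c 22) (cond (Nat.beq c 18) [⟨10, 2, 1⟩] []) (cond (Nat.beq c 22) [⟨11, 1, 1⟩] []))) (cond (Nat.blt c 27) (cond (Nat.beq c 25) [⟨12, -1, 1⟩, ⟨5, -1, 2⟩] []) (cond (Nat.blt c 31) (cond (Nat.beq c 27) [⟨13, 1, 1⟩, ⟨6, 1,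 2⟩] []) (cond (Nat.beq c 31) [⟨16, 1, 1⟩] []))))) (cond (Nat.blt c 42) (cond (Nat.blt c 38) (cond (Nat.blt c 34) (cond (Nat.beq c 32) [⟨17, -1, 1⟩] []) (cond (Nat.blt c 37) (cond (Nat.beq c 34) [⟨18, 1, 1⟩, ⟨10, 1, 2⟩] []) (cond (Nat.beq c 37) [⟨21, -2, 1⟩] []))) (cond (Nat.blt c 39) (cond (Nat.beq c 38) [⟨23, 1, 1⟩] []) (cond (Nat.blt c 41) (cond (Nat.beq c 39) [⟨24, -1, 1⟩] []) (cond (Nat.beq c 41) [⟨14, -1, 2⟩, ⟨0, -1, 1⟩, ⟨1, -2, 1⟩, ⟨2, -2, 1⟩, ⟨3, 0, 1⟩] [])))) (cond (Nat.blt c 45) (cond (Nat.blt c 43) (cond (Nat.beq c 42) [⟨28, -2, 1⟩] []) (cond (Nat.blt c 44) (cond (Nat.beq c 43) [⟨30, 2, 1⟩] []) (cond (Nat.beq c 44) [⟨33, -1, 1⟩] []))) (cond (Nat.blt c 49) (cond (Nat.blt c 48) (cond (Nat.beq c 45) [⟨37, -1, 1⟩, ⟨21, 1, 2⟩] []) (cond (Nat.beq c 48) [⟨40,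 -1, 1⟩] [])) (cond (Nat.blt c 50) (cond (Nat.beq c 49) [⟨42, -1, 1⟩, ⟨28, 1, 2⟩] []) (cond (Nat.beq c 50) [⟨43, -1, 1⟩, ⟨30, -1, 2⟩] [])))))

/-- Compiled columns of `x_11` for type F4. -/
def colsF4_11 (c : ℕ) : List CEnt :=
  cond (Nat.blt c 30) (cond (Nat.blt c 16) (cond (Nat.blt c 3) (cond (Nat.blt c 1) (cond (Nat.beq c 0) [⟨15, 1, 1⟩] []) (cond (Nat.blt c 2) (cond (Nat.beq c 1) [⟨15, -1, 1⟩] []) (cond (Nat.beq c 2) [⟨15, 0, 1⟩] []))) (cond (Nat.blt c 11) (cond (Nat.beq c 3) [⟨15, 1, 1⟩] []) (cond (Nat.blt c 14) (cond (Nat.beq c 11) [⟨4, -2, 1⟩] []) (cond (Nat.beq c 14) [⟨7, -1, 1⟩] [])))) (cond (Nat.blt c 23) (cond (Nat.blt c 17) (cond (Nat.beq c 16) [⟨8, -2, 1⟩] []) (cond (Nat.blt c 21) (cond (Nat.beq c 17) [⟨9, -2, 1⟩] []) (cond (Nat.beq c 21) [⟨11, 1,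 1⟩, ⟨4, -1, 2⟩] []))) (cond (Nat.blt c 24) (cond (Nat.beq c 23) [⟨12, 1, 1⟩] []) (cond (Nat.blt c 28) (cond (Nat.beq c 24) [⟨13, 1, 1⟩] []) (cond (Nat.beq c 28) [⟨16, 1, 1⟩, ⟨8, -1, 2⟩] []))))) (cond (Nat.blt c 42) (cond (Nat.blt c 38) (cond (Nat.blt c 33) (cond (Nat.beq c 30) [⟨17, 1, 1⟩, ⟨9, -1, 2⟩] []) (cond (Nat.blt c 37) (cond (Nat.beq c 33) [⟨18, 1, 1⟩] []) (cond (Nat.beq c 37) [⟨22, -1, 1⟩] []))) (cond (Nat.blt c 39) (cond (Nat.beq c 38) [⟨25, -2, 1⟩] []) (cond (Nat.blt c 40) (cond (Nat.beq c 39) [⟨27, -2, 1⟩] []) (cond (Nat.beq c 40) [⟨15, -1, 2⟩, ⟨0, -1, 1⟩, ⟨1, -1, 1⟩, ⟨2, -2, 1⟩, ⟨3, -2, 1⟩] [])))) (cond (Nat.blt c 46) (cond (Nat.blt c 43) (cond (Nat.beq c 42) [⟨31, -1, 1⟩] []) (cond (Nat.blt c 44) (cond (Nat.beq c 43) [⟨32, -1, 1⟩] []) (cond (Nat.beq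 c 44) [⟨34, -2, 1⟩] []))) (cond (Nat.blt c 48) (cond (Nat.blt c 47) (cond (Nat.beq c 46) [⟨38, 1, 1⟩, ⟨25, -1, 2⟩] []) (cond (Nat.beq c 47) [⟨39, 1, 1⟩, ⟨27, -1, 2⟩] [])) (cond (Nat.blt c 51) (cond (Nat.beq c 48) [⟨41, 1, 1⟩] []) (cond (Nat.beq c 51) [⟨44, 1, 1⟩, ⟨34, -1, 2⟩] [])))))

/-- Compiled columns of `x_12` for type F4. -/
def colsF4_12 (c : ℕ) : List CEnt :=
  cond (Nat.blt c 29) (cond (Nat.blt c 15) (cond (Nat.blt c 3) (cond (Nat.blt c 1) (cond (Nat.beq c 0) [⟨16, 1, 1⟩] []) (cond (Nat.blt c 2) (cond (Nat.beq c 1) [⟨16, -1, 1⟩] []) (cond (Nat.beq c 2) [⟨16, 1, 1⟩] []))) (cond (Nat.blt c 11) (cond (Nat.beq c 3) [⟨16, -1, 1⟩] []) (cond (Nat.blt c 13) (cond (Nat.beq c 11) [⟨5, -2, 1⟩] []) (cond (Nat.beq c 13) [⟨7, 1, 1⟩] [])))) (cond (Nat.blt c 22) (cond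 (Nat.blt c 17) (cond (Nat.beq c 15) [⟨8, 2, 1⟩] []) (cond (Nat.blt c 20) (cond (Nat.beq c 17) [⟨10, -2, 1⟩] []) (cond (Nat.beq c 20) [⟨11, -1, 1⟩, ⟨5, 1, 2⟩] []))) (cond (Nat.blt c 24) (cond (Nat.beq c 22) [⟨12, -1, 1⟩] []) (cond (Nat.blt c 27) (cond (Nat.beq c 24) [⟨14, 1, 1⟩] []) (cond (Nat.beq c 27) [⟨15, 1, 1⟩, ⟨8, 1, 2⟩] []))))) (cond (Nat.blt c 41) (cond (Nat.blt c 38) (cond (Nat.blt c 32) (cond (Nat.beq c 29) [⟨17, 1, 1⟩, ⟨10, -1, 2⟩] []) (cond (Nat.blt c 37) (cond (Nat.beq c 32) [⟨18, 1, 1⟩] []) (cond (Nat.beq c 37) [⟨23, -1, 1⟩] []))) (cond (Nat.blt c 39) (cond (Nat.beq c 38) [⟨26, -2, 1⟩] []) (cond (Nat.blt c 40) (cond (Nat.beq c 39) [⟨16, -1, 2⟩, ⟨0, -1, 1⟩, ⟨1, -1, 1⟩, ⟨2, -2, 1⟩, ⟨3, 0, 1⟩] []) (cond (Nat.beq c 40) [⟨28, -2, 1⟩] [])))) (cond (Nat.blt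 c 45) (cond (Nat.blt c 43) (cond (Nat.beq c 41) [⟨31, -1, 1⟩] []) (cond (Nat.blt c 44) (cond (Nat.beq c 43) [⟨33, 1, 1⟩] []) (cond (Nat.beq c 44) [⟨35, 2, 1⟩] []))) (cond (Nat.blt c 48) (cond (Nat.blt c 47) (cond (Nat.beq c 45) [⟨38, 1, 1⟩, ⟨26, -1, 2⟩] []) (cond (Nat.beq c 47) [⟨40, -1, 1⟩, ⟨28, 1, 2⟩] [])) (cond (Nat.blt c 50) (cond (Nat.beq c 48) [⟨42, -1, 1⟩] []) (cond (Nat.beq c 50) [⟨44, 1, 1⟩, ⟨35, 1, 2⟩] [])))))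

/-- Compiled columns of `x_13` for type F4. -/
def colsF4_13 (c : ℕ) : List CEnt :=
  cond (Nat.blt c 26) (cond (Nat.blt c 15) (cond (Nat.blt c 3) (cond (Nat.blt c 1) (cond (Nat.beq c 0) [⟨17, 1, 1⟩] []) (cond (Nat.blt c 2) (cond (Nat.beq c 1) [⟨17, 1, 1⟩] []) (cond (Nat.beq c 2) [⟨17, -1, 1⟩] []))) (cond (Nat.blt c 11) (cond (Nat.beq c 3) [⟨17, 0, 1⟩] []) (cond (Nat.blt c 12) (cond (Nat.beq c 11) [⟨6, -2, 1⟩] []) (cond (Nat.beq c 12) [⟨7, -1, 1⟩] [])))) (cond (Nat.blt c 22) (cond (Nat.blt c 16) (cond (Nat.beq c 15) [⟨9, 2, 1⟩] []) (cond (Nat.blt c 19) (cond (Nat.beq c 16) [⟨10, 2, 1⟩] []) (cond (Nat.beq c 19) [⟨11, 1, 1⟩, ⟨6, -1, 2⟩] []))) (cond (Nat.blt c 23) (cond (Nat.beq c 22) [⟨13, -1, 1⟩] []) (cond (Nat.blt c 25) (cond (Nat.beq c 23) [⟨14, -1, 1⟩] [])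 (cond (Nat.beq c 25) [⟨15, 1, 1⟩, ⟨9, 1, 2⟩] []))))) (cond (Nat.blt c 41) (cond (Nat.blt c 38) (cond (Nat.blt c 31) (cond (Nat.beq c 26) [⟨16, 1, 1⟩, ⟨10, 1, 2⟩] []) (cond (Nat.blt c 37) (cond (Nat.beq c 31) [⟨18, 1, 1⟩] []) (cond (Nat.beq c 37) [⟨24, -1, 1⟩] []))) (cond (Nat.blt c 39) (cond (Nat.beq c 38) [⟨17, -1, 2⟩, ⟨0, -1, 1⟩, ⟨1, -1, 1⟩, ⟨2, 0, 1⟩, ⟨3, 0, 1⟩] []) (cond (Nat.blt c 40) (cond (Nat.beq c 39) [⟨29, -2, 1⟩] []) (cond (Nat.beq c 40) [⟨30, -2, 1⟩] [])))) (cond (Nat.blt c 45) (cond (Nat.blt c 42) (cond (Nat.beq c 41) [⟨32, 1, 1⟩] []) (cond (Nat.blt c 44) (cond (Nat.beq c 42) [⟨33, 1, 1⟩] []) (cond (Nat.beq c 44) [⟨36, -2, 1⟩] []))) (cond (Nat.blt c 48) (cond (Nat.blt c 46) (cond (Nat.beq c 45) [⟨39, -1, 1⟩, ⟨29, 1, 2⟩] []) (cond (Nat.beq c 46) [⟨40,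 -1, 1⟩, ⟨30, 1, 2⟩] [])) (cond (Nat.blt c 49) (cond (Nat.beq c 48) [⟨43, 1, 1⟩] []) (cond (Nat.beq c 49) [⟨44, 1, 1⟩, ⟨36, -1, 2⟩] [])))))

/-- Compiled columns of `x_14` for type F4. -/
def colsF4_14 (c : ℕ) : List CEnt :=
  cond (Nat.blt c 23) (cond (Nat.blt c 13) (cond (Nat.blt c 3) (cond (Nat.blt c 1) (cond (Nat.beq c 0) [⟨18, 2, 1⟩] []) (cond (Nat.blt c 2) (cond (Nat.beq c 1) [⟨18, -1, 1⟩] []) (cond (Nat.beq c 2) [⟨18, 0, 1⟩] []))) (cond (Nat.blt c 11) (cond (Nat.beq c 3) [⟨18, 0, 1⟩] []) (cond (Nat.blt c 12) (cond (Nat.beq c 11) [⟨7, -1, 1⟩] []) (cond (Nat.beq c 12) [⟨8, -2, 1⟩] [])))) (cond (Nat.blt c 20) (cond (Nat.blt c 14) (cond (Nat.beq c 13) [⟨9, -2, 1⟩] []) (cond (Nat.blt c 19) (cond (Nat.beq c 14) [⟨10, -2, 1⟩] []) (cond (Nat.beq c 19) [⟨12, 1,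 1⟩, ⟨8, -1, 2⟩] []))) (cond (Nat.blt c 21) (cond (Nat.beq c 20) [⟨13, 1, 1⟩, ⟨9, -1, 2⟩] []) (cond (Nat.blt c 22) (cond (Nat.beq c 21) [⟨14, 1, 1⟩, ⟨10, -1, 2⟩] []) (cond (Nat.beq c 22) [⟨15, 1, 1⟩] []))))) (cond (Nat.blt c 41) (cond (Nat.blt c 38) (cond (Nat.blt c 24) (cond (Nat.beq c 23) [⟨16, 1, 1⟩] []) (cond (Nat.blt c 37) (cond (Nat.beq c 24) [⟨17, 1, 1⟩] []) (cond (Nat.beq c 37) [⟨18, -1, 2⟩, ⟨0, -1, 1⟩, ⟨1, 0, 1⟩, ⟨2, 0, 1⟩, ⟨3, 0, 1⟩] []))) (cond (Nat.blt c 39) (cond (Nat.beq c 38) [⟨31, -1, 1⟩] []) (cond (Nat.blt c 40) (cond (Nat.beq c 39) [⟨32, -1, 1⟩] []) (cond (Nat.beq c 40) [⟨33, -1, 1⟩] [])))) (cond (Nat.blt c 45) (cond (Nat.blt c 42) (cond (Nat.beq c 41) [⟨34, -2, 1⟩] []) (cond (Nat.blt c 43) (cond (Nat.beq c 42) [⟨35, -2, 1⟩] []) (cond (Nat.beq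 c 43) [⟨36, -2, 1⟩] []))) (cond (Nat.blt c 47) (cond (Nat.blt c 46) (cond (Nat.beq c 45) [⟨41, 1, 1⟩, ⟨34, -1, 2⟩] []) (cond (Nat.beq c 46) [⟨42, 1, 1⟩, ⟨35, -1, 2⟩] [])) (cond (Nat.blt c 48) (cond (Nat.beq c 47) [⟨43, 1, 1⟩, ⟨36, -1, 2⟩] []) (cond (Nat.beq c 48) [⟨44, 1, 1⟩] [])))))

/-- Compiled columns of `x_15` for type F4. -/
def colsF4_15 (c : ℕ) : List CEnt :=
  cond (Nat.blt c 30) (cond (Nat.blt c 9) (cond (Nat.blt c 2) (cond (Nat.blt c 1) (cond (Nat.beq c 0) [⟨19, -2, 1⟩] []) (cond (Nat.beq c 1) [⟨19, 0, 1⟩] [])) (cond (Nat.blt c 3) (cond (Nat.beq c 2) [⟨19, 1, 1⟩] []) (cond (Nat.beq c 3) [⟨19, 0, 1⟩] []))) (cond (Nat.blt c 17) (cond (Nat.blt c 10) (cond (Nat.beq c 9) [⟨4, -1, 1⟩] []) (cond (Nat.beq c 10) [⟨5, -1, 1⟩] [])) (cond (Nat.blt c 18) (cond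 (Nat.beq c 17) [⟨11, -1, 1⟩] []) (cond (Nat.blt c 29) (cond (Nat.beq c 18) [⟨12, -1, 1⟩] []) (cond (Nat.beq c 29) [⟨20, 1, 1⟩] []))))) (cond (Nat.blt c 36) (cond (Nat.blt c 33) (cond (Nat.blt c 32) (cond (Nat.beq c 30) [⟨21, -1, 1⟩] []) (cond (Nat.beq c 32) [⟨22, 1, 1⟩] [])) (cond (Nat.blt c 34) (cond (Nat.beq c 33) [⟨23, -1, 1⟩] []) (cond (Nat.blt c 35) (cond (Nat.beq c 34) [⟨25, 1, 1⟩] []) (cond (Nat.beq c 35) [⟨26, -1, 1⟩] [])))) (cond (Nat.blt c 44) (cond (Nat.blt c 43) (cond (Nat.beq c 36) [⟨19, -1, 2⟩, ⟨0, 0, 1⟩, ⟨1, -1, 1⟩, ⟨2, -2, 1⟩, ⟨3, -1, 1⟩] []) (cond (Nat.beq c 43) [⟨37, 1, 1⟩] [])) (cond (Nat.blt c 50) (cond (Nat.beq c 44) [⟨38, 1, 1⟩] []) (cond (Nat.blt c 51) (cond (Nat.beq c 50) [⟨45, 1, 1⟩] []) (cond (Nat.beq c 51) [⟨46, 1, 1⟩] [])))))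

/-- Compiled columns of `x_16` for type F4. -/
def colsF4_16 (c : ℕ) : List CEnt :=
  cond (Nat.blt c 28) (cond (Nat.blt c 8) (cond (Nat.blt c 2) (cond (Nat.blt c 1) (cond (Nat.beq c 0) [⟨20, -2, 1⟩] []) (cond (Nat.beq c 1) [⟨20, 2, 1⟩] [])) (cond (Nat.blt c 3) (cond (Nat.beq c 2) [⟨20, -1, 1⟩] []) (cond (Nat.beq c 3) [⟨20, 1, 1⟩] []))) (cond (Nat.blt c 16) (cond (Nat.blt c 10) (cond (Nat.beq c 8) [⟨4, 1, 1⟩] []) (cond (Nat.beq c 10) [⟨6, -1, 1⟩] [])) (cond (Nat.blt c 18) (cond (Nat.beq c 16) [⟨11, 1, 1⟩] []) (cond (Nat.blt c 26) (cond (Nat.beq c 18) [⟨13, -1, 1⟩] []) (cond (Nat.beq c 26) [⟨19, 1, 1⟩] []))))) (cond (Nat.blt c 36) (cond (Nat.blt c 33) (cond (Nat.blt c 31) (cond (Nat.beq c 28) [⟨21, 1, 1⟩] []) (cond (Nat.beq c 31) [⟨22, 1, 1⟩] [])) (cond (Nat.blt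 c 34) (cond (Nat.beq c 33) [⟨24, -1, 1⟩] []) (cond (Nat.blt c 35) (cond (Nat.beq c 34) [⟨27, -1, 1⟩] []) (cond (Nat.beq c 35) [⟨20, -1, 2⟩, ⟨0, 0, 1⟩, ⟨1, -1, 1⟩, ⟨2, -1, 1⟩, ⟨3, -1, 1⟩] [])))) (cond (Nat.blt c 44) (cond (Nat.blt c 42) (cond (Nat.beq c 36) [⟨29, -1, 1⟩] []) (cond (Nat.beq c 42) [⟨37, 1, 1⟩] [])) (cond (Nat.blt c 49) (cond (Nat.beq c 44) [⟨39, -1, 1⟩] []) (cond (Nat.blt c 51) (cond (Nat.beq c 49) [⟨45, 1, 1⟩] []) (cond (Nat.beq c 51) [⟨47, -1, 1⟩] [])))))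

/-- Compiled columns of `x_17` for type F4. -/
def colsF4_17 (c : ℕ) : List CEnt :=
  cond (Nat.blt c 27) (cond (Nat.blt c 8) (cond (Nat.blt c 2) (cond (Nat.blt c 1) (cond (Nat.beq c 0) [⟨21, -2, 1⟩] []) (cond (Nat.beq c 1) [⟨21, 2, 1⟩] [])) (cond (Nat.blt c 3) (cond (Nat.beq c 2) [⟨21, 0, 1⟩] []) (cond (Nat.beq c 3) [⟨21, -1, 1⟩] []))) (cond (Nat.blt c 15) (cond (Nat.blt c 9) (cond (Nat.beq c 8) [⟨5, 1, 1⟩] []) (cond (Nat.beq c 9) [⟨6, 1, 1⟩] [])) (cond (Nat.blt c 18) (cond (Nat.beq c 15) [⟨11, -1, 1⟩] []) (cond (Nat.blt c 25) (cond (Nat.beq c 18) [⟨14, -1, 1⟩] []) (cond (Nat.beq c 25) [⟨19, -1, 1⟩] []))))) (cond (Nat.blt c 36) (cond (Nat.blt c 32) (cond (Nat.blt c 31) (cond (Nat.beq c 27) [⟨20, 1, 1⟩] []) (cond (Nat.beq c 31) [⟨23, 1, 1⟩] [])) (cond (Nat.blt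 c 34) (cond (Nat.beq c 32) [⟨24, -1, 1⟩] []) (cond (Nat.blt c 35) (cond (Nat.beq c 34) [⟨21, -1, 2⟩, ⟨0, 0, 1⟩, ⟨1, -1, 1⟩, ⟨2, -1, 1⟩, ⟨3, 0, 1⟩] []) (cond (Nat.beq c 35) [⟨28, -1, 1⟩] [])))) (cond (Nat.blt c 44) (cond (Nat.blt c 41) (cond (Nat.beq c 36) [⟨30, 1, 1⟩] []) (cond (Nat.beq c 41) [⟨37, 1, 1⟩] [])) (cond (Nat.blt c 49) (cond (Nat.beq c 44) [⟨40, 1, 1⟩] []) (cond (Nat.blt c 50) (cond (Nat.beq c 49) [⟨46, -1, 1⟩] []) (cond (Nat.beq c 50) [⟨47, -1, 1⟩] [])))))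

/-- Compiled columns of `x_18` for type F4. -/
def colsF4_18 (c : ℕ) : List CEnt :=
  cond (Nat.blt c 28) (cond (Nat.blt c 14) (cond (Nat.blt c 3) (cond (Nat.blt c 1) (cond (Nat.beq c 0) [⟨22, -1, 1⟩] []) (cond (Nat.blt c 2) (cond (Nat.beq c 1) [⟨22, 0, 1⟩] []) (cond (Nat.beq c 2) [⟨22, 0, 1⟩] []))) (cond (Nat.blt c 7) (cond (Nat.beq c 3) [⟨22, 1, 1⟩] []) (cond (Nat.blt c 10) (cond (Nat.beq c 7) [⟨4, -2, 1⟩] []) (cond (Nat.beq c 10) [⟨7, -1, 1⟩, ⟨4, 1, 2⟩] [])))) (cond (Nat.blt c 18) (cond (Nat.blt c 16) (cond (Nat.beq c 14) [⟨11, -1, 1⟩] []) (cond (Nat.blt c 17) (cond (Nat.beq c 16) [⟨12, 1, 1⟩] []) (cond (Nat.beq c 17) [⟨13, 1, 1⟩] []))) (cond (Nat.blt c 23) (cond (Nat.beq c 18) [⟨15, -1, 1⟩] []) (cond (Nat.blt c 24) (cond (Nat.beq c 23) [⟨19, 2, 1⟩] []) (cond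 (Nat.beq c 24) [⟨20, 2, 1⟩] []))))) (cond (Nat.blt c 36) (cond (Nat.blt c 32) (cond (Nat.blt c 30) (cond (Nat.beq c 28) [⟨23, 1, 1⟩, ⟨19, 1, 2⟩] []) (cond (Nat.blt c 31) (cond (Nat.beq c 30) [⟨24, 1, 1⟩, ⟨20, 1, 2⟩] []) (cond (Nat.beq c 31) [⟨25, -2, 1⟩] []))) (cond (Nat.blt c 33) (cond (Nat.beq c 32) [⟨27, -2, 1⟩] []) (cond (Nat.blt c 35) (cond (Nat.beq c 33) [⟨22, -1, 2⟩, ⟨0, 0, 1⟩, ⟨1, -1, 1⟩, ⟨2, -2, 1⟩, ⟨3, -2, 1⟩] []) (cond (Nat.beq c 35) [⟨31, -1, 1⟩, ⟨25, 1, 2⟩] [])))) (cond (Nat.blt c 43) (cond (Nat.blt c 40) (cond (Nat.beq c 36) [⟨32, -1, 1⟩, ⟨27, 1, 2⟩] []) (cond (Nat.blt c 42) (cond (Nat.beq c 40) [⟨37, 1, 1⟩] []) (cond (Nat.beq c 42) [⟨38, -1, 1⟩] []))) (cond (Nat.blt c 48) (cond (Nat.blt c 44) (cond (Nat.beq c 43) [⟨39, -1, 1⟩] []) (cond (Nat.beq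 c 44) [⟨41, 1, 1⟩] [])) (cond (Nat.blt c 51) (cond (Nat.beq c 48) [⟨45, 2, 1⟩] []) (cond (Nat.beq c 51) [⟨48, 1, 1⟩, ⟨45, 1, 2⟩] [])))))

/-- Compiled columns of `x_19` for type F4. -/
def colsF4_19 (c : ℕ) : List CEnt :=
  cond (Nat.blt c 27) (cond (Nat.blt c 13) (cond (Nat.blt c 3) (cond (Nat.blt c 1) (cond (Nat.beq c 0) [⟨23, -1, 1⟩] []) (cond (Nat.blt c 2) (cond (Nat.beq c 1) [⟨23, 0, 1⟩] []) (cond (Nat.beq c 2) [⟨23, 1, 1⟩] []))) (cond (Nat.blt c 7) (cond (Nat.beq c 3) [⟨23, -1, 1⟩] []) (cond (Nat.blt c 9) (cond (Nat.beq c 7) [⟨5, -2, 1⟩] []) (cond (Nat.beq c 9) [⟨7, 1, 1⟩, ⟨5, -1, 2⟩] [])))) (cond (Nat.blt c 18) (cond (Nat.blt c 15) (cond (Nat.beq c 13) [⟨11, 1, 1⟩] []) (cond (Nat.blt c 17) (cond (Nat.beq c 15) [⟨12, -1, 1⟩] []) (cond (Nat.beq c 17) [⟨14,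 1, 1⟩] []))) (cond (Nat.blt c 22) (cond (Nat.beq c 18) [⟨16, -1, 1⟩] []) (cond (Nat.blt c 24) (cond (Nat.beq c 22) [⟨19, -2, 1⟩] []) (cond (Nat.beq c 24) [⟨21, 2, 1⟩] []))))) (cond (Nat.blt c 36) (cond (Nat.blt c 32) (cond (Nat.blt c 29) (cond (Nat.beq c 27) [⟨22, 1, 1⟩, ⟨19, -1, 2⟩] []) (cond (Nat.blt c 31) (cond (Nat.beq c 29) [⟨24, 1, 1⟩, ⟨21, 1, 2⟩] []) (cond (Nat.beq c 31) [⟨26, -2, 1⟩] []))) (cond (Nat.blt c 33) (cond (Nat.beq c 32) [⟨23, -1, 2⟩, ⟨0, 0, 1⟩, ⟨1, -1, 1⟩, ⟨2, -2, 1⟩, ⟨3, 0, 1⟩] []) (cond (Nat.blt c 34) (cond (Nat.beq c 33) [⟨28, -2, 1⟩] []) (cond (Nat.beq c 34) [⟨31, -1, 1⟩, ⟨26, 1, 2⟩] [])))) (cond (Nat.blt c 43) (cond (Nat.blt c 39) (cond (Nat.beq c 36) [⟨33, 1, 1⟩, ⟨28, -1, 2⟩] []) (cond (Nat.blt c 41) (cond (Nat.beq c 39) [⟨37, 1, 1⟩]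 []) (cond (Nat.beq c 41) [⟨38, -1, 1⟩] []))) (cond (Nat.blt c 48) (cond (Nat.blt c 44) (cond (Nat.beq c 43) [⟨40, 1, 1⟩] []) (cond (Nat.beq c 44) [⟨42, -1, 1⟩] [])) (cond (Nat.blt c 50) (cond (Nat.beq c 48) [⟨46, -2, 1⟩] []) (cond (Nat.beq c 50) [⟨48, 1, 1⟩, ⟨46, -1, 2⟩] [])))))

/-- Compiled columns of `x_20` for type F4. -/
def colsF4_20 (c : ℕ) : List CEnt :=
  cond (Nat.blt c 25) (cond (Nat.blt c 12) (cond (Nat.blt c 3) (cond (Nat.blt c 1) (cond (Nat.beq c 0) [⟨24, -1, 1⟩] []) (cond (Nat.blt c 2) (cond (Nat.beq c 1) [⟨24, 2, 1⟩] []) (cond (Nat.beq c 2) [⟨24, -1, 1⟩] []))) (cond (Nat.blt c 7) (cond (Nat.beq c 3) [⟨24, 0, 1⟩] []) (cond (Nat.blt c 8) (cond (Nat.beq c 7) [⟨6, -2, 1⟩] []) (cond (Nat.beq c 8) [⟨7, -1, 1⟩, ⟨6, 1, 2⟩] [])))) (cond (Nat.blt c 18)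 (cond (Nat.blt c 15) (cond (Nat.beq c 12) [⟨11, -1, 1⟩] []) (cond (Nat.blt c 16) (cond (Nat.beq c 15) [⟨13, -1, 1⟩] []) (cond (Nat.beq c 16) [⟨14, -1, 1⟩] []))) (cond (Nat.blt c 22) (cond (Nat.beq c 18) [⟨17, -1, 1⟩] []) (cond (Nat.blt c 23) (cond (Nat.beq c 22) [⟨20, -2, 1⟩] []) (cond (Nat.beq c 23) [⟨21, -2, 1⟩] []))))) (cond (Nat.blt c 35) (cond (Nat.blt c 32) (cond (Nat.blt c 26) (cond (Nat.beq c 25) [⟨22, 1, 1⟩, ⟨20, -1, 2⟩] []) (cond (Nat.blt c 31) (cond (Nat.beq c 26) [⟨23, 1, 1⟩, ⟨21, -1, 2⟩] []) (cond (Nat.beq c 31) [⟨24, -1, 2⟩, ⟨0, 0, 1⟩, ⟨1, -1, 1⟩, ⟨2, 0, 1⟩, ⟨3, 0, 1⟩] []))) (cond (Nat.blt c 33) (cond (Nat.beq c 32) [⟨29, -2, 1⟩] []) (cond (Nat.blt c 34) (cond (Nat.beq c 33) [⟨30, -2, 1⟩] []) (cond (Nat.beq c 34) [⟨32, 1, 1⟩, ⟨29, -1, 2⟩] []))))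 (cond (Nat.blt c 42) (cond (Nat.blt c 38) (cond (Nat.beq c 35) [⟨33, 1, 1⟩, ⟨30, -1, 2⟩] []) (cond (Nat.blt c 41) (cond (Nat.beq c 38) [⟨37, 1, 1⟩] []) (cond (Nat.beq c 41) [⟨39, 1, 1⟩] []))) (cond (Nat.blt c 48) (cond (Nat.blt c 44) (cond (Nat.beq c 42) [⟨40, 1, 1⟩] []) (cond (Nat.beq c 44) [⟨43, 1, 1⟩] [])) (cond (Nat.blt c 49) (cond (Nat.beq c 48) [⟨47, 2, 1⟩] []) (cond (Nat.beq c 49) [⟨48, 1, 1⟩, ⟨47, 1, 2⟩] [])))))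

/-- Compiled columns of `x_21` for type F4. -/
def colsF4_21 (c : ℕ) : List CEnt :=
  cond (Nat.blt c 24) (cond (Nat.blt c 6) (cond (Nat.blt c 2) (cond (Nat.blt c 1) (cond (Nat.beq c 0) [⟨25, 0, 1⟩] []) (cond (Nat.beq c 1) [⟨25, -2, 1⟩] [])) (cond (Nat.blt c 3) (cond (Nat.beq c 2) [⟨25, 1, 1⟩] []) (cond (Nat.beq c 3) [⟨25, 1, 1⟩] []))) (cond (Nat.blt c 14) (cond (Nat.blt c 10) (cond (Nat.beq c 6) [⟨4, -1, 1⟩] []) (cond (Nat.beq c 10) [⟨8, 1, 1⟩] [])) (cond (Nat.blt c 17) (cond (Nat.beq c 14) [⟨12, 1, 1⟩] []) (cond (Nat.blt c 21) (cond (Nat.beq c 17) [⟨15, -1, 1⟩] []) (cond (Nat.beq c 21) [⟨19, 1, 1⟩] []))))) (cond (Nat.blt c 36) (cond (Nat.blt c 29) (cond (Nat.blt c 28) (cond (Nat.beq c 24) [⟨22, -1, 1⟩] []) (cond (Nat.beq c 28) [⟨26, 1, 1⟩] [])) (cond (Nat.blt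 c 30) (cond (Nat.beq c 29) [⟨27, -1, 1⟩] []) (cond (Nat.blt c 33) (cond (Nat.beq c 30) [⟨25, -1, 2⟩, ⟨0, 0, 1⟩, ⟨1, 0, 1⟩, ⟨2, -1, 1⟩, ⟨3, -1, 1⟩] []) (cond (Nat.beq c 33) [⟨31, 1, 1⟩] [])))) (cond (Nat.blt c 43) (cond (Nat.blt c 40) (cond (Nat.beq c 36) [⟨34, -1, 1⟩] []) (cond (Nat.beq c 40) [⟨38, 1, 1⟩] [])) (cond (Nat.blt c 47) (cond (Nat.beq c 43) [⟨41, -1, 1⟩] []) (cond (Nat.blt c 51) (cond (Nat.beq c 47) [⟨45, -1, 1⟩] []) (cond (Nat.beq c 51) [⟨49, 1, 1⟩] [])))))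

/-- Compiled columns of `x_22` for type F4. -/
def colsF4_22 (c : ℕ) : List CEnt :=
  cond (Nat.blt c 24) (cond (Nat.blt c 6) (cond (Nat.blt c 2) (cond (Nat.blt c 1) (cond (Nat.beq c 0) [⟨26, 0, 1⟩] []) (cond (Nat.beq c 1) [⟨26, -2, 1⟩] [])) (cond (Nat.blt c 3) (cond (Nat.beq c 2) [⟨26, 2, 1⟩] []) (cond (Nat.beq c 3) [⟨26, -1, 1⟩] []))) (cond (Nat.blt c 13) (cond (Nat.blt c 9) (cond (Nat.beq c 6) [⟨5, -1, 1⟩] []) (cond (Nat.beq c 9) [⟨8, -1, 1⟩] [])) (cond (Nat.blt c 17) (cond (Nat.beq c 13) [⟨12, -1, 1⟩] []) (cond (Nat.blt c 20) (cond (Nat.beq c 17) [⟨16, -1, 1⟩] []) (cond (Nat.beq c 20) [⟨19, -1, 1⟩] []))))) (cond (Nat.blt c 36) (cond (Nat.blt c 29) (cond (Nat.blt c 27) (cond (Nat.beq c 24) [⟨23, -1, 1⟩] []) (cond (Nat.beq c 27) [⟨25, 1, 1⟩] [])) (cond (Nat.blt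 c 30) (cond (Nat.beq c 29) [⟨26, -1, 2⟩, ⟨0, 0, 1⟩, ⟨1, 0, 1⟩, ⟨2, -1, 1⟩, ⟨3, 0, 1⟩] []) (cond (Nat.blt c 32) (cond (Nat.beq c 30) [⟨28, -1, 1⟩] []) (cond (Nat.beq c 32) [⟨31, 1, 1⟩] [])))) (cond (Nat.blt c 43) (cond (Nat.blt c 39) (cond (Nat.beq c 36) [⟨35, 1, 1⟩] []) (cond (Nat.beq c 39) [⟨38, 1, 1⟩] [])) (cond (Nat.blt c 47) (cond (Nat.beq c 43) [⟨42, 1, 1⟩] []) (cond (Nat.blt c 50) (cond (Nat.beq c 47) [⟨46, 1, 1⟩] []) (cond (Nat.beq c 50) [⟨49, 1, 1⟩] [])))))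

/-- Compiled columns of `x_23` for type F4. -/
def colsF4_23 (c : ℕ) : List CEnt :=
  cond (Nat.blt c 23) (cond (Nat.blt c 5) (cond (Nat.blt c 2) (cond (Nat.blt c 1) (cond (Nat.beq c 0) [⟨27, 0, 1⟩] []) (cond (Nat.beq c 1) [⟨27, 0, 1⟩] [])) (cond (Nat.blt c 3) (cond (Nat.beq c 2) [⟨27, -1, 1⟩] []) (cond (Nat.beq c 3) [⟨27, 2, 1⟩] []))) (cond (Nat.blt c 14) (cond (Nat.blt c 10) (cond (Nat.beq c 5) [⟨4, -1, 1⟩] []) (cond (Nat.beq c 10) [⟨9, -1, 1⟩] [])) (cond (Nat.blt c 16) (cond (Nat.beq c 14) [⟨13, -1, 1⟩] []) (cond (Nat.blt c 21) (cond (Nat.beq c 16) [⟨15, -1, 1⟩] []) (cond (Nat.beq c 21) [⟨20, -1, 1⟩] []))))) (cond (Nat.blt c 35) (cond (Nat.blt c 28) (cond (Nat.blt c 26) (cond (Nat.beq c 23) [⟨22, -1, 1⟩] []) (cond (Nat.beq c 26) [⟨25, -1, 1⟩] [])) (cond (Nat.blt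 c 30) (cond (Nat.beq c 28) [⟨27, -1, 2⟩, ⟨0, 0, 1⟩, ⟨1, 0, 1⟩, ⟨2, 0, 1⟩, ⟨3, -1, 1⟩] []) (cond (Nat.blt c 33) (cond (Nat.beq c 30) [⟨29, 1, 1⟩] []) (cond (Nat.beq c 33) [⟨32, 1, 1⟩] [])))) (cond (Nat.blt c 42) (cond (Nat.blt c 40) (cond (Nat.beq c 35) [⟨34, 1, 1⟩] []) (cond (Nat.beq c 40) [⟨39, 1, 1⟩] [])) (cond (Nat.blt c 46) (cond (Nat.beq c 42) [⟨41, 1, 1⟩] []) (cond (Nat.blt c 51) (cond (Nat.beq c 46) [⟨45, 1, 1⟩] []) (cond (Nat.beq c 51) [⟨50, 1, 1⟩] [])))))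

/-- Compiled columns of `x_24` for type F4. -/
def colsF4_24 (c : ℕ) : List CEnt :=
  cond (Nat.blt c 22) (cond (Nat.blt c 4) (cond (Nat.blt c 2) (cond (Nat.blt c 1) (cond (Nat.beq c 0) [⟨28, 0, 1⟩] []) (cond (Nat.beq c 1) [⟨28, 0, 1⟩] [])) (cond (Nat.blt c 3) (cond (Nat.beq c 2) [⟨28, 1, 1⟩] []) (cond (Nat.beq c 3) [⟨28, -2, 1⟩] []))) (cond (Nat.blt c 13) (cond (Nat.blt c 9) (cond (Nat.beq c 4) [⟨5, -1, 1⟩] []) (cond (Nat.beq c 9) [⟨10, -1, 1⟩] [])) (cond (Nat.blt c 15) (cond (Nat.beq c 13) [⟨14, -1, 1⟩] []) (cond (Nat.blt c 20) (cond (Nat.beq c 15) [⟨16, -1, 1⟩] []) (cond (Nat.beq c 20) [⟨21, -1, 1⟩] []))))) (cond (Nat.blt c 34) (cond (Nat.blt c 27) (cond (Nat.blt c 25) (cond (Nat.beq c 22) [⟨23, -1, 1⟩] []) (cond (Nat.beq c 25) [⟨26, -1, 1⟩] [])) (cond (Nat.blt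 c 29) (cond (Nat.beq c 27) [⟨28, -1, 2⟩, ⟨0, 0, 1⟩, ⟨1, 0, 1⟩, ⟨2, 0, 1⟩, ⟨3, 1, 1⟩] []) (cond (Nat.blt c 32) (cond (Nat.beq c 29) [⟨30, 1, 1⟩] []) (cond (Nat.beq c 32) [⟨33, 1, 1⟩] [])))) (cond (Nat.blt c 41) (cond (Nat.blt c 39) (cond (Nat.beq c 34) [⟨35, 1, 1⟩] []) (cond (Nat.beq c 39) [⟨40, 1, 1⟩] [])) (cond (Nat.blt c 45) (cond (Nat.beq c 41) [⟨42, 1, 1⟩] []) (cond (Nat.blt c 50) (cond (Nat.beq c 45) [⟨46, 1, 1⟩] []) (cond (Nat.beq c 50) [⟨51, 1, 1⟩] [])))))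

/-- Compiled columns of `x_25` for type F4. -/
def colsF4_25 (c : ℕ) : List CEnt :=
  cond (Nat.blt c 23) (cond (Nat.blt c 5) (cond (Nat.blt c 2) (cond (Nat.blt c 1) (cond (Nat.beq c 0) [⟨29, 0, 1⟩] []) (cond (Nat.beq c 1) [⟨29, 2, 1⟩] [])) (cond (Nat.blt c 3) (cond (Nat.beq c 2) [⟨29, -2, 1⟩] []) (cond (Nat.beq c 3) [⟨29, 1, 1⟩] []))) (cond (Nat.blt c 12) (cond (Nat.blt c 8) (cond (Nat.beq c 5) [⟨6, -1, 1⟩] []) (cond (Nat.beq c 8) [⟨9, -1, 1⟩] [])) (cond (Nat.blt c 16) (cond (Nat.beq c 12) [⟨13, -1, 1⟩] []) (cond (Nat.blt c 19) (cond (Nat.beq c 16) [⟨17, -1, 1⟩] []) (cond (Nat.beq c 19) [⟨20, -1, 1⟩] []))))) (cond (Nat.blt c 35) (cond (Nat.blt c 26) (cond (Nat.blt c 25) (cond (Nat.beq c 23) [⟨24, -1, 1⟩] []) (cond (Nat.beq c 25) [⟨27, 1, 1⟩] [])) (cond (Nat.blt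 c 28) (cond (Nat.beq c 26) [⟨29, -1, 2⟩, ⟨0, 0, 1⟩, ⟨1, 0, 1⟩, ⟨2, 1, 1⟩, ⟨3, 0, 1⟩] []) (cond (Nat.blt c 31) (cond (Nat.beq c 28) [⟨30, -1, 1⟩] []) (cond (Nat.beq c 31) [⟨32, 1, 1⟩] [])))) (cond (Nat.blt c 42) (cond (Nat.blt c 38) (cond (Nat.beq c 35) [⟨36, 1, 1⟩] []) (cond (Nat.beq c 38) [⟨39, 1, 1⟩] [])) (cond (Nat.blt c 46) (cond (Nat.beq c 42) [⟨43, 1, 1⟩] []) (cond (Nat.blt c 49) (cond (Nat.beq c 46) [⟨47, 1, 1⟩] []) (cond (Nat.beq c 49) [⟨50, 1, 1⟩] [])))))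

/-- Compiled columns of `x_26` for type F4. -/
def colsF4_26 (c : ℕ) : List CEnt :=
  cond (Nat.blt c 22) (cond (Nat.blt c 4) (cond (Nat.blt c 2) (cond (Nat.blt c 1) (cond (Nat.beq c 0) [⟨30, 0, 1⟩] []) (cond (Nat.beq c 1) [⟨30, 2, 1⟩] [])) (cond (Nat.blt c 3) (cond (Nat.beq c 2) [⟨30, -1, 1⟩] []) (cond (Nat.beq c 3) [⟨30, -1, 1⟩] []))) (cond (Nat.blt c 12) (cond (Nat.blt c 8) (cond (Nat.beq c 4) [⟨6, -1, 1⟩] []) (cond (Nat.beq c 8) [⟨10, 1, 1⟩] [])) (cond (Nat.blt c 15) (cond (Nat.beq c 12) [⟨14, 1, 1⟩] []) (cond (Nat.blt c 19) (cond (Nat.beq c 15) [⟨17, -1, 1⟩] []) (cond (Nat.beq c 19) [⟨21, 1, 1⟩] []))))) (cond (Nat.blt c 34) (cond (Nat.blt c 26) (cond (Nat.blt c 25) (cond (Nat.beq c 22) [⟨24, -1, 1⟩] []) (cond (Nat.beq c 25) [⟨30, -1, 2⟩, ⟨0, 0, 1⟩, ⟨1,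 0, 1⟩, ⟨2, 1, 1⟩, ⟨3, 1, 1⟩] [])) (cond (Nat.blt c 27) (cond (Nat.beq c 26) [⟨28, 1, 1⟩] []) (cond (Nat.blt c 31) (cond (Nat.beq c 27) [⟨29, -1, 1⟩] []) (cond (Nat.beq c 31) [⟨33, 1, 1⟩] [])))) (cond (Nat.blt c 41) (cond (Nat.blt c 38) (cond (Nat.beq c 34) [⟨36, -1, 1⟩] []) (cond (Nat.beq c 38) [⟨40, 1, 1⟩] [])) (cond (Nat.blt c 45) (cond (Nat.beq c 41) [⟨43, -1, 1⟩] []) (cond (Nat.blt c 49) (cond (Nat.beq c 45) [⟨47, -1, 1⟩] []) (cond (Nat.beq c 49) [⟨51, 1, 1⟩] [])))))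

/-- Compiled columns of `x_27` for type F4. -/
def colsF4_27 (c : ℕ) : List CEnt :=
  cond (Nat.blt c 22) (cond (Nat.blt c 11) (cond (Nat.blt c 3) (cond (Nat.blt c 1) (cond (Nat.beq c 0) [⟨31, 1, 1⟩] []) (cond (Nat.blt c 2) (cond (Nat.beq c 1) [⟨31, -2, 1⟩] []) (cond (Nat.beq c 2) [⟨31, 1, 1⟩] []))) (cond (Nat.blt c 6) (cond (Nat.beq c 3) [⟨31, 0, 1⟩] []) (cond (Nat.blt c 7) (cond (Nat.beq c 6) [⟨7, -1, 1⟩, ⟨8, 1, 2⟩] []) (cond (Nat.beq c 7) [⟨8, -2, 1⟩] [])))) (cond (Nat.blt c 17) (cond (Nat.blt c 13) (cond (Nat.beq c 11) [⟨12, -1, 1⟩] []) (cond (Nat.blt c 14) (cond (Nat.beq c 13) [⟨15, -1, 1⟩] []) (cond (Nat.beq c 14) [⟨16, -1, 1⟩] []))) (cond (Nat.blt c 20) (cond (Nat.beq c 17) [⟨18, -1, 1⟩] []) (cond (Nat.blt c 21) (cond (Nat.beq c 20) [⟨22, -1, 1⟩, ⟨25,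 -1, 2⟩] []) (cond (Nat.beq c 21) [⟨23, -1, 1⟩, ⟨26, -1, 2⟩] []))))) (cond (Nat.blt c 33) (cond (Nat.blt c 29) (cond (Nat.blt c 23) (cond (Nat.beq c 22) [⟨25, 2, 1⟩] []) (cond (Nat.blt c 24) (cond (Nat.beq c 23) [⟨26, 2, 1⟩] []) (cond (Nat.beq c 24) [⟨31, -1, 2⟩, ⟨0, 0, 1⟩, ⟨1, 1, 1⟩, ⟨2, 0, 1⟩, ⟨3, 0, 1⟩] []))) (cond (Nat.blt c 30) (cond (Nat.beq c 29) [⟨32, -1, 1⟩, ⟨34, -1, 2⟩] []) (cond (Nat.blt c 32) (cond (Nat.beq c 30) [⟨33, -1, 1⟩, ⟨35, -1, 2⟩] []) (cond (Nat.beq c 32) [⟨34, 2, 1⟩] [])))) (cond (Nat.blt c 40) (cond (Nat.blt c 37) (cond (Nat.beq c 33) [⟨35, 2, 1⟩] []) (cond (Nat.blt c 39) (cond (Nat.beq c 37) [⟨38, 1, 1⟩] []) (cond (Nat.beq c 39) [⟨41, 1, 1⟩] []))) (cond (Nat.blt c 47) (cond (Nat.blt c 43) (cond (Nat.beq c 40) [⟨42, 1, 1⟩] []) (cond (Nat.beq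 c 43) [⟨44, 1, 1⟩] [])) (cond (Nat.blt c 48) (cond (Nat.beq c 47) [⟨48, 1, 1⟩, ⟨49, 1, 2⟩] []) (cond (Nat.beq c 48) [⟨49, 2, 1⟩] [])))))

/-- Compiled columns of `x_28` for type F4. -/
def colsF4_28 (c : ℕ) : List CEnt :=
  cond (Nat.blt c 22) (cond (Nat.blt c 11) (cond (Nat.blt c 3) (cond (Nat.blt c 1) (cond (Nat.beq c 0) [⟨32, 1, 1⟩] []) (cond (Nat.blt c 2) (cond (Nat.beq c 1) [⟨32, 0, 1⟩] []) (cond (Nat.beq c 2) [⟨32, -1, 1⟩] []))) (cond (Nat.blt c 5) (cond (Nat.beq c 3) [⟨32, 1, 1⟩] []) (cond (Nat.blt c 7) (cond (Nat.beq c 5) [⟨7, -1, 1⟩, ⟨9, -1, 2⟩] []) (cond (Nat.beq c 7) [⟨9, 2, 1⟩] [])))) (cond (Nat.blt c 16) (cond (Nat.blt c 12) (cond (Nat.beq c 11) [⟨13, 1, 1⟩] []) (cond (Nat.blt c 14) (cond (Nat.beq c 12) [⟨15, -1, 1⟩] []) (cond (Nat.beq c 14) [⟨17,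 1, 1⟩] []))) (cond (Nat.blt c 19) (cond (Nat.beq c 16) [⟨18, -1, 1⟩] []) (cond (Nat.blt c 21) (cond (Nat.beq c 19) [⟨22, -1, 1⟩, ⟨27, -1, 2⟩] []) (cond (Nat.beq c 21) [⟨24, 1, 1⟩, ⟨29, 1, 2⟩] []))))) (cond (Nat.blt c 33) (cond (Nat.blt c 26) (cond (Nat.blt c 23) (cond (Nat.beq c 22) [⟨27, 2, 1⟩] []) (cond (Nat.blt c 24) (cond (Nat.beq c 23) [⟨32, -1, 2⟩, ⟨0, 0, 1⟩, ⟨1, 1, 1⟩, ⟨2, 2, 1⟩, ⟨3, 0, 1⟩] []) (cond (Nat.beq c 24) [⟨29, 2, 1⟩] []))) (cond (Nat.blt c 28) (cond (Nat.beq c 26) [⟨31, -1, 1⟩, ⟨34, 1, 2⟩] []) (cond (Nat.blt c 31) (cond (Nat.beq c 28) [⟨33, -1, 1⟩, ⟨36, -1, 2⟩] []) (cond (Nat.beq c 31) [⟨34, -2, 1⟩] [])))) (cond (Nat.blt c 40) (cond (Nat.blt c 37) (cond (Nat.beq c 33) [⟨36, 2, 1⟩] []) (cond (Nat.blt c 38) (cond (Nat.beq c 37) [⟨39, 1, 1⟩] [])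 (cond (Nat.beq c 38) [⟨41, -1, 1⟩] []))) (cond (Nat.blt c 46) (cond (Nat.blt c 42) (cond (Nat.beq c 40) [⟨43, 1, 1⟩] []) (cond (Nat.beq c 42) [⟨44, -1, 1⟩] [])) (cond (Nat.blt c 48) (cond (Nat.beq c 46) [⟨48, -1, 1⟩, ⟨50, -1, 2⟩] []) (cond (Nat.beq c 48) [⟨50, 2, 1⟩] [])))))

/-- Compiled columns of `x_29` for type F4. -/
def colsF4_29 (c : ℕ) : List CEnt :=
  cond (Nat.blt c 22) (cond (Nat.blt c 11) (cond (Nat.blt c 3) (cond (Nat.blt c 1) (cond (Nat.beq c 0) [⟨33, 1, 1⟩] []) (cond (Nat.blt c 2) (cond (Nat.beq c 1) [⟨33, 0, 1⟩] []) (cond (Nat.beq c 2) [⟨33, 0, 1⟩] []))) (cond (Nat.blt c 4) (cond (Nat.beq c 3) [⟨33, -1, 1⟩] []) (cond (Nat.blt c 7) (cond (Nat.beq c 4) [⟨7, -1, 1⟩, ⟨10, 1, 2⟩] []) (cond (Nat.beq c 7) [⟨10, -2, 1⟩] [])))) (cond (Nat.blt c 15) (cond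 (Nat.blt c 12) (cond (Nat.beq c 11) [⟨14, -1, 1⟩] []) (cond (Nat.blt c 13) (cond (Nat.beq c 12) [⟨16, 1, 1⟩] []) (cond (Nat.beq c 13) [⟨17, 1, 1⟩] []))) (cond (Nat.blt c 19) (cond (Nat.beq c 15) [⟨18, -1, 1⟩] []) (cond (Nat.blt c 20) (cond (Nat.beq c 19) [⟨23, 1, 1⟩, ⟨28, 1, 2⟩] []) (cond (Nat.beq c 20) [⟨24, 1, 1⟩, ⟨30, 1, 2⟩] []))))) (cond (Nat.blt c 32) (cond (Nat.blt c 25) (cond (Nat.blt c 23) (cond (Nat.beq c 22) [⟨33, -1, 2⟩, ⟨0, 0, 1⟩, ⟨1, 1, 1⟩, ⟨2, 2, 1⟩, ⟨3, 2, 1⟩] []) (cond (Nat.blt c 24) (cond (Nat.beq c 23) [⟨28, 2, 1⟩] []) (cond (Nat.beq c 24) [⟨30, 2, 1⟩] []))) (cond (Nat.blt c 27) (cond (Nat.beq c 25) [⟨31, -1, 1⟩, ⟨35, 1, 2⟩] []) (cond (Nat.blt c 31) (cond (Nat.beq c 27) [⟨32, -1, 1⟩, ⟨36, 1, 2⟩] []) (cond (Nat.beq c 31) [⟨35, -2, 1⟩] []))))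 (cond (Nat.blt c 39) (cond (Nat.blt c 37) (cond (Nat.beq c 32) [⟨36, -2, 1⟩] []) (cond (Nat.blt c 38) (cond (Nat.beq c 37) [⟨40, 1, 1⟩] []) (cond (Nat.beq c 38) [⟨42, -1, 1⟩] []))) (cond (Nat.blt c 45) (cond (Nat.blt c 41) (cond (Nat.beq c 39) [⟨43, -1, 1⟩] []) (cond (Nat.beq c 41) [⟨44, 1, 1⟩] [])) (cond (Nat.blt c 48) (cond (Nat.beq c 45) [⟨48, 1, 1⟩, ⟨51, 1, 2⟩] []) (cond (Nat.beq c 48) [⟨51, 2, 1⟩] [])))))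

/-- Compiled columns of `x_30` for type F4. -/
def colsF4_30 (c : ℕ) : List CEnt :=
  cond (Nat.blt c 20) (cond (Nat.blt c 5) (cond (Nat.blt c 2) (cond (Nat.blt c 1) (cond (Nat.beq c 0) [⟨34, 2, 1⟩] []) (cond (Nat.beq c 1) [⟨34, -2, 1⟩] [])) (cond (Nat.blt c 3) (cond (Nat.beq c 2) [⟨34, 0, 1⟩] []) (cond (Nat.beq c 3) [⟨34, 1, 1⟩] []))) (cond (Nat.blt c 11) (cond (Nat.blt c 6) (cond (Nat.beq c 5) [⟨8, 1, 1⟩] []) (cond (Nat.beq c 6) [⟨9, 1, 1⟩] [])) (cond (Nat.blt c 14) (cond (Nat.beq c 11) [⟨15, -1, 1⟩] []) (cond (Nat.blt c 19) (cond (Nat.beq c 14) [⟨18, -1, 1⟩] []) (cond (Nat.beq c 19) [⟨25, -1, 1⟩] []))))) (cond (Nat.blt c 30) (cond (Nat.blt c 23) (cond (Nat.blt c 21) (cond (Nat.beq c 20) [⟨27, 1, 1⟩] []) (cond (Nat.beq c 21) [⟨34, -1, 2⟩, ⟨0, 0, 1⟩, ⟨1, 1,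 1⟩, ⟨2, 1, 1⟩, ⟨3, 0, 1⟩] [])) (cond (Nat.blt c 24) (cond (Nat.beq c 23) [⟨31, 1, 1⟩] []) (cond (Nat.blt c 28) (cond (Nat.beq c 24) [⟨32, -1, 1⟩] []) (cond (Nat.beq c 28) [⟨35, -1, 1⟩] [])))) (cond (Nat.blt c 40) (cond (Nat.blt c 37) (cond (Nat.beq c 30) [⟨36, 1, 1⟩] []) (cond (Nat.beq c 37) [⟨41, 1, 1⟩] [])) (cond (Nat.blt c 46) (cond (Nat.beq c 40) [⟨44, 1, 1⟩] []) (cond (Nat.blt c 47) (cond (Nat.beq c 46) [⟨49, -1, 1⟩] []) (cond (Nat.beq c 47) [⟨50, -1, 1⟩] [])))))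

/-- Compiled columns of `x_31` for type F4. -/
def colsF4_31 (c : ℕ) : List CEnt :=
  cond (Nat.blt c 20) (cond (Nat.blt c 4) (cond (Nat.blt c 2) (cond (Nat.blt c 1) (cond (Nat.beq c 0) [⟨35, 2, 1⟩] []) (cond (Nat.beq c 1) [⟨35, -2, 1⟩] [])) (cond (Nat.blt c 3) (cond (Nat.beq c 2) [⟨35, 1, 1⟩] []) (cond (Nat.beq c 3) [⟨35, -1, 1⟩] []))) (cond (Nat.blt c 11) (cond (Nat.blt c 6) (cond (Nat.beq c 4) [⟨8, 1, 1⟩] []) (cond (Nat.beq c 6) [⟨10, -1, 1⟩] [])) (cond (Nat.blt c 13) (cond (Nat.beq c 11) [⟨16, 1, 1⟩] []) (cond (Nat.blt c 19) (cond (Nat.beq c 13) [⟨18, -1, 1⟩] []) (cond (Nat.beq c 19) [⟨26, 1, 1⟩] []))))) (cond (Nat.blt c 29) (cond (Nat.blt c 22) (cond (Nat.blt c 21) (cond (Nat.beq c 20) [⟨35, -1, 2⟩, ⟨0, 0, 1⟩, ⟨1, 1, 1⟩, ⟨2, 1, 1⟩, ⟨3, 1, 1⟩] []) (cond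 (Nat.beq c 21) [⟨28, 1, 1⟩] [])) (cond (Nat.blt c 24) (cond (Nat.beq c 22) [⟨31, 1, 1⟩] []) (cond (Nat.blt c 27) (cond (Nat.beq c 24) [⟨33, -1, 1⟩] []) (cond (Nat.beq c 27) [⟨34, -1, 1⟩] [])))) (cond (Nat.blt c 39) (cond (Nat.blt c 37) (cond (Nat.beq c 29) [⟨36, -1, 1⟩] []) (cond (Nat.beq c 37) [⟨42, 1, 1⟩] [])) (cond (Nat.blt c 45) (cond (Nat.beq c 39) [⟨44, -1, 1⟩] []) (cond (Nat.blt c 47) (cond (Nat.beq c 45) [⟨49, 1, 1⟩] []) (cond (Nat.beq c 47) [⟨51, -1, 1⟩] [])))))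

/-- Compiled columns of `x_32` for type F4. -/
def colsF4_32 (c : ℕ) : List CEnt :=
  cond (Nat.blt c 20) (cond (Nat.blt c 4) (cond (Nat.blt c 2) (cond (Nat.blt c 1) (cond (Nat.beq c 0) [⟨36, 2, 1⟩] []) (cond (Nat.beq c 1) [⟨36, 0, 1⟩] [])) (cond (Nat.blt c 3) (cond (Nat.beq c 2) [⟨36, -1, 1⟩] []) (cond (Nat.beq c 3) [⟨36, 0, 1⟩] []))) (cond (Nat.blt c 11) (cond (Nat.blt c 5) (cond (Nat.beq c 4) [⟨9, -1, 1⟩] []) (cond (Nat.beq c 5) [⟨10, -1, 1⟩] [])) (cond (Nat.blt c 12) (cond (Nat.beq c 11) [⟨17, -1, 1⟩] []) (cond (Nat.blt c 19) (cond (Nat.beq c 12) [⟨18, -1, 1⟩] []) (cond (Nat.beq c 19) [⟨36, -1, 2⟩, ⟨0, 0, 1⟩, ⟨1, 1, 1⟩, ⟨2, 2, 1⟩, ⟨3, 1, 1⟩] []))))) (cond (Nat.blt c 26) (cond (Nat.blt c 22) (cond (Nat.blt c 21) (cond (Nat.beq c 20) [⟨29, 1, 1⟩] []) (cond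 (Nat.beq c 21) [⟨30, -1, 1⟩] [])) (cond (Nat.blt c 23) (cond (Nat.beq c 22) [⟨32, 1, 1⟩] []) (cond (Nat.blt c 25) (cond (Nat.beq c 23) [⟨33, -1, 1⟩] []) (cond (Nat.beq c 25) [⟨34, 1, 1⟩] [])))) (cond (Nat.blt c 38) (cond (Nat.blt c 37) (cond (Nat.beq c 26) [⟨35, -1, 1⟩] []) (cond (Nat.beq c 37) [⟨43, 1, 1⟩] [])) (cond (Nat.blt c 45) (cond (Nat.beq c 38) [⟨44, 1, 1⟩] []) (cond (Nat.blt c 46) (cond (Nat.beq c 45) [⟨50, 1, 1⟩] []) (cond (Nat.beq c 46) [⟨51, 1, 1⟩] [])))))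

/-- Compiled columns of `x_33` for type F4. -/
def colsF4_33 (c : ℕ) : List CEnt :=
  cond (Nat.blt c 16) (cond (Nat.blt c 9) (cond (Nat.blt c 3) (cond (Nat.blt c 1) (cond (Nat.beq c 0) [⟨37, -2, 1⟩] []) (cond (Nat.blt c 2) (cond (Nat.beq c 1) [⟨37, 1, 1⟩] []) (cond (Nat.beq c 2) [⟨37, 0, 1⟩] []))) (cond (Nat.blt c 7) (cond (Nat.beq c 3) [⟨37, 0, 1⟩] []) (cond (Nat.blt c 8) (cond (Nat.beq c 7) [⟨11, -1, 1⟩] []) (cond (Nat.beq c 8) [⟨12, -1, 1⟩, ⟨19, -1, 2⟩] [])))) (cond (Nat.blt c 13) (cond (Nat.blt c 10) (cond (Nat.beq c 9) [⟨13, -1, 1⟩, ⟨20, -1, 2⟩] []) (cond (Nat.blt c 12) (cond (Nat.beq c 10) [⟨14, -1, 1⟩, ⟨21, -1, 2⟩] []) (cond (Nat.beq c 12) [⟨19, 2, 1⟩] []))) (cond (Nat.blt c 14) (cond (Nat.beq c 13) [⟨20, 2, 1⟩] []) (cond (Nat.blt c 15) (cond (Nat.beq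 c 14) [⟨21, 2, 1⟩] []) (cond (Nat.beq c 15) [⟨22, 1, 1⟩] []))))) (cond (Nat.blt c 34) (cond (Nat.blt c 31) (cond (Nat.blt c 17) (cond (Nat.beq c 16) [⟨23, 1, 1⟩] []) (cond (Nat.blt c 18) (cond (Nat.beq c 17) [⟨24, 1, 1⟩] []) (cond (Nat.beq c 18) [⟨37, -1, 2⟩, ⟨0, 1, 1⟩, ⟨1, 0, 1⟩, ⟨2, 0, 1⟩, ⟨3, 0, 1⟩] []))) (cond (Nat.blt c 32) (cond (Nat.beq c 31) [⟨38, -1, 1⟩] []) (cond (Nat.blt c 33) (cond (Nat.beq c 32) [⟨39, -1, 1⟩] []) (cond (Nat.beq c 33) [⟨40, -1, 1⟩] [])))) (cond (Nat.blt c 41) (cond (Nat.blt c 35) (cond (Nat.beq c 34) [⟨41, -1, 1⟩, ⟨45, -1, 2⟩] []) (cond (Nat.blt c 36) (cond (Nat.beq c 35) [⟨42, -1, 1⟩, ⟨46, -1, 2⟩] []) (cond (Nat.beq c 36) [⟨43, -1, 1⟩, ⟨47, -1, 2⟩] []))) (cond (Nat.blt c 43) (cond (Nat.blt c 42) (cond (Nat.beq c 41) [⟨45, 2, 1⟩]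 []) (cond (Nat.beq c 42) [⟨46, 2, 1⟩] [])) (cond (Nat.blt c 44) (cond (Nat.beq c 43) [⟨47, 2, 1⟩] []) (cond (Nat.beq c 44) [⟨48, 1, 1⟩] [])))))

/-- Compiled columns of `x_34` for type F4. -/
def colsF4_34 (c : ℕ) : List CEnt :=
  cond (Nat.blt c 16) (cond (Nat.blt c 9) (cond (Nat.blt c 3) (cond (Nat.blt c 1) (cond (Nat.beq c 0) [⟨38, -1, 1⟩] []) (cond (Nat.blt c 2) (cond (Nat.beq c 1) [⟨38, -1, 1⟩] []) (cond (Nat.beq c 2) [⟨38, 1, 1⟩] []))) (cond (Nat.blt c 6) (cond (Nat.beq c 3) [⟨38, 0, 1⟩] []) (cond (Nat.blt c 7) (cond (Nat.beq c 6) [⟨11, -1, 1⟩, ⟨19, -1, 2⟩] []) (cond (Nat.beq c 7) [⟨12, -1, 1⟩] [])))) (cond (Nat.blt c 13) (cond (Nat.blt c 10) (cond (Nat.beq c 9) [⟨15, 1, 1⟩, ⟨25, 1, 2⟩] []) (cond (Nat.blt c 11) (cond (Nat.beq c 10) [⟨16, 1, 1⟩, ⟨26, 1,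 2⟩] []) (cond (Nat.beq c 11) [⟨19, 2, 1⟩] []))) (cond (Nat.blt c 14) (cond (Nat.beq c 13) [⟨22, -1, 1⟩] []) (cond (Nat.blt c 15) (cond (Nat.beq c 14) [⟨23, -1, 1⟩] []) (cond (Nat.beq c 15) [⟨25, 2, 1⟩] []))))) (cond (Nat.blt c 32) (cond (Nat.blt c 24) (cond (Nat.blt c 17) (cond (Nat.beq c 16) [⟨26, 2, 1⟩] []) (cond (Nat.blt c 18) (cond (Nat.beq c 17) [⟨38, -1, 2⟩, ⟨0, 1, 1⟩, ⟨1, 1, 1⟩, ⟨2, 0, 1⟩, ⟨3, 0, 1⟩] []) (cond (Nat.beq c 18) [⟨31, 1, 1⟩] []))) (cond (Nat.blt c 29) (cond (Nat.beq c 24) [⟨37, -1, 1⟩] []) (cond (Nat.blt c 30) (cond (Nat.beq c 29) [⟨39, -1, 1⟩, ⟨45, 1, 2⟩] []) (cond (Nat.beq c 30) [⟨40, -1, 1⟩, ⟨46, 1, 2⟩] [])))) (cond (Nat.blt c 39) (cond (Nat.blt c 33) (cond (Nat.beq c 32) [⟨41, 1, 1⟩] []) (cond (Nat.blt c 36) (cond (Nat.beq c 33) [⟨42,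 1, 1⟩] []) (cond (Nat.beq c 36) [⟨44, -1, 1⟩, ⟨49, -1, 2⟩] []))) (cond (Nat.blt c 43) (cond (Nat.blt c 40) (cond (Nat.beq c 39) [⟨45, -2, 1⟩] []) (cond (Nat.beq c 40) [⟨46, -2, 1⟩] [])) (cond (Nat.blt c 44) (cond (Nat.beq c 43) [⟨48, 1, 1⟩] []) (cond (Nat.beq c 44) [⟨49, 2, 1⟩] [])))))

/-- Compiled columns of `x_35` for type F4. -/
def colsF4_35 (c : ℕ) : List CEnt :=
  cond (Nat.blt c 16) (cond (Nat.blt c 8) (cond (Nat.blt c 3) (cond (Nat.blt c 1) (cond (Nat.beq c 0) [⟨39, -1, 1⟩] []) (cond (Nat.blt c 2) (cond (Nat.beq c 1) [⟨39, 1, 1⟩] []) (cond (Nat.beq c 2) [⟨39, -1, 1⟩] []))) (cond (Nat.blt c 5) (cond (Nat.beq c 3) [⟨39, 1, 1⟩] []) (cond (Nat.blt c 7) (cond (Nat.beq c 5) [⟨11, -1, 1⟩, ⟨20, 1, 2⟩] []) (cond (Nat.beq c 7) [⟨13, 1, 1⟩] [])))) (cond (Nat.blt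 c 12) (cond (Nat.blt c 10) (cond (Nat.beq c 8) [⟨15, 1, 1⟩, ⟨27, 1, 2⟩] []) (cond (Nat.blt c 11) (cond (Nat.beq c 10) [⟨17, -1, 1⟩, ⟨29, -1, 2⟩] []) (cond (Nat.beq c 11) [⟨20, -2, 1⟩] []))) (cond (Nat.blt c 14) (cond (Nat.beq c 12) [⟨22, -1, 1⟩] []) (cond (Nat.blt c 15) (cond (Nat.beq c 14) [⟨24, 1, 1⟩] []) (cond (Nat.beq c 15) [⟨27, 2, 1⟩] []))))) (cond (Nat.blt c 31) (cond (Nat.blt c 23) (cond (Nat.blt c 17) (cond (Nat.beq c 16) [⟨39, -1, 2⟩, ⟨0, 1, 1⟩, ⟨1, 1, 1⟩, ⟨2, 2, 1⟩, ⟨3, 0, 1⟩] []) (cond (Nat.blt c 18) (cond (Nat.beq c 17) [⟨29, 2, 1⟩] []) (cond (Nat.beq c 18) [⟨32, 1, 1⟩] []))) (cond (Nat.blt c 26) (cond (Nat.beq c 23) [⟨37, -1, 1⟩] []) (cond (Nat.blt c 28) (cond (Nat.beq c 26) [⟨38, -1, 1⟩, ⟨45, -1, 2⟩] []) (cond (Nat.beq c 28) [⟨40, -1, 1⟩, ⟨47,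 1, 2⟩] [])))) (cond (Nat.blt c 38) (cond (Nat.blt c 33) (cond (Nat.beq c 31) [⟨41, -1, 1⟩] []) (cond (Nat.blt c 35) (cond (Nat.beq c 33) [⟨43, 1, 1⟩] []) (cond (Nat.beq c 35) [⟨44, 1, 1⟩, ⟨50, 1, 2⟩] []))) (cond (Nat.blt c 42) (cond (Nat.blt c 40) (cond (Nat.beq c 38) [⟨45, 2, 1⟩] []) (cond (Nat.beq c 40) [⟨47, -2, 1⟩] [])) (cond (Nat.blt c 44) (cond (Nat.beq c 42) [⟨48, -1, 1⟩] []) (cond (Nat.beq c 44) [⟨50, 2, 1⟩] [])))))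

/-- Compiled columns of `x_36` for type F4. -/
def colsF4_36 (c : ℕ) : List CEnt :=
  cond (Nat.blt c 16) (cond (Nat.blt c 8) (cond (Nat.blt c 3) (cond (Nat.blt c 1) (cond (Nat.beq c 0) [⟨40, -1, 1⟩] []) (cond (Nat.blt c 2) (cond (Nat.beq c 1) [⟨40, 1, 1⟩] []) (cond (Nat.beq c 2) [⟨40, 0, 1⟩] []))) (cond (Nat.blt c 4) (cond (Nat.beq c 3) [⟨40, -1, 1⟩] []) (cond (Nat.blt c 7) (cond (Nat.beq c 4) [⟨11, -1, 1⟩, ⟨21, -1, 2⟩] []) (cond (Nat.beq c 7) [⟨14, -1, 1⟩] [])))) (cond (Nat.blt c 12) (cond (Nat.blt c 9) (cond (Nat.beq c 8) [⟨16, -1, 1⟩, ⟨28, -1, 2⟩] []) (cond (Nat.blt c 11) (cond (Nat.beq c 9) [⟨17, -1, 1⟩, ⟨30, -1, 2⟩] []) (cond (Nat.beq c 11) [⟨21, 2, 1⟩] []))) (cond (Nat.blt c 13) (cond (Nat.beq c 12) [⟨23, 1, 1⟩] []) (cond (Nat.blt c 15) (cond (Nat.beq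 c 13) [⟨24, 1, 1⟩] []) (cond (Nat.beq c 15) [⟨40, -1, 2⟩, ⟨0, 1, 1⟩, ⟨1, 1, 1⟩, ⟨2, 2, 1⟩, ⟨3, 2, 1⟩] []))))) (cond (Nat.blt c 31) (cond (Nat.blt c 22) (cond (Nat.blt c 17) (cond (Nat.beq c 16) [⟨28, 2, 1⟩] []) (cond (Nat.blt c 18) (cond (Nat.beq c 17) [⟨30, 2, 1⟩] []) (cond (Nat.beq c 18) [⟨33, 1, 1⟩] []))) (cond (Nat.blt c 25) (cond (Nat.beq c 22) [⟨37, -1, 1⟩] []) (cond (Nat.blt c 27) (cond (Nat.beq c 25) [⟨38, -1, 1⟩, ⟨46, -1, 2⟩] []) (cond (Nat.beq c 27) [⟨39, -1, 1⟩, ⟨47, -1, 2⟩] [])))) (cond (Nat.blt c 38) (cond (Nat.blt c 32) (cond (Nat.beq c 31) [⟨42, -1, 1⟩] []) (cond (Nat.blt c 34) (cond (Nat.beq c 32) [⟨43, -1, 1⟩] []) (cond (Nat.beq c 34) [⟨44, -1, 1⟩, ⟨51, -1, 2⟩] []))) (cond (Nat.blt c 41) (cond (Nat.blt c 39) (cond (Nat.beq c 38) [⟨46, 2, 1⟩]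 []) (cond (Nat.beq c 39) [⟨47, 2, 1⟩] [])) (cond (Nat.blt c 44) (cond (Nat.beq c 41) [⟨48, 1, 1⟩] []) (cond (Nat.beq c 44) [⟨51, 2, 1⟩] [])))))

/-- Compiled columns of `x_37` for type F4. -/
def colsF4_37 (c : ℕ) : List CEnt :=
  cond (Nat.blt c 16) (cond (Nat.blt c 7) (cond (Nat.blt c 3) (cond (Nat.blt c 1) (cond (Nat.beq c 0) [⟨41, 0, 1⟩] []) (cond (Nat.blt c 2) (cond (Nat.beq c 1) [⟨41, -1, 1⟩] []) (cond (Nat.beq c 2) [⟨41, 0, 1⟩] []))) (cond (Nat.blt c 5) (cond (Nat.beq c 3) [⟨41, 1, 1⟩] []) (cond (Nat.blt c 6) (cond (Nat.beq c 5) [⟨12, 1, 1⟩, ⟨25, -1, 2⟩] []) (cond (Nat.beq c 6) [⟨13, 1, 1⟩, ⟨27, 1, 2⟩] [])))) (cond (Nat.blt c 12) (cond (Nat.blt c 10) (cond (Nat.beq c 7) [⟨15, 1, 1⟩] []) (cond (Nat.blt c 11) (cond (Nat.beq c 10) [⟨18, 1, 1⟩, ⟨34, 1, 2⟩]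 []) (cond (Nat.beq c 11) [⟨22, 1, 1⟩] []))) (cond (Nat.blt c 13) (cond (Nat.beq c 12) [⟨25, -2, 1⟩] []) (cond (Nat.blt c 14) (cond (Nat.beq c 13) [⟨27, 2, 1⟩] []) (cond (Nat.beq c 14) [⟨41, -1, 2⟩, ⟨0, 1, 1⟩, ⟨1, 2, 1⟩, ⟨2, 2, 1⟩, ⟨3, 0, 1⟩] []))))) (cond (Nat.blt c 28) (cond (Nat.blt c 21) (cond (Nat.blt c 17) (cond (Nat.beq c 16) [⟨31, 1, 1⟩] []) (cond (Nat.blt c 18) (cond (Nat.beq c 17) [⟨32, -1, 1⟩] []) (cond (Nat.beq c 18) [⟨34, 2, 1⟩] []))) (cond (Nat.blt c 23) (cond (Nat.beq c 21) [⟨37, -1, 1⟩, ⟨45, 1, 2⟩] []) (cond (Nat.blt c 24) (cond (Nat.beq c 23) [⟨38, 1, 1⟩] []) (cond (Nat.beq c 24) [⟨39, -1, 1⟩] [])))) (cond (Nat.blt c 37) (cond (Nat.blt c 30) (cond (Nat.beq c 28) [⟨42, -1, 1⟩, ⟨49, 1, 2⟩] []) (cond (Nat.blt c 33) (cond (Nat.beq c 30) [⟨43, 1, 1⟩,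 ⟨50, -1, 2⟩] []) (cond (Nat.beq c 33) [⟨44, -1, 1⟩] []))) (cond (Nat.blt c 42) (cond (Nat.blt c 40) (cond (Nat.beq c 37) [⟨45, -2, 1⟩] []) (cond (Nat.beq c 40) [⟨48, -1, 1⟩] [])) (cond (Nat.blt c 43) (cond (Nat.beq c 42) [⟨49, -2, 1⟩] []) (cond (Nat.beq c 43) [⟨50, -2, 1⟩] [])))))

/-- Compiled columns of `x_38` for type F4. -/
def colsF4_38 (c : ℕ) : List CEnt :=
  cond (Nat.blt c 15) (cond (Nat.blt c 7) (cond (Nat.blt c 3) (cond (Nat.blt c 1) (cond (Nat.beq c 0) [⟨42, 0, 1⟩] []) (cond (Nat.blt c 2) (cond (Nat.beq c 1) [⟨42, -1, 1⟩] []) (cond (Nat.beq c 2) [⟨42, 1, 1⟩] []))) (cond (Nat.blt c 4) (cond (Nat.beq c 3) [⟨42, -1, 1⟩] []) (cond (Nat.blt c 6) (cond (Nat.beq c 4) [⟨12, 1, 1⟩, ⟨26, 1, 2⟩] []) (cond (Nat.beq c 6) [⟨14, -1, 1⟩, ⟨28, -1, 2⟩] [])))) (cond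 (Nat.blt c 12) (cond (Nat.blt c 9) (cond (Nat.beq c 7) [⟨16, -1, 1⟩] []) (cond (Nat.blt c 11) (cond (Nat.beq c 9) [⟨18, 1, 1⟩, ⟨35, 1, 2⟩] []) (cond (Nat.beq c 11) [⟨23, -1, 1⟩] []))) (cond (Nat.blt c 13) (cond (Nat.beq c 12) [⟨26, 2, 1⟩] []) (cond (Nat.blt c 14) (cond (Nat.beq c 13) [⟨42, -1, 2⟩, ⟨0, 1, 1⟩, ⟨1, 2, 1⟩, ⟨2, 2, 1⟩, ⟨3, 2, 1⟩] []) (cond (Nat.beq c 14) [⟨28, 2, 1⟩] []))))) (cond (Nat.blt c 27) (cond (Nat.blt c 20) (cond (Nat.blt c 17) (cond (Nat.beq c 15) [⟨31, 1, 1⟩] []) (cond (Nat.blt c 18) (cond (Nat.beq c 17) [⟨33, -1, 1⟩] []) (cond (Nat.beq c 18) [⟨35, 2, 1⟩] []))) (cond (Nat.blt c 22) (cond (Nat.beq c 20) [⟨37, -1, 1⟩, ⟨46, 1, 2⟩] []) (cond (Nat.blt c 24) (cond (Nat.beq c 22) [⟨38, 1, 1⟩] []) (cond (Nat.beq c 24) [⟨40, -1, 1⟩] [])))) (cond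 (Nat.blt c 37) (cond (Nat.blt c 29) (cond (Nat.beq c 27) [⟨41, -1, 1⟩, ⟨49, -1, 2⟩] []) (cond (Nat.blt c 32) (cond (Nat.beq c 29) [⟨43, -1, 1⟩, ⟨51, 1, 2⟩] []) (cond (Nat.beq c 32) [⟨44, 1, 1⟩] []))) (cond (Nat.blt c 41) (cond (Nat.blt c 39) (cond (Nat.beq c 37) [⟨46, -2, 1⟩] []) (cond (Nat.beq c 39) [⟨48, 1, 1⟩] [])) (cond (Nat.blt c 43) (cond (Nat.beq c 41) [⟨49, 2, 1⟩] []) (cond (Nat.beq c 43) [⟨51, -2, 1⟩] [])))))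

/-- Compiled columns of `x_39` for type F4. -/
def colsF4_39 (c : ℕ) : List CEnt :=
  cond (Nat.blt c 15) (cond (Nat.blt c 7) (cond (Nat.blt c 3) (cond (Nat.blt c 1) (cond (Nat.beq c 0) [⟨43, 0, 1⟩] []) (cond (Nat.blt c 2) (cond (Nat.beq c 1) [⟨43, 1, 1⟩] []) (cond (Nat.beq c 2) [⟨43, -1, 1⟩] []))) (cond (Nat.blt c 4) (cond (Nat.beq c 3) [⟨43, 0, 1⟩] []) (cond (Nat.blt c 5) (cond (Nat.beq c 4) [⟨13, -1, 1⟩, ⟨29, -1, 2⟩] []) (cond (Nat.beq c 5) [⟨14, -1, 1⟩, ⟨30, 1, 2⟩] [])))) (cond (Nat.blt c 12) (cond (Nat.blt c 8) (cond (Nat.beq c 7) [⟨17, 1, 1⟩] []) (cond (Nat.blt c 11) (cond (Nat.beq c 8) [⟨18, 1, 1⟩, ⟨36, 1, 2⟩] []) (cond (Nat.beq c 11) [⟨24, 1, 1⟩] []))) (cond (Nat.blt c 13) (cond (Nat.beq c 12) [⟨43, -1, 2⟩, ⟨0, 1, 1⟩, ⟨1, 2, 1⟩, ⟨2, 4, 1⟩, ⟨3, 2, 1⟩]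 []) (cond (Nat.blt c 14) (cond (Nat.beq c 13) [⟨29, 2, 1⟩] []) (cond (Nat.beq c 14) [⟨30, -2, 1⟩] []))))) (cond (Nat.blt c 25) (cond (Nat.blt c 19) (cond (Nat.blt c 16) (cond (Nat.beq c 15) [⟨32, 1, 1⟩] []) (cond (Nat.blt c 18) (cond (Nat.beq c 16) [⟨33, -1, 1⟩] []) (cond (Nat.beq c 18) [⟨36, 2, 1⟩] []))) (cond (Nat.blt c 22) (cond (Nat.beq c 19) [⟨37, -1, 1⟩, ⟨47, 1, 2⟩] []) (cond (Nat.blt c 23) (cond (Nat.beq c 22) [⟨39, 1, 1⟩] []) (cond (Nat.beq c 23) [⟨40, -1, 1⟩] [])))) (cond (Nat.blt c 37) (cond (Nat.blt c 26) (cond (Nat.beq c 25) [⟨41, 1, 1⟩, ⟨50, 1, 2⟩] []) (cond (Nat.blt c 31) (cond (Nat.beq c 26) [⟨42, -1, 1⟩, ⟨51, -1, 2⟩] []) (cond (Nat.beq c 31) [⟨44, -1, 1⟩] []))) (cond (Nat.blt c 41) (cond (Nat.blt c 38) (cond (Nat.beq c 37) [⟨47, -2, 1⟩] []) (cond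 (Nat.beq c 38) [⟨48, -1, 1⟩] [])) (cond (Nat.blt c 42) (cond (Nat.beq c 41) [⟨50, 2, 1⟩] []) (cond (Nat.beq c 42) [⟨51, 2, 1⟩] [])))))

/-- Compiled columns of `x_40` for type F4. -/
def colsF4_40 (c : ℕ) : List CEnt :=
  cond (Nat.blt c 15) (cond (Nat.blt c 6) (cond (Nat.blt c 3) (cond (Nat.blt c 1) (cond (Nat.beq c 0) [⟨44, 1, 1⟩] []) (cond (Nat.blt c 2) (cond (Nat.beq c 1) [⟨44, -1, 1⟩] []) (cond (Nat.beq c 2) [⟨44, 0, 1⟩] []))) (cond (Nat.blt c 4) (cond (Nat.beq c 3) [⟨44, 0, 1⟩] []) (cond (Nat.blt c 5) (cond (Nat.beq c 4) [⟨15, 1, 1⟩, ⟨34, 1, 2⟩] []) (cond (Nat.beq c 5) [⟨16, 1, 1⟩, ⟨35, -1, 2⟩] [])))) (cond (Nat.blt c 12) (cond (Nat.blt c 7) (cond (Nat.beq c 6) [⟨17, 1, 1⟩, ⟨36, 1, 2⟩] []) (cond (Nat.blt c 11) (cond (Nat.beq c 7) [⟨18, 1, 1⟩] []) (cond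 (Nat.beq c 11) [⟨44, -1, 2⟩, ⟨0, 1, 1⟩, ⟨1, 3, 1⟩, ⟨2, 4, 1⟩, ⟨3, 2, 1⟩] []))) (cond (Nat.blt c 13) (cond (Nat.beq c 12) [⟨31, 1, 1⟩] []) (cond (Nat.blt c 14) (cond (Nat.beq c 13) [⟨32, -1, 1⟩] []) (cond (Nat.beq c 14) [⟨33, 1, 1⟩] []))))) (cond (Nat.blt c 22) (cond (Nat.blt c 19) (cond (Nat.blt c 16) (cond (Nat.beq c 15) [⟨34, 2, 1⟩] []) (cond (Nat.blt c 17) (cond (Nat.beq c 16) [⟨35, -2, 1⟩] []) (cond (Nat.beq c 17) [⟨36, 2, 1⟩] []))) (cond (Nat.blt c 20) (cond (Nat.beq c 19) [⟨38, -1, 1⟩, ⟨49, 1, 2⟩] []) (cond (Nat.blt c 21) (cond (Nat.beq c 20) [⟨39, 1, 1⟩, ⟨50, -1, 2⟩] []) (cond (Nat.beq c 21) [⟨40, -1, 1⟩, ⟨51, 1, 2⟩] [])))) (cond (Nat.blt c 37) (cond (Nat.blt c 23) (cond (Nat.beq c 22) [⟨41, -1, 1⟩] []) (cond (Nat.blt c 24) (cond (Nat.beq c 23) [⟨42, 1,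 1⟩] []) (cond (Nat.beq c 24) [⟨43, -1, 1⟩] []))) (cond (Nat.blt c 39) (cond (Nat.blt c 38) (cond (Nat.beq c 37) [⟨48, -1, 1⟩] []) (cond (Nat.beq c 38) [⟨49, -2, 1⟩] [])) (cond (Nat.blt c 40) (cond (Nat.beq c 39) [⟨50, -2, 1⟩] []) (cond (Nat.beq c 40) [⟨51, -2, 1⟩] [])))))

/-- Compiled columns of `x_41` for type F4. -/
def colsF4_41 (c : ℕ) : List CEnt :=
  cond (Nat.blt c 10) (cond (Nat.blt c 5) (cond (Nat.blt c 2) (cond (Nat.blt c 1) (cond (Nat.beq c 0) [⟨45, -2, 1⟩] []) (cond (Nat.beq c 1) [⟨45, 0, 1⟩] [])) (cond (Nat.blt c 3) (cond (Nat.beq c 2) [⟨45, 0, 1⟩] []) (cond (Nat.beq c 3) [⟨45, 1, 1⟩] []))) (cond (Nat.blt c 7) (cond (Nat.blt c 6) (cond (Nat.beq c 5) [⟨19, 1, 1⟩] []) (cond (Nat.beq c 6) [⟨20, 1, 1⟩] [])) (cond (Nat.blt c 8) (cond (Nat.beq c 7) [⟨22,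 1, 1⟩] []) (cond (Nat.blt c 9) (cond (Nat.beq c 8) [⟨25, -1, 1⟩] []) (cond (Nat.beq c 9) [⟨27, 1, 1⟩] []))))) (cond (Nat.blt c 28) (cond (Nat.blt c 16) (cond (Nat.blt c 14) (cond (Nat.beq c 10) [⟨45, -1, 2⟩, ⟨0, 1, 1⟩, ⟨1, 1, 1⟩, ⟨2, 1, 1⟩, ⟨3, 0, 1⟩] []) (cond (Nat.beq c 14) [⟨37, 1, 1⟩] [])) (cond (Nat.blt c 17) (cond (Nat.beq c 16) [⟨38, -1, 1⟩] []) (cond (Nat.blt c 18) (cond (Nat.beq c 17) [⟨39, 1, 1⟩] []) (cond (Nat.beq c 18) [⟨41, -1, 1⟩] [])))) (cond (Nat.blt c 33) (cond (Nat.blt c 30) (cond (Nat.beq c 28) [⟨46, -1, 1⟩] []) (cond (Nat.beq c 30) [⟨47, 1, 1⟩] [])) (cond (Nat.blt c 35) (cond (Nat.beq c 33) [⟨48, -1, 1⟩] []) (cond (Nat.blt c 36) (cond (Nat.beq c 35) [⟨49, -1, 1⟩] []) (cond (Nat.beq c 36) [⟨50, -1, 1⟩] [])))))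

/-- Compiled columns of `x_42` for type F4. -/
def colsF4_42 (c : ℕ) : List CEnt :=
  cond (Nat.blt c 10) (cond (Nat.blt c 4) (cond (Nat.blt c 2) (cond (Nat.blt c 1) (cond (Nat.beq c 0) [⟨46, -2, 1⟩] []) (cond (Nat.beq c 1) [⟨46, 0, 1⟩] [])) (cond (Nat.blt c 3) (cond (Nat.beq c 2) [⟨46, 1, 1⟩] []) (cond (Nat.beq c 3) [⟨46, -1, 1⟩] []))) (cond (Nat.blt c 7) (cond (Nat.blt c 6) (cond (Nat.beq c 4) [⟨19, 1, 1⟩] []) (cond (Nat.beq c 6) [⟨21, -1, 1⟩] [])) (cond (Nat.blt c 8) (cond (Nat.beq c 7) [⟨23, -1, 1⟩] []) (cond (Nat.blt c 9) (cond (Nat.beq c 8) [⟨26, 1, 1⟩] []) (cond (Nat.beq c 9) [⟨46, -1, 2⟩, ⟨0, 1, 1⟩, ⟨1, 1, 1⟩, ⟨2, 1, 1⟩, ⟨3, 1, 1⟩] []))))) (cond (Nat.blt c 27) (cond (Nat.blt c 15) (cond (Nat.blt c 13) (cond (Nat.beq c 10) [⟨28, 1, 1⟩] []) (cond (Nat.beq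 c 13) [⟨37, 1, 1⟩] [])) (cond (Nat.blt c 17) (cond (Nat.beq c 15) [⟨38, -1, 1⟩] []) (cond (Nat.blt c 18) (cond (Nat.beq c 17) [⟨40, 1, 1⟩] []) (cond (Nat.beq c 18) [⟨42, -1, 1⟩] [])))) (cond (Nat.blt c 32) (cond (Nat.blt c 29) (cond (Nat.beq c 27) [⟨45, -1, 1⟩] []) (cond (Nat.beq c 29) [⟨47, -1, 1⟩] [])) (cond (Nat.blt c 34) (cond (Nat.beq c 32) [⟨48, 1, 1⟩] []) (cond (Nat.blt c 36) (cond (Nat.beq c 34) [⟨49, 1, 1⟩] []) (cond (Nat.beq c 36) [⟨51, -1, 1⟩] [])))))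

/-- Compiled columns of `x_43` for type F4. -/
def colsF4_43 (c : ℕ) : List CEnt :=
  cond (Nat.blt c 10) (cond (Nat.blt c 4) (cond (Nat.blt c 2) (cond (Nat.blt c 1) (cond (Nat.beq c 0) [⟨47, -2, 1⟩] []) (cond (Nat.beq c 1) [⟨47, 2, 1⟩] [])) (cond (Nat.blt c 3) (cond (Nat.beq c 2) [⟨47, -1, 1⟩] []) (cond (Nat.beq c 3) [⟨47, 0, 1⟩] []))) (cond (Nat.blt c 7) (cond (Nat.blt c 5) (cond (Nat.beq c 4) [⟨20, -1, 1⟩] []) (cond (Nat.beq c 5) [⟨21, -1, 1⟩] [])) (cond (Nat.blt c 8) (cond (Nat.beq c 7) [⟨24, 1, 1⟩] []) (cond (Nat.blt c 9) (cond (Nat.beq c 8) [⟨47, -1, 2⟩, ⟨0, 1, 1⟩, ⟨1, 1, 1⟩, ⟨2, 2, 1⟩, ⟨3, 1, 1⟩] []) (cond (Nat.beq c 9) [⟨29, 1, 1⟩] []))))) (cond (Nat.blt c 25) (cond (Nat.blt c 15) (cond (Nat.blt c 12) (cond (Nat.beq c 10) [⟨30, -1, 1⟩] []) (cond (Nat.beq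 c 12) [⟨37, 1, 1⟩] [])) (cond (Nat.blt c 16) (cond (Nat.beq c 15) [⟨39, -1, 1⟩] []) (cond (Nat.blt c 18) (cond (Nat.beq c 16) [⟨40, 1, 1⟩] []) (cond (Nat.beq c 18) [⟨43, -1, 1⟩] [])))) (cond (Nat.blt c 31) (cond (Nat.blt c 26) (cond (Nat.beq c 25) [⟨45, 1, 1⟩] []) (cond (Nat.beq c 26) [⟨46, -1, 1⟩] [])) (cond (Nat.blt c 34) (cond (Nat.beq c 31) [⟨48, -1, 1⟩] []) (cond (Nat.blt c 35) (cond (Nat.beq c 34) [⟨50, 1, 1⟩] []) (cond (Nat.beq c 35) [⟨51, 1, 1⟩] [])))))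

/-- Compiled columns of `x_44` for type F4. -/
def colsF4_44 (c : ℕ) : List CEnt :=
  cond (Nat.blt c 12) (cond (Nat.blt c 6) (cond (Nat.blt c 3) (cond (Nat.blt c 1) (cond (Nat.beq c 0) [⟨48, -1, 1⟩] []) (cond (Nat.blt c 2) (cond (Nat.beq c 1) [⟨48, 0, 1⟩] []) (cond (Nat.beq c 2) [⟨48, 0, 1⟩] []))) (cond (Nat.blt c 4) (cond (Nat.beq c 3) [⟨48, 0, 1⟩] []) (cond (Nat.blt c 5) (cond (Nat.beq c 4) [⟨22, 1, 1⟩, ⟨45, -1, 2⟩] []) (cond (Nat.beq c 5) [⟨23, 1, 1⟩, ⟨46, 1, 2⟩] [])))) (cond (Nat.blt c 9) (cond (Nat.blt c 7) (cond (Nat.beq c 6) [⟨24, 1, 1⟩, ⟨47, -1, 2⟩] []) (cond (Nat.blt c 8) (cond (Nat.beq c 7) [⟨48, -1, 2⟩, ⟨0, 2, 1⟩, ⟨1, 3, 1⟩, ⟨2, 4, 1⟩, ⟨3, 2, 1⟩] []) (cond (Nat.beq c 8) [⟨31, 1, 1⟩, ⟨49, -1, 2⟩] []))) (cond (Nat.blt c 10) (cond (Nat.beq c 9) [⟨32,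 -1, 1⟩, ⟨50, 1, 2⟩] []) (cond (Nat.blt c 11) (cond (Nat.beq c 10) [⟨33, 1, 1⟩, ⟨51, -1, 2⟩] []) (cond (Nat.beq c 11) [⟨37, 1, 1⟩] []))))) (cond (Nat.blt c 18) (cond (Nat.blt c 15) (cond (Nat.blt c 13) (cond (Nat.beq c 12) [⟨38, 1, 1⟩] []) (cond (Nat.blt c 14) (cond (Nat.beq c 13) [⟨39, -1, 1⟩] []) (cond (Nat.beq c 14) [⟨40, 1, 1⟩] []))) (cond (Nat.blt c 16) (cond (Nat.beq c 15) [⟨41, -1, 1⟩] []) (cond (Nat.blt c 17) (cond (Nat.beq c 16) [⟨42, 1, 1⟩] []) (cond (Nat.beq c 17) [⟨43, -1, 1⟩] [])))) (cond (Nat.blt c 24) (cond (Nat.blt c 22) (cond (Nat.beq c 18) [⟨44, -1, 1⟩] []) (cond (Nat.blt c 23) (cond (Nat.beq c 22) [⟨45, -2, 1⟩] []) (cond (Nat.beq c 23) [⟨46, 2, 1⟩] []))) (cond (Nat.blt c 32) (cond (Nat.blt c 31) (cond (Nat.beq c 24) [⟨47, -2, 1⟩] []) (cond (Nat.beq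 c 31) [⟨49, -2, 1⟩] [])) (cond (Nat.blt c 33) (cond (Nat.beq c 32) [⟨50, -2, 1⟩] []) (cond (Nat.beq c 33) [⟨51, -2, 1⟩] [])))))

/-- Compiled columns of `x_45` for type F4. -/
def colsF4_45 (c : ℕ) : List CEnt :=
  cond (Nat.blt c 10) (cond (Nat.blt c 4) (cond (Nat.blt c 2) (cond (Nat.blt c 1) (cond (Nat.beq c 0) [⟨49, 0, 1⟩] []) (cond (Nat.beq c 1) [⟨49, -2, 1⟩] [])) (cond (Nat.blt c 3) (cond (Nat.beq c 2) [⟨49, 1, 1⟩] []) (cond (Nat.beq c 3) [⟨49, 0, 1⟩] []))) (cond (Nat.blt c 6) (cond (Nat.blt c 5) (cond (Nat.beq c 4) [⟨25, 1, 1⟩] []) (cond (Nat.beq c 5) [⟨26, 1, 1⟩] [])) (cond (Nat.blt c 7) (cond (Nat.beq c 6) [⟨49, -1, 2⟩, ⟨0, 1, 1⟩, ⟨1, 2, 1⟩, ⟨2, 2, 1⟩, ⟨3, 1, 1⟩] []) (cond (Nat.blt c 9) (cond (Nat.beq c 7) [⟨31, 1, 1⟩] []) (cond (Nat.beq c 9) [⟨34, -1,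 1⟩] []))))) (cond (Nat.blt c 20) (cond (Nat.blt c 13) (cond (Nat.blt c 11) (cond (Nat.beq c 10) [⟨35, 1, 1⟩] []) (cond (Nat.beq c 11) [⟨38, 1, 1⟩] [])) (cond (Nat.blt c 14) (cond (Nat.beq c 13) [⟨41, -1, 1⟩] []) (cond (Nat.blt c 17) (cond (Nat.beq c 14) [⟨42, 1, 1⟩] []) (cond (Nat.beq c 17) [⟨44, -1, 1⟩] [])))) (cond (Nat.blt c 24) (cond (Nat.blt c 21) (cond (Nat.beq c 20) [⟨45, -1, 1⟩] []) (cond (Nat.beq c 21) [⟨46, 1, 1⟩] [])) (cond (Nat.blt c 29) (cond (Nat.beq c 24) [⟨48, -1, 1⟩] []) (cond (Nat.blt c 30) (cond (Nat.beq c 29) [⟨50, -1, 1⟩] []) (cond (Nat.beq c 30) [⟨51, -1, 1⟩] [])))))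

/-- Compiled columns of `x_46` for type F4. -/
def colsF4_46 (c : ℕ) : List CEnt :=
  cond (Nat.blt c 10) (cond (Nat.blt c 4) (cond (Nat.blt c 2) (cond (Nat.blt c 1) (cond (Nat.beq c 0) [⟨50, 0, 1⟩] []) (cond (Nat.beq c 1) [⟨50, 0, 1⟩] [])) (cond (Nat.blt c 3) (cond (Nat.beq c 2) [⟨50, -1, 1⟩] []) (cond (Nat.beq c 3) [⟨50, 1, 1⟩] []))) (cond (Nat.blt c 6) (cond (Nat.blt c 5) (cond (Nat.beq c 4) [⟨27, 1, 1⟩] []) (cond (Nat.beq c 5) [⟨50, -1, 2⟩, ⟨0, 1, 1⟩, ⟨1, 2, 1⟩, ⟨2, 3, 1⟩, ⟨3, 1, 1⟩] [])) (cond (Nat.blt c 7) (cond (Nat.beq c 6) [⟨29, 1, 1⟩] []) (cond (Nat.blt c 8) (cond (Nat.beq c 7) [⟨32, 1, 1⟩] []) (cond (Nat.beq c 8) [⟨34, -1, 1⟩] []))))) (cond (Nat.blt c 19) (cond (Nat.blt c 12) (cond (Nat.blt c 11) (cond (Nat.beq c 10) [⟨36, 1, 1⟩] []) (cond (Nat.beq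 c 11) [⟨39, 1, 1⟩] [])) (cond (Nat.blt c 14) (cond (Nat.beq c 12) [⟨41, -1, 1⟩] []) (cond (Nat.blt c 16) (cond (Nat.beq c 14) [⟨43, 1, 1⟩] []) (cond (Nat.beq c 16) [⟨44, -1, 1⟩] [])))) (cond (Nat.blt c 23) (cond (Nat.blt c 21) (cond (Nat.beq c 19) [⟨45, -1, 1⟩] []) (cond (Nat.beq c 21) [⟨47, 1, 1⟩] [])) (cond (Nat.blt c 26) (cond (Nat.beq c 23) [⟨48, -1, 1⟩] []) (cond (Nat.blt c 28) (cond (Nat.beq c 26) [⟨49, -1, 1⟩] []) (cond (Nat.beq c 28) [⟨51, -1, 1⟩] [])))))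

/-- Compiled columns of `x_47` for type F4. -/
def colsF4_47 (c : ℕ) : List CEnt :=
  cond (Nat.blt c 9) (cond (Nat.blt c 4) (cond (Nat.blt c 2) (cond (Nat.blt c 1) (cond (Nat.beq c 0) [⟨51, 0, 1⟩] []) (cond (Nat.beq c 1) [⟨51, 0, 1⟩] [])) (cond (Nat.blt c 3) (cond (Nat.beq c 2) [⟨51, 0, 1⟩] []) (cond (Nat.beq c 3) [⟨51, -1, 1⟩] []))) (cond (Nat.blt c 6) (cond (Nat.blt c 5) (cond (Nat.beq c 4) [⟨51, -1, 2⟩, ⟨0, 1, 1⟩, ⟨1, 2, 1⟩, ⟨2, 3, 1⟩, ⟨3, 2, 1⟩] []) (cond (Nat.beq c 5) [⟨28, 1, 1⟩] [])) (cond (Nat.blt c 7) (cond (Nat.beq c 6) [⟨30, 1, 1⟩] []) (cond (Nat.blt c 8) (cond (Nat.beq c 7) [⟨33, 1, 1⟩] []) (cond (Nat.beq c 8) [⟨35, -1, 1⟩] []))))) (cond (Nat.blt c 19) (cond (Nat.blt c 12) (cond (Nat.blt c 11) (cond (Nat.beq c 9) [⟨36, 1, 1⟩] []) (cond (Nat.beq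 c 11) [⟨40, 1, 1⟩] [])) (cond (Nat.blt c 13) (cond (Nat.beq c 12) [⟨42, -1, 1⟩] []) (cond (Nat.blt c 15) (cond (Nat.beq c 13) [⟨43, 1, 1⟩] []) (cond (Nat.beq c 15) [⟨44, -1, 1⟩] [])))) (cond (Nat.blt c 22) (cond (Nat.blt c 20) (cond (Nat.beq c 19) [⟨46, -1, 1⟩] []) (cond (Nat.beq c 20) [⟨47, 1, 1⟩] [])) (cond (Nat.blt c 25) (cond (Nat.beq c 22) [⟨48, -1, 1⟩] []) (cond (Nat.blt c 27) (cond (Nat.beq c 25) [⟨49, -1, 1⟩] []) (cond (Nat.beq c 27) [⟨50, -1, 1⟩] [])))))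

end Cfsg.Agent.Lib.Helper3.ChevM
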