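import Cfsg.Agent.Lib.Helper3.ChevData.F4Rel
import Cfsg.Agent.Lib.Helper3.ChevData.F4Wit
set_option autoImplicit false
set_option maxRecDepth 1000000
set_option Elab.async false

namespace Cfsg.Agent.Lib.Helper3.ChevM

theorem f4Comm_0_0 : allRange 0 250 ((fun k => commOKk cdF4 reflF4 etaF4 witF4 (k / 48) (k % 48))) = true := by decide +kernel
theorem f4Comm_0_250 : allRange 250 500 ((fun k => commOKk cdF4 reflF4 etaF4 witF4 (k / 48) (k % 48))) = true := by decide +kernel
theorem f4Comm_0_500 : allRange 500 750 ((fun k => commOKk cdF4 reflF4 etaF4 witF4 (k / 48) (k % 48))) = true := by decide +kernel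
theorem f4Comm_0_750 : allRange 750 1000 ((fun k => commOKk cdF4 reflF4 etaF4 witF4 (k / 48) (k % 48))) = true := by decide +kernel
theorem f4Comm_0_1000 : allRange 1000 1250 ((fun k => commOKk cdF4 reflF4 etaF4 witF4 (k / 48) (k % 48))) = true := by decide +kernel
theorem f4Comm_0_1250 : allRange 1250 1500 ((fun k => commOKk cdF4 reflF4 etaF4 witF4 (k / 48) (k % 48))) = true := by decide +kernel
theorem f4Comm_0_1500 : allRange 1500 1750 ((fun k => commOKk cdF4 reflF4 etaF4 witF4 (k / 48) (k % 48))) = true := by decide +kernel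
theorem f4Comm_0_1750 : allRange 1750 2000 ((fun k => commOKk cdF4 reflF4 etaF4 witF4 (k / 48) (k % 48))) = true := by decide +kernel
theorem f4Comm_0_2000 : allRange 2000 2250 ((fun k => commOKk cdF4 reflF4 etaF4 witF4 (k / 48) (k % 48))) = true := by decide +kernel
theorem f4Comm_0_2250 : allRange 2250 2304 ((fun k => commOKk cdF4 reflF4 etaF4 witF4 (k / 48) (k % 48))) = true := by decide +kernel

/-- Steps of the derivation of the commutator formula of type F4 (roots 0 to 2303). -/
theorem f4Comm_0 : ∀ r, 0 ≤ r → r < 2304 → ((fun k => commOKk cdF4 reflF4 etaF4 witF4 (k / 48) (k % 48))) r = true := by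
  intro r h1 h2
  by_cases c0 : r < 250
  · exact allRange_spec f4Comm_0_0 r (by omega) c0
  by_cases c1 : r < 500
  · exact allRange_spec f4Comm_0_250 r (by omega) c1
  by_cases c2 : r < 750
  · exact allRange_spec f4Comm_0_500 r (by omega) c2
  by_cases c3 : r < 1000
  · exact allRange_spec f4Comm_0_750 r (by omega) c3
  by_cases c4 : r < 1250
  · exact allRange_spec f4Comm_0_1000 r (by omega) c4
  by_cases c5 : r < 1500
  · exact allRange_spec f4Comm_0_1250 r (by omega) c5
  by_cases c6 : r < 1750
  · exact allRange_spec f4Comm_0_1500 r (by omega) c6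
  by_cases c7 : r < 2000
  · exact allRange_spec f4Comm_0_1750 r (by omega) c7
  by_cases c8 : r < 2250
  · exact allRange_spec f4Comm_0_2000 r (by omega) c8
  exact allRange_spec f4Comm_0_2250 r (by omega) h2

end Cfsg.Agent.Lib.Helper3.ChevM
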