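import Cfsg.Agent.Lib.Helper3.ChevData.F4Comm
set_option autoImplicit false

namespace Cfsg.Agent.Lib.Helper3.ChevM

/-- The commutator data of type F4. -/
def commF4 : CommData cdF4 relF4 where
  wit := witF4
  ok := of_pairRange (m := 48) (n := 48) f4Comm

end Cfsg.Agent.Lib.Helper3.ChevM
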