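import Cfsg.Agent.Lib.Helper3.ChevData.F4Datum
import Cfsg.Agent.Lib.Helper3.ChevData.F4Tabs
import Cfsg.Agent.Lib.Helper3.ChevM7
set_option autoImplicit false
set_option maxRecDepth 1000000
set_option Elab.async false

namespace Cfsg.Agent.Lib.Helper3.ChevM

theorem f4Conj_0_0 : allRange 0 15 ((fun k => cdF4.checkConj (k / 48) (cdF4.cartI pairF4 (k / 48)) (reflF4 (k / 48)) (etaF4 (k / 48)) (k % 48))) = true := by decide +kernel
theorem f4Conj_0_15 : allRange 15 30 ((fun k => cdF4.checkConj (k / 48) (cdF4.cartI pairF4 (k / 48)) (reflF4 (k / 48)) (etaF4 (k / 48)) (k % 48))) = true := by decide +kernel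
theorem f4Conj_0_30 : allRange 30 45 ((fun k => cdF4.checkConj (k / 48) (cdF4.cartI pairF4 (k / 48)) (reflF4 (k / 48)) (etaF4 (k / 48)) (k % 48))) = true := by decide +kernel
theorem f4Conj_0_45 : allRange 45 60 ((fun k => cdF4.checkConj (k / 48) (cdF4.cartI pairF4 (k / 48)) (reflF4 (k / 48)) (etaF4 (k / 48)) (k % 48))) = true := by decide +kernel
theorem f4Conj_0_60 : allRange 60 75 ((fun k => cdF4.checkConj (k / 48) (cdF4.cartI pairF4 (k / 48)) (reflF4 (k / 48)) (etaF4 (k / 48)) (k % 48))) = true := by decide +kernel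
theorem f4Conj_0_75 : allRange 75 90 ((fun k => cdF4.checkConj (k / 48) (cdF4.cartI pairF4 (k / 48)) (reflF4 (k / 48)) (etaF4 (k / 48)) (k % 48))) = true := by decide +kernel
theorem f4Conj_0_90 : allRange 90 105 ((fun k => cdF4.checkConj (k / 48) (cdF4.cartI pairF4 (k / 48)) (reflF4 (k / 48)) (etaF4 (k / 48)) (k % 48))) = true := by decide +kernel
theorem f4Conj_0_105 : allRange 105 120 ((fun k => cdF4.checkConj (k / 48) (cdF4.cartI pairF4 (k / 48)) (reflF4 (k / 48)) (etaF4 (k / 48)) (k % 48))) = true := by decide +kernel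
theorem f4Conj_0_120 : allRange 120 135 ((fun k => cdF4.checkConj (k / 48) (cdF4.cartI pairF4 (k / 48)) (reflF4 (k / 48)) (etaF4 (k / 48)) (k % 48))) = true := by decide +kernel
theorem f4Conj_0_135 : allRange 135 150 ((fun k => cdF4.checkConj (k / 48) (cdF4.cartI pairF4 (k / 48)) (reflF4 (k / 48)) (etaF4 (k / 48)) (k % 48))) = true := by decide +kernel
theorem f4Conj_0_150 : allRange 150 165 ((fun k => cdF4.checkConj (k / 48) (cdF4.cartI pairF4 (k / 48)) (reflF4 (k / 48)) (etaF4 (k / 48)) (k % 48))) = true := by decide +kernel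
theorem f4Conj_0_165 : allRange 165 180 ((fun k => cdF4.checkConj (k / 48) (cdF4.cartI pairF4 (k / 48)) (reflF4 (k / 48)) (etaF4 (k / 48)) (k % 48))) = true := by decide +kernel
theorem f4Conj_0_180 : allRange 180 192 ((fun k => cdF4.checkConj (k / 48) (cdF4.cartI pairF4 (k / 48)) (reflF4 (k / 48)) (etaF4 (k / 48)) (k % 48))) = true := by decide +kernel

/-- Conjugation of root elements by the `n_p` of type F4 (roots 0 to 191). -/
theorem f4Conj_0 : ∀ r, 0 ≤ r → r < 192 → ((fun k => cdF4.checkConj (k / 48) (cdF4.cartI pairF4 (k / 48)) (reflF4 (k / 48)) (etaF4 (k / 48)) (k % 48))) r = true := by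
  intro r h1 h2
  by_cases c0 : r < 15
  · exact allRange_spec f4Conj_0_0 r (by omega) c0
  by_cases c1 : r < 30
  · exact allRange_spec f4Conj_0_15 r (by omega) c1
  by_cases c2 : r < 45
  · exact allRange_spec f4Conj_0_30 r (by omega) c2
  by_cases c3 : r < 60
  · exact allRange_spec f4Conj_0_45 r (by omega) c3
  by_cases c4 : r < 75
  · exact allRange_spec f4Conj_0_60 r (by omega) c4
  by_cases c5 : r < 90
  · exact allRange_spec f4Conj_0_75 r (by omega) c5
  by_cases c6 : r < 105
  · exact allRange_spec f4Conj_0_90 r (by omega) c6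
  by_cases c7 : r < 120
  · exact allRange_spec f4Conj_0_105 r (by omega) c7
  by_cases c8 : r < 135
  · exact allRange_spec f4Conj_0_120 r (by omega) c8
  by_cases c9 : r < 150
  · exact allRange_spec f4Conj_0_135 r (by omega) c9
  by_cases c10 : r < 165
  · exact allRange_spec f4Conj_0_150 r (by omega) c10
  by_cases c11 : r < 180
  · exact allRange_spec f4Conj_0_165 r (by omega) c11
  exact allRange_spec f4Conj_0_180 r (by omega) h2

end Cfsg.Agent.Lib.Helper3.ChevM
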