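import Cfsg.Agent.Lib.Helper3.Cox6
import Cfsg.Agent.Lib.Helper3.ChevData.F4Cox
set_option autoImplicit false
set_option maxRecDepth 1000000
open Cfsg Cfsg.Lie

namespace Cfsg.Agent.Lib.Helper3.ChevM

theorem f4CoxT1 : ∀ i < 4, ∀ s < 48, reflNegCheck cdF4.D relF4.refl i s = true := by
  decide +kernel

theorem f4CoxT2_0 : ((List.range 48).all fun r => (List.range 48).all fun s =>
    pairInvCheck relF4.pair relF4.refl 0 r s) = true := by
  decide +kernel

theorem f4CoxT2_1 : ((List.range 48).all fun r => (List.range 48).all fun s =>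
    pairInvCheck relF4.pair relF4.refl 1 r s) = true := by
  decide +kernel

theorem f4CoxT2_2 : ((List.range 48).all fun r => (List.range 48).all fun s =>
    pairInvCheck relF4.pair relF4.refl 2 r s) = true := by
  decide +kernel

theorem f4CoxT2_3 : ((List.range 48).all fun r => (List.range 48).all fun s =>
    pairInvCheck relF4.pair relF4.refl 3 r s) = true := by
  decide +kernel

theorem f4CoxT2 : ∀ i < 4, ∀ r < 48, ∀ s < 48, pairInvCheck relF4.pair relF4.refl i r s = true := by
  intro i hi
  interval_cases i
  · exact all_range2 _ _ f4CoxT2_0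
  · exact all_range2 _ _ f4CoxT2_1
  · exact all_range2 _ _ f4CoxT2_2
  · exact all_range2 _ _ f4CoxT2_3

theorem f4CoxT3 : ∀ i < 4, ∀ j < 4, pairNegCheck cdF4.D relF4.pair i j = true := by
  decide +kernel

theorem f4CoxT4 : connCheck cdF4.D relF4.pair = true := by
  decide +kernel

theorem f4CoxNegW : negWordCheck cdF4.D relF4.refl (List.replicate 6 (List.range 4)).flatten = true := by
  decide +kernel

end Cfsg.Agent.Lib.Helper3.ChevM
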