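import Cfsg.Agent.Lib.Helper3.Cox4
import Cfsg.Agent.Lib.Helper3.ChevData.F4Cox
set_option autoImplicit false
set_option maxRecDepth 1000000
open Cfsg Cfsg.Lie

namespace Cfsg.Agent.Lib.Helper3.ChevM

/-- Reflections of type F4 (as a conjugating word and a fundamental reflection) generating the Weyl group together with the Coxeter element. -/
def tsgF4 : List (List ℕ × ℕ) := [([0], 0), ([2], 2)]

/-- The words of the reflections `tsgF4`. -/
def tswF4 : List (List ℕ) := tsgF4.map fun p => p.1 ++ [p.2] ++ p.1.reverse

/-- Words in the Coxeter element, its inverse and the reflections `tsgF4` for the fundamental reflections of type F4. -/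
def progF4 (i : ℕ) : List ℕ :=
  (#[[2], [0, 2, 1], [3], [0, 3, 1]] : Array (List ℕ)).getD i []

theorem f4GenW : genWeylCheck cdF4.D relF4.refl (List.range 4) tswF4 progF4 = true := by
  decide +kernel

theorem f4GenWne : reflW relF4.refl (tswF4.getD 0 []) 1 ≠ reflW relF4.refl (tswF4.getD 1 []) 1 := by
  decide +kernel

end Cfsg.Agent.Lib.Helper3.ChevM
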