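import Cfsg.Prelude.Def_ChevF4
import Cfsg.Agent.Lib.Helper3.ChevData.F4Hd2
import Cfsg.Agent.Lib.Helper3.ChevL2
set_option autoImplicit false
set_option maxRecDepth 1000000
set_option Elab.async false

namespace Cfsg.Agent.Lib.Helper3.ChevM

theorem f4Cv_0_0 : allRange 0 48 (fun k => commVecCheck Cfsg.Lie.chevF4 vecF4 (k / 48) (k % 48)) = true := by decide +kernel
theorem f4Cv_0_48 : allRange 48 96 (fun k => commVecCheck Cfsg.Lie.chevF4 vecF4 (k / 48) (k % 48)) = true := by decide +kernel
theorem f4Cv_0_96 : allRange 96 144 (fun k => commVecCheck Cfsg.Lie.chevF4 vecF4 (k / 48) (k % 48)) = true := by decide +kernel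
theorem f4Cv_0_144 : allRange 144 192 (fun k => commVecCheck Cfsg.Lie.chevF4 vecF4 (k / 48) (k % 48)) = true := by decide +kernel
theorem f4Cv_0_192 : allRange 192 240 (fun k => commVecCheck Cfsg.Lie.chevF4 vecF4 (k / 48) (k % 48)) = true := by decide +kernel
theorem f4Cv_0_240 : allRange 240 288 (fun k => commVecCheck Cfsg.Lie.chevF4 vecF4 (k / 48) (k % 48)) = true := by decide +kernel
theorem f4Cv_0_288 : allRange 288 336 (fun k => commVecCheck Cfsg.Lie.chevF4 vecF4 (k / 48) (k % 48)) = true := by decide +kernel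
theorem f4Cv_0_336 : allRange 336 384 (fun k => commVecCheck Cfsg.Lie.chevF4 vecF4 (k / 48) (k % 48)) = true := by decide +kernel
theorem f4Cv_0_384 : allRange 384 432 (fun k => commVecCheck Cfsg.Lie.chevF4 vecF4 (k / 48) (k % 48)) = true := by decide +kernel
theorem f4Cv_0_432 : allRange 432 480 (fun k => commVecCheck Cfsg.Lie.chevF4 vecF4 (k / 48) (k % 48)) = true := by decide +kernel
theorem f4Cv_0_480 : allRange 480 528 (fun k => commVecCheck Cfsg.Lie.chevF4 vecF4 (k / 48) (k % 48)) = true := by decide +kernel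
theorem f4Cv_0_528 : allRange 528 576 (fun k => commVecCheck Cfsg.Lie.chevF4 vecF4 (k / 48) (k % 48)) = true := by decide +kernel

/-- The roots of the commutator formula of type F4 are the expected combinations (roots 0 to 575). -/
theorem f4Cv_0 : ∀ r, 0 ≤ r → r < 576 → (fun k => commVecCheck Cfsg.Lie.chevF4 vecF4 (k / 48) (k % 48)) r = true := by
  intro r h1 h2
  by_cases c0 : r < 48
  · exact allRange_spec f4Cv_0_0 r (by omega) c0
  by_cases c1 : r < 96
  · exact allRange_spec f4Cv_0_48 r (by omega) c1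
  by_cases c2 : r < 144
  · exact allRange_spec f4Cv_0_96 r (by omega) c2
  by_cases c3 : r < 192
  · exact allRange_spec f4Cv_0_144 r (by omega) c3
  by_cases c4 : r < 240
  · exact allRange_spec f4Cv_0_192 r (by omega) c4
  by_cases c5 : r < 288
  · exact allRange_spec f4Cv_0_240 r (by omega) c5
  by_cases c6 : r < 336
  · exact allRange_spec f4Cv_0_288 r (by omega) c6
  by_cases c7 : r < 384
  · exact allRange_spec f4Cv_0_336 r (by omega) c7
  by_cases c8 : r < 432
  · exact allRange_spec f4Cv_0_384 r (by omega) c8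
  by_cases c9 : r < 480
  · exact allRange_spec f4Cv_0_432 r (by omega) c9
  by_cases c10 : r < 528
  · exact allRange_spec f4Cv_0_480 r (by omega) c10
  exact allRange_spec f4Cv_0_528 r (by omega) h2

end Cfsg.Agent.Lib.Helper3.ChevM
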