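import Cfsg.Agent.Lib.Helper3.ChevData.F4Datum
import Cfsg.Agent.Lib.Helper3.ChevData.F4Tabs
import Cfsg.Agent.Lib.Helper3.ChevM7
set_option autoImplicit false
set_option maxRecDepth 1000000
set_option Elab.async false

namespace Cfsg.Agent.Lib.Helper3.ChevM

theorem f4Dx_0_0 : allRange 0 21 ((fun k => cdF4.checkDX (cdF4.expo pairF4 (Cfsg.Lie.chevF4.simple (k / 48))) (pairF4 (Cfsg.Lie.chevF4.simple (k / 48)) (k % 48)) (k % 48))) = true := by decide +kernel
theorem f4Dx_0_21 : allRange 21 42 ((fun k => cdF4.checkDX (cdF4.expo pairF4 (Cfsg.Lie.chevF4.simple (k / 48))) (pairF4 (Cfsg.Lie.chevF4.simple (k / 48)) (k % 48)) (k % 48))) = true := by decide +kernel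
theorem f4Dx_0_42 : allRange 42 63 ((fun k => cdF4.checkDX (cdF4.expo pairF4 (Cfsg.Lie.chevF4.simple (k / 48))) (pairF4 (Cfsg.Lie.chevF4.simple (k / 48)) (k % 48)) (k % 48))) = true := by decide +kernel
theorem f4Dx_0_63 : allRange 63 84 ((fun k => cdF4.checkDX (cdF4.expo pairF4 (Cfsg.Lie.chevF4.simple (k / 48))) (pairF4 (Cfsg.Lie.chevF4.simple (k / 48)) (k % 48)) (k % 48))) = true := by decide +kernel
theorem f4Dx_0_84 : allRange 84 105 ((fun k => cdF4.checkDX (cdF4.expo pairF4 (Cfsg.Lie.chevF4.simple (k / 48))) (pairF4 (Cfsg.Lie.chevF4.simple (k / 48)) (k % 48)) (k % 48))) = true := by decide +kernel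
theorem f4Dx_0_105 : allRange 105 126 ((fun k => cdF4.checkDX (cdF4.expo pairF4 (Cfsg.Lie.chevF4.simple (k / 48))) (pairF4 (Cfsg.Lie.chevF4.simple (k / 48)) (k % 48)) (k % 48))) = true := by decide +kernel
theorem f4Dx_0_126 : allRange 126 147 ((fun k => cdF4.checkDX (cdF4.expo pairF4 (Cfsg.Lie.chevF4.simple (k / 48))) (pairF4 (Cfsg.Lie.chevF4.simple (k / 48)) (k % 48)) (k % 48))) = true := by decide +kernel
theorem f4Dx_0_147 : allRange 147 168 ((fun k => cdF4.checkDX (cdF4.expo pairF4 (Cfsg.Lie.chevF4.simple (k / 48))) (pairF4 (Cfsg.Lie.chevF4.simple (k / 48)) (k % 48)) (k % 48))) = true := by decide +kernel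
theorem f4Dx_0_168 : allRange 168 189 ((fun k => cdF4.checkDX (cdF4.expo pairF4 (Cfsg.Lie.chevF4.simple (k / 48))) (pairF4 (Cfsg.Lie.chevF4.simple (k / 48)) (k % 48)) (k % 48))) = true := by decide +kernel
theorem f4Dx_0_189 : allRange 189 192 ((fun k => cdF4.checkDX (cdF4.expo pairF4 (Cfsg.Lie.chevF4.simple (k / 48))) (pairF4 (Cfsg.Lie.chevF4.simple (k / 48)) (k % 48)) (k % 48))) = true := by decide +kernel

/-- Conjugation of root elements by the `h_p(c)` of type F4 (roots 0 to 191). -/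
theorem f4Dx_0 : ∀ r, 0 ≤ r → r < 192 → ((fun k => cdF4.checkDX (cdF4.expo pairF4 (Cfsg.Lie.chevF4.simple (k / 48))) (pairF4 (Cfsg.Lie.chevF4.simple (k / 48)) (k % 48)) (k % 48))) r = true := by
  intro r h1 h2
  by_cases c0 : r < 21
  · exact allRange_spec f4Dx_0_0 r (by omega) c0
  by_cases c1 : r < 42
  · exact allRange_spec f4Dx_0_21 r (by omega) c1
  by_cases c2 : r < 63
  · exact allRange_spec f4Dx_0_42 r (by omega) c2
  by_cases c3 : r < 84
  · exact allRange_spec f4Dx_0_63 r (by omega) c3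
  by_cases c4 : r < 105
  · exact allRange_spec f4Dx_0_84 r (by omega) c4
  by_cases c5 : r < 126
  · exact allRange_spec f4Dx_0_105 r (by omega) c5
  by_cases c6 : r < 147
  · exact allRange_spec f4Dx_0_126 r (by omega) c6
  by_cases c7 : r < 168
  · exact allRange_spec f4Dx_0_147 r (by omega) c7
  by_cases c8 : r < 189
  · exact allRange_spec f4Dx_0_168 r (by omega) c8
  exact allRange_spec f4Dx_0_189 r (by omega) h2

end Cfsg.Agent.Lib.Helper3.ChevM
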