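import Cfsg.Prelude.Def_ChevAutomorphisms
import Cfsg.Agent.Lib.Helper3.ChevGen1
import Cfsg.Agent.Lib.Helper3.ChevData.F4Mono
import Cfsg.Agent.Lib.Helper3.ChevData.F4Hdec
import Cfsg.Agent.Lib.Helper3.ChevData.F4CommData
set_option autoImplicit false
set_option maxRecDepth 1000000
open Cfsg Cfsg.Lie

namespace Cfsg.Agent.Lib.Helper3.ChevM

/-- For each root of type F4 conjugate to the first fundamental root, a word of fundamental reflections mapping that root to it. -/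
def wt0F4 (r : ℕ) : List ℕ :=
  (#[[], [], [], [0, 1, 2, 3, 1, 2, 1, 0], [], [], [], [1, 2, 3, 1, 2, 1, 0], [2, 3, 1, 2, 1, 0], [3, 1, 2, 1, 0], [1, 2, 1, 0], [3, 2, 1, 0], [2, 1, 0], [1, 0], [0], [], [], [], [3, 2, 0, 1, 0], [2, 0, 1, 0], [0, 1, 0], [], [], [], [], [], [], [0, 1], [2, 0, 1], [3, 2, 0, 1], [], [], [], [], [1], [2, 1], [3, 2, 1], [1, 2, 1], [3, 1, 2, 1], [2, 3, 1, 2, 1], [1, 2, 3, 1, 2, 1], [], [], [], [0, 1, 2, 3, 1, 2, 1], [], [], []] : Array (List ℕ)).getD r []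

/-- For each remaining root of type F4, two roots whose commutator it is, with the constant. -/
def abF4 (r : ℕ) : ℕ × ℕ × ℤ :=
  (#[(11, 7, -2), (12, 7, -2), (13, 7, -2), (0, 0, 0), (14, 8, -2), (14, 9, -2), (14, 10, -2), (0, 0, 0), (0, 0, 0), (0, 0, 0), (0, 0, 0), (0, 0, 0), (0, 0, 0), (0, 0, 0), (0, 0, 0), (33, 8, 2), (33, 9, 2), (33, 10, 2), (0, 0, 0), (0, 0, 0), (0, 0, 0), (34, 11, 2), (34, 12, 2), (35, 11, 2), (12, 36, -2), (13, 35, -2), (13, 36, -2), (0, 0, 0), (0, 0, 0), (0, 0, 0), (14, 37, -2), (14, 38, -2), (14, 39, -2), (0, 0, 0), (0, 0, 0), (0, 0, 0), (0, 0, 0), (0, 0, 0), (0, 0, 0), (0, 0, 0), (0, 0, 0), (33, 37, 2), (33, 38, 2), (33, 39, 2), (0, 0, 0), (34, 40, 2), (35, 40, 2), (36, 40, 2)] : Array (ℕ × ℕ × ℤ)).getD r (0, 0, 0)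

/-- For each short fundamental root of type F4, a word mapping it to the first fundamental root. -/
def wsF4 (i : ℕ) : List ℕ :=
  (#[[], [1, 0], [], []] : Array (List ℕ)).getD i []

theorem f4Gen2 : ∀ r < 48, gen2Check cdF4.D relF4.refl 33 2 wt0F4 abF4 r = true := by
  decide +kernel

theorem f4GenWs : ∀ i < 4, cdF4.D.isLong (cdF4.D.simple i) = false →
    ((wsF4 i).all fun j => decide (j < 4)) = true ∧ reflW relF4.refl (wsF4 i) (cdF4.D.simple i) = 33 := by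
  decide +kernel

end Cfsg.Agent.Lib.Helper3.ChevM
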