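import Cfsg.Prelude.Def_ChevAutomorphisms
import Cfsg.Agent.Lib.Helper3.ChevGen1
import Cfsg.Agent.Lib.Helper3.ChevData.F4Mono
import Cfsg.Agent.Lib.Helper3.ChevData.F4Hdec
set_option autoImplicit false
set_option maxRecDepth 1000000
open Cfsg Cfsg.Lie

namespace Cfsg.Agent.Lib.Helper3.ChevM

/-- For each root of type F4, a word of fundamental reflections and one of two fixed fundamental roots it maps to the root. -/
def wt17F4 (r : ℕ) : List ℕ × ℕ :=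
  (#[([3, 2, 1, 2, 3, 0, 1, 2], 25), ([2, 1, 2, 3, 0, 1, 2], 25), ([1, 2, 3, 0, 1, 2], 25), ([0, 1, 2, 3, 1, 2, 0, 1], 27), ([2, 3, 0, 1, 2], 25), ([3, 0, 1, 2], 25), ([0, 1, 2], 25), ([1, 2, 3, 1, 2, 0, 1], 27), ([2, 3, 1, 2, 0, 1], 27), ([3, 1, 2, 0, 1], 27), ([1, 2, 0, 1], 27), ([3, 2, 0, 1], 27), ([2, 0, 1], 27), ([0, 1], 27), ([0, 1, 0], 27), ([2, 3, 1, 2], 25), ([3, 1, 2], 25), ([1, 2], 25), ([3, 2, 1], 27), ([2, 1], 27), ([1], 27), ([3, 2], 25), ([2], 25), ([2, 3, 2], 25), ([2, 3], 25), ([], 25), ([3], 25), ([], 27), ([2], 27), ([3, 2], 27), ([1], 25), ([3, 1], 25), ([2, 3, 1], 25), ([1, 0], 27), ([0], 27), ([2, 0], 27), ([3, 2, 0], 27), ([1, 2, 0], 27), ([3, 1, 2, 0], 27), ([2, 3, 1, 2, 0], 27), ([1, 2, 3, 1, 2, 0], 27), ([0, 1], 25), ([3, 0, 1], 25), ([2, 3, 0, 1], 25), ([0, 1, 2, 3, 1, 2, 0], 27), ([1, 2, 3, 0, 1], 25), ([2, 1, 2, 3, 0, 1], 25), ([3, 2, 1, 2, 3, 0, 1],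 25)] : Array (List ℕ × ℕ)).getD r ([], 0)

theorem f4Gen17 : ∀ r < 48, genCheck cdF4.D relF4.refl [27, 25] wt17F4 r = true := by
  decide +kernel

theorem f4Gen17ij : ∀ i < 4, ∀ j < 4, cdF4.D.isLong (cdF4.D.simple i) = false →
    cdF4.D.isLong (cdF4.D.simple j) = true → cdF4.D.bonds i j ≠ 0 →
    cdF4.D.simple i = 27 ∧ cdF4.D.simple j = 25 := by
  have key : ∀ i < 4, ∀ j < 4, (cdF4.D.isLong (cdF4.D.simple i) || !cdF4.D.isLong (cdF4.D.simple j) ||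
      decide (cdF4.D.bonds i j = 0) || (decide (cdF4.D.simple i = 27) && decide (cdF4.D.simple j = 25))) = true := by
    decide +kernel
  intro i hi j hj h1 h2 h3
  have := key i hi j hj
  simp only [h1, h2, h3, Bool.false_or, Bool.not_true, decide_false, Bool.and_eq_true, decide_eq_true_eq] at this
  exact this

end Cfsg.Agent.Lib.Helper3.ChevM
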