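import Cfsg.Agent.Lib.Helper3.ChevData.F4Datum
import Cfsg.Agent.Lib.Helper3.ChevB3
set_option autoImplicit false
set_option maxRecDepth 1000000
set_option Elab.async false

namespace Cfsg.Agent.Lib.Helper3.ChevM

theorem f4Low_0_0 : allRange 0 4 ((fun i => lowCheck cdF4 i)) = true := by decide +kernel

/-- An entry below the diagonal of `x_{-p}(u)`, `p` fundamental, of type F4 (roots 0 to 3). -/
theorem f4Low_0 : ∀ r, 0 ≤ r → r < 4 → ((fun i => lowCheck cdF4 i)) r = true := by
  intro r h1 h2
  exact allRange_spec f4Low_0_0 r (by omega) h2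

end Cfsg.Agent.Lib.Helper3.ChevM
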