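import Cfsg.Agent.Lib.Helper3.ChevData.F4Datum
import Cfsg.Agent.Lib.Helper3.ChevG1
set_option autoImplicit false
set_option maxRecDepth 1000000
set_option Elab.async false

namespace Cfsg.Agent.Lib.Helper3.ChevM

theorem f4NegConj_0_0 : allRange 0 7 ((fun r => cdF4.checkNegConj r)) = true := by decide +kernel
theorem f4NegConj_0_7 : allRange 7 14 ((fun r => cdF4.checkNegConj r)) = true := by decide +kernel
theorem f4NegConj_0_14 : allRange 14 21 ((fun r => cdF4.checkNegConj r)) = true := by decide +kernel
theorem f4NegConj_0_21 : allRange 21 28 ((fun r => cdF4.checkNegConj r)) = true := by decide +kernel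
theorem f4NegConj_0_28 : allRange 28 35 ((fun r => cdF4.checkNegConj r)) = true := by decide +kernel
theorem f4NegConj_0_35 : allRange 35 42 ((fun r => cdF4.checkNegConj r)) = true := by decide +kernel
theorem f4NegConj_0_42 : allRange 42 48 ((fun r => cdF4.checkNegConj r)) = true := by decide +kernel

/-- Conjugation of `x_r(t)` by `n_r` of type F4 (roots 0 to 47). -/
theorem f4NegConj_0 : ∀ r, 0 ≤ r → r < 48 → ((fun r => cdF4.checkNegConj r)) r = true := by
  intro r h1 h2
  by_cases c0 : r < 7
  · exact allRange_spec f4NegConj_0_0 r (by omega) c0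
  by_cases c1 : r < 14
  · exact allRange_spec f4NegConj_0_7 r (by omega) c1
  by_cases c2 : r < 21
  · exact allRange_spec f4NegConj_0_14 r (by omega) c2
  by_cases c3 : r < 28
  · exact allRange_spec f4NegConj_0_21 r (by omega) c3
  by_cases c4 : r < 35
  · exact allRange_spec f4NegConj_0_28 r (by omega) c4
  by_cases c5 : r < 42
  · exact allRange_spec f4NegConj_0_35 r (by omega) c5
  exact allRange_spec f4NegConj_0_42 r (by omega) h2

end Cfsg.Agent.Lib.Helper3.ChevM
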