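import Cfsg.Agent.Lib.Helper3.ChevData.F4OkA
set_option autoImplicit false

namespace Cfsg.Agent.Lib.Helper3.ChevM

/-- The compiled columns of type F4 agree with the tables. -/
theorem f4Ok : ∀ r < 48, (colsCheck Cfsg.Lie.chevF4 colsF4) r = true := by
  intro r hr
  exact f4Ok_0 r (by omega) hr

end Cfsg.Agent.Lib.Helper3.ChevM
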