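import Cfsg.Agent.Lib.Helper3.ChevData.F4Or0A
set_option autoImplicit false

namespace Cfsg.Agent.Lib.Helper3.ChevM

/-- The representatives of step 0 of type F4 keep the subsystem positive. -/
theorem f4Or0 : ∀ r < 2, ((fun a => repCheck Cfsg.Lie.chevF4 reflF4 0 dlF40 a)) r = true := by
  intro r hr
  exact f4Or0_0 r (by omega) hr

end Cfsg.Agent.Lib.Helper3.ChevM
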