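import Cfsg.Prelude.Def_ChevF4
set_option autoImplicit false
set_option maxRecDepth 1000000

namespace Cfsg.Agent.Lib.Helper3.ChevM

/-- Coset representatives of the first 0 reflections in the group of the first 1, type F4. -/
def dlF40 : List (List ℕ) := [[], [0]]

/-- The left multiplication table of these representatives. -/
def nxtF40 (a i : ℕ) : ℕ := ((#[#[1], #[0]] : Array (Array ℕ)).getD a #[]).getD i 0

/-- Coset representatives of the first 1 reflections in the group of the first 2, type F4. -/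
def dlF41 : List (List ℕ) := [[], [1], [0, 1]]

/-- The left multiplication table of these representatives. -/
def nxtF41 (a i : ℕ) : ℕ := ((#[#[3, 1], #[2, 0], #[1, 3]] : Array (Array ℕ)).getD a #[]).getD i 0

/-- Coset representatives of the first 2 reflections in the group of the first 3, type F4. -/
def dlF42 : List (List ℕ) := [[], [2], [1, 2], [0, 1, 2], [2, 1, 2], [2, 0, 1, 2], [1, 2, 0, 1, 2], [2, 1, 2, 0, 1, 2]]

/-- The left multiplication table of these representatives. -/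
def nxtF42 (a i : ℕ) : ℕ := ((#[#[8, 9, 1], #[8, 2, 0], #[3, 1, 4], #[2, 8, 5], #[5, 9, 2], #[4, 6, 3], #[9, 5, 7], #[9, 8, 6]] : Array (Array ℕ)).getD a #[]).getD i 0

/-- Coset representatives of the first 3 reflections in the group of the first 4, type F4. -/
def dlF43 : List (List ℕ) := [[], [3], [2, 3], [1, 2, 3], [0, 1, 2, 3], [2, 1, 2, 3], [2, 0, 1, 2, 3], [3, 2, 1, 2, 3], [1, 2, 0, 1, 2, 3], [3, 2, 0, 1, 2, 3], [2, 1, 2, 0, 1, 2, 3], [3, 1, 2, 0, 1, 2, 3], [3, 2, 1, 2, 0, 1, 2, 3], [2, 3, 1, 2, 0, 1, 2, 3], [2, 3, 2, 1, 2, 0, 1, 2, 3], [1, 2, 3, 1, 2, 0, 1, 2, 3], [1, 2, 3, 2, 1, 2, 0, 1, 2, 3], [0, 1, 2, 3, 1, 2, 0, 1, 2, 3], [0, 1, 2, 3, 2, 1, 2, 0, 1, 2, 3], [2, 1, 2, 3, 2, 1, 2, 0, 1, 2, 3], [2, 0, 1, 2, 3, 2, 1, 2, 0, 1, 2, 3], [1, 2, 0, 1, 2, 3, 2, 1, 2, 0, 1, 2, 3], [2, 1, 2, 0, 1, 2, 3, 2, 1, 2, 0, 1, 2, 3], [3, 2, 1, 2, 0, 1, 2, 3, 2, 1, 2, 0, 1, 2, 3]]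

/-- The left multiplication table of these representatives. -/
def nxtF43 (a i : ℕ) : ℕ := ((#[#[24, 25, 26, 1], #[24, 25, 2, 0], #[24, 3, 1, 26], #[4, 2, 5, 26], #[3, 24, 6, 26], #[6, 25, 3, 7], #[5, 8, 4, 9], #[9, 25, 26, 5], #[25, 6, 10, 11], #[7, 11, 26, 6], #[25, 24, 8, 12], #[25, 9, 13, 8], #[25, 24, 14, 10], #[25, 15, 11, 14], #[25, 16, 12, 13], #[17, 13, 26, 16], #[18, 14, 19, 15], #[15, 25, 26, 18], #[16, 25, 20, 17], #[20, 24, 16, 26], #[19, 21, 18, 26], #[24, 20, 22, 26], #[24, 25, 21, 23], #[24, 25, 26, 22]] : Array (Array ℕ)).getD a #[]).getD i 0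

end Cfsg.Agent.Lib.Helper3.ChevM
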