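import Cfsg.Prelude.Def_ChevF4
import Cfsg.Agent.Lib.Helper3.ChevData.F4Tabs
import Cfsg.Agent.Lib.Helper3.ChevData.F4OrdTab
import Cfsg.Agent.Lib.Helper3.ChevO2
set_option autoImplicit false
set_option maxRecDepth 1000000
set_option Elab.async false

namespace Cfsg.Agent.Lib.Helper3.ChevM

theorem f4Ot3_0_0 : allRange 0 96 ((fun p => stepCheck Cfsg.Lie.chevF4 reflF4 3 dlF43 nxtF43 (p / 4) (p % 4))) = true := by decide +kernel

/-- Left multiplication of the representatives of step 3 of type F4 (roots 0 to 95). -/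
theorem f4Ot3_0 : ∀ r, 0 ≤ r → r < 96 → ((fun p => stepCheck Cfsg.Lie.chevF4 reflF4 3 dlF43 nxtF43 (p / 4) (p % 4))) r = true := by
  intro r h1 h2
  exact allRange_spec f4Ot3_0_0 r (by omega) h2

end Cfsg.Agent.Lib.Helper3.ChevM
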