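import Cfsg.Prelude.Def_ChevF4
set_option autoImplicit false
set_option maxRecDepth 1000000

namespace Cfsg.Agent.Lib.Helper3.ChevM

/-- Kind of certificate for `x_r(t)` being a commutator, type F4. -/
def ptagF4 (_ : ℕ) : ℕ := 0

/-- First root of the pair. -/
def psF4 (r : ℕ) : ℕ := (#[1, 0, 0, 7, 0, 0, 1, 3, 3, 3, 3, 3, 3, 3, 3, 0, 0, 1, 7, 7, 7, 0, 1, 0, 1, 2, 2, 8, 9, 10, 4, 4, 5, 7, 8, 9, 10, 11, 12, 13, 14, 15, 15, 16, 33, 21, 23, 24] : Array ℕ).getD r 0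

/-- Second root of the pair. -/
def psqF4 (r : ℕ) : ℕ := (#[23, 24, 26, 14, 31, 32, 32, 33, 34, 35, 36, 37, 38, 39, 40, 42, 43, 43, 37, 38, 39, 45, 45, 46, 47, 46, 47, 40, 40, 40, 46, 47, 47, 44, 44, 44, 44, 44, 44, 44, 44, 46, 47, 47, 40, 47, 47, 46] : Array ℕ).getD r 0

/-- Bezout coefficients. -/
def pmF4 (_ _ : ℕ) : ℤ := 0

end Cfsg.Agent.Lib.Helper3.ChevM
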