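import Cfsg.Prelude.Def_ChevF4
import Cfsg.Agent.Lib.Helper3.ChevData.F4Hd2
import Cfsg.Agent.Lib.Helper3.ChevData.F4Tabs
import Cfsg.Agent.Lib.Helper3.ChevL3
set_option autoImplicit false
set_option maxRecDepth 1000000
set_option Elab.async false

namespace Cfsg.Agent.Lib.Helper3.ChevM

theorem f4Rv_2_96 : allRange 96 108 (fun k => reflVecCheck Cfsg.Lie.chevF4 reflF4 vecF4 (k / 48) (k % 48)) = true := by decide +kernel
theorem f4Rv_2_108 : allRange 108 120 (fun k => reflVecCheck Cfsg.Lie.chevF4 reflF4 vecF4 (k / 48) (k % 48)) = true := by decide +kernel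
theorem f4Rv_2_120 : allRange 120 132 (fun k => reflVecCheck Cfsg.Lie.chevF4 reflF4 vecF4 (k / 48) (k % 48)) = true := by decide +kernel
theorem f4Rv_2_132 : allRange 132 144 (fun k => reflVecCheck Cfsg.Lie.chevF4 reflF4 vecF4 (k / 48) (k % 48)) = true := by decide +kernel

/-- The fundamental reflections of type F4 change one coefficient (roots 96 to 143). -/
theorem f4Rv_2 : ∀ r, 96 ≤ r → r < 144 → (fun k => reflVecCheck Cfsg.Lie.chevF4 reflF4 vecF4 (k / 48) (k % 48)) r = true := by
  intro r h1 h2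
  by_cases c0 : r < 108
  · exact allRange_spec f4Rv_2_96 r (by omega) c0
  by_cases c1 : r < 120
  · exact allRange_spec f4Rv_2_108 r (by omega) c1
  by_cases c2 : r < 132
  · exact allRange_spec f4Rv_2_120 r (by omega) c2
  exact allRange_spec f4Rv_2_132 r (by omega) h2

end Cfsg.Agent.Lib.Helper3.ChevM
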