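import Cfsg.Prelude.Def_ChevF4
import Cfsg.Agent.Lib.Helper3.ChevData.F4Hd2
import Cfsg.Agent.Lib.Helper3.ChevData.F4Tabs
import Cfsg.Agent.Lib.Helper3.ChevL3
set_option autoImplicit false
set_option maxRecDepth 1000000
set_option Elab.async false

namespace Cfsg.Agent.Lib.Helper3.ChevM

theorem f4Rv_3_144 : allRange 144 156 (fun k => reflVecCheck Cfsg.Lie.chevF4 reflF4 vecF4 (k / 48) (k % 48)) = true := by decide +kernel
theorem f4Rv_3_156 : allRange 156 168 (fun k => reflVecCheck Cfsg.Lie.chevF4 reflF4 vecF4 (k / 48) (k % 48)) = true := by decide +kernel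
theorem f4Rv_3_168 : allRange 168 180 (fun k => reflVecCheck Cfsg.Lie.chevF4 reflF4 vecF4 (k / 48) (k % 48)) = true := by decide +kernel
theorem f4Rv_3_180 : allRange 180 192 (fun k => reflVecCheck Cfsg.Lie.chevF4 reflF4 vecF4 (k / 48) (k % 48)) = true := by decide +kernel

/-- The fundamental reflections of type F4 change one coefficient (roots 144 to 191). -/
theorem f4Rv_3 : ∀ r, 144 ≤ r → r < 192 → (fun k => reflVecCheck Cfsg.Lie.chevF4 reflF4 vecF4 (k / 48) (k % 48)) r = true := by
  intro r h1 h2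
  by_cases c0 : r < 156
  · exact allRange_spec f4Rv_3_144 r (by omega) c0
  by_cases c1 : r < 168
  · exact allRange_spec f4Rv_3_156 r (by omega) c1
  by_cases c2 : r < 180
  · exact allRange_spec f4Rv_3_168 r (by omega) c2
  exact allRange_spec f4Rv_3_180 r (by omega) h2

end Cfsg.Agent.Lib.Helper3.ChevM
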