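import Cfsg.Agent.Lib.Helper3.ChevData.F4RvA
import Cfsg.Agent.Lib.Helper3.ChevData.F4RvB
import Cfsg.Agent.Lib.Helper3.ChevData.F4RvC
import Cfsg.Agent.Lib.Helper3.ChevData.F4RvD
set_option autoImplicit false

namespace Cfsg.Agent.Lib.Helper3.ChevM

/-- The fundamental reflections of type F4 change one coefficient. -/
theorem f4Rv : ∀ r < 192, (fun k => reflVecCheck Cfsg.Lie.chevF4 reflF4 vecF4 (k / 48) (k % 48)) r = true := by
  intro r hr
  by_cases h0 : r < 48
  · exact f4Rv_0 r (by omega) h0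
  by_cases h1 : r < 96
  · exact f4Rv_1 r (by omega) h1
  by_cases h2 : r < 144
  · exact f4Rv_2 r (by omega) h2
  exact f4Rv_3 r (by omega) hr

end Cfsg.Agent.Lib.Helper3.ChevM
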