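import Cfsg.Agent.Lib.Helper3.ChevData.F4UHyp
import Cfsg.Agent.Lib.Helper3.ChevData.F4Bn
import Cfsg.Agent.Lib.Helper3.ChevData.F4Sign
import Cfsg.Agent.Lib.Helper3.ChevData.F4Theta
import Cfsg.Agent.Lib.Helper3.ChevData.F4Cneg
import Cfsg.Agent.Lib.Helper3.StB12
set_option autoImplicit false
set_option maxRecDepth 1000000

namespace Cfsg.Agent.Lib.Helper3.ChevM
open Cfsg.Agent.Lib.Helper3.StB

/-- Pairs of roots whose commutator formula contains the simple roots of type F4. -/
def abF4 (i : ℕ) : ℕ × ℕ := (#[(7, 44), (4, 44), (2, 46), (1, 47)] : Array (ℕ × ℕ)).getD i (0, 0)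

theorem f4Self : allRange 0 4 (fun i => selfCheck Cfsg.Lie.chevF4 relF4.refl abF4 i) = true := by decide +kernel

theorem f4Pneg : allRange 0 16 (fun k => pairNegCheck Cfsg.Lie.chevF4 relF4.pair (k / 4) (k % 4)) = true := by decide +kernel

/-- The table checks for the presentation of type F4. -/
def stHypF4 : StHyp cdF4 relF4 where
  U := uhypF4
  B := bnF4
  sign := f4Sign
  theta := f4Theta
  cneg := of_pairRange (m := 48) (n := 48) f4Cneg
  ab := abF4
  self := fun i hi => allRange_spec f4Self i (Nat.zero_le i) hi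
  pneg := of_pairRange (m := 4) (n := 4) (fun k hk => allRange_spec f4Pneg k (Nat.zero_le k) hk)

end Cfsg.Agent.Lib.Helper3.ChevM
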