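import Cfsg.Agent.Lib.Helper3.ChevData.F4Datum
import Cfsg.Agent.Lib.Helper3.StB4
set_option autoImplicit false
set_option maxRecDepth 1000000
set_option Elab.async false

namespace Cfsg.Agent.Lib.Helper3.ChevM
open Cfsg.Agent.Lib.Helper3.StB

theorem f4Theta_0_0 : allRange 0 14 ((fun r => thetaCheck cdF4 r)) = true := by decide +kernel
theorem f4Theta_0_14 : allRange 14 28 ((fun r => thetaCheck cdF4 r)) = true := by decide +kernel
theorem f4Theta_0_28 : allRange 28 42 ((fun r => thetaCheck cdF4 r)) = true := by decide +kernel
theorem f4Theta_0_42 : allRange 42 48 ((fun r => thetaCheck cdF4 r)) = true := by decide +kernel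

/-- The permutation matrix exchanging opposite roots of type F4 conjugates root elements to root elements (roots 0 to 47). -/
theorem f4Theta_0 : ∀ r, 0 ≤ r → r < 48 → ((fun r => thetaCheck cdF4 r)) r = true := by
  intro r h1 h2
  by_cases c0 : r < 14
  · exact allRange_spec f4Theta_0_0 r (by omega) c0
  by_cases c1 : r < 28
  · exact allRange_spec f4Theta_0_14 r (by omega) c1
  by_cases c2 : r < 42
  · exact allRange_spec f4Theta_0_28 r (by omega) c2
  exact allRange_spec f4Theta_0_42 r (by omega) h2

end Cfsg.Agent.Lib.Helper3.ChevM
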