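import Cfsg.Agent.Lib.Helper3.ChevGen2c
import Cfsg.Agent.Lib.Helper3.ChevData.F4Mono
import Cfsg.Agent.Lib.Helper3.ChevData.F4Hdec
import Cfsg.Agent.Lib.Helper3.ChevData.F4CommData
set_option autoImplicit false
set_option maxRecDepth 1000000
open Cfsg Cfsg.Lie

/-! Two generators for the Chevalley group of type F4: the data of the derivation. -/

namespace Cfsg.Agent.Lib.Helper3.ChevM

/-- The parameters of the derivation for type F4. -/
def tgParF4 : TGParams where
  l := [0, 1, 2, 3]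
  s := 0
  lam := fun i => ([0, 0, 1, 1] : List ℤ).getD i 0
  P := [(3, 31)]
  two := false

/-- The steps of the derivation for type F4. -/
def tgStepsF4 : List TGStep := [
  .tor 11, .orb 11, .orb 33, .orbInv 19, .sum 11 19 8 (1), .sum 11 33 18 (-1), .sum 27 33 34 (1), .orb 27,
  .orb 34, .orb 35, .orb 37, .orb 38, .orb 44, .orbInv 7, .orbInv 9, .orbInv 12,
  .orbInv 20, .sum 9 12 3 (-1), .sum 12 20 10 (1), .sum 12 28 14 (1), .sum 14 20 13 (1), .sum 20 40 39 (1), .sum 20 38 36 (1), .sum 36 14 29 (1),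
  .split 3 31, .orb 31, .orbInv 43, .tor 43, .tor 25, .orb 25, .orb 43, .orbInv 30,
  .orbInv 42, .sum 24 25 26 (1), .sum 25 31 32 (1), .sum 30 42 45 (-1), .sum 30 43 46 (-1), .sum 31 43 47 (-1), .orb 24, .orb 26,
  .orbInv 23, .orbInv 41, .orb 5, .orb 6, .orb 17, .orbInv 21, .orbInv 22, .sum 2 22 1 (1),
  .sum 2 21 0 (1), .sum 2 41 16 (-1), .sum 16 22 15 (1)]

theorem tgOKF4 : tgOK cdF4.D relF4.refl tgParF4 tgStepsF4 ⟨[11], [], true⟩ = true := by
  decide +kernel

theorem two_gen_F4 {F : Type*} [Field F] [Finite F] :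
    ∃ a b : ↥(Cfsg.Lie.chevF4.group F), Subgroup.closure ({a, b} : Set ↥(Cfsg.Lie.chevF4.group F)) = ⊤ :=
  two_gen_B (C := cdF4) monoF4 commF4 (of_pairRange (m := 48) (n := 48) f4Hdec) tgParF4 3 31 11 5 (-1)
    (by decide) (by decide) (by decide) (by decide) (by decide +kernel) (by decide +kernel) (by decide +kernel)
    rfl rfl (by decide +kernel) tgStepsF4 tgOKF4

end Cfsg.Agent.Lib.Helper3.ChevM
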