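import Cfsg.Prelude.Def_ChevF4
import Cfsg.Agent.Lib.Helper3.ChevData.F4Tabs
import Cfsg.Agent.Lib.Helper3.ChevData.F4Wit
import Cfsg.Agent.Lib.Helper3.ChevData.F4Ubw
import Cfsg.Agent.Lib.Helper3.StU10
set_option autoImplicit false
set_option maxRecDepth 1000000
set_option Elab.async false

namespace Cfsg.Agent.Lib.Helper3.ChevM
open Cfsg.Agent.Lib.Helper3.StB Cfsg.Agent.Lib.Helper3.StU

theorem f4Ubase_0_0 : allRange 0 2000 ((fun k => baseOK Cfsg.Lie.chevF4 reflF4 witF4 bwF4 (k / 48) (k % 48))) = true := by decide +kernel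
theorem f4Ubase_0_2000 : allRange 2000 2304 ((fun k => baseOK Cfsg.Lie.chevF4 reflF4 witF4 bwF4 (k / 48) (k % 48))) = true := by decide +kernel

/-- The pairs of roots of type F4 not reduced by a fundamental reflection (roots 0 to 2303). -/
theorem f4Ubase_0 : ∀ r, 0 ≤ r → r < 2304 → ((fun k => baseOK Cfsg.Lie.chevF4 reflF4 witF4 bwF4 (k / 48) (k % 48))) r = true := by
  intro r h1 h2
  by_cases c0 : r < 2000
  · exact allRange_spec f4Ubase_0_0 r (by omega) c0
  exact allRange_spec f4Ubase_0_2000 r (by omega) h2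

end Cfsg.Agent.Lib.Helper3.ChevM
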