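import Cfsg.Prelude.Def_ChevF4
set_option autoImplicit false
set_option maxRecDepth 1000000

namespace Cfsg.Agent.Lib.Helper3.ChevM

/-- Position of the positive roots of type F4 in an order compatible with heights. -/
def hposF4 (r : ℕ) : ℕ := (#[0, 0, 0, 0, 0, 0, 0, 0, 0, 0, 0, 0, 0, 0, 0, 0, 0, 0, 0, 0, 0, 0, 0, 0, 0, 1, 4, 2, 5, 7, 8, 10, 13, 3, 6, 9, 11, 12, 14, 16, 18, 15, 17, 19, 20, 21, 22, 23] : Array ℕ).getD r 0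

/-- Level of the coordinates of type F4. -/
def hfF4 (c : ℕ) : ℕ := (#[1306, 1306, 1306, 1306, 0, 1, 9, 73, 137, 145, 146, 585, 649, 657, 658, 721, 722, 730, 794, 1161, 1169, 1170, 1233, 1234, 1242, 1297, 1298, 1305, 1307, 1314, 1315, 1370, 1378, 1379, 1442, 1443, 1451, 1818, 1882, 1890, 1891, 1954, 1955, 1963, 2027, 2466, 2467, 2475, 2539, 2603, 2611, 2612] : Array ℕ).getD c 0

/-- Level of the positive roots of type F4. -/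
def frF4 (r : ℕ) : ℕ := (#[0, 0, 0, 0, 0, 0, 0, 0, 0, 0, 0, 0, 0, 0, 0, 0, 0, 0, 0, 0, 0, 0, 0, 0, 1, 8, 9, 64, 72, 73, 136, 137, 145, 512, 576, 584, 585, 648, 649, 657, 721, 1160, 1161, 1169, 1233, 1297, 1305, 1306] : Array ℕ).getD r 0

/-- Column of the witness entry. -/
def wjF4 (r : ℕ) : ℕ := (#[0, 0, 0, 0, 0, 0, 0, 0, 0, 0, 0, 0, 0, 0, 0, 0, 0, 0, 0, 0, 0, 0, 0, 0, 2, 3, 2, 0, 0, 0, 3, 2, 2, 1, 0, 0, 0, 1, 1, 1, 0, 3, 2, 2, 0, 2, 2, 3] : Array ℕ).getD r 0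

/-- Row of the witness entry. -/
def wiF4 (r : ℕ) : ℕ := (#[0, 0, 0, 0, 0, 0, 0, 0, 0, 0, 0, 0, 0, 0, 0, 0, 0, 0, 0, 0, 0, 0, 0, 0, 28, 29, 30, 31, 32, 33, 34, 35, 36, 37, 38, 39, 40, 41, 42, 43, 44, 45, 46, 47, 48, 49, 50, 51] : Array ℕ).getD r 0

end Cfsg.Agent.Lib.Helper3.ChevM
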