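import Cfsg.Prelude.Def_ChevF4
import Cfsg.Agent.Lib.Helper3.ChevData.F4Uni
import Cfsg.Agent.Lib.Helper3.ChevU3
set_option autoImplicit false
set_option maxRecDepth 1000000
set_option Elab.async false

namespace Cfsg.Agent.Lib.Helper3.ChevM

theorem f4Ucol_0_0 : allRange 0 2304 ((fun k => collectCheck Cfsg.Lie.chevF4 hposF4 (k / 48) (k % 48))) = true := by decide +kernel

/-- The terms of the commutator formula of type F4 lie higher (roots 0 to 2303). -/
theorem f4Ucol_0 : ∀ r, 0 ≤ r → r < 2304 → ((fun k => collectCheck Cfsg.Lie.chevF4 hposF4 (k / 48) (k % 48))) r = true := by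
  intro r h1 h2
  exact allRange_spec f4Ucol_0_0 r (by omega) h2

end Cfsg.Agent.Lib.Helper3.ChevM
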