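import Cfsg.Prelude.Def_ChevF4
import Cfsg.Agent.Lib.Helper3.ChevData.F4Uni
import Cfsg.Agent.Lib.Helper3.StU10
set_option autoImplicit false
set_option maxRecDepth 1000000
set_option Elab.async false

namespace Cfsg.Agent.Lib.Helper3.ChevM
open Cfsg.Agent.Lib.Helper3.StB Cfsg.Agent.Lib.Helper3.StU

theorem f4Ucolb_0_0 : allRange 0 277 ((fun k => col2OK Cfsg.Lie.chevF4 hposF4 (k / 48) (k % 48))) = true := by decide +kernel
theorem f4Ucolb_0_277 : allRange 277 554 ((fun k => col2OK Cfsg.Lie.chevF4 hposF4 (k / 48) (k % 48))) = true := by decide +kernel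
theorem f4Ucolb_0_554 : allRange 554 831 ((fun k => col2OK Cfsg.Lie.chevF4 hposF4 (k / 48) (k % 48))) = true := by decide +kernel
theorem f4Ucolb_0_831 : allRange 831 1108 ((fun k => col2OK Cfsg.Lie.chevF4 hposF4 (k / 48) (k % 48))) = true := by decide +kernel
theorem f4Ucolb_0_1108 : allRange 1108 1385 ((fun k => col2OK Cfsg.Lie.chevF4 hposF4 (k / 48) (k % 48))) = true := by decide +kernel
theorem f4Ucolb_0_1385 : allRange 1385 1662 ((fun k => col2OK Cfsg.Lie.chevF4 hposF4 (k / 48) (k % 48))) = true := by decide +kernel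
theorem f4Ucolb_0_1662 : allRange 1662 1939 ((fun k => col2OK Cfsg.Lie.chevF4 hposF4 (k / 48) (k % 48))) = true := by decide +kernel
theorem f4Ucolb_0_1939 : allRange 1939 2216 ((fun k => col2OK Cfsg.Lie.chevF4 hposF4 (k / 48) (k % 48))) = true := by decide +kernel
theorem f4Ucolb_0_2216 : allRange 2216 2304 ((fun k => col2OK Cfsg.Lie.chevF4 hposF4 (k / 48) (k % 48))) = true := by decide +kernel

/-- The terms of the commutator formula of type F4 lie higher than the second root (roots 0 to 2303). -/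
theorem f4Ucolb_0 : ∀ r, 0 ≤ r → r < 2304 → ((fun k => col2OK Cfsg.Lie.chevF4 hposF4 (k / 48) (k % 48))) r = true := by
  intro r h1 h2
  by_cases c0 : r < 277
  · exact allRange_spec f4Ucolb_0_0 r (by omega) c0
  by_cases c1 : r < 554
  · exact allRange_spec f4Ucolb_0_277 r (by omega) c1
  by_cases c2 : r < 831
  · exact allRange_spec f4Ucolb_0_554 r (by omega) c2
  by_cases c3 : r < 1108
  · exact allRange_spec f4Ucolb_0_831 r (by omega) c3
  by_cases c4 : r < 1385
  · exact allRange_spec f4Ucolb_0_1108 r (by omega) c4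
  by_cases c5 : r < 1662
  · exact allRange_spec f4Ucolb_0_1385 r (by omega) c5
  by_cases c6 : r < 1939
  · exact allRange_spec f4Ucolb_0_1662 r (by omega) c6
  by_cases c7 : r < 2216
  · exact allRange_spec f4Ucolb_0_1939 r (by omega) c7
  exact allRange_spec f4Ucolb_0_2216 r (by omega) h2

end Cfsg.Agent.Lib.Helper3.ChevM
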