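import Cfsg.Agent.Lib.Helper3.ChevData.F4UtexA
set_option autoImplicit false

namespace Cfsg.Agent.Lib.Helper3.ChevM
open Cfsg.Agent.Lib.Helper3.StB Cfsg.Agent.Lib.Helper3.StU

/-- Torus elements acting non-trivially on the root subgroups of type F4. -/
theorem f4Utex : ∀ r < 48, ((fun r => torExOK Cfsg.Lie.chevF4 r)) r = true := by
  intro r hr
  exact f4Utex_0 r (by omega) hr

end Cfsg.Agent.Lib.Helper3.ChevM
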