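import Cfsg.Agent.Lib.Helper3.ChevData.F4VsepcA
set_option autoImplicit false

namespace Cfsg.Agent.Lib.Helper3.ChevM
open Cfsg.Agent.Lib.Helper3.StB Cfsg.Agent.Lib.Helper3.StU Cfsg.Agent.Lib.Helper3.StV

/-- Torus elements of order 3 separating the pairs of positive roots of type F4. -/
theorem f4Vsepc : ∀ r < 2304, ((fun k => posSepOK 3 Cfsg.Lie.chevF4 (k / 48) (k % 48))) r = true := by
  intro r hr
  exact f4Vsepc_0 r (by omega) hr

end Cfsg.Agent.Lib.Helper3.ChevM
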