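import Cfsg.Agent.Lib.Helper3.ChevData.F4Univ
import Cfsg.Agent.Lib.Helper3.ChevData.F4Vself
import Cfsg.Agent.Lib.Helper3.ChevData.F4Vtexc
import Cfsg.Agent.Lib.Helper3.ChevData.F4Vsepc
import Cfsg.Agent.Lib.Helper3.ChevData.F4Vtexb
import Cfsg.Agent.Lib.Helper3.ChevData.F4Vorth
set_option autoImplicit false
set_option maxRecDepth 1000000

namespace Cfsg.Agent.Lib.Helper3.ChevM
open Cfsg.Agent.Lib.Helper3.StB Cfsg.Agent.Lib.Helper3.StU Cfsg.Agent.Lib.Helper3.StV

/-- The table checks for the splitting of the central extensions of the Steinberg group of type F4 over the field with four elements. -/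
def sepHypCF4 : SepHyp 3 2 cdF4 relF4 where
  H := univHypF4
  self := f4Vself
  torEx := f4Vtexc
  sep := of_pairRange (m := 48) (n := 48) f4Vsepc

/-- The table checks for the splitting of the central extensions of the Steinberg group of type F4 over the field with three elements. -/
def orthHypF4 : OrthHyp cdF4 relF4 where
  H := univHypF4
  torEx := f4Vtexb
  wit := witVF4
  sep := of_pairRange (m := 48) (n := 48) f4Vorth

end Cfsg.Agent.Lib.Helper3.ChevM
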