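import Mathlib
set_option autoImplicit false

namespace Cfsg.Agent.Lib.Helper3.ChevM

/-- Decompositions for the pairs of orthogonal positive roots of type F4 not separated by torus elements of order 2. -/
def witVF4 (r s : ℕ) : ℕ × ℕ × ℕ × ℕ :=
  if r = 24 ∧ s = 32 then (6, 42, 47, 1) else
  if r = 24 ∧ s = 43 then (17, 31, 47, 1) else
  if r = 24 ∧ s = 45 then (22, 26, 47, 1) else
  if r = 25 ∧ s = 30 then (5, 43, 46, 2) else
  if r = 25 ∧ s = 41 then (16, 32, 46, 2) else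
  if r = 25 ∧ s = 47 then (26, 23, 46, 2) else
  if r = 26 ∧ s = 31 then (6, 43, 47, 2) else
  if r = 26 ∧ s = 42 then (17, 32, 47, 2) else
  if r = 26 ∧ s = 46 then (25, 24, 47, 2) else
  if r = 30 ∧ s = 25 then (5, 45, 46, 4) else
  if r = 30 ∧ s = 41 then (21, 32, 46, 4) else
  if r = 30 ∧ s = 47 then (31, 23, 46, 4) else
  if r = 31 ∧ s = 26 then (6, 45, 47, 4) else
  if r = 31 ∧ s = 42 then (22, 32, 47, 4) else
  if r = 31 ∧ s = 46 then (30, 24, 47, 4) else
  if r = 32 ∧ s = 24 then (6, 46, 47, 5) else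
  if r = 32 ∧ s = 43 then (25, 31, 47, 5) else
  if r = 32 ∧ s = 45 then (30, 26, 47, 5) else
  if r = 41 ∧ s = 25 then (16, 45, 46, 15) else
  if r = 41 ∧ s = 30 then (21, 43, 46, 15) else
  if r = 41 ∧ s = 47 then (42, 23, 46, 15) else
  if r = 42 ∧ s = 26 then (17, 45, 47, 15) else
  if r = 42 ∧ s = 31 then (22, 43, 47, 15) else
  if r = 42 ∧ s = 46 then (41, 24, 47, 15) else
  if r = 43 ∧ s = 24 then (17, 46, 47, 16) else
  if r = 43 ∧ s = 32 then (25, 42, 47, 16) else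
  if r = 43 ∧ s = 45 then (41, 26, 47, 16) else
  if r = 45 ∧ s = 24 then (22, 46, 47, 21) else
  if r = 45 ∧ s = 32 then (30, 42, 47, 21) else
  if r = 45 ∧ s = 43 then (41, 31, 47, 21) else
  if r = 46 ∧ s = 26 then (25, 45, 47, 23) else
  if r = 46 ∧ s = 31 then (30, 43, 47, 23) else
  if r = 46 ∧ s = 42 then (41, 32, 47, 23) else
  if r = 47 ∧ s = 25 then (26, 45, 46, 24) else
  if r = 47 ∧ s = 30 then (31, 43, 46, 24) else
  if r = 47 ∧ s = 41 then (42, 32, 46, 24) else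
  (0, 0, 0, 0)

end Cfsg.Agent.Lib.Helper3.ChevM
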