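import Cfsg.Prelude.Def_ChevF4
import Cfsg.Agent.Lib.Helper3.StV11
set_option autoImplicit false
set_option maxRecDepth 1000000
set_option Elab.async false

namespace Cfsg.Agent.Lib.Helper3.ChevM
open Cfsg.Agent.Lib.Helper3.StB Cfsg.Agent.Lib.Helper3.StU Cfsg.Agent.Lib.Helper3.StV

theorem f4Vsepc_0_0 : allRange 0 1000 ((fun k => posSepOK 3 Cfsg.Lie.chevF4 (k / 48) (k % 48))) = true := by decide +kernel
theorem f4Vsepc_0_1000 : allRange 1000 2000 ((fun k => posSepOK 3 Cfsg.Lie.chevF4 (k / 48) (k % 48))) = true := by decide +kernel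
theorem f4Vsepc_0_2000 : allRange 2000 2304 ((fun k => posSepOK 3 Cfsg.Lie.chevF4 (k / 48) (k % 48))) = true := by decide +kernel

/-- Torus elements of order 3 separating the pairs of positive roots of type F4 (roots 0 to 2303). -/
theorem f4Vsepc_0 : ∀ r, 0 ≤ r → r < 2304 → ((fun k => posSepOK 3 Cfsg.Lie.chevF4 (k / 48) (k % 48))) r = true := by
  intro r h1 h2
  by_cases c0 : r < 1000
  · exact allRange_spec f4Vsepc_0_0 r (by omega) c0
  by_cases c1 : r < 2000
  · exact allRange_spec f4Vsepc_0_1000 r (by omega) c1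
  exact allRange_spec f4Vsepc_0_2000 r (by omega) h2

end Cfsg.Agent.Lib.Helper3.ChevM
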