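import Cfsg.Agent.Lib.Helper3.ChevData.F4WtA
import Cfsg.Agent.Lib.Helper3.ChevData.F4WtB
set_option autoImplicit false

namespace Cfsg.Agent.Lib.Helper3.ChevM

/-- The entries of the root elements of type F4 raise the weights. -/
theorem f4Wt : ∀ r < 48, (fun r => wtCheck cdF4 vecF4 r) r = true := by
  intro r hr
  by_cases h0 : r < 24
  · exact f4Wt_0 r (by omega) h0
  exact f4Wt_1 r (by omega) hr

end Cfsg.Agent.Lib.Helper3.ChevM
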