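import Cfsg.Agent.Lib.Helper3.ChevData.G2ColsA
set_option autoImplicit false

namespace Cfsg.Agent.Lib.Helper3.ChevM

/-- Compiled columns of the root elements of type G2. -/
def colsG2 (r c : ℕ) : List CEnt :=
  cond (Nat.blt r 6) (cond (Nat.blt r 3) (cond (Nat.blt r 1) (cond (Nat.beq r 0) (colsG2_0 c) []) (cond (Nat.blt r 2) (cond (Nat.beq r 1) (colsG2_1 c) []) (cond (Nat.beq r 2) (colsG2_2 c) []))) (cond (Nat.blt r 4) (cond (Nat.beq r 3) (colsG2_3 c) []) (cond (Nat.blt r 5) (cond (Nat.beq r 4) (colsG2_4 c) []) (cond (Nat.beq r 5) (colsG2_5 c) [])))) (cond (Nat.blt r 9) (cond (Nat.blt r 7) (cond (Nat.beq r 6) (colsG2_6 c) []) (cond (Nat.blt r 8) (cond (Nat.beq r 7) (colsG2_7 c) []) (cond (Nat.beq r 8) (colsG2_8 c) []))) (cond (Nat.blt r 10) (cond (Nat.beq r 9) (colsG2_9 c) []) (cond (Nat.blt r 11) (cond (Nat.beq r 10) (colsG2_10 c) []) (cond (Nat.beq r 11) (colsG2_11 c) []))))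

end Cfsg.Agent.Lib.Helper3.ChevM
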