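import Cfsg.Agent.Lib.Helper3.ChevM2
set_option autoImplicit false
set_option maxRecDepth 100000

namespace Cfsg.Agent.Lib.Helper3.ChevM

/-- Compiled columns of `x_0` for type G2. -/
def colsG2_0 (c : ℕ) : List CEnt :=
  cond (Nat.blt c 10) (cond (Nat.blt c 1) (cond (Nat.beq c 0) [⟨2, 0, 1⟩] []) (cond (Nat.blt c 8) (cond (Nat.beq c 1) [⟨2, 1, 1⟩] []) (cond (Nat.beq c 8) [⟨3, 1, 1⟩] []))) (cond (Nat.blt c 12) (cond (Nat.blt c 11) (cond (Nat.beq c 10) [⟨4, 1, 1⟩] []) (cond (Nat.beq c 11) [⟨5, -1, 1⟩] [])) (cond (Nat.blt c 13) (cond (Nat.beq c 12) [⟨7, -1, 1⟩] []) (cond (Nat.beq c 13) [⟨2, -1, 2⟩, ⟨0, -1, 1⟩, ⟨1, -2, 1⟩] [])))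

/-- Compiled columns of `x_1` for type G2. -/
def colsG2_1 (c : ℕ) : List CEnt :=
  cond (Nat.blt c 9) (cond (Nat.blt c 1) (cond (Nat.beq c 0) [⟨3, 3, 1⟩] []) (cond (Nat.blt c 7) (cond (Nat.beq c 1) [⟨3, -1, 1⟩] []) (cond (Nat.beq c 7) [⟨2, 1, 1⟩] []))) (cond (Nat.blt c 12) (cond (Nat.blt c 11) (cond (Nat.beq c 9) [⟨4, 1, 1⟩] []) (cond (Nat.beq c 11) [⟨6, -1, 1⟩] [])) (cond (Nat.blt c 13) (cond (Nat.beq c 12) [⟨3, -1, 2⟩, ⟨0, -1, 1⟩, ⟨1, -1, 1⟩] []) (cond (Nat.beq c 13) [⟨8, -1, 1⟩] [])))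

/-- Compiled columns of `x_2` for type G2. -/
def colsG2_2 (c : ℕ) : List CEnt :=
  cond (Nat.blt c 9) (cond (Nat.blt c 5) (cond (Nat.blt c 1) (cond (Nat.beq c 0) [⟨4, 1, 1⟩] []) (cond (Nat.beq c 1) [⟨4, 0, 1⟩] [])) (cond (Nat.blt c 6) (cond (Nat.beq c 5) [⟨2, 3, 1⟩] []) (cond (Nat.beq c 6) [⟨3, 3, 1⟩] []))) (cond (Nat.blt c 11) (cond (Nat.blt c 10) (cond (Nat.beq c 9) [⟨5, -2, 1⟩, ⟨2, -3, 2⟩] []) (cond (Nat.beq c 10) [⟨6, 2, 1⟩, ⟨3, 3, 2⟩] [])) (cond (Nat.blt c 12) (cond (Nat.beq c 11) [⟨4, -1, 2⟩, ⟨0, -2, 1⟩, ⟨1, -3, 1⟩] []) (cond (Nat.blt c 13) (cond (Nat.beq c 12) [⟨9, -1, 1⟩, ⟨5, 1, 2⟩, ⟨2, 1, 3⟩] []) (cond (Nat.beq c 13) [⟨10, -1, 1⟩, ⟨6, -1, 2⟩, ⟨3, -1, 3⟩] []))))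

/-- Compiled columns of `x_3` for type G2. -/
def colsG2_3 (c : ℕ) : List CEnt :=
  cond (Nat.blt c 8) (cond (Nat.blt c 4) (cond (Nat.blt c 1) (cond (Nat.beq c 0) [⟨5, -1, 1⟩] []) (cond (Nat.beq c 1) [⟨5, 1, 1⟩] [])) (cond (Nat.blt c 6) (cond (Nat.beq c 4) [⟨2, -3, 1⟩] []) (cond (Nat.beq c 6) [⟨4, -2, 1⟩, ⟨2, 3, 2⟩] []))) (cond (Nat.blt c 10) (cond (Nat.blt c 9) (cond (Nat.beq c 8) [⟨6, 1, 1⟩, ⟨4, -1, 2⟩, ⟨2, 1, 3⟩] []) (cond (Nat.beq c 9) [⟨7, -3, 1⟩] [])) (cond (Nat.blt c 11) (cond (Nat.beq c 10) [⟨5, -1, 2⟩, ⟨0, -1, 1⟩, ⟨1, -3, 1⟩] []) (cond (Nat.blt c 13) (cond (Nat.beq c 11) [⟨9, 2, 1⟩, ⟨7, -3, 2⟩] []) (cond (Nat.beq c 13) [⟨11, 1, 1⟩, ⟨9, 1, 2⟩, ⟨7, -1, 3⟩] []))))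

/-- Compiled columns of `x_4` for type G2. -/
def colsG2_4 (c : ℕ) : List CEnt :=
  cond (Nat.blt c 7) (cond (Nat.blt c 4) (cond (Nat.blt c 1) (cond (Nat.beq c 0) [⟨6, 2, 1⟩] []) (cond (Nat.beq c 1) [⟨6, -1, 1⟩] [])) (cond (Nat.blt c 5) (cond (Nat.beq c 4) [⟨3, -3, 1⟩] []) (cond (Nat.beq c 5) [⟨4, 2, 1⟩, ⟨3, -3, 2⟩] []))) (cond (Nat.blt c 10) (cond (Nat.blt c 9) (cond (Nat.beq c 7) [⟨5, 1, 1⟩, ⟨4, 1, 2⟩, ⟨3, -1, 3⟩] []) (cond (Nat.beq c 9) [⟨6, -1, 2⟩, ⟨0, -1, 1⟩, ⟨1, 0, 1⟩] [])) (cond (Nat.blt c 11) (cond (Nat.beq c 10) [⟨8, -3, 1⟩] []) (cond (Nat.blt c 12) (cond (Nat.beq c 11) [⟨10, -2, 1⟩, ⟨8, 3, 2⟩] []) (cond (Nat.beq c 12) [⟨11, 1, 1⟩, ⟨10, -1, 2⟩, ⟨8, 1, 3⟩] []))))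

/-- Compiled columns of `x_5` for type G2. -/
def colsG2_5 (c : ℕ) : List CEnt :=
  cond (Nat.blt c 6) (cond (Nat.blt c 1) (cond (Nat.beq c 0) [⟨7, -3, 1⟩] []) (cond (Nat.blt c 3) (cond (Nat.beq c 1) [⟨7, 2, 1⟩] []) (cond (Nat.beq c 3) [⟨2, -1, 1⟩] []))) (cond (Nat.blt c 10) (cond (Nat.blt c 8) (cond (Nat.beq c 6) [⟨5, -1, 1⟩] []) (cond (Nat.beq c 8) [⟨7, -1, 2⟩, ⟨0, 0, 1⟩, ⟨1, -1, 1⟩] [])) (cond (Nat.blt c 13) (cond (Nat.beq c 10) [⟨9, 1, 1⟩] []) (cond (Nat.beq c 13) [⟨12, 1, 1⟩] [])))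

/-- Compiled columns of `x_6` for type G2. -/
def colsG2_6 (c : ℕ) : List CEnt :=
  cond (Nat.blt c 5) (cond (Nat.blt c 1) (cond (Nat.beq c 0) [⟨8, 3, 1⟩] []) (cond (Nat.blt c 2) (cond (Nat.beq c 1) [⟨8, -2, 1⟩] []) (cond (Nat.beq c 2) [⟨3, -1, 1⟩] []))) (cond (Nat.blt c 9) (cond (Nat.blt c 7) (cond (Nat.beq c 5) [⟨6, -1, 1⟩] []) (cond (Nat.beq c 7) [⟨8, -1, 2⟩, ⟨0, 0, 1⟩, ⟨1, 1, 1⟩] [])) (cond (Nat.blt c 12) (cond (Nat.beq c 9) [⟨10, 1, 1⟩] []) (cond (Nat.beq c 12) [⟨13, 1, 1⟩] [])))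

/-- Compiled columns of `x_7` for type G2. -/
def colsG2_7 (c : ℕ) : List CEnt :=
  cond (Nat.blt c 5) (cond (Nat.blt c 3) (cond (Nat.blt c 1) (cond (Nat.beq c 0) [⟨9, -2, 1⟩] []) (cond (Nat.beq c 1) [⟨9, 1, 1⟩] [])) (cond (Nat.blt c 4) (cond (Nat.beq c 3) [⟨4, -1, 1⟩, ⟨5, -1, 2⟩, ⟨7, -1, 3⟩] []) (cond (Nat.beq c 4) [⟨5, 2, 1⟩, ⟨7, 3, 2⟩] []))) (cond (Nat.blt c 8) (cond (Nat.blt c 6) (cond (Nat.beq c 5) [⟨7, 3, 1⟩] []) (cond (Nat.beq c 6) [⟨9, -1, 2⟩, ⟨0, 1, 1⟩, ⟨1, 0, 1⟩] [])) (cond (Nat.blt c 10) (cond (Nat.beq c 8) [⟨10, -1, 1⟩, ⟨11, 1, 2⟩, ⟨12, 1, 3⟩] []) (cond (Nat.blt c 11) (cond (Nat.beq c 10) [⟨11, -2, 1⟩, ⟨12, -3, 2⟩] []) (cond (Nat.beq c 11) [⟨12, 3, 1⟩] []))))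

/-- Compiled columns of `x_8` for type G2. -/
def colsG2_8 (c : ℕ) : List CEnt :=
  cond (Nat.blt c 5) (cond (Nat.blt c 2) (cond (Nat.blt c 1) (cond (Nat.beq c 0) [⟨10, 1, 1⟩] []) (cond (Nat.beq c 1) [⟨10, -1, 1⟩] [])) (cond (Nat.blt c 4) (cond (Nat.beq c 2) [⟨4, -1, 1⟩, ⟨6, 1, 2⟩, ⟨8, 1, 3⟩] []) (cond (Nat.beq c 4) [⟨6, -2, 1⟩, ⟨8, -3, 2⟩] []))) (cond (Nat.blt c 7) (cond (Nat.blt c 6) (cond (Nat.beq c 5) [⟨10, -1, 2⟩, ⟨0, 1, 1⟩, ⟨1, 3, 1⟩] []) (cond (Nat.beq c 6) [⟨8, 3, 1⟩] [])) (cond (Nat.blt c 9) (cond (Nat.beq c 7) [⟨9, -1, 1⟩, ⟨11, -1, 2⟩, ⟨13, -1, 3⟩] []) (cond (Nat.blt c 11) (cond (Nat.beq c 9) [⟨11, 2, 1⟩, ⟨13, 3, 2⟩] []) (cond (Nat.beq c 11) [⟨13, 3, 1⟩] []))))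

/-- Compiled columns of `x_9` for type G2. -/
def colsG2_9 (c : ℕ) : List CEnt :=
  cond (Nat.blt c 4) (cond (Nat.blt c 2) (cond (Nat.blt c 1) (cond (Nat.beq c 0) [⟨11, -1, 1⟩] []) (cond (Nat.beq c 1) [⟨11, 0, 1⟩] [])) (cond (Nat.blt c 3) (cond (Nat.beq c 2) [⟨5, 1, 1⟩, ⟨9, -1, 2⟩, ⟨12, 1, 3⟩] []) (cond (Nat.beq c 3) [⟨6, 1, 1⟩, ⟨10, 1, 2⟩, ⟨13, -1, 3⟩] []))) (cond (Nat.blt c 6) (cond (Nat.blt c 5) (cond (Nat.beq c 4) [⟨11, -1, 2⟩, ⟨0, 2, 1⟩, ⟨1, 3, 1⟩] []) (cond (Nat.beq c 5) [⟨9, -2, 1⟩, ⟨12, 3, 2⟩] [])) (cond (Nat.blt c 9) (cond (Nat.beq c 6) [⟨10, 2, 1⟩, ⟨13, -3, 2⟩] []) (cond (Nat.blt c 10) (cond (Nat.beq c 9) [⟨12, -3, 1⟩] []) (cond (Nat.beq c 10) [⟨13, -3, 1⟩] []))))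

/-- Compiled columns of `x_10` for type G2. -/
def colsG2_10 (c : ℕ) : List CEnt :=
  cond (Nat.blt c 3) (cond (Nat.blt c 1) (cond (Nat.beq c 0) [⟨12, -3, 1⟩] []) (cond (Nat.blt c 2) (cond (Nat.beq c 1) [⟨12, 1, 1⟩] []) (cond (Nat.beq c 2) [⟨7, 1, 1⟩] []))) (cond (Nat.blt c 6) (cond (Nat.blt c 4) (cond (Nat.beq c 3) [⟨12, -1, 2⟩, ⟨0, 1, 1⟩, ⟨1, 1, 1⟩] []) (cond (Nat.beq c 4) [⟨9, 1, 1⟩] [])) (cond (Nat.blt c 8) (cond (Nat.beq c 6) [⟨11, -1, 1⟩] []) (cond (Nat.beq c 8) [⟨13, -1, 1⟩] [])))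

/-- Compiled columns of `x_11` for type G2. -/
def colsG2_11 (c : ℕ) : List CEnt :=
  cond (Nat.blt c 3) (cond (Nat.blt c 1) (cond (Nat.beq c 0) [⟨13, 0, 1⟩] []) (cond (Nat.blt c 2) (cond (Nat.beq c 1) [⟨13, -1, 1⟩] []) (cond (Nat.beq c 2) [⟨13, -1, 2⟩, ⟨0, 1, 1⟩, ⟨1, 2, 1⟩] []))) (cond (Nat.blt c 5) (cond (Nat.blt c 4) (cond (Nat.beq c 3) [⟨8, 1, 1⟩] []) (cond (Nat.beq c 4) [⟨10, 1, 1⟩] [])) (cond (Nat.blt c 7) (cond (Nat.beq c 5) [⟨11, -1, 1⟩] []) (cond (Nat.beq c 7) [⟨12, -1, 1⟩] [])))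

end Cfsg.Agent.Lib.Helper3.ChevM
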