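import Cfsg.Agent.Lib.Helper3.ChevM9
set_option autoImplicit false

namespace Cfsg.Agent.Lib.Helper3.ChevM

/-- Packed table of the fundamental reflections used to derive the commutator formula of type G2. -/
def witG2P (r : ℕ) : ℕ :=
  cond (Nat.blt r 6) (cond (Nat.blt r 3) (cond (Nat.blt r 1) (cond (Nat.beq r 0) 36352872681474 0) (cond (Nat.blt r 2) (cond (Nat.beq r 1) 2199023255584 0) (cond (Nat.beq r 2) 137438953984 0))) (cond (Nat.blt r 4) (cond (Nat.beq r 3) 18769293418769 0) (cond (Nat.blt r 5) (cond (Nat.beq r 4) 537001984 0) (cond (Nat.beq r 5) 18765016273169 0)))) (cond (Nat.blt r 9) (cond (Nat.blt r 7) (cond (Nat.beq r 6) 35651584 0) (cond (Nat.blt r 8) (cond (Nat.beq r 7) 18765266948369 0) (cond (Nat.beq r 8) 8589942784 0))) (cond (Nat.blt r 10) (cond (Nat.beq r 9) 36430215778849 0) (cond (Nat.blt r 11) (cond (Nat.beq r 10) 19864510075169 0) (cond (Nat.beq r 11) 37521373274114 0))))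

/-- The fundamental reflection used for the pair `(r, s)` (`≥ rank` for brute force) of type G2. -/
def witG2 (r s : ℕ) : ℕ := getField 4 15 (witG2P r) s

end Cfsg.Agent.Lib.Helper3.ChevM
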