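import Cfsg.Agent.Lib.Helper3.ChevData.G2Comm
set_option autoImplicit false

namespace Cfsg.Agent.Lib.Helper3.ChevM

/-- The commutator data of type G2. -/
def commG2 : CommData cdG2 relG2 where
  wit := witG2
  ok := of_pairRange (m := 12) (n := 12) g2Comm

end Cfsg.Agent.Lib.Helper3.ChevM
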