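import Cfsg.Agent.Lib.Helper3.ChevM5
set_option autoImplicit false

namespace Cfsg.Agent.Lib.Helper3.ChevM

/-- Packed table of the integers `⟨s, r^∨⟩ + 3` of type G2. -/
def pairG2P (r : ℕ) : ℕ :=
  cond (Nat.blt r 6) (cond (Nat.blt r 3) (cond (Nat.blt r 1) (cond (Nat.beq r 0) 11046369573 0) (cond (Nat.blt r 2) (cond (Nat.beq r 1) 18577704748 0) (cond (Nat.beq r 2) 172870006 0))) (cond (Nat.blt r 4) (cond (Nat.beq r 3) 3515034398 0) (cond (Nat.blt r 5) (cond (Nat.beq r 4) 26109039923 0) (cond (Nat.beq r 5) 21919869140 0)))) (cond (Nat.blt r 9) (cond (Nat.blt r 7) (cond (Nat.beq r 6) 36982539490 0) (cond (Nat.blt r 8) (cond (Nat.beq r 7) 32793368707 0) (cond (Nat.beq r 8) 55387374232 0))) (cond (Nat.blt r 10) (cond (Nat.beq r 9) 58729538624 0) (cond (Nat.blt r 11) (cond (Nat.beq r 10) 40324703882 0) (cond (Nat.beq r 11) 47856039057 0))))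

/-- The integer `⟨s, r^∨⟩` (the exponent of `h_r(c)` on `e_s`) of type G2. -/
def pairG2 (r s : ℕ) : ℤ := Int.ofNat (getField 3 7 (pairG2P r) s) - 3

/-- Packed table of the reflections in the fundamental roots of type G2. -/
def reflG2P (i : ℕ) : ℕ :=
  cond (Nat.blt i 1) (cond (Nat.beq i 0) 3411626608196089407097472256 0) (cond (Nat.beq i 1) 3108190913232640688152248321 0)

/-- The root `w_{p_i}(s)` of type G2. -/
def reflG2 (i s : ℕ) : ℕ := getField 8 255 (reflG2P i) s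

/-- Packed table of the signs `η_{p_i,s}` of type G2 (bit set for `-1`). -/
def etaG2P (i : ℕ) : ℕ :=
  cond (Nat.blt i 1) (cond (Nat.beq i 0) 1686 0) (cond (Nat.beq i 1) 2409 0)

/-- The sign `η_{p_i,s}` with `n_{p_i} e_s = η e_{w(s)}` of type G2. -/
def etaG2 (i s : ℕ) : ℤ := cond (Nat.beq (getField 1 1 (etaG2P i) s) 1) (-1) 1

end Cfsg.Agent.Lib.Helper3.ChevM
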