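import Cfsg.Agent.Lib.Helper3.Cox6
import Cfsg.Agent.Lib.Helper3.ChevData.G2Cox
set_option autoImplicit false
set_option maxRecDepth 1000000
open Cfsg Cfsg.Lie

namespace Cfsg.Agent.Lib.Helper3.ChevM

theorem g2CoxT1 : ∀ i < 2, ∀ s < 12, reflNegCheck cdG2.D relG2.refl i s = true := by
  decide +kernel

theorem g2CoxT2_0 : ((List.range 12).all fun r => (List.range 12).all fun s =>
    pairInvCheck relG2.pair relG2.refl 0 r s) = true := by
  decide +kernel

theorem g2CoxT2_1 : ((List.range 12).all fun r => (List.range 12).all fun s =>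
    pairInvCheck relG2.pair relG2.refl 1 r s) = true := by
  decide +kernel

theorem g2CoxT2 : ∀ i < 2, ∀ r < 12, ∀ s < 12, pairInvCheck relG2.pair relG2.refl i r s = true := by
  intro i hi
  interval_cases i
  · exact all_range2 _ _ g2CoxT2_0
  · exact all_range2 _ _ g2CoxT2_1

theorem g2CoxT3 : ∀ i < 2, ∀ j < 2, pairNegCheck cdG2.D relG2.pair i j = true := by
  decide +kernel

theorem g2CoxT4 : connCheck cdG2.D relG2.pair = true := by
  decide +kernel

theorem g2CoxNegW : negWordCheck cdG2.D relG2.refl (List.replicate 3 (List.range 2)).flatten = true := by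
  decide +kernel

end Cfsg.Agent.Lib.Helper3.ChevM
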