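import Cfsg.Prelude.Def_ChevG2
import Cfsg.Agent.Lib.Helper3.ChevData.G2Hd2
import Cfsg.Agent.Lib.Helper3.ChevL2
set_option autoImplicit false
set_option maxRecDepth 1000000
set_option Elab.async false

namespace Cfsg.Agent.Lib.Helper3.ChevM

theorem g2Cv_0_0 : allRange 0 12 (fun k => commVecCheck Cfsg.Lie.chevG2 vecG2 (k / 12) (k % 12)) = true := by decide +kernel
theorem g2Cv_0_12 : allRange 12 24 (fun k => commVecCheck Cfsg.Lie.chevG2 vecG2 (k / 12) (k % 12)) = true := by decide +kernel
theorem g2Cv_0_24 : allRange 24 36 (fun k => commVecCheck Cfsg.Lie.chevG2 vecG2 (k / 12) (k % 12)) = true := by decide +kernel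
theorem g2Cv_0_36 : allRange 36 48 (fun k => commVecCheck Cfsg.Lie.chevG2 vecG2 (k / 12) (k % 12)) = true := by decide +kernel
theorem g2Cv_0_48 : allRange 48 60 (fun k => commVecCheck Cfsg.Lie.chevG2 vecG2 (k / 12) (k % 12)) = true := by decide +kernel
theorem g2Cv_0_60 : allRange 60 72 (fun k => commVecCheck Cfsg.Lie.chevG2 vecG2 (k / 12) (k % 12)) = true := by decide +kernel

/-- The roots of the commutator formula of type G2 are the expected combinations (roots 0 to 71). -/
theorem g2Cv_0 : ∀ r, 0 ≤ r → r < 72 → (fun k => commVecCheck Cfsg.Lie.chevG2 vecG2 (k / 12) (k % 12)) r = true := by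
  intro r h1 h2
  by_cases c0 : r < 12
  · exact allRange_spec g2Cv_0_0 r (by omega) c0
  by_cases c1 : r < 24
  · exact allRange_spec g2Cv_0_12 r (by omega) c1
  by_cases c2 : r < 36
  · exact allRange_spec g2Cv_0_24 r (by omega) c2
  by_cases c3 : r < 48
  · exact allRange_spec g2Cv_0_36 r (by omega) c3
  by_cases c4 : r < 60
  · exact allRange_spec g2Cv_0_48 r (by omega) c4
  exact allRange_spec g2Cv_0_60 r (by omega) h2

end Cfsg.Agent.Lib.Helper3.ChevM
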