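import Cfsg.Agent.Lib.Helper3.ChevData.G2Datum
import Cfsg.Agent.Lib.Helper3.ChevData.G2Tabs
import Cfsg.Agent.Lib.Helper3.ChevM7
set_option autoImplicit false
set_option maxRecDepth 1000000
set_option Elab.async false

namespace Cfsg.Agent.Lib.Helper3.ChevM

theorem g2Dx_0_0 : allRange 0 24 ((fun k => cdG2.checkDX (cdG2.expo pairG2 (Cfsg.Lie.chevG2.simple (k / 12))) (pairG2 (Cfsg.Lie.chevG2.simple (k / 12)) (k % 12)) (k % 12))) = true := by decide +kernel

/-- Conjugation of root elements by the `h_p(c)` of type G2 (roots 0 to 23). -/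
theorem g2Dx_0 : ∀ r, 0 ≤ r → r < 24 → ((fun k => cdG2.checkDX (cdG2.expo pairG2 (Cfsg.Lie.chevG2.simple (k / 12))) (pairG2 (Cfsg.Lie.chevG2.simple (k / 12)) (k % 12)) (k % 12))) r = true := by
  intro r h1 h2
  exact allRange_spec g2Dx_0_0 r (by omega) h2

end Cfsg.Agent.Lib.Helper3.ChevM
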