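import Cfsg.Prelude.Def_ChevAutomorphisms
import Cfsg.Agent.Lib.Helper3.ChevGen1
import Cfsg.Agent.Lib.Helper3.ChevData.G2Mono
import Cfsg.Agent.Lib.Helper3.ChevData.G2Hdec
import Cfsg.Agent.Lib.Helper3.ChevData.G2CommData
set_option autoImplicit false
set_option maxRecDepth 1000000
open Cfsg Cfsg.Lie

namespace Cfsg.Agent.Lib.Helper3.ChevM

/-- For each root of type G2 conjugate to the first fundamental root, a word of fundamental reflections mapping that root to it. -/
def wt0G2 (r : ℕ) : List ℕ :=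
  (#[[], [], [0, 1, 0], [1, 0], [0], [], [], [], [1], [0, 1], [], []] : Array (List ℕ)).getD r []

/-- For each remaining root of type G2, two roots whose commutator it is, with the constant. -/
def abG2 (r : ℕ) : ℕ × ℕ × ℤ :=
  (#[(3, 2, -3), (4, 2, -3), (0, 0, 0), (0, 0, 0), (0, 0, 0), (7, 3, 3), (4, 8, -3), (0, 0, 0), (0, 0, 0), (0, 0, 0), (7, 9, 3), (8, 9, 3)] : Array (ℕ × ℕ × ℤ)).getD r (0, 0, 0)

/-- For each short fundamental root of type G2, a word mapping it to the first fundamental root. -/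
def wsG2 (i : ℕ) : List ℕ :=
  (#[[], []] : Array (List ℕ)).getD i []

theorem g2Gen2 : ∀ r < 12, gen2Check cdG2.D relG2.refl 7 3 wt0G2 abG2 r = true := by
  decide +kernel

theorem g2GenWs : ∀ i < 2, cdG2.D.isLong (cdG2.D.simple i) = false →
    ((wsG2 i).all fun j => decide (j < 2)) = true ∧ reflW relG2.refl (wsG2 i) (cdG2.D.simple i) = 7 := by
  decide +kernel

end Cfsg.Agent.Lib.Helper3.ChevM
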