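import Cfsg.Prelude.Def_ChevG2
import Cfsg.Agent.Lib.Helper3.ChevData.G2Tabs
import Cfsg.Agent.Lib.Helper3.ChevW2
set_option autoImplicit false
set_option maxRecDepth 1000000
set_option Elab.async false

namespace Cfsg.Agent.Lib.Helper3.ChevM

theorem g2NegRefl_0_0 : allRange 0 24 ((fun k => negReflCheck Cfsg.Lie.chevG2 reflG2 (k / 12) (k % 12))) = true := by decide +kernel

/-- The fundamental reflections of type G2 commute with the negation of roots (roots 0 to 23). -/
theorem g2NegRefl_0 : ∀ r, 0 ≤ r → r < 24 → ((fun k => negReflCheck Cfsg.Lie.chevG2 reflG2 (k / 12) (k % 12))) r = true := by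
  intro r h1 h2
  exact allRange_spec g2NegRefl_0_0 r (by omega) h2

end Cfsg.Agent.Lib.Helper3.ChevM
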