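import Cfsg.Agent.Lib.Helper3.ChevData.G2Datum
import Cfsg.Agent.Lib.Helper3.ChevG4
set_option autoImplicit false
set_option maxRecDepth 1000000
set_option Elab.async false

namespace Cfsg.Agent.Lib.Helper3.ChevM

theorem g2NegTri_0_0 : allRange 0 12 ((fun r => negTri cdG2 r)) = true := by decide +kernel

/-- Triangularity of the negative root elements of type G2 (roots 0 to 11). -/
theorem g2NegTri_0 : ∀ r, 0 ≤ r → r < 12 → ((fun r => negTri cdG2 r)) r = true := by
  intro r h1 h2
  exact allRange_spec g2NegTri_0_0 r (by omega) h2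

end Cfsg.Agent.Lib.Helper3.ChevM
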