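import Cfsg.Agent.Lib.Helper3.ChevData.G2OkA
set_option autoImplicit false

namespace Cfsg.Agent.Lib.Helper3.ChevM

/-- The compiled columns of type G2 agree with the tables. -/
theorem g2Ok : ∀ r < 12, (colsCheck Cfsg.Lie.chevG2 colsG2) r = true := by
  intro r hr
  exact g2Ok_0 r (by omega) hr

end Cfsg.Agent.Lib.Helper3.ChevM
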