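import Cfsg.Agent.Lib.Helper3.ChevData.G2Mono
import Cfsg.Agent.Lib.Helper3.ChevData.G2Hdec
import Cfsg.Agent.Lib.Helper3.ChevData.G2Sign
import Cfsg.Agent.Lib.Helper3.ChevData.G2Os0
import Cfsg.Agent.Lib.Helper3.ChevData.G2Or0
import Cfsg.Agent.Lib.Helper3.ChevData.G2Ot0
set_option autoImplicit false
set_option maxRecDepth 1000000

namespace Cfsg.Agent.Lib.Helper3.ChevM

theorem g2Od0 : distinctCheck Cfsg.Lie.chevG2 reflG2 dlG20 = true := by decide +kernel

theorem g2On0 : dlG20.map (Nw Cfsg.Lie.chevG2 reflG2) = [0, 1] := by decide +kernel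

/-- Step 0 of the factorisation of the Poincaré sum of type G2. -/
theorem g2Poin0 (q : ℕ) : poin cdG2.D relG2.refl (Set.Iio 1) q =
    ([0, 1].map fun e => q ^ e).sum * poin cdG2.D relG2.refl (Set.Iio 0) q := by
  have h := monoG2.poin_step (of_pairRange (m := 12) (n := 12) g2Hdec) g2Sign 0 g2Os0 dlG20 g2Or0 nxtG20
    (by decide +kernel) (of_pairRange (m := 2) (n := 1) g2Ot0) g2Od0 (by decide +kernel) q
  show poin cdG2.D relG2.refl (Set.Iio (0 + 1)) q = _
  have e : (dlG20.map fun d => q ^ Nw cdG2.D relG2.refl d) = (dlG20.map (Nw Cfsg.Lie.chevG2 reflG2)).map fun e => q ^ e := by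
    rw [List.map_map]; rfl
  rw [h, e, g2On0]

end Cfsg.Agent.Lib.Helper3.ChevM
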