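import Cfsg.Prelude.Def_ChevG2
import Cfsg.Agent.Lib.Helper3.ChevData.G2Tabs
import Cfsg.Agent.Lib.Helper3.ChevData.G2OrdTab
import Cfsg.Agent.Lib.Helper3.ChevO2
set_option autoImplicit false
set_option maxRecDepth 1000000
set_option Elab.async false

namespace Cfsg.Agent.Lib.Helper3.ChevM

theorem g2Ot0_0_0 : allRange 0 2 ((fun p => stepCheck Cfsg.Lie.chevG2 reflG2 0 dlG20 nxtG20 (p / 1) (p % 1))) = true := by decide +kernel

/-- Left multiplication of the representatives of step 0 of type G2 (roots 0 to 1). -/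
theorem g2Ot0_0 : ∀ r, 0 ≤ r → r < 2 → ((fun p => stepCheck Cfsg.Lie.chevG2 reflG2 0 dlG20 nxtG20 (p / 1) (p % 1))) r = true := by
  intro r h1 h2
  exact allRange_spec g2Ot0_0_0 r (by omega) h2

end Cfsg.Agent.Lib.Helper3.ChevM
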