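import Cfsg.Prelude.Def_ChevG2
set_option autoImplicit false
set_option maxRecDepth 1000000

namespace Cfsg.Agent.Lib.Helper3.ChevM

/-- Kind of certificate for `x_r(t)` being a commutator, type G2. -/
def ptagG2 (r : ℕ) : ℕ := (#[0, 0, 1, 1, 1, 0, 0, 1, 1, 1, 0, 0] : Array ℕ).getD r 0

/-- First root of the pair. -/
def psG2 (r : ℕ) : ℕ := (#[1, 0, 0, 0, 0, 0, 1, 0, 0, 0, 5, 6] : Array ℕ).getD r 0

/-- Second root of the pair. -/
def psqG2 (r : ℕ) : ℕ := (#[5, 6, 0, 0, 0, 10, 11, 0, 0, 0, 11, 10] : Array ℕ).getD r 0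

/-- Bezout coefficients. -/
def pmG2 (r i : ℕ) : ℤ := ((#[#[0, 0], #[0, 0], #[-1, -3], #[-2, -3], #[-2, -3], #[0, 0], #[0, 0], #[-1, -3], #[-3, -2], #[1, -3], #[0, 0], #[0, 0]] : Array (Array ℤ)).getD r #[]).getD i 0

end Cfsg.Agent.Lib.Helper3.ChevM
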