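import Cfsg.Agent.Lib.Helper3.ChevData.G2RvA
import Cfsg.Agent.Lib.Helper3.ChevData.G2RvB
set_option autoImplicit false

namespace Cfsg.Agent.Lib.Helper3.ChevM

/-- The fundamental reflections of type G2 change one coefficient. -/
theorem g2Rv : ∀ r < 24, (fun k => reflVecCheck Cfsg.Lie.chevG2 reflG2 vecG2 (k / 12) (k % 12)) r = true := by
  intro r hr
  by_cases h0 : r < 12
  · exact g2Rv_0 r (by omega) h0
  exact g2Rv_1 r (by omega) hr

end Cfsg.Agent.Lib.Helper3.ChevM
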