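import Cfsg.Agent.Lib.Helper3.ChevData.G2UHyp
import Cfsg.Agent.Lib.Helper3.ChevData.G2Bn
import Cfsg.Agent.Lib.Helper3.ChevData.G2Sign
import Cfsg.Agent.Lib.Helper3.ChevData.G2Theta
import Cfsg.Agent.Lib.Helper3.ChevData.G2Cneg
import Cfsg.Agent.Lib.Helper3.StB12
set_option autoImplicit false
set_option maxRecDepth 1000000

namespace Cfsg.Agent.Lib.Helper3.ChevM
open Cfsg.Agent.Lib.Helper3.StB

/-- Pairs of roots whose commutator formula contains the simple roots of type G2. -/
def abG2 (i : ℕ) : ℕ × ℕ := (#[(5, 8), (1, 11)] : Array (ℕ × ℕ)).getD i (0, 0)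

theorem g2Self : allRange 0 2 (fun i => selfCheck Cfsg.Lie.chevG2 relG2.refl abG2 i) = true := by decide +kernel

theorem g2Pneg : allRange 0 4 (fun k => pairNegCheck Cfsg.Lie.chevG2 relG2.pair (k / 2) (k % 2)) = true := by decide +kernel

/-- The table checks for the presentation of type G2. -/
def stHypG2 : StHyp cdG2 relG2 where
  U := uhypG2
  B := bnG2
  sign := g2Sign
  theta := g2Theta
  cneg := of_pairRange (m := 12) (n := 12) g2Cneg
  ab := abG2
  self := fun i hi => allRange_spec g2Self i (Nat.zero_le i) hi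
  pneg := of_pairRange (m := 2) (n := 2) (fun k hk => allRange_spec g2Pneg k (Nat.zero_le k) hk)

end Cfsg.Agent.Lib.Helper3.ChevM
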