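import Cfsg.Agent.Lib.Helper3.ChevGen2c
import Cfsg.Agent.Lib.Helper3.ChevData.G2Mono
import Cfsg.Agent.Lib.Helper3.ChevData.G2Hdec
import Cfsg.Agent.Lib.Helper3.ChevData.G2CommData
set_option autoImplicit false
set_option maxRecDepth 1000000
open Cfsg Cfsg.Lie

/-! Two generators for the Chevalley group of type G2: the data of the derivation. -/

namespace Cfsg.Agent.Lib.Helper3.ChevM

/-- The parameters of the derivation for type G2. -/
def tgParG2 : TGParams where
  l := [0, 1]
  s := 0
  lam := fun i => ([1, 1] : List ℤ).getD i 0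
  P := []
  two := true

/-- The steps of the derivation for type G2. -/
def tgStepsG2 : List TGStep := [
  .tor 0, .orb 0, .orb 5, .orbInv 1, .unlock, .orb 8, .orb 10, .orb 11,
  .orbInv 9, .tor 9, .tor 4, .orb 4, .orb 9, .orbInv 7, .orb 2]

theorem tgOKG2 : tgOK cdG2.D relG2.refl tgParG2 tgStepsG2 ⟨[8, 0], [], false⟩ = true := by
  decide +kernel

theorem two_gen_G2 {F : Type*} [Field F] [Finite F] (hF : ∃ x : F, x ≠ 0 ∧ x ≠ 1) :
    ∃ a b : ↥(Cfsg.Lie.chevG2.group F), Subgroup.closure ({a, b} : Set ↥(Cfsg.Lie.chevG2.group F)) = ⊤ :=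
  two_gen_C (C := cdG2) monoG2 commG2 (of_pairRange (m := 12) (n := 12) g2Hdec) hF tgParG2 8
    (by decide) (by decide) (by decide) (by decide +kernel) rfl (by decide +kernel) (by decide +kernel)
    tgStepsG2 tgOKG2

end Cfsg.Agent.Lib.Helper3.ChevM
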