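import Cfsg.Prelude.Def_ChevG2
import Cfsg.Agent.Lib.Helper3.ChevData.G2Tabs
import Cfsg.Agent.Lib.Helper3.ChevData.G2Wit
import Cfsg.Agent.Lib.Helper3.ChevData.G2Ubw
import Cfsg.Agent.Lib.Helper3.StU10
set_option autoImplicit false
set_option maxRecDepth 1000000
set_option Elab.async false

namespace Cfsg.Agent.Lib.Helper3.ChevM
open Cfsg.Agent.Lib.Helper3.StB Cfsg.Agent.Lib.Helper3.StU

theorem g2Ubase_0_0 : allRange 0 144 ((fun k => baseOK Cfsg.Lie.chevG2 reflG2 witG2 bwG2 (k / 12) (k % 12))) = true := by decide +kernel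

/-- The pairs of roots of type G2 not reduced by a fundamental reflection (roots 0 to 143). -/
theorem g2Ubase_0 : ∀ r, 0 ≤ r → r < 144 → ((fun k => baseOK Cfsg.Lie.chevG2 reflG2 witG2 bwG2 (k / 12) (k % 12))) r = true := by
  intro r h1 h2
  exact allRange_spec g2Ubase_0_0 r (by omega) h2

end Cfsg.Agent.Lib.Helper3.ChevM
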