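import Cfsg.Prelude.Def_ChevG2
set_option autoImplicit false
set_option maxRecDepth 1000000

namespace Cfsg.Agent.Lib.Helper3.ChevM

/-- Position of the positive roots of type G2 in an order compatible with heights. -/
def hposG2 (r : ℕ) : ℕ := (#[0, 0, 0, 0, 0, 0, 0, 1, 2, 3, 4, 5] : Array ℕ).getD r 0

/-- Level of the coordinates of type G2. -/
def hfG2 (c : ℕ) : ℕ := (#[26, 26, 0, 1, 9, 17, 18, 25, 27, 34, 35, 43, 51, 52] : Array ℕ).getD c 0

/-- Level of the positive roots of type G2. -/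
def frG2 (r : ℕ) : ℕ := (#[0, 0, 0, 0, 0, 0, 1, 8, 9, 17, 25, 26] : Array ℕ).getD r 0

/-- Column of the witness entry. -/
def wjG2 (r : ℕ) : ℕ := (#[0, 0, 0, 0, 0, 0, 2, 1, 0, 0, 1, 1] : Array ℕ).getD r 0

/-- Row of the witness entry. -/
def wiG2 (r : ℕ) : ℕ := (#[0, 0, 0, 0, 0, 0, 3, 9, 10, 11, 12, 13] : Array ℕ).getD r 0

end Cfsg.Agent.Lib.Helper3.ChevM
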