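import Cfsg.Agent.Lib.Helper3.ChevData.G2St
import Cfsg.Agent.Lib.Helper3.ChevData.G2Uself
import Cfsg.Agent.Lib.Helper3.ChevData.G2Utex
import Cfsg.Agent.Lib.Helper3.ChevData.G2Utor
import Cfsg.Agent.Lib.Helper3.ChevData.G2Ucolb
import Cfsg.Agent.Lib.Helper3.ChevData.G2Ubase
set_option autoImplicit false

namespace Cfsg.Agent.Lib.Helper3.ChevM
open Cfsg.Agent.Lib.Helper3.StB Cfsg.Agent.Lib.Helper3.StU

/-- The table checks for the splitting of the central extensions of the Steinberg group of type G2. -/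
def univHypG2 : UnivHyp cdG2 relG2 where
  Y := stHypG2
  self := g2Uself
  torEx := g2Utex
  tor := of_pairRange (m := 12) (n := 12) g2Utor
  col2 := of_pairRange (m := 12) (n := 12) g2Ucolb
  bw := bwG2
  base := of_pairRange (m := 12) (n := 12) g2Ubase

end Cfsg.Agent.Lib.Helper3.ChevM
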