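import Cfsg.Prelude.Def_ChevG2
import Cfsg.Agent.Lib.Helper3.ChevData.G2Hd2
import Cfsg.Agent.Lib.Helper3.ChevData.G2Datum
import Cfsg.Agent.Lib.Helper3.ChevL2
set_option autoImplicit false
set_option maxRecDepth 1000000
set_option Elab.async false

namespace Cfsg.Agent.Lib.Helper3.ChevM

theorem g2Wt_0_0 : allRange 0 3 (fun r => wtCheck cdG2 vecG2 r) = true := by decide +kernel
theorem g2Wt_0_3 : allRange 3 6 (fun r => wtCheck cdG2 vecG2 r) = true := by decide +kernel
theorem g2Wt_0_6 : allRange 6 9 (fun r => wtCheck cdG2 vecG2 r) = true := by decide +kernel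
theorem g2Wt_0_9 : allRange 9 12 (fun r => wtCheck cdG2 vecG2 r) = true := by decide +kernel

/-- The entries of the root elements of type G2 raise the weights (roots 0 to 11). -/
theorem g2Wt_0 : ∀ r, 0 ≤ r → r < 12 → (fun r => wtCheck cdG2 vecG2 r) r = true := by
  intro r h1 h2
  by_cases c0 : r < 3
  · exact allRange_spec g2Wt_0_0 r (by omega) c0
  by_cases c1 : r < 6
  · exact allRange_spec g2Wt_0_3 r (by omega) c1
  by_cases c2 : r < 9
  · exact allRange_spec g2Wt_0_6 r (by omega) c2
  exact allRange_spec g2Wt_0_9 r (by omega) h2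

end Cfsg.Agent.Lib.Helper3.ChevM
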